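import Mathlib

set_option linter.unusedSectionVars false
set_option linter.unusedVariables false

namespace Groth.Agent.Lib.helper27

open CategoryTheory Limits

universe v u

namespace Horseshoe

variable {C : Type u} [Category.{v} C] [Abelian C]

section LemmaR

variable (K : ℕ → C) (dK : ∀ n, K n ⟶ K (n + 1)) {Y : C} (ι : Y ⟶ K 0)

/-- the object mapping to `K n` : `Y` for `n = 0`, `K (n-1)` otherwise -/
def prevObj : ℕ → C
  | 0 => Y
  | n + 1 => K n

/-- the map into `K n` : `ι` for `n = 0`, `dK (n-1)` otherwise -/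
def prevMap : ∀ n, prevObj K (Y := Y) n ⟶ K n
  | 0 => ι
  | n + 1 => dK n

variable {K dK ι}

lemma prev_w (w0 : ι ≫ dK 0 = 0) (wK : ∀ n, dK n ≫ dK (n + 1) = 0) :
    ∀ n, prevMap K dK ι n ≫ dK n = 0
  | 0 => w0
  | n + 1 => wK n

lemma prev_ex (w0 : ι ≫ dK 0 = 0) (wK : ∀ n, dK n ≫ dK (n + 1) = 0)
    (ex0 : (ShortComplex.mk ι (dK 0) w0).Exact)
    (exS : ∀ n, (ShortComplex.mk (dK n) (dK (n + 1)) (wK n)).Exact) :
    ∀ n, (ShortComplex.mk (prevMap K dK ι n) (dK n) (prev_w w0 wK n)).Exact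
  | 0 => ex0
  | n + 1 => exS n

/-- Lifting lemma with error term: the basic inductive construction behind the horseshoe lemma
and the comparison of two resolutions of a short exact sequence. -/
theorem exists_lift_with_error [Mono ι]
    (w0 : ι ≫ dK 0 = 0) (wK : ∀ n, dK n ≫ dK (n + 1) = 0)
    (ex0 : (ShortComplex.mk ι (dK 0) w0).Exact)
    (exS : ∀ n, (ShortComplex.mk (dK n) (dK (n + 1)) (wK n)).Exact)
    (M : ℕ → C) [∀ n, Injective (M n)] (dM : ∀ n, M n ⟶ M (n + 1))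
    (wM : ∀ n, dM n ≫ dM (n + 1) = 0)
    (ψ : ∀ n, K n ⟶ M (n + 1)) (hψ : ∀ n, dK n ≫ ψ (n + 1) + ψ n ≫ dM (n + 1) = 0)
    (k : Y ⟶ M 0) (hk : ι ≫ ψ 0 + k ≫ dM 0 = 0) :
    ∃ h : ∀ n, K n ⟶ M n, ι ≫ h 0 = k ∧ ∀ n, dK n ≫ h (n + 1) = h n ≫ dM n + ψ n := by
  let P : ∀ n, (K n ⟶ M n) → Prop := fun n h => prevMap K dK ι n ≫ (h ≫ dM n + ψ n) = 0
  have hex := prev_ex w0 wK ex0 exS
  let step : ∀ n, {h : K n ⟶ M n // P n h} → {h : K (n + 1) ⟶ M (n + 1) // P (n + 1) h} :=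
    fun n h => ⟨(hex n).descToInjective (h.1 ≫ dM n + ψ n) h.2, by
      change dK n ≫ ((hex n).descToInjective (h.1 ≫ dM n + ψ n) h.2 ≫ dM (n + 1) + ψ (n + 1)) = 0
      rw [Preadditive.comp_add, ← Category.assoc]
      erw [(hex n).comp_descToInjective]
      rw [Preadditive.add_comp, Category.assoc, wM, comp_zero, zero_add]
      exact (add_comm _ _).trans (hψ n)⟩
  let H0 : {h : K 0 ⟶ M 0 // P 0 h} := ⟨Injective.factorThru k ι, by
    change ι ≫ (Injective.factorThru k ι ≫ dM 0 + ψ 0) = 0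
    rw [Preadditive.comp_add, ← Category.assoc, Injective.comp_factorThru]
    exact (add_comm _ _).trans hk⟩
  let H : ∀ n, {h : K n ⟶ M n // P n h} := fun n => Nat.rec H0 step n
  refine ⟨fun n => (H n).1, Injective.comp_factorThru k ι, fun n => ?_⟩
  change dK n ≫ (step n (H n)).1 = _
  exact (hex n).comp_descToInjective _ _

end LemmaR

end Horseshoe

end Groth.Agent.Lib.helper27
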