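import Mathlib
import Groth.Prelude.Def_RDerDelta
import Groth.Agent.Lib.Helper27.Horseshoe1

set_option linter.unusedSectionVars false
set_option linter.unusedVariables false

namespace Groth.Agent.Lib.helper27

open CategoryTheory Limits

universe v u

namespace Horseshoe

variable {C : Type u} [Category.{v} C] [Abelian C]

section Split

/-- a short complex of `ℕ`-indexed cochain complexes with chosen degreewise splittings -/
structure SplitSES (C : Type u) [Category.{v} C] [Abelian C] where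
  /-- the underlying short complex -/
  sc : ShortComplex (CochainComplex C ℕ)
  /-- the splittings -/
  σ : ∀ n, (sc.map (HomologicalComplex.eval C _ n)).Splitting

namespace SplitSES

variable (E E' : SplitSES C)

/-- the retraction -/
def r (n : ℕ) : E.sc.X₂.X n ⟶ E.sc.X₁.X n := (E.σ n).r

/-- the section -/
def s (n : ℕ) : E.sc.X₃.X n ⟶ E.sc.X₂.X n := (E.σ n).s

@[reassoc (attr := simp)]
lemma f_r (n : ℕ) : E.sc.f.f n ≫ E.r n = 𝟙 _ := (E.σ n).f_r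

@[reassoc (attr := simp)]
lemma s_g (n : ℕ) : E.s n ≫ E.sc.g.f n = 𝟙 _ := (E.σ n).s_g

lemma r_f_add (n : ℕ) : E.r n ≫ E.sc.f.f n + E.sc.g.f n ≫ E.s n = 𝟙 _ := (E.σ n).id

@[reassoc (attr := simp)]
lemma s_r (n : ℕ) : E.s n ≫ E.r n = 0 := (E.σ n).s_r

@[reassoc (attr := simp)]
lemma f_g (n : ℕ) : E.sc.f.f n ≫ E.sc.g.f n = 0 := by
  rw [← HomologicalComplex.comp_f, E.sc.zero, HomologicalComplex.zero_f]

/-- the twisting cochain -/
def θ (n : ℕ) : E.sc.X₃.X n ⟶ E.sc.X₁.X (n + 1) := E.s n ≫ E.sc.X₂.d n (n + 1) ≫ E.r (n + 1)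

lemma F1 (n : ℕ) : E.s n ≫ E.sc.X₂.d n (n + 1) =
    E.θ n ≫ E.sc.f.f (n + 1) + E.sc.X₃.d n (n + 1) ≫ E.s (n + 1) := by
  have h1 : E.s n ≫ E.sc.X₂.d n (n + 1) = (E.s n ≫ E.sc.X₂.d n (n + 1)) ≫
      (E.r (n + 1) ≫ E.sc.f.f (n + 1) + E.sc.g.f (n + 1) ≫ E.s (n + 1)) := by
    rw [r_f_add, Category.comp_id]
  rw [h1, Preadditive.comp_add]
  congr 1
  · simp [θ]
  · rw [Category.assoc, ← Category.assoc (E.sc.X₂.d n (n + 1)), ← E.sc.g.comm n (n + 1),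
      Category.assoc, ← Category.assoc (E.s n), s_g, Category.id_comp]

lemma F2 (n : ℕ) : E.sc.X₂.d n (n + 1) ≫ E.r (n + 1) =
    E.r n ≫ E.sc.X₁.d n (n + 1) + E.sc.g.f n ≫ E.θ n := by
  have h1 : E.sc.X₂.d n (n + 1) ≫ E.r (n + 1) =
      (E.r n ≫ E.sc.f.f n + E.sc.g.f n ≫ E.s n) ≫ E.sc.X₂.d n (n + 1) ≫ E.r (n + 1) := by
    rw [r_f_add, Category.id_comp]
  rw [h1, Preadditive.add_comp]
  congr 1
  · rw [Category.assoc, ← Category.assoc (E.sc.f.f n), E.sc.f.comm n (n + 1), Category.assoc,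
      f_r, Category.comp_id]
  · simp [θ]

lemma F3 (n : ℕ) : E.θ n ≫ E.sc.X₁.d (n + 1) (n + 2) + E.sc.X₃.d n (n + 1) ≫ E.θ (n + 1) = 0 := by
  have h0 : (E.s n ≫ E.sc.X₂.d n (n + 1)) ≫ E.sc.X₂.d (n + 1) (n + 2) ≫ E.r (n + 2) = 0 := by
    rw [Category.assoc, HomologicalComplex.d_comp_d_assoc, zero_comp, comp_zero]
  rw [F1, Preadditive.add_comp] at h0
  rw [← h0]
  congr 1
  · rw [Category.assoc, ← Category.assoc (E.sc.f.f (n + 1)), E.sc.f.comm (n + 1) (n + 2),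
      Category.assoc, f_r, Category.comp_id]
  · simp [θ]

variable {E E'}

/-- Lemma B : a morphism of split short exact sequences of complexes from the outer components
and a "homotopy" `h`. -/
lemma exists_middle (a : E.sc.X₁ ⟶ E'.sc.X₁) (c : E.sc.X₃ ⟶ E'.sc.X₃)
    (h : ∀ n, E.sc.X₃.X n ⟶ E'.sc.X₁.X n)
    (hh : ∀ n, E.θ n ≫ a.f (n + 1) + E.sc.X₃.d n (n + 1) ≫ h (n + 1) =
      c.f n ≫ E'.θ n + h n ≫ E'.sc.X₁.d n (n + 1)) :
    ∃ φ : E.sc ⟶ E'.sc, φ.τ₁ = a ∧ φ.τ₃ = c := by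
  let bf : ∀ n, E.sc.X₂.X n ⟶ E'.sc.X₂.X n := fun n =>
    E.r n ≫ a.f n ≫ E'.sc.f.f n + E.sc.g.f n ≫ c.f n ≫ E'.s n + E.sc.g.f n ≫ h n ≫ E'.sc.f.f n
  have hb : ∀ n, bf n ≫ E'.sc.X₂.d n (n + 1) = E.sc.X₂.d n (n + 1) ≫ bf (n + 1) := by
    intro n
    dsimp only [bf]
    simp only [Preadditive.add_comp, Preadditive.comp_add, Category.assoc]
    rw [E'.sc.f.comm n (n + 1), E'.F1 n]
    rw [← Category.assoc (E.sc.X₂.d n (n + 1)) (E.r (n + 1)), E.F2 n]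
    rw [← Category.assoc (E.sc.X₂.d n (n + 1)) (E.sc.g.f (n + 1)),
      ← Category.assoc (E.sc.X₂.d n (n + 1)) (E.sc.g.f (n + 1)), ← E.sc.g.comm n (n + 1)]
    simp only [Preadditive.add_comp, Preadditive.comp_add, Category.assoc]
    have e1 := a.comm n (n + 1)
    have e2 := c.comm n (n + 1)
    have e3 := hh n
    rw [← reassoc_of% e1, reassoc_of% e2]
    have e4 : E.sc.g.f n ≫ (E.θ n ≫ a.f (n + 1) + E.sc.X₃.d n (n + 1) ≫ h (n + 1)) ≫
        E'.sc.f.f (n + 1) = E.sc.g.f n ≫ (c.f n ≫ E'.θ n + h n ≫ E'.sc.X₁.d n (n + 1)) ≫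
        E'.sc.f.f (n + 1) := by rw [e3]
    simp only [Preadditive.add_comp, Preadditive.comp_add, Category.assoc] at e4
    -- rearrange
    have : ∀ (x1 x2 x3 x4 y1 y2 y3 y4 : E.sc.X₂.X n ⟶ E'.sc.X₂.X (n + 1)),
        y2 + y4 = x2 + x4 → x1 = y1 → x3 = y3 → x1 + (x2 + x3) + x4 = y1 + y2 + y3 + y4 := by
      intro x1 x2 x3 x4 y1 y2 y3 y4 h1 h2 h3
      rw [h2, h3]
      have : y1 + (x2 + y3) + x4 = y1 + y3 + (x2 + x4) := by abel
      rw [this, ← h1]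
      abel
    apply this
    · exact e4
    · rfl
    · rfl
  let b : E.sc.X₂ ⟶ E'.sc.X₂ :=
    { f := bf
      comm' := fun i j hij => by
        obtain rfl : i + 1 = j := hij
        exact hb i }
  refine ⟨⟨a, b, c, ?_, ?_⟩, rfl, rfl⟩
  · ext n
    change a.f n ≫ E'.sc.f.f n = E.sc.f.f n ≫ bf n
    dsimp only [bf]
    simp
  · ext n
    change bf n ≫ E'.sc.g.f n = E.sc.g.f n ≫ c.f n
    dsimp only [bf]
    simp

end SplitSES

end Split

end Horseshoe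

end Groth.Agent.Lib.helper27
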