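import Mathlib
import Groth.Prelude.Def_RDerDelta
import Groth.Agent.Lib.Helper27.Horseshoe2

set_option linter.unusedSectionVars false
set_option linter.unusedVariables false

namespace Groth.Agent.Lib.helper27

open CategoryTheory Limits

universe v u v' u'

namespace Horseshoe

variable {C : Type u} [Category.{v} C] [Abelian C]

section Aug

variable {S S' : ShortComplex C} (T : RDer.SESRes S) (T' : RDer.SESRes S')

/-- the split short exact sequence of complexes of a resolution of a short complex -/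
noncomputable abbrev toSplit : SplitSES C := ⟨T.cx, T.splitting⟩

/-- augmentations -/
noncomputable def ε₁ : S.X₁ ⟶ T.I₁.cocomplex.X 0 := T.I₁.ι.f 0
/-- augmentations -/
noncomputable def ε₂ : S.X₂ ⟶ T.I₂.cocomplex.X 0 := T.I₂.ι.f 0
/-- augmentations -/
noncomputable def ε₃ : S.X₃ ⟶ T.I₃.cocomplex.X 0 := T.I₃.ι.f 0

@[reassoc]
lemma ε₁_f : ε₁ T ≫ T.f.f 0 = S.f ≫ ε₂ T := by
  have := HomologicalComplex.congr_hom T.ι_f 0
  simp at this
  exact this

@[reassoc]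
lemma ε₂_g : ε₂ T ≫ T.g.f 0 = S.g ≫ ε₃ T := by
  have := HomologicalComplex.congr_hom T.ι_g 0
  simp at this
  exact this

@[reassoc]
lemma ε₂_d : ε₂ T ≫ T.I₂.cocomplex.d 0 1 = 0 := T.I₂.ι_f_zero_comp_complex_d

/-- the map `X₂ ⟶ I₁⁰` -/
noncomputable def m : S.X₂ ⟶ T.I₁.cocomplex.X 0 := ε₂ T ≫ (toSplit T).r 0

@[reassoc]
lemma F4 : S.f ≫ m T = ε₁ T := by
  rw [m, ← ε₁_f_assoc]
  have := (toSplit T).f_r 0
  change T.f.f 0 ≫ (toSplit T).r 0 = 𝟙 _ at this
  rw [this]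
  exact Category.comp_id _

@[reassoc]
lemma F5 : m T ≫ T.I₁.cocomplex.d 0 1 + S.g ≫ ε₃ T ≫ (toSplit T).θ 0 = 0 := by
  have h0 : ε₂ T ≫ T.I₂.cocomplex.d 0 1 ≫ (toSplit T).r 1 = 0 := by
    rw [ε₂_d_assoc, zero_comp]
  have h2 := (toSplit T).F2 0
  change T.I₂.cocomplex.d 0 1 ≫ (toSplit T).r 1 =
    (toSplit T).r 0 ≫ T.I₁.cocomplex.d 0 1 + T.g.f 0 ≫ (toSplit T).θ 0 at h2
  rw [h2, Preadditive.comp_add, ε₂_g_assoc] at h0
  rw [← h0, m, Category.assoc]

variable {T T'}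

/-- Existence of a morphism of short exact sequences of complexes lifting a morphism of short
exact sequences, with prescribed outer components. -/
theorem exists_morphism (φ : S ⟶ S') (hS : S.ShortExact)
    (a : T.I₁.cocomplex ⟶ T'.I₁.cocomplex) (ha : ε₁ T ≫ a.f 0 = φ.τ₁ ≫ ε₁ T')
    (c : T.I₃.cocomplex ⟶ T'.I₃.cocomplex) (hc : ε₃ T ≫ c.f 0 = φ.τ₃ ≫ ε₃ T') :
    ∃ Φ : T.cx ⟶ T'.cx, Φ.τ₁ = a ∧ Φ.τ₃ = c := by
  have := hS.epi_g
  -- the map `k`
  let κ : S.X₂ ⟶ T'.I₁.cocomplex.X 0 := φ.τ₂ ≫ m T' - m T ≫ a.f 0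
  have hκ : S.f ≫ κ = 0 := by
    dsimp only [κ]
    rw [Preadditive.comp_sub, ← Category.assoc, ← φ.comm₁₂, Category.assoc, F4, F4_assoc, ha,
      sub_self]
  let k : S.X₃ ⟶ T'.I₁.cocomplex.X 0 := hS.exact.desc κ hκ
  have hk : S.g ≫ k = κ := hS.exact.g_desc κ hκ
  let ψ : ∀ n, T.I₃.cocomplex.X n ⟶ T'.I₁.cocomplex.X (n + 1) := fun n =>
    c.f n ≫ (toSplit T').θ n - (toSplit T).θ n ≫ a.f (n + 1)
  have hψ : ∀ n, T.I₃.cocomplex.d n (n + 1) ≫ ψ (n + 1) +
      ψ n ≫ T'.I₁.cocomplex.d (n + 1) (n + 1 + 1) = 0 := by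
    intro n
    dsimp only [ψ]
    have e1 := (toSplit T).F3 n
    have e2 := (toSplit T').F3 n
    change (toSplit T).θ n ≫ T.I₁.cocomplex.d (n + 1) (n + 1 + 1) +
      T.I₃.cocomplex.d n (n + 1) ≫ (toSplit T).θ (n + 1) = 0 at e1
    change (toSplit T').θ n ≫ T'.I₁.cocomplex.d (n + 1) (n + 1 + 1) +
      T'.I₃.cocomplex.d n (n + 1) ≫ (toSplit T').θ (n + 1) = 0 at e2
    have e3 := c.comm n (n + 1)
    have e4 := a.comm (n + 1) (n + 1 + 1)
    simp only [Preadditive.comp_sub, Preadditive.sub_comp, Category.assoc]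
    rw [← reassoc_of% e3, e4]
    have e1' : T.I₃.cocomplex.d n (n + 1) ≫ (toSplit T).θ (n + 1) ≫ a.f (n + 1 + 1) =
        - (toSplit T).θ n ≫ T.I₁.cocomplex.d (n + 1) (n + 1 + 1) ≫ a.f (n + 1 + 1) := by
      rw [← Category.assoc, ← Category.assoc, eq_neg_of_add_eq_zero_right e1,
        Preadditive.neg_comp, Category.assoc]
    have e2' : c.f n ≫ T'.I₃.cocomplex.d n (n + 1) ≫ (toSplit T').θ (n + 1) =
        - c.f n ≫ (toSplit T').θ n ≫ T'.I₁.cocomplex.d (n + 1) (n + 1 + 1) := by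
      rw [eq_neg_of_add_eq_zero_right e2, Preadditive.comp_neg]
    rw [e1', e2']
    abel
  have hk2 : ε₃ T ≫ ψ 0 + k ≫ T'.I₁.cocomplex.d 0 1 = 0 := by
    rw [← cancel_epi S.g, comp_zero, Preadditive.comp_add, ← Category.assoc S.g k, hk]
    dsimp only [κ, ψ]
    simp only [Preadditive.comp_sub, Preadditive.sub_comp, Category.assoc]
    have e5 := F5 T
    have e5' := F5 T'
    have e6 := a.comm 0 1
    rw [e6, ← Category.assoc (m T), eq_neg_of_add_eq_zero_left e5,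
      eq_neg_of_add_eq_zero_left e5', ← Category.assoc (ε₃ T), hc]
    have e7 := φ.comm₂₃
    simp only [Preadditive.neg_comp, Preadditive.comp_neg, Category.assoc]
    rw [← reassoc_of% e7]
    abel
  have : Mono (ε₃ T) := inferInstanceAs (Mono (T.I₃.ι.f 0))
  obtain ⟨h, h0, hh⟩ := exists_lift_with_error
    (K := fun n => T.I₃.cocomplex.X n) (dK := fun n => T.I₃.cocomplex.d n (n + 1))
    (ι := ε₃ T) T.I₃.ι_f_zero_comp_complex_d
    (fun n => T.I₃.cocomplex.d_comp_d n (n + 1) (n + 2)) T.I₃.exact₀ T.I₃.exact_succ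
    (fun n => T'.I₁.cocomplex.X n) (fun n => T'.I₁.cocomplex.d n (n + 1))
    (fun n => T'.I₁.cocomplex.d_comp_d n (n + 1) (n + 2)) ψ hψ k hk2
  refine SplitSES.exists_middle (E := toSplit T) (E' := toSplit T') a c h ?_
  intro n
  change (toSplit T).θ n ≫ a.f (n + 1) + T.I₃.cocomplex.d n (n + 1) ≫ h (n + 1) =
      c.f n ≫ (toSplit T').θ n + h n ≫ T'.I₁.cocomplex.d n (n + 1)
  rw [hh n]
  dsimp only [ψ]
  abel

end Aug

section SE

variable {S : ShortComplex C} (T : RDer.SESRes S)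

lemma mono_f_f (n : ℕ) : Mono (T.f.f n) :=
  mono_of_mono_fac (show T.f.f n ≫ (toSplit T).r n = 𝟙 _ from (toSplit T).f_r n)

lemma decomp (n : ℕ) : (toSplit T).r n ≫ T.f.f n + T.g.f n ≫ (toSplit T).s n = 𝟙 _ :=
  (toSplit T).r_f_add n

@[reassoc]
lemma ε₁_d : ε₁ T ≫ T.I₁.cocomplex.d 0 1 = 0 := T.I₁.ι_f_zero_comp_complex_d

@[reassoc]
lemma ε₃_d : ε₃ T ≫ T.I₃.cocomplex.d 0 1 = 0 := T.I₃.ι_f_zero_comp_complex_d

include T in
/-- a short complex admitting a resolution is short exact -/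
theorem shortExact_of_sesRes : S.ShortExact := by
  have hm1 : Mono (ε₁ T) := inferInstanceAs (Mono (T.I₁.ι.f 0))
  have hm2 : Mono (ε₂ T) := inferInstanceAs (Mono (T.I₂.ι.f 0))
  have hm3 : Mono (ε₃ T) := inferInstanceAs (Mono (T.I₃.ι.f 0))
  have hf0 := mono_f_f T 0
  have hf1 := mono_f_f T 1
  have hf2 := mono_f_f T 2
  have : Mono S.f := by
    have : Mono (S.f ≫ ε₂ T) := by
      rw [← ε₁_f]
      exact mono_comp _ _
    exact mono_of_mono S.f (ε₂ T)
  have hex : S.Exact := by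
    rw [ShortComplex.exact_iff_exact_up_to_refinements]
    intro A x₂ hx₂
    let y : A ⟶ T.I₁.cocomplex.X 0 := x₂ ≫ ε₂ T ≫ (toSplit T).r 0
    have hy : x₂ ≫ ε₂ T = y ≫ T.f.f 0 := by
      have : x₂ ≫ ε₂ T = (x₂ ≫ ε₂ T) ≫ ((toSplit T).r 0 ≫ T.f.f 0 + T.g.f 0 ≫ (toSplit T).s 0) := by
        rw [decomp, Category.comp_id]
      rw [this, Preadditive.comp_add]
      simp only [Category.assoc]
      rw [ε₂_g_assoc, reassoc_of% hx₂, zero_comp, add_zero]
      simp only [y, Category.assoc]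
    have hy2 : y ≫ T.I₁.cocomplex.d 0 1 = 0 := by
      rw [← cancel_mono (T.f.f 1), Category.assoc, ← T.f.comm 0 1, ← Category.assoc, ← hy,
        Category.assoc, ε₂_d, comp_zero, zero_comp]
    obtain ⟨A', π, hπ, x₁', hx₁'⟩ := T.I₁.exact₀.exact_up_to_refinements y hy2
    let x₁ : A' ⟶ S.X₁ := x₁'
    have hx₁ : π ≫ y = x₁ ≫ ε₁ T := hx₁'
    clear_value x₁
    refine ⟨A', π, hπ, x₁, ?_⟩
    rw [← cancel_mono (ε₂ T), Category.assoc, hy, ← Category.assoc, hx₁, Category.assoc,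
      Category.assoc]
    exact congrArg (x₁ ≫ ·) (ε₁_f T)
  have hepi : Epi S.g := by
    rw [epi_iff_surjective_up_to_refinements]
    intro A x₃
    let y : A ⟶ T.I₂.cocomplex.X 0 := x₃ ≫ ε₃ T ≫ (toSplit T).s 0
    have hy : y ≫ T.g.f 0 = x₃ ≫ ε₃ T := by
      dsimp only [y]
      rw [Category.assoc, Category.assoc]
      have := (toSplit T).s_g 0
      change (toSplit T).s 0 ≫ T.g.f 0 = 𝟙 _ at this
      rw [this]
      erw [Category.comp_id]
    let z : A ⟶ T.I₁.cocomplex.X 1 := y ≫ T.I₂.cocomplex.d 0 1 ≫ (toSplit T).r 1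
    have hz : y ≫ T.I₂.cocomplex.d 0 1 = z ≫ T.f.f 1 := by
      have : y ≫ T.I₂.cocomplex.d 0 1 = (y ≫ T.I₂.cocomplex.d 0 1) ≫
          ((toSplit T).r 1 ≫ T.f.f 1 + T.g.f 1 ≫ (toSplit T).s 1) := by
        rw [decomp, Category.comp_id]
      rw [this, Preadditive.comp_add]
      simp only [Category.assoc]
      have e := T.g.comm 0 1
      rw [← reassoc_of% e, reassoc_of% hy, ε₃_d_assoc, zero_comp, comp_zero, add_zero]
      simp only [z, Category.assoc]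
    have hz2 : z ≫ T.I₁.cocomplex.d 1 2 = 0 := by
      rw [← cancel_mono (T.f.f 2), Category.assoc, ← T.f.comm 1 2, ← Category.assoc, ← hz,
        Category.assoc, HomologicalComplex.d_comp_d, comp_zero, zero_comp]
    obtain ⟨A₁, π, hπ, w', hw'⟩ := (T.I₁.exact_succ 0).exact_up_to_refinements z hz2
    let w : A₁ ⟶ T.I₁.cocomplex.X 0 := w'
    have hw : π ≫ z = w ≫ T.I₁.cocomplex.d 0 1 := hw'
    clear_value w
    have hy' : (π ≫ y - w ≫ T.f.f 0) ≫ T.I₂.cocomplex.d 0 1 = 0 := by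
      rw [Preadditive.sub_comp, Category.assoc, hz, ← Category.assoc, hw, Category.assoc,
        Category.assoc, T.f.comm 0 1]
      exact sub_self _
    obtain ⟨A₂, π', hπ', x₂', hx₂'⟩ := T.I₂.exact₀.exact_up_to_refinements _ hy'
    let x₂ : A₂ ⟶ S.X₂ := x₂'
    have hx₂ : π' ≫ (π ≫ y - w ≫ T.f.f 0) = x₂ ≫ ε₂ T := hx₂'
    clear_value x₂
    refine ⟨A₂, π' ≫ π, inferInstance, x₂, ?_⟩
    have e1 : (x₂ ≫ S.g) ≫ ε₃ T = (x₂ ≫ ε₂ T) ≫ T.g.f 0 := by
      rw [Category.assoc, Category.assoc]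
      exact congrArg (x₂ ≫ ·) (ε₂_g T).symm
    have e2 : x₂ ≫ ε₂ T = π' ≫ (π ≫ y - w ≫ T.f.f 0) := hx₂.symm
    have e3 : T.f.f 0 ≫ T.g.f 0 = 0 := (toSplit T).f_g 0
    rw [← cancel_mono (ε₃ T), e1, e2]
    simp only [Category.assoc, Preadditive.sub_comp, Preadditive.comp_sub]
    rw [hy, e3, comp_zero, comp_zero, sub_zero]
  exact ShortComplex.ShortExact.mk' hex this hepi

end SE

section Nat

variable [HasInjectiveResolutions C] {D : Type u'} [Category.{v'} D] [Abelian D]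
variable {S S' : ShortComplex C} (T : RDer.SESRes S) (T' : RDer.SESRes S')

/-- Theorem N : the connecting morphisms computed from resolutions are natural. -/
theorem delta_natural (F : C ⥤ D) [F.Additive] (φ : S ⟶ S') (hS : S.ShortExact)
    (n₀ n₁ : ℕ) (h : n₀ + 1 = n₁) :
    (F.rightDerived n₀).map φ.τ₃ ≫ T'.delta F n₀ n₁ h =
      T.delta F n₀ n₁ h ≫ (F.rightDerived n₁).map φ.τ₁ := by
  let a := InjectiveResolution.desc φ.τ₁ T'.I₁ T.I₁
  let c := InjectiveResolution.desc φ.τ₃ T'.I₃ T.I₃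
  have ha : T.I₁.ι.f 0 ≫ a.f 0 = φ.τ₁ ≫ T'.I₁.ι.f 0 :=
    InjectiveResolution.desc_commutes_zero _ _ _
  have hc : T.I₃.ι.f 0 ≫ c.f 0 = φ.τ₃ ≫ T'.I₃.ι.f 0 :=
    InjectiveResolution.desc_commutes_zero _ _ _
  obtain ⟨Φ, h1, h3⟩ := exists_morphism (T := T) (T' := T') φ hS a ha c hc
  have hnat := HomologicalComplex.HomologySequence.δ_naturality
    ((F.mapHomologicalComplex (ComplexShape.up ℕ)).mapShortComplex.map Φ)
    (T.map_shortExact F) (T'.map_shortExact F) n₀ n₁ h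
  have e1 := InjectiveResolution.isoRightDerivedObj_hom_naturality φ.τ₃ T.I₃ T'.I₃ c hc F n₀
  have e2 := InjectiveResolution.isoRightDerivedObj_inv_naturality φ.τ₁ T.I₁ T'.I₁ a ha F n₁
  clear_value a c
  subst h1 h3
  have hrel : (ComplexShape.up ℕ).Rel n₀ n₁ := h
  have key : ∀ (δ : (HomologicalComplex.homologyFunctor D (ComplexShape.up ℕ) n₀).obj
        ((F.mapHomologicalComplex (ComplexShape.up ℕ)).obj T.I₃.cocomplex) ⟶
      (HomologicalComplex.homologyFunctor D (ComplexShape.up ℕ) n₁).obj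
        ((F.mapHomologicalComplex (ComplexShape.up ℕ)).obj T.I₁.cocomplex))
      (δ' : (HomologicalComplex.homologyFunctor D (ComplexShape.up ℕ) n₀).obj
        ((F.mapHomologicalComplex (ComplexShape.up ℕ)).obj T'.I₃.cocomplex) ⟶
      (HomologicalComplex.homologyFunctor D (ComplexShape.up ℕ) n₁).obj
        ((F.mapHomologicalComplex (ComplexShape.up ℕ)).obj T'.I₁.cocomplex))
      (hδ : δ ≫ (F.mapHomologicalComplex (ComplexShape.up ℕ) ⋙
          HomologicalComplex.homologyFunctor D (ComplexShape.up ℕ) n₁).map Φ.τ₁ =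
        (F.mapHomologicalComplex (ComplexShape.up ℕ) ⋙
          HomologicalComplex.homologyFunctor D (ComplexShape.up ℕ) n₀).map Φ.τ₃ ≫ δ'),
      (F.rightDerived n₀).map φ.τ₃ ≫ (T'.I₃.isoRightDerivedObj F n₀).hom ≫ δ' ≫
        (T'.I₁.isoRightDerivedObj F n₁).inv =
      ((T.I₃.isoRightDerivedObj F n₀).hom ≫ δ ≫ (T.I₁.isoRightDerivedObj F n₁).inv) ≫
        (F.rightDerived n₁).map φ.τ₁ := by
    intro δ δ' hδ
    rw [reassoc_of% e1, Category.assoc, Category.assoc, e2]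
    congr 1
    rw [← Category.assoc, ← Category.assoc]
    congr 1
    exact hδ.symm
  exact key _ _ hnat

/-- independence of the resolution -/
theorem delta_eq_delta (F : C ⥤ D) [F.Additive] (T T' : RDer.SESRes S)
    (n₀ n₁ : ℕ) (h : n₀ + 1 = n₁) : T.delta F n₀ n₁ h = T'.delta F n₀ n₁ h := by
  have := delta_natural T' T F (𝟙 S) (shortExact_of_sesRes T) n₀ n₁ h
  simp only [ShortComplex.id_τ₁, ShortComplex.id_τ₃, CategoryTheory.Functor.map_id,
    Category.id_comp, Category.comp_id] at this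
  exact this

end Nat

end Horseshoe

end Groth.Agent.Lib.helper27
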