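import Mathlib
import Groth.Prelude.Def_RDerDelta
import Groth.Agent.Lib.Helper27.Horseshoe3

set_option linter.unusedSectionVars false
set_option linter.unusedVariables false

namespace Groth.Agent.Lib.helper27

open CategoryTheory Limits

universe v u v' u'

namespace Horseshoe

variable {C : Type u} [Category.{v} C] [Abelian C]

/-- criterion for a map from a single object to be a resolution -/
lemma quasiIso_of_resolution (K : CochainComplex C ℕ) {X : C} (ε : X ⟶ K.X 0)
    (hε : ε ≫ K.d 0 1 = 0) (hex : (ShortComplex.mk ε (K.d 0 1) hε).Exact) [Mono ε]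
    (hK : ∀ n, K.ExactAt (n + 1)) :
    QuasiIso ((CochainComplex.fromSingle₀Equiv K X).symm ⟨ε, hε⟩) := ⟨fun n => by
  cases n
  · rw [CochainComplex.quasiIsoAt₀_iff, ShortComplex.quasiIso_iff_of_zeros]
    · refine (ShortComplex.exact_and_mono_f_iff_of_iso ?_).2 ⟨hex, by dsimp; infer_instance⟩
      exact ShortComplex.isoMk (Iso.refl _) (Iso.refl _) (Iso.refl _)
        (by erw [Category.id_comp, Category.comp_id]; simp)
        (by erw [Category.id_comp, Category.comp_id]; rfl)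
    · rfl
    · rfl
    · exact K.shape _ _ (by simp)
  · rw [quasiIsoAt_iff_exactAt]
    · apply hK
    · apply CochainComplex.exactAt_succ_single_obj⟩

section Twist

variable (K₁ K₃ : CochainComplex C ℕ) (θ : ∀ n, K₃.X n ⟶ K₁.X (n + 1))
  (hθ : ∀ n, θ n ≫ K₁.d (n + 1) (n + 2) + K₃.d n (n + 1) ≫ θ (n + 1) = 0)

/-- the differential of the twisted sum -/
noncomputable def twistD (n : ℕ) : K₁.X n ⊞ K₃.X n ⟶ K₁.X (n + 1) ⊞ K₃.X (n + 1) :=
  biprod.desc (K₁.d n (n + 1) ≫ biprod.inl) (θ n ≫ biprod.inl + K₃.d n (n + 1) ≫ biprod.inr)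

include hθ in
lemma twistD_sq (n : ℕ) : twistD K₁ K₃ θ n ≫ twistD K₁ K₃ θ (n + 1) = 0 := by
  apply biprod.hom_ext'
  · simp [twistD]
  · simp only [twistD, biprod.inr_desc_assoc, Preadditive.add_comp, Category.assoc,
      biprod.inl_desc, biprod.inr_desc, Preadditive.comp_add, comp_zero]
    rw [← Category.assoc, ← Category.assoc, ← Category.assoc (K₃.d n (n + 1)),
      HomologicalComplex.d_comp_d, zero_comp, add_zero, ← Preadditive.add_comp, hθ, zero_comp]

/-- the twisted sum -/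
noncomputable def twist : CochainComplex C ℕ :=
  CochainComplex.of (fun n => K₁.X n ⊞ K₃.X n) (twistD K₁ K₃ θ) (twistD_sq K₁ K₃ θ hθ)

lemma twist_d (n : ℕ) : (twist K₁ K₃ θ hθ).d n (n + 1) = twistD K₁ K₃ θ n :=
  CochainComplex.of_d (fun n => K₁.X n ⊞ K₃.X n) (twistD K₁ K₃ θ) n

lemma twistD_snd (n : ℕ) : twistD K₁ K₃ θ n ≫ biprod.snd = biprod.snd ≫ K₃.d n (n + 1) := by
  apply biprod.hom_ext' <;> simp [twistD]

lemma inl_twistD (n : ℕ) : biprod.inl ≫ twistD K₁ K₃ θ n = K₁.d n (n + 1) ≫ biprod.inl := by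
  simp [twistD]

lemma inr_twistD (n : ℕ) : biprod.inr ≫ twistD K₁ K₃ θ n =
    θ n ≫ biprod.inl + K₃.d n (n + 1) ≫ biprod.inr := by
  simp [twistD]

/-- the inclusion -/
noncomputable def twistInl : K₁ ⟶ twist K₁ K₃ θ hθ where
  f n := biprod.inl
  comm' i j hij := by
    obtain rfl : i + 1 = j := hij
    rw [twist_d]
    exact inl_twistD K₁ K₃ θ i

/-- the projection -/
noncomputable def twistSnd : twist K₁ K₃ θ hθ ⟶ K₃ where
  f n := biprod.snd
  comm' i j hij := by
    obtain rfl : i + 1 = j := hij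
    rw [twist_d]
    exact (twistD_snd K₁ K₃ θ i).symm

@[reassoc (attr := simp)]
lemma twistInl_twistSnd : twistInl K₁ K₃ θ hθ ≫ twistSnd K₁ K₃ θ hθ = 0 := by
  ext n
  exact biprod.inl_snd

lemma twist_shortExact :
    (ShortComplex.mk _ _ (twistInl_twistSnd K₁ K₃ θ hθ)).ShortExact := by
  apply HomologicalComplex.shortExact_of_degreewise_shortExact
  intro n
  exact (ShortComplex.Splitting.ofHasBinaryBiproduct (K₁.X n) (K₃.X n)).shortExact

end Twist

section HS

variable {S : ShortComplex C} (hS : S.ShortExact) (I₁ : InjectiveResolution S.X₁)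
  (I₃ : InjectiveResolution S.X₃)

/-- augmentation -/
noncomputable def aug {X : C} (I : InjectiveResolution X) : X ⟶ I.cocomplex.X 0 := I.ι.f 0

instance {X : C} (I : InjectiveResolution X) : Mono (aug I) :=
  inferInstanceAs (Mono (I.ι.f 0))

@[reassoc]
lemma aug_d {X : C} (I : InjectiveResolution X) : aug I ≫ I.cocomplex.d 0 1 = 0 :=
  I.ι_f_zero_comp_complex_d

include hS in
/-- The horseshoe lemma. -/
theorem horseshoe : ∃ T : RDer.SESRes S, T.I₁ = I₁ ∧ T.I₃ = I₃ := by
  have := hS.mono_f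
  have := hS.epi_g
  -- step 1
  let m : S.X₂ ⟶ I₁.cocomplex.X 0 := Injective.factorThru (aug I₁) S.f
  have hm : S.f ≫ m = aug I₁ := Injective.comp_factorThru _ _
  -- step 2
  have hme : S.f ≫ (-(m ≫ I₁.cocomplex.d 0 1)) = 0 := by
    rw [Preadditive.comp_neg, ← Category.assoc, hm, aug_d, neg_zero]
  let e : S.X₃ ⟶ I₁.cocomplex.X 1 := hS.exact.desc _ hme
  have he : S.g ≫ e = -(m ≫ I₁.cocomplex.d 0 1) := hS.exact.g_desc _ hme
  have he2 : e ≫ I₁.cocomplex.d 1 2 = 0 := by
    rw [← cancel_epi S.g, ← Category.assoc, he, Preadditive.neg_comp, Category.assoc,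
      HomologicalComplex.d_comp_d, comp_zero, neg_zero, comp_zero]
  -- step 3
  obtain ⟨θ, hθ0, hθ'⟩ := exists_lift_with_error
    (K := fun n => I₃.cocomplex.X n) (dK := fun n => I₃.cocomplex.d n (n + 1))
    (ι := aug I₃) I₃.ι_f_zero_comp_complex_d
    (fun n => I₃.cocomplex.d_comp_d n (n + 1) (n + 2)) I₃.exact₀ I₃.exact_succ
    (fun n => I₁.cocomplex.X (n + 1)) (fun n => - I₁.cocomplex.d (n + 1) (n + 2))
    (fun n => by simp) (fun n => 0) (fun n => by simp) e (by
      change aug I₃ ≫ (0 : _ ⟶ I₁.cocomplex.X 2) + e ≫ (-I₁.cocomplex.d 1 2) = 0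
      rw [comp_zero, zero_add, Preadditive.comp_neg, he2, neg_zero])
  have hθ : ∀ n, θ n ≫ I₁.cocomplex.d (n + 1) (n + 2) +
      I₃.cocomplex.d n (n + 1) ≫ θ (n + 1) = 0 := by
    intro n
    have := hθ' n
    rw [add_zero, Preadditive.comp_neg] at this
    rw [this]
    exact add_neg_cancel _
  clear hθ'
  -- step 4-5
  let K := twist I₁.cocomplex I₃.cocomplex θ hθ
  -- step 6
  let ε₂' : S.X₂ ⟶ I₁.cocomplex.X 0 ⊞ I₃.cocomplex.X 0 := biprod.lift m (S.g ≫ aug I₃)
  have hε₂' : ε₂' ≫ twistD I₁.cocomplex I₃.cocomplex θ 0 = 0 := by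
    dsimp only [ε₂', twistD]
    rw [biprod.lift_desc]
    simp only [Category.assoc, Preadditive.comp_add]
    rw [reassoc_of% hθ0, reassoc_of% he, aug_d_assoc, zero_comp, comp_zero, add_zero,
      Preadditive.neg_comp, Category.assoc]
    exact add_neg_cancel _
  let ε₂ : S.X₂ ⟶ K.X 0 := ε₂'
  have hε₂ : ε₂ ≫ K.d 0 1 = 0 := by
    rw [twist_d]
    exact hε₂'
  have hfε : S.f ≫ ε₂' = aug I₁ ≫ biprod.inl := by
    dsimp only [ε₂']
    apply biprod.hom_ext
    · simp [hm]
    · simp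
  -- mono
  have hmono' : Mono ε₂' := by
    apply Preadditive.mono_of_cancel_zero
    intro A k hk
    have h1 : k ≫ m = 0 := by
      have := congrArg (· ≫ biprod.fst) hk
      simpa [ε₂'] using this
    have h2 : k ≫ S.g = 0 := by
      have := congrArg (· ≫ biprod.snd) hk
      simp only [ε₂', Category.assoc, biprod.lift_snd, zero_comp] at this
      rw [← cancel_mono (aug I₃), Category.assoc, this, zero_comp]
    have h3 : hS.exact.lift k h2 ≫ S.f = k := hS.exact.lift_f k h2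
    have h4 : hS.exact.lift k h2 = 0 := by
      rw [← cancel_mono (aug I₁), zero_comp, ← hm, ← Category.assoc, h3, h1]
    rw [← h3, h4, zero_comp]
  have hmono : Mono ε₂ := hmono'
  -- exactness in degree 0
  have hex' : (ShortComplex.mk ε₂' (twistD I₁.cocomplex I₃.cocomplex θ 0) hε₂').Exact := by
    rw [ShortComplex.exact_iff_exact_up_to_refinements]
    intro A z hz
    change z ≫ twistD I₁.cocomplex I₃.cocomplex θ 0 = 0 at hz
    have hz3 : (z ≫ biprod.snd) ≫ I₃.cocomplex.d 0 1 = 0 := by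
      rw [Category.assoc, ← twistD_snd, reassoc_of% hz, zero_comp]
    obtain ⟨A₁, π₁, hπ₁, x₃', hx₃'⟩ := I₃.exact₀.exact_up_to_refinements _ hz3
    let x₃ : A₁ ⟶ S.X₃ := x₃'
    have hx₃ : π₁ ≫ z ≫ biprod.snd = x₃ ≫ aug I₃ := hx₃'
    clear_value x₃
    obtain ⟨A₂, π₂, hπ₂, x₂, hx₂⟩ := surjective_up_to_refinements_of_epi S.g x₃
    let z' : A₂ ⟶ I₁.cocomplex.X 0 ⊞ I₃.cocomplex.X 0 := π₂ ≫ π₁ ≫ z - x₂ ≫ ε₂'
    have hz's : z' ≫ biprod.snd = 0 := by
      dsimp only [z', ε₂']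
      rw [Preadditive.sub_comp, Category.assoc, Category.assoc, Category.assoc, hx₃,
        biprod.lift_snd, ← Category.assoc π₂, hx₂, Category.assoc, sub_self]
    have hz'd : z' ≫ twistD I₁.cocomplex I₃.cocomplex θ 0 = 0 := by
      dsimp only [z']
      rw [Preadditive.sub_comp, Category.assoc, Category.assoc, Category.assoc, hz, hε₂',
        comp_zero, comp_zero, comp_zero, sub_zero]
    have hz'e : z' = (z' ≫ biprod.fst) ≫ biprod.inl := by
      have : z' = z' ≫ (biprod.fst ≫ biprod.inl + biprod.snd ≫ biprod.inr) := by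
        rw [biprod.total, Category.comp_id]
      rw [Preadditive.comp_add, ← Category.assoc z' biprod.snd, hz's, zero_comp, add_zero] at this
      rw [Category.assoc]
      exact this
    have hz'1 : (z' ≫ biprod.fst) ≫ I₁.cocomplex.d 0 1 = 0 := by
      have hinl : Mono (biprod.inl : I₁.cocomplex.X 1 ⟶ I₁.cocomplex.X 1 ⊞ I₃.cocomplex.X 1) :=
        inferInstance
      rw [← cancel_mono (biprod.inl : I₁.cocomplex.X 1 ⟶ I₁.cocomplex.X 1 ⊞ I₃.cocomplex.X 1),
        zero_comp, Category.assoc, ← inl_twistD I₁.cocomplex I₃.cocomplex θ 0, ← Category.assoc,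
        ← hz'e, hz'd]
    obtain ⟨A₃, π₃, hπ₃, x₁', hx₁'⟩ := I₁.exact₀.exact_up_to_refinements _ hz'1
    let x₁ : A₃ ⟶ S.X₁ := x₁'
    have hx₁ : π₃ ≫ z' ≫ biprod.fst = x₁ ≫ aug I₁ := hx₁'
    clear_value x₁
    refine ⟨A₃, π₃ ≫ π₂ ≫ π₁, inferInstance, x₁ ≫ S.f + π₃ ≫ x₂, ?_⟩
    change (π₃ ≫ π₂ ≫ π₁) ≫ z = (x₁ ≫ S.f + π₃ ≫ x₂) ≫ ε₂'
    have e1 : π₃ ≫ z' = π₃ ≫ π₂ ≫ π₁ ≫ z - π₃ ≫ x₂ ≫ ε₂' := by
      dsimp only [z']
      rw [Preadditive.comp_sub]
    have e2 : π₃ ≫ z' = (x₁ ≫ S.f) ≫ ε₂' := by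
      rw [hz'e, ← Category.assoc, ← Category.assoc, Category.assoc π₃, hx₁, Category.assoc,
        Category.assoc, hfε]
    rw [Preadditive.add_comp, ← e2, e1]
    simp only [Category.assoc]
    abel
  have hex : (ShortComplex.mk ε₂ (K.d 0 1) hε₂).Exact := by
    have : K.d 0 1 = twistD I₁.cocomplex I₃.cocomplex θ 0 := twist_d _ _ _ _ 0
    let iso : ShortComplex.mk ε₂ (K.d 0 1) hε₂ ≅
        ShortComplex.mk ε₂' (twistD I₁.cocomplex I₃.cocomplex θ 0) hε₂' :=
      ShortComplex.isoMk (Iso.refl _) (Iso.refl _) (Iso.refl _)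
        (by erw [Category.id_comp, Category.comp_id])
        (by erw [Category.id_comp, Category.comp_id]; exact this.symm)
    exact (ShortComplex.exact_iff_of_iso iso).2 hex'
  -- exactness in positive degrees
  have hK : ∀ n, K.ExactAt (n + 1) := fun n =>
    (twist_shortExact I₁.cocomplex I₃.cocomplex θ hθ).exactAt_X₂ (n + 1)
      (I₁.cocomplex_exactAt_succ n) (I₃.cocomplex_exactAt_succ n)
  let I₂ : InjectiveResolution S.X₂ :=
    { cocomplex := K
      injective := fun n => (inferInstance : Injective (I₁.cocomplex.X n ⊞ I₃.cocomplex.X n))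
      ι := (CochainComplex.fromSingle₀Equiv K S.X₂).symm ⟨ε₂, hε₂⟩
      quasiIso := quasiIso_of_resolution K ε₂ hε₂ hex hK }
  refine ⟨{ I₁ := I₁, I₂ := I₂, I₃ := I₃
            f := twistInl I₁.cocomplex I₃.cocomplex θ hθ
            g := twistSnd I₁.cocomplex I₃.cocomplex θ hθ
            zero := twistInl_twistSnd _ _ _ _
            ι_f := ?_
            ι_g := ?_
            shortExact := twist_shortExact I₁.cocomplex I₃.cocomplex θ hθ }, rfl, rfl⟩
  · apply HomologicalComplex.from_single_hom_ext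
    rw [HomologicalComplex.comp_f, HomologicalComplex.comp_f, CochainComplex.single₀_map_f_zero]
    erw [CochainComplex.fromSingle₀Equiv_symm_apply_f_zero]
    exact hfε.symm
  · apply HomologicalComplex.from_single_hom_ext
    rw [HomologicalComplex.comp_f, HomologicalComplex.comp_f, CochainComplex.single₀_map_f_zero]
    erw [CochainComplex.fromSingle₀Equiv_symm_apply_f_zero]
    exact biprod.lift_snd _ _

end HS

end Horseshoe

end Groth.Agent.Lib.helper27
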