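import Mathlib
import Groth.Prelude.Def_RDerDelta
import Groth.Agent.Lib.Helper27.Horseshoe4

set_option linter.unusedSectionVars false
set_option linter.unusedVariables false

namespace Groth.Agent.Lib.helper27

open CategoryTheory Limits

universe v u v' u'

namespace Horseshoe

variable {C : Type u} [Category.{v} C] [Abelian C] [HasInjectiveResolutions C]
  {D : Type u'} [Category.{v'} D] [Abelian D] (F : C ⥤ D) [F.Additive]

section LES

variable {S : ShortComplex C}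

/-- the homology functor applied to `F` of a complex -/
noncomputable abbrev HF (n : ℕ) : CochainComplex C ℕ ⥤ D :=
  F.mapHomologicalComplex (ComplexShape.up ℕ) ⋙
    HomologicalComplex.homologyFunctor D (ComplexShape.up ℕ) n

lemma sq_f (T : RDer.SESRes S) (n : ℕ) :
    (F.rightDerived n).map S.f ≫ (T.I₂.isoRightDerivedObj F n).hom =
    (T.I₁.isoRightDerivedObj F n).hom ≫ (HF F n).map T.f :=
  InjectiveResolution.isoRightDerivedObj_hom_naturality S.f T.I₁ T.I₂ T.f (ε₁_f T) F n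

lemma sq_g (T : RDer.SESRes S) (n : ℕ) :
    (F.rightDerived n).map S.g ≫ (T.I₃.isoRightDerivedObj F n).hom =
    (T.I₂.isoRightDerivedObj F n).hom ≫ (HF F n).map T.g :=
  InjectiveResolution.isoRightDerivedObj_hom_naturality S.g T.I₂ T.I₃ T.g (ε₂_g T) F n

/-- the connecting morphism of complexes, typed via `HF` -/
noncomputable def δT (T : RDer.SESRes S) (n₀ n₁ : ℕ) (h : n₀ + 1 = n₁) :
    (HF F n₀).obj T.I₃.cocomplex ⟶ (HF F n₁).obj T.I₁.cocomplex :=
  (T.map_shortExact F).δ n₀ n₁ h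

lemma delta_eq (T : RDer.SESRes S) (n₀ n₁ : ℕ) (h : n₀ + 1 = n₁) :
    T.delta F n₀ n₁ h = (T.I₃.isoRightDerivedObj F n₀).hom ≫ δT F T n₀ n₁ h ≫
      (T.I₁.isoRightDerivedObj F n₁).inv := rfl

lemma delta_sq (T : RDer.SESRes S) (n₀ n₁ : ℕ) (h : n₀ + 1 = n₁) :
    T.delta F n₀ n₁ h ≫ (T.I₁.isoRightDerivedObj F n₁).hom =
      (T.I₃.isoRightDerivedObj F n₀).hom ≫ δT F T n₀ n₁ h := by
  rw [delta_eq, Category.assoc, Category.assoc, Iso.inv_hom_id, Category.comp_id]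

lemma δT_comp (T : RDer.SESRes S) (n₀ n₁ : ℕ) (h : n₀ + 1 = n₁) :
    δT F T n₀ n₁ h ≫ (HF F n₁).map T.f = 0 :=
  (T.map_shortExact F).δ_comp n₀ n₁ h

lemma comp_δT (T : RDer.SESRes S) (n₀ n₁ : ℕ) (h : n₀ + 1 = n₁) :
    (HF F n₀).map T.g ≫ δT F T n₀ n₁ h = 0 :=
  (T.map_shortExact F).comp_δ n₀ n₁ h

lemma HF_zero (T : RDer.SESRes S) (n : ℕ) : (HF F n).map T.f ≫ (HF F n).map T.g = 0 := by
  rw [← Functor.map_comp, T.zero, Functor.map_zero]

lemma exT₂ (T : RDer.SESRes S) (n : ℕ) :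
    (ShortComplex.mk _ _ (HF_zero F T n)).Exact :=
  (T.map_shortExact F).homology_exact₂ n

lemma exT₃ (T : RDer.SESRes S) (n₀ n₁ : ℕ) (h : n₀ + 1 = n₁) :
    (ShortComplex.mk _ _ (comp_δT F T n₀ n₁ h)).Exact :=
  (T.map_shortExact F).homology_exact₃ n₀ n₁ h

lemma exT₁ (T : RDer.SESRes S) (n₀ n₁ : ℕ) (h : n₀ + 1 = n₁) :
    (ShortComplex.mk _ _ (δT_comp F T n₀ n₁ h)).Exact :=
  (T.map_shortExact F).homology_exact₁ n₀ n₁ h

lemma les_exact₂ (T : RDer.SESRes S) (n : ℕ) :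
    (ShortComplex.mk ((F.rightDerived n).map S.f) ((F.rightDerived n).map S.g)
      (by rw [← Functor.map_comp, S.zero, Functor.map_zero])).Exact := by
  refine (ShortComplex.exact_iff_of_iso (ShortComplex.isoMk (T.I₁.isoRightDerivedObj F n)
    (T.I₂.isoRightDerivedObj F n) (T.I₃.isoRightDerivedObj F n) ?_ ?_)).2 (exT₂ F T n)
  · exact (sq_f F T n).symm
  · exact (sq_g F T n).symm

lemma les_comp_δ (T : RDer.SESRes S) (n₀ n₁ : ℕ) (h : n₀ + 1 = n₁) :
    (F.rightDerived n₀).map S.g ≫ T.delta F n₀ n₁ h = 0 := by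
  rw [delta_eq, ← Category.assoc, sq_g, Category.assoc, ← Category.assoc ((HF F n₀).map T.g),
    comp_δT, zero_comp, comp_zero]

lemma les_δ_comp (T : RDer.SESRes S) (n₀ n₁ : ℕ) (h : n₀ + 1 = n₁) :
    T.delta F n₀ n₁ h ≫ (F.rightDerived n₁).map S.f = 0 := by
  rw [← cancel_mono (T.I₂.isoRightDerivedObj F n₁).hom, Category.assoc, sq_f,
    ← Category.assoc, delta_sq, Category.assoc, δT_comp, comp_zero, zero_comp]

lemma les_exact₃ (T : RDer.SESRes S) (n₀ n₁ : ℕ) (h : n₀ + 1 = n₁) :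
    (ShortComplex.mk _ _ (les_comp_δ F T n₀ n₁ h)).Exact := by
  refine (ShortComplex.exact_iff_of_iso (ShortComplex.isoMk (T.I₂.isoRightDerivedObj F n₀)
    (T.I₃.isoRightDerivedObj F n₀) (T.I₁.isoRightDerivedObj F n₁) ?_ ?_)).2 (exT₃ F T n₀ n₁ h)
  · exact (sq_g F T n₀).symm
  · exact (delta_sq F T n₀ n₁ h).symm

lemma les_exact₁ (T : RDer.SESRes S) (n₀ n₁ : ℕ) (h : n₀ + 1 = n₁) :
    (ShortComplex.mk _ _ (les_δ_comp F T n₀ n₁ h)).Exact := by
  refine (ShortComplex.exact_iff_of_iso (ShortComplex.isoMk (T.I₃.isoRightDerivedObj F n₀)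
    (T.I₁.isoRightDerivedObj F n₁) (T.I₂.isoRightDerivedObj F n₁) ?_ ?_)).2 (exT₁ F T n₀ n₁ h)
  · exact (delta_sq F T n₀ n₁ h).symm
  · exact (sq_f F T n₁).symm

end LES

/-- the chosen resolution of a short exact sequence -/
noncomputable def chosenRes (S : ShortComplex C) (hS : S.ShortExact) : RDer.SESRes S :=
  (horseshoe hS (injectiveResolution S.X₁) (injectiveResolution S.X₃)).choose

/-- the long exact sequence of right derived functors -/
noncomputable def derivedLES : RDer.DerivedLES F where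
  δ S hS n₀ n₁ h := (chosenRes S hS).delta F n₀ n₁ h
  δ_eq S hS T n₀ n₁ h := delta_eq_delta F _ _ n₀ n₁ h
  δ_natural hS hS' φ n₀ n₁ h := delta_natural _ _ F φ hS n₀ n₁ h
  exact₂ S hS n := les_exact₂ F (chosenRes S hS) n
  comp_δ S hS n₀ n₁ h := les_comp_δ F (chosenRes S hS) n₀ n₁ h
  exact₃ S hS n₀ n₁ h := les_exact₃ F (chosenRes S hS) n₀ n₁ h
  δ_comp S hS n₀ n₁ h := les_δ_comp F (chosenRes S hS) n₀ n₁ h
  exact₁ S hS n₀ n₁ h := les_exact₁ F (chosenRes S hS) n₀ n₁ h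

end Horseshoe

end Groth.Agent.Lib.helper27
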