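import Mathlib
import Groth.Prelude.Def_RDerDelta
import Groth.Agent.Lib.Helper27.Horseshoe5

set_option linter.unusedSectionVars false
set_option linter.unusedVariables false

namespace Groth.Agent.Lib.helper27

open CategoryTheory Limits

universe v u v' u'

namespace Horseshoe

variable {C : Type u} [Category.{v} C] [Abelian C]
  {D : Type u'} [Category.{v'} D] [Abelian D]

lemma mono_homologyMap_zero {K L : CochainComplex D ℕ} (φ : K ⟶ L) [Mono (φ.f 0)] :
    Mono (HomologicalComplex.homologyMap φ 0) := by
  have h1 : Mono (HomologicalComplex.cyclesMap φ 0) := by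
    have : Mono (HomologicalComplex.cyclesMap φ 0 ≫ L.iCycles 0) := by
      rw [HomologicalComplex.cyclesMap_i]
      infer_instance
    exact mono_of_mono _ (L.iCycles 0)
  have h2 : HomologicalComplex.homologyMap φ 0 =
      K.isoHomologyπ₀.inv ≫ HomologicalComplex.cyclesMap φ 0 ≫ L.isoHomologyπ₀.hom := by
    rw [← cancel_epi K.isoHomologyπ₀.hom, Iso.hom_inv_id_assoc]
    exact HomologicalComplex.homologyπ_naturality φ 0
  rw [h2]
  infer_instance

variable [HasInjectiveResolutions C] (F : C ⥤ D) [F.Additive]

lemma mono_rightDerived_zero_map {S : ShortComplex C} (T : RDer.SESRes S) :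
    Mono ((F.rightDerived 0).map S.f) := by
  have h1 : Mono (((F.mapHomologicalComplex (ComplexShape.up ℕ)).map T.f).f 0) := by
    have : ((F.mapHomologicalComplex (ComplexShape.up ℕ)).map T.f).f 0 = F.map (T.f.f 0) := rfl
    rw [this]
    have hs : T.f.f 0 ≫ (toSplit T).r 0 = 𝟙 _ := (toSplit T).f_r 0
    have : F.map (T.f.f 0) ≫ F.map ((toSplit T).r 0) = 𝟙 _ := by
      rw [← F.map_comp, hs, F.map_id]
    exact (SplitMono.mk _ this).mono
  have h2 : Mono ((HF F 0).map T.f) :=
    mono_homologyMap_zero ((F.mapHomologicalComplex (ComplexShape.up ℕ)).map T.f)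
  have h3 := sq_f F T 0
  have : Mono ((F.rightDerived 0).map S.f ≫ (T.I₂.isoRightDerivedObj F 0).hom) := by
    rw [h3]
    infer_instance
  exact mono_of_mono _ (T.I₂.isoRightDerivedObj F 0).hom

theorem rightDerived_zero_preservesFiniteLimits : PreservesFiniteLimits (F.rightDerived 0) := by
  apply ((Functor.preservesFiniteLimits_tfae (F.rightDerived 0)).out 0 3).1
  intro S hS
  exact ⟨les_exact₂ F (chosenRes S hS) 0, mono_rightDerived_zero_map F (chosenRes S hS)⟩

theorem isIso_toRightDerivedZero_iff :
    IsIso F.toRightDerivedZero ↔ PreservesFiniteLimits F := by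
  constructor
  · intro h
    have := rightDerived_zero_preservesFiniteLimits F
    exact preservesFiniteLimits_of_natIso (asIso F.toRightDerivedZero).symm
  · intro h
    infer_instance

end Horseshoe

end Groth.Agent.Lib.helper27
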