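import Mathlib
import Groth.Prelude.Def_RDerDelta
import Groth.Agent.Lib.Helper27.Horseshoe6

set_option linter.unusedSectionVars false
set_option linter.unusedVariables false

namespace Groth.Agent.Lib.helper27

open CategoryTheory Limits

universe v u v' u'

namespace Horseshoe

variable {C : Type u} [Category.{v} C] [Abelian C] [HasInjectiveResolutions C]
  {D : Type u'} [Category.{v'} D] [Abelian D] (F : C ⥤ D) [F.Additive] [PreservesFiniteLimits F]

lemma epi_map_iff {X Y : C} (g : X ⟶ Y) : Epi (F.map g) ↔ Epi ((F.rightDerived 0).map g) := by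
  have nat := F.toRightDerivedZero.naturality g
  constructor
  · intro h
    have : Epi (F.toRightDerivedZero.app X ≫ (F.rightDerived 0).map g) := by
      rw [← nat]
      infer_instance
    exact epi_of_epi (F.toRightDerivedZero.app X) _
  · intro h
    have : Epi (F.map g ≫ F.toRightDerivedZero.app Y) := by
      rw [nat]
      infer_instance
    have e : F.map g = (F.map g ≫ F.toRightDerivedZero.app Y) ≫ inv (F.toRightDerivedZero.app Y) := by
      simp
    rw [e]
    infer_instance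

variable {S : ShortComplex C} (hS : S.ShortExact)

include hS in
lemma map_shortExact_of_epi (h : Epi (F.map S.g)) : (S.map F).ShortExact := by
  have hF : PreservesFiniteLimits F := inferInstance
  have key : ∀ (S : ShortComplex C), S.ShortExact → (S.map F).Exact ∧ Mono (F.map S.f) :=
    ((Functor.preservesFiniteLimits_tfae F).out 3 0).1 hF
  have := key S hS
  exact ShortComplex.ShortExact.mk' this.1 this.2 h

include hS in
lemma epi_of_isZero (h : IsZero ((F.rightDerived 1).obj S.X₁)) : Epi (F.map S.g) := by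
  rw [epi_map_iff]
  let Δ := derivedLES F
  have hex := Δ.exact₃ S hS 0 1 rfl
  have h0 : Δ.δ S hS 0 1 rfl = 0 := h.eq_of_tgt _ _
  exact hex.epi_f h0

include hS in
theorem rightAcyclic_shortExact :
    ((∀ i : ℕ, 0 < i → IsZero ((F.rightDerived i).obj S.X₁)) →
      (∀ i : ℕ, 0 < i → IsZero ((F.rightDerived i).obj S.X₃)) →
      (∀ i : ℕ, 0 < i → IsZero ((F.rightDerived i).obj S.X₂)) ∧ (S.map F).ShortExact) ∧
    ((∀ i : ℕ, 0 < i → IsZero ((F.rightDerived i).obj S.X₁)) →
      (∀ i : ℕ, 0 < i → IsZero ((F.rightDerived i).obj S.X₂)) →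
      (∀ i : ℕ, 0 < i → IsZero ((F.rightDerived i).obj S.X₃)) ∧ (S.map F).ShortExact) ∧
    ((∀ i : ℕ, 0 < i → IsZero ((F.rightDerived i).obj S.X₂)) →
      (∀ i : ℕ, 0 < i → IsZero ((F.rightDerived i).obj S.X₃)) →
      Epi (F.map S.g) →
      (∀ i : ℕ, 0 < i → IsZero ((F.rightDerived i).obj S.X₁)) ∧ (S.map F).ShortExact) := by
  let Δ := derivedLES F
  refine ⟨fun h1 h3 => ⟨fun i hi => ?_, ?_⟩, fun h1 h2 => ⟨fun i hi => ?_, ?_⟩,
    fun h2 h3 hg => ⟨fun i hi => ?_, ?_⟩⟩
  · exact (Δ.exact₂ S hS i).isZero_of_both_zeros ((h1 i hi).eq_of_src _ _)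
      ((h3 i hi).eq_of_tgt _ _)
  · exact map_shortExact_of_epi F hS (epi_of_isZero F hS (h1 1 Nat.one_pos))
  · exact (Δ.exact₃ S hS i (i + 1) rfl).isZero_of_both_zeros ((h2 i hi).eq_of_src _ _)
      ((h1 (i + 1) (Nat.succ_pos _)).eq_of_tgt _ _)
  · exact map_shortExact_of_epi F hS (epi_of_isZero F hS (h1 1 Nat.one_pos))
  · obtain ⟨j, rfl⟩ : ∃ j, i = j + 1 := ⟨i - 1, by omega⟩
    have hex := Δ.exact₁ S hS j (j + 1) rfl
    rcases Nat.eq_zero_or_pos j with rfl | hj
    · have hepi : Epi (Δ.δ S hS 0 1 rfl) :=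
        hex.epi_f ((h2 1 Nat.one_pos).eq_of_tgt _ _)
      have hg' : Epi ((F.rightDerived 0).map S.g) := (epi_map_iff F S.g).1 hg
      have h0 : Δ.δ S hS 0 1 rfl = 0 := by
        rw [← cancel_epi ((F.rightDerived 0).map S.g), comp_zero]
        exact Δ.comp_δ S hS 0 1 rfl
      rw [IsZero.iff_id_eq_zero, ← cancel_epi (Δ.δ S hS 0 1 rfl), comp_zero, h0, zero_comp]
    · exact hex.isZero_of_both_zeros ((h3 j hj).eq_of_src _ _)
        ((h2 (j + 1) (Nat.succ_pos _)).eq_of_tgt _ _)
  · exact map_shortExact_of_epi F hS hg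

end Horseshoe

end Groth.Agent.Lib.helper27
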