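import Mathlib
import Groth.Prelude.Def_RDerDelta
import Groth.Agent.Lib.Helper27.Horseshoe7

set_option linter.unusedSectionVars false
set_option linter.unusedVariables false

namespace Groth.Agent.Lib.helper27

open CategoryTheory Limits

universe v u v' u'

namespace Leray

variable {A : Type u} [Category.{v} A] [Abelian A]

section cyc

variable (K : CochainComplex A ℤ)

/-- the cycles, as a kernel -/
noncomputable abbrev Z (i : ℤ) : A := kernel (K.d i (i + 1))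

/-- the inclusion of the cycles -/
noncomputable abbrev ιZ (i : ℤ) : Z K i ⟶ K.X i := kernel.ι _

/-- the map to the cycles -/
noncomputable def πZ (i : ℤ) : K.X i ⟶ Z K (i + 1) :=
  kernel.lift _ (K.d i (i + 1)) (K.d_comp_d _ _ _)

@[reassoc (attr := simp)]
lemma πZ_ι (i : ℤ) : πZ K i ≫ ιZ K (i + 1) = K.d i (i + 1) := kernel.lift_ι _ _ _

@[reassoc (attr := simp)]
lemma ι_πZ (i : ℤ) : ιZ K i ≫ πZ K i = 0 := by
  rw [← cancel_mono (ιZ K (i + 1)), Category.assoc, πZ_ι, zero_comp]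
  exact kernel.condition _

/-- the short complex `Z i ⟶ K i ⟶ Z (i+1)` -/
noncomputable def ses (i : ℤ) : ShortComplex A := ShortComplex.mk (ιZ K i) (πZ K i) (ι_πZ K i)

lemma ses_exact (i : ℤ) : (ses K i).Exact := by
  let S₂ : ShortComplex A := ShortComplex.mk (ιZ K i) (K.d i (i + 1)) (kernel.condition _)
  let φ : ses K i ⟶ S₂ :=
    { τ₁ := 𝟙 _
      τ₂ := 𝟙 _
      τ₃ := ιZ K (i + 1)
      comm₁₂ := by simp [ses, S₂]
      comm₂₃ := by simp [ses, S₂] }
  have : Epi φ.τ₁ := inferInstanceAs (Epi (𝟙 _))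
  have : IsIso φ.τ₂ := inferInstanceAs (IsIso (𝟙 _))
  have : Mono φ.τ₃ := inferInstanceAs (Mono (ιZ K (i + 1)))
  rw [ShortComplex.exact_iff_of_epi_of_isIso_of_mono φ]
  exact ShortComplex.exact_of_f_is_kernel _ (kernelIsKernel _)

lemma exactAt_succ_iff (i : ℤ) : K.ExactAt (i + 1) ↔ Epi (πZ K i) := by
  rw [K.exactAt_iff' i (i + 1) (i + 1 + 1) (by simp) (by simp),
    ShortComplex.exact_iff_epi_kernel_lift]
  rfl

lemma ses_shortExact (i : ℤ) (h : K.ExactAt (i + 1)) : (ses K i).ShortExact := by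
  have : Epi (πZ K i) := (exactAt_succ_iff K i).1 h
  exact ShortComplex.ShortExact.mk' (ses_exact K i) (inferInstanceAs (Mono (ιZ K i)))
    (inferInstanceAs (Epi (πZ K i)))

lemma isZero_Z (i : ℤ) (h : IsZero (K.X i)) : IsZero (Z K i) := by
  rw [IsZero.iff_id_eq_zero, ← cancel_mono (ιZ K i)]
  exact h.eq_of_tgt _ _

end cyc

variable {B : Type u'} [Category.{v'} B] [Abelian B] (F : A ⥤ B) [F.Additive]

/-- exactness of the image complex from the short exact pieces -/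
lemma map_exactAt (K : CochainComplex A ℤ) (i : ℤ)
    (h1 : Epi (F.map (πZ K i))) (h2 : ((ses K (i + 1)).map F).Exact)
    (h3 : Mono (F.map (ιZ K (i + 1 + 1)))) :
    ((F.mapHomologicalComplex _).obj K).ExactAt (i + 1) := by
  rw [HomologicalComplex.exactAt_iff' _ i (i + 1) (i + 1 + 1) (by simp) (by simp)]
  let S₁ : ShortComplex B := ShortComplex.mk (F.map (K.d i (i + 1))) (F.map (πZ K (i + 1)))
    (by rw [← F.map_comp, ← πZ_ι, Category.assoc, ι_πZ, comp_zero, F.map_zero])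
  let φ₁ : S₁ ⟶ ((F.mapHomologicalComplex _).obj K).sc' i (i + 1) (i + 1 + 1) :=
    { τ₁ := 𝟙 _
      τ₂ := 𝟙 _
      τ₃ := F.map (ιZ K (i + 1 + 1))
      comm₁₂ := by
        change 𝟙 _ ≫ F.map (K.d i (i + 1)) = F.map (K.d i (i + 1)) ≫ 𝟙 _
        rw [Category.id_comp, Category.comp_id]
      comm₂₃ := by
        change 𝟙 _ ≫ F.map (K.d (i + 1) (i + 1 + 1)) = F.map (πZ K (i + 1)) ≫ F.map (ιZ K (i + 1 + 1))
        rw [← F.map_comp, πZ_ι, Category.id_comp] }
  have : Epi φ₁.τ₁ := inferInstanceAs (Epi (𝟙 _))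
  have : IsIso φ₁.τ₂ := inferInstanceAs (IsIso (𝟙 _))
  have : Mono φ₁.τ₃ := h3
  rw [← ShortComplex.exact_iff_of_epi_of_isIso_of_mono φ₁]
  let φ₂ : S₁ ⟶ (ses K (i + 1)).map F :=
    { τ₁ := F.map (πZ K i)
      τ₂ := 𝟙 _
      τ₃ := 𝟙 _
      comm₁₂ := by
        change F.map (πZ K i) ≫ F.map (ιZ K (i + 1)) = F.map (K.d i (i + 1)) ≫ 𝟙 _
        rw [← F.map_comp, πZ_ι, Category.comp_id]
      comm₂₃ := by
        change 𝟙 _ ≫ F.map (πZ K (i + 1)) = F.map (πZ K (i + 1)) ≫ 𝟙 _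
        rw [Category.id_comp, Category.comp_id] }
  have : Epi φ₂.τ₁ := h1
  have : IsIso φ₂.τ₂ := inferInstanceAs (IsIso (𝟙 _))
  have : Mono φ₂.τ₃ := inferInstanceAs (Mono (𝟙 _))
  rw [ShortComplex.exact_iff_of_epi_of_isIso_of_mono φ₂]
  exact h2

end Leray

end Groth.Agent.Lib.helper27
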