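import Mathlib
import Groth.Prelude.Def_RDerDelta
import Groth.Agent.Lib.Helper27.Horseshoe7
import Groth.Agent.Lib.Helper27.Leray1

set_option linter.unusedSectionVars false
set_option linter.unusedVariables false

namespace Groth.Agent.Lib.helper27

open CategoryTheory Limits

universe v u v' u'

namespace Leray

variable {A : Type u} [Category.{v} A] [Abelian A] [HasInjectiveResolutions A]
  {B : Type u'} [Category.{v'} B] [Abelian B] (F : A ⥤ B) [F.Additive]

/-- right `F`-acyclic objects -/
def Acyc (X : A) : Prop := ∀ i : ℕ, 0 < i → IsZero ((F.rightDerived i).obj X)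

lemma acyc_of_isZero (X : A) (h : IsZero X) : Acyc F X :=
  fun i hi => (F.rightDerived i).map_isZero h

lemma acyc_of_injective (X : A) [Injective X] : Acyc F X := by
  intro i hi
  obtain ⟨j, rfl⟩ : ∃ j, i = j + 1 := ⟨i - 1, by omega⟩
  exact F.isZero_rightDerived_obj_injective_succ j X

lemma acyc_biprod (X Y : A) (hX : Acyc F X) (hY : Acyc F Y) : Acyc F (X ⊞ Y) := by
  intro i hi
  rw [IsZero.iff_id_eq_zero, ← (F.rightDerived i).map_id, ← biprod.total, Functor.map_add,
    Functor.map_comp, Functor.map_comp, (hX i hi).eq_of_tgt ((F.rightDerived i).map biprod.fst) 0,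
    (hY i hi).eq_of_tgt ((F.rightDerived i).map biprod.snd) 0, zero_comp, zero_comp, add_zero]

lemma acyc_of_iso {X Y : A} (e : X ≅ Y) (hX : Acyc F X) : Acyc F Y :=
  fun i hi => (hX i hi).of_iso ((F.rightDerived i).mapIso e.symm)

variable [PreservesFiniteLimits F]

theorem map_acyclic (K : CochainComplex A ℤ) (n₀ : ℤ) [K.IsStrictlyGE n₀] (hK : K.Acyclic)
    (hterm : ∀ m, Acyc F (K.X m)) : ((F.mapHomologicalComplex (ComplexShape.up ℤ)).obj K).Acyclic := by
  have hZ' : ∀ i, n₀ - 1 ≤ i → Acyc F (Z K i) := by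
    intro i hi
    induction i, hi using Int.le_induction with
    | base => exact acyc_of_isZero F _ (isZero_Z K _ (K.isZero_of_isStrictlyGE n₀ _ (by omega)))
    | succ i hi ih =>
      exact ((Horseshoe.rightAcyclic_shortExact F (ses_shortExact K i (hK _))).2.1 ih (hterm i)).1
  have hZ : ∀ i, Acyc F (Z K i) := by
    intro i
    by_cases h : n₀ - 1 ≤ i
    · exact hZ' i h
    · exact acyc_of_isZero F _ (isZero_Z K _ (K.isZero_of_isStrictlyGE n₀ _ (by omega)))
  have hses : ∀ i, ((ses K i).map F).ShortExact := fun i =>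
    ((Horseshoe.rightAcyclic_shortExact F (ses_shortExact K i (hK _))).2.1 (hZ i) (hterm i)).2
  intro j
  obtain ⟨i, rfl⟩ : ∃ i, j = i + 1 := ⟨j - 1, by ring⟩
  exact map_exactAt F K i (hses i).epi_g (hses (i + 1)).exact inferInstance

end Leray

end Groth.Agent.Lib.helper27
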