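import Mathlib

set_option linter.unusedSectionVars false
set_option linter.unusedVariables false

namespace Groth.Agent.Lib.helper27

open CategoryTheory Limits ZeroObject

namespace MapExtend

universe w w' v u v' u'

variable {A : Type u} [Category.{v} A] [Abelian A] [HasDerivedCategory.{w} A] [EnoughInjectives A]
    {B : Type u'} [Category.{v'} B] [Abelian B] [HasDerivedCategory.{w'} B]
    (F : A ⥤ B) [F.Additive]

omit [EnoughInjectives A] [HasDerivedCategory.{w} A] in
lemma isIso_Qh_map_quotient_map_iff {K L : CochainComplex.Plus B} (ψ : K ⟶ L) :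
    IsIso (DerivedCategory.Plus.Qh.map ((HomotopyCategory.Plus.quotient B).map ψ)) ↔
      QuasiIso ψ.hom := by
  rw [← isIso_iff_of_reflects_iso _ DerivedCategory.Plus.ι]
  change IsIso (DerivedCategory.Qh.map ((HomotopyCategory.quotient B _).map ψ.hom)) ↔ _
  rw [DerivedCategory.isIso_Qh_map_iff, HomotopyCategory.quotient_map_mem_quasiIso_iff,
    HomologicalComplex.mem_quasiIso_iff]

lemma isIso_unit_iff {K L : CochainComplex.Plus A} (φ : K ⟶ L) (hφ : QuasiIso φ.hom)
    [∀ n, Injective (L.obj.X n)] :
    IsIso (F.rightDerivedFunctorPlusUnit.app ((HomotopyCategory.Plus.quotient A).obj K)) ↔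
      QuasiIso ((F.mapHomologicalComplex (ComplexShape.up ℤ)).map φ.hom) := by
  let η := F.rightDerivedFunctorPlusUnit
  let j := (HomotopyCategory.Plus.quotient A).map φ
  have nat := η.naturality j
  have h1 : IsIso (η.app ((HomotopyCategory.Plus.quotient A).obj L)) := inferInstance
  have hj : HomotopyCategory.Plus.quasiIso A j := by
    change HomotopyCategory.quasiIso A _ ((HomotopyCategory.quotient A _).map φ.hom)
    rw [HomotopyCategory.quotient_map_mem_quasiIso_iff, HomologicalComplex.mem_quasiIso_iff]
    exact hφ
  have h2 : IsIso (DerivedCategory.Plus.Qh.map j) :=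
    Localization.inverts DerivedCategory.Plus.Qh (HomotopyCategory.Plus.quasiIso A) j hj
  have h3 : IsIso ((DerivedCategory.Plus.Qh ⋙ F.rightDerivedFunctorPlus).map j) := by
    rw [Functor.comp_map]; infer_instance
  have h4 : IsIso (η.app ((HomotopyCategory.Plus.quotient A).obj K)) ↔
      IsIso ((F.mapHomotopyCategoryPlus ⋙ DerivedCategory.Plus.Qh).map j) := by
    constructor
    · intro h
      have : IsIso ((F.mapHomotopyCategoryPlus ⋙ DerivedCategory.Plus.Qh).map j ≫
          η.app ((HomotopyCategory.Plus.quotient A).obj L)) := by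
        rw [nat]; infer_instance
      exact IsIso.of_isIso_comp_right _ (η.app ((HomotopyCategory.Plus.quotient A).obj L))
    · intro h
      have : IsIso (η.app ((HomotopyCategory.Plus.quotient A).obj K) ≫
          (DerivedCategory.Plus.Qh ⋙ F.rightDerivedFunctorPlus).map j) := by
        rw [← nat]; infer_instance
      exact IsIso.of_isIso_comp_right _
        ((DerivedCategory.Plus.Qh ⋙ F.rightDerivedFunctorPlus).map j)
  rw [h4]
  exact isIso_Qh_map_quotient_map_iff (F.mapCochainComplexPlus.map φ)

end MapExtend

end Groth.Agent.Lib.helper27
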