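import Mathlib
import Groth.Prelude.Def_RDerDelta
import Groth.Agent.Lib.Helper27.Leray2
import Groth.Agent.Lib.Helper27.MapExtend3

set_option linter.unusedSectionVars false
set_option linter.unusedVariables false

namespace Groth.Agent.Lib.helper27

open CategoryTheory Limits

universe w w' v u v' u'

namespace Leray

variable {A : Type u} [Category.{v} A] [Abelian A]

lemma quasiIso_iff_acyclic_mappingCone {K L : CochainComplex A ℤ} (φ : K ⟶ L) :
    QuasiIso φ ↔ (CochainComplex.mappingCone φ).Acyclic := by
  rw [← HomologicalComplex.mem_quasiIso_iff, ← HomotopyCategory.quotient_map_mem_quasiIso_iff,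
    HomotopyCategory.quasiIso_eq_trW_subcategoryAcyclic]
  exact ((HomotopyCategory.subcategoryAcyclic A).trW_iff_of_distinguished _
      (HomotopyCategory.mappingCone_triangleh_distinguished φ)).trans
    (HomotopyCategory.quotient_obj_mem_subcategoryAcyclic_iff_acyclic _)

variable [HasInjectiveResolutions A]
  {B : Type u'} [Category.{v'} B] [Abelian B] (F : A ⥤ B) [F.Additive] [PreservesFiniteLimits F]

theorem quasiIso_map_of_acyc {K L : CochainComplex A ℤ} (φ : K ⟶ L) [QuasiIso φ] (nK nL : ℤ)
    [K.IsStrictlyGE nK] [L.IsStrictlyGE nL] (hK : ∀ m, Acyc F (K.X m))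
    (hL : ∀ m, Acyc F (L.X m)) :
    QuasiIso ((F.mapHomologicalComplex (ComplexShape.up ℤ)).map φ) := by
  rw [quasiIso_iff_acyclic_mappingCone]
  have h0 : (CochainComplex.mappingCone φ).Acyclic :=
    (quasiIso_iff_acyclic_mappingCone φ).1 inferInstance
  have : (CochainComplex.mappingCone φ).IsStrictlyGE (min (nK - 1) nL) :=
    CochainComplex.isStrictlyGE_mappingCone φ nK nL _ (by
      have := min_le_left (nK - 1) nL; omega) (min_le_right _ _)
  have hterm : ∀ m, Acyc F ((CochainComplex.mappingCone φ).X m) := by
    intro m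
    exact acyc_of_iso F (HomologicalComplex.homotopyCofiber.XIsoBiprod φ m (m + 1) rfl).symm
      (acyc_biprod F _ _ (hK _) (hL _))
  have h1 := map_acyclic F (CochainComplex.mappingCone φ) (min (nK - 1) nL) h0 hterm
  intro j
  exact (h1 j).of_iso (CochainComplex.mappingCone.mapHomologicalComplexIso φ F)

variable [HasDerivedCategory.{w} A] [HasDerivedCategory.{w'} B] [EnoughInjectives A]

/-- Leray's acyclicity lemma -/
theorem leray (K : CochainComplex.Plus A)
    (hK : ∀ (m : ℤ) (i : ℕ), 0 < i → IsZero ((F.rightDerived i).obj (K.obj.X m))) :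
    IsIso (F.rightDerivedFunctorPlusUnit.app ((HomotopyCategory.Plus.quotient A).obj K)) := by
  obtain ⟨n, hn⟩ := K.property
  have : K.obj.IsStrictlyGE n := hn
  obtain ⟨L, hL, i, hi⟩ := CochainComplex.Plus.exists_quasiIso_injective K n
  have hinj : ∀ m, Injective (((InjectiveObject.ι A).mapCochainComplexPlus.obj L).obj.X m) :=
    fun m => (L.obj.X m).property
  have hq : QuasiIso i.hom := hi
  rw [MapExtend.isIso_unit_iff F i hq]
  have : (((InjectiveObject.ι A).mapCochainComplexPlus.obj L).obj).IsStrictlyGE n :=
    inferInstanceAs (CochainComplex.IsStrictlyGE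
      (((InjectiveObject.ι A).mapHomologicalComplex _).obj L.obj) n)
  exact quasiIso_map_of_acyc F i.hom n n hK (fun m => acyc_of_injective F _)

end Leray

end Groth.Agent.Lib.helper27
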