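import Mathlib
import Groth.Prelude.Def_DeltaF

set_option linter.unusedSectionVars false

namespace Groth.Agent.Lib.helper27

open CategoryTheory Limits DeltaF

universe v u v' u'

section deltaF

variable {A : Type u} [Category.{v} A] [Abelian A] {B : Type u'} [Category.{v'} B] [Abelian B]

/-- the short exact sequence `0 ⟶ X ⟶ Y ⟶ coker u ⟶ 0` of a monomorphism -/
noncomputable def cokerSES {X Y : A} (u : X ⟶ Y) : ShortComplex A :=
  ShortComplex.mk u (cokernel.π u) (cokernel.condition u)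

lemma cokerSES_shortExact {X Y : A} (u : X ⟶ Y) [Mono u] : (cokerSES u).ShortExact :=
  ShortComplex.ShortExact.mk' (ShortComplex.exact_cokernel u) (by dsimp [cokerSES]; infer_instance)
    (by dsimp [cokerSES]; infer_instance)

/-- morphisms between cokernel sequences -/
noncomputable def cokerSESMap {X Y X' Y' : A} (u : X ⟶ Y) (u' : X' ⟶ Y') (f : X ⟶ X') (g : Y ⟶ Y')
    (w : u ≫ g = f ≫ u') : cokerSES u ⟶ cokerSES u' where
  τ₁ := f
  τ₂ := g
  τ₃ := cokernel.map u u' f g w
  comm₁₂ := w.symm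
  comm₂₃ := by dsimp [cokerSES]; simp

/-- a morphism from a short exact sequence to a cokernel sequence -/
noncomputable def toCokerSES (S : ShortComplex A) (hS : S.ShortExact) {Y' : A} (u' : S.X₁ ⟶ Y')
    (g : S.X₂ ⟶ Y') (w : S.f ≫ g = u') : S ⟶ cokerSES u' :=
  have := hS.epi_g
  { τ₁ := 𝟙 _
    τ₂ := g
    τ₃ := hS.exact.desc (g ≫ cokernel.π u') (by
      show S.f ≫ g ≫ cokernel.π u' = 0
      rw [← Category.assoc, w]; exact cokernel.condition u')
    comm₁₂ := by
      show 𝟙 _ ≫ u' = S.f ≫ g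
      rw [Category.id_comp, w]
    comm₂₃ := by
      show g ≫ cokernel.π u' = S.g ≫ hS.exact.desc (g ≫ cokernel.π u') _
      rw [ShortComplex.Exact.g_desc] }

variable (T T' : CohDeltaFunctor A B ℕ)

/-- the map in degree `n+1` induced by `σ` in degree `n` on an effacing short exact sequence -/
noncomputable def stepMap (n : ℕ) (σ : T.F n ⟶ T'.F n) (S : ShortComplex A) (hS : S.ShortExact)
    (h0 : (T.F (n + 1)).map S.f = 0) : (T.F (n + 1)).obj S.X₁ ⟶ (T'.F (n + 1)).obj S.X₁ :=
  have : Epi (T.δ S hS n (n + 1) rfl) := (T.exact₁ S hS n (n + 1) rfl).epi_f h0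
  have : Epi (ShortComplex.mk _ _ (T.comp_δ S hS n (n + 1) rfl)).g := this
  (T.exact₃ S hS n (n + 1) rfl).desc (σ.app S.X₃ ≫ T'.δ S hS n (n + 1) rfl) (by
    show (T.F n).map S.g ≫ σ.app S.X₃ ≫ T'.δ S hS n (n + 1) rfl = 0
    rw [← Category.assoc, σ.naturality, Category.assoc, T'.comp_δ, comp_zero])

lemma epi_δ_of_eff (n : ℕ) (S : ShortComplex A) (hS : S.ShortExact)
    (h0 : (T.F (n + 1)).map S.f = 0) : Epi (T.δ S hS n (n + 1) rfl) :=
  (T.exact₁ S hS n (n + 1) rfl).epi_f h0

lemma δ_stepMap (n : ℕ) (σ : T.F n ⟶ T'.F n) (S : ShortComplex A) (hS : S.ShortExact)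
    (h0 : (T.F (n + 1)).map S.f = 0) :
    T.δ S hS n (n + 1) rfl ≫ stepMap T T' n σ S hS h0 =
      σ.app S.X₃ ≫ T'.δ S hS n (n + 1) rfl := by
  have : Epi (T.δ S hS n (n + 1) rfl) := epi_δ_of_eff T n S hS h0
  have : Epi (ShortComplex.mk _ _ (T.comp_δ S hS n (n + 1) rfl)).g := this
  exact (T.exact₃ S hS n (n + 1) rfl).g_desc _ _

/-- Key lemma: compatibility of `stepMap` with morphisms of effacing sequences -/
lemma stepMap_natural (n : ℕ) (σ : T.F n ⟶ T'.F n) {S S' : ShortComplex A} (hS : S.ShortExact)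
    (hS' : S'.ShortExact) (h0 : (T.F (n + 1)).map S.f = 0) (h0' : (T.F (n + 1)).map S'.f = 0)
    (φ : S ⟶ S') :
    stepMap T T' n σ S hS h0 ≫ (T'.F (n + 1)).map φ.τ₁ =
      (T.F (n + 1)).map φ.τ₁ ≫ stepMap T T' n σ S' hS' h0' := by
  have : Epi (T.δ S hS n (n + 1) rfl) := epi_δ_of_eff T n S hS h0
  rw [← cancel_epi (T.δ S hS n (n + 1) rfl), ← Category.assoc, δ_stepMap, Category.assoc,
    ← T'.δ_natural hS hS' φ n (n + 1) rfl, ← Category.assoc, ← σ.naturality, Category.assoc,
    ← δ_stepMap T T' n σ S' hS' h0', ← Category.assoc, T.δ_natural hS hS' φ n (n + 1) rfl,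
    Category.assoc]

/-- compatibility of `stepMap` with the connecting morphism of an arbitrary short exact sequence
mapping to an effacing one -/
lemma δ_stepMap_of_map (n : ℕ) (σ : T.F n ⟶ T'.F n) {S E : ShortComplex A} (hS : S.ShortExact)
    (hE : E.ShortExact) (h0 : (T.F (n + 1)).map E.f = 0) (ψ : S ⟶ E) :
    T.δ S hS n (n + 1) rfl ≫ (T.F (n + 1)).map ψ.τ₁ ≫ stepMap T T' n σ E hE h0 =
      σ.app S.X₃ ≫ T'.δ S hS n (n + 1) rfl ≫ (T'.F (n + 1)).map ψ.τ₁ := by
  rw [← Category.assoc, ← T.δ_natural hS hE ψ n (n + 1) rfl, Category.assoc, δ_stepMap,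
    ← Category.assoc, σ.naturality, Category.assoc, T'.δ_natural hS hE ψ n (n + 1) rfl]

section eff

variable {T}
variable (hT : T.IsEffaceable)

/-- chosen effacing object -/
noncomputable def effObj (n : ℕ) (X : A) : A := (hT n X).choose

/-- chosen effacing monomorphism -/
noncomputable def effMap (n : ℕ) (X : A) : X ⟶ effObj hT n X := (hT n X).choose_spec.choose

instance (n : ℕ) (X : A) : Mono (effMap hT n X) := (hT n X).choose_spec.choose_spec.1

lemma effMap_eff (n : ℕ) (X : A) : (T.F (n + 1)).map (effMap hT n X) = 0 :=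
  (hT n X).choose_spec.choose_spec.2

/-- the step natural transformation on objects -/
noncomputable def stepApp (n : ℕ) (σ : T.F n ⟶ T'.F n) (X : A) :
    (T.F (n + 1)).obj X ⟶ (T'.F (n + 1)).obj X :=
  stepMap T T' n σ (cokerSES (effMap hT n X)) (cokerSES_shortExact _) (effMap_eff hT n X)

/-- independence of the effacement -/
lemma stepApp_eq (n : ℕ) (σ : T.F n ⟶ T'.F n) (X : A) {Y : A} (w : X ⟶ Y) [Mono w]
    (hw : (T.F (n + 1)).map w = 0) (g : effObj hT n X ⟶ Y) (hg : effMap hT n X ≫ g = w) :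
    stepApp T' hT n σ X = stepMap T T' n σ (cokerSES w) (cokerSES_shortExact _) hw := by
  have := stepMap_natural T T' n σ (cokerSES_shortExact (effMap hT n X)) (cokerSES_shortExact w)
    (effMap_eff hT n X) hw (cokerSESMap (effMap hT n X) w (𝟙 X) g (by rw [hg, Category.id_comp]))
  change _ ≫ (T'.F (n + 1)).map (𝟙 X) = (T.F (n + 1)).map (𝟙 X) ≫ _ at this
  rw [CategoryTheory.Functor.map_id, CategoryTheory.Functor.map_id, Category.comp_id,
    Category.id_comp] at this
  exact this

lemma stepApp_eq' (n : ℕ) (σ : T.F n ⟶ T'.F n) (X : A) {Y : A} (w : X ⟶ Y) [Mono w]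
    (hw : (T.F (n + 1)).map w = 0) (g : Y ⟶ effObj hT n X) (hg : w ≫ g = effMap hT n X) :
    stepApp T' hT n σ X = stepMap T T' n σ (cokerSES w) (cokerSES_shortExact _) hw := by
  have := stepMap_natural T T' n σ (cokerSES_shortExact w) (cokerSES_shortExact (effMap hT n X))
    hw (effMap_eff hT n X) (cokerSESMap w (effMap hT n X) (𝟙 X) g (by rw [hg, Category.id_comp]))
  change _ ≫ (T'.F (n + 1)).map (𝟙 X) = (T.F (n + 1)).map (𝟙 X) ≫ _ at this
  rw [CategoryTheory.Functor.map_id, CategoryTheory.Functor.map_id, Category.comp_id,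
    Category.id_comp] at this
  exact this.symm

lemma stepApp_natural (n : ℕ) (σ : T.F n ⟶ T'.F n) {X X' : A} (f : X ⟶ X') :
    (T.F (n + 1)).map f ≫ stepApp T' hT n σ X' = stepApp T' hT n σ X ≫ (T'.F (n + 1)).map f := by
  let v : X ⟶ effObj hT n X ⊞ effObj hT n X' := biprod.lift (effMap hT n X) (f ≫ effMap hT n X')
  have hv1 : v ≫ biprod.fst = effMap hT n X := biprod.lift_fst _ _
  have hv2 : v ≫ biprod.snd = f ≫ effMap hT n X' := biprod.lift_snd _ _
  have : Mono v := mono_of_mono_fac hv1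
  have hv : (T.F (n + 1)).map v = 0 := by
    have : v = effMap hT n X ≫ biprod.inl + (f ≫ effMap hT n X') ≫ biprod.inr := biprod.lift_eq
    rw [this, Functor.map_add, Functor.map_comp, Functor.map_comp, Functor.map_comp,
      effMap_eff, effMap_eff, zero_comp, comp_zero, zero_comp, add_zero]
  rw [stepApp_eq' T' hT n σ X v hv biprod.fst hv1]
  have := stepMap_natural T T' n σ (cokerSES_shortExact v) (cokerSES_shortExact (effMap hT n X'))
    hv (effMap_eff hT n X') (cokerSESMap v (effMap hT n X') f biprod.snd hv2)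
  exact this.symm

/-- the step natural transformation -/
noncomputable def stepNat (n : ℕ) (σ : T.F n ⟶ T'.F n) : T.F (n + 1) ⟶ T'.F (n + 1) where
  app X := stepApp T' hT n σ X
  naturality _ _ f := stepApp_natural T' hT n σ f

lemma δ_stepApp (n : ℕ) (σ : T.F n ⟶ T'.F n) (S : ShortComplex A) (hS : S.ShortExact) :
    T.δ S hS n (n + 1) rfl ≫ stepApp T' hT n σ S.X₁ = σ.app S.X₃ ≫ T'.δ S hS n (n + 1) rfl := by
  have := hS.mono_f
  let w : S.X₁ ⟶ pushout S.f (effMap hT n S.X₁) := effMap hT n S.X₁ ≫ pushout.inr _ _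
  have : Mono (pushout.inr S.f (effMap hT n S.X₁)) := inferInstance
  have : Mono w := mono_comp _ _
  have hw : (T.F (n + 1)).map w = 0 := by
    rw [Functor.map_comp, effMap_eff, zero_comp]
  rw [stepApp_eq T' hT n σ S.X₁ w hw (pushout.inr _ _) rfl]
  have := δ_stepMap_of_map T T' n σ hS (cokerSES_shortExact w) hw
    (toCokerSES S hS w (pushout.inl _ _) pushout.condition)
  change _ ≫ (T.F (n + 1)).map (𝟙 _) ≫ _ = _ ≫ _ ≫ (T'.F (n + 1)).map (𝟙 _) at this
  rw [CategoryTheory.Functor.map_id, CategoryTheory.Functor.map_id, Category.comp_id,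
    Category.id_comp] at this
  exact this

/-- the family of natural transformations extending `t` -/
noncomputable def extApp (t : T.F 0 ⟶ T'.F 0) : ∀ n, T.F n ⟶ T'.F n
  | 0 => t
  | n + 1 => stepNat T' hT n (extApp t n)

/-- the morphism of delta-functors extending `t` -/
noncomputable def extHom (t : T.F 0 ⟶ T'.F 0) : T ⟶ T' where
  app := extApp T' hT t
  comm S hS n₀ n₁ h := by
    subst h
    exact δ_stepApp T' hT n₀ (extApp T' hT t n₀) S hS

include hT in
theorem isUniversal_of_isEffaceable : T.IsUniversal := by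
  intro T' t
  refine ⟨extHom T' hT t, rfl, ?_⟩
  intro τ hτ
  have key : ∀ (τ₁ τ₂ : T ⟶ T'), τ₁.app 0 = τ₂.app 0 → ∀ n, τ₁.app n = τ₂.app n := by
    intro τ₁ τ₂ h n
    induction n with
    | zero => exact h
    | succ n ih =>
      ext X
      have := epi_δ_of_eff T n (cokerSES (effMap hT n X)) (cokerSES_shortExact _)
        (effMap_eff hT n X)
      apply (cancel_epi (T.δ (cokerSES (effMap hT n X)) (cokerSES_shortExact _) n (n + 1) rfl)).1
      have e1 := τ₁.comm (cokerSES (effMap hT n X)) (cokerSES_shortExact _) n (n + 1) rfl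
      have e2 := τ₂.comm (cokerSES (effMap hT n X)) (cokerSES_shortExact _) n (n + 1) rfl
      rw [ih] at e1
      exact e1.trans e2.symm
  apply CohDeltaFunctor.hom_ext
  exact key τ (extHom T' hT t) (hτ.trans rfl)

end eff

end deltaF

end Groth.Agent.Lib.helper27
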