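import Mathlib
import Groth.Agent.Lib.Helper27.Horseshoe7
import Groth.Agent.Lib.Helper27.DeltaF

set_option autoImplicit false

namespace Groth.Agent.Lib.helper27

open CategoryTheory Limits

universe v u v' u' v'' u''

namespace DeltaSeq

variable {A : Type u} [Category.{v} A] [Abelian A] {B : Type u'} [Category.{v'} B] [Abelian B]

/-- A sequence of functors with (not necessarily natural) connecting maps giving long exact
sequences, vanishing on injectives in positive degrees. -/
structure IsExSeq (T : ℕ → A ⥤ B) : Prop where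
  ex : ∀ (S : ShortComplex A), S.ShortExact → ∀ i : ℕ,
    ∃ (δ : (T i).obj S.X₃ ⟶ (T (i + 1)).obj S.X₁)
      (h1 : (T i).map S.g ≫ δ = 0) (h2 : δ ≫ (T (i + 1)).map S.f = 0),
      (ShortComplex.mk _ _ h1).Exact ∧ (ShortComplex.mk _ _ h2).Exact
  vanish : ∀ (I : A), Injective I → ∀ i : ℕ, IsZero ((T (i + 1)).obj I)

variable {T T' : ℕ → A ⥤ B}

lemma shift_iso (hT : IsExSeq T) (S : ShortComplex A) (hS : S.ShortExact) (hI : Injective S.X₂)
    (i : ℕ) : Nonempty ((T (i + 1)).obj S.X₃ ≅ (T (i + 2)).obj S.X₁) := by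
  obtain ⟨δ, h1, h2, e1, e2⟩ := hT.ex S hS (i + 1)
  have hm : Mono δ := e1.mono_g ((hT.vanish _ hI i).eq_of_src _ _)
  have he : Epi δ := e2.epi_f ((hT.vanish _ hI (i + 1)).eq_of_tgt _ _)
  have : IsIso δ := isIso_of_mono_of_epi δ
  exact ⟨asIso δ⟩

lemma one_iso (hT : IsExSeq T) (S : ShortComplex A) (hS : S.ShortExact) (hI : Injective S.X₂) :
    Nonempty ((T 1).obj S.X₁ ≅ cokernel ((T 0).map S.g)) := by
  obtain ⟨δ, h1, h2, e1, e2⟩ := hT.ex S hS 0
  have he : Epi δ := e2.epi_f ((hT.vanish _ hI 0).eq_of_tgt _ _)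
  have : Epi (ShortComplex.mk _ _ h1).g := he
  have hc : IsColimit (CokernelCofork.ofπ δ h1) := e1.gIsCokernel
  exact ⟨IsColimit.coconePointUniqueUpToIso hc (colimit.isColimit _)⟩

variable [EnoughInjectives A]

theorem iso_succ (hT : IsExSeq T) (hT' : IsExSeq T') (e : T 0 ≅ T' 0) :
    ∀ (i : ℕ) (X : A), Nonempty ((T (i + 1)).obj X ≅ (T' (i + 1)).obj X) := by
  intro i
  induction i with
  | zero =>
    intro X
    have hS : (cokerSES (Injective.ι X)).ShortExact := cokerSES_shortExact _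
    have hI : Injective (cokerSES (Injective.ι X)).X₂ :=
      inferInstanceAs (Injective (Injective.under X))
    obtain ⟨a⟩ := one_iso hT _ hS hI
    obtain ⟨b⟩ := one_iso hT' _ hS hI
    exact ⟨a ≪≫ cokernel.mapIso _ _ (e.app _) (e.app _) (e.hom.naturality _) ≪≫ b.symm⟩
  | succ i ih =>
    intro X
    have hS : (cokerSES (Injective.ι X)).ShortExact := cokerSES_shortExact _
    have hI : Injective (cokerSES (Injective.ι X)).X₂ :=
      inferInstanceAs (Injective (Injective.under X))
    obtain ⟨a⟩ := shift_iso hT _ hS hI i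
    obtain ⟨b⟩ := shift_iso hT' _ hS hI i
    obtain ⟨c⟩ := ih (cokerSES (Injective.ι X)).X₃
    exact ⟨a.symm ≪≫ c ≪≫ b⟩

theorem iso (hT : IsExSeq T) (hT' : IsExSeq T') (e : T 0 ≅ T' 0) (i : ℕ) (X : A) :
    Nonempty ((T i).obj X ≅ (T' i).obj X) := by
  cases i with
  | zero => exact ⟨e.app X⟩
  | succ i => exact iso_succ hT hT' e i X

omit [EnoughInjectives A] in
lemma IsExSeq.comp {B' : Type u''} [Category.{v''} B'] [Abelian B'] (hT : IsExSeq T)
    (E : B ⥤ B') [E.Additive] [PreservesFiniteLimits E] [PreservesFiniteColimits E] :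
    IsExSeq (fun i => T i ⋙ E) where
  ex S hS i := by
    obtain ⟨δ, h1, h2, e1, e2⟩ := hT.ex S hS i
    refine ⟨E.map δ, ?_, ?_, ?_, ?_⟩
    · dsimp; rw [← E.map_comp, h1, E.map_zero]
    · dsimp; rw [← E.map_comp, h2, E.map_zero]
    · exact e1.map E
    · exact e2.map E
  vanish I hI i := E.map_isZero (hT.vanish I hI i)

omit [EnoughInjectives A] in
lemma IsExSeq.precomp {A' : Type u''} [Category.{v''} A'] [Abelian A'] (hT : IsExSeq T)
    (R : A' ⥤ A) [R.Additive] [PreservesFiniteLimits R] [PreservesFiniteColimits R]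
    (hR : ∀ I : A', Injective I → ∀ i : ℕ, IsZero ((T (i + 1)).obj (R.obj I))) :
    IsExSeq (fun i => R ⋙ T i) where
  ex S hS i := hT.ex (S.map R) (hS.map_of_exact R) i
  vanish I hI i := hR I hI i

lemma isExSeq_rightDerived (F : A ⥤ B) [F.Additive] :
    IsExSeq (fun i => F.rightDerived i) where
  ex S hS i :=
    ⟨(Horseshoe.derivedLES F).δ S hS i (i + 1) rfl, (Horseshoe.derivedLES F).comp_δ S hS i (i + 1) rfl,
      (Horseshoe.derivedLES F).δ_comp S hS i (i + 1) rfl,
      (Horseshoe.derivedLES F).exact₃ S hS i (i + 1) rfl,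
      (Horseshoe.derivedLES F).exact₁ S hS i (i + 1) rfl⟩
  vanish I hI i := F.isZero_rightDerived_obj_injective_succ i I

/-- **Lemma U**: a sequence of functors with long exact sequences, vanishing on injectives in
positive degrees and starting with the left exact functor `F`, computes the right derived functors
of `F` objectwise. -/
theorem rightDerived_iso (F : A ⥤ B) [F.Additive] [PreservesFiniteLimits F] (hT : IsExSeq T)
    (e : T 0 ≅ F) (i : ℕ) (X : A) : Nonempty ((F.rightDerived i).obj X ≅ (T i).obj X) :=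
  iso (isExSeq_rightDerived F) hT (F.rightDerivedZeroIsoSelf ≪≫ e.symm) i X

end DeltaSeq

end Groth.Agent.Lib.helper27
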