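import Mathlib
import Groth.Agent.Lib.Helper27.DeltaSeq

set_option autoImplicit false

namespace Groth.Agent.Lib.helper27

open CategoryTheory Limits Abelian Opposite

universe w v u v' u'

namespace ExtPsh

lemma exact_of_evaluation {D : Type u} [Category.{v} D] {B : Type u'} [Category.{v'} B] [Abelian B]
    (S : ShortComplex (D ⥤ B)) (h : ∀ W : D, (S.map ((evaluation D B).obj W)).Exact) : S.Exact := by
  rw [ShortComplex.exact_iff_isZero_homology, Functor.isZero_iff]
  intro W
  have := h W
  rw [ShortComplex.exact_iff_isZero_homology] at this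
  exact this.of_iso (S.mapHomologyIso ((evaluation D B).obj W)).symm

variable {𝒜 : Type u} [Category.{v} 𝒜] [Abelian 𝒜] [HasExt.{w} 𝒜]
  {C : Type u'} [Category.{v'} C] (G : C ⥤ 𝒜)

/-- the functor `F ↦ (W ↦ Ext^n(G W, F))` -/
noncomputable abbrev Tp (n : ℕ) : 𝒜 ⥤ Cᵒᵖ ⥤ AddCommGrpCat.{w} := (G.op ⋙ extFunctor n).flip

/-- the connecting map of presheaves -/
noncomputable def δp {S : ShortComplex 𝒜} (hS : S.ShortExact) (n : ℕ) :
    (Tp G n).obj S.X₃ ⟶ (Tp G (n + 1)).obj S.X₁ where
  app W := AddCommGrpCat.ofHom (hS.extClass.postcomp (G.obj W.unop) rfl)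
  naturality W W' f := by
    apply AddCommGrpCat.hom_ext
    apply AddMonoidHom.ext
    intro x
    show ((Ext.mk₀ (G.map f.unop)).comp x (zero_add _)).comp hS.extClass rfl =
      (Ext.mk₀ (G.map f.unop)).comp (x.comp hS.extClass rfl) (zero_add _)
    apply Ext.comp_assoc
    all_goals lia

theorem isExSeq_Tp : DeltaSeq.IsExSeq (Tp G) where
  ex S hS i := by
    refine ⟨δp G hS i, ?_, ?_, ?_, ?_⟩
    · apply NatTrans.ext
      funext W
      apply AddCommGrpCat.hom_ext
      apply AddMonoidHom.ext
      intro x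
      show (x.comp (Ext.mk₀ S.g) (add_zero _)).comp hS.extClass rfl = 0
      simp
    · apply NatTrans.ext
      funext W
      apply AddCommGrpCat.hom_ext
      apply AddMonoidHom.ext
      intro x
      show (x.comp hS.extClass rfl).comp (Ext.mk₀ S.f) (add_zero _) = 0
      simp
    · apply exact_of_evaluation
      intro W
      exact Ext.covariant_sequence_exact₃' (G.obj W.unop) hS i (i + 1) rfl
    · apply exact_of_evaluation
      intro W
      exact Ext.covariant_sequence_exact₁' (G.obj W.unop) hS i (i + 1) rfl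
  vanish I hI i := by
    rw [Functor.isZero_iff]
    intro W
    have : Subsingleton (Ext.{w} (G.obj W.unop) I (i + 1)) :=
      subsingleton_of_forall_eq 0 fun x ↦ (Ext.eq_zero_of_injective x)
    exact AddCommGrpCat.isZero_of_subsingleton (AddCommGrpCat.of (Ext.{w} (G.obj W.unop) I (i + 1)))

/-- `F ↦ Ext^n(P, F)` is an exact sequence of functors -/
theorem isExSeq_ext (P : 𝒜) : DeltaSeq.IsExSeq (fun n => (extFunctor.{w} n).obj (op P)) where
  ex S hS i := by
    refine ⟨AddCommGrpCat.ofHom (hS.extClass.postcomp P rfl), ?_, ?_, ?_, ?_⟩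
    · apply AddCommGrpCat.hom_ext
      apply AddMonoidHom.ext
      intro x
      show (x.comp (Ext.mk₀ S.g) (add_zero _)).comp hS.extClass rfl = 0
      simp
    · apply AddCommGrpCat.hom_ext
      apply AddMonoidHom.ext
      intro x
      show (x.comp hS.extClass rfl).comp (Ext.mk₀ S.f) (add_zero _) = 0
      simp
    · exact Ext.covariant_sequence_exact₃' P hS i (i + 1) rfl
    · exact Ext.covariant_sequence_exact₁' P hS i (i + 1) rfl
  vanish I hI i := by
    have : Subsingleton (Ext.{w} P I (i + 1)) :=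
      subsingleton_of_forall_eq 0 fun x ↦ (Ext.eq_zero_of_injective x)
    exact AddCommGrpCat.isZero_of_subsingleton (AddCommGrpCat.of (Ext.{w} P I (i + 1)))

end ExtPsh

end Groth.Agent.Lib.helper27
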