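import Mathlib
import Groth.Prelude.Def_SpSeq

set_option autoImplicit false

namespace Groth.Agent.Lib.helper27

open CategoryTheory Limits ComposableArrows Abelian

universe v u v' u'

namespace SSAbut

variable {C : Type u} [Category.{v} C] [Abelian C] {ι : Type u'} [Category.{v'} ι]
  (X : Abelian.SpectralObject C ι)

section

variable {i j k l : ι} (f₁ : i ⟶ j) (f₂ : j ⟶ k) (f₃ : k ⟶ l)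
  (f₁₂ : i ⟶ k) (h₁₂ : f₁ ≫ f₂ = f₁₂) (f₂₃ : j ⟶ l) (h₂₃ : f₂ ≫ f₃ = f₂₃)
  (f₁₂₃ : i ⟶ l) (h₁₂₃ : f₁₂ ≫ f₃ = f₁₂₃)
  (n₀ n₁ n₂ : ℤ) (hn₁ : n₀ + 1 = n₁) (hn₂ : n₁ + 1 = n₂)
  {H' : C} (m : (X.H n₁).obj (mk₁ f₁₂₃) ⟶ H') [Mono m]

/-- the map `H^n(f₁) ⟶ H'` -/
noncomputable def ψa : (X.H n₁).obj (mk₁ f₁) ⟶ H' :=
  (X.H n₁).map (twoδ₂Toδ₁ f₁ f₂₃ f₁₂₃ (by rw [← h₂₃, ← h₁₂₃, ← h₁₂, Category.assoc])) ≫ m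

/-- the map `H^n(f₁₂) ⟶ H'` -/
noncomputable def ψb : (X.H n₁).obj (mk₁ f₁₂) ⟶ H' :=
  (X.H n₁).map (twoδ₂Toδ₁ f₁₂ f₃ f₁₂₃ h₁₂₃) ≫ m

lemma c_ψb : (X.H n₁).map (twoδ₂Toδ₁ f₁ f₂ f₁₂ h₁₂) ≫ ψb X f₃ f₁₂ f₁₂₃ h₁₂₃ n₁ m =
    ψa X f₁ f₂ f₃ f₁₂ h₁₂ f₂₃ h₂₃ f₁₂₃ h₁₂₃ n₁ m := by
  dsimp only [ψa, ψb]
  rw [← Category.assoc, ← Functor.map_comp]
  congr 2
  ext
  · exact Category.comp_id _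
  · exact h₂₃

lemma le : imageSubobject (ψa X f₁ f₂ f₃ f₁₂ h₁₂ f₂₃ h₂₃ f₁₂₃ h₁₂₃ n₁ m) ≤
    imageSubobject (ψb X f₃ f₁₂ f₁₂₃ h₁₂₃ n₁ m) := by
  rw [← c_ψb X f₁ f₂ f₃ f₁₂ h₁₂ f₂₃ h₂₃ f₁₂₃ h₁₂₃ n₁ m]
  exact imageSubobject_comp_le _ _

/-- the projection `H^n(f₁₂) ⟶ V(f₁₂)/V(f₁)` -/
noncomputable def ρ : (X.H n₁).obj (mk₁ f₁₂) ⟶
    cokernel ((imageSubobject (ψa X f₁ f₂ f₃ f₁₂ h₁₂ f₂₃ h₂₃ f₁₂₃ h₁₂₃ n₁ m)).ofLE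
      (imageSubobject (ψb X f₃ f₁₂ f₁₂₃ h₁₂₃ n₁ m)) (le X f₁ f₂ f₃ f₁₂ h₁₂ f₂₃ h₂₃ f₁₂₃ h₁₂₃ n₁ m)) :=
  factorThruImageSubobject (ψb X f₃ f₁₂ f₁₂₃ h₁₂₃ n₁ m) ≫ cokernel.π _

instance : Epi (ρ X f₁ f₂ f₃ f₁₂ h₁₂ f₂₃ h₂₃ f₁₂₃ h₁₂₃ n₁ m) := by
  dsimp only [ρ]; infer_instance

lemma c_factor : (X.H n₁).map (twoδ₂Toδ₁ f₁ f₂ f₁₂ h₁₂) ≫
      factorThruImageSubobject (ψb X f₃ f₁₂ f₁₂₃ h₁₂₃ n₁ m) =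
    factorThruImageSubobject (ψa X f₁ f₂ f₃ f₁₂ h₁₂ f₂₃ h₂₃ f₁₂₃ h₁₂₃ n₁ m) ≫
      (imageSubobject (ψa X f₁ f₂ f₃ f₁₂ h₁₂ f₂₃ h₂₃ f₁₂₃ h₁₂₃ n₁ m)).ofLE
      (imageSubobject (ψb X f₃ f₁₂ f₁₂₃ h₁₂₃ n₁ m)) (le X f₁ f₂ f₃ f₁₂ h₁₂ f₂₃ h₂₃ f₁₂₃ h₁₂₃ n₁ m) := by
  rw [← cancel_mono (imageSubobject (ψb X f₃ f₁₂ f₁₂₃ h₁₂₃ n₁ m)).arrow]
  simp only [Category.assoc, imageSubobject_arrow_comp, Subobject.ofLE_arrow]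
  exact c_ψb X f₁ f₂ f₃ f₁₂ h₁₂ f₂₃ h₂₃ f₁₂₃ h₁₂₃ n₁ m

lemma δ_factor : X.δ f₁₂ f₃ n₀ n₁ hn₁ ≫
      factorThruImageSubobject (ψb X f₃ f₁₂ f₁₂₃ h₁₂₃ n₁ m) = 0 := by
  rw [← cancel_mono (imageSubobject (ψb X f₃ f₁₂ f₁₂₃ h₁₂₃ n₁ m)).arrow]
  simp only [Category.assoc, imageSubobject_arrow_comp, zero_comp]
  dsimp only [ψb]
  rw [← Category.assoc, X.zero₁ f₁₂ f₃ f₁₂₃ h₁₂₃ n₀ n₁ hn₁, zero_comp]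

lemma φ_ρ : biprod.desc ((X.H n₁).map (twoδ₂Toδ₁ f₁ f₂ f₁₂ h₁₂)) (X.δ f₁₂ f₃ n₀ n₁ hn₁) ≫
    ρ X f₁ f₂ f₃ f₁₂ h₁₂ f₂₃ h₂₃ f₁₂₃ h₁₂₃ n₁ m = 0 := by
  dsimp only [ρ]
  apply biprod.hom_ext'
  · rw [biprod.inl_desc_assoc, comp_zero]
    rw [← Category.assoc, c_factor X f₁ f₂ f₃ f₁₂ h₁₂ f₂₃ h₂₃ f₁₂₃ h₁₂₃ n₁ m, Category.assoc,
      cokernel.condition, comp_zero]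
  · rw [biprod.inr_desc_assoc, comp_zero]
    rw [← Category.assoc, δ_factor X f₃ f₁₂ f₁₂₃ h₁₂₃ n₀ n₁ hn₁ m, zero_comp]

/-- the short complex `H^n(f₁) ⊞ H^{n-1}(f₃) ⟶ H^n(f₁₂) ⟶ V(f₁₂)/V(f₁)` -/
noncomputable def sc : ShortComplex C :=
  ShortComplex.mk _ _ (φ_ρ X f₁ f₂ f₃ f₁₂ h₁₂ f₂₃ h₂₃ f₁₂₃ h₁₂₃ n₀ n₁ hn₁ m)

instance : Epi (sc X f₁ f₂ f₃ f₁₂ h₁₂ f₂₃ h₂₃ f₁₂₃ h₁₂₃ n₀ n₁ hn₁ m).g := by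
  dsimp only [sc]; infer_instance

lemma sc_exact : (sc X f₁ f₂ f₃ f₁₂ h₁₂ f₂₃ h₂₃ f₁₂₃ h₁₂₃ n₀ n₁ hn₁ m).Exact := by
  rw [ShortComplex.exact_iff_exact_up_to_refinements]
  intro T x hx
  dsimp only [sc, ρ] at x hx
  obtain ⟨T₁, π₁, _, y, hy⟩ := (ShortComplex.exact_cokernel
    ((imageSubobject (ψa X f₁ f₂ f₃ f₁₂ h₁₂ f₂₃ h₂₃ f₁₂₃ h₁₂₃ n₁ m)).ofLE
      (imageSubobject (ψb X f₃ f₁₂ f₁₂₃ h₁₂₃ n₁ m))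
      (le X f₁ f₂ f₃ f₁₂ h₁₂ f₂₃ h₂₃ f₁₂₃ h₁₂₃ n₁ m))).exact_up_to_refinements
    (x ≫ factorThruImageSubobject (ψb X f₃ f₁₂ f₁₂₃ h₁₂₃ n₁ m))
    (by rw [Category.assoc]; exact hx)
  dsimp only at y hy
  obtain ⟨T₂, π₂, _, z, hz⟩ := surjective_up_to_refinements_of_epi
    (factorThruImageSubobject (ψa X f₁ f₂ f₃ f₁₂ h₁₂ f₂₃ h₂₃ f₁₂₃ h₁₂₃ n₁ m)) y
  let w := π₂ ≫ π₁ ≫ x - z ≫ (X.H n₁).map (twoδ₂Toδ₁ f₁ f₂ f₁₂ h₁₂)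
  have hw1 : w ≫ factorThruImageSubobject (ψb X f₃ f₁₂ f₁₂₃ h₁₂₃ n₁ m) = 0 := by
    dsimp only [w]
    rw [Preadditive.sub_comp, Category.assoc, Category.assoc, Category.assoc, hy,
      c_factor X f₁ f₂ f₃ f₁₂ h₁₂ f₂₃ h₂₃ f₁₂₃ h₁₂₃ n₁ m, ← Category.assoc π₂, hz,
      Category.assoc, sub_self]
  have hw2 : w ≫ (X.H n₁).map (twoδ₂Toδ₁ f₁₂ f₃ f₁₂₃ h₁₂₃) = 0 := by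
    rw [← cancel_mono m, zero_comp, Category.assoc]
    have := hw1 =≫ (imageSubobject (ψb X f₃ f₁₂ f₁₂₃ h₁₂₃ n₁ m)).arrow
    rw [Category.assoc, imageSubobject_arrow_comp, zero_comp] at this
    exact this
  obtain ⟨T₃, π₃, _, u, hu⟩ := (X.exact₁ f₁₂ f₃ f₁₂₃ h₁₂₃ n₀ n₁ hn₁).exact_up_to_refinements w hw2
  dsimp only [SpectralObject.sc₁] at u hu
  refine ⟨T₃, π₃ ≫ π₂ ≫ π₁, inferInstance, biprod.lift (π₃ ≫ z) u, ?_⟩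
  dsimp only [sc]
  rw [biprod.lift_desc, ← hu]
  dsimp only [w]
  rw [Preadditive.comp_sub, Category.assoc, Category.assoc, Category.assoc]
  abel

/-- `gr ≅ E`: the quotient `V(f₁₂)/V(f₁)` of the images in the abutment is `E^n(f₁,f₂,f₃)`. -/
noncomputable def grIso :
    cokernel ((imageSubobject (ψa X f₁ f₂ f₃ f₁₂ h₁₂ f₂₃ h₂₃ f₁₂₃ h₁₂₃ n₁ m)).ofLE
      (imageSubobject (ψb X f₃ f₁₂ f₁₂₃ h₁₂₃ n₁ m)) (le X f₁ f₂ f₃ f₁₂ h₁₂ f₂₃ h₂₃ f₁₂₃ h₁₂₃ n₁ m)) ≅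
    X.E f₁ f₂ f₃ n₀ n₁ n₂ hn₁ hn₂ :=
  IsColimit.coconePointUniqueUpToIso
    (sc_exact X f₁ f₂ f₃ f₁₂ h₁₂ f₂₃ h₂₃ f₁₂₃ h₁₂₃ n₀ n₁ hn₁ m).gIsCokernel
    (X.cokernelSequenceE_exact f₁ f₂ f₃ f₁₂ h₁₂ n₀ n₁ n₂ hn₁ hn₂).gIsCokernel

end

end SSAbut

end Groth.Agent.Lib.helper27
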