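import Mathlib
import Groth.Prelude.Def_SpSeq
import Groth.Agent.Lib.Helper27.SSGr

set_option autoImplicit false

namespace Groth.Agent.Lib.helper27

open CategoryTheory Limits ComposableArrows Abelian

universe v u

namespace SSAbut

variable {C : Type u} [Category.{v} C] [Abelian C] (X : Abelian.SpectralObject C EInt)

lemma thin {D D' : ComposableArrows EInt 1} (φ ψ : D ⟶ D') : φ = ψ := by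
  apply ComposableArrows.hom_ext₁ <;> apply Subsingleton.elim

lemma thin₃ {D D' : ComposableArrows EInt 3} (φ ψ : D ⟶ D') : φ = ψ := by
  apply ComposableArrows.hom_ext₃ <;> apply Subsingleton.elim

/-- changing the target index -/
lemma isIso_H_map_target (n₀ n₁ : ℤ) (hn : n₀ + 1 = n₁) (a b b' : EInt) (hab : a ≤ b)
    (hbb' : b ≤ b')
    (h₀ : IsZero ((X.H n₀).obj (mk₁ (homOfLE hbb'))))
    (h₁ : IsZero ((X.H n₁).obj (mk₁ (homOfLE hbb'))))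
    (φ : mk₁ (homOfLE hab) ⟶ mk₁ (homOfLE (hab.trans hbb'))) : IsIso ((X.H n₁).map φ) := by
  obtain rfl : φ = twoδ₂Toδ₁ (homOfLE hab) (homOfLE hbb') (homOfLE (hab.trans hbb')) rfl :=
    thin _ _
  have hm : Mono ((X.H n₁).map (twoδ₂Toδ₁ (homOfLE hab) (homOfLE hbb')
      (homOfLE (hab.trans hbb')) rfl)) :=
    (X.exact₁ (homOfLE hab) (homOfLE hbb') _ rfl n₀ n₁ hn).mono_g (h₀.eq_of_src _ _)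
  have he : Epi ((X.H n₁).map (twoδ₂Toδ₁ (homOfLE hab) (homOfLE hbb')
      (homOfLE (hab.trans hbb')) rfl)) :=
    (X.exact₂ (homOfLE hab) (homOfLE hbb') _ rfl n₁).epi_f (h₁.eq_of_tgt _ _)
  exact isIso_of_mono_of_epi _

/-- changing the source index -/
lemma isIso_H_map_source (n₀ n₁ : ℤ) (hn : n₀ + 1 = n₁) (a a' b : EInt) (haa' : a ≤ a')
    (ha'b : a' ≤ b)
    (h₀ : IsZero ((X.H n₀).obj (mk₁ (homOfLE haa'))))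
    (h₁ : IsZero ((X.H n₁).obj (mk₁ (homOfLE haa'))))
    (φ : mk₁ (homOfLE (haa'.trans ha'b)) ⟶ mk₁ (homOfLE ha'b)) : IsIso ((X.H n₀).map φ) := by
  obtain rfl : φ = twoδ₁Toδ₀' a a' b haa' ha'b := thin _ _
  exact X.isIso_H_map_twoδ₁Toδ₀' n₀ n₁ hn a a' b haa' ha'b h₀ h₁

lemma isIso_H_map_endo (n : ℤ) (D : ComposableArrows EInt 1) (φ : D ⟶ D) :
    IsIso ((X.H n).map φ) := by
  obtain rfl : φ = 𝟙 D := thin _ _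
  rw [CategoryTheory.Functor.map_id]; infer_instance

section

variable [X.IsFirstQuadrant] (n₀ n₁ n₂ : ℤ) (hn₁ : n₀ + 1 = n₁) (hn₂ : n₁ + 1 = n₂)
  (i₀ i₁ i₂ i₃ : EInt) (h₀₁ : i₀ ≤ i₁) (h₁₂ : i₁ ≤ i₂) (h₂₃ : i₂ ≤ i₃)

/-- the comparison morphism `(⊥ ≤ i₁ ≤ i₂ ≤ i₃) ⟶ (i₀ ≤ i₁ ≤ i₂ ≤ i₃)` -/
noncomputable def αS : mk₃ (homOfLE (bot_le : ⊥ ≤ i₁)) (homOfLE h₁₂) (homOfLE h₂₃) ⟶
    mk₃ (homOfLE h₀₁) (homOfLE h₁₂) (homOfLE h₂₃) :=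
  homMk₃ (homOfLE bot_le) (𝟙 _) (𝟙 _) (𝟙 _) (Subsingleton.elim _ _) (Subsingleton.elim _ _)
    (Subsingleton.elim _ _)

/-- the comparison morphism `(⊥ ≤ i₁ ≤ i₂ ≤ i₃) ⟶ (⊥ ≤ i₁ ≤ i₂ ≤ ⊤)` -/
noncomputable def αT : mk₃ (homOfLE (bot_le : ⊥ ≤ i₁)) (homOfLE h₁₂) (homOfLE h₂₃) ⟶
    mk₃ (homOfLE (bot_le : ⊥ ≤ i₁)) (homOfLE h₁₂) (homOfLE (le_top : i₂ ≤ ⊤)) :=
  homMk₃ (𝟙 _) (𝟙 _) (𝟙 _) (homOfLE le_top) (Subsingleton.elim _ _) (Subsingleton.elim _ _)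
    (Subsingleton.elim _ _)

lemma isIso_map_αS (hi₀ : i₀ ≤ ((0 : ℤ) : EInt)) :
    IsIso (X.map _ _ _ _ _ _ (αS i₀ i₁ i₂ i₃ h₀₁ h₁₂ h₂₃) n₀ n₁ n₂ hn₁ hn₂) := by
  refine X.isIso_map _ _ _ _ _ _ _ n₀ n₁ n₂ ?_ ?_ ?_ hn₁ hn₂
  · exact isIso_H_map_endo X n₀ _ _
  · exact isIso_H_map_endo X n₁ _ _
  · exact isIso_H_map_source X n₂ (n₂ + 1) rfl ⊥ i₀ i₁ bot_le h₀₁
      (X.isZero₁_of_isFirstQuadrant _ _ _ hi₀ _) (X.isZero₁_of_isFirstQuadrant _ _ _ hi₀ _) _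

lemma isIso_map_αT (hi₃ : ((n₀ : ℤ) : EInt) < i₃) :
    IsIso (X.map _ _ _ _ _ _ (αT i₁ i₂ i₃ h₁₂ h₂₃) n₀ n₁ n₂ hn₁ hn₂) := by
  refine X.isIso_map _ _ _ _ _ _ _ n₀ n₁ n₂ ?_ ?_ ?_ hn₁ hn₂
  · exact isIso_H_map_target X (n₀ - 1) n₀ (by lia) i₂ i₃ ⊤ h₂₃ le_top
      (X.isZero₂_of_isFirstQuadrant _ _ _ _ (lt_trans (WithBotTop.coe_lt_coe.2 (by lia)) hi₃))
      (X.isZero₂_of_isFirstQuadrant _ _ _ _ hi₃) _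
  · exact isIso_H_map_endo X n₁ _ _
  · exact isIso_H_map_endo X n₂ _ _

/-- stabilization: `E(i₀,i₁,i₂,i₃) ≅ E(⊥,i₁,i₂,⊤)` -/
noncomputable def EStabIso (hi₀ : i₀ ≤ ((0 : ℤ) : EInt)) (hi₃ : ((n₀ : ℤ) : EInt) < i₃) :
    X.E (homOfLE h₀₁) (homOfLE h₁₂) (homOfLE h₂₃) n₀ n₁ n₂ hn₁ hn₂ ≅
      X.E (homOfLE (bot_le : ⊥ ≤ i₁)) (homOfLE h₁₂) (homOfLE (le_top : i₂ ≤ ⊤)) n₀ n₁ n₂ hn₁ hn₂ :=
  (@asIso _ _ _ _ _ (isIso_map_αS X n₀ n₁ n₂ hn₁ hn₂ i₀ i₁ i₂ i₃ h₀₁ h₁₂ h₂₃ hi₀)).symm ≪≫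
    @asIso _ _ _ _ _ (isIso_map_αT X n₀ n₁ n₂ hn₁ hn₂ i₁ i₂ i₃ h₁₂ h₂₃ hi₃)

end

end SSAbut

end Groth.Agent.Lib.helper27
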