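import Mathlib
import Groth.Prelude.Def_SpSeq
import Groth.Agent.Lib.Helper27.SSGr
import Groth.Agent.Lib.Helper27.SSStab

set_option autoImplicit false

namespace Groth.Agent.Lib.helper27

open CategoryTheory Limits ComposableArrows Abelian

universe v u

namespace SSAbut

variable {C : Type u} [Category.{v} C] [Abelian C] (X : Abelian.SpectralObject C EInt)
  [X.IsFirstQuadrant] (H' : ℤ → C)
  (e : ∀ n, H' n ≅ (X.H n).obj (mk₁ (homOfLE (bot_le : (⊥ : EInt) ≤ ⊤))))

omit [X.IsFirstQuadrant] in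
lemma imageSubobject_eq_top_of_epi {A B : C} (f : A ⟶ B) [Epi f] : imageSubobject f = ⊤ := by
  have h : Epi (imageSubobject f).arrow := by
    have : Epi (factorThruImageSubobject f ≫ (imageSubobject f).arrow) := by
      rw [imageSubobject_arrow_comp]; infer_instance
    exact epi_of_epi (factorThruImageSubobject f) _
  have : IsIso (imageSubobject f).arrow := isIso_of_mono_of_epi _
  exact Subobject.eq_top_of_isIso_arrow _

omit [X.IsFirstQuadrant] in
lemma imageSubobject_eq_bot_of_eq_zero {A B : C} (f : A ⟶ B) (h : f = 0) :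
    imageSubobject f = ⊥ := by
  subst h; exact imageSubobject_zero

/-- the map `H^n(⊥ → j) ⟶ H' n` -/
noncomputable def Vmap (n : ℤ) (j : EInt) :
    (X.H n).obj (mk₁ (homOfLE (bot_le : ⊥ ≤ j))) ⟶ H' n :=
  ψb X (homOfLE (le_top : j ≤ ⊤)) (homOfLE bot_le) (homOfLE bot_le) (Subsingleton.elim _ _) n
    (e n).inv

/-- the image of `H^n(⊥ → j)` in `H' n` -/
noncomputable def V (n : ℤ) (j : EInt) : Subobject (H' n) := imageSubobject (Vmap X H' e n j)

lemma V_mono (n : ℤ) {j j' : EInt} (h : j ≤ j') : V X H' e n j ≤ V X H' e n j' :=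
  le X (homOfLE (bot_le : ⊥ ≤ j)) (homOfLE h) (homOfLE (le_top : j' ≤ ⊤)) (homOfLE bot_le)
    (Subsingleton.elim _ _) (homOfLE le_top) (Subsingleton.elim _ _) (homOfLE bot_le)
    (Subsingleton.elim _ _) n (e n).inv

/-- the filtration on the abutment -/
noncomputable def fil (n : ℤ) (p : ℤ) : Subobject (H' n) := V X H' e n ((n - p + 1 : ℤ) : EInt)

lemma anti (n : ℤ) : Antitone (fil X H' e n) := fun p p' h =>
  V_mono X H' e n (WithBotTop.coe_le_coe.2 (by lia))

lemma V_eq_top (n : ℤ) (j : EInt) (hj : ((n : ℤ) : EInt) < j) : V X H' e n j = ⊤ := by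
  have he : Epi ((X.H n).map (twoδ₂Toδ₁ (homOfLE (bot_le : ⊥ ≤ j)) (homOfLE (le_top : j ≤ ⊤))
      (homOfLE bot_le) (Subsingleton.elim _ _))) :=
    (X.exact₂ (homOfLE (bot_le : ⊥ ≤ j)) (homOfLE (le_top : j ≤ ⊤)) (homOfLE bot_le)
      (Subsingleton.elim _ _) n).epi_f
      ((X.isZero₂_of_isFirstQuadrant _ _ _ _ hj).eq_of_tgt _ _)
  have : Epi (Vmap X H' e n j) := by
    dsimp only [Vmap, ψb]
    exact epi_comp _ _
  dsimp only [V]
  exact imageSubobject_eq_top_of_epi _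

lemma V_eq_bot (n : ℤ) (j : EInt) (hj : j ≤ ((0 : ℤ) : EInt)) : V X H' e n j = ⊥ := by
  have : Vmap X H' e n j = 0 := (X.isZero₁_of_isFirstQuadrant _ _ _ hj _).eq_of_src _ _
  exact imageSubobject_eq_bot_of_eq_zero _ this

/-- the page from which position `pq` is stationary -/
def rk (pq : ℤ × ℤ) : ℤ := max (max (pq.1 + 1) (pq.2 + 2)) 2

lemma two_le_rk (pq : ℤ × ℤ) : 2 ≤ rk pq := le_max_right _ _

lemma isZero_page_of_neg (r : ℤ) (hr : 2 ≤ r) (pq : ℤ × ℤ) (hp : pq.1 < 0) :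
    IsZero ((X.E₂SpectralSequence.page r hr).X pq) :=
  X.isZero_spectralSequence_page_X_of_isZero_H' _ _ hr _
    (X.isZero₂_of_isFirstQuadrant _ _ _ _ (by simp; lia))

lemma isZero_page_of_neg' (r : ℤ) (hr : 2 ≤ r) (pq : ℤ × ℤ) (hq : pq.2 < 0) :
    IsZero ((X.E₂SpectralSequence.page r hr).X pq) :=
  X.isZero_spectralSequence_page_X_of_isZero_H' _ _ hr _
    (X.isZero₁_of_isFirstQuadrant _ _ _ (by simp; lia) _)

lemma stat (pq : ℤ × ℤ) : SpSeq.StationaryAt X.E₂SpectralSequence pq (rk pq) := by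
  refine ⟨two_le_rk pq, fun r' h₀ hr' => ⟨?_, ?_⟩⟩
  · apply (isZero_page_of_neg X r' h₀ _ ?_).eq_of_src
    have : pq.1 + 1 ≤ rk pq := le_trans (le_max_left _ _) (le_max_left _ _)
    simp; lia
  · apply (isZero_page_of_neg' X r' h₀ _ ?_).eq_of_tgt
    have : pq.2 + 2 ≤ rk pq := le_trans (le_max_right _ _) (le_max_left _ _)
    simp; lia

/-- the identification of the limit term with the graded piece of the abutment -/
noncomputable def β (pq : ℤ × ℤ) :
    (X.E₂SpectralSequence.page (rk pq) (stat X pq).1).X pq ≅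
      SpSeq.grPiece (fil X H' e (pq.1 + pq.2)) (anti X H' e (pq.1 + pq.2)) pq.1 := by
  have h₁ : (((pq.1 + pq.2) - (pq.1 + 1) + 1 : ℤ) : EInt) = SpectralObject.coreE₂Cohomological.i₁ pq := by
    rw [SpectralObject.coreE₂Cohomological_i₁]
    exact congrArg WithBotTop.coe (by ring)
  have h₂ : (((pq.1 + pq.2) - pq.1 + 1 : ℤ) : EInt) = SpectralObject.coreE₂Cohomological.i₂ pq := by
    rw [SpectralObject.coreE₂Cohomological_i₂]
    exact congrArg WithBotTop.coe (by ring)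
  have hr1 : pq.1 + 1 ≤ rk pq := le_trans (le_max_left _ _) (le_max_left _ _)
  have hr2 : pq.2 + 2 ≤ rk pq := le_trans (le_max_right _ _) (le_max_left _ _)
  refine X.spectralSequencePageXIso SpectralObject.coreE₂Cohomological (rk pq) (two_le_rk pq) pq _
    (((pq.1 + pq.2) - (pq.1 + 1) + 1 : ℤ) : EInt) (((pq.1 + pq.2) - pq.1 + 1 : ℤ) : EInt) _
    rfl h₁ h₂ rfl (pq.1 + pq.2 - 1) (pq.1 + pq.2) (pq.1 + pq.2 + 1) rfl (by lia) rfl ≪≫ ?_
  refine EStabIso X (pq.1 + pq.2 - 1) (pq.1 + pq.2) (pq.1 + pq.2 + 1) (by lia) rfl _ _ _ _ _ _ _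
    (by rw [SpectralObject.coreE₂Cohomological_i₀]; exact WithBotTop.coe_le_coe.2 (by lia))
    (by rw [SpectralObject.coreE₂Cohomological_i₃]; exact WithBotTop.coe_lt_coe.2 (by lia)) ≪≫ ?_
  exact (grIso X (homOfLE bot_le) (homOfLE _) (homOfLE le_top) (homOfLE bot_le)
    (Subsingleton.elim _ _) (homOfLE le_top) (Subsingleton.elim _ _) (homOfLE bot_le)
    (Subsingleton.elim _ _) (pq.1 + pq.2 - 1) (pq.1 + pq.2) (pq.1 + pq.2 + 1) (by lia) rfl
    (e (pq.1 + pq.2)).inv).symm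

/-- the abutment data of the `E₂` spectral sequence of a first quadrant spectral object -/
noncomputable def abutment : SpSeq.Abutment X.E₂SpectralSequence H' where
  fil := fil X H' e
  anti := anti X H' e
  rk := rk
  stat := stat X
  β := β X H' e

lemma abutment_isFinite (n : ℤ) : (abutment X H' e).IsFinite n := by
  refine ⟨⟨0, ?_⟩, ⟨n + 1, ?_⟩⟩
  · exact V_eq_top X H' e n _ (WithBotTop.coe_lt_coe.2 (by lia))
  · exact V_eq_bot X H' e n _ (WithBotTop.coe_le_coe.2 (by lia))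

lemma isBounded : SpSeq.IsBounded X.E₂SpectralSequence := by
  intro n
  apply Set.Finite.subset (Set.finite_Icc (0 : ℤ) n)
  intro p hp
  simp only [Set.mem_ofPred_eq] at hp
  by_contra h
  rw [Set.mem_Icc, not_and_or, not_le, not_le] at h
  rcases h with h | h
  · exact hp (isZero_page_of_neg X 2 le_rfl _ h)
  · exact hp (isZero_page_of_neg' X 2 le_rfl _ (by simp; lia))

/-- the second page -/
noncomputable def page₂Iso (p q : ℤ) :
    (X.E₂SpectralSequence.page 2 le_rfl).X (p, q) ≅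
      (X.H (p + q)).obj (mk₁ (homOfLE (WithBotTop.coe_le_coe.2 (by lia) :
        ((q : ℤ) : EInt) ≤ ((q + 1 : ℤ) : EInt)))) :=
  X.spectralSequencePageXIso SpectralObject.coreE₂Cohomological 2 le_rfl (p, q)
    ((q : ℤ) : EInt) ((q : ℤ) : EInt) ((q + 1 : ℤ) : EInt) ((q + 1 : ℤ) : EInt)
    (by rw [SpectralObject.coreE₂Cohomological_i₀]; exact congrArg WithBotTop.coe (by ring))
    rfl rfl
    (by rw [SpectralObject.coreE₂Cohomological_i₃]; exact congrArg WithBotTop.coe (by ring))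
    (p + q - 1) (p + q) (p + q + 1) rfl (by lia) rfl ≪≫
  X.EIsoH _ (p + q - 1) (p + q) (p + q + 1) (by lia) rfl

end SSAbut

end Groth.Agent.Lib.helper27
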