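import Mathlib

set_option autoImplicit false

namespace Groth.Agent.Lib.helper27

open CategoryTheory Limits ComposableArrows Pretriangulated

universe v u v' u' v'' u''

namespace SSAbut

variable {D : Type u} [Category.{v} D] [Preadditive D] [HasZeroObject D] [HasShift D ℤ]
  [∀ n : ℤ, (shiftFunctor D n).Additive] [Pretriangulated D]
  {A : Type u'} [Category.{v'} A] [Abelian A]
  {ι : Type u''} [Category.{v''} ι]

/-- the abelian spectral object obtained by applying a homological functor to a spectral object
in a triangulated category -/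
noncomputable def mapHomological (Y : Triangulated.SpectralObject D ι) (G : D ⥤ A)
    [G.IsHomological] [G.ShiftSequence ℤ] : Abelian.SpectralObject A ι where
  H n := Y.ω₁ ⋙ G.shift n
  δ' n₀ n₁ h :=
    { app := fun T => G.homologySequenceδ (Y.ω₂.obj T) n₀ n₁ h
      naturality := fun T T' φ => G.homologySequenceδ_naturality _ _ (Y.ω₂.map φ) n₀ n₁ h }
  exact₁' n₀ n₁ h T :=
    (G.homologySequence_exact₁ _ (Y.ω₂_obj_distinguished T) n₀ n₁ h).exact_toComposableArrows
  exact₂' n T :=
    (G.homologySequence_exact₂ _ (Y.ω₂_obj_distinguished T) n).exact_toComposableArrows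
  exact₃' n₀ n₁ h T :=
    (G.homologySequence_exact₃ _ (Y.ω₂_obj_distinguished T) n₀ n₁ h).exact_toComposableArrows

end SSAbut

end Groth.Agent.Lib.helper27
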