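import Mathlib

set_option linter.unusedSectionVars false
set_option linter.unusedVariables false

namespace Groth.Agent.Lib.helper27

open CategoryTheory Limits ZeroObject

namespace MapExtend

variable {ι ι' : Type*} {c : ComplexShape ι} {c' : ComplexShape ι'}
  {C D : Type*} [Category C] [Category D] [HasZeroObject C] [HasZeroObject D]
  [Preadditive C] [Preadditive D] (F : C ⥤ D) [F.Additive]
  (K L : HomologicalComplex C c) (φ : K ⟶ L) (e : c.Embedding c')

/-- option-level isomorphism -/
noncomputable def xIso : ∀ o : Option ι, F.obj (HomologicalComplex.extend.X K o) ≅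
    HomologicalComplex.extend.X ((F.mapHomologicalComplex c).obj K) o
  | some i => Iso.refl _
  | none => F.mapZeroObject

lemma xIso_d (o o' : Option ι) :
    F.map (HomologicalComplex.extend.d K o o') ≫ (xIso F K o').hom =
      (xIso F K o).hom ≫ HomologicalComplex.extend.d ((F.mapHomologicalComplex c).obj K) o o' := by
  match o, o' with
  | none, _ =>
    rw [HomologicalComplex.extend.d_none_eq_zero _ _ _ rfl,
      HomologicalComplex.extend.d_none_eq_zero _ _ _ rfl, F.map_zero, zero_comp, comp_zero]
  | some i, some j =>
    change F.map (K.d i j) ≫ 𝟙 _ = 𝟙 _ ≫ F.map (K.d i j)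
    rw [Category.comp_id, Category.id_comp]
  | some i, none =>
    rw [HomologicalComplex.extend.d_none_eq_zero' _ _ _ rfl,
      HomologicalComplex.extend.d_none_eq_zero' _ _ _ rfl, F.map_zero, zero_comp, comp_zero]

/-- additive functors commute with extension of complexes -/
noncomputable def mapExtendIso :
    (F.mapHomologicalComplex c').obj (K.extend e) ≅
      ((F.mapHomologicalComplex c).obj K).extend e :=
  HomologicalComplex.Hom.isoOfComponents (fun i' => xIso F K (e.r i'))
    (fun i' j' _ => (xIso_d F K (e.r i') (e.r j')).symm)

variable {K L}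

lemma xIso_map (o : Option ι) :
    F.map (HomologicalComplex.extend.mapX φ o) ≫ (xIso F L o).hom =
      (xIso F K o).hom ≫
        HomologicalComplex.extend.mapX ((F.mapHomologicalComplex c).map φ) o := by
  match o with
  | none =>
    rw [HomologicalComplex.extend.mapX_none _ rfl, HomologicalComplex.extend.mapX_none _ rfl,
      F.map_zero, zero_comp, comp_zero]
  | some i =>
    change F.map (φ.f i) ≫ 𝟙 _ = 𝟙 _ ≫ F.map (φ.f i)
    rw [Category.comp_id, Category.id_comp]

lemma mapExtendIso_naturality :
    (F.mapHomologicalComplex c').map (HomologicalComplex.extendMap φ e) ≫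
      (mapExtendIso F L e).hom =
    (mapExtendIso F K e).hom ≫
      HomologicalComplex.extendMap ((F.mapHomologicalComplex c).map φ) e := by
  ext i'
  exact xIso_map F φ (e.r i')

lemma quasiIso_map_extendMap_iff [CategoryWithHomology D] :
    QuasiIso ((F.mapHomologicalComplex c').map (HomologicalComplex.extendMap φ e)) ↔
      QuasiIso ((F.mapHomologicalComplex c).map φ) := by
  rw [← HomologicalComplex.quasiIso_extendMap_iff ((F.mapHomologicalComplex c).map φ) e]
  exact _root_.quasiIso_iff_of_arrow_mk_iso _ _
    (Arrow.isoMk (mapExtendIso F K e) (mapExtendIso F L e) (mapExtendIso_naturality F φ e).symm)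

end MapExtend

end Groth.Agent.Lib.helper27
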