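import Mathlib
import Groth.Agent.Lib.Helper27.Leray3
import Groth.Agent.Lib.Helper27.MapExtend1

set_option autoImplicit false

namespace Groth.Agent.Lib.helper27

open CategoryTheory Limits

universe w w' v u v' u'

namespace SSRH

variable {A : Type u} [Category.{v} A] [Abelian A] [EnoughInjectives A] [HasDerivedCategory.{w} A]
  {B : Type u'} [Category.{v'} B] [Abelian B] [HasDerivedCategory.{w'} B]
  (F : A ⥤ B) [F.Additive]

variable (A) in
/-- the equivalence (as a functor) `K⁺(Inj A) ⥤ D⁺(A)` -/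
noncomputable abbrev L : HomotopyCategory.Plus (InjectiveObject A) ⥤ DerivedCategory.Plus A :=
  (InjectiveObject.ι A).mapHomotopyCategoryPlus ⋙ DerivedCategory.Plus.Qh

/-- hypercohomology `H⁰(RF(-))` on the bounded below derived category -/
noncomputable def RH : DerivedCategory.Plus A ⥤ B :=
  F.rightDerivedFunctorPlus ⋙ DerivedCategory.Plus.homologyFunctor B 0

/-- `H⁰(F(-))` on bounded below complexes of injectives -/
noncomputable abbrev G₀ : HomotopyCategory.Plus (InjectiveObject A) ⥤ B :=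
  (InjectiveObject.ι A).mapHomotopyCategoryPlus ⋙ F.mapHomotopyCategoryPlus ⋙
    DerivedCategory.Plus.Qh ⋙ DerivedCategory.Plus.homologyFunctor B 0

instance : (G₀ F).IsHomological := by
  dsimp only [G₀]; infer_instance

instance : IsIso (Functor.whiskerLeft (InjectiveObject.ι A).mapHomotopyCategoryPlus
    F.rightDerivedFunctorPlusUnit) := by
  rw [NatTrans.isIso_iff_isIso_app]
  intro Y
  dsimp only [Functor.whiskerLeft_app]
  infer_instance

/-- on complexes of injectives, `RH` is computed naively -/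
noncomputable def eIso : L A ⋙ RH F ≅ G₀ F :=
  Functor.isoWhiskerRight (asIso (Functor.whiskerLeft (InjectiveObject.ι A).mapHomotopyCategoryPlus
    F.rightDerivedFunctorPlusUnit)).symm (DerivedCategory.Plus.homologyFunctor B 0)

instance : (L A).Full where
  map_surjective {Y₁ Y₂} f := by
    obtain ⟨K₂, rfl⟩ := HomotopyCategory.Plus.quotient_obj_surjective Y₂
    have hK : CochainComplex.IsKInjective
        (((InjectiveObject.ι A).mapHomotopyCategoryPlus.obj
          ((HomotopyCategory.Plus.quotient _).obj K₂)).1.as) :=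
      inferInstanceAs (CochainComplex.IsKInjective
        (((InjectiveObject.ι A).mapHomologicalComplex (.up ℤ)).obj K₂.obj))
    obtain ⟨g, hg⟩ := (DerivedCategory.Plus.Qh_map_bijective_of_isKInjective
      ((InjectiveObject.ι A).mapHomotopyCategoryPlus.obj Y₁) _ hK).2 f
    obtain ⟨g', rfl⟩ := (InjectiveObject.ι A).mapHomotopyCategoryPlus.map_surjective g
    exact ⟨g', hg⟩

instance : (RH F).IsHomological :=
  Functor.isHomological_of_localization (L A) (RH F) (G₀ F) (eIso F)

/-- computation of `RH` on shifts of bounded below complexes of injectives -/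
theorem RH_shift_iso (K : CochainComplex.Plus (InjectiveObject A)) (Z : DerivedCategory.Plus A)
    (eZ : Z ≅ (L A).obj ((HomotopyCategory.Plus.quotient _).obj K)) (n : ℤ) :
    Nonempty ((RH F).obj (Z⟦n⟧) ≅
      ((F.mapHomologicalComplex (.up ℤ)).obj
        (((InjectiveObject.ι A).mapHomologicalComplex (.up ℤ)).obj K.obj)).homology n) := by
  let Y := (HomotopyCategory.Plus.quotient (InjectiveObject A)).obj K
  let Φ : HomotopyCategory.Plus (InjectiveObject A) ⥤ DerivedCategory B :=
    (InjectiveObject.ι A).mapHomotopyCategoryPlus ⋙ F.mapHomotopyCategoryPlus ⋙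
      DerivedCategory.Plus.Qh ⋙ DerivedCategory.Plus.ι
  let M : CochainComplex B ℤ := (F.mapHomologicalComplex (.up ℤ)).obj
        (((InjectiveObject.ι A).mapHomologicalComplex (.up ℤ)).obj K.obj)
  -- step 1,2,3
  let e₁ : (RH F).obj (Z⟦n⟧) ≅ (RH F).obj ((L A).obj (Y⟦n⟧)) :=
    (RH F).mapIso ((shiftFunctor _ n).mapIso eZ ≪≫ (((L A).commShiftIso n).app Y).symm)
  let e₃ : (RH F).obj ((L A).obj (Y⟦n⟧)) ≅ (G₀ F).obj (Y⟦n⟧) := (eIso F).app _
  -- step 4
  let e₄ : (G₀ F).obj (Y⟦n⟧) ≅ (DerivedCategory.homologyFunctor B 0).obj ((Φ.obj Y)⟦n⟧) :=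
    (DerivedCategory.homologyFunctor B 0).mapIso ((Φ.commShiftIso n).app Y)
  -- step 5
  let e₅ : (DerivedCategory.homologyFunctor B 0).obj ((Φ.obj Y)⟦n⟧) ≅
      (DerivedCategory.homologyFunctor B n).obj (Φ.obj Y) :=
    ((DerivedCategory.homologyFunctor B 0).isoShift n).app (Φ.obj Y)
  -- step 6
  let e₆ : (DerivedCategory.homologyFunctor B n).obj (Φ.obj Y) ≅ M.homology n :=
    (DerivedCategory.homologyFunctorFactorsh B n).app ((HomotopyCategory.quotient B _).obj M) ≪≫
      (HomotopyCategory.homologyFunctorFactors B (.up ℤ) n).app M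
  exact ⟨e₁ ≪≫ e₃ ≪≫ e₄ ≪≫ e₅ ≪≫ e₆⟩

/-- variant of `RH_shift_iso` for a complex of injective objects of `A` -/
theorem RH_shift_iso' (K₀ : CochainComplex A ℤ) (hinj : ∀ n, Injective (K₀.X n)) (m : ℤ)
    [K₀.IsStrictlyGE m] (Z : DerivedCategory.Plus A)
    (eZ : Z ≅ DerivedCategory.Plus.Q.obj ⟨K₀, ⟨m, inferInstance⟩⟩) (n : ℤ) :
    Nonempty ((RH F).obj (Z⟦n⟧) ≅ ((F.mapHomologicalComplex (.up ℤ)).obj K₀).homology n) := by
  let K' : CochainComplex (InjectiveObject A) ℤ :=
    HomologicalComplex.liftObjectProperty (isInjective A) K₀ hinj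
  have hK' : K'.IsStrictlyGE m := by
    rw [← CochainComplex.isStrictlyGE_mapHomologicalComplex_obj_iff _ (InjectiveObject.ι _)]
    assumption
  let K : CochainComplex.Plus (InjectiveObject A) := ⟨K', ⟨m, hK'⟩⟩
  exact RH_shift_iso F K Z (eZ ≪≫ Iso.refl _) n

/-- vanishing of hypercohomology below the amplitude -/
theorem isZero_RH_shift (Z : DerivedCategory.Plus A) (m : ℤ) [Z.IsGE m] (n : ℤ) (hn : n < m) :
    IsZero ((RH F).obj (Z⟦n⟧)) := by
  obtain ⟨K, hK, ⟨e⟩⟩ := DerivedCategory.Plus.exists_injective_nonempty_iso Z m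
  obtain ⟨e'⟩ := RH_shift_iso F K Z (e.symm ≪≫ Iso.refl _) n
  refine IsZero.of_iso ?_ e'
  rw [← HomologicalComplex.exactAt_iff_isZero_homology]
  apply ShortComplex.exact_of_isZero_X₂
  apply F.map_isZero
  apply (InjectiveObject.ι A).map_isZero
  exact K.obj.isZero_of_isStrictlyGE m n hn

section

variable [HasInjectiveResolutions A] [PreservesFiniteLimits F]

/-- computation of `RH` on shifts of bounded below complexes with acyclic terms -/
theorem RH_shift_iso_of_acyc (K₀ : CochainComplex A ℤ) (m : ℤ) [K₀.IsStrictlyGE m]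
    (hK₀ : ∀ k, Leray.Acyc F (K₀.X k)) (Z : DerivedCategory.Plus A)
    (eZ : Z ≅ DerivedCategory.Plus.Q.obj ⟨K₀, ⟨m, inferInstance⟩⟩) (n : ℤ) :
    Nonempty ((RH F).obj (Z⟦n⟧) ≅ ((F.mapHomologicalComplex (.up ℤ)).obj K₀).homology n) := by
  obtain ⟨L, hL, i, hi⟩ := CochainComplex.Plus.exists_quasiIso_injective
    (⟨K₀, ⟨m, inferInstance⟩⟩ : CochainComplex.Plus A) m
  have hq : QuasiIso i.hom := hi
  have h1 : IsIso (DerivedCategory.Plus.Qh.map ((HomotopyCategory.Plus.quotient A).map i)) :=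
    (MapExtend.isIso_Qh_map_quotient_map_iff i).2 hq
  obtain ⟨e'⟩ := RH_shift_iso F L Z (eZ ≪≫ @asIso _ _ _ _ (DerivedCategory.Plus.Qh.map
    ((HomotopyCategory.Plus.quotient A).map i)) h1 ≪≫ Iso.refl _) n
  have : (((InjectiveObject.ι A).mapCochainComplexPlus.obj L).obj).IsStrictlyGE m :=
    inferInstanceAs (CochainComplex.IsStrictlyGE
      (((InjectiveObject.ι A).mapHomologicalComplex _).obj L.obj) m)
  have h2 : QuasiIso ((F.mapHomologicalComplex (ComplexShape.up ℤ)).map i.hom) :=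
    Leray.quasiIso_map_of_acyc F i.hom m m hK₀ (fun k =>
      @Leray.acyc_of_injective _ _ _ _ _ _ _ F _ _ (L.obj.X k).property)
  exact ⟨e' ≪≫ (asIso (HomologicalComplex.homologyMap
    ((F.mapHomologicalComplex (ComplexShape.up ℤ)).map i.hom) n)).symm⟩

omit [EnoughInjectives A] [HasDerivedCategory.{w} A] [HasDerivedCategory.{w'} B]
  [PreservesFiniteLimits F] in
/-- the cohomology of `F` applied to the `ℤ`-indexed injective resolution -/
theorem homology_map_cochainComplex_iso {M₀ : A} (R : InjectiveResolution M₀) (k : ℕ) :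
    Nonempty (((F.mapHomologicalComplex (.up ℤ)).obj R.cochainComplex).homology (k : ℤ) ≅
      (F.rightDerived k).obj M₀) := by
  let e₁ := (HomologicalComplex.homologyFunctor B (.up ℤ) (k : ℤ)).mapIso
    (MapExtend.mapExtendIso F R.cocomplex ComplexShape.embeddingUpNat)
  let e₂ := HomologicalComplex.extendHomologyIso
    ((F.mapHomologicalComplex (.up ℕ)).obj R.cocomplex) ComplexShape.embeddingUpNat
    (j := k) (j' := (k : ℤ)) rfl
  exact ⟨e₁ ≪≫ e₂ ≪≫ (R.isoRightDerivedObj F k).symm⟩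

/-- computation of `RH` on shifts of single objects -/
theorem RH_single (M₀ : A) (Z : DerivedCategory.Plus A)
    (eZ : Z ≅ (DerivedCategory.Plus.singleFunctor A 0).obj M₀) :
    (∀ k : ℕ, Nonempty ((RH F).obj (Z⟦(k : ℤ)⟧) ≅ (F.rightDerived k).obj M₀)) ∧
      ∀ p : ℤ, p < 0 → IsZero ((RH F).obj (Z⟦p⟧)) := by
  constructor
  · intro k
    let R := injectiveResolution M₀
    let K : CochainComplex.Plus A := ⟨(CochainComplex.singleFunctor A 0).obj M₀, ⟨0, inferInstance⟩⟩
    let L : CochainComplex.Plus A := ⟨R.cochainComplex, ⟨0, inferInstance⟩⟩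
    let φ : K ⟶ L := ObjectProperty.homMk R.ι'
    have hφ : QuasiIso φ.hom := inferInstanceAs (QuasiIso R.ι')
    have h1 : IsIso (DerivedCategory.Plus.Qh.map ((HomotopyCategory.Plus.quotient A).map φ)) :=
      (MapExtend.isIso_Qh_map_quotient_map_iff φ).2 hφ
    have hinj : ∀ n, Injective (R.cochainComplex.X n) := fun n => inferInstance
    obtain ⟨e'⟩ := RH_shift_iso' F R.cochainComplex hinj 0 Z
      (eZ ≪≫ Iso.refl _ ≪≫ @asIso _ _ _ _ (DerivedCategory.Plus.Qh.map
        ((HomotopyCategory.Plus.quotient A).map φ)) h1) (k : ℤ)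
    obtain ⟨e''⟩ := homology_map_cochainComplex_iso F R k
    exact ⟨e' ≪≫ e''⟩
  · intro p hp
    have : Z.IsGE 0 := DerivedCategory.Plus.TStructure.t.isGE_of_iso eZ.symm 0
    exact isZero_RH_shift F Z 0 p hp

end

end SSRH

end Groth.Agent.Lib.helper27
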