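import Mathlib
import Groth.Agent.Lib.Helper27.SSRH
import Groth.Agent.Lib.Helper27.SSMapHom
import Groth.Agent.Lib.Helper27.SSAbut

set_option autoImplicit false

namespace Groth.Agent.Lib.helper27

open CategoryTheory Limits ComposableArrows

universe w w' v u v' u'

namespace SSGroth

variable {A : Type u} [Category.{v} A] [Abelian A] [EnoughInjectives A] [HasDerivedCategory.{w} A]
  {B : Type u'} [Category.{v'} B] [Abelian B] [HasDerivedCategory.{w'} B]
  (F : A ⥤ B) [F.Additive] (K : DerivedCategory.Plus A)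

/-- the t-structure on `D⁺(A)` -/
noncomputable abbrev t : Triangulated.TStructure (DerivedCategory.Plus A) :=
  DerivedCategory.Plus.TStructure.t

/-- the abelian spectral object computing the hypercohomology of the truncations of `K` -/
noncomputable def X : Abelian.SpectralObject B EInt :=
  letI : (SSRH.RH F).ShiftSequence ℤ := Functor.ShiftSequence.tautological _ _
  SSAbut.mapHomological ((t (A := A)).spectralObject K) (SSRH.RH F)

lemma X_H_obj (n : ℤ) (a b : EInt) (h : a ≤ b) :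
    ((X F K).H n).obj (mk₁ (homOfLE h)) =
      (SSRH.RH F).obj ((((t (A := A)).eTruncGE.obj a).obj (((t (A := A)).eTruncLT.obj b).obj K))⟦n⟧) :=
  rfl

lemma coe_succ_le_of_lt (n : ℤ) (i : EInt) (h : ((n : ℤ) : EInt) < i) :
    (((n + 1 : ℤ)) : EInt) ≤ i := by
  induction i using WithBotTop.rec with
  | bot => simp at h
  | coe m =>
    rw [WithBotTop.coe_lt_coe] at h
    exact WithBotTop.coe_le_coe.2 (by lia)
  | top => exact le_top

instance [K.IsGE 0] : (X F K).IsFirstQuadrant where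
  isZero₁ i j hij hj n := by
    rw [X_H_obj]
    apply (SSRH.RH F).map_isZero
    apply (shiftFunctor _ n).map_isZero
    apply Functor.map_isZero
    exact (t (A := A)).isZero_eTruncLT_obj_obj K 0 j hj
  isZero₂ i j hij n hi := by
    rw [X_H_obj]
    have := (t (A := A)).isGE_eTruncGE_obj_obj (n + 1) i (coe_succ_le_of_lt n i hi)
      (((t (A := A)).eTruncLT.obj j).obj K)
    exact SSRH.isZero_RH_shift F _ (n + 1) n (by lia)

lemma X_H_obj_top (n : ℤ) :
    ((X F K).H n).obj (mk₁ (homOfLE (bot_le : (⊥ : EInt) ≤ ⊤))) = (SSRH.RH F).obj (K⟦n⟧) :=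
  rfl

/-- the truncation `τ_{≥ q} τ_{< q+1} K` -/
noncomputable abbrev Zq (q : ℤ) : DerivedCategory.Plus A :=
  ((t (A := A)).eTruncGE.obj ((q : ℤ) : EInt)).obj
    (((t (A := A)).eTruncLT.obj (((q + 1 : ℤ)) : EInt)).obj K)

instance (q : ℤ) : (Zq K q).IsGE q :=
  (t (A := A)).isGE_eTruncGE_obj_obj q _ le_rfl _

instance (q : ℤ) : (Zq K q).IsLE q := by
  have : (t (A := A)).IsLE (((t (A := A)).eTruncLT.obj (((q + 1 : ℤ)) : EInt)).obj K) q :=
    (t (A := A)).isLE_eTruncLT_obj_obj q _ le_rfl _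
  dsimp only [Zq]
  infer_instance

/-- the auxiliary spectral object computing the cohomology objects of the truncations -/
noncomputable def X' : Abelian.SpectralObject A EInt :=
  SSAbut.mapHomological ((t (A := A)).spectralObject K) (DerivedCategory.Plus.homologyFunctor A 0)

lemma X'_H_obj (n : ℤ) (a b : EInt) (h : a ≤ b) :
    ((X' K).H n).obj (mk₁ (homOfLE h)) =
      (DerivedCategory.Plus.homologyFunctor A n).obj
        (((t (A := A)).eTruncGE.obj a).obj (((t (A := A)).eTruncLT.obj b).obj K)) :=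
  rfl

/-- the cohomology of `τ_{≥ q} τ_{< q+1} K` in degree `q` -/
theorem homology_Zq_iso (q : ℤ) :
    Nonempty ((DerivedCategory.Plus.homologyFunctor A q).obj (Zq K q) ≅
      (DerivedCategory.Plus.homologyFunctor A q).obj K) := by
  have hq : ((q : ℤ) : EInt) ≤ (((q + 1 : ℤ)) : EInt) := WithBotTop.coe_le_coe.2 (by lia)
  -- source change
  have h1 : ∀ n, q ≤ n → IsZero (((X' K).H n).obj (mk₁ (homOfLE (bot_le : ⊥ ≤ ((q : ℤ) : EInt))))) := by
    intro n hn
    rw [X'_H_obj]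
    have : (t (A := A)).IsLE (((t (A := A)).eTruncLT.obj ((q : ℤ) : EInt)).obj K) (q - 1) :=
      (t (A := A)).isLE_eTruncLT_obj_obj (q - 1) _
        (by rw [WithBotTop.coe_le_coe]; lia) _
    have : (t (A := A)).IsLE (((t (A := A)).eTruncGE.obj ⊥).obj
      (((t (A := A)).eTruncLT.obj ((q : ℤ) : EInt)).obj K)) (q - 1) := inferInstance
    exact DerivedCategory.Plus.isZero_homology_of_isLE _ (q - 1) n (by lia)
  have i1 := SSAbut.isIso_H_map_source (X' K) q (q + 1) rfl ⊥ ((q : ℤ) : EInt)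
    (((q + 1 : ℤ)) : EInt) bot_le hq (h1 q le_rfl) (h1 (q + 1) (by lia))
    (twoδ₁Toδ₀' ⊥ ((q : ℤ) : EInt) (((q + 1 : ℤ)) : EInt) bot_le hq)
  -- target change
  have h2 : ∀ n, n ≤ q → IsZero (((X' K).H n).obj
      (mk₁ (homOfLE (le_top : (((q + 1 : ℤ)) : EInt) ≤ ⊤)))) := by
    intro n hn
    rw [X'_H_obj]
    have : (t (A := A)).IsGE (((t (A := A)).eTruncGE.obj (((q + 1 : ℤ)) : EInt)).obj
        (((t (A := A)).eTruncLT.obj ⊤).obj K)) (q + 1) :=
      (t (A := A)).isGE_eTruncGE_obj_obj (q + 1) _ le_rfl _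
    exact DerivedCategory.Plus.isZero_homology_of_isGE _ (q + 1) n (by lia)
  have i2 := SSAbut.isIso_H_map_target (X' K) (q - 1) q (by lia) ⊥ (((q + 1 : ℤ)) : EInt) ⊤
    bot_le le_top (h2 (q - 1) (by lia)) (h2 q le_rfl) (twoδ₂Toδ₁' ⊥ (((q + 1 : ℤ)) : EInt) ⊤ bot_le le_top)
  exact ⟨(@asIso _ _ _ _ _ i1).symm ≪≫ @asIso _ _ _ _ _ i2⟩

section

variable [HasInjectiveResolutions A] [PreservesFiniteLimits F]

/-- the `E₂`-terms: `H^{k+q}(q → q+1)` is `R^k F (H^q K)`, and vanishes for negative `k` -/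
theorem E2_iso (q : ℤ) :
    ∃ M' : A, Nonempty (M' ≅ (DerivedCategory.Plus.homologyFunctor A q).obj K) ∧
      (∀ k : ℕ, Nonempty (((X F K).H ((k : ℤ) + q)).obj (mk₁ (homOfLE
        (WithBotTop.coe_le_coe.2 (by lia) : ((q : ℤ) : EInt) ≤ (((q + 1 : ℤ)) : EInt)))) ≅
          (F.rightDerived k).obj M')) := by
  obtain ⟨M', ⟨e₀⟩⟩ := DerivedCategory.exists_iso_singleFunctor_obj_of_isGE_of_isLE
    (DerivedCategory.Plus.ι.obj (Zq K q)) q
  let e₁ : Zq K q ≅ (DerivedCategory.Plus.singleFunctor A q).obj M' :=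
    DerivedCategory.Plus.ι.preimageIso e₀
  let e₂ : (Zq K q)⟦q⟧ ≅ (DerivedCategory.Plus.singleFunctor A 0).obj M' :=
    (shiftFunctor _ q).mapIso e₁ ≪≫
      ((DerivedCategory.Plus.singleFunctors A).shiftIso q 0 q (by simp)).app M'
  refine ⟨M', ?_, fun k => ?_⟩
  · obtain ⟨e₃⟩ := homology_Zq_iso K q
    exact ⟨((DerivedCategory.singleFunctorCompHomologyFunctorIso A q).app M').symm ≪≫
      (DerivedCategory.homologyFunctor A q).mapIso e₀.symm ≪≫ e₃⟩
  · obtain ⟨e₄⟩ := (SSRH.RH_single F M' ((Zq K q)⟦q⟧) e₂).1 k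
    rw [X_H_obj]
    exact ⟨(SSRH.RH F).mapIso ((shiftFunctorAdd' _ q (k : ℤ) ((k : ℤ) + q) (by lia)).app _) ≪≫ e₄⟩

end

end SSGroth

end Groth.Agent.Lib.helper27
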