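import Mathlib
import Groth.Prelude.Def_SpSeq
import Groth.Agent.Lib.Helper27.SSGroth1

set_option autoImplicit false
set_option linter.style.haveILetI false

namespace Groth.Agent.Lib.helper27

open CategoryTheory Limits ComposableArrows
open scoped ZeroObject

universe v u

namespace SSGroth

lemma enoughInjectives_of_hasInjectiveResolutions (A : Type u) [Category.{v} A] [Abelian A]
    [HasInjectiveResolutions A] : EnoughInjectives A :=
  ⟨fun X => ⟨⟨(injectiveResolution X).cocomplex.X 0, inferInstance,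
    (HomologicalComplex.singleObjXSelf (ComplexShape.up ℕ) 0 X).inv ≫
      (injectiveResolution X).ι.f 0, inferInstance⟩⟩⟩

theorem grothendieck_ss {C C' C'' : Type u} [Category.{v} C] [Category.{v} C'] [Category.{v} C'']
    [Abelian C] [Abelian C'] [Abelian C''] [HasInjectiveResolutions C] [HasInjectiveResolutions C']
    (T : C ⥤ C') [T.Additive] (S : C' ⥤ C'') [S.Additive] [PreservesFiniteLimits S]
    (hT : ∀ Q : C, Injective Q → ∀ q : ℕ, 0 < q → IsZero ((S.rightDerived q).obj (T.obj Q))) (A : C) :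
    ∃ (E : E₂CohomologicalSpectralSequence C'')
      (a : SpSeq.Abutment E (fun n : ℤ => if 0 ≤ n then ((T ⋙ S).rightDerived n.toNat).obj A else 0)),
      (∀ n, a.IsFinite n) ∧ SpSeq.IsBounded E ∧
      ∀ p q : ℤ, Nonempty ((E.page 2 le_rfl).X (p, q) ≅
        (if 0 ≤ p ∧ 0 ≤ q then (S.rightDerived p.toNat).obj ((T.rightDerived q.toNat).obj A) else 0)) := by
  haveI : EnoughInjectives C' := enoughInjectives_of_hasInjectiveResolutions C'
  letI : HasDerivedCategory.{max u v} C' := HasDerivedCategory.standard C'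
  letI : HasDerivedCategory.{max u v} C'' := HasDerivedCategory.standard C''
  let I := injectiveResolution A
  let KA₀ : CochainComplex C' ℤ := (T.mapHomologicalComplex _).obj I.cochainComplex
  haveI : KA₀.IsStrictlyGE 0 := inferInstance
  let KA : DerivedCategory.Plus C' := DerivedCategory.Plus.Q.obj ⟨KA₀, ⟨0, inferInstance⟩⟩
  haveI : KA.IsGE 0 := by
    rw [← DerivedCategory.Plus.isGE_ι_obj_iff]
    exact DerivedCategory.TStructure.t.isGE_of_iso
      ((DerivedCategory.quotientCompQhIso C').symm.app KA₀) 0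
  have hacyc : ∀ k, Leray.Acyc S (KA₀.X k) := fun k i hi =>
    hT (I.cochainComplex.X k) inferInstance i hi
  -- the abutment
  have e : ∀ n : ℤ, Nonempty ((if 0 ≤ n then ((T ⋙ S).rightDerived n.toNat).obj A else 0) ≅
      ((X S KA).H n).obj (mk₁ (homOfLE (bot_le : (⊥ : EInt) ≤ ⊤)))) := by
    intro n
    rw [X_H_obj_top]
    obtain ⟨e1⟩ := SSRH.RH_shift_iso_of_acyc S KA₀ 0 hacyc KA (Iso.refl _) n
    by_cases hn : 0 ≤ n
    · rw [if_pos hn]
      obtain ⟨k, rfl⟩ := Int.eq_ofNat_of_zero_le hn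
      obtain ⟨e2⟩ := SSRH.homology_map_cochainComplex_iso (T ⋙ S) I k
      rw [Int.toNat_natCast]
      exact ⟨(e1 ≪≫ e2).symm⟩
    · rw [if_neg hn]
      refine ⟨(IsZero.iso ?_ (isZero_zero _)).symm⟩
      refine IsZero.of_iso ?_ e1
      rw [← HomologicalComplex.exactAt_iff_isZero_homology]
      apply ShortComplex.exact_of_isZero_X₂
      apply S.map_isZero
      exact KA₀.isZero_of_isStrictlyGE 0 n (by lia)
  refine ⟨(X S KA).E₂SpectralSequence, SSAbut.abutment (X S KA) _ (fun n => (e n).some),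
    SSAbut.abutment_isFinite _ _ _, SSAbut.isBounded _, fun p q => ?_⟩
  by_cases hpq : 0 ≤ p ∧ 0 ≤ q
  · rw [if_pos hpq]
    obtain ⟨k, rfl⟩ := Int.eq_ofNat_of_zero_le hpq.1
    obtain ⟨l, rfl⟩ := Int.eq_ofNat_of_zero_le hpq.2
    obtain ⟨M', ⟨eM⟩, h⟩ := E2_iso S KA (l : ℤ)
    obtain ⟨e3⟩ := h k
    obtain ⟨e4⟩ := SSRH.homology_map_cochainComplex_iso T I l
    rw [Int.toNat_natCast, Int.toNat_natCast]
    let e5 : (DerivedCategory.Plus.homologyFunctor C' (l : ℤ)).obj KA ≅ KA₀.homology (l : ℤ) :=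
      (DerivedCategory.homologyFunctorFactorsh C' (l : ℤ)).app
        ((HomotopyCategory.quotient C' _).obj KA₀) ≪≫
      (HomotopyCategory.homologyFunctorFactors C' (.up ℤ) (l : ℤ)).app KA₀
    exact ⟨SSAbut.page₂Iso (X S KA) (k : ℤ) (l : ℤ) ≪≫ e3 ≪≫
      (S.rightDerived k).mapIso (eM ≪≫ e5 ≪≫ e4)⟩
  · rw [if_neg hpq]
    refine ⟨IsZero.iso ?_ (isZero_zero _)⟩
    rw [not_and_or, not_le, not_le] at hpq
    rcases hpq with h | h
    · exact SSAbut.isZero_page_of_neg _ 2 le_rfl _ h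
    · exact SSAbut.isZero_page_of_neg' _ 2 le_rfl _ h

end SSGroth

end Groth.Agent.Lib.helper27
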