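import Mathlib
import Groth.Prelude.Def_SpSeq
import Groth.Agent.Lib.Helper27.SSGroth2

set_option autoImplicit false
set_option linter.style.haveILetI false

namespace Groth.Agent.Lib.helper27

open CategoryTheory Limits ComposableArrows
open scoped ZeroObject

universe v u

namespace SSGroth

/-- flexible form of the Grothendieck spectral sequence: the abutment family and the `E₂`-terms are
any families isomorphic to the derived functors -/
theorem grothendieck_ss' {C C' C'' : Type u} [Category.{v} C] [Category.{v} C'] [Category.{v} C'']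
    [Abelian C] [Abelian C'] [Abelian C''] [HasInjectiveResolutions C] [HasInjectiveResolutions C']
    (T : C ⥤ C') [T.Additive] (S : C' ⥤ C'') [S.Additive] [PreservesFiniteLimits S]
    (hT : ∀ Q : C, Injective Q → ∀ q : ℕ, 0 < q → IsZero ((S.rightDerived q).obj (T.obj Q))) (A : C)
    (H' : ℤ → C'') (hH : ∀ k : ℕ, Nonempty (H' (k : ℤ) ≅ ((T ⋙ S).rightDerived k).obj A))
    (hH0 : ∀ n : ℤ, n < 0 → IsZero (H' n))
    (E2 : ℤ → ℤ → C'')
    (hE : ∀ k l : ℕ, Nonempty (E2 (k : ℤ) (l : ℤ) ≅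
      (S.rightDerived k).obj ((T.rightDerived l).obj A)))
    (hE0 : ∀ p q : ℤ, (p < 0 ∨ q < 0) → IsZero (E2 p q)) :
    ∃ (E : E₂CohomologicalSpectralSequence C'') (a : SpSeq.Abutment E H'),
      (∀ n, a.IsFinite n) ∧ SpSeq.IsBounded E ∧
      ∀ p q : ℤ, Nonempty ((E.page 2 le_rfl).X (p, q) ≅ E2 p q) := by
  haveI : EnoughInjectives C' := enoughInjectives_of_hasInjectiveResolutions C'
  letI : HasDerivedCategory.{max u v} C' := HasDerivedCategory.standard C'
  letI : HasDerivedCategory.{max u v} C'' := HasDerivedCategory.standard C''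
  let I := injectiveResolution A
  let KA₀ : CochainComplex C' ℤ := (T.mapHomologicalComplex _).obj I.cochainComplex
  haveI : KA₀.IsStrictlyGE 0 := inferInstance
  let KA : DerivedCategory.Plus C' := DerivedCategory.Plus.Q.obj ⟨KA₀, ⟨0, inferInstance⟩⟩
  haveI : KA.IsGE 0 := by
    rw [← DerivedCategory.Plus.isGE_ι_obj_iff]
    exact DerivedCategory.TStructure.t.isGE_of_iso
      ((DerivedCategory.quotientCompQhIso C').symm.app KA₀) 0
  have hacyc : ∀ k, Leray.Acyc S (KA₀.X k) := fun k i hi =>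
    hT (I.cochainComplex.X k) inferInstance i hi
  -- the abutment
  have e : ∀ n : ℤ, Nonempty (H' n ≅
      ((X S KA).H n).obj (mk₁ (homOfLE (bot_le : (⊥ : EInt) ≤ ⊤)))) := by
    intro n
    rw [X_H_obj_top]
    obtain ⟨e1⟩ := SSRH.RH_shift_iso_of_acyc S KA₀ 0 hacyc KA (Iso.refl _) n
    by_cases hn : 0 ≤ n
    · obtain ⟨k, rfl⟩ := Int.eq_ofNat_of_zero_le hn
      obtain ⟨e2⟩ := SSRH.homology_map_cochainComplex_iso (T ⋙ S) I k
      obtain ⟨e0⟩ := hH k
      exact ⟨e0 ≪≫ (e1 ≪≫ e2).symm⟩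
    · refine ⟨(IsZero.iso ?_ (hH0 n (by lia))).symm⟩
      refine IsZero.of_iso ?_ e1
      rw [← HomologicalComplex.exactAt_iff_isZero_homology]
      apply ShortComplex.exact_of_isZero_X₂
      apply S.map_isZero
      exact KA₀.isZero_of_isStrictlyGE 0 n (by lia)
  refine ⟨(X S KA).E₂SpectralSequence, SSAbut.abutment (X S KA) _ (fun n => (e n).some),
    SSAbut.abutment_isFinite _ _ _, SSAbut.isBounded _, fun p q => ?_⟩
  by_cases hpq : 0 ≤ p ∧ 0 ≤ q
  · obtain ⟨k, rfl⟩ := Int.eq_ofNat_of_zero_le hpq.1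
    obtain ⟨l, rfl⟩ := Int.eq_ofNat_of_zero_le hpq.2
    obtain ⟨M', ⟨eM⟩, h⟩ := E2_iso S KA (l : ℤ)
    obtain ⟨e3⟩ := h k
    obtain ⟨e4⟩ := SSRH.homology_map_cochainComplex_iso T I l
    obtain ⟨e6⟩ := hE k l
    let e5 : (DerivedCategory.Plus.homologyFunctor C' (l : ℤ)).obj KA ≅ KA₀.homology (l : ℤ) :=
      (DerivedCategory.homologyFunctorFactorsh C' (l : ℤ)).app
        ((HomotopyCategory.quotient C' _).obj KA₀) ≪≫
      (HomotopyCategory.homologyFunctorFactors C' (.up ℤ) (l : ℤ)).app KA₀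
    exact ⟨SSAbut.page₂Iso (X S KA) (k : ℤ) (l : ℤ) ≪≫ e3 ≪≫
      (S.rightDerived k).mapIso (eM ≪≫ e5 ≪≫ e4) ≪≫ e6.symm⟩
  · rw [not_and_or, not_le, not_le] at hpq
    refine ⟨IsZero.iso ?_ (hE0 p q hpq)⟩
    rcases hpq with h | h
    · exact SSAbut.isZero_page_of_neg _ 2 le_rfl _ h
    · exact SSAbut.isZero_page_of_neg' _ 2 le_rfl _ h

end SSGroth

end Groth.Agent.Lib.helper27
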