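import Mathlib
import Groth.Prelude.Def_SpSeq
import Groth.Agent.Lib.Helper27.SSGroth3
import Groth.Agent.Lib.Helper27.ExtPsh

set_option autoImplicit false
set_option linter.style.haveILetI false

namespace Groth.Agent.Lib.helper27

open CategoryTheory Limits Opposite Abelian
open scoped ZeroObject

universe v u

namespace SSGroth

/-- the Grothendieck spectral sequence, with `ℕ`-indexed abutment and `E₂`-families extended by
chosen zero objects (the shape used by the milestone statements) -/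
theorem grothendieck_ss_nat {C C' C'' : Type u} [Category.{v} C] [Category.{v} C'] [Category.{v} C'']
    [Abelian C] [Abelian C'] [Abelian C''] [HasInjectiveResolutions C] [HasInjectiveResolutions C']
    (T : C ⥤ C') [T.Additive] (S : C' ⥤ C'') [S.Additive] [PreservesFiniteLimits S]
    (hT : ∀ Q : C, Injective Q → ∀ q : ℕ, 0 < q → IsZero ((S.rightDerived q).obj (T.obj Q))) (A : C)
    (Hn : ℕ → C'') (hH : ∀ k : ℕ, Nonempty (Hn k ≅ ((T ⋙ S).rightDerived k).obj A))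
    (E2n : ℕ → ℕ → C'')
    (hE : ∀ k l : ℕ, Nonempty (E2n k l ≅ (S.rightDerived k).obj ((T.rightDerived l).obj A)))
    (Z₁ Z₂ : C'') (hZ₁ : IsZero Z₁) (hZ₂ : IsZero Z₂) :
    ∃ (E : E₂CohomologicalSpectralSequence C'')
      (a : SpSeq.Abutment E (fun n : ℤ => if 0 ≤ n then Hn n.toNat else Z₁)),
      (∀ n, a.IsFinite n) ∧ SpSeq.IsBounded E ∧
      ∀ p q : ℤ, Nonempty ((E.page 2 le_rfl).X (p, q) ≅
        (if 0 ≤ p ∧ 0 ≤ q then E2n p.toNat q.toNat else Z₂)) := by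
  refine grothendieck_ss' T S hT A (fun n : ℤ => if 0 ≤ n then Hn n.toNat else Z₁) ?_ ?_
    (fun p q : ℤ => if 0 ≤ p ∧ 0 ≤ q then E2n p.toNat q.toNat else Z₂) ?_ ?_
  · intro k
    rw [if_pos (Int.natCast_nonneg k), Int.toNat_natCast]
    exact hH k
  · intro n hn
    rw [if_neg (by lia)]
    exact hZ₁
  · intro k l
    rw [if_pos ⟨Int.natCast_nonneg k, Int.natCast_nonneg l⟩, Int.toNat_natCast, Int.toNat_natCast]
    exact hE k l
  · intro p q hpq
    rw [if_neg (by lia)]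
    exact hZ₂

end SSGroth

namespace ExtCoy

variable {𝒜 : Type u} [Category.{v} 𝒜] [Abelian 𝒜] [HasExt.{v} 𝒜]

/-- `Ext^0` is `Hom`, functorially -/
noncomputable def ext₀Iso (P : 𝒜) :
    (extFunctor.{v} 0).obj (op P) ≅ preadditiveCoyoneda.obj (op P) :=
  NatIso.ofComponents (fun F => (Ext.addEquiv₀ (X := P) (Y := F)).toAddCommGrpIso) (by
    intro F F' φ
    apply AddCommGrpCat.hom_ext
    apply AddMonoidHom.ext
    intro x
    obtain ⟨b, rfl⟩ := (Ext.mk₀_bijective _ _).2 x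
    show Ext.addEquiv₀ ((Ext.mk₀ b).comp (Ext.mk₀ φ) (add_zero 0)) = Ext.addEquiv₀ (Ext.mk₀ b) ≫ φ
    rw [Ext.mk₀_comp_mk₀]
    have h1 : ∀ {F₁ : 𝒜} (b' : P ⟶ F₁),
        Ext.addEquiv₀ (Ext.mk₀ b') = b' := fun b' => Ext.addEquiv₀.apply_symm_apply b'
    rw [h1, h1])

/-- the right derived functors of a functor isomorphic to `Hom(P, -)` are `Ext^k(P, -)` -/
theorem rightDerived_iso_ext [HasInjectiveResolutions 𝒜] (S : 𝒜 ⥤ AddCommGrpCat.{v}) [S.Additive]
    [PreservesFiniteLimits S] (P : 𝒜) (e : preadditiveCoyoneda.obj (op P) ≅ S) (k : ℕ) (F : 𝒜) :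
    Nonempty (AddCommGrpCat.of (Ext.{v} P F k) ≅ (S.rightDerived k).obj F) := by
  haveI : EnoughInjectives 𝒜 := SSGroth.enoughInjectives_of_hasInjectiveResolutions 𝒜
  obtain ⟨e'⟩ := DeltaSeq.rightDerived_iso S (ExtPsh.isExSeq_ext P) (ext₀Iso P ≪≫ e) k F
  exact ⟨e'.symm⟩

end ExtCoy

end Groth.Agent.Lib.helper27
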