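import Mathlib
import Groth.Prelude.Def_RDerDelta
import Groth.Agent.Lib.Helper27.Horseshoe7
import Groth.Agent.Lib.Helper27.DeltaF

set_option linter.unusedSectionVars false
set_option linter.unusedVariables false

namespace Groth.Agent.Lib.helper27

open CategoryTheory Limits

universe v u v' u'

namespace Horseshoe

variable {C : Type u} [Category.{v} C] [Abelian C] [EnoughInjectives C]
  {D : Type u'} [Category.{v'} D] [Abelian D] (F : C ⥤ D) [F.Additive]

section core

variable (S : ShortComplex C) (hS : S.ShortExact) (hFS : (S.map F).ShortExact)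
  {J : C} [Injective J] (a : S.X₁ ⟶ J) (b : J ⟶ S.X₂) (fac : a ≫ b = S.f)

include hFS fac in
lemma mono_τ_X₁ : Mono (F.toRightDerivedZero.app S.X₁) := by
  have hm : Mono (F.map S.f) := hFS.mono_f
  rw [← fac, F.map_comp] at hm
  have hma : Mono (F.map a) := mono_of_mono (F.map a) (F.map b)
  have nat := F.toRightDerivedZero.naturality a
  have : Mono (F.toRightDerivedZero.app S.X₁ ≫ (F.rightDerived 0).map a) := by
    rw [← nat]
    infer_instance
  exact mono_of_mono _ ((F.rightDerived 0).map a)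

include hS hFS fac in
lemma isIso_τ_X₁ (hm3 : Mono (F.toRightDerivedZero.app S.X₃)) :
    IsIso (F.toRightDerivedZero.app S.X₁) := by
  have hmX := mono_τ_X₁ F S hFS a b fac
  have hpl := rightDerived_zero_preservesFiniteLimits F
  have := hS.mono_f
  have hmu : Mono ((F.rightDerived 0).map S.f) := inferInstance
  let τ := F.toRightDerivedZero
  let w : (F.rightDerived 0).obj S.X₁ ⟶ F.obj J := (F.rightDerived 0).map a ≫ inv (τ.app J)
  have hw : w ≫ τ.app J = (F.rightDerived 0).map a := by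
    simp [w]
  have h3 : (w ≫ F.map b) ≫ τ.app S.X₂ = (F.rightDerived 0).map S.f := by
    rw [Category.assoc, τ.naturality b, ← Category.assoc, hw, ← Functor.map_comp, fac]
  have h4 : (w ≫ F.map b) ≫ F.map S.g = 0 := by
    rw [← cancel_mono (τ.app S.X₃), zero_comp, Category.assoc, τ.naturality S.g,
      ← Category.assoc, h3, ← Functor.map_comp, S.zero, Functor.map_zero]
  have hmf : Mono (S.map F).f := hFS.mono_f
  let x : (F.rightDerived 0).obj S.X₁ ⟶ F.obj S.X₁ := hFS.exact.lift (w ≫ F.map b) h4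
  have hx : x ≫ F.map S.f = w ≫ F.map b := hFS.exact.lift_f _ h4
  have h5 : x ≫ τ.app S.X₁ = 𝟙 _ := by
    rw [← cancel_mono ((F.rightDerived 0).map S.f), Category.assoc, ← τ.naturality S.f,
      ← Category.assoc, hx, h3, Category.id_comp]
  have : IsSplitEpi (τ.app S.X₁) := ⟨⟨x, h5⟩⟩
  exact isIso_of_mono_of_isSplitEpi _

include fac in
lemma map_f_eq_zero (i : ℕ) : (F.rightDerived (i + 1)).map S.f = 0 := by
  rw [← fac, Functor.map_comp,
    (F.isZero_rightDerived_obj_injective_succ i J).eq_of_tgt ((F.rightDerived (i + 1)).map a) 0,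
    zero_comp]

include hS hFS fac in
lemma isZero_one (i2 : IsIso (F.toRightDerivedZero.app S.X₂))
    (i3 : IsIso (F.toRightDerivedZero.app S.X₃)) :
    IsZero ((F.rightDerived 1).obj S.X₁) := by
  let Δ := derivedLES F
  have hex := Δ.exact₁ S hS 0 1 rfl
  have hepi : Epi (Δ.δ S hS 0 1 rfl) := hex.epi_f (map_f_eq_zero F S a b fac 0)
  have hFg : Epi (F.map S.g) := hFS.epi_g
  have hg : Epi ((F.rightDerived 0).map S.g) := by
    have nat := F.toRightDerivedZero.naturality S.g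
    have : Epi (F.toRightDerivedZero.app S.X₂ ≫ (F.rightDerived 0).map S.g) := by
      rw [← nat]
      infer_instance
    exact epi_of_epi (F.toRightDerivedZero.app S.X₂) _
  have h0 : Δ.δ S hS 0 1 rfl = 0 := by
    rw [← cancel_epi ((F.rightDerived 0).map S.g), comp_zero]
    exact Δ.comp_δ S hS 0 1 rfl
  rw [IsZero.iff_id_eq_zero, ← cancel_epi (Δ.δ S hS 0 1 rfl), comp_zero, h0, zero_comp]

include hS fac in
lemma isZero_succ_succ (i : ℕ) (h : IsZero ((F.rightDerived (i + 1)).obj S.X₃)) :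
    IsZero ((F.rightDerived (i + 1 + 1)).obj S.X₁) := by
  let Δ := derivedLES F
  have hex := Δ.exact₁ S hS (i + 1) (i + 1 + 1) rfl
  exact hex.isZero_of_both_zeros (h.eq_of_src _ _) (map_f_eq_zero F S a b fac (i + 1))

end core

variable (𝒮 : ObjectProperty C)
  (h1 : ∀ X : C, ∃ (Y : C) (ι : X ⟶ Y), 𝒮 Y ∧ Mono ι)
  (h2 : ∀ S : ShortComplex C, S.ShortExact → 𝒮 S.X₁ → 𝒮 S.X₂ → 𝒮 S.X₃ ∧ (S.map F).ShortExact)

include h1 h2 in
/-- an embedding into an object of the class which factors through an injective -/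
lemma exists_eff (X : C) (hX : 𝒮 X) : ∃ (S : ShortComplex C) (hS : S.ShortExact)
    (hFS : (S.map F).ShortExact) (J : C) (hJ : Injective J) (a : S.X₁ ⟶ J) (b : J ⟶ S.X₂)
    (fac : a ≫ b = S.f), S.X₁ = X ∧ 𝒮 S.X₂ ∧ 𝒮 S.X₃ := by
  obtain ⟨Y, b, hY, hb⟩ := h1 (Injective.under X)
  have hS := cokerSES_shortExact (Injective.ι X ≫ b)
  obtain ⟨hQ, hFS⟩ := h2 (cokerSES (Injective.ι X ≫ b)) hS hX hY
  exact ⟨cokerSES (Injective.ι X ≫ b), hS, hFS, Injective.under X, inferInstance, Injective.ι X, b,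
    rfl, rfl, hY, hQ⟩

include h1 h2 in
lemma mono_toRightDerivedZero_of_class (X : C) (hX : 𝒮 X) :
    Mono (F.toRightDerivedZero.app X) := by
  obtain ⟨S, hS, hFS, J, hJ, a, b, fac, rfl, hY, hQ⟩ := exists_eff F 𝒮 h1 h2 X hX
  exact mono_τ_X₁ F S hFS a b fac

include h1 h2 in
lemma isIso_toRightDerivedZero_of_class (X : C) (hX : 𝒮 X) :
    IsIso (F.toRightDerivedZero.app X) := by
  obtain ⟨S, hS, hFS, J, hJ, a, b, fac, rfl, hY, hQ⟩ := exists_eff F 𝒮 h1 h2 X hX
  exact isIso_τ_X₁ F S hS hFS a b fac (mono_toRightDerivedZero_of_class F 𝒮 h1 h2 _ hQ)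

include h1 h2 in
theorem isZero_rightDerived_succ_of_class (i : ℕ) :
    ∀ (X : C), 𝒮 X → IsZero ((F.rightDerived (i + 1)).obj X) := by
  induction i with
  | zero =>
    intro X hX
    obtain ⟨S, hS, hFS, J, hJ, a, b, fac, rfl, hY, hQ⟩ := exists_eff F 𝒮 h1 h2 X hX
    exact isZero_one F S hS hFS a b fac (isIso_toRightDerivedZero_of_class F 𝒮 h1 h2 _ hY)
      (isIso_toRightDerivedZero_of_class F 𝒮 h1 h2 _ hQ)
  | succ i ih =>
    intro X hX
    obtain ⟨S, hS, hFS, J, hJ, a, b, fac, rfl, hY, hQ⟩ := exists_eff F 𝒮 h1 h2 X hX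
    exact isZero_succ_succ F S hS a b fac i (ih _ hQ)

end Horseshoe

end Groth.Agent.Lib.helper27
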