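import Mathlib

set_option autoImplicit false
set_option linter.unusedSectionVars false

namespace Groth.Agent.Lib.helper27

open CategoryTheory Limits Abelian

universe w w' w'' v u v' u' v'' u''

namespace ExtFun

section Induction

variable {C : Type u} [Category.{v} C] [Abelian C] [HasExt.{w} C] [EnoughInjectives C]

/-- Induction principle for `Ext` classes in the second variable: a predicate on all classes
`x : Ext P Q n` holds as soon as it holds in degree `0` and is stable under composition with
the extension class of a short exact sequence. -/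
theorem ext_induction (P : C) (motive : ∀ (n : ℕ) (Q : C), Ext.{w} P Q n → Prop)
    (h0 : ∀ (Q : C) (f : P ⟶ Q), motive 0 Q (Ext.mk₀ f))
    (hstep : ∀ (n : ℕ) (S : ShortComplex C) (hS : S.ShortExact) (y : Ext.{w} P S.X₃ n),
      motive n S.X₃ y → motive (n + 1) S.X₁ (y.comp hS.extClass rfl)) :
    ∀ (n : ℕ) (Q : C) (x : Ext.{w} P Q n), motive n Q x := by
  intro n
  induction n with
  | zero =>
    intro Q x
    obtain ⟨f, rfl⟩ := (Ext.mk₀_bijective P Q).2 x
    exact h0 Q f
  | succ n ih =>
    intro Q x
    let S : ShortComplex C := ShortComplex.mk _ _ (cokernel.condition (Injective.ι Q))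
    have hS : S.ShortExact :=
      { exact := ShortComplex.exact_of_g_is_cokernel _ (cokernelIsCokernel S.f) }
    obtain ⟨y, hy⟩ := Ext.covariant_sequence_exact₁ P hS x (Ext.eq_zero_of_injective _) rfl
    rw [← hy]
    exact hstep n S hS y (ih _ y)

end Induction

section Functoriality

variable {C : Type u} [Category.{v} C] [Abelian C] [HasExt.{w} C] [EnoughInjectives C]
  {D : Type u'} [Category.{v'} D] [Abelian D] [HasExt.{w'} D]
  {E : Type u''} [Category.{v''} E] [Abelian E] [HasExt.{w''} E]

/-- the morphism of short complexes induced by a natural transformation -/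
@[simps]
def natTransSC {L L' : C ⥤ D} [L.PreservesZeroMorphisms] [L'.PreservesZeroMorphisms]
    (τ : L ⟶ L') (S : ShortComplex C) : S.map L ⟶ S.map L' where
  τ₁ := τ.app S.X₁
  τ₂ := τ.app S.X₂
  τ₃ := τ.app S.X₃
  comm₁₂ := (τ.naturality S.f).symm
  comm₂₃ := (τ.naturality S.g).symm

/-- the extension class of the image of a short exact sequence under an exact functor,
with normalised type -/
noncomputable def mapExtClass (L : C ⥤ D) [L.Additive] [PreservesFiniteLimits L]
    [PreservesFiniteColimits L] {S : ShortComplex C} (hS : S.ShortExact) :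
    Ext.{w'} (L.obj S.X₃) (L.obj S.X₁) 1 :=
  (hS.map_of_exact L).extClass

lemma mapExactFunctor_extClass' (L : C ⥤ D) [L.Additive] [PreservesFiniteLimits L]
    [PreservesFiniteColimits L] {S : ShortComplex C} (hS : S.ShortExact) :
    hS.extClass.mapExactFunctor L = mapExtClass L hS :=
  Ext.mapExactFunctor_extClass L hS

lemma mapExtClass_naturality (L L' : C ⥤ D) [L.Additive] [PreservesFiniteLimits L]
    [PreservesFiniteColimits L] [L'.Additive] [PreservesFiniteLimits L']
    [PreservesFiniteColimits L'] (τ : L ⟶ L') {S : ShortComplex C} (hS : S.ShortExact) :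
    (mapExtClass L hS).comp (Ext.mk₀ (τ.app S.X₁)) (add_zero 1) =
      (Ext.mk₀ (τ.app S.X₃)).comp (mapExtClass L' hS) (zero_add 1) :=
  ShortComplex.ShortExact.extClass_naturality (hS.map_of_exact L)
    (hS.map_of_exact L') (natTransSC τ S)

/-- **Naturality of `mapExactFunctor` in the functor.** -/
theorem mapExactFunctor_natTrans (L L' : C ⥤ D) [L.Additive] [PreservesFiniteLimits L]
    [PreservesFiniteColimits L] [L'.Additive] [PreservesFiniteLimits L']
    [PreservesFiniteColimits L'] (τ : L ⟶ L') {P Q : C} {n : ℕ} (x : Ext.{w} P Q n) :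
    (x.mapExactFunctor L).comp (Ext.mk₀ (τ.app Q)) (add_zero n) =
      (Ext.mk₀ (τ.app P)).comp (x.mapExactFunctor L') (zero_add n) := by
  suffices h : ∀ (n : ℕ) (Q : C) (x : Ext.{w} P Q n),
      (x.mapExactFunctor L).comp (Ext.mk₀ (τ.app Q)) (add_zero n) =
        (Ext.mk₀ (τ.app P)).comp (x.mapExactFunctor L') (zero_add n) from h n Q x
  refine ext_induction P _ ?_ ?_
  · intro Q f
    simp only [Ext.mapExactFunctor_mk₀, Ext.mk₀_comp_mk₀]
    rw [τ.naturality]
  · intro n S hS y ih
    rw [Ext.mapExactFunctor_comp, Ext.mapExactFunctor_comp, mapExactFunctor_extClass',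
      mapExactFunctor_extClass']
    rw [Ext.comp_assoc_of_third_deg_zero, mapExtClass_naturality L L' τ hS,
      ← Ext.comp_assoc (y.mapExactFunctor L) (Ext.mk₀ (τ.app S.X₃)) (mapExtClass L' hS)
        (add_zero n) (zero_add 1) (by omega), ih,
      Ext.comp_assoc (Ext.mk₀ (τ.app P)) (y.mapExactFunctor L') (mapExtClass L' hS)
        (zero_add n) rfl (by omega)]

/-- `mapExactFunctor` for the identity functor -/
theorem mapExactFunctor_id {P Q : C} {n : ℕ} (x : Ext.{w} P Q n) :
    x.mapExactFunctor (𝟭 C) = x := by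
  suffices h : ∀ (n : ℕ) (Q : C) (x : Ext.{w} P Q n), x.mapExactFunctor (𝟭 C) = x from h n Q x
  refine ext_induction P _ ?_ ?_
  · intro Q f
    rw [Ext.mapExactFunctor_mk₀]
    rfl
  · intro n S hS y ih
    rw [Ext.mapExactFunctor_comp, mapExactFunctor_extClass', ih]
    rfl

lemma mapExtClass_comp_functor (L₁ : C ⥤ D) (L₂ : D ⥤ E)
    [L₁.Additive] [PreservesFiniteLimits L₁] [PreservesFiniteColimits L₁]
    [L₂.Additive] [PreservesFiniteLimits L₂] [PreservesFiniteColimits L₂]
    {S : ShortComplex C} (hS : S.ShortExact) :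
    (mapExtClass L₁ hS).mapExactFunctor L₂ = mapExtClass (L₁ ⋙ L₂) hS :=
  Ext.mapExactFunctor_extClass L₂ (hS.map_of_exact L₁)

/-- `mapExactFunctor` for a composite of exact functors -/
theorem mapExactFunctor_comp_functor (L₁ : C ⥤ D) (L₂ : D ⥤ E)
    [L₁.Additive] [PreservesFiniteLimits L₁] [PreservesFiniteColimits L₁]
    [L₂.Additive] [PreservesFiniteLimits L₂] [PreservesFiniteColimits L₂]
    {P Q : C} {n : ℕ} (x : Ext.{w} P Q n) :
    x.mapExactFunctor (L₁ ⋙ L₂) = (x.mapExactFunctor L₁).mapExactFunctor L₂ := by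
  suffices h : ∀ (n : ℕ) (Q : C) (x : Ext.{w} P Q n),
      x.mapExactFunctor (L₁ ⋙ L₂) = (x.mapExactFunctor L₁).mapExactFunctor L₂ from h n Q x
  refine ext_induction P _ ?_ ?_
  · intro Q f
    rw [Ext.mapExactFunctor_mk₀, Ext.mapExactFunctor_mk₀, Ext.mapExactFunctor_mk₀]
    rfl
  · intro n S hS y ih
    rw [Ext.mapExactFunctor_comp, Ext.mapExactFunctor_comp, Ext.mapExactFunctor_comp,
      mapExactFunctor_extClass', mapExactFunctor_extClass', mapExtClass_comp_functor, ih]

end Functoriality

end ExtFun

end Groth.Agent.Lib.helper27
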