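import Mathlib
import Groth.Agent.Lib.Helper27.ExtFun

set_option autoImplicit false
set_option linter.unusedSectionVars false

namespace Groth.Agent.Lib.helper27

open CategoryTheory Limits Abelian

universe w w' w'' v u v' u' v'' u''

namespace ExtPull

section Def

variable {B : Type u} [Category.{v} B] [Abelian B] [HasExt.{w} B]
  {A : Type u'} [Category.{v'} A] [Abelian A] [HasExt.{w'} A]
  {L : B ⥤ A} {R : A ⥤ B} (adj : L ⊣ R) [L.Additive] [PreservesFiniteLimits L]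
  [PreservesFiniteColimits L]

/-- the map `Ext^q(Z_B, G) → Ext^q(Z_A, G')` induced by an adjunction `L ⊣ R` with `L` exact,
a map `u : Z_A ⟶ L Z_B` and a map `θ : G ⟶ R G'` -/
noncomputable def hmap {ZA : A} {ZB : B} (u : ZA ⟶ L.obj ZB) {G : B} {G' : A}
    (θ : G ⟶ R.obj G') (q : ℕ) : Ext.{w} ZB G q →+ Ext.{w'} ZA G' q :=
  ((Ext.mk₀ u).precomp G' (zero_add q)).comp
    (((Ext.mk₀ (adj.counit.app G')).postcomp (L.obj ZB) (add_zero q)).comp
      ((L.mapExtAddHom ZB (R.obj G') q).comp ((Ext.mk₀ θ).postcomp ZB (add_zero q))))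

lemma hmap_apply {ZA : A} {ZB : B} (u : ZA ⟶ L.obj ZB) {G : B} {G' : A}
    (θ : G ⟶ R.obj G') (q : ℕ) (x : Ext.{w} ZB G q) :
    hmap adj u θ q x = (Ext.mk₀ u).comp
      (((x.comp (Ext.mk₀ θ) (add_zero q)).mapExactFunctor L).comp
        (Ext.mk₀ (adj.counit.app G')) (add_zero q)) (zero_add q) := rfl

end Def

section Comp

variable {B : Type u} [Category.{v} B] [Abelian B] [HasExt.{w} B] [EnoughInjectives B]
  {A : Type u'} [Category.{v'} A] [Abelian A] [HasExt.{w'} A]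
  {A' : Type u''} [Category.{v''} A'] [Abelian A'] [HasExt.{w''} A']
  {L₁ : B ⥤ A} {R₁ : A ⥤ B} (adj₁ : L₁ ⊣ R₁) [L₁.Additive] [PreservesFiniteLimits L₁]
  [PreservesFiniteColimits L₁]
  {L₂ : A ⥤ A'} {R₂ : A' ⥤ A} (adj₂ : L₂ ⊣ R₂) [L₂.Additive] [PreservesFiniteLimits L₂]
  [PreservesFiniteColimits L₂]

theorem hmap_comp {ZB : B} {ZA : A} {ZA' : A'} (u₁ : ZA ⟶ L₁.obj ZB) (u₂ : ZA' ⟶ L₂.obj ZA)
    {G : B} {G' : A} {G'' : A'} (θ : G ⟶ R₁.obj G') (θ' : G' ⟶ R₂.obj G'') (q : ℕ)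
    (x : Ext.{w} ZB G q) :
    hmap adj₂ u₂ θ' q (hmap adj₁ u₁ θ q x) =
      hmap (adj₁.comp adj₂) (u₂ ≫ L₂.map u₁) (θ ≫ R₁.map θ') q x := by
  simp only [hmap_apply, Ext.mapExactFunctor_comp, Ext.mapExactFunctor_mk₀,
    ExtFun.mapExactFunctor_comp_functor L₁ L₂, Adjunction.comp_counit_app,
    ← Ext.mk₀_comp_mk₀, Ext.comp_assoc_of_third_deg_zero, Ext.comp_assoc_of_second_deg_zero]
  congr 3
  simp only [Ext.mk₀_comp_mk₀]
  congr 2
  simp only [Functor.comp_obj, ← Functor.map_comp, ← Category.assoc]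
  congr 2
  exact (adj₁.counit.naturality θ').symm

end Comp

section Change

variable {B : Type u} [Category.{v} B] [Abelian B] [HasExt.{w} B] [EnoughInjectives B]
  {A : Type u'} [Category.{v'} A] [Abelian A] [HasExt.{w'} A]
  {L : B ⥤ A} {R : A ⥤ B} (adj : L ⊣ R) [L.Additive] [PreservesFiniteLimits L]
  [PreservesFiniteColimits L]
  {L' : B ⥤ A} {R' : A ⥤ B} (adj' : L' ⊣ R') [L'.Additive] [PreservesFiniteLimits L']
  [PreservesFiniteColimits L']

/-- change of adjunction: if `ρ : R ⟶ R'` and `τ : L' ⟶ L` is its conjugate, then the map induced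
by `(adj', u', θ ≫ ρ)` is the map induced by `(adj, u' ≫ τ, θ)` -/
theorem hmap_change (ρ : R ⟶ R') {ZB : B} {ZA : A} (u' : ZA ⟶ L'.obj ZB) {G : B} {G' : A}
    (θ : G ⟶ R.obj G') (q : ℕ) (x : Ext.{w} ZB G q) :
    hmap adj' u' (θ ≫ ρ.app G') q x =
      hmap adj (u' ≫ ((conjugateEquiv adj adj').symm ρ).app ZB) θ q x := by
  have h1 := conjugateEquiv_counit_symm adj adj' ρ G'
  set τ := (conjugateEquiv adj adj').symm ρ with hτ
  set y := x.comp (Ext.mk₀ θ) (add_zero q) with hy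
  have h2 := ExtFun.mapExactFunctor_natTrans L' L τ y
  have e1 : x.comp (Ext.mk₀ (θ ≫ ρ.app G')) (add_zero q) =
      y.comp (Ext.mk₀ (ρ.app G')) (add_zero q) := by
    rw [hy, Ext.comp_assoc_of_third_deg_zero, Ext.mk₀_comp_mk₀]
  have e2 : ((y.comp (Ext.mk₀ (ρ.app G')) (add_zero q)).mapExactFunctor L').comp
      (Ext.mk₀ (adj'.counit.app G')) (add_zero q) =
      ((Ext.mk₀ (τ.app ZB)).comp (y.mapExactFunctor L) (zero_add q)).comp
        (Ext.mk₀ (adj.counit.app G')) (add_zero q) := by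
    rw [Ext.mapExactFunctor_comp, Ext.mapExactFunctor_mk₀, Ext.comp_assoc_of_third_deg_zero,
      Ext.mk₀_comp_mk₀, h1, ← Ext.mk₀_comp_mk₀, ← Ext.comp_assoc_of_third_deg_zero, h2]
  rw [hmap_apply, hmap_apply, e1, e2, ← Ext.mk₀_comp_mk₀, Ext.comp_assoc_of_second_deg_zero,
    Ext.comp_assoc_of_third_deg_zero]

end Change

section Id

variable {B : Type u} [Category.{v} B] [Abelian B] [HasExt.{w} B] [EnoughInjectives B]

theorem hmap_id {Z G G' : B} (θ : G ⟶ G') (q : ℕ) (x : Ext.{w} Z G q) :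
    hmap (Adjunction.id (C := B)) (𝟙 Z) θ q x = x.comp (Ext.mk₀ θ) (add_zero q) := by
  rw [hmap_apply, ExtFun.mapExactFunctor_id]
  simp

end Id

end ExtPull

end Groth.Agent.Lib.helper27
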