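import Mathlib
import Groth.Prelude.Def_EtCore
import Groth.Agent.Lib.Helper27.ExtPull
import Groth.Agent.S0101

set_option autoImplicit false
set_option linter.unusedSectionVars false

namespace Groth.Agent.Lib.helper27

open CategoryTheory Limits Abelian Opposite AlgebraicGeometry

universe u

namespace PullFunEt

set_option backward.isDefEq.respectTransparency.types false

/-- projection from the base change -/
noncomputable abbrev pr {X Y : Scheme.{u}} (a : X ⟶ Y) (U : Y.Etale) :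
    ((EtCoh.bc a).obj U).left ⟶ U.left := pullback.fst U.hom a

lemma bc_obj_hom {X Y : Scheme.{u}} (a : X ⟶ Y) (U : Y.Etale) :
    ((EtCoh.bc a).obj U).hom = pullback.snd U.hom a := rfl

lemma pr_condition {X Y : Scheme.{u}} (a : X ⟶ Y) (U : Y.Etale) :
    pr a U ≫ U.hom = ((EtCoh.bc a).obj U).hom ≫ a := pullback.condition

/-- hom-ext into a base change -/
lemma bc_hom_ext {X Y : Scheme.{u}} (a : X ⟶ Y) {V : X.Etale} {U : Y.Etale}
    (ξ ξ' : V ⟶ (EtCoh.bc a).obj U) (h : ξ.left ≫ pr a U = ξ'.left ≫ pr a U) : ξ = ξ' := by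
  apply MorphismProperty.Over.Hom.ext
  apply pullback.hom_ext h
  have h1 := MorphismProperty.Over.w ξ
  have h2 := MorphismProperty.Over.w ξ'
  exact h1.trans h2.symm

@[reassoc]
lemma bc_map_pr {X Y : Scheme.{u}} (a : X ⟶ Y) {U V : Y.Etale} (k : U ⟶ V) :
    ((EtCoh.bc a).map k).left ≫ pr a V = pr a U ≫ k.left := by
  dsimp [EtCoh.bc, pr]
  exact pullback.lift_fst _ _ _

/-- triangle iso for base change -/
noncomputable def bcTri {Y' Y S : Scheme.{u}} (g : Y' ⟶ Y) (a : Y ⟶ S) (a' : Y' ⟶ S)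
    (w : g ≫ a = a') : EtCoh.bc a ⋙ EtCoh.bc g ≅ EtCoh.bc a' :=
  (MorphismProperty.Over.pullbackComp (P := EtCoh.etaleMP) (Q := ⊤) g a a' w.symm).symm

@[reassoc]
lemma bcTri_hom_pr {Y' Y S : Scheme.{u}} (g : Y' ⟶ Y) (a : Y ⟶ S) (a' : Y' ⟶ S)
    (w : g ≫ a = a') (U : S.Etale) :
    ((bcTri g a a' w).hom.app U).left ≫ pr a' U = pr g ((EtCoh.bc a).obj U) ≫ pr a U := by
  subst w
  simp [bcTri, pr, EtCoh.bc]
  exact pullbackLeftPullbackSndIso_hom_fst _ _ _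

@[reassoc]
lemma bcTri_inv_pr {Y' Y S : Scheme.{u}} (g : Y' ⟶ Y) (a : Y ⟶ S) (a' : Y' ⟶ S)
    (w : g ≫ a = a') (U : S.Etale) :
    ((bcTri g a a' w).inv.app U).left ≫ pr g ((EtCoh.bc a).obj U) ≫ pr a U = pr a' U := by
  subst w
  simp [bcTri, pr, EtCoh.bc]
  exact pullbackLeftPullbackSndIso_inv_fst _ _ _

/-- associativity coherence of `bcTri` -/
lemma bcTri_assoc_iso {Y'' Y' Y S : Scheme.{u}} (h : Y'' ⟶ Y') (g : Y' ⟶ Y) (a : Y ⟶ S)
    (a' : Y' ⟶ S) (a'' : Y'' ⟶ S) (w : g ≫ a = a') (w' : h ≫ a' = a'')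
    (w'' : (h ≫ g) ≫ a = a'') (U : S.Etale) :
    (bcTri h g (h ≫ g) rfl).app ((EtCoh.bc a).obj U) ≪≫ (bcTri (h ≫ g) a a'' w'').app U =
      (EtCoh.bc h).mapIso ((bcTri g a a' w).app U) ≪≫ (bcTri h a' a'' w').app U := by
  ext1
  apply bc_hom_ext
  simp only [Iso.trans_hom, Iso.app_hom, Functor.mapIso_hom]
  erw [MorphismProperty.Comma.comp_left, MorphismProperty.Comma.comp_left]
  rw [Category.assoc, Category.assoc, bcTri_hom_pr, bcTri_hom_pr, bcTri_hom_pr_assoc,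
    bc_map_pr_assoc, bcTri_hom_pr]
  rfl

lemma bcTri_assoc_inv {Y'' Y' Y S : Scheme.{u}} (h : Y'' ⟶ Y') (g : Y' ⟶ Y) (a : Y ⟶ S)
    (a' : Y' ⟶ S) (a'' : Y'' ⟶ S) (w : g ≫ a = a') (w' : h ≫ a' = a'')
    (w'' : (h ≫ g) ≫ a = a'') (U : S.Etale) :
    (bcTri (h ≫ g) a a'' w'').inv.app U ≫ (bcTri h g (h ≫ g) rfl).inv.app ((EtCoh.bc a).obj U) =
      (bcTri h a' a'' w').inv.app U ≫ (EtCoh.bc h).map ((bcTri g a a' w).inv.app U) := by
  have := congrArg Iso.inv (bcTri_assoc_iso h g a a' a'' w w' w'' U)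
  simpa using this

instance {Y : Scheme.{u}} (U : Y.Etale) : IsIso (pr (𝟙 Y) U) :=
  pullback_fst_iso_of_right_iso U.hom (𝟙 Y)

/-- base change along the identity -/
noncomputable def bcId (Y : Scheme.{u}) : EtCoh.bc (𝟙 Y) ≅ 𝟭 Y.Etale :=
  NatIso.ofComponents (fun U => MorphismProperty.Over.isoMk (asIso (pr (𝟙 Y) U))
    (by simpa using pr_condition (𝟙 Y) U))
    (fun {U V} k => by
      apply MorphismProperty.Over.Hom.ext
      exact bc_map_pr (𝟙 Y) k)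

lemma bcId_hom_left (Y : Scheme.{u}) (U : Y.Etale) :
    ((bcId Y).hom.app U).left = pr (𝟙 Y) U := rfl

lemma bcTri_id_iso {Y S : Scheme.{u}} (a : Y ⟶ S) (w : 𝟙 Y ≫ a = a) (U : S.Etale) :
    (bcTri (𝟙 Y) a a w).app U = (bcId Y).app ((EtCoh.bc a).obj U) := by
  ext1
  apply bc_hom_ext
  simp only [Iso.app_hom]
  rw [bcTri_hom_pr, bcId_hom_left]


/-- the constant sheaf functor -/
noncomputable abbrev cst (Y : Scheme.{u}) : AddCommGrpCat.{u + 1} ⥤ EtCoh.Ab Y :=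
  constantSheaf Y.smallEtaleTopology AddCommGrpCat.{u + 1}

/-- the constant sheaf `ℤ` -/
noncomputable abbrev Z (Y : Scheme.{u}) : EtCoh.Ab Y :=
  (cst Y).obj (AddCommGrpCat.of (ULift ℤ))

/-- global sections -/
noncomputable abbrev Γ (Y : Scheme.{u}) : EtCoh.Ab Y ⥤ AddCommGrpCat.{u + 1} := EtCore.gsec Y

/-- the adjunction `const ⊣ Γ` -/
noncomputable abbrev cadj (Y : Scheme.{u}) : cst Y ⊣ Γ Y := EtCore.constAdj Y

/-- the adjunction `g⁻¹ ⊣ g_*` -/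
noncomputable abbrev adj {Y' Y : Scheme.{u}} (g : Y' ⟶ Y) : EtCoh.pull g ⊣ EtCoh.push g :=
  EtCoh.pullPushAdj g

instance {Y' Y : Scheme.{u}} (g : Y' ⟶ Y) : PreservesFiniteLimits (EtCoh.pull g) :=
  Groth.Agent.S0101.result g

/-- `g_* ⋙ a_* ≅ a'_*` for `g ≫ a = a'` -/
noncomputable def pushTri {Y' Y S : Scheme.{u}} (g : Y' ⟶ Y) (a : Y ⟶ S) (a' : Y' ⟶ S)
    (w : g ≫ a = a') : EtCoh.push g ⋙ EtCoh.push a ≅ EtCoh.push a' :=
  Functor.sheafPushforwardContinuousComp' (bcTri g a a' w) AddCommGrpCat.{u + 1}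
    S.smallEtaleTopology Y.smallEtaleTopology Y'.smallEtaleTopology

lemma pushTri_hom_app {Y' Y S : Scheme.{u}} (g : Y' ⟶ Y) (a : Y ⟶ S) (a' : Y' ⟶ S)
    (w : g ≫ a = a') (M : EtCoh.Ab Y') (U : S.Etale) :
    ((pushTri g a a' w).hom.app M).hom.app (op U) = M.obj.map ((bcTri g a a' w).inv.app U).op := by
  simp [pushTri]

lemma pushTri_inv_app {Y' Y S : Scheme.{u}} (g : Y' ⟶ Y) (a : Y ⟶ S) (a' : Y' ⟶ S)
    (w : g ≫ a = a') (M : EtCoh.Ab Y') (U : S.Etale) :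
    ((pushTri g a a' w).inv.app M).hom.app (op U) = M.obj.map ((bcTri g a a' w).hom.app U).op := by
  simp [pushTri]

/-- `h_* ⋙ g_* ≅ (h ≫ g)_*` -/
noncomputable abbrev pushCompIso {Y'' Y' Y : Scheme.{u}} (h : Y'' ⟶ Y') (g : Y' ⟶ Y) :
    EtCoh.push h ⋙ EtCoh.push g ≅ EtCoh.push (h ≫ g) :=
  pushTri h g (h ≫ g) rfl

/-- `(𝟙 Y)_* ≅ 𝟭` -/
noncomputable def pushIdIso (Y : Scheme.{u}) : EtCoh.push (𝟙 Y) ≅ 𝟭 (EtCoh.Ab Y) :=
  Functor.sheafPushforwardContinuousId' (bcId Y) AddCommGrpCat.{u + 1} Y.smallEtaleTopology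

lemma pushIdIso_hom_app (Y : Scheme.{u}) (M : EtCoh.Ab Y) (U : Y.Etale) :
    ((pushIdIso Y).hom.app M).hom.app (op U) = M.obj.map ((bcId Y).inv.app U).op := by
  simp [pushIdIso]

lemma pushIdIso_inv_app (Y : Scheme.{u}) (M : EtCoh.Ab Y) (U : Y.Etale) :
    ((pushIdIso Y).inv.app M).hom.app (op U) = M.obj.map ((bcId Y).hom.app U).op := by
  simp [pushIdIso]

/-- `g_* ⋙ Γ_Y ≅ Γ_{Y'}` -/
noncomputable abbrev pushΓIso {Y' Y : Scheme.{u}} (g : Y' ⟶ Y) : EtCoh.push g ⋙ Γ Y ≅ Γ Y' :=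
  EtCore.pushGsecIso g

lemma pushΓIso_hom_app {Y' Y : Scheme.{u}} (g : Y' ⟶ Y) (M : EtCoh.Ab Y') :
    (pushΓIso g).hom.app M = M.obj.map (EtCore.bcTopIso g).inv.op := rfl

lemma map_terminal_eq {Y : Scheme.{u}} (M : EtCoh.Ab Y) {T : Y.Etale} (hT : IsTerminal T)
    {V : Y.Etale} (k k' : V ⟶ T) : M.obj.map k.op = M.obj.map k'.op := by
  rw [hT.hom_ext k k']

lemma pushΓ_comp {Y'' Y' Y : Scheme.{u}} (h : Y'' ⟶ Y') (g : Y' ⟶ Y) :
    Functor.isoWhiskerLeft (EtCoh.push h) (pushΓIso g) ≪≫ pushΓIso h =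
      (Functor.associator _ _ _).symm ≪≫
        Functor.isoWhiskerRight (pushCompIso h g) (Γ Y) ≪≫ pushΓIso (h ≫ g) := by
  refine Iso.ext (NatTrans.ext (funext fun M => ?_))
  have hT : IsTerminal ((EtCoh.bc h).obj ((EtCoh.bc g).obj (EtCoh.top Y))) :=
    IsTerminal.isTerminalObj (EtCoh.bc h) _ (EtCore.bcTopIsTerminal g)
  simp only [Iso.trans_hom, Functor.isoWhiskerLeft_hom, NatTrans.comp_app, Functor.whiskerLeft_app,
    Iso.symm_hom, Functor.associator_inv_app, Functor.isoWhiskerRight_hom,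
    Functor.whiskerRight_app, Category.id_comp]
  rw [pushΓIso_hom_app, pushΓIso_hom_app, pushΓIso_hom_app]
  have e1 : (Γ Y).map ((pushCompIso h g).hom.app M) =
      M.obj.map ((bcTri h g (h ≫ g) rfl).inv.app (EtCoh.top Y)).op :=
    pushTri_hom_app h g (h ≫ g) rfl M (EtCoh.top Y)
  have e2 : ((EtCoh.push h).obj M).obj.map (EtCore.bcTopIso g).inv.op =
      M.obj.map ((EtCoh.bc h).map (EtCore.bcTopIso g).inv).op := rfl
  rw [e1, e2]
  exact ((M.obj.map_comp _ _).symm.trans (map_terminal_eq M hT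
    ((EtCore.bcTopIso h).inv ≫ (EtCoh.bc h).map (EtCore.bcTopIso g).inv)
    ((EtCore.bcTopIso (h ≫ g)).inv ≫ (bcTri h g (h ≫ g) rfl).inv.app (EtCoh.top Y)))).trans
      (M.obj.map_comp _ _)

lemma pushΓ_id (Y : Scheme.{u}) :
    pushΓIso (𝟙 Y) =
      Functor.isoWhiskerRight (pushIdIso Y) (Γ Y) ≪≫ Functor.leftUnitor (Γ Y) := by
  refine Iso.ext (NatTrans.ext (funext fun M => ?_))
  simp only [Iso.trans_hom, Functor.isoWhiskerRight_hom, NatTrans.comp_app,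
    Functor.whiskerRight_app, Functor.leftUnitor_hom_app, Category.comp_id]
  rw [pushΓIso_hom_app]
  have e1 : (Γ Y).map ((pushIdIso Y).hom.app M) = M.obj.map ((bcId Y).inv.app (EtCoh.top Y)).op :=
    pushIdIso_hom_app Y M (EtCoh.top Y)
  rw [e1]
  exact map_terminal_eq M (EtCore.bcTopIsTerminal (𝟙 Y)) _ _

lemma pushTri_assoc {Y'' Y' Y S : Scheme.{u}} (h : Y'' ⟶ Y') (g : Y' ⟶ Y) (a : Y ⟶ S)
    (a' : Y' ⟶ S) (a'' : Y'' ⟶ S) (w : g ≫ a = a') (w' : h ≫ a' = a'')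
    (w'' : (h ≫ g) ≫ a = a'') (M : EtCoh.Ab Y'') :
    (EtCoh.push a).map ((pushCompIso h g).hom.app M) ≫ (pushTri (h ≫ g) a a'' w'').hom.app M =
      (pushTri g a a' w).hom.app ((EtCoh.push h).obj M) ≫ (pushTri h a' a'' w').hom.app M := by
  apply Sheaf.hom_ext
  apply NatTrans.ext
  funext U
  obtain ⟨U⟩ := U
  rw [ObjectProperty.FullSubcategory.comp_hom, ObjectProperty.FullSubcategory.comp_hom,
    NatTrans.comp_app, NatTrans.comp_app, pushTri_hom_app, pushTri_hom_app,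
    pushTri_hom_app]
  have e1 : ((EtCoh.push a).map ((pushCompIso h g).hom.app M)).hom.app (op U) =
      M.obj.map ((bcTri h g (h ≫ g) rfl).inv.app ((EtCoh.bc a).obj U)).op :=
    pushTri_hom_app h g (h ≫ g) rfl M ((EtCoh.bc a).obj U)
  have e2 : ((EtCoh.push h).obj M).obj.map ((bcTri g a a' w).inv.app U).op =
      M.obj.map ((EtCoh.bc h).map ((bcTri g a a' w).inv.app U)).op := rfl
  rw [e1, e2]
  refine ((M.obj.map_comp _ _).symm.trans ?_).trans (M.obj.map_comp _ _)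
  exact congrArg (fun k => M.obj.map k.op) (bcTri_assoc_inv h g a a' a'' w w' w'' U)

lemma pushTri_id {Y S : Scheme.{u}} (a : Y ⟶ S) (w : 𝟙 Y ≫ a = a) (M : EtCoh.Ab Y) :
    (pushTri (𝟙 Y) a a w).inv.app M = (EtCoh.push a).map ((pushIdIso Y).inv.app M) := by
  apply Sheaf.hom_ext
  apply NatTrans.ext
  funext U
  obtain ⟨U⟩ := U
  rw [pushTri_inv_app]
  have e1 : ((EtCoh.push a).map ((pushIdIso Y).inv.app M)).hom.app (op U) =
      M.obj.map ((bcId Y).hom.app ((EtCoh.bc a).obj U)).op :=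
    pushIdIso_inv_app Y M ((EtCoh.bc a).obj U)
  rw [e1]
  have := congrArg Iso.hom (bcTri_id_iso a w U)
  simp only [Iso.app_hom] at this
  rw [this]


/-- the pullback of the constant sheaf is the constant sheaf -/
noncomputable def pullCstIso {Y' Y : Scheme.{u}} (g : Y' ⟶ Y) : cst Y ⋙ EtCoh.pull g ≅ cst Y' :=
  Adjunction.leftAdjointCompIso (cadj Y) (adj g) (cadj Y') (pushΓIso g)

/-- pullbacks compose -/
noncomputable def pullCompIso {Y'' Y' Y : Scheme.{u}} (h : Y'' ⟶ Y') (g : Y' ⟶ Y) :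
    EtCoh.pull g ⋙ EtCoh.pull h ≅ EtCoh.pull (h ≫ g) :=
  Adjunction.leftAdjointCompIso (adj g) (adj h) (adj (h ≫ g)) (pushCompIso h g)

/-- pullback along the identity -/
noncomputable def pullIdIso (Y : Scheme.{u}) : EtCoh.pull (𝟙 Y) ≅ 𝟭 (EtCoh.Ab Y) :=
  Adjunction.leftAdjointIdIso (adj (𝟙 Y)) (pushIdIso Y)

/-- the canonical map `ℤ_{Y'} ⟶ g⁻¹ ℤ_Y` -/
noncomputable def uZ {Y' Y : Scheme.{u}} (g : Y' ⟶ Y) : Z Y' ⟶ (EtCoh.pull g).obj (Z Y) :=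
  (pullCstIso g).inv.app (AddCommGrpCat.of (ULift ℤ))

lemma pullCstIso_assoc {Y'' Y' Y : Scheme.{u}} (h : Y'' ⟶ Y') (g : Y' ⟶ Y) :
    Functor.isoWhiskerLeft (cst Y) (pullCompIso h g) ≪≫ pullCstIso (h ≫ g) =
      (Functor.associator _ _ _).symm ≪≫
        Functor.isoWhiskerRight (pullCstIso g) (EtCoh.pull h) ≪≫ pullCstIso h := by
  apply Adjunction.leftAdjointCompIso_assoc
  exact pushΓ_comp h g

lemma uZ_comp {Y'' Y' Y : Scheme.{u}} (h : Y'' ⟶ Y') (g : Y' ⟶ Y) :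
    uZ (h ≫ g) ≫ (pullCompIso h g).inv.app (Z Y) = uZ h ≫ (EtCoh.pull h).map (uZ g) := by
  have := congrArg (fun e => e.inv.app (AddCommGrpCat.of (ULift ℤ))) (pullCstIso_assoc h g)
  simpa [uZ] using this

lemma pullCstIso_id (Y : Scheme.{u}) :
    pullCstIso (𝟙 Y) =
      Functor.isoWhiskerLeft (cst Y) (pullIdIso Y) ≪≫ Functor.rightUnitor (cst Y) := by
  apply Adjunction.leftAdjointCompIso_comp_id
  exact pushΓ_id Y

lemma uZ_id (Y : Scheme.{u}) : uZ (𝟙 Y) ≫ (pullIdIso Y).hom.app (Z Y) = 𝟙 _ := by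
  have := congrArg (fun e => e.inv.app (AddCommGrpCat.of (ULift ℤ))) (pullCstIso_id Y)
  dsimp at this
  rw [uZ, this]
  simp

/-- the pullback map on cohomology attached to `g : Y' ⟶ Y` and `θ : G ⟶ g_* G'` -/
noncomputable def Hmap {Y' Y : Scheme.{u}} (g : Y' ⟶ Y) {G : EtCoh.Ab Y} {G' : EtCoh.Ab Y'}
    (θ : G ⟶ (EtCoh.push g).obj G') (q : ℕ) : EtCoh.H Y G q →+ EtCoh.H Y' G' q :=
  ExtPull.hmap (adj g) (uZ g) θ q

lemma τ_comp_eq {Y'' Y' Y : Scheme.{u}} (h : Y'' ⟶ Y') (g : Y' ⟶ Y) :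
    (conjugateEquiv ((adj g).comp (adj h)) (adj (h ≫ g))).symm (pushCompIso h g).hom =
      (pullCompIso h g).inv := by
  rw [Equiv.symm_apply_eq]
  exact (Adjunction.conjugateEquiv_leftAdjointCompIso_inv _ _ _ _).symm

theorem Hmap_comp {Y'' Y' Y : Scheme.{u}} (h : Y'' ⟶ Y') (g : Y' ⟶ Y)
    {G : EtCoh.Ab Y} {G' : EtCoh.Ab Y'} {G'' : EtCoh.Ab Y''}
    (θ : G ⟶ (EtCoh.push g).obj G') (θ' : G' ⟶ (EtCoh.push h).obj G'') (q : ℕ)
    (x : EtCoh.H Y G q) :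
    Hmap h θ' q (Hmap g θ q x) =
      Hmap (h ≫ g) ((θ ≫ (EtCoh.push g).map θ') ≫ (pushCompIso h g).hom.app G'') q x := by
  have h1 := ExtPull.hmap_comp (adj g) (adj h) (uZ g) (uZ h) θ θ' q x
  have h2 := ExtPull.hmap_change ((adj g).comp (adj h)) (adj (h ≫ g)) (pushCompIso h g).hom
    (uZ (h ≫ g)) (θ ≫ (EtCoh.push g).map θ') q x
  rw [τ_comp_eq, uZ_comp] at h2
  rw [Hmap, Hmap, h1, ← h2, Hmap]

lemma τ_id_eq (Y : Scheme.{u}) :
    (conjugateEquiv (Adjunction.id (C := EtCoh.Ab Y)) (adj (𝟙 Y))).symm (pushIdIso Y).inv =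
      (pullIdIso Y).hom := by
  rw [Equiv.symm_apply_eq]
  exact (Adjunction.conjugateEquiv_leftAdjointIdIso_hom _ _).symm

theorem Hmap_id {Y : Scheme.{u}} {G G' : EtCoh.Ab Y} (θ : G ⟶ G') (q : ℕ) (x : EtCoh.H Y G q) :
    Hmap (𝟙 Y) (θ ≫ (pushIdIso Y).inv.app G') q x = x.comp (Ext.mk₀ θ) (add_zero q) := by
  have h2 := ExtPull.hmap_change (Adjunction.id (C := EtCoh.Ab Y)) (adj (𝟙 Y))
    (pushIdIso Y).inv (uZ (𝟙 Y)) θ q x
  rw [τ_id_eq, uZ_id, ExtPull.hmap_id] at h2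
  rw [Hmap, ← h2]


section Over

variable {S : Scheme.{u}} (F : EtCoh.Ab S)

/-- the transition map `a⁻¹F ⟶ g_* a'⁻¹F` for `g ≫ a = a'` -/
noncomputable def θ {Y' Y : Scheme.{u}} (g : Y' ⟶ Y) (a : Y ⟶ S) (a' : Y' ⟶ S) (w : g ≫ a = a') :
    (EtCoh.pull a).obj F ⟶ (EtCoh.push g).obj ((EtCoh.pull a').obj F) :=
  ((adj a).homEquiv F _).symm
    ((adj a').unit.app F ≫ (pushTri g a a' w).inv.app ((EtCoh.pull a').obj F))

lemma homEquiv_θ {Y' Y : Scheme.{u}} (g : Y' ⟶ Y) (a : Y ⟶ S) (a' : Y' ⟶ S) (w : g ≫ a = a') :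
    (adj a).unit.app F ≫ (EtCoh.push a).map (θ F g a a' w) =
      (adj a').unit.app F ≫ (pushTri g a a' w).inv.app ((EtCoh.pull a').obj F) := by
  have := ((adj a).homEquiv F _).apply_symm_apply
    ((adj a').unit.app F ≫ (pushTri g a a' w).inv.app ((EtCoh.pull a').obj F))
  rw [Adjunction.homEquiv_unit] at this
  exact this

lemma θ_id {Y : Scheme.{u}} (a : Y ⟶ S) (w : 𝟙 Y ≫ a = a) :
    θ F (𝟙 Y) a a w = (pushIdIso Y).inv.app ((EtCoh.pull a).obj F) := by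
  apply ((adj a).homEquiv F _).injective
  rw [Adjunction.homEquiv_unit, homEquiv_θ, Adjunction.homEquiv_unit, pushTri_id]

lemma pushTri_assoc' {Y'' Y' Y : Scheme.{u}} (h : Y'' ⟶ Y') (g : Y' ⟶ Y) (a : Y ⟶ S)
    (a' : Y' ⟶ S) (a'' : Y'' ⟶ S) (w : g ≫ a = a') (w' : h ≫ a' = a'')
    (w'' : (h ≫ g) ≫ a = a'') (M : EtCoh.Ab Y'') :
    (pushTri h a' a'' w').inv.app M ≫ (pushTri g a a' w).inv.app ((EtCoh.push h).obj M) ≫
      (EtCoh.push a).map ((pushCompIso h g).hom.app M) = (pushTri (h ≫ g) a a'' w'').inv.app M := by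
  have h1 := pushTri_assoc h g a a' a'' w w' w'' M
  rw [← cancel_mono ((pushTri (h ≫ g) a a'' w'').hom.app M)]
  simp only [Category.assoc]
  rw [h1]
  simp

lemma θ_comp {Y'' Y' Y : Scheme.{u}} (h : Y'' ⟶ Y') (g : Y' ⟶ Y) (a : Y ⟶ S) (a' : Y' ⟶ S)
    (a'' : Y'' ⟶ S) (w : g ≫ a = a') (w' : h ≫ a' = a'') (w'' : (h ≫ g) ≫ a = a'') :
    θ F (h ≫ g) a a'' w'' =
      (θ F g a a' w ≫ (EtCoh.push g).map (θ F h a' a'' w')) ≫
        (pushCompIso h g).hom.app ((EtCoh.pull a'').obj F) := by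
  apply ((adj a).homEquiv F _).injective
  rw [Adjunction.homEquiv_unit, Adjunction.homEquiv_unit, homEquiv_θ]
  simp only [Functor.map_comp]
  rw [← Category.assoc, ← Category.assoc, homEquiv_θ]
  have nat := (pushTri g a a' w).inv.naturality (θ F h a' a'' w')
  simp only [Functor.comp_map] at nat
  rw [Category.assoc, Category.assoc, ← Category.assoc ((pushTri g a a' w).inv.app _), ← nat]
  rw [Category.assoc, ← Category.assoc ((adj a').unit.app F), homEquiv_θ]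
  rw [Category.assoc]
  rw [pushTri_assoc' h g a a' a'' w w' w'']

/-- the functor `(a : Y → S) ↦ H^q(Y, a⁻¹F)` on schemes over `S` -/
noncomputable def Φ (q : ℕ) : (Over S)ᵒᵖ ⥤ AddCommGrpCat.{u + 1} where
  obj A := AddCommGrpCat.of (EtCoh.H A.unop.left ((EtCoh.pull A.unop.hom).obj F) q)
  map {A A'} φ := AddCommGrpCat.ofHom
    (Hmap φ.unop.left (θ F φ.unop.left A.unop.hom A'.unop.hom (Over.w φ.unop)) q)
  map_id A := by
    ext x
    have h1 := θ_id F A.unop.hom (Category.id_comp _)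
    have h2 := Hmap_id (𝟙 ((EtCoh.pull A.unop.hom).obj F)) q x
    rw [Ext.comp_mk₀_id, Category.id_comp] at h2
    show Hmap (𝟙 A.unop.left) (θ F (𝟙 A.unop.left) A.unop.hom A.unop.hom _) q x = x
    rw [h1]
    exact h2
  map_comp {A A' A''} φ ψ := by
    ext x
    have h1 := θ_comp F ψ.unop.left φ.unop.left A.unop.hom A'.unop.hom A''.unop.hom
      (Over.w φ.unop) (Over.w ψ.unop) (Over.w (ψ.unop ≫ φ.unop))
    have h2 := Hmap_comp ψ.unop.left φ.unop.left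
      (θ F φ.unop.left A.unop.hom A'.unop.hom (Over.w φ.unop))
      (θ F ψ.unop.left A'.unop.hom A''.unop.hom (Over.w ψ.unop)) q x
    show Hmap (ψ.unop.left ≫ φ.unop.left) (θ F (ψ.unop.left ≫ φ.unop.left) A.unop.hom
      A''.unop.hom _) q x = _
    rw [h1]
    exact h2.symm

end Over

end PullFunEt

end Groth.Agent.Lib.helper27
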