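import Mathlib
import Groth.Prelude.Def_RDerDelta
import Groth.Agent.Lib.Helper27.DeltaF

set_option linter.unusedSectionVars false

namespace Groth.Agent.Lib.helper27

open CategoryTheory Limits DeltaF

universe v u v' u'

lemma rder_isEffaceable {C : Type u} [Category.{v} C] [Abelian C] [HasInjectiveResolutions C]
    {D : Type u'} [Category.{v'} D] [Abelian D] (F : C ⥤ D) [F.Additive] (Δ : RDer.DerivedLES F) :
    Δ.toCohDeltaFunctor.IsEffaceable := by
  intro n X
  refine ⟨(injectiveResolution X).cocomplex.X 0,
    (HomologicalComplex.singleObjXSelf (ComplexShape.up ℕ) 0 X).inv ≫ (injectiveResolution X).ι.f 0,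
    mono_comp _ _, ?_⟩
  exact (F.isZero_rightDerived_obj_injective_succ n _).eq_of_tgt _ _

end Groth.Agent.Lib.helper27
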