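import Mathlib
import Groth.Prelude.Def_RDerDelta
import Groth.Agent.Lib.Helper27.DeltaF
import Groth.Agent.Lib.Helper27.DeltaFRDer
import Groth.Agent.Lib.Helper27.Horseshoe7

set_option autoImplicit false
set_option linter.unusedSectionVars false
set_option linter.unusedVariables false

namespace Groth.Agent.Lib.helper27

open CategoryTheory Limits DeltaF

universe v u v' u' v'' u''

namespace DeltaFPre

variable {A : Type u} [Category.{v} A] [Abelian A] {B : Type u'} [Category.{v'} B] [Abelian B]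
  {A' : Type u''} [Category.{v''} A'] [Abelian A']

/-- precomposition of a delta-functor with an exact functor -/
noncomputable def precomp (T : CohDeltaFunctor A B ℕ) (E : A' ⥤ A) [E.Additive]
    [PreservesFiniteLimits E] [PreservesFiniteColimits E] : CohDeltaFunctor A' B ℕ where
  F n := E ⋙ T.F n
  additive n := inferInstance
  δ S hS n₀ n₁ h := T.δ (S.map E) (hS.map_of_exact E) n₀ n₁ h
  δ_natural {S S'} hS hS' φ n₀ n₁ h :=
    T.δ_natural (hS.map_of_exact E) (hS'.map_of_exact E) (E.mapShortComplex.map φ) n₀ n₁ h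
  exact₂ S hS n := T.exact₂ (S.map E) (hS.map_of_exact E) n
  comp_δ S hS n₀ n₁ h := T.comp_δ (S.map E) (hS.map_of_exact E) n₀ n₁ h
  exact₃ S hS n₀ n₁ h := T.exact₃ (S.map E) (hS.map_of_exact E) n₀ n₁ h
  δ_comp S hS n₀ n₁ h := T.δ_comp (S.map E) (hS.map_of_exact E) n₀ n₁ h
  exact₁ S hS n₀ n₁ h := T.exact₁ (S.map E) (hS.map_of_exact E) n₀ n₁ h

@[simp]
lemma precomp_F (T : CohDeltaFunctor A B ℕ) (E : A' ⥤ A) [E.Additive]
    [PreservesFiniteLimits E] [PreservesFiniteColimits E] (n : ℕ) :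
    (precomp T E).F n = E ⋙ T.F n := rfl

/-- two universal delta-functors which agree in degree zero agree in all degrees -/
theorem natIso_of_isUniversal (T T' : CohDeltaFunctor A B ℕ) (hT : T.IsUniversal)
    (hT' : T'.IsUniversal) (e : T.F 0 ≅ T'.F 0) (n : ℕ) : Nonempty (T.F n ≅ T'.F n) := by
  obtain ⟨τ, hτ, -⟩ := hT T' e.hom
  obtain ⟨τ', hτ', -⟩ := hT' T e.inv
  obtain ⟨i, -, hi⟩ := hT T (𝟙 _)
  obtain ⟨i', -, hi'⟩ := hT' T' (𝟙 _)
  have h1 : τ ≫ τ' = 𝟙 T := by
    rw [hi (τ ≫ τ') (by show (τ ≫ τ').app 0 = _; rw [CohDeltaFunctor.comp_app, hτ, hτ', e.hom_inv_id]),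
      hi (𝟙 T) (CohDeltaFunctor.id_app T 0)]
  have h2 : τ' ≫ τ = 𝟙 T' := by
    rw [hi' (τ' ≫ τ) (by show (τ' ≫ τ).app 0 = _; rw [CohDeltaFunctor.comp_app, hτ, hτ', e.inv_hom_id]),
      hi' (𝟙 T') (CohDeltaFunctor.id_app T' 0)]
  refine ⟨⟨τ.app n, τ'.app n, ?_, ?_⟩⟩
  · rw [← CohDeltaFunctor.comp_app, h1, CohDeltaFunctor.id_app]
  · rw [← CohDeltaFunctor.comp_app, h2, CohDeltaFunctor.id_app]

section P

variable [HasInjectiveResolutions A] [HasInjectiveResolutions A'] [EnoughInjectives A']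
  (E : A' ⥤ A) [E.Additive] [PreservesFiniteLimits E] [PreservesFiniteColimits E]
  (G : A ⥤ B) [G.Additive] [PreservesFiniteLimits G]
  (hE : ∀ (I : A'), Injective I → ∀ q : ℕ, IsZero ((G.rightDerived (q + 1)).obj (E.obj I)))

include hE in
lemma precomp_isEffaceable :
    (precomp (Horseshoe.derivedLES G).toCohDeltaFunctor E).IsEffaceable := by
  intro n X
  refine ⟨Injective.under X, Injective.ι X, inferInstance, ?_⟩
  exact (hE _ inferInstance n).eq_of_tgt _ _

include hE in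
/-- **Theorem P** : `Rⁿ(E ⋙ G) ≅ E ⋙ RⁿG` for an exact functor `E` sending injectives to
`G`-acyclic objects. -/
theorem rightDerived_comp_exact_iso (n : ℕ) :
    Nonempty ((E ⋙ G).rightDerived n ≅ E ⋙ G.rightDerived n) := by
  have h1 := isUniversal_of_isEffaceable (rder_isEffaceable (E ⋙ G) (Horseshoe.derivedLES (E ⋙ G)))
  have h2 := isUniversal_of_isEffaceable (precomp_isEffaceable E G hE)
  exact natIso_of_isUniversal _ _ h1 h2
    ((E ⋙ G).rightDerivedZeroIsoSelf ≪≫
      (Functor.isoWhiskerLeft E G.rightDerivedZeroIsoSelf).symm) n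

end P

end DeltaFPre

end Groth.Agent.Lib.helper27
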