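import Mathlib

set_option autoImplicit false
set_option linter.unusedVariables false

namespace Groth.Agent.Lib.helper27

open CategoryTheory Limits Opposite Simplicial

universe u

namespace Cech

lemma hom_sum_apply {M N : AddCommGrpCat.{u}} {α : Type*} (s : Finset α) (f : α → (M ⟶ N)) (x : M) :
    (∑ i ∈ s, f i) x = ∑ i ∈ s, f i x := by
  classical
  induction s using Finset.induction_on with
  | empty => rfl
  | insert a s ha ih =>
    rw [Finset.sum_insert ha, Finset.sum_insert ha, AddCommGrpCat.hom_add_apply, ih]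

lemma hom_zsmul_apply {M N : AddCommGrpCat.{u}} (c : ℤ) (f : M ⟶ N) (x : M) :
    (c • f) x = c • f x := rfl

variable {D : Type u} [SmallCategory D]

/-- the cofree presheaf `W ↦ ∏_V ∏_{V ⟶ W} M V` -/
def R (M : D → AddCommGrpCat.{u}) : Dᵒᵖ ⥤ AddCommGrpCat.{u} where
  obj W := AddCommGrpCat.of ((V : D) → (V ⟶ W.unop) → M V)
  map {W W'} g := AddCommGrpCat.ofHom
    { toFun := fun x V f => x V (f ≫ g.unop)
      map_zero' := rfl
      map_add' := fun _ _ => rfl }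
  map_id W := by
    ext x V f
    show x V (f ≫ 𝟙 _) = x V f
    rw [Category.comp_id]
  map_comp g g' := by
    ext x V f
    show x V (f ≫ (g'.unop ≫ g.unop)) = x V ((f ≫ g'.unop) ≫ g.unop)
    rw [Category.assoc]

lemma R_map_apply (M : D → AddCommGrpCat.{u}) {W W' : Dᵒᵖ} (g : W ⟶ W')
    (x : (R M).obj W) (V : D) (f : V ⟶ W'.unop) :
    ((R M).map g x : (V : D) → (V ⟶ W'.unop) → M V) V f =
      (x : (V : D) → (V ⟶ W.unop) → M V) V (f ≫ g.unop) := rfl

/-- the canonical monomorphism `Q ⟶ R Q` -/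
def η (Q : Dᵒᵖ ⥤ AddCommGrpCat.{u}) : Q ⟶ R (fun V => Q.obj (op V)) where
  app W := AddCommGrpCat.ofHom
    { toFun := fun q V f => Q.map f.op q
      map_zero' := by funext V f; simp
      map_add' := fun a b => by funext V f; simp }
  naturality W W' g := by
    ext q
    funext V f
    show Q.map f.op (Q.map g q) = Q.map (f ≫ g.unop).op q
    rw [op_comp, Q.map_comp]
    rfl

lemma η_app_apply (Q : Dᵒᵖ ⥤ AddCommGrpCat.{u}) (W : Dᵒᵖ) (q : Q.obj W) (V : D)
    (f : V ⟶ W.unop) :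
    (((η Q).app W) q : (V : D) → (V ⟶ W.unop) → Q.obj (op V)) V f = Q.map f.op q := rfl

instance (Q : Dᵒᵖ ⥤ AddCommGrpCat.{u}) : Mono (η Q) := by
  rw [NatTrans.mono_iff_mono_app]
  intro W
  rw [AddCommGrpCat.mono_iff_injective]
  intro a b h
  have := congrFun (congrFun h W.unop) (𝟙 _)
  rw [η_app_apply, η_app_apply] at this
  simpa using this

section cech

variable [HasFiniteProducts D] {ι : Type u} (U : ι → D)

/-- the cosimplicial abelian group underlying the Cech complex -/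
noncomputable abbrev cosimp (Q : Dᵒᵖ ⥤ AddCommGrpCat.{u}) : CosimplicialObject AddCommGrpCat.{u} :=
  (FormalCoproduct.cosimplicialObjectFunctor (FormalCoproduct.mk _ U).cech).obj Q

lemma d_eq (Q : Dᵒᵖ ⥤ AddCommGrpCat.{u}) (n : ℕ) :
    ((cechComplexFunctor U).obj Q).d n (n + 1) =
      ∑ i : Fin (n + 2), (-1 : ℤ) ^ (i : ℕ) • (cosimp U Q).δ i :=
  CochainComplex.of_d (fun n => (cosimp U Q).obj ⦋n⦌)
    (AlgebraicTopology.AlternatingCofaceMapComplex.objD (cosimp U Q)) n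

/-- the family of objects whose product is the degree `n` part of the Cech complex -/
noncomputable abbrev Z (Q : Dᵒᵖ ⥤ AddCommGrpCat.{u}) (n : ℕ) : (Fin (n + 1) → ι) → AddCommGrpCat.{u} :=
  fun a => Q.obj (op (∏ᶜ (U ∘ a)))

/-- the face projection `U_b ⟶ U_{b ∘ δ^i}` -/
noncomputable abbrev face {n : ℕ} (b : Fin (n + 2) → ι) (i : Fin (n + 2)) :
    ∏ᶜ (U ∘ b) ⟶ ∏ᶜ (U ∘ b ∘ Fin.succAbove i) :=
  Pi.lift (fun k => Pi.π (U ∘ b) (Fin.succAbove i k))

lemma δ_eq (Q : Dᵒᵖ ⥤ AddCommGrpCat.{u}) (n : ℕ) (i : Fin (n + 2)) :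
    (cosimp U Q).δ i = Pi.lift (fun (b : Fin (n + 2) → ι) =>
      Pi.π (Z U Q n) (b ∘ Fin.succAbove i) ≫ Q.map (face U b i).op) := rfl

/-- the coface maps, retyped -/
noncomputable def δ' (Q : Dᵒᵖ ⥤ AddCommGrpCat.{u}) (n : ℕ) (i : Fin (n + 2)) :
    (∏ᶜ Z U Q n : AddCommGrpCat.{u}) ⟶ ∏ᶜ Z U Q (n + 1) :=
  Pi.lift (fun (b : Fin (n + 2) → ι) =>
      Pi.π (Z U Q n) (b ∘ Fin.succAbove i) ≫ Q.map (face U b i).op)

/-- the Cech differential, retyped -/
noncomputable def d' (Q : Dᵒᵖ ⥤ AddCommGrpCat.{u}) (n : ℕ) :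
    (∏ᶜ Z U Q n : AddCommGrpCat.{u}) ⟶ ∏ᶜ Z U Q (n + 1) :=
  ((cechComplexFunctor U).obj Q).d n (n + 1)

lemma d'_eq (Q : Dᵒᵖ ⥤ AddCommGrpCat.{u}) (n : ℕ) :
    d' U Q n = ∑ i : Fin (n + 2), (-1 : ℤ) ^ (i : ℕ) • δ' U Q n i :=
  d_eq U Q n

lemma π_δ'_apply (Q : Dᵒᵖ ⥤ AddCommGrpCat.{u}) (n : ℕ) (i : Fin (n + 2))
    (b : Fin (n + 2) → ι) (x : (∏ᶜ Z U Q n : AddCommGrpCat.{u})) :
    Pi.π (Z U Q (n + 1)) b (δ' U Q n i x) =
      Q.map (face U b i).op (Pi.π (Z U Q n) (b ∘ Fin.succAbove i) x) := by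
  have h : δ' U Q n i ≫ Pi.π (Z U Q (n + 1)) b =
      Pi.π (Z U Q n) (b ∘ Fin.succAbove i) ≫ Q.map (face U b i).op := Pi.lift_π _ _
  exact ConcreteCategory.congr_hom h x

/-- the set of "sections" of the family over `V` -/
abbrev Sec (V : D) : Type u := Σ i : ι, (V ⟶ U i)

/-- explicit cochains with values in the cofree presheaf -/
abbrev G (M : D → AddCommGrpCat.{u}) (n : ℕ) : Type u :=
  (V : D) → (Fin (n + 1) → Sec U V) → M V

/-- the index tuple of a tuple of sections -/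
abbrev idx {V : D} {n : ℕ} (t : Fin (n + 1) → Sec U V) : Fin (n + 1) → ι := fun k => (t k).1

/-- the morphism to the product defined by a tuple of sections -/
noncomputable abbrev tup {V : D} {n : ℕ} (t : Fin (n + 1) → Sec U V) : V ⟶ ∏ᶜ (U ∘ idx U t) :=
  Pi.lift (fun k => (t k).2)

/-- comparison of Cech cochains of `R M` with explicit cochains -/
noncomputable def Φ (M : D → AddCommGrpCat.{u}) (n : ℕ) :
    (∏ᶜ Z U (R M) n : AddCommGrpCat.{u}) →+ G U M n :=
  AddMonoidHom.pi (fun V => AddMonoidHom.pi (fun t =>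
    (Pi.evalAddMonoidHom (fun (_ : V ⟶ ∏ᶜ (U ∘ idx U t)) => M V) (tup U t)).comp
      ((Pi.evalAddMonoidHom (fun (V : D) => (V ⟶ ∏ᶜ (U ∘ idx U t)) → M V) V).comp
        (Pi.π (Z U (R M) n) (idx U t)).hom)))

lemma Φ_apply (M : D → AddCommGrpCat.{u}) (n : ℕ) (x : (∏ᶜ Z U (R M) n : AddCommGrpCat.{u}))
    (V : D) (t : Fin (n + 1) → Sec U V) :
    Φ U M n x V t =
      (Pi.π (Z U (R M) n) (idx U t) x : (V : D) → (V ⟶ ∏ᶜ (U ∘ idx U t)) → M V) V (tup U t) := rfl

/-- inverse of `Φ` -/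
noncomputable def Ψ (M : D → AddCommGrpCat.{u}) (n : ℕ) (y : G U M n) :
    (∏ᶜ Z U (R M) n : AddCommGrpCat.{u}) :=
  (Concrete.productEquiv (Z U (R M) n)).symm
    (fun a => (fun V f => y V (fun k => ⟨a k, f ≫ Pi.π (U ∘ a) k⟩) :
      (V : D) → (V ⟶ ∏ᶜ (U ∘ a)) → M V))

lemma π_Ψ (M : D → AddCommGrpCat.{u}) (n : ℕ) (y : G U M n) (a : Fin (n + 1) → ι) :
    (Pi.π (Z U (R M) n) a (Ψ U M n y) : (V : D) → (V ⟶ ∏ᶜ (U ∘ a)) → M V) =
      fun V f => y V (fun k => ⟨a k, f ≫ Pi.π (U ∘ a) k⟩) :=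
  Concrete.productEquiv_symm_apply_π (Z U (R M) n) _ a

lemma Φ_Ψ (M : D → AddCommGrpCat.{u}) (n : ℕ) (y : G U M n) : Φ U M n (Ψ U M n y) = y := by
  funext V t
  rw [Φ_apply, π_Ψ]
  dsimp only
  congr 1
  funext k
  simp [tup]

lemma Ψ_Φ (M : D → AddCommGrpCat.{u}) (n : ℕ) (x : (∏ᶜ Z U (R M) n : AddCommGrpCat.{u})) :
    Ψ U M n (Φ U M n x) = x := by
  apply (Concrete.productEquiv (Z U (R M) n)).injective
  funext a
  rw [Concrete.productEquiv_apply_apply, Concrete.productEquiv_apply_apply, π_Ψ]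
  funext V f
  show (Pi.π (Z U (R M) n) a x : (V : D) → (V ⟶ ∏ᶜ (U ∘ a)) → M V) V
    (Pi.lift (fun k => f ≫ Pi.π (U ∘ a) k)) = _
  have e : Pi.lift (fun k => f ≫ Pi.π (U ∘ a) k) = f := by
    apply Pi.hom_ext
    intro k
    simp
  rw [e]

/-- the explicit differential -/
def dG (M : D → AddCommGrpCat.{u}) (n : ℕ) (y : G U M n) : G U M (n + 1) :=
  fun V t => ∑ i : Fin (n + 2), (-1 : ℤ) ^ (i : ℕ) • y V (t ∘ Fin.succAbove i)

lemma Φ_δ' (M : D → AddCommGrpCat.{u}) (n : ℕ) (i : Fin (n + 2))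
    (x : (∏ᶜ Z U (R M) n : AddCommGrpCat.{u})) (V : D) (t : Fin (n + 2) → Sec U V) :
    Φ U M (n + 1) (δ' U (R M) n i x) V t = Φ U M n x V (t ∘ Fin.succAbove i) := by
  have e : tup U t ≫ face U (idx U t) i = tup U (t ∘ i.succAbove) := by
    apply Pi.hom_ext
    intro k
    simp only [tup, face, Category.assoc, Pi.lift_π]
    exact (Pi.lift_π (fun k => (t (i.succAbove k)).2) k).symm
  rw [Φ_apply, π_δ'_apply, R_map_apply, Φ_apply]
  show (Pi.π (Z U (R M) n) (idx U t ∘ i.succAbove) x :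
    (V : D) → (V ⟶ ∏ᶜ (U ∘ idx U t ∘ i.succAbove)) → M V) V (tup U t ≫ face U (idx U t) i) = _
  rw [e]
  rfl

lemma Φ_d' (M : D → AddCommGrpCat.{u}) (n : ℕ) (x : (∏ᶜ Z U (R M) n : AddCommGrpCat.{u})) :
    Φ U M (n + 1) (d' U (R M) n x) = dG U M n (Φ U M n x) := by
  funext V t
  rw [d'_eq, hom_sum_apply, map_sum]
  simp only [dG, Finset.sum_apply, hom_zsmul_apply, map_zsmul, Pi.smul_apply, Φ_δ']

/-- the contracting homotopy on explicit cochains -/
noncomputable def hG (M : D → AddCommGrpCat.{u}) (n : ℕ) (y : G U M (n + 1)) : G U M n :=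
  fun V t => y V (Fin.cons (Classical.choice ⟨t 0⟩) t)

lemma cons_comp_succAbove_zero {α : Type*} {n : ℕ} (s : α) (t : Fin (n + 1) → α) :
    (Fin.cons s t : Fin (n + 2) → α) ∘ Fin.succAbove 0 = t := by
  funext k
  simp

lemma cons_comp_succAbove_succ {α : Type*} {n : ℕ} (s : α) (t : Fin (n + 2) → α) (i : Fin (n + 2)) :
    (Fin.cons s t : Fin (n + 3) → α) ∘ Fin.succAbove i.succ = Fin.cons s (t ∘ Fin.succAbove i) := by
  funext k
  refine Fin.cases ?_ (fun k => ?_) k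
  · simp
  · simp

omit [HasFiniteProducts D] in
lemma homotopy_G (M : D → AddCommGrpCat.{u}) (n : ℕ) (y : G U M (n + 1)) :
    dG U M n (hG U M n y) + hG U M (n + 1) (dG U M (n + 1) y) = y := by
  funext V t
  simp only [Pi.add_apply, dG, hG]
  rw [Fin.sum_univ_succ (n := n + 2)]
  simp only [cons_comp_succAbove_zero, cons_comp_succAbove_succ, Fin.val_zero, pow_zero, one_smul,
    Fin.val_succ, pow_succ, mul_neg, mul_one, neg_smul, Finset.sum_neg_distrib]
  abel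

lemma exists_d'_eq_R (M : D → AddCommGrpCat.{u}) (n : ℕ)
    (x : (∏ᶜ Z U (R M) (n + 1) : AddCommGrpCat.{u})) (hx : d' U (R M) (n + 1) x = 0) :
    ∃ y : (∏ᶜ Z U (R M) n : AddCommGrpCat.{u}), d' U (R M) n y = x := by
  refine ⟨Ψ U M n (hG U M n (Φ U M (n + 1) x)), ?_⟩
  have h0 : hG U M (n + 1) (dG U M (n + 1) (Φ U M (n + 1) x)) = 0 := by
    rw [← Φ_d', hx, map_zero]
    rfl
  have h1 := homotopy_G U M n (Φ U M (n + 1) x)
  rw [h0, add_zero] at h1
  apply Function.LeftInverse.injective (Ψ_Φ U M (n + 1))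
  rw [Φ_d', Φ_Ψ, h1]

omit [SmallCategory D] in
lemma exists_of_retract {K K' : CochainComplex AddCommGrpCat.{u} ℕ} (φ : K ⟶ K') (ψ : K' ⟶ K)
    (h : φ ≫ ψ = 𝟙 K) (n : ℕ)
    (hK' : ∀ x' : K'.X (n + 1), K'.d (n + 1) (n + 2) x' = 0 → ∃ y', K'.d n (n + 1) y' = x')
    (x : K.X (n + 1)) (hx : K.d (n + 1) (n + 2) x = 0) : ∃ y, K.d n (n + 1) y = x := by
  have hx' : K'.d (n + 1) (n + 2) (φ.f (n + 1) x) = 0 := by
    have := ConcreteCategory.congr_hom (φ.comm (n + 1) (n + 2)) x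
    rw [ConcreteCategory.comp_apply, ConcreteCategory.comp_apply] at this
    rw [this, hx, map_zero]
  obtain ⟨y, hy⟩ := hK' _ hx'
  refine ⟨ψ.f n y, ?_⟩
  have h1 := ConcreteCategory.congr_hom (ψ.comm n (n + 1)) y
  rw [ConcreteCategory.comp_apply, ConcreteCategory.comp_apply] at h1
  have h2 : ψ.f (n + 1) (φ.f (n + 1) x) = x :=
    ConcreteCategory.congr_hom (congrArg (fun α => α.f (n + 1)) h) x
  rw [h1, hy, h2]

omit [SmallCategory D] in
lemma exactAt_of_forall {K : CochainComplex AddCommGrpCat.{u} ℕ} (n : ℕ)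
    (hK : ∀ x : K.X (n + 1), K.d (n + 1) (n + 2) x = 0 → ∃ y, K.d n (n + 1) y = x) :
    K.ExactAt (n + 1) := by
  rw [HomologicalComplex.exactAt_iff' K n (n + 1) (n + 2) (by simp) (by simp),
    ShortComplex.ab_exact_iff]
  exact hK

/-- Cech acyclicity of retracts of cofree presheaves. -/
theorem exactAt_of_retract (Q : Dᵒᵖ ⥤ AddCommGrpCat.{u}) (M : D → AddCommGrpCat.{u})
    (i : Q ⟶ R M) (r : R M ⟶ Q) (hr : i ≫ r = 𝟙 Q) (n : ℕ) :
    ((cechComplexFunctor U).obj Q).ExactAt (n + 1) := by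
  apply exactAt_of_forall
  apply exists_of_retract ((cechComplexFunctor U).map i) ((cechComplexFunctor U).map r)
    (by rw [← Functor.map_comp, hr, CategoryTheory.Functor.map_id])
  exact exists_d'_eq_R U _ n

/-- **Cech acyclicity of injective presheaves**. -/
theorem exactAt_of_injective (I : Dᵒᵖ ⥤ AddCommGrpCat.{u}) [Injective I] (n : ℕ) :
    ((cechComplexFunctor U).obj I).ExactAt (n + 1) :=
  exactAt_of_retract U I _ (η I) (Injective.factorThru (𝟙 I) (η I))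
    (Injective.comp_factorThru _ _) n

end cech

section overSec

variable {C : Type u} [SmallCategory C] (U₀ : C)

/-- restriction of a cofree presheaf to the slice category is a retract of a cofree presheaf:
the inclusion -/
def overι (M : C → AddCommGrpCat.{u}) :
    (Over.forget U₀).op ⋙ R M ⟶ R (fun W : Over U₀ => M W.left) where
  app W := AddCommGrpCat.ofHom
    { toFun := fun x V' f => x V'.left f.left
      map_zero' := rfl
      map_add' := fun _ _ => rfl }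
  naturality _ _ _ := rfl

lemma R_congr (M : C → AddCommGrpCat.{u}) (W : Over U₀)
    (y : (V' : Over U₀) → (V' ⟶ W) → M V'.left) {V : C} (h₁ h₂ : V ⟶ U₀) (e : h₁ = h₂)
    (a : Over.mk h₁ ⟶ W) (b : Over.mk h₂ ⟶ W) (hab : a.left = b.left) :
    y (Over.mk h₁) a = y (Over.mk h₂) b := by
  subst e
  congr 1
  ext
  exact hab

/-- the retraction -/
def overρ (M : C → AddCommGrpCat.{u}) :
    R (fun W : Over U₀ => M W.left) ⟶ (Over.forget U₀).op ⋙ R M where
  app W := AddCommGrpCat.ofHom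
    { toFun := fun y V f => y (Over.mk (f ≫ W.unop.hom)) (Over.homMk f rfl)
      map_zero' := rfl
      map_add' := fun _ _ => rfl }
  naturality W W' g := by
    ext y
    funext V f
    exact R_congr U₀ M W.unop y _ _ (by simp) _ _ (by simp)

lemma overι_ρ (M : C → AddCommGrpCat.{u}) : overι U₀ M ≫ overρ U₀ M = 𝟙 _ := rfl

variable [HasFiniteProducts (Over U₀)] {ι : Type u} (Y : ι → Over U₀)

/-- **Cech acyclicity of injective presheaves**, relative version for families over an object. -/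
theorem exactAt_over_of_injective (I : Cᵒᵖ ⥤ AddCommGrpCat.{u}) [Injective I] (n : ℕ) :
    ((cechComplexFunctor Y).obj ((Over.forget U₀).op ⋙ I)).ExactAt (n + 1) := by
  let r := Injective.factorThru (𝟙 I) (η I)
  have hr : η I ≫ r = 𝟙 I := Injective.comp_factorThru _ _
  let M : C → AddCommGrpCat.{u} := fun V => I.obj (op V)
  refine exactAt_of_retract Y _ _ (Functor.whiskerLeft (Over.forget U₀).op (η I) ≫ overι U₀ M)
    (overρ U₀ M ≫ Functor.whiskerLeft (Over.forget U₀).op r) ?_ n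
  rw [Category.assoc, ← Category.assoc (overι U₀ M), overι_ρ, Category.id_comp,
    ← Functor.whiskerLeft_comp, hr, Functor.whiskerLeft_id']

end overSec

end Cech

end Groth.Agent.Lib.helper27
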