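import Mathlib
import Groth.Agent.Lib.Helper27.CechInj

set_option autoImplicit false
set_option linter.unusedVariables false
set_option linter.unusedSectionVars false

namespace Groth.Agent.Lib.helper27

open CategoryTheory Limits Opposite Simplicial

universe u

namespace Cech

variable {D : Type u} [SmallCategory D] [HasFiniteProducts D] {ι : Type u} (U : ι → D)
  (Q : Dᵒᵖ ⥤ AddCommGrpCat.{u})

/-- pull back a tuple of sections along a morphism -/
abbrev pull {T T' : D} (h : T' ⟶ T) {n : ℕ} (t : Fin (n + 1) → Sec U T) :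
    Fin (n + 1) → Sec U T' := fun k => ⟨(t k).1, h ≫ (t k).2⟩

/-- families of sections indexed by tuples of sections of the family `U` -/
abbrev Fam (n : ℕ) : Type u := (T : D) → (Fin (n + 1) → Sec U T) → Q.obj (op T)

/-- naturality of a family -/
def IsNat {n : ℕ} (c : Fam U Q n) : Prop :=
  ∀ (T T' : D) (h : T' ⟶ T) (t : Fin (n + 1) → Sec U T), Q.map h.op (c T t) = c T' (pull U h t)

lemma tup_pull {T T' : D} (h : T' ⟶ T) {n : ℕ} (t : Fin (n + 1) → Sec U T) :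
    tup U (pull U h t) = h ≫ tup U t := by
  apply Pi.hom_ext
  intro k
  simp only [tup, Category.assoc, Pi.lift_π]

/-- the "Yoneda form" of Cech cochains -/
noncomputable def ΦQ (n : ℕ) : (∏ᶜ Z U Q n : AddCommGrpCat.{u}) →+ Fam U Q n :=
  AddMonoidHom.pi (fun T => AddMonoidHom.pi (fun t =>
    (Q.map (tup U t).op).hom.comp (Pi.π (Z U Q n) (idx U t)).hom))

lemma ΦQ_apply (n : ℕ) (x : (∏ᶜ Z U Q n : AddCommGrpCat.{u})) (T : D)
    (t : Fin (n + 1) → Sec U T) :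
    ΦQ U Q n x T t = Q.map (tup U t).op (Pi.π (Z U Q n) (idx U t) x) := rfl

lemma ΦQ_isNat (n : ℕ) (x : (∏ᶜ Z U Q n : AddCommGrpCat.{u})) : IsNat U Q (ΦQ U Q n x) := by
  intro T T' h t
  rw [ΦQ_apply, ΦQ_apply, tup_pull, op_comp, Q.map_comp]
  rfl

/-- the explicit differential on families -/
def dFam (n : ℕ) (c : Fam U Q n) : Fam U Q (n + 1) :=
  fun T t => ∑ i : Fin (n + 2), (-1 : ℤ) ^ (i : ℕ) • c T (t ∘ Fin.succAbove i)

lemma ΦQ_δ' (n : ℕ) (i : Fin (n + 2)) (x : (∏ᶜ Z U Q n : AddCommGrpCat.{u})) (T : D)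
    (t : Fin (n + 2) → Sec U T) :
    ΦQ U Q (n + 1) (δ' U Q n i x) T t = ΦQ U Q n x T (t ∘ Fin.succAbove i) := by
  have e : tup U t ≫ face U (idx U t) i = tup U (t ∘ i.succAbove) := by
    apply Pi.hom_ext
    intro k
    simp only [tup, face, Category.assoc, Pi.lift_π]
    exact (Pi.lift_π (fun k => (t (i.succAbove k)).2) k).symm
  rw [ΦQ_apply, π_δ'_apply, ΦQ_apply, ← e, op_comp, Q.map_comp]
  rfl

lemma ΦQ_d' (n : ℕ) (x : (∏ᶜ Z U Q n : AddCommGrpCat.{u})) :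
    ΦQ U Q (n + 1) (d' U Q n x) = dFam U Q n (ΦQ U Q n x) := by
  funext T t
  rw [d'_eq, hom_sum_apply, map_sum]
  simp only [dFam, Finset.sum_apply, hom_zsmul_apply, map_zsmul, Pi.smul_apply, ΦQ_δ']

/-- the canonical tuple of sections of `∏ U ∘ a` -/
noncomputable abbrev canon {n : ℕ} (a : Fin (n + 1) → ι) : Fin (n + 1) → Sec U (∏ᶜ (U ∘ a)) :=
  fun k => ⟨a k, Pi.π (U ∘ a) k⟩

/-- inverse of `ΦQ` on natural families -/
noncomputable def ΨQ (n : ℕ) (c : Fam U Q n) : (∏ᶜ Z U Q n : AddCommGrpCat.{u}) :=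
  (Concrete.productEquiv (Z U Q n)).symm (fun a => c (∏ᶜ (U ∘ a)) (canon U a))

lemma π_ΨQ (n : ℕ) (c : Fam U Q n) (a : Fin (n + 1) → ι) :
    Pi.π (Z U Q n) a (ΨQ U Q n c) = c (∏ᶜ (U ∘ a)) (canon U a) :=
  Concrete.productEquiv_symm_apply_π (Z U Q n) _ a

lemma ΦQ_ΨQ (n : ℕ) (c : Fam U Q n) (hc : IsNat U Q c) : ΦQ U Q n (ΨQ U Q n c) = c := by
  funext T t
  rw [ΦQ_apply, π_ΨQ, hc]
  congr 1
  funext k
  simp [pull, tup]

lemma ΨQ_ΦQ (n : ℕ) (x : (∏ᶜ Z U Q n : AddCommGrpCat.{u})) : ΨQ U Q n (ΦQ U Q n x) = x := by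
  apply (Concrete.productEquiv (Z U Q n)).injective
  funext a
  rw [Concrete.productEquiv_apply_apply, Concrete.productEquiv_apply_apply, π_ΨQ, ΦQ_apply]
  have e : tup U (canon U a) = 𝟙 _ := by
    apply Pi.hom_ext
    intro k
    simp [tup]
  show Q.map (tup U (canon U a)).op (Pi.π (Z U Q n) a x) = _
  rw [e, op_id, Q.map_id]
  rfl

lemma ΦQ_injective (n : ℕ) : Function.Injective (ΦQ U Q n) :=
  Function.LeftInverse.injective (ΨQ_ΦQ U Q n)

end Cech

end Groth.Agent.Lib.helper27
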