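import Mathlib
import Groth.Agent.Lib.Helper27.CechFam

set_option autoImplicit false
set_option linter.unusedVariables false
set_option linter.unusedSectionVars false

namespace Groth.Agent.Lib.helper27

open CategoryTheory Limits Opposite Simplicial

universe v u

namespace Cech

section natiso

variable {𝒜 : Type u} [Category.{v} 𝒜]
  (Č : 𝒜 ⥤ CochainComplex AddCommGrpCat.{v} ℕ) (Γ : 𝒜 ⥤ AddCommGrpCat.{v})
  (aug : Γ ⟶ Č ⋙ HomologicalComplex.eval _ _ 0)
  (w : ∀ F, aug.app F ≫ (Č.obj F).d 0 1 = 0)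
  (h : ∀ F, IsLimit (KernelFork.ofι (aug.app F) (w F)))

/-- the comparison of an augmentation which is pointwise a kernel with the zero cycles -/
noncomputable def augCyclesIso (F : 𝒜) : Γ.obj F ≅ (Č.obj F).cycles 0 :=
  IsLimit.conePointUniqueUpToIso (h F) ((Č.obj F).cyclesIsKernel 0 1 (by simp))

lemma augCyclesIso_hom_i (F : 𝒜) :
    (augCyclesIso Č Γ aug w h F).hom ≫ (Č.obj F).iCycles 0 = aug.app F :=
  IsLimit.conePointUniqueUpToIso_hom_comp (h F) ((Č.obj F).cyclesIsKernel 0 1 (by simp))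
    WalkingParallelPair.zero

instance isIso_natTransHomologyπ₀ :
    IsIso (HomologicalComplex.natTransHomologyπ AddCommGrpCat.{v} (ComplexShape.up ℕ) 0) := by
  have : ∀ K : CochainComplex AddCommGrpCat.{v} ℕ,
      IsIso ((HomologicalComplex.natTransHomologyπ AddCommGrpCat.{v} (ComplexShape.up ℕ) 0).app K) :=
    fun K => inferInstanceAs (IsIso (K.homologyπ 0))
  exact NatIso.isIso_of_isIso_app _

/-- `H^0` of a functorial cochain complex with a functorial augmentation which is pointwise a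
kernel of the first differential. -/
noncomputable def h0Iso : Č ⋙ HomologicalComplex.homologyFunctor _ _ 0 ≅ Γ :=
  (NatIso.ofComponents (fun F => augCyclesIso Č Γ aug w h F) (by
    intro F G φ
    apply (cancel_mono ((Č.obj G).iCycles 0)).1
    show (Γ.map φ ≫ (augCyclesIso Č Γ aug w h G).hom) ≫ (Č.obj G).iCycles 0 =
      ((augCyclesIso Č Γ aug w h F).hom ≫ HomologicalComplex.cyclesMap (Č.map φ) 0) ≫
        (Č.obj G).iCycles 0
    rw [Category.assoc, Category.assoc, HomologicalComplex.cyclesMap_i, augCyclesIso_hom_i,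
      ← Category.assoc, augCyclesIso_hom_i]
    exact aug.naturality φ) ≪≫
  Functor.isoWhiskerLeft Č
    (asIso (HomologicalComplex.natTransHomologyπ AddCommGrpCat.{v} (ComplexShape.up ℕ) 0))).symm

end natiso

section glue

variable {D : Type u} [SmallCategory D] [HasFiniteProducts D] {ι : Type u} (U : ι → D)
  (Q : Dᵒᵖ ⥤ AddCommGrpCat.{u}) (Γ : AddCommGrpCat.{u})
  (ε : ∀ T : D, Sec U T → (Γ ⟶ Q.obj (op T)))
  (hε : ∀ (T T' : D) (h : T' ⟶ T) (s : Sec U T) (s' : Sec U T'), ε T s ≫ Q.map h.op = ε T' s')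

/-- the augmentation of the Cech complex -/
noncomputable def augQ : Γ ⟶ (∏ᶜ Z U Q 0 : AddCommGrpCat.{u}) :=
  Pi.lift (fun a => ε (∏ᶜ (U ∘ a)) (canon U a 0))

include hε in
lemma ΦQ_augQ (γ : Γ) (T : D) (t : Fin 1 → Sec U T) :
    ΦQ U Q 0 (augQ U Q Γ ε γ) T t = ε T (t 0) γ := by
  rw [ΦQ_apply]
  have h1 : Pi.π (Z U Q 0) (idx U t) (augQ U Q Γ ε γ) =
      ε (∏ᶜ (U ∘ idx U t)) (canon U (idx U t) 0) γ :=
    ConcreteCategory.congr_hom
      (Pi.lift_π (fun a => ε (∏ᶜ (U ∘ a)) (canon U a 0)) (idx U t)) γ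
  rw [h1]
  exact ConcreteCategory.congr_hom (hε _ _ (tup U t) _ _) γ

include hε in
lemma augQ_d' : augQ U Q Γ ε ≫ d' U Q 0 = 0 := by
  apply AddCommGrpCat.hom_ext
  apply AddMonoidHom.ext
  intro γ
  apply ΦQ_injective U Q 1
  show ΦQ U Q 1 (d' U Q 0 (augQ U Q Γ ε γ)) = ΦQ U Q 1 0
  rw [ΦQ_d', map_zero]
  funext T t
  simp only [dFam, ΦQ_augQ U Q Γ ε hε]
  have h2 : ∀ f : Fin (0 + 1 + 1) → Q.obj (op T), ∑ x, f x = f 0 + f 1 :=
    fun f => Fin.sum_univ_two f
  rw [h2]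
  have := hε T T (𝟙 T) ((t ∘ Fin.succAbove 0) 0) ((t ∘ Fin.succAbove 1) 0)
  rw [op_id, Q.map_id, Category.comp_id] at this
  rw [this]
  simp

variable (hG : ∀ c : Fam U Q 0, IsNat U Q c → dFam U Q 0 c = 0 →
  ∃! γ : Γ, ∀ (T : D) (t : Fin 1 → Sec U T), c T t = ε T (t 0) γ)

include hε hG in
/-- the augmentation is a kernel of the first differential, if sections glue -/
noncomputable def augQIsKernel : IsLimit (KernelFork.ofι (augQ U Q Γ ε) (augQ_d' U Q Γ ε hε)) := by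
  have hmono : Mono (augQ U Q Γ ε) := by
    rw [AddCommGrpCat.mono_iff_injective]
    intro γ γ' h
    obtain ⟨γ₀, -, huniq⟩ := hG (ΦQ U Q 0 (augQ U Q Γ ε γ)) (ΦQ_isNat U Q 0 _) (by
      rw [← ΦQ_d']
      have := ConcreteCategory.congr_hom (augQ_d' U Q Γ ε hε) γ
      rw [ConcreteCategory.comp_apply] at this
      rw [this]
      simp)
    rw [huniq γ (fun T t => ΦQ_augQ U Q Γ ε hε γ T t),
      huniq γ' (fun T t => by rw [h]; exact ΦQ_augQ U Q Γ ε hε γ' T t)]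
  have hex : (ShortComplex.mk (augQ U Q Γ ε) (d' U Q 0) (augQ_d' U Q Γ ε hε)).Exact := by
    rw [ShortComplex.ab_exact_iff]
    intro x hx
    have hx' : d' U Q 0 x = 0 := hx
    obtain ⟨γ, hγ, -⟩ := hG (ΦQ U Q 0 x) (ΦQ_isNat U Q 0 _) (by rw [← ΦQ_d', hx', map_zero])
    refine ⟨γ, ?_⟩
    apply ΦQ_injective U Q 0
    funext T t
    show ΦQ U Q 0 (augQ U Q Γ ε γ) T t = _
    rw [ΦQ_augQ U Q Γ ε hε, hγ]
  exact hex.fIsKernel

end glue

end Cech

end Groth.Agent.Lib.helper27
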