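import Mathlib
import Groth.Agent.Lib.Helper27.ExtPsh
import Groth.Agent.Lib.Helper7.FreeYoneda

set_option autoImplicit false

namespace Groth.Agent.Lib.helper27

open CategoryTheory Limits Abelian Opposite Groth.Agent.Lib.helper7

universe w v u

namespace CohPsh

variable {C : Type u} [Category.{v} C] (J : GrothendieckTopology C)
  [HasSheafify J AddCommGrpCat.{v}]

/-- the universal section of the free sheaf on `U` -/
noncomputable def univ (U : C) : ((FreeYoneda.freeSheaf J).obj U).obj.obj (op U) :=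
  FreeYoneda.homEquiv J U _ (𝟙 _)

lemma homEquiv_eq (U : C) (F : Sheaf J AddCommGrpCat.{v}) (b : (FreeYoneda.freeSheaf J).obj U ⟶ F) :
    FreeYoneda.homEquiv J U F b = b.hom.app (op U) (univ J U) := by
  have := FreeYoneda.homEquiv_naturality_right J U b (𝟙 _)
  rwa [Category.id_comp] at this

/-- `Hom(ℤ_U, F) ≃+ F(U)` -/
noncomputable def homAddEquiv (U : C) (F : Sheaf J AddCommGrpCat.{v}) :
    ((FreeYoneda.freeSheaf J).obj U ⟶ F) ≃+ F.obj.obj (op U) where
  __ := FreeYoneda.homEquiv J U F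
  map_add' a b := by
    show FreeYoneda.homEquiv J U F (a + b) = FreeYoneda.homEquiv J U F a + FreeYoneda.homEquiv J U F b
    rw [homEquiv_eq, homEquiv_eq, homEquiv_eq]
    rfl

variable [HasExt.{v} (Sheaf J AddCommGrpCat.{v})]

/-- `Ext^0(ℤ_W, F) ≃+ F(W)` -/
noncomputable def e₀ (F : Sheaf J AddCommGrpCat.{v}) (W : C) :
    Ext.{v} ((FreeYoneda.freeSheaf J).obj W) F 0 ≃+ F.obj.obj (op W) :=
  Ext.addEquiv₀.trans (homAddEquiv J W F)

lemma e₀_apply (F : Sheaf J AddCommGrpCat.{v}) (W : C)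
    (x : Ext.{v} ((FreeYoneda.freeSheaf J).obj W) F 0) :
    e₀ J F W x = FreeYoneda.homEquiv J W F (Ext.addEquiv₀ x) := rfl

lemma e₀_mk₀ (F : Sheaf J AddCommGrpCat.{v}) (W : C) (b : (FreeYoneda.freeSheaf J).obj W ⟶ F) :
    e₀ J F W (Ext.mk₀ b) = FreeYoneda.homEquiv J W F b := by
  rw [e₀_apply]
  congr 1
  exact Ext.addEquiv₀.apply_symm_apply b

/-- the presheaf `W ↦ Ext^0(ℤ_W, F)` is `F` -/
noncomputable def tp₀ObjIso (F : Sheaf J AddCommGrpCat.{v}) :
    (ExtPsh.Tp (FreeYoneda.freeSheaf J) 0).obj F ≅ F.obj :=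
  NatIso.ofComponents (fun W => (e₀ J F W.unop).toAddCommGrpIso) (by
    intro W W' f
    apply AddCommGrpCat.hom_ext
    apply AddMonoidHom.ext
    intro x
    obtain ⟨b, rfl⟩ := (Ext.mk₀_bijective _ _).2 x
    show e₀ J F W'.unop ((Ext.mk₀ ((FreeYoneda.freeSheaf J).map f.unop)).comp (Ext.mk₀ b) (zero_add 0)) =
      F.obj.map f (e₀ J F W.unop (Ext.mk₀ b))
    rw [Ext.mk₀_comp_mk₀, e₀_mk₀, e₀_mk₀]
    exact FreeYoneda.homEquiv_naturality_left J f.unop F b)

/-- `F ↦ (W ↦ Ext^0(ℤ_W, F))` is the inclusion of sheaves in presheaves -/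
noncomputable def tp₀Iso :
    ExtPsh.Tp (FreeYoneda.freeSheaf J) 0 ≅ sheafToPresheaf J AddCommGrpCat.{v} :=
  NatIso.ofComponents (fun F => tp₀ObjIso J F) (by
    intro F F' φ
    apply NatTrans.ext
    funext W
    apply AddCommGrpCat.hom_ext
    apply AddMonoidHom.ext
    intro x
    obtain ⟨b, rfl⟩ := (Ext.mk₀_bijective _ _).2 x
    show e₀ J F' W.unop ((Ext.mk₀ b).comp (Ext.mk₀ φ) (add_zero 0)) =
      φ.hom.app W (e₀ J F W.unop (Ext.mk₀ b))
    rw [Ext.mk₀_comp_mk₀, e₀_mk₀, e₀_mk₀]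
    exact FreeYoneda.homEquiv_naturality_right J W.unop φ b)

end CohPsh

end Groth.Agent.Lib.helper27
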