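import Mathlib
import Groth.Agent.Lib.Helper27.DeltaSeq

set_option autoImplicit false

namespace Groth.Agent.Lib.helper27

open CategoryTheory Limits

universe v u v' u'

namespace DeltaSeq

variable {A : Type u} [Category.{v} A] [Abelian A] {B : Type u'} [Category.{v'} B] [Abelian B]

/-- Relative version of `IsExSeq`: long exact sequences are only required for short exact
sequences `0 ⟶ X₁ ⟶ X₂ ⟶ X₃ ⟶ 0` with `X₁` in the class `𝒮` and `X₂` injective. -/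
structure IsExSeqOn (𝒮 : ObjectProperty A) (T : ℕ → A ⥤ B) : Prop where
  ex : ∀ (S : ShortComplex A), S.ShortExact → 𝒮 S.X₁ → Injective S.X₂ → ∀ i : ℕ,
    ∃ (δ : (T i).obj S.X₃ ⟶ (T (i + 1)).obj S.X₁)
      (h1 : (T i).map S.g ≫ δ = 0) (h2 : δ ≫ (T (i + 1)).map S.f = 0),
      (ShortComplex.mk _ _ h1).Exact ∧ (ShortComplex.mk _ _ h2).Exact
  vanish : ∀ (I : A), Injective I → ∀ i : ℕ, IsZero ((T (i + 1)).obj I)

variable {T T' : ℕ → A ⥤ B} {𝒮 : ObjectProperty A}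

lemma IsExSeq.on (hT : IsExSeq T) (𝒮 : ObjectProperty A) : IsExSeqOn 𝒮 T where
  ex S hS _ _ i := hT.ex S hS i
  vanish := hT.vanish

lemma shift_iso_on (hT : IsExSeqOn 𝒮 T) (S : ShortComplex A) (hS : S.ShortExact) (h₁ : 𝒮 S.X₁)
    (hI : Injective S.X₂) (i : ℕ) : Nonempty ((T (i + 1)).obj S.X₃ ≅ (T (i + 2)).obj S.X₁) := by
  obtain ⟨δ, h1, h2, e1, e2⟩ := hT.ex S hS h₁ hI (i + 1)
  have hm : Mono δ := e1.mono_g ((hT.vanish _ hI i).eq_of_src _ _)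
  have he : Epi δ := e2.epi_f ((hT.vanish _ hI (i + 1)).eq_of_tgt _ _)
  have : IsIso δ := isIso_of_mono_of_epi δ
  exact ⟨asIso δ⟩

lemma one_iso_on (hT : IsExSeqOn 𝒮 T) (S : ShortComplex A) (hS : S.ShortExact) (h₁ : 𝒮 S.X₁)
    (hI : Injective S.X₂) :
    Nonempty ((T 1).obj S.X₁ ≅ cokernel ((T 0).map S.g)) := by
  obtain ⟨δ, h1, h2, e1, e2⟩ := hT.ex S hS h₁ hI 0
  have he : Epi δ := e2.epi_f ((hT.vanish _ hI 0).eq_of_tgt _ _)
  have : Epi (ShortComplex.mk _ _ h1).g := he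
  have hc : IsColimit (CokernelCofork.ofπ δ h1) := e1.gIsCokernel
  exact ⟨IsColimit.coconePointUniqueUpToIso hc (colimit.isColimit _)⟩

variable [EnoughInjectives A]

theorem iso_succ_on (hT : IsExSeqOn 𝒮 T) (hT' : IsExSeqOn 𝒮 T')
    (h𝒮 : ∀ S : ShortComplex A, S.ShortExact → 𝒮 S.X₁ → Injective S.X₂ → 𝒮 S.X₃)
    (e : T 0 ≅ T' 0) :
    ∀ (i : ℕ) (X : A), 𝒮 X → Nonempty ((T (i + 1)).obj X ≅ (T' (i + 1)).obj X) := by
  intro i
  induction i with
  | zero =>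
    intro X hX
    have hS : (cokerSES (Injective.ι X)).ShortExact := cokerSES_shortExact _
    have hI : Injective (cokerSES (Injective.ι X)).X₂ :=
      inferInstanceAs (Injective (Injective.under X))
    obtain ⟨a⟩ := one_iso_on hT _ hS hX hI
    obtain ⟨b⟩ := one_iso_on hT' _ hS hX hI
    exact ⟨a ≪≫ cokernel.mapIso _ _ (e.app _) (e.app _) (e.hom.naturality _) ≪≫ b.symm⟩
  | succ i ih =>
    intro X hX
    have hS : (cokerSES (Injective.ι X)).ShortExact := cokerSES_shortExact _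
    have hI : Injective (cokerSES (Injective.ι X)).X₂ :=
      inferInstanceAs (Injective (Injective.under X))
    obtain ⟨a⟩ := shift_iso_on hT _ hS hX hI i
    obtain ⟨b⟩ := shift_iso_on hT' _ hS hX hI i
    obtain ⟨c⟩ := ih (cokerSES (Injective.ι X)).X₃ (h𝒮 _ hS hX hI)
    exact ⟨a.symm ≪≫ c ≪≫ b⟩

theorem iso_on (hT : IsExSeqOn 𝒮 T) (hT' : IsExSeqOn 𝒮 T')
    (h𝒮 : ∀ S : ShortComplex A, S.ShortExact → 𝒮 S.X₁ → Injective S.X₂ → 𝒮 S.X₃)
    (e : T 0 ≅ T' 0) (i : ℕ) (X : A) (hX : 𝒮 X) :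
    Nonempty ((T i).obj X ≅ (T' i).obj X) := by
  cases i with
  | zero => exact ⟨e.app X⟩
  | succ i => exact iso_succ_on hT hT' h𝒮 e i X hX

end DeltaSeq

end Groth.Agent.Lib.helper27
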