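import Mathlib
import Groth.Agent.Lib.Helper27.DeltaSeq2
import Groth.Agent.Lib.Helper27.CohPsh

set_option autoImplicit false
set_option linter.unusedVariables false

namespace Groth.Agent.Lib.helper27

open CategoryTheory Limits Opposite Abelian Groth.Agent.Lib.helper7

universe u

namespace CechLeray

section prod

variable {A : Type u} (X₁ X₂ X₃ : A → AddCommGrpCat.{u}) (f : ∀ a, X₁ a ⟶ X₂ a)
  (g : ∀ a, X₂ a ⟶ X₃ a)

lemma π_map_apply (a : A) (x : (∏ᶜ X₁ : AddCommGrpCat.{u})) :
    Pi.π X₂ a (Limits.Pi.map f x) = f a (Pi.π X₁ a x) := by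
  have h : Limits.Pi.map f ≫ Pi.π X₂ a = Pi.π X₁ a ≫ f a := Limits.Pi.map_π _ _
  exact ConcreteCategory.congr_hom h x

lemma prod_ext (x y : (∏ᶜ X₁ : AddCommGrpCat.{u})) (h : ∀ a, Pi.π X₁ a x = Pi.π X₁ a y) :
    x = y := by
  apply (Concrete.productEquiv X₁).injective
  funext a
  rw [Concrete.productEquiv_apply_apply, Concrete.productEquiv_apply_apply]
  exact h a

omit f g in
lemma pi_map_add (f g : ∀ a, X₁ a ⟶ X₂ a) :
    Limits.Pi.map (fun a => f a + g a) = Limits.Pi.map f + Limits.Pi.map g := by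
  apply Pi.hom_ext
  intro a
  rw [Preadditive.add_comp]
  simp

/-- a product of short exact sequences of abelian groups is short exact -/
lemma prod_shortExact (w : ∀ a, f a ≫ g a = 0) (w' : Limits.Pi.map f ≫ Limits.Pi.map g = 0)
    (h : ∀ a, (ShortComplex.mk (f a) (g a) (w a)).ShortExact) :
    (ShortComplex.mk (Limits.Pi.map f) (Limits.Pi.map g) w').ShortExact := by
  have hf : ∀ a, Function.Injective (f a) := fun a =>
    (AddCommGrpCat.mono_iff_injective _).1 (h a).mono_f
  have hg : ∀ a, Function.Surjective (g a) := fun a =>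
    (AddCommGrpCat.epi_iff_surjective _).1 (h a).epi_g
  have hex : ∀ a (x₂ : X₂ a), g a x₂ = 0 → ∃ x₁, f a x₁ = x₂ := fun a =>
    (ShortComplex.ab_exact_iff _).1 (h a).exact
  refine ShortComplex.ShortExact.mk' ?_ ?_ ?_
  · rw [ShortComplex.ab_exact_iff]
    intro x hx
    have hx' : ∀ a, g a (Pi.π X₂ a x) = 0 := by
      intro a
      have := congrArg (Pi.π X₃ a) hx
      rw [π_map_apply, map_zero] at this
      exact this
    choose y hy using fun a => hex a _ (hx' a)
    refine ⟨(Concrete.productEquiv X₁).symm y, ?_⟩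
    apply prod_ext
    intro a
    show Pi.π X₂ a (Limits.Pi.map f ((Concrete.productEquiv X₁).symm y)) = _
    rw [π_map_apply, Concrete.productEquiv_symm_apply_π, hy]
  · rw [AddCommGrpCat.mono_iff_injective]
    intro x y hxy
    apply prod_ext
    intro a
    apply hf a
    have := congrArg (Pi.π X₂ a) hxy
    rwa [π_map_apply, π_map_apply] at this
  · rw [AddCommGrpCat.epi_iff_surjective]
    intro z
    choose y hy using fun a => hg a (Pi.π X₃ a z)
    refine ⟨(Concrete.productEquiv X₂).symm y, ?_⟩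
    apply prod_ext
    intro a
    show Pi.π X₃ a (Limits.Pi.map g ((Concrete.productEquiv X₂).symm y)) = _
    rw [π_map_apply, Concrete.productEquiv_symm_apply_π, hy]

end prod

section sheaf

variable {C : Type u} [SmallCategory C] (J : GrothendieckTopology C)

/-- product of sections over a family of objects, as a functor on sheaves -/
noncomputable def prodSections {A : Type u} (V : A → C) :
    Sheaf J AddCommGrpCat.{u} ⥤ AddCommGrpCat.{u} where
  obj F := ∏ᶜ fun a => F.obj.obj (op (V a))
  map φ := Limits.Pi.map fun a => φ.hom.app (op (V a))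
  map_id F := by
    apply Pi.hom_ext
    intro a
    simp
  map_comp φ ψ := by
    apply Pi.hom_ext
    intro a
    simp

instance {A : Type u} (V : A → C) : (prodSections J V).Additive where
  map_add {F G φ ψ} :=
    pi_map_add _ _ (fun a => φ.hom.app (op (V a))) (fun a => ψ.hom.app (op (V a)))

/-- sections of a short exact sequence of sheaves over an object over which the epimorphism is
surjective form a short exact sequence -/
lemma sections_shortExact (S : ShortComplex (Sheaf J AddCommGrpCat.{u})) (hS : S.ShortExact) (V : C)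
    (hV : Function.Surjective (S.g.hom.app (op V))) :
    (ShortComplex.mk (S.f.hom.app (op V)) (S.g.hom.app (op V))
      (by rw [← NatTrans.comp_app, ← ObjectProperty.FullSubcategory.comp_hom, S.zero]; rfl)).ShortExact := by
  have hΓ : PreservesFiniteLimits ((sheafSections J AddCommGrpCat.{u}).obj (op V)) := by
    show PreservesFiniteLimits (sheafToPresheaf J AddCommGrpCat.{u} ⋙ (evaluation _ _).obj (op V))
    infer_instance
  have hadd : ((sheafSections J AddCommGrpCat.{u}).obj (op V)).Additive := ⟨fun {_ _ _ _} => rfl⟩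
  have key : ∀ (S : ShortComplex (Sheaf J AddCommGrpCat.{u})), S.ShortExact →
      (S.map ((sheafSections J AddCommGrpCat.{u}).obj (op V))).Exact ∧
        Mono (((sheafSections J AddCommGrpCat.{u}).obj (op V)).map S.f) :=
    ((Functor.preservesFiniteLimits_tfae
      ((sheafSections J AddCommGrpCat.{u}).obj (op V))).out 3 0).1 hΓ
  obtain ⟨hex, hm⟩ := key S hS
  exact ShortComplex.ShortExact.mk' hex hm ((AddCommGrpCat.epi_iff_surjective _).2 hV)

variable [HasExt.{u} (Sheaf J AddCommGrpCat.{u})]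

/-- surjectivity of sections from vanishing of `H^1` -/
lemma surjective_of_ext_one (S : ShortComplex (Sheaf J AddCommGrpCat.{u})) (hS : S.ShortExact) (V : C)
    (hV : Subsingleton (Ext.{u} ((FreeYoneda.freeSheaf J).obj V) S.X₁ 1)) :
    Function.Surjective (S.g.hom.app (op V)) := by
  intro z
  let b : (FreeYoneda.freeSheaf J).obj V ⟶ S.X₃ := (FreeYoneda.homEquiv J V S.X₃).symm z
  obtain ⟨x₂, hx₂⟩ := Ext.covariant_sequence_exact₃ _ hS (Ext.mk₀ b) rfl (Subsingleton.elim _ _)
  obtain ⟨c, rfl⟩ := (Ext.mk₀_bijective _ _).2 x₂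
  rw [Ext.mk₀_comp_mk₀] at hx₂
  have hc : c ≫ S.g = b := (Ext.mk₀_bijective _ _).1 hx₂
  refine ⟨FreeYoneda.homEquiv J V S.X₂ c, ?_⟩
  rw [← FreeYoneda.homEquiv_naturality_right, hc]
  exact (FreeYoneda.homEquiv J V S.X₃).apply_symm_apply z

variable {A : ℕ → Type u} (V : ∀ n, A n → C)

/-- the class of sheaves which are acyclic on all the objects `V n a` -/
def Acyc : ObjectProperty (Sheaf J AddCommGrpCat.{u}) := fun F =>
  ∀ (n : ℕ) (a : A n) (q : ℕ), Subsingleton (Ext.{u} ((FreeYoneda.freeSheaf J).obj (V n a)) F (q + 1))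

lemma acyc_X₃ (S : ShortComplex (Sheaf J AddCommGrpCat.{u})) (hS : S.ShortExact)
    (h₁ : Acyc J V S.X₁) (hI : Injective S.X₂) : Acyc J V S.X₃ := by
  intro n a q
  refine subsingleton_of_forall_eq 0 (fun x => ?_)
  have := h₁ n a (q + 1)
  obtain ⟨x₂, rfl⟩ := Ext.covariant_sequence_exact₃ _ hS x rfl (Subsingleton.elim _ _)
  rw [Ext.eq_zero_of_injective x₂, Ext.zero_comp]

variable (Č : Sheaf J AddCommGrpCat.{u} ⥤ CochainComplex AddCommGrpCat.{u} ℕ) [Č.Additive]
  (e : ∀ n, Č ⋙ HomologicalComplex.eval _ _ n ≅ prodSections J (V n))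

include e in
lemma map_shortExact (S : ShortComplex (Sheaf J AddCommGrpCat.{u})) (hS : S.ShortExact)
    (h₁ : Acyc J V S.X₁) : (S.map Č).ShortExact := by
  apply HomologicalComplex.shortExact_of_degreewise_shortExact
  intro n
  have h : (S.map (prodSections J (V n))).ShortExact := by
    refine prod_shortExact _ _ _ (fun a => S.f.hom.app (op (V n a)))
      (fun a => S.g.hom.app (op (V n a))) ?_ _ ?_
    · intro a
      rw [← NatTrans.comp_app, ← ObjectProperty.FullSubcategory.comp_hom, S.zero]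
      rfl
    · intro a
      exact sections_shortExact J S hS (V n a) (surjective_of_ext_one J S hS (V n a) (h₁ n a 0))
  exact ShortComplex.shortExact_of_iso (ShortComplex.mapNatIso S (e n)).symm h

/-- the Cech cohomology functors -/
noncomputable abbrev T (p : ℕ) : Sheaf J AddCommGrpCat.{u} ⥤ AddCommGrpCat.{u} :=
  Č ⋙ HomologicalComplex.homologyFunctor _ _ p

include e in
lemma isExSeqOn_T (hinj : ∀ (I : Sheaf J AddCommGrpCat.{u}), Injective I →
    ∀ n : ℕ, (Č.obj I).ExactAt (n + 1)) : DeltaSeq.IsExSeqOn (Acyc J V) (T J Č) where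
  ex S hS h₁ hI i := by
    have hSČ := map_shortExact J V Č e S hS h₁
    exact ⟨hSČ.δ i (i + 1) rfl, hSČ.comp_δ i (i + 1) rfl, hSČ.δ_comp i (i + 1) rfl,
      hSČ.homology_exact₃ i (i + 1) rfl, hSČ.homology_exact₁ i (i + 1) rfl⟩
  vanish I hI i := by
    have := hinj I hI i
    rwa [HomologicalComplex.exactAt_iff_isZero_homology] at this

/-- the derived cohomology functors `F ↦ H^p(W, F)` -/
noncomputable abbrev T' (W : C) (p : ℕ) : Sheaf J AddCommGrpCat.{u} ⥤ AddCommGrpCat.{u} :=
  ExtPsh.Tp (FreeYoneda.freeSheaf J) p ⋙ (evaluation _ _).obj (op W)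

lemma isExSeq_T' (W : C) : DeltaSeq.IsExSeq (T' J W) :=
  (ExtPsh.isExSeq_Tp (FreeYoneda.freeSheaf J)).comp ((evaluation _ _).obj (op W))

/-- `H^0(W, F) = F(W)` -/
noncomputable def t'₀Iso (W : C) :
    T' J W 0 ≅ (sheafSections J AddCommGrpCat.{u}).obj (op W) :=
  Functor.isoWhiskerRight (CohPsh.tp₀Iso J) ((evaluation _ _).obj (op W))

include e in
/-- **Abstract Leray theorem**: Cech cohomology computes derived cohomology for sheaves which
are acyclic on all the objects occuring in the Cech complex. -/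
theorem leray (hinj : ∀ (I : Sheaf J AddCommGrpCat.{u}), Injective I →
      ∀ n : ℕ, (Č.obj I).ExactAt (n + 1))
    (W : C) (e₀ : T J Č 0 ≅ (sheafSections J AddCommGrpCat.{u}).obj (op W))
    (F : Sheaf J AddCommGrpCat.{u}) (hF : Acyc J V F) (p : ℕ) :
    Nonempty ((Č.obj F).homology p ≅ Sheaf.H' F p W) :=
  DeltaSeq.iso_on (isExSeqOn_T J V Č e hinj) ((isExSeq_T' J W).on _)
    (fun S hS h₁ hI => acyc_X₃ J V S hS h₁ hI) (e₀ ≪≫ (t'₀Iso J W).symm) p F hF

end sheaf

end CechLeray

end Groth.Agent.Lib.helper27
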