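import Mathlib
import Groth.Agent.Lib.Helper27.CechH0
import Groth.Agent.Lib.Helper27.CechLeray

set_option autoImplicit false
set_option linter.unusedVariables false
set_option linter.unusedSectionVars false

namespace Groth.Agent.Lib.helper27

open CategoryTheory Limits Opposite Simplicial

universe u

namespace CechSite

section additive

variable {D : Type u} [SmallCategory D] [HasFiniteProducts D] {ι : Type u} (U : ι → D)

lemma cech_map_f {P Q : Dᵒᵖ ⥤ AddCommGrpCat.{u}} (φ : P ⟶ Q) (n : ℕ) :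
    ((cechComplexFunctor U).map φ).f n =
      (Limits.Pi.map fun a : Fin (n + 1) → ι => φ.app (op (∏ᶜ (U ∘ a))) :
        (∏ᶜ Cech.Z U P n : AddCommGrpCat.{u}) ⟶ ∏ᶜ Cech.Z U Q n) := rfl

instance : (cechComplexFunctor (A := AddCommGrpCat.{u}) U).Additive where
  map_add {P Q φ ψ} := by
    apply HomologicalComplex.hom_ext
    intro n
    rw [HomologicalComplex.add_f_apply, cech_map_f, cech_map_f, cech_map_f]
    exact CechLeray.pi_map_add _ _ (fun a => φ.app (op (∏ᶜ (U ∘ a))))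
      (fun a => ψ.app (op (∏ᶜ (U ∘ a))))

end additive

section site

variable {C : Type u} [SmallCategory C] (J : GrothendieckTopology C)
  {D : Type u} [SmallCategory D] [HasFiniteProducts D] (Φ : D ⥤ C) {ι : Type u} (U : ι → D)

/-- the Cech complex functor on sheaves -/
noncomputable def Č : Sheaf J AddCommGrpCat.{u} ⥤ CochainComplex AddCommGrpCat.{u} ℕ :=
  sheafToPresheaf J AddCommGrpCat.{u} ⋙
    (Functor.whiskeringLeft Dᵒᵖ Cᵒᵖ AddCommGrpCat.{u}).obj Φ.op ⋙ cechComplexFunctor U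

instance : (Č J Φ U).Additive := by
  unfold Č
  infer_instance

/-- the objects occuring in the Cech complex -/
noncomputable abbrev V (n : ℕ) (a : Fin (n + 1) → ι) : C := Φ.obj (∏ᶜ (U ∘ a))

/-- the terms of the Cech complex -/
noncomputable def e (n : ℕ) :
    Č J Φ U ⋙ HomologicalComplex.eval _ _ n ≅ CechLeray.prodSections J (V Φ U n) :=
  NatIso.ofComponents (fun F => Iso.refl _) (by
    intro F G φ
    exact (Category.comp_id _).trans (Category.id_comp _).symm)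

/-- gluing of sections of a sheaf of abelian groups along a covering family of arrows -/
lemma glue_arrows (F : Sheaf J AddCommGrpCat.{u}) {B : C} {I : Type u} (X : I → C)
    (π : ∀ i, X i ⟶ B) (h : Sieve.ofArrows X π ∈ J B) (x : ∀ i, F.obj.obj (op (X i)))
    (hx : ∀ (i j : I) (Z : C) (gi : Z ⟶ X i) (gj : Z ⟶ X j), gi ≫ π i = gj ≫ π j →
      F.obj.map gi.op (x i) = F.obj.map gj.op (x j)) :
    ∃! t : F.obj.obj (op B), ∀ i, F.obj.map (π i).op t = x i := by
  have h1 : Presieve.IsSheaf J (F.obj ⋙ forget AddCommGrpCat.{u}) :=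
    (isSheaf_iff_isSheaf_of_type J _).1
      ((Presheaf.isSheaf_iff_isSheaf_forget J F.obj (forget AddCommGrpCat.{u})).1 F.property)
  have h2 := h1 _ h
  rw [Sieve.ofArrows, ← Presieve.isSheafFor_iff_generate, Presieve.isSheafFor_arrows_iff] at h2
  exact h2 x hx

section aug

variable {W : C} (π : ∀ i, Φ.obj (U i) ⟶ W)

/-- the structure morphisms to `W` -/
def ρ (T : D) (s : Cech.Sec U T) : Φ.obj T ⟶ W := Φ.map s.2 ≫ π s.1

/-- restriction from `W` -/
def ε (F : Sheaf J AddCommGrpCat.{u}) (T : D) (s : Cech.Sec U T) :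
    F.obj.obj (op W) ⟶ (Φ.op ⋙ F.obj).obj (op T) :=
  F.obj.map (ρ Φ U π T s).op

variable (hπ : ∀ (T : D) (s s' : Cech.Sec U T), Φ.map s.2 ≫ π s.1 = Φ.map s'.2 ≫ π s'.1)

include hπ in
lemma hε (F : Sheaf J AddCommGrpCat.{u}) (T T' : D) (h : T' ⟶ T) (s : Cech.Sec U T)
    (s' : Cech.Sec U T') :
    ε J Φ U π F T s ≫ (Φ.op ⋙ F.obj).map h.op = ε J Φ U π F T' s' := by
  show F.obj.map (ρ Φ U π T s).op ≫ F.obj.map (Φ.map h).op = F.obj.map (ρ Φ U π T' s').op
  rw [← F.obj.map_comp, ← op_comp]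
  congr 2
  have := hπ T' ⟨s.1, h ≫ s.2⟩ s'
  simp only [ρ]
  rw [← this, Φ.map_comp, Category.assoc]

/-- the augmentation of the Cech complex functor -/
noncomputable def aug :
    (sheafSections J AddCommGrpCat.{u}).obj (op W) ⟶
      Č J Φ U ⋙ HomologicalComplex.eval _ _ 0 where
  app F := Cech.augQ U (Φ.op ⋙ F.obj) (F.obj.obj (op W)) (ε J Φ U π F)
  naturality F G φ := by
    apply Pi.hom_ext
    intro a
    show (φ.hom.app (op W) ≫ Cech.augQ U (Φ.op ⋙ G.obj) (G.obj.obj (op W)) (ε J Φ U π G)) ≫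
        Pi.π (Cech.Z U (Φ.op ⋙ G.obj) 0) a =
      (Cech.augQ U (Φ.op ⋙ F.obj) (F.obj.obj (op W)) (ε J Φ U π F) ≫
        (Limits.Pi.map fun a : Fin 1 → ι => φ.hom.app (op (V Φ U 0 a)))) ≫
        Pi.π (Cech.Z U (Φ.op ⋙ G.obj) 0) a
    simp only [Cech.augQ, Category.assoc, Pi.lift_π, Pi.map_π, Pi.lift_π_assoc]
    exact (φ.hom.naturality (ρ Φ U π (∏ᶜ U ∘ a) (Cech.canon U a 0)).op).symm

variable (hcov : Sieve.ofArrows (fun i => Φ.obj (U i)) π ∈ J W)
  (hlift : ∀ (i j : ι) (Z : C) (gi : Z ⟶ Φ.obj (U i)) (gj : Z ⟶ Φ.obj (U j)),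
    gi ≫ π i = gj ≫ π j → ∃ (T : D) (f : Z ⟶ Φ.obj T) (si : T ⟶ U i) (sj : T ⟶ U j),
      gi = f ≫ Φ.map si ∧ gj = f ≫ Φ.map sj)

include hcov hlift in
lemma hG (F : Sheaf J AddCommGrpCat.{u}) (c : Cech.Fam U (Φ.op ⋙ F.obj) 0)
    (hc : Cech.IsNat U (Φ.op ⋙ F.obj) c) (hd : Cech.dFam U (Φ.op ⋙ F.obj) 0 c = 0) :
    ∃! γ : F.obj.obj (op W), ∀ (T : D) (t : Fin 1 → Cech.Sec U T),
      c T t = ε J Φ U π F T (t 0) γ := by
  let y : ∀ i, F.obj.obj (op (Φ.obj (U i))) := fun i => c (U i) (fun _ => ⟨i, 𝟙 _⟩)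
  have key : ∀ (T : D) (i : ι) (s : T ⟶ U i),
      c T (fun _ => ⟨i, s⟩) = F.obj.map (Φ.map s).op (y i) := by
    intro T i s
    have := hc (U i) T s (fun _ => ⟨i, 𝟙 _⟩)
    rw [show Cech.pull U s (fun _ : Fin 1 => (⟨i, 𝟙 _⟩ : Cech.Sec U (U i))) = fun _ => ⟨i, s⟩ from by
      funext k; simp [Cech.pull]] at this
    exact this.symm
  have cocycle : ∀ (T : D) (i j : ι) (si : T ⟶ U i) (sj : T ⟶ U j),
      c T (fun _ => ⟨i, si⟩) = c T (fun _ => ⟨j, sj⟩) := by
    intro T i j si sj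
    have := congrFun (congrFun hd T) ![⟨j, sj⟩, ⟨i, si⟩]
    simp only [Cech.dFam] at this
    have h2 : ∀ f : Fin (0 + 2) → (Φ.op ⋙ F.obj).obj (op T), ∑ x, f x = f 0 + f 1 :=
      fun f => Fin.sum_univ_two f
    rw [h2] at this
    have e0 : (![⟨j, sj⟩, ⟨i, si⟩] : Fin 2 → Cech.Sec U T) ∘ Fin.succAbove (0 : Fin 2) =
        fun _ => ⟨i, si⟩ := by
      funext k
      fin_cases k
      rfl
    have e1 : (![⟨j, sj⟩, ⟨i, si⟩] : Fin 2 → Cech.Sec U T) ∘ Fin.succAbove (1 : Fin 2) =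
        fun _ => ⟨j, sj⟩ := by
      funext k
      fin_cases k
      rfl
    rw [e0, e1] at this
    simp at this
    exact add_neg_eq_zero.1 this
  have const : ∀ (T : D) (t : Fin 1 → Cech.Sec U T), t = fun _ => t 0 := by
    intro T t
    funext k
    congr
    exact Subsingleton.elim _ _
  obtain ⟨γ, hγ, huniq⟩ := glue_arrows J F (fun i => Φ.obj (U i)) π hcov y (by
    intro i j Z gi gj hij
    obtain ⟨T, f, si, sj, rfl, rfl⟩ := hlift i j Z gi gj hij
    rw [op_comp, F.obj.map_comp, op_comp, F.obj.map_comp]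
    show F.obj.map f.op (F.obj.map (Φ.map si).op (y i)) =
      F.obj.map f.op (F.obj.map (Φ.map sj).op (y j))
    rw [← key, ← key, cocycle T i j si sj])
  refine ⟨γ, ?_, ?_⟩
  · intro T t
    rw [const T t]
    obtain ⟨i, s⟩ := t 0
    rw [key, ← hγ i]
    show F.obj.map (Φ.map s).op (F.obj.map (π i).op γ) = F.obj.map (ρ Φ U π T ⟨i, s⟩).op γ
    rw [← ConcreteCategory.comp_apply, ← F.obj.map_comp, ← op_comp]
    rfl
  · intro γ' hγ'
    apply huniq
    intro i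
    have := hγ' (U i) (fun _ => ⟨i, 𝟙 _⟩)
    show _ = c (U i) (fun _ => ⟨i, 𝟙 _⟩)
    rw [this]
    simp [ε, ρ]

include hπ in
lemma aug_d (F : Sheaf J AddCommGrpCat.{u}) :
    (aug J Φ U π).app F ≫ ((Č J Φ U).obj F).d 0 1 = 0 :=
  Cech.augQ_d' U (Φ.op ⋙ F.obj) (F.obj.obj (op W)) (ε J Φ U π F) (hε J Φ U π hπ F)

include hπ hcov hlift in
/-- `Ȟ^0` of a sheaf is its sections over `W` -/
noncomputable def e₀ :
    CechLeray.T J (Č J Φ U) 0 ≅ (sheafSections J AddCommGrpCat.{u}).obj (op W) :=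
  Cech.h0Iso (Č J Φ U) ((sheafSections J AddCommGrpCat.{u}).obj (op W)) (aug J Φ U π)
    (aug_d J Φ U π hπ)
    (fun F => Cech.augQIsKernel U (Φ.op ⋙ F.obj) (F.obj.obj (op W)) (ε J Φ U π F)
      (hε J Φ U π hπ F) (hG J Φ U π hcov hlift F))

variable [HasExt.{u} (Sheaf J AddCommGrpCat.{u})]

include hπ hcov hlift in
/-- **Leray's theorem** for a covering family in a category `D` with finite products mapping to
the site. -/
theorem leray
    (hinj : ∀ (I : Cᵒᵖ ⥤ AddCommGrpCat.{u}), Injective I → ∀ n : ℕ,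
      ((cechComplexFunctor U).obj (Φ.op ⋙ I)).ExactAt (n + 1))
    (F : Sheaf J AddCommGrpCat.{u})
    (hF : ∀ (n : ℕ) (a : Fin (n + 1) → ι) (q : ℕ),
      Subsingleton (Sheaf.H' F (q + 1) (V Φ U n a) : AddCommGrpCat.{u}))
    (p : ℕ) :
    Nonempty (((cechComplexFunctor U).obj (Φ.op ⋙ F.obj)).homology p ≅ Sheaf.H' F p W) :=
  CechLeray.leray J (V Φ U) (Č J Φ U) (e J Φ U)
    (fun I hI n => by
      have : Injective ((sheafToPresheaf J AddCommGrpCat.{u}).obj I) :=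
        Injective.injective_of_adjoint (sheafificationAdjunction J AddCommGrpCat.{u}) I
      exact hinj _ this n)
    W (e₀ J Φ U π hπ hcov hlift) F hF p

end aug

end site

end CechSite

end Groth.Agent.Lib.helper27
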