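import Mathlib
import Groth.Agent.Lib.Helper27.CechSite

set_option autoImplicit false
set_option linter.unusedVariables false
set_option linter.unusedSectionVars false

namespace Groth.Agent.Lib.helper27

open CategoryTheory Limits Opposite Simplicial

universe u

namespace CechSite

section h1

variable {C : Type u} [SmallCategory C] (J : GrothendieckTopology C)

/-- sections of a short exact sequence of sheaves are left exact -/
lemma sections_left_exact (S : ShortComplex (Sheaf J AddCommGrpCat.{u})) (hS : S.ShortExact) (V : C) :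
    Function.Injective (S.f.hom.app (op V)) ∧
    ∀ y, S.g.hom.app (op V) y = 0 → ∃ x, S.f.hom.app (op V) x = y := by
  have hΓ : PreservesFiniteLimits ((sheafSections J AddCommGrpCat.{u}).obj (op V)) := by
    show PreservesFiniteLimits (sheafToPresheaf J AddCommGrpCat.{u} ⋙ (evaluation _ _).obj (op V))
    infer_instance
  have hadd : ((sheafSections J AddCommGrpCat.{u}).obj (op V)).Additive := ⟨fun {_ _ _ _} => rfl⟩
  have key : ∀ (S : ShortComplex (Sheaf J AddCommGrpCat.{u})), S.ShortExact →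
      (S.map ((sheafSections J AddCommGrpCat.{u}).obj (op V))).Exact ∧
        Mono (((sheafSections J AddCommGrpCat.{u}).obj (op V)).map S.f) :=
    ((Functor.preservesFiniteLimits_tfae
      ((sheafSections J AddCommGrpCat.{u}).obj (op V))).out 3 0).1 hΓ
  obtain ⟨hex, hm⟩ := key S hS
  constructor
  · exact (AddCommGrpCat.mono_iff_injective _).1 hm
  · intro y hy
    rw [ShortComplex.ab_exact_iff] at hex
    exact hex y hy

lemma forall_of_exactAt {K : CochainComplex AddCommGrpCat.{u} ℕ} (n : ℕ) (hK : K.ExactAt (n + 1)) :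
    ∀ x : K.X (n + 1), K.d (n + 1) (n + 2) x = 0 → ∃ y, K.d n (n + 1) y = x := by
  rw [HomologicalComplex.exactAt_iff' K n (n + 1) (n + 2) (by simp) (by simp),
    ShortComplex.ab_exact_iff] at hK
  exact hK

variable {D : Type u} [SmallCategory D] [HasFiniteProducts D] (Φ : D ⥤ C) {ι : Type u} (U : ι → D)
  {W : C} (π : ∀ i, Φ.obj (U i) ⟶ W)
  (hπ : ∀ (T : D) (s s' : Cech.Sec U T), Φ.map s.2 ≫ π s.1 = Φ.map s'.2 ≫ π s'.1)
  (hcov : Sieve.ofArrows (fun i => Φ.obj (U i)) π ∈ J W)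
  (hlift : ∀ (i j : ι) (Z : C) (gi : Z ⟶ Φ.obj (U i)) (gj : Z ⟶ Φ.obj (U j)),
    gi ≫ π i = gj ≫ π j → ∃ (T : D) (f : Z ⟶ Φ.obj T) (si : T ⟶ U i) (sj : T ⟶ U j),
      gi = f ≫ Φ.map si ∧ gj = f ≫ Φ.map sj)

include hπ hcov hlift in
/-- **Cech `H^1` lifting lemma**: if the first Cech cohomology of the kernel vanishes for a
covering family, a section of the quotient which lifts on the members of the family lifts. -/
theorem lift_of_h1 (S : ShortComplex (Sheaf J AddCommGrpCat.{u})) (hS : S.ShortExact)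
    (hH1 : ((cechComplexFunctor U).obj (Φ.op ⋙ S.X₁.obj)).ExactAt 1)
    (s : S.X₃.obj.obj (op W)) (t : ∀ i, S.X₂.obj.obj (op (Φ.obj (U i))))
    (ht : ∀ i, S.g.hom.app _ (t i) = S.X₃.obj.map (π i).op s) :
    ∃ γ : S.X₂.obj.obj (op W), S.g.hom.app _ γ = s := by
  have hex := fun V => sections_left_exact J S hS V
  let τ : ∀ T : D, Cech.Sec U T → S.X₂.obj.obj (op (Φ.obj T)) :=
    fun T σ => S.X₂.obj.map (Φ.map σ.2).op (t σ.1)
  have τ_nat : ∀ (T T' : D) (h : T' ⟶ T) (σ : Cech.Sec U T),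
      S.X₂.obj.map (Φ.map h).op (τ T σ) = τ T' ⟨σ.1, h ≫ σ.2⟩ := by
    intro T T' h σ
    simp only [τ]
    rw [← ConcreteCategory.comp_apply, ← S.X₂.obj.map_comp, ← op_comp, ← Φ.map_comp]
  have gτ : ∀ (T : D) (σ : Cech.Sec U T),
      S.g.hom.app _ (τ T σ) = S.X₃.obj.map (ρ Φ U π T σ).op s := by
    intro T σ
    have h1 := ConcreteCategory.congr_hom (S.g.hom.naturality (Φ.map σ.2).op) (t σ.1)
    rw [ConcreteCategory.comp_apply, ConcreteCategory.comp_apply] at h1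
    simp only [τ]
    rw [h1, ht, ← ConcreteCategory.comp_apply, ← S.X₃.obj.map_comp, ← op_comp]
    rfl
  have hc_ex : ∀ (T : D) (t' : Fin (1 + 1) → Cech.Sec U T),
      ∃ x : S.X₁.obj.obj (op (Φ.obj T)), S.f.hom.app _ x = τ T (t' 1) - τ T (t' 0) := by
    intro T t'
    apply (hex _).2
    rw [map_sub, gτ, gτ]
    have : ρ Φ U π T (t' 1) = ρ Φ U π T (t' 0) := hπ T _ _
    rw [this, sub_self]
  choose c hc using hc_ex
  have f_nat : ∀ (T T' : D) (h : T' ⟶ T) (x : S.X₁.obj.obj (op (Φ.obj T))),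
      S.f.hom.app _ (S.X₁.obj.map (Φ.map h).op x) = S.X₂.obj.map (Φ.map h).op (S.f.hom.app _ x) := by
    intro T T' h x
    have h1 := ConcreteCategory.congr_hom (S.f.hom.naturality (Φ.map h).op) x
    rw [ConcreteCategory.comp_apply, ConcreteCategory.comp_apply] at h1
    exact h1
  have c_nat : Cech.IsNat U (Φ.op ⋙ S.X₁.obj) c := by
    intro T T' h t'
    apply (hex _).1
    show S.f.hom.app _ (S.X₁.obj.map (Φ.map h).op (c T t')) = _
    rw [f_nat, hc, hc, map_sub, τ_nat, τ_nat]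
  have c_cocycle : Cech.dFam U (Φ.op ⋙ S.X₁.obj) 1 c = 0 := by
    funext T t'
    apply (hex _).1
    simp only [Cech.dFam]
    have h3 : ∀ f : Fin (1 + 2) → (Φ.op ⋙ S.X₁.obj).obj (op T), ∑ x, f x = f 0 + f 1 + f 2 :=
      fun f => Fin.sum_univ_three f
    rw [h3]
    rw [map_add, map_add, map_zsmul, map_zsmul, map_zsmul, hc, hc, hc]
    have e00 : (t' ∘ Fin.succAbove (0 : Fin 3)) 0 = t' 1 := rfl
    have e01 : (t' ∘ Fin.succAbove (0 : Fin 3)) 1 = t' 2 := rfl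
    have e10 : (t' ∘ Fin.succAbove (1 : Fin 3)) 0 = t' 0 := rfl
    have e11 : (t' ∘ Fin.succAbove (1 : Fin 3)) 1 = t' 2 := rfl
    have e20 : (t' ∘ Fin.succAbove (2 : Fin 3)) 0 = t' 0 := rfl
    have e21 : (t' ∘ Fin.succAbove (2 : Fin 3)) 1 = t' 1 := rfl
    rw [e00, e01, e10, e11, e20, e21]
    have hz : S.f.hom.app (op (Φ.obj T)) ((0 : Cech.Fam U (Φ.op ⋙ S.X₁.obj) (1 + 1)) T t') = 0 :=
      map_zero _
    rw [hz]
    simp only [Fin.val_zero, Fin.val_one, Fin.val_two, pow_zero, pow_one, one_smul, neg_smul,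
      even_two, Even.neg_pow, one_pow]
    abel
  obtain ⟨b, hb⟩ := forall_of_exactAt 0 hH1 (Cech.ΨQ U (Φ.op ⋙ S.X₁.obj) 1 c) (by
    show Cech.d' U (Φ.op ⋙ S.X₁.obj) 1 (Cech.ΨQ U (Φ.op ⋙ S.X₁.obj) 1 c) = 0
    apply Cech.ΦQ_injective U (Φ.op ⋙ S.X₁.obj) 2
    rw [Cech.ΦQ_d', Cech.ΦQ_ΨQ U (Φ.op ⋙ S.X₁.obj) 1 c c_nat, c_cocycle, map_zero])
  have hb' : Cech.d' U (Φ.op ⋙ S.X₁.obj) 0 b = Cech.ΨQ U (Φ.op ⋙ S.X₁.obj) 1 c := hb
  let β : Cech.Fam U (Φ.op ⋙ S.X₁.obj) 0 := Cech.ΦQ U (Φ.op ⋙ S.X₁.obj) 0 b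
  have hβ_nat : Cech.IsNat U (Φ.op ⋙ S.X₁.obj) β := Cech.ΦQ_isNat U (Φ.op ⋙ S.X₁.obj) 0 b
  have hβ : Cech.dFam U (Φ.op ⋙ S.X₁.obj) 0 β = c := by
    rw [← Cech.ΦQ_d', hb']
    exact Cech.ΦQ_ΨQ U (Φ.op ⋙ S.X₁.obj) 1 c c_nat
  let g' : ∀ T : D, Cech.Sec U T → S.X₂.obj.obj (op (Φ.obj T)) :=
    fun T σ => τ T σ - (S.f.hom.app (op (Φ.obj T)) (β T (fun _ => σ)) : S.X₂.obj.obj (op (Φ.obj T)))
  have g'_indep : ∀ (T : D) (σ₀ σ₁ : Cech.Sec U T), g' T σ₁ = g' T σ₀ := by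
    intro T σ₀ σ₁
    have h1 := congrFun (congrFun hβ T) ![σ₀, σ₁]
    simp only [Cech.dFam] at h1
    have h2 : ∀ f : Fin (0 + 2) → (Φ.op ⋙ S.X₁.obj).obj (op T), ∑ x, f x = f 0 + f 1 :=
      fun f => Fin.sum_univ_two f
    rw [h2] at h1
    have e0 : (![σ₀, σ₁] : Fin 2 → Cech.Sec U T) ∘ Fin.succAbove (0 : Fin 2) = fun _ => σ₁ := by
      funext k
      fin_cases k
      rfl
    have e1 : (![σ₀, σ₁] : Fin 2 → Cech.Sec U T) ∘ Fin.succAbove (1 : Fin 2) = fun _ => σ₀ := by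
      funext k
      fin_cases k
      rfl
    rw [e0, e1] at h1
    have h3 := hc T ![σ₀, σ₁]
    rw [← h1] at h3
    simp at h3
    simp only [g']
    rw [sub_eq_sub_iff_sub_eq_sub, ← h3, sub_eq_add_neg]
  have g'_nat : ∀ (T T' : D) (h : T' ⟶ T) (σ : Cech.Sec U T),
      S.X₂.obj.map (Φ.map h).op (g' T σ) = g' T' ⟨σ.1, h ≫ σ.2⟩ := by
    intro T T' h σ
    simp only [g']
    rw [map_sub, τ_nat, ← f_nat]
    congr 2
    exact hβ_nat T T' h (fun _ => σ)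
  obtain ⟨γ, hγ, -⟩ := glue_arrows J S.X₂ (fun i => Φ.obj (U i)) π hcov
    (fun i => g' (U i) ⟨i, 𝟙 _⟩) (by
      intro i j Z gi gj hij
      obtain ⟨T, f, si, sj, rfl, rfl⟩ := hlift i j Z gi gj hij
      rw [op_comp, S.X₂.obj.map_comp, op_comp, S.X₂.obj.map_comp]
      show S.X₂.obj.map f.op (S.X₂.obj.map (Φ.map si).op (g' (U i) ⟨i, 𝟙 _⟩)) =
        S.X₂.obj.map f.op (S.X₂.obj.map (Φ.map sj).op (g' (U j) ⟨j, 𝟙 _⟩))
      rw [g'_nat, g'_nat, g'_indep T ⟨j, sj ≫ 𝟙 _⟩ ⟨i, si ≫ 𝟙 _⟩])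
  refine ⟨γ, ?_⟩
  obtain ⟨s', -, huniq⟩ := glue_arrows J S.X₃ (fun i => Φ.obj (U i)) π hcov
    (fun i => S.X₃.obj.map (π i).op s) (by
      intro i j Z gi gj hij
      rw [← ConcreteCategory.comp_apply, ← S.X₃.obj.map_comp, ← op_comp, hij, op_comp,
        S.X₃.obj.map_comp, ConcreteCategory.comp_apply])
  rw [huniq s (fun i => rfl)]
  apply huniq
  intro i
  have h1 := ConcreteCategory.congr_hom (S.g.hom.naturality (π i).op) γ
  rw [ConcreteCategory.comp_apply, ConcreteCategory.comp_apply] at h1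
  rw [← h1, hγ i]
  simp only [g']
  rw [map_sub, gτ]
  have h2 : S.g.hom.app (op (Φ.obj (U i)))
      (S.f.hom.app (op (Φ.obj (U i))) (β (U i) (fun _ => ⟨i, 𝟙 _⟩))) = 0 := by
    have := S.zero
    have h3 : S.f.hom.app (op (Φ.obj (U i))) ≫ S.g.hom.app (op (Φ.obj (U i))) = 0 := by
      rw [← NatTrans.comp_app, ← ObjectProperty.FullSubcategory.comp_hom, S.zero]
      rfl
    exact ConcreteCategory.congr_hom h3 _
  rw [h2, sub_zero]
  simp [ρ]

end h1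

end CechSite

end Groth.Agent.Lib.helper27
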