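import Mathlib
import Groth.Agent.Lib.Helper27.CechH1

set_option autoImplicit false
set_option linter.unusedVariables false
set_option linter.unusedSectionVars false

namespace Groth.Agent.Lib.helper27

open CategoryTheory Limits Opposite Simplicial Abelian
open Groth.Agent.Lib.helper7

universe u

namespace CechSite

section cartan

variable {C : Type u} [SmallCategory C] (J : GrothendieckTopology C)

/-- A "Cech datum" over an object `W` of a site. -/
structure Datum (W : C) where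
  D : Type u
  cat : SmallCategory D
  fp : HasFiniteProducts D
  Φ : D ⥤ C
  ι : Type u
  U : ι → D
  π : ∀ i, Φ.obj (U i) ⟶ W
  hπ : ∀ (T : D) (s s' : Cech.Sec U T), Φ.map s.2 ≫ π s.1 = Φ.map s'.2 ≫ π s'.1
  hcov : Sieve.ofArrows (fun i => Φ.obj (U i)) π ∈ J W
  hlift : ∀ (i j : ι) (Z : C) (gi : Z ⟶ Φ.obj (U i)) (gj : Z ⟶ Φ.obj (U j)),
    gi ≫ π i = gj ≫ π j → ∃ (T : D) (f : Z ⟶ Φ.obj T) (si : T ⟶ U i) (sj : T ⟶ U j),
      gi = f ≫ Φ.map si ∧ gj = f ≫ Φ.map sj
  hinj : ∀ (I : Cᵒᵖ ⥤ AddCommGrpCat.{u}), Injective I → ∀ n : ℕ,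
    ((cechComplexFunctor U).obj (Φ.op ⋙ I)).ExactAt (n + 1)

attribute [instance] Datum.cat Datum.fp

variable {J}

/-- the Cech complex of a sheaf for a datum -/
noncomputable abbrev Datum.cx {W : C} (𝒰 : Datum J W) (F : Sheaf J AddCommGrpCat.{u}) :
    CochainComplex AddCommGrpCat.{u} ℕ :=
  (cechComplexFunctor 𝒰.U).obj (𝒰.Φ.op ⋙ F.obj)

/-- the objects occuring in the Cech complex of a datum -/
noncomputable abbrev Datum.V {W : C} (𝒰 : Datum J W) (n : ℕ) (a : Fin (n + 1) → 𝒰.ι) : C :=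
  𝒰.Φ.obj (∏ᶜ (𝒰.U ∘ a))

variable (J)

section fixed

variable {D : Type u} [SmallCategory D] [HasFiniteProducts D] (Φ : D ⥤ C) {ι : Type u} (U : ι → D)

lemma map_shortExact' (S : ShortComplex (Sheaf J AddCommGrpCat.{u})) (hS : S.ShortExact)
    (hsurj : ∀ (n : ℕ) (a : Fin (n + 1) → ι), Function.Surjective (S.g.hom.app (op (V Φ U n a)))) :
    (S.map (Č J Φ U)).ShortExact := by
  apply HomologicalComplex.shortExact_of_degreewise_shortExact
  intro n
  have h : (S.map (CechLeray.prodSections J (V Φ U n))).ShortExact := by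
    refine CechLeray.prod_shortExact _ _ _ (fun a => S.f.hom.app (op (V Φ U n a)))
      (fun a => S.g.hom.app (op (V Φ U n a))) ?_ _ ?_
    · intro a
      rw [← NatTrans.comp_app, ← ObjectProperty.FullSubcategory.comp_hom, S.zero]
      rfl
    · intro a
      exact CechLeray.sections_shortExact J S hS (V Φ U n a) (hsurj n a)
  exact ShortComplex.shortExact_of_iso (ShortComplex.mapNatIso S (e J Φ U n)).symm h

/-- vanishing of Cech cohomology of the quotient -/
lemma isZero_cech_X₃ (S : ShortComplex (Sheaf J AddCommGrpCat.{u})) (hS : S.ShortExact)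
    (hsurj : ∀ (n : ℕ) (a : Fin (n + 1) → ι), Function.Surjective (S.g.hom.app (op (V Φ U n a))))
    (q : ℕ)
    (h₂ : IsZero (((cechComplexFunctor U).obj (Φ.op ⋙ S.X₂.obj)).homology (q + 1)))
    (h₁ : IsZero (((cechComplexFunctor U).obj (Φ.op ⋙ S.X₁.obj)).homology (q + 2))) :
    IsZero (((cechComplexFunctor U).obj (Φ.op ⋙ S.X₃.obj)).homology (q + 1)) := by
  have hSČ := map_shortExact' J Φ U S hS hsurj
  have hex := hSČ.homology_exact₃ (q + 1) (q + 2) rfl
  exact hex.isZero_of_both_zeros (h₂.eq_of_src _ _) (h₁.eq_of_tgt _ _)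

end fixed

variable [HasExt.{u} (Sheaf J AddCommGrpCat.{u})]

/-- `H^1(W, X₁) = 0` if `X₂` is injective and `X₂(W) → X₃(W)` is surjective -/
lemma subsingleton_H_one (S : ShortComplex (Sheaf J AddCommGrpCat.{u})) (hS : S.ShortExact)
    (hI : Injective S.X₂) (W : C) (hsurj : Function.Surjective (S.g.hom.app (op W))) :
    Subsingleton (Sheaf.H' S.X₁ 1 W : AddCommGrpCat.{u}) := by
  suffices h : ∀ x' : Ext.{u} ((FreeYoneda.freeSheaf J).obj W) S.X₁ 1, x' = 0 from
    subsingleton_of_forall_eq (0 : Ext.{u} ((FreeYoneda.freeSheaf J).obj W) S.X₁ 1) h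
  intro x'
  obtain ⟨x₃, rfl⟩ := Ext.covariant_sequence_exact₁ _ hS x'
    (Ext.eq_zero_of_injective _) (zero_add 1)
  obtain ⟨b, rfl⟩ := (Ext.mk₀_bijective _ _).2 x₃
  obtain ⟨y, hy⟩ := hsurj (FreeYoneda.homEquiv J W S.X₃ b)
  have hb : (FreeYoneda.homEquiv J W S.X₂).symm y ≫ S.g = b := by
    apply (FreeYoneda.homEquiv J W S.X₃).injective
    rw [FreeYoneda.homEquiv_naturality_right, Equiv.apply_symm_apply, hy]
  rw [← hb, ← Ext.mk₀_comp_mk₀, Ext.comp_assoc_of_second_deg_zero, hS.comp_extClass, Ext.comp_zero]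

/-- `H^{p+2}(W, X₁) = 0` if `X₂` is injective and `H^{p+1}(W, X₃) = 0` -/
lemma subsingleton_H_succ (S : ShortComplex (Sheaf J AddCommGrpCat.{u})) (hS : S.ShortExact)
    (hI : Injective S.X₂) (W : C) (p : ℕ)
    (h₃ : Subsingleton (Sheaf.H' S.X₃ (p + 1) W : AddCommGrpCat.{u})) :
    Subsingleton (Sheaf.H' S.X₁ (p + 2) W : AddCommGrpCat.{u}) := by
  suffices h : ∀ x' : Ext.{u} ((FreeYoneda.freeSheaf J).obj W) S.X₁ (p + 2), x' = 0 from
    subsingleton_of_forall_eq (0 : Ext.{u} ((FreeYoneda.freeSheaf J).obj W) S.X₁ (p + 2)) h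
  intro x'
  obtain ⟨x₃, rfl⟩ := Ext.covariant_sequence_exact₁ _ hS x'
    (Ext.eq_zero_of_injective _) (rfl : (p + 1) + 1 = p + 2)
  have h0 : x₃ = 0 := @Subsingleton.elim _ h₃ x₃ 0
  rw [h0, Ext.zero_comp]

omit [HasExt.{u} (Sheaf J AddCommGrpCat.{u})] in
/-- generic Cech-`H^1` surjectivity criterion -/
lemma surjective_of_cech_h1 (S : ShortComplex (Sheaf J AddCommGrpCat.{u})) (hS : S.ShortExact)
    (W : C)
    (h : ∀ T ∈ J W, ∃ 𝒰 : Datum J W, (∀ i, T.arrows (𝒰.π i)) ∧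
      IsZero ((𝒰.cx S.X₁).homology 1)) :
    Function.Surjective (S.g.hom.app (op W)) := by
  intro s
  have hepi : Epi S.g := hS.epi_g
  have hls : Sheaf.IsLocallySurjective S.g :=
    (Sheaf.isLocallySurjective_iff_epi' (φ := S.g)).2 hepi
  have hT := Presheaf.imageSieve_mem J S.g.hom (U := op W) s
  obtain ⟨𝒰, hY, hz⟩ := h _ hT
  choose t ht using hY
  exact lift_of_h1 J 𝒰.Φ 𝒰.U 𝒰.π 𝒰.hπ 𝒰.hcov 𝒰.hlift S hS
    ((HomologicalComplex.exactAt_iff_isZero_homology _ _).2 hz) s t ht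

/-- the short exact sequence `0 → F → I → I/F → 0` with `I` injective -/
noncomputable def resS (F : Sheaf J AddCommGrpCat.{u}) : ShortComplex (Sheaf J AddCommGrpCat.{u}) :=
  ShortComplex.mk (Injective.ι F) (cokernel.π (Injective.ι F)) (cokernel.condition _)

lemma resS_shortExact (F : Sheaf J AddCommGrpCat.{u}) : (resS J F).ShortExact where
  exact := ShortComplex.exact_cokernel _
  mono_f := inferInstanceAs (Mono (Injective.ι F))
  epi_g := inferInstanceAs (Epi (cokernel.π (Injective.ι F)))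

instance (F : Sheaf J AddCommGrpCat.{u}) : Injective (resS J F).X₂ :=
  inferInstanceAs (Injective (Injective.under F))

/-- **Cartan's criterion**, generic form. -/
theorem cartan (B : Set C) (Cov : ∀ W : C, Set (Datum J W))
    (h1 : ∀ (W : C) (𝒰 : Datum J W), 𝒰 ∈ Cov W →
      ∀ (n : ℕ) (a : Fin (n + 1) → 𝒰.ι), 𝒰.V n a ∈ B)
    (h2 : ∀ W ∈ B, ∀ T ∈ J W, ∃ 𝒰 ∈ Cov W, ∀ i, T.arrows (𝒰.π i))
    (p : ℕ) : ∀ (F : Sheaf J AddCommGrpCat.{u})
      (h3 : ∀ (W : C) (𝒰 : Datum J W), 𝒰 ∈ Cov W →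
        ∀ q : ℕ, IsZero ((𝒰.cx F).homology (q + 1)))
      (W : C) (hW : W ∈ B), Subsingleton (Sheaf.H' F (p + 1) W : AddCommGrpCat.{u}) := by
  have hsurj : ∀ (F : Sheaf J AddCommGrpCat.{u})
      (h3 : ∀ (W : C) (𝒰 : Datum J W), 𝒰 ∈ Cov W →
        ∀ q : ℕ, IsZero ((𝒰.cx F).homology (q + 1))),
      ∀ W ∈ B, Function.Surjective ((resS J F).g.hom.app (op W)) := by
    intro F h3 W hW
    refine surjective_of_cech_h1 J (resS J F) (resS_shortExact J F) W (fun T hT => ?_)
    obtain ⟨𝒰, h𝒰, hT𝒰⟩ := h2 W hW T hT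
    exact ⟨𝒰, hT𝒰, h3 W 𝒰 h𝒰 0⟩
  induction p with
  | zero =>
    intro F h3 W hW
    exact subsingleton_H_one J (resS J F) (resS_shortExact J F) inferInstance W
      (hsurj F h3 W hW)
  | succ p ih =>
    intro F h3 W hW
    have h3' : ∀ (W : C) (𝒰 : Datum J W), 𝒰 ∈ Cov W →
        ∀ q : ℕ, IsZero ((𝒰.cx (resS J F).X₃).homology (q + 1)) := by
      intro W 𝒰 h𝒰 q
      refine isZero_cech_X₃ J 𝒰.Φ 𝒰.U (resS J F) (resS_shortExact J F)
        (fun n a => hsurj F h3 _ (h1 W 𝒰 h𝒰 n a)) q ?_ (h3 W 𝒰 h𝒰 (q + 1))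
      have hinj : Injective ((sheafToPresheaf J AddCommGrpCat.{u}).obj (resS J F).X₂) :=
        Injective.injective_of_adjoint (sheafificationAdjunction J AddCommGrpCat.{u}) _
      exact (HomologicalComplex.exactAt_iff_isZero_homology _ _).1 (𝒰.hinj _ hinj q)
    exact subsingleton_H_succ J (resS J F) (resS_shortExact J F) inferInstance W p
      (ih (resS J F).X₃ h3' W hW)

end cartan

section data

variable {C : Type u} [SmallCategory C] (J : GrothendieckTopology C)

/-- the Cech datum of a covering family of objects over `W` -/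
noncomputable def datumOver {W : C} [HasFiniteProducts (Over W)] {ι : Type u} (Y : ι → Over W)
    (hY : Sieve.ofArrows (fun i => (Y i).left) (fun i => (Y i).hom) ∈ J W) : Datum J W where
  D := Over W
  cat := inferInstance
  fp := inferInstance
  Φ := Over.forget W
  ι := ι
  U := Y
  π := fun i => (Y i).hom
  hπ := fun T s s' => by
    show s.2.left ≫ (Y s.1).hom = s'.2.left ≫ (Y s'.1).hom
    rw [Over.w, Over.w]
  hcov := hY
  hlift := fun i j Z gi gj hij => ⟨Over.mk (gi ≫ (Y i).hom), 𝟙 Z, Over.homMk gi rfl,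
      Over.homMk gj hij.symm, by simp, by simp⟩
  hinj := fun I hI n => Cech.exactAt_over_of_injective W Y I n

open TopologicalSpace in
/-- the Cech datum of a family of opens of a topological space -/
noncomputable def datumTop {X : TopCat.{u}} {ι : Type u} (V : ι → Opens X) (W : Opens X)
    (hW : iSup V = W) : Datum (Opens.grothendieckTopology X) W where
  D := Opens X
  cat := inferInstance
  fp := inferInstance
  Φ := 𝟭 (Opens X)
  ι := ι
  U := V
  π := fun i => homOfLE (hW ▸ le_iSup V i)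
  hπ := fun T s s' => Subsingleton.elim _ _
  hcov := by
    intro x hx
    rw [← hW] at hx
    obtain ⟨i, hi⟩ := Opens.mem_iSup.1 hx
    exact ⟨V i, homOfLE (hW ▸ le_iSup V i), Sieve.ofArrows_mk _ _ i, hi⟩
  hlift := fun i j Z gi gj hij => ⟨Z, 𝟙 Z, gi, gj, by simp, by simp⟩
  hinj := fun I hI n => Cech.exactAt_of_injective V I n

end data

end CechSite

end Groth.Agent.Lib.helper27
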