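import Mathlib

set_option autoImplicit false
set_option backward.isDefEq.respectTransparency false
set_option linter.unusedVariables false
set_option linter.unusedSectionVars false

namespace Groth.Agent.Lib.helper27

open CategoryTheory Limits Abelian

universe w' w v u

namespace FiltCoh

section post

variable {A : Type u} [Category.{v} A] [Abelian A] [HasExt.{w'} A]

/-- postcomposition of an `Ext` class with a morphism -/
noncomputable def post {Z X Y : A} {n : ℕ} (x : Ext.{w'} Z X n) (φ : X ⟶ Y) : Ext.{w'} Z Y n :=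
  x.comp (Ext.mk₀ φ) (add_zero n)

lemma post_def {Z X Y : A} {n : ℕ} (x : Ext.{w'} Z X n) (φ : X ⟶ Y) :
    post x φ = x.comp (Ext.mk₀ φ) (add_zero n) := rfl

@[simp] lemma post_post {Z X Y W : A} {n : ℕ} (x : Ext.{w'} Z X n) (φ : X ⟶ Y) (ψ : Y ⟶ W) :
    post (post x φ) ψ = post x (φ ≫ ψ) := by
  unfold post
  rw [Ext.comp_assoc_of_third_deg_zero, Ext.mk₀_comp_mk₀]

@[simp] lemma post_zero {Z X Y : A} {n : ℕ} (φ : X ⟶ Y) : post (0 : Ext.{w'} Z X n) φ = 0 := by
  unfold post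
  rw [Ext.zero_comp]

@[simp] lemma post_add {Z X Y : A} {n : ℕ} (x y : Ext.{w'} Z X n) (φ : X ⟶ Y) :
    post (x + y) φ = post x φ + post y φ := by
  unfold post
  rw [Ext.add_comp]

@[simp] lemma post_neg {Z X Y : A} {n : ℕ} (x : Ext.{w'} Z X n) (φ : X ⟶ Y) :
    post (-x) φ = - post x φ := by
  unfold post
  rw [Ext.neg_comp]

@[simp] lemma post_sub {Z X Y : A} {n : ℕ} (x y : Ext.{w'} Z X n) (φ : X ⟶ Y) :
    post (x - y) φ = post x φ - post y φ := by
  rw [sub_eq_add_neg, post_add, post_neg, ← sub_eq_add_neg]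

@[simp] lemma post_id {Z X : A} {n : ℕ} (x : Ext.{w'} Z X n) : post x (𝟙 X) = x := by
  unfold post
  rw [Ext.comp_mk₀_id]

/-- the connecting map of a short exact sequence -/
noncomputable def dlt {S : ShortComplex A} (hS : S.ShortExact) {Z : A} {n : ℕ}
    (z : Ext.{w'} Z S.X₃ n) : Ext.{w'} Z S.X₁ (n + 1) :=
  z.comp hS.extClass rfl

lemma dlt_post {S₁ S₂ : ShortComplex A} (h₁ : S₁.ShortExact) (h₂ : S₂.ShortExact) (f : S₁ ⟶ S₂)
    {Z : A} {n : ℕ} (z : Ext.{w'} Z S₁.X₃ n) :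
    post (dlt h₁ z) f.τ₁ = dlt h₂ (post z f.τ₃) := by
  unfold post dlt
  rw [Ext.comp_assoc_of_third_deg_zero, ShortComplex.ShortExact.extClass_naturality h₁ h₂ f,
    Ext.comp_assoc_of_second_deg_zero]

lemma dlt_post_g {S : ShortComplex A} (hS : S.ShortExact) {Z : A} {n : ℕ}
    (w : Ext.{w'} Z S.X₂ n) : dlt hS (post w S.g) = 0 := by
  unfold post dlt
  rw [Ext.comp_assoc_of_second_deg_zero, hS.comp_extClass, Ext.comp_zero]

lemma exists_dlt {S : ShortComplex A} (hS : S.ShortExact) {Z : A} {n : ℕ}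
    (x : Ext.{w'} Z S.X₁ (n + 1)) (hx : post x S.f = 0) : ∃ z : Ext.{w'} Z S.X₃ n, dlt hS z = x :=
  Ext.covariant_sequence_exact₁ Z hS x hx rfl

lemma exists_post_g {S : ShortComplex A} (hS : S.ShortExact) {Z : A} {n : ℕ}
    (z : Ext.{w'} Z S.X₃ n) (hz : dlt hS z = 0) : ∃ w : Ext.{w'} Z S.X₂ n, post w S.g = z :=
  Ext.covariant_sequence_exact₃ Z hS z rfl hz

end post

section colim

variable {A : Type u} [Category.{v} A] [Abelian A] [HasExt.{w'} A]
  {Λ : Type w} [SmallCategory Λ]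

/-- `Ext^p(Z, -)` commutes with the colimit of `F` along the cocone `c`, elementwise. -/
structure ColimLike (Z : A) (p : ℕ) (F : Λ ⥤ A) (c : Cocone F) : Prop where
  surj : ∀ y : Ext.{w'} Z c.pt p, ∃ (μ : Λ) (x : Ext.{w'} Z (F.obj μ) p), post x (c.ι.app μ) = y
  inj : ∀ (μ : Λ) (x : Ext.{w'} Z (F.obj μ) p), post x (c.ι.app μ) = 0 →
    ∃ (μ' : Λ) (f : μ ⟶ μ'), post x (F.map f) = 0

lemma ColimLike.of_iso {Z : A} {p : ℕ} {F : Λ ⥤ A} {c c' : Cocone F} (e : c ≅ c')
    (h : ColimLike Z p F c) : ColimLike Z p F c' where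
  surj y := by
    obtain ⟨μ, x, hx⟩ := h.surj (post y e.inv.hom)
    refine ⟨μ, x, ?_⟩
    have : c'.ι.app μ = c.ι.app μ ≫ e.hom.hom := (e.hom.w μ).symm
    rw [this, ← post_post, hx, post_post]
    have h2 : e.inv.hom ≫ e.hom.hom = 𝟙 _ := by
      rw [← Cocone.category_comp_hom, e.inv_hom_id]; rfl
    rw [h2, post_id]
  inj μ x hx := by
    apply h.inj μ x
    have : c.ι.app μ = c'.ι.app μ ≫ e.inv.hom := (e.inv.w μ).symm
    rw [this, ← post_post, hx, post_zero]

end colim

section embed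

variable {A : Type u} [Category.{v} A] [Abelian A] [EnoughInjectives A]
  {Λ : Type w} [SmallCategory Λ] [HasProducts.{w} A]

/-- the diagram `μ ↦ ∏_{μ ⟶ l} Inj(F l)` -/
noncomputable def injDiag (F : Λ ⥤ A) : Λ ⥤ A where
  obj μ := ∏ᶜ (fun p : (Σ l : Λ, (μ ⟶ l)) => Injective.under (F.obj p.1))
  map {μ μ'} h := Pi.lift (fun p : (Σ l : Λ, (μ' ⟶ l)) =>
    Pi.π (fun p : (Σ l : Λ, (μ ⟶ l)) => Injective.under (F.obj p.1)) ⟨p.1, h ≫ p.2⟩)
  map_id μ := by
    apply Pi.hom_ext
    rintro ⟨l, g⟩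
    simp
    rw [Category.id_comp]
  map_comp {μ μ' μ''} h h' := by
    apply Pi.hom_ext
    rintro ⟨l, g⟩
    simp
    rw [Category.assoc]

instance (F : Λ ⥤ A) (μ : Λ) : Injective ((injDiag F).obj μ) := by
  dsimp [injDiag]
  infer_instance

/-- the embedding `F ⟶ injDiag F` -/
noncomputable def injι (F : Λ ⥤ A) : F ⟶ injDiag F where
  app μ := Pi.lift (fun p : (Σ l : Λ, (μ ⟶ l)) => F.map p.2 ≫ Injective.ι (F.obj p.1))
  naturality {μ μ'} h := by
    apply Pi.hom_ext
    rintro ⟨l, g⟩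
    dsimp only [injDiag]
    rw [Category.assoc, Pi.lift_π, Category.assoc, Pi.lift_π, Pi.lift_π, ← Category.assoc,
      ← F.map_comp]

instance (F : Λ ⥤ A) (μ : Λ) : Mono ((injι F).app μ) := by
  have h : (injι F).app μ ≫
      Pi.π (fun p : (Σ l : Λ, (μ ⟶ l)) => Injective.under (F.obj p.1)) ⟨μ, 𝟙 μ⟩ =
      Injective.ι (F.obj μ) := by
    dsimp only [injι]
    rw [Pi.lift_π, F.map_id, Category.id_comp]
  have : Mono ((injι F).app μ ≫
      Pi.π (fun p : (Σ l : Λ, (μ ⟶ l)) => Injective.under (F.obj p.1)) ⟨μ, 𝟙 μ⟩) := by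
    rw [h]; infer_instance
  exact mono_of_mono _ (Pi.π (fun p : (Σ l : Λ, (μ ⟶ l)) => Injective.under (F.obj p.1)) ⟨μ, 𝟙 μ⟩)

instance (F : Λ ⥤ A) : Mono (injι F) := NatTrans.mono_of_mono_app _

/-- the short exact sequence `0 → F → injDiag F → Q → 0` of diagrams -/
noncomputable def injS (F : Λ ⥤ A) : ShortComplex (Λ ⥤ A) :=
  ShortComplex.mk (injι F) (cokernel.π (injι F)) (cokernel.condition _)

lemma injS_shortExact (F : Λ ⥤ A) : (injS F).ShortExact where
  exact := ShortComplex.exact_cokernel _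
  mono_f := inferInstanceAs (Mono (injι F))
  epi_g := inferInstanceAs (Epi (cokernel.π (injι F)))

end embed

section main

variable {A : Type u} [Category.{v} A] [Abelian A] [HasExt.{w'} A] [EnoughInjectives A]
  {Λ : Type w} [SmallCategory Λ] [IsFiltered Λ] [HasProducts.{w} A]
  [HasColimitsOfShape Λ A] [HasExactColimitsOfShape Λ A]

/-- the natural transformation `ev_μ ⟶ colim` -/
noncomputable def evToColim (μ : Λ) : (evaluation Λ A).obj μ ⟶ (colim : (Λ ⥤ A) ⥤ A) where
  app G := colimit.ι G μ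
  naturality G G' φ := by simp

instance : (colim : (Λ ⥤ A) ⥤ A).PreservesZeroMorphisms :=
  Functor.preservesZeroMorphisms_of_isLeftAdjoint _

variable (Z : A)

theorem colimLike_all
    (h0 : ∀ F : Λ ⥤ A, ColimLike.{w'} Z 0 F (colimit.cocone F))
    (hC : ∀ I : Λ ⥤ A, (∀ μ, Injective (I.obj μ)) → ∀ (q : ℕ)
      (x : Ext.{w'} Z (colimit I) (q + 1)), x = 0) :
    ∀ (p : ℕ) (F : Λ ⥤ A), ColimLike.{w'} Z p F (colimit.cocone F) := by
  intro p
  induction p with
  | zero => exact h0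
  | succ p ih =>
    intro F
    let S := injS F
    have hS := injS_shortExact F
    let I := injDiag F
    let Q := S.X₃
    have hSμ : ∀ μ : Λ, (S.map ((evaluation Λ A).obj μ)).ShortExact :=
      fun μ => hS.map_of_exact _
    have hSc : (S.map (colim : (Λ ⥤ A) ⥤ A)).ShortExact := hS.map_of_exact _
    let τ : ∀ μ : Λ, S.map ((evaluation Λ A).obj μ) ⟶ S.map (colim : (Λ ⥤ A) ⥤ A) :=
      fun μ => S.mapNatTrans (evToColim μ)
    let σ : ∀ {μ μ' : Λ} (f : μ ⟶ μ'),
        S.map ((evaluation Λ A).obj μ) ⟶ S.map ((evaluation Λ A).obj μ') :=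
      fun f => S.mapNatTrans ((evaluation Λ A).map f)
    have ihI := ih I
    have ihQ := ih Q
    refine ⟨fun y => ?_, fun μ x hx => ?_⟩
    · -- surjectivity
      have hy : post y (S.map (colim : (Λ ⥤ A) ⥤ A)).f = 0 :=
        hC I (fun μ => inferInstanceAs (Injective ((injDiag F).obj μ))) p _
      obtain ⟨z, hz⟩ := exists_dlt hSc y hy
      obtain ⟨μ, zμ, hzμ⟩ := ihQ.surj z
      refine ⟨μ, dlt (hSμ μ) zμ, ?_⟩
      have := dlt_post (hSμ μ) hSc (τ μ) zμ
      rw [← hz, ← hzμ]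
      exact this
    · -- injectivity
      have : Injective ((S.map ((evaluation Λ A).obj μ)).X₂) :=
        inferInstanceAs (Injective ((injDiag F).obj μ))
      have hx0 : post x (S.map ((evaluation Λ A).obj μ)).f = 0 :=
        Ext.eq_zero_of_injective _
      obtain ⟨z, hz⟩ := exists_dlt (hSμ μ) x hx0
      have h1 : dlt hSc (post z (τ μ).τ₃) = 0 := by
        rw [← dlt_post (hSμ μ) hSc (τ μ) z, hz]
        exact hx
      obtain ⟨w, hw⟩ := exists_post_g hSc _ h1
      obtain ⟨ν, wν, hwν⟩ := ihI.surj w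
      let μ₁ := IsFiltered.max μ ν
      let a : μ ⟶ μ₁ := IsFiltered.leftToMax μ ν
      let b : ν ⟶ μ₁ := IsFiltered.rightToMax μ ν
      let z₁ : Ext.{w'} Z (Q.obj μ₁) p := post z (Q.map a) - post (post wν (I.map b)) (S.g.app μ₁)
      have hz₁ : post z₁ (colimit.ι Q μ₁) = 0 := by
        dsimp only [z₁]
        rw [post_sub, post_post, post_post, post_post, colimit.w]
        have e1 : I.map b ≫ S.g.app μ₁ ≫ colimit.ι Q μ₁ =
            colimit.ι I ν ≫ (S.map (colim : (Λ ⥤ A) ⥤ A)).g := by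
          change I.map b ≫ S.g.app μ₁ ≫ colimit.ι Q μ₁ = colimit.ι I ν ≫ colimMap S.g
          have hn : I.map b ≫ S.g.app μ₁ = S.g.app ν ≫ Q.map b := S.g.naturality b
          rw [ι_colimMap, ← Category.assoc, hn, Category.assoc, colimit.w]
        have hwν' : post wν (colimit.ι I ν) = w := hwν
        rw [e1, ← post_post, hwν', hw]
        exact sub_self _
      obtain ⟨μ₂, c, hc⟩ := ihQ.inj μ₁ z₁ hz₁
      refine ⟨μ₂, a ≫ c, ?_⟩
      have h2 : post x (F.map (a ≫ c)) = dlt (hSμ μ₂) (post z (Q.map (a ≫ c))) := by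
        rw [← hz]
        exact dlt_post (hSμ μ) (hSμ μ₂) (σ (a ≫ c)) z
      rw [h2]
      have h3 : post z (Q.map (a ≫ c)) =
          post (post wν (I.map (b ≫ c))) (S.map ((evaluation Λ A).obj μ₂)).g := by
        have h4 : post z (Q.map a) = z₁ + post (post wν (I.map b)) (S.g.app μ₁) := by
          dsimp only [z₁]; abel
        rw [Q.map_comp, ← post_post, h4, post_add, hc, zero_add, post_post, post_post, post_post]
        congr 1
        change I.map b ≫ S.g.app μ₁ ≫ Q.map c = I.map (b ≫ c) ≫ S.g.app μ₂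
        have hn : I.map c ≫ S.g.app μ₂ = S.g.app μ₁ ≫ Q.map c := S.g.naturality c
        rw [I.map_comp, Category.assoc, hn]
      rw [h3]
      exact dlt_post_g (hSμ μ₂) _

end main

section preserve

variable {A : Type u} [Category.{v} A] [Abelian A] [HasExt.{w} A]
  {Λ : Type w} [SmallCategory Λ] [IsFiltered Λ]

/-- the elementwise criterion implies preservation of the colimit by `Ext^p(Z, -)` -/
theorem preservesColimit_extFunctorObj (Z : A) (p : ℕ) (F : Λ ⥤ A) (c : Cocone F)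
    (hc : IsColimit c) (h : ColimLike.{w} Z p F c) :
    PreservesColimit F (extFunctorObj.{w} Z p) := by
  apply preservesColimit_of_preserves_colimit_cocone hc
  haveI : PreservesColimitsOfShape Λ (forget AddCommGrpCat.{w}) :=
    PreservesFilteredColimitsOfSize.preserves_filtered_colimits Λ
  haveI : ReflectsColimitsOfShape Λ (forget AddCommGrpCat.{w}) :=
    reflectsColimitsOfShape_of_reflectsIsomorphisms
  apply isColimitOfReflects (forget AddCommGrpCat.{w})
  refine Types.FilteredColimit.isColimitOf' _ _ ?_ ?_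
  · intro y
    obtain ⟨μ, x, hx⟩ := h.surj y
    exact ⟨μ, x, hx.symm⟩
  · intro μ x y hxy
    have hxy' : post (x : Ext.{w} Z (F.obj μ) p) (c.ι.app μ) = post (y : Ext.{w} Z (F.obj μ) p)
        (c.ι.app μ) := hxy
    obtain ⟨μ', f, hf⟩ := h.inj μ ((x : Ext.{w} Z (F.obj μ) p) - y)
      (by rw [post_sub]; exact sub_eq_zero.2 hxy')
    refine ⟨μ', f, ?_⟩
    rw [post_sub] at hf
    exact sub_eq_zero.1 hf

/-- converse: preservation of the colimit gives the elementwise criterion -/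
theorem colimLike_of_preservesColimit (Z : A) (p : ℕ) (F : Λ ⥤ A) (c : Cocone F)
    (hc : IsColimit c) [PreservesColimit F (extFunctorObj.{w} Z p)] :
    ColimLike.{w} Z p F c := by
  haveI : PreservesColimitsOfShape Λ (forget AddCommGrpCat.{w}) :=
    PreservesFilteredColimitsOfSize.preserves_filtered_colimits Λ
  have hc' : IsColimit ((forget AddCommGrpCat.{w}).mapCocone ((extFunctorObj.{w} Z p).mapCocone c)) :=
    isColimitOfPreserves (forget AddCommGrpCat.{w}) (isColimitOfPreserves (extFunctorObj.{w} Z p) hc)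
  refine ⟨fun y => ?_, fun μ x hx => ?_⟩
  · obtain ⟨μ, x, hx⟩ := Types.jointly_surjective_of_isColimit hc' y
    exact ⟨μ, x, hx⟩
  · have h0 : ((forget AddCommGrpCat.{w}).mapCocone ((extFunctorObj.{w} Z p).mapCocone c)).ι.app μ x =
        ((forget AddCommGrpCat.{w}).mapCocone ((extFunctorObj.{w} Z p).mapCocone c)).ι.app μ
          (0 : Ext.{w} Z (F.obj μ) p) := by
      change post x (c.ι.app μ) = post (0 : Ext.{w} Z (F.obj μ) p) (c.ι.app μ)
      rw [hx, post_zero]
    obtain ⟨μ', f, hf⟩ := (Types.FilteredColimit.isColimit_eq_iff' hc' _ _).1 h0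
    refine ⟨μ', f, ?_⟩
    change post x (F.map f) = post (0 : Ext.{w} Z (F.obj μ) p) (F.map f) at hf
    rw [hf, post_zero]

end preserve

end FiltCoh

end Groth.Agent.Lib.helper27
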