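import Mathlib
import Groth.Prelude.Def_CohCx
import Groth.Agent.Lib.Helper27.CechCartan
import Groth.Agent.Lib.Helper27.FiltCohD

set_option autoImplicit false
set_option backward.isDefEq.respectTransparency false
set_option linter.unusedVariables false
set_option linter.unusedSectionVars false

namespace Groth.Agent.Lib.helper27

open CategoryTheory Limits Opposite Abelian

universe u

namespace FiltCoh

section filt

variable {Λ : Type u} [SmallCategory Λ] [IsFiltered Λ]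

lemma exists_common {κ : Type u} [Finite κ] (μ : Λ) (ν : κ → Λ) (f : ∀ k, μ ⟶ ν k) :
    ∃ (μ' : Λ) (g : μ ⟶ μ') (h : ∀ k, ν k ⟶ μ'), ∀ k, f k ≫ h k = g := by
  classical
  have := Fintype.ofFinite κ
  obtain ⟨c⟩ := IsFiltered.cocone_nonempty (WidePushoutShape.wideSpan μ ν f)
  refine ⟨c.pt, c.ι.app none, fun k => c.ι.app (some k), fun k => ?_⟩
  have := c.w (WidePushoutShape.Hom.init k)
  simpa using this

lemma exists_upper {κ : Type u} [Finite κ] (ν : κ → Λ) :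
    ∃ (μ' : Λ), ∀ k, Nonempty (ν k ⟶ μ') := by
  classical
  have := Fintype.ofFinite κ
  obtain ⟨S, hS⟩ := IsFiltered.sup_objs_exists (Finset.univ.image ν)
  exact ⟨S, fun k => hS (Finset.mem_image_of_mem ν (Finset.mem_univ k))⟩

end filt

lemma exists_lift₂ {D : Type*} [Category D] {ι : Type*} (Y : ι → D) (a : Fin 2 → ι)
    [HasProduct fun k => Y (a k)] {Z : D} (g0 : Z ⟶ Y (a 0)) (g1 : Z ⟶ Y (a 1)) :
    ∃ c : Z ⟶ ∏ᶜ fun k => Y (a k), c ≫ Pi.π (fun k => Y (a k)) 0 = g0 ∧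
      c ≫ Pi.π (fun k => Y (a k)) 1 = g1 := by
  let g : ∀ k : Fin 2, Z ⟶ Y (a k) := fun k =>
    Fin.cases (motive := fun k => Z ⟶ Y (a k)) g0 (fun k' => by
      have : k' = 0 := Subsingleton.elim _ _
      subst this
      exact g1) k
  refine ⟨Pi.lift g, ?_, ?_⟩
  · rw [Pi.lift_π]
    rfl
  · rw [Pi.lift_π]
    rfl

section sec

variable {Λ : Type u} [SmallCategory Λ] [IsFiltered Λ]
  {C : Type u} [SmallCategory C] {J : GrothendieckTopology C}
  (F : Λ ⥤ Sheaf J AddCommGrpCat.{u})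

/-- sections over `V` commute with the colimit of `F` along `c`, elementwise -/
structure SecLike (c : Cocone F) (V : C) : Prop where
  surj : ∀ s : c.pt.obj.obj (op V), ∃ (μ : Λ) (t : (F.obj μ).obj.obj (op V)),
    (c.ι.app μ).hom.app (op V) t = s
  inj : ∀ (μ : Λ) (t : (F.obj μ).obj.obj (op V)), (c.ι.app μ).hom.app (op V) t = 0 →
    ∃ (μ' : Λ) (f : μ ⟶ μ'), (F.map f).hom.app (op V) t = 0

variable {F} in
lemma SecLike.of_iso {c c' : Cocone F} (e : c ≅ c') {V : C} (h : SecLike F c V) :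
    SecLike F c' V where
  surj s := by
    obtain ⟨μ, t, ht⟩ := h.surj (e.inv.hom.hom.app (op V) s)
    refine ⟨μ, t, ?_⟩
    have h1 : c'.ι.app μ = c.ι.app μ ≫ e.hom.hom := (e.hom.w μ).symm
    rw [h1]
    change e.hom.hom.hom.app (op V) ((c.ι.app μ).hom.app (op V) t) = s
    rw [ht]
    have h2 : e.inv.hom ≫ e.hom.hom = 𝟙 _ := by
      rw [← Cocone.category_comp_hom, e.inv_hom_id]; rfl
    have h3 := congrArg (fun φ => φ.hom.app (op V) s) h2
    exact h3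
  inj μ t ht := by
    apply h.inj μ t
    have h1 : c.ι.app μ = c'.ι.app μ ≫ e.inv.hom := (e.inv.w μ).symm
    rw [h1]
    change e.inv.hom.hom.app (op V) ((c'.ι.app μ).hom.app (op V) t) = 0
    rw [ht, map_zero]

/-- the presheaf colimit cocone -/
noncomputable def E : Cocone (F ⋙ sheafToPresheaf J AddCommGrpCat.{u}) := colimit.cocone _

/-- the standard colimit cocone of sheaves -/
noncomputable def c₀ : Cocone F := Sheaf.sheafifyCocone (E F)

/-- the standard colimit cocone is a colimit -/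
noncomputable def hc₀ : IsColimit (c₀ F) :=
  Sheaf.isColimitSheafifyCocone _ (colimit.isColimit _)

instance : PreservesColimitsOfShape Λ (forget AddCommGrpCat.{u}) :=
  PreservesFilteredColimitsOfSize.preserves_filtered_colimits Λ

/-- the presheaf colimit is computed sectionwise and elementwise -/
noncomputable def hEW (W : C) : IsColimit ((forget AddCommGrpCat.{u}).mapCocone
    (((evaluation Cᵒᵖ AddCommGrpCat.{u}).obj (op W)).mapCocone (E F))) :=
  isColimitOfPreserves _ (isColimitOfPreserves _ (colimit.isColimit _))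

lemma c₀_ι_apply (μ : Λ) (W : C) (t : (F.obj μ).obj.obj (op W)) :
    ((c₀ F).ι.app μ).hom.app (op W) t =
      (toSheafify J (E F).pt).app (op W) (((E F).ι.app μ).app (op W) t) := by
  have := Sheaf.sheafifyCocone_ι_app_val (E F) μ
  have h2 := congrArg (fun φ => φ.app (op W) t) this
  exact h2

lemma loc_surj (V : C) (s : (c₀ F).pt.obj.obj (op V)) :
    ∃ T ∈ J V, ∀ ⦃W : C⦄ (g : W ⟶ V), T.arrows g →
      ∃ (μ : Λ) (t : (F.obj μ).obj.obj (op W)),
        ((c₀ F).ι.app μ).hom.app (op W) t = (c₀ F).pt.obj.map g.op s := by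
  have hls : Presheaf.IsLocallySurjective J (toSheafify J (E F).pt) := inferInstance
  refine ⟨Presheaf.imageSieve (toSheafify J (E F).pt) s, hls.imageSieve_mem s, ?_⟩
  rintro W g ⟨t', ht'⟩
  obtain ⟨μ, t, ht⟩ := Types.jointly_surjective_of_isColimit (hEW F W) t'
  refine ⟨μ, t, ?_⟩
  rw [c₀_ι_apply]
  have ht2 : ((E F).ι.app μ).app (op W) t = t' := ht
  rw [ht2]
  exact ht'

lemma loc_inj (V : C) (μ : Λ) (t : (F.obj μ).obj.obj (op V))
    (ht : ((c₀ F).ι.app μ).hom.app (op V) t = 0) :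
    ∃ T ∈ J V, ∀ ⦃W : C⦄ (g : W ⟶ V), T.arrows g →
      ∃ (μ' : Λ) (f : μ ⟶ μ'), (F.map f).hom.app (op W) ((F.obj μ).obj.map g.op t) = 0 := by
  have hli : Presheaf.IsLocallyInjective J (toSheafify J (E F).pt) := inferInstance
  rw [c₀_ι_apply] at ht
  have h0 : (toSheafify J (E F).pt).app (op V) (((E F).ι.app μ).app (op V) t) =
      (toSheafify J (E F).pt).app (op V) 0 := by rw [ht, map_zero]
  refine ⟨Presheaf.equalizerSieve (((E F).ι.app μ).app (op V) t) 0,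
    hli.equalizerSieve_mem _ _ h0, ?_⟩
  intro W g hg
  have hg' : (E F).pt.map g.op (((E F).ι.app μ).app (op V) t) = (E F).pt.map g.op 0 := hg
  have hnat := ConcreteCategory.congr_hom (((E F).ι.app μ).naturality g.op) t
  have h1 : ((E F).ι.app μ).app (op W) ((F.obj μ).obj.map g.op t) =
      ((E F).ι.app μ).app (op W) 0 := by
    rw [map_zero]
    have : ((E F).ι.app μ).app (op W) ((F.obj μ).obj.map g.op t) =
        (E F).pt.map g.op (((E F).ι.app μ).app (op V) t) := hnat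
    rw [this, hg', map_zero]
  obtain ⟨μ', f, hf⟩ := (Types.FilteredColimit.isColimit_eq_iff' (hEW F W) _ _).1 h1
  refine ⟨μ', f, ?_⟩
  have hf' : (F.map f).hom.app (op W) ((F.obj μ).obj.map g.op t) =
      (F.map f).hom.app (op W) 0 := hf
  rw [hf', map_zero]

lemma nat_apply {G G' : Sheaf J AddCommGrpCat.{u}} (φ : G ⟶ G') {V W : C} (g : W ⟶ V)
    (t : G.obj.obj (op V)) :
    φ.hom.app (op W) (G.obj.map g.op t) = G'.obj.map g.op (φ.hom.app (op V) t) :=
  ConcreteCategory.congr_hom (φ.hom.naturality g.op) t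

lemma map_comp_apply {μ μ' μ'' : Λ} (f : μ ⟶ μ') (g : μ' ⟶ μ'') (V : C)
    (t : (F.obj μ).obj.obj (op V)) :
    (F.map (f ≫ g)).hom.app (op V) t = (F.map g).hom.app (op V) ((F.map f).hom.app (op V) t) := by
  rw [F.map_comp]
  rfl

lemma cocone_w_apply (c : Cocone F) {μ μ' : Λ} (f : μ ⟶ μ') (V : C)
    (t : (F.obj μ).obj.obj (op V)) :
    (c.ι.app μ').hom.app (op V) ((F.map f).hom.app (op V) t) = (c.ι.app μ).hom.app (op V) t := by
  rw [← c.w f]
  rfl

end sec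

section secB

variable {Λ : Type u} [SmallCategory Λ] [IsFiltered Λ]
  {C : Type u} [SmallCategory C] [HasPullbacks C] {J : GrothendieckTopology C}
  (F : Λ ⥤ Sheaf J AddCommGrpCat.{u})
  (B : Set C) (Cov : ∀ (U : C) (ι : Type u), (ι → Over U) → Prop)
  (h1 : ∀ (U : C) (ι : Type u) (Y : ι → Over U), Cov U ι Y → Finite ι ∧ U ∈ B ∧
    Sieve.ofArrows (fun i => (Y i).left) (fun i => (Y i).hom) ∈ J U ∧
    ∀ (p : ℕ) (a : Fin (p + 1) → ι), (∏ᶜ fun k => Y (a k)).left ∈ B)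
  (h2 : ∀ U ∈ B, ∀ T ∈ J U, ∃ (ι : Type u) (Y : ι → Over U), Cov U ι Y ∧ ∀ i, T.arrows (Y i).hom)

include h1 h2

lemma sec_inj (U : C) (hU : U ∈ B) (μ : Λ) (t : (F.obj μ).obj.obj (op U))
    (ht : ((c₀ F).ι.app μ).hom.app (op U) t = 0) :
    ∃ (μ' : Λ) (f : μ ⟶ μ'), (F.map f).hom.app (op U) t = 0 := by
  obtain ⟨T, hT, hT'⟩ := loc_inj F U μ t ht
  obtain ⟨ι, Y, hY, hYT⟩ := h2 U hU T hT
  obtain ⟨hfin, -, hcov, -⟩ := h1 U ι Y hY
  choose ν f hf using fun i => hT' (Y i).hom (hYT i)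
  obtain ⟨μ', g, h, hh⟩ := exists_common μ ν f
  refine ⟨μ', g, ?_⟩
  obtain ⟨t0, -, huniq⟩ := CechSite.glue_arrows J (F.obj μ') (fun i => (Y i).left)
    (fun i => (Y i).hom) hcov (fun i => 0) (by intros; rw [map_zero, map_zero])
  rw [huniq ((F.map g).hom.app _ t) ?_, ← huniq 0 (fun i => map_zero _)]
  intro i
  rw [← nat_apply (F.map g) (Y i).hom t, ← hh i, map_comp_apply, hf i, map_zero]

lemma sec_surj (U : C) (hU : U ∈ B) (s : (c₀ F).pt.obj.obj (op U)) :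
    ∃ (μ : Λ) (t : (F.obj μ).obj.obj (op U)), ((c₀ F).ι.app μ).hom.app (op U) t = s := by
  obtain ⟨T, hT, hT'⟩ := loc_surj F U s
  obtain ⟨ι, Y, hY, hYT⟩ := h2 U hU T hT
  obtain ⟨hfin, -, hcov, hprod⟩ := h1 U ι Y hY
  choose ν t ht using fun i => hT' (Y i).hom (hYT i)
  obtain ⟨μ₁, hμ₁⟩ := exists_upper ν
  let a : ∀ i, ν i ⟶ μ₁ := fun i => (hμ₁ i).some
  let t₁ : ∀ i, (F.obj μ₁).obj.obj (op (Y i).left) := fun i => (F.map (a i)).hom.app _ (t i)
  have ht₁ : ∀ i, ((c₀ F).ι.app μ₁).hom.app _ (t₁ i) = (c₀ F).pt.obj.map (Y i).hom.op s := by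
    intro i
    rw [← ht i]
    exact cocone_w_apply F (c₀ F) (a i) _ (t i)
  -- overlaps
  let pr : ι × ι → Fin 2 → ι := fun kl => ![kl.1, kl.2]
  let P : ι × ι → Over U := fun kl => ∏ᶜ fun x : Fin 2 => Y (pr kl x)
  let p₁ : ∀ kl : ι × ι, (P kl).left ⟶ (Y kl.1).left :=
    fun kl => (Pi.π (fun x : Fin 2 => Y (pr kl x)) 0).left
  let p₂ : ∀ kl : ι × ι, (P kl).left ⟶ (Y kl.2).left :=
    fun kl => (Pi.π (fun x : Fin 2 => Y (pr kl x)) 1).left
  have hp₁ : ∀ kl, p₁ kl ≫ (Y kl.1).hom = (P kl).hom := fun kl => Over.w _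
  have hp₂ : ∀ kl, p₂ kl ≫ (Y kl.2).hom = (P kl).hom := fun kl => Over.w _
  have hP : ∀ kl, (P kl).left ∈ B := fun kl => hprod 1 (pr kl)
  let d : ∀ kl : ι × ι, (F.obj μ₁).obj.obj (op (P kl).left) := fun kl =>
    (F.obj μ₁).obj.map (p₁ kl).op (t₁ kl.1) - (F.obj μ₁).obj.map (p₂ kl).op (t₁ kl.2)
  have hd : ∀ kl, ((c₀ F).ι.app μ₁).hom.app _ (d kl) = 0 := by
    intro kl
    dsimp only [d]
    rw [map_sub, nat_apply ((c₀ F).ι.app μ₁) (p₁ kl) (t₁ kl.1),
      nat_apply ((c₀ F).ι.app μ₁) (p₂ kl) (t₁ kl.2), ht₁, ht₁, sub_eq_zero]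
    have e1 : (c₀ F).pt.obj.map (p₁ kl).op ((c₀ F).pt.obj.map (Y kl.1).hom.op s) =
        (c₀ F).pt.obj.map (P kl).hom.op s := by
      rw [← hp₁ kl, op_comp, (c₀ F).pt.obj.map_comp]
      rfl
    have e2 : (c₀ F).pt.obj.map (p₂ kl).op ((c₀ F).pt.obj.map (Y kl.2).hom.op s) =
        (c₀ F).pt.obj.map (P kl).hom.op s := by
      rw [← hp₂ kl, op_comp, (c₀ F).pt.obj.map_comp]
      rfl
    exact e1.trans e2.symm
  choose ν₂ f₂ hf₂ using fun kl => sec_inj F B Cov h1 h2 (P kl).left (hP kl) μ₁ (d kl) (hd kl)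
  obtain ⟨μ₂, g, h, hh⟩ := exists_common μ₁ ν₂ f₂
  let t₂ : ∀ i, (F.obj μ₂).obj.obj (op (Y i).left) := fun i => (F.map g).hom.app _ (t₁ i)
  have hd₂ : ∀ kl : ι × ι, (F.obj μ₂).obj.map (p₁ kl).op (t₂ kl.1) =
      (F.obj μ₂).obj.map (p₂ kl).op (t₂ kl.2) := by
    intro kl
    have h3 : (F.map g).hom.app _ (d kl) = 0 := by
      rw [← hh kl, map_comp_apply, hf₂ kl, map_zero]
    dsimp only [d] at h3
    rw [map_sub, sub_eq_zero, nat_apply (F.map g) (p₁ kl) (t₁ kl.1),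
      nat_apply (F.map g) (p₂ kl) (t₁ kl.2)] at h3
    exact h3
  have compat : ∀ (i j : ι) (Z : C) (gi : Z ⟶ (Y i).left) (gj : Z ⟶ (Y j).left),
      gi ≫ (Y i).hom = gj ≫ (Y j).hom →
      (F.obj μ₂).obj.map gi.op (t₂ i) = (F.obj μ₂).obj.map gj.op (t₂ j) := by
    intro i j Z gi gj hij
    obtain ⟨c, hc1, hc2⟩ := exists_lift₂ Y (pr (i, j)) (Z := Over.mk (gi ≫ (Y i).hom))
      (Over.homMk gi rfl) (Over.homMk gj hij.symm)
    have hc1' : c.left ≫ p₁ (i, j) = gi := by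
      have := congrArg (fun φ => φ.left) hc1
      exact this
    have hc2' : c.left ≫ p₂ (i, j) = gj := by
      have := congrArg (fun φ => φ.left) hc2
      exact this
    rw [← hc1', ← hc2', op_comp, op_comp, (F.obj μ₂).obj.map_comp, (F.obj μ₂).obj.map_comp]
    change (F.obj μ₂).obj.map c.left.op ((F.obj μ₂).obj.map (p₁ (i, j)).op (t₂ i)) =
      (F.obj μ₂).obj.map c.left.op ((F.obj μ₂).obj.map (p₂ (i, j)).op (t₂ j))
    rw [hd₂ (i, j)]
  obtain ⟨t', ht', -⟩ := CechSite.glue_arrows J (F.obj μ₂) (fun i => (Y i).left)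
    (fun i => (Y i).hom) hcov t₂ compat
  refine ⟨μ₂, t', ?_⟩
  obtain ⟨s0, -, huniq⟩ := CechSite.glue_arrows J (c₀ F).pt (fun i => (Y i).left)
    (fun i => (Y i).hom) hcov (fun i => (c₀ F).pt.obj.map (Y i).hom.op s) (by
      intro i j Z gi gj hij
      change ((c₀ F).pt.obj.map (Y i).hom.op ≫ (c₀ F).pt.obj.map gi.op) s =
        ((c₀ F).pt.obj.map (Y j).hom.op ≫ (c₀ F).pt.obj.map gj.op) s
      rw [← (c₀ F).pt.obj.map_comp, ← (c₀ F).pt.obj.map_comp, ← op_comp, ← op_comp, hij])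
  rw [huniq (((c₀ F).ι.app μ₂).hom.app (op U) t') ?_, ← huniq s (fun i => rfl)]
  intro i
  have hn := nat_apply ((c₀ F).ι.app μ₂) (Y i).hom t'
  refine hn.symm.trans ?_
  rw [ht' i]
  dsimp only [t₂]
  rw [cocone_w_apply, ht₁]

/-- sections over members of `B` commute with filtered colimits -/
theorem secLike (c : Cocone F) (hc : IsColimit c) (U : C) (hU : U ∈ B) : SecLike F c U :=
  SecLike.of_iso ((hc₀ F).uniqueUpToIso hc)
    ⟨sec_surj F B Cov h1 h2 U hU, sec_inj F B Cov h1 h2 U hU⟩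

end secB

end FiltCoh

end Groth.Agent.Lib.helper27
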