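import Mathlib
import Groth.Prelude.Def_RDerDelta
import Groth.Agent.Lib.Helper27.DeltaFPre
import Groth.Agent.Lib.Helper27.SSGroth4

set_option autoImplicit false
set_option linter.unusedSectionVars false
set_option linter.unusedVariables false

namespace Groth.Agent.Lib.helper27

open CategoryTheory Limits DeltaF Abelian Opposite

universe w v u

namespace ExtDelta

variable {𝒜 : Type u} [Category.{v} 𝒜] [Abelian 𝒜] [HasExt.{w} 𝒜]

/-- `Ext^•(P, -)` as a cohomological delta-functor -/
noncomputable def extDelta (P : 𝒜) : CohDeltaFunctor 𝒜 AddCommGrpCat.{w} ℕ where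
  F n := (extFunctor.{w} n).obj (op P)
  additive n := inferInstanceAs (extFunctorObj P n).Additive
  δ S hS n₀ n₁ h := AddCommGrpCat.ofHom (hS.extClass.postcomp P h)
  δ_natural {S S'} hS hS' φ n₀ n₁ h := by
    apply AddCommGrpCat.hom_ext
    apply AddMonoidHom.ext
    intro x
    show (x.comp (Ext.mk₀ φ.τ₃) (add_zero _)).comp hS'.extClass h =
      (x.comp hS.extClass h).comp (Ext.mk₀ φ.τ₁) (add_zero _)
    rw [Ext.comp_assoc x (Ext.mk₀ φ.τ₃) hS'.extClass (add_zero _) (zero_add 1) (by omega),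
      ← ShortComplex.ShortExact.extClass_naturality hS hS' φ,
      Ext.comp_assoc x hS.extClass (Ext.mk₀ φ.τ₁) h (add_zero 1) (by omega)]
  exact₂ S hS n := Ext.covariant_sequence_exact₂' P hS n
  comp_δ S hS n₀ n₁ h := by
    apply AddCommGrpCat.hom_ext
    apply AddMonoidHom.ext
    intro x
    show (x.comp (Ext.mk₀ S.g) (add_zero _)).comp hS.extClass h = 0
    simp
  exact₃ S hS n₀ n₁ h := Ext.covariant_sequence_exact₃' P hS n₀ n₁ h
  δ_comp S hS n₀ n₁ h := by
    apply AddCommGrpCat.hom_ext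
    apply AddMonoidHom.ext
    intro x
    show (x.comp hS.extClass h).comp (Ext.mk₀ S.f) (add_zero _) = 0
    simp
  exact₁ S hS n₀ n₁ h := Ext.covariant_sequence_exact₁' P hS n₀ n₁ h

lemma extDelta_F (P : 𝒜) (n : ℕ) : (extDelta.{w} P).F n = (extFunctor.{w} n).obj (op P) := rfl

lemma extDelta_isEffaceable [EnoughInjectives 𝒜] (P : 𝒜) : (extDelta.{w} P).IsEffaceable := by
  intro n X
  refine ⟨Injective.under X, Injective.ι X, inferInstance, ?_⟩
  have : Subsingleton (Ext.{w} P (Injective.under X) (n + 1)) :=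
    subsingleton_of_forall_eq 0 fun x ↦ (Ext.eq_zero_of_injective x)
  have hz : IsZero (((extDelta.{w} P).F (n + 1)).obj (Injective.under X)) :=
    AddCommGrpCat.isZero_of_subsingleton (AddCommGrpCat.of (Ext.{w} P (Injective.under X) (n + 1)))
  exact hz.eq_of_tgt _ _

end ExtDelta

namespace ExtCoy

variable {𝒜 : Type u} [Category.{v} 𝒜] [Abelian 𝒜] [HasExt.{v} 𝒜]

/-- the right derived functors of a functor isomorphic to `Hom(P, -)` are `Ext^k(P, -)`,
as functors -/
theorem rightDerived_natIso_ext [HasInjectiveResolutions 𝒜] (S : 𝒜 ⥤ AddCommGrpCat.{v})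
    [S.Additive] [PreservesFiniteLimits S] (P : 𝒜) (e : preadditiveCoyoneda.obj (op P) ≅ S)
    (k : ℕ) : Nonempty ((extFunctor.{v} k).obj (op P) ≅ S.rightDerived k) := by
  haveI : EnoughInjectives 𝒜 := SSGroth.enoughInjectives_of_hasInjectiveResolutions 𝒜
  have h1 := isUniversal_of_isEffaceable (ExtDelta.extDelta_isEffaceable.{v} P)
  have h2 := isUniversal_of_isEffaceable (rder_isEffaceable S (Horseshoe.derivedLES S))
  exact DeltaFPre.natIso_of_isUniversal _ _ h1 h2
    (ext₀Iso P ≪≫ e ≪≫ S.rightDerivedZeroIsoSelf.symm) k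

end ExtCoy

end Groth.Agent.Lib.helper27
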