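import Mathlib
import Groth.Prelude.Def_CohSite
import Groth.Prelude.Def_CohTop
import Groth.Agent.Lib.Helper27.CohPsh

set_option autoImplicit false

namespace Groth.Agent.Lib.helper27

open CategoryTheory Limits Abelian Opposite Groth.Agent.Lib.helper7

universe u

namespace RpushSheafify

variable {C D : Type u} [SmallCategory C] [SmallCategory D]
  (J : GrothendieckTopology C) (K : GrothendieckTopology D) (u : D ⥤ C) [u.IsContinuous K J]

/-- restrict along `u` then sheafify -/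
noncomputable abbrev E : (Cᵒᵖ ⥤ AddCommGrpCat.{u}) ⥤ Sheaf K AddCommGrpCat.{u} :=
  (Functor.whiskeringLeft Dᵒᵖ Cᵒᵖ AddCommGrpCat.{u}).obj u.op ⋙ presheafToSheaf K AddCommGrpCat.{u}

noncomputable def e₀ : ExtPsh.Tp (FreeYoneda.freeSheaf J) 0 ⋙ E K u ≅ CohSite.push J K u :=
  Functor.isoWhiskerRight (CohPsh.tp₀Iso J) (E K u) ≪≫
    (Functor.isoWhiskerLeft (CohSite.push J K u)
      (asIso (sheafificationAdjunction K AddCommGrpCat.{u}).counit) : _) ≪≫ Functor.rightUnitor _

theorem rpush_iso (F : Sheaf J AddCommGrpCat.{u}) (i : ℕ) :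
    Nonempty ((CohSite.Rpush J K u i).obj F ≅
      (presheafToSheaf K AddCommGrpCat.{u}).obj (u.op ⋙ F.cohomologyPresheaf i)) :=
  DeltaSeq.rightDerived_iso (CohSite.push J K u)
    ((ExtPsh.isExSeq_Tp (FreeYoneda.freeSheaf J)).comp (E K u)) (e₀ J K u) i F

/-- S0461 -/
theorem rpush_iso_top {X Y : TopCat.{u}} (f : X ⟶ Y) (F : CohTop.Ab X) (i : ℕ) :
    Nonempty ((CohTop.Rpush f i).obj F ≅
      (presheafToSheaf (Opens.grothendieckTopology Y) AddCommGrpCat.{u}).obj
        ((TopologicalSpace.Opens.map f).op ⋙ Sheaf.cohomologyPresheaf.{u} F i)) :=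
  rpush_iso (Opens.grothendieckTopology X) (Opens.grothendieckTopology Y)
    (TopologicalSpace.Opens.map f) F i

/-- S14350 -/
theorem rightDerived_sheafToPresheaf_iso (F : Sheaf J AddCommGrpCat.{u}) (p : ℕ) :
    Nonempty (((sheafToPresheaf J AddCommGrpCat.{u}).rightDerived p).obj F ≅
      Sheaf.cohomologyPresheaf.{u} F p) :=
  DeltaSeq.rightDerived_iso (sheafToPresheaf J AddCommGrpCat.{u})
    (ExtPsh.isExSeq_Tp (FreeYoneda.freeSheaf J)) (CohPsh.tp₀Iso J) p F

end RpushSheafify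

end Groth.Agent.Lib.helper27
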