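import Mathlib
import Groth.Prelude.Def_RDerDelta
import Groth.Prelude.Def_CohSite
import Groth.Agent.Lib.Helper27.DeltaFPre
import Groth.Agent.Lib.Helper27.ExtPsh
import Groth.Agent.Lib.Helper27.RpushSheafify

set_option autoImplicit false
set_option backward.isDefEq.respectTransparency false
set_option linter.unusedVariables false
set_option linter.unusedSectionVars false

namespace Groth.Agent.Lib.helper27

open CategoryTheory Limits Abelian Opposite DeltaF
open Groth.Agent.Lib.helper7

universe w v u v' u' v'' u''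

namespace RpushNat

section tp

variable {𝒜 : Type u} [Category.{v} 𝒜] [Abelian 𝒜] [HasExt.{w} 𝒜]
  {C : Type u'} [Category.{v'} C] (G : C ⥤ 𝒜)

instance (n : ℕ) : (ExtPsh.Tp.{w} G n).Additive where
  map_add {X Y f g} := by
    apply NatTrans.ext
    funext W
    apply AddCommGrpCat.hom_ext
    apply AddMonoidHom.ext
    intro x
    show x.comp (Ext.mk₀ (f + g)) (add_zero _) =
      x.comp (Ext.mk₀ f) (add_zero _) + x.comp (Ext.mk₀ g) (add_zero _)
    rw [Ext.mk₀_add, Ext.comp_add]

/-- the connecting map of presheaves -/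
noncomputable def δp {S : ShortComplex 𝒜} (hS : S.ShortExact) (n₀ n₁ : ℕ) (h : n₀ + 1 = n₁) :
    (ExtPsh.Tp.{w} G n₀).obj S.X₃ ⟶ (ExtPsh.Tp.{w} G n₁).obj S.X₁ where
  app W := AddCommGrpCat.ofHom (hS.extClass.postcomp (G.obj W.unop) h)
  naturality W W' f := by
    apply AddCommGrpCat.hom_ext
    apply AddMonoidHom.ext
    intro x
    show ((Ext.mk₀ (G.map f.unop)).comp x (zero_add _)).comp hS.extClass h =
      (Ext.mk₀ (G.map f.unop)).comp (x.comp hS.extClass h) (zero_add _)
    apply Ext.comp_assoc
    all_goals lia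

/-- `F ↦ (W ↦ Ext^•(G W, F))` as a cohomological delta-functor with values in presheaves -/
noncomputable def tpDelta : CohDeltaFunctor 𝒜 (Cᵒᵖ ⥤ AddCommGrpCat.{w}) ℕ where
  F n := ExtPsh.Tp.{w} G n
  additive n := inferInstance
  δ S hS n₀ n₁ h := δp G hS n₀ n₁ h
  δ_natural {S S'} hS hS' φ n₀ n₁ h := by
    apply NatTrans.ext
    funext W
    apply AddCommGrpCat.hom_ext
    apply AddMonoidHom.ext
    intro x
    show (x.comp (Ext.mk₀ φ.τ₃) (add_zero _)).comp hS'.extClass h =
      (x.comp hS.extClass h).comp (Ext.mk₀ φ.τ₁) (add_zero _)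
    rw [Ext.comp_assoc x (Ext.mk₀ φ.τ₃) hS'.extClass (add_zero _) (zero_add 1) (by omega),
      ← ShortComplex.ShortExact.extClass_naturality hS hS' φ,
      Ext.comp_assoc x hS.extClass (Ext.mk₀ φ.τ₁) h (add_zero 1) (by omega)]
  exact₂ S hS n := by
    apply ExtPsh.exact_of_evaluation
    intro W
    exact Ext.covariant_sequence_exact₂' (G.obj W.unop) hS n
  comp_δ S hS n₀ n₁ h := by
    apply NatTrans.ext
    funext W
    apply AddCommGrpCat.hom_ext
    apply AddMonoidHom.ext
    intro x
    show (x.comp (Ext.mk₀ S.g) (add_zero _)).comp hS.extClass h = 0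
    simp
  exact₃ S hS n₀ n₁ h := by
    apply ExtPsh.exact_of_evaluation
    intro W
    exact Ext.covariant_sequence_exact₃' (G.obj W.unop) hS n₀ n₁ h
  δ_comp S hS n₀ n₁ h := by
    apply NatTrans.ext
    funext W
    apply AddCommGrpCat.hom_ext
    apply AddMonoidHom.ext
    intro x
    show (x.comp hS.extClass h).comp (Ext.mk₀ S.f) (add_zero _) = 0
    simp
  exact₁ S hS n₀ n₁ h := by
    apply ExtPsh.exact_of_evaluation
    intro W
    exact Ext.covariant_sequence_exact₁' (G.obj W.unop) hS n₀ n₁ h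

end tp

section postcomp

variable {A : Type u} [Category.{v} A] [Abelian A] {B : Type u'} [Category.{v'} B] [Abelian B]
  {B' : Type u''} [Category.{v''} B'] [Abelian B']

/-- postcomposition of a delta-functor with an exact functor -/
noncomputable def postcomp (T : CohDeltaFunctor A B ℕ) (E : B ⥤ B') [E.Additive]
    [PreservesFiniteLimits E] [PreservesFiniteColimits E] : CohDeltaFunctor A B' ℕ where
  F n := T.F n ⋙ E
  additive n := inferInstance
  δ S hS n₀ n₁ h := E.map (T.δ S hS n₀ n₁ h)
  δ_natural {S S'} hS hS' φ n₀ n₁ h := by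
    dsimp
    rw [← E.map_comp, ← E.map_comp, T.δ_natural hS hS' φ n₀ n₁ h]
  exact₂ S hS n := (T.exact₂ S hS n).map E
  comp_δ S hS n₀ n₁ h := by
    dsimp
    rw [← E.map_comp, T.comp_δ, E.map_zero]
  exact₃ S hS n₀ n₁ h := (T.exact₃ S hS n₀ n₁ h).map E
  δ_comp S hS n₀ n₁ h := by
    dsimp
    rw [← E.map_comp, T.δ_comp, E.map_zero]
  exact₁ S hS n₀ n₁ h := (T.exact₁ S hS n₀ n₁ h).map E

end postcomp

section rpush

variable {C D : Type u} [SmallCategory C] [SmallCategory D]
  (J : GrothendieckTopology C) (K : GrothendieckTopology D) (u : D ⥤ C) [u.IsContinuous K J]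

instance : (RpushSheafify.E K u).Additive := by
  dsimp only [RpushSheafify.E]
  infer_instance

instance : PreservesFiniteLimits (RpushSheafify.E K u) := by
  dsimp only [RpushSheafify.E]
  infer_instance

instance : PreservesFiniteColimits (RpushSheafify.E K u) := by
  dsimp only [RpushSheafify.E]
  infer_instance

/-- the delta functor `F ↦ (V ↦ H^•(u V, F))^#` -/
noncomputable def shDelta :
    CohDeltaFunctor (Sheaf J AddCommGrpCat.{u}) (Sheaf K AddCommGrpCat.{u}) ℕ :=
  postcomp (tpDelta.{u} (FreeYoneda.freeSheaf J)) (RpushSheafify.E K u)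

lemma shDelta_isEffaceable : (shDelta J K u).IsEffaceable := by
  intro n X
  refine ⟨Injective.under X, Injective.ι X, inferInstance, ?_⟩
  have hz : IsZero ((ExtPsh.Tp.{u} (FreeYoneda.freeSheaf J) (n + 1)).obj (Injective.under X)) :=
    (ExtPsh.isExSeq_Tp (FreeYoneda.freeSheaf J)).vanish _ inferInstance n
  have hz' : IsZero (((shDelta J K u).F (n + 1)).obj (Injective.under X)) :=
    (RpushSheafify.E K u).map_isZero hz
  exact hz'.eq_of_tgt _ _

/-- **natural** identification of the higher direct images with the sheafification of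
`V ↦ H^n(u V, -)` -/
theorem rpush_natIso (n : ℕ) :
    Nonempty (CohSite.Rpush J K u n ≅
      ExtPsh.Tp.{u} (FreeYoneda.freeSheaf J) n ⋙ RpushSheafify.E K u) := by
  have h1 := isUniversal_of_isEffaceable
    (rder_isEffaceable (CohSite.push J K u) (Horseshoe.derivedLES (CohSite.push J K u)))
  have h2 := isUniversal_of_isEffaceable (shDelta_isEffaceable J K u)
  exact DeltaFPre.natIso_of_isUniversal _ _ h1 h2
    ((CohSite.push J K u).rightDerivedZeroIsoSelf ≪≫ (RpushSheafify.e₀ J K u).symm) n

end rpush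

end RpushNat

end Groth.Agent.Lib.helper27
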