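import Mathlib
import Groth.Prelude.Def_CohTop
import Groth.Agent.Lib.Helper27.CohPsh
import Groth.Agent.S0453

set_option autoImplicit false

namespace Groth.Agent.Lib.helper27

open CategoryTheory Limits Abelian Opposite TopologicalSpace Groth.Agent.Lib.helper7

universe u

namespace OpenRestr

section site

variable {C : Type u} [SmallCategory C] (J : GrothendieckTopology C) {T : C} (hT : IsTerminal T)

/-- `Ext^0(ℤ, F) ≅ F(T)` naturally, for a terminal object `T` of the site -/
noncomputable def ext₀Iso :
    (extFunctor.{u} 0).obj (op ((constantSheaf J AddCommGrpCat.{u}).obj (AddCommGrpCat.of (ULift ℤ)))) ≅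
      (sheafSections J AddCommGrpCat.{u}).obj (op T) :=
  NatIso.ofComponents (fun F => (Sheaf.H.equiv₀ F hT).toAddCommGrpIso) (by
    intro F F' φ
    apply AddCommGrpCat.hom_ext
    apply AddMonoidHom.ext
    intro x
    exact (Sheaf.H.equiv₀_naturality (hT := hT) φ x).symm)

end site

section top

variable {X : TopCat.{u}} (U : Opens X)

lemma functor_obj_top : U.isOpenEmbedding.isOpenMap.functor.obj ⊤ = U := by
  ext x
  simp

/-- global sections of `F|_U` are sections of `F` on `U` -/
noncomputable def restrSectionsIso :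
    CohTop.restrFunctor U ⋙ (sheafSections (Opens.grothendieckTopology (TopCat.of U))
        AddCommGrpCat.{u}).obj (op ⊤) ≅
      sheafToPresheaf (Opens.grothendieckTopology X) AddCommGrpCat.{u} ⋙
        (evaluation _ _).obj (op U) :=
  NatIso.ofComponents (fun F => F.obj.mapIso (eqToIso (congrArg op (functor_obj_top U)))) (by
    intro F F' φ
    exact (φ.hom.naturality _).symm)

noncomputable instance restr_preservesLimits : PreservesLimits (CohTop.restrFunctor U) := by
  have : (CohTop.restrFunctor U).IsRightAdjoint := by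
    dsimp [CohTop.restrFunctor, Opens.sheafRestrict]
    infer_instance
  infer_instance

noncomputable instance restr_preservesColimits : PreservesColimits (CohTop.restrFunctor U) := by
  have h1 : PreservesColimits ((Opens.grothendieckTopology X).overPullback AddCommGrpCat.{u} U) :=
    ((Over.forget U).sheafAdjunctionCocontinuous AddCommGrpCat.{u} _ _).leftAdjoint_preservesColimits
  have h2 : PreservesColimits ((Opens.grothendieckTopology X).overPullback AddCommGrpCat.{u} U ⋙
    (U.sheafEquivOver (A := AddCommGrpCat.{u})).functor) := inferInstance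
  exact h2

lemma isFlasque_restr (F : CohTop.Ab X) [TopCat.Sheaf.IsFlasque F] :
    TopCat.Sheaf.IsFlasque (CohTop.restr F U) where
  epi {V W} i := by
    have := TopCat.Presheaf.IsFlasque.epi (F := F.obj) (U.isOpenEmbedding.isOpenMap.functor.map i.unop).op
    exact this

/-- the functors `F ↦ H^n(U, F)` -/
noncomputable abbrev T (n : ℕ) : CohTop.Ab X ⥤ AddCommGrpCat.{u} :=
  ExtPsh.Tp (FreeYoneda.freeSheaf (Opens.grothendieckTopology X)) n ⋙ (evaluation _ _).obj (op U)

/-- the functors `F ↦ H^n(U, F|_U)` -/
noncomputable abbrev T' (n : ℕ) : CohTop.Ab X ⥤ AddCommGrpCat.{u} :=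
  CohTop.restrFunctor U ⋙ (extFunctor.{u} n).obj
    (op ((constantSheaf (Opens.grothendieckTopology (TopCat.of U)) AddCommGrpCat.{u}).obj
      (AddCommGrpCat.of (ULift ℤ))))

lemma isExSeq_T : DeltaSeq.IsExSeq (T U) :=
  (ExtPsh.isExSeq_Tp (FreeYoneda.freeSheaf (Opens.grothendieckTopology X))).comp
    ((evaluation _ _).obj (op U))

lemma isExSeq_T' : DeltaSeq.IsExSeq (T' U) :=
  (ExtPsh.isExSeq_ext _).precomp (CohTop.restrFunctor U) (by
    intro I hI i
    have hfl : TopCat.Sheaf.IsFlasque I := Groth.Agent.S0454.result I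
    have := isFlasque_restr U I
    have h : Subsingleton (CohTop.H (CohTop.restr I U) (i + 1)) := Groth.Agent.S0453.result _ i
    exact AddCommGrpCat.isZero_of_subsingleton
      (AddCommGrpCat.of (CohTop.H (CohTop.restr I U) (i + 1))))

noncomputable def e₀ : T U 0 ≅ T' U 0 :=
  Functor.isoWhiskerRight (CohPsh.tp₀Iso (Opens.grothendieckTopology X)) _ ≪≫
    (restrSectionsIso U).symm ≪≫
    Functor.isoWhiskerLeft (CohTop.restrFunctor U)
      (ext₀Iso (Opens.grothendieckTopology (TopCat.of U)) isTerminalTop).symm

/-- S0463 -/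
theorem HU_equiv_H_restr (F : CohTop.Ab X) (n : ℕ) :
    Nonempty (CohTop.HU F n U ≃+ CohTop.H (CohTop.restr F U) n) := by
  obtain ⟨e⟩ := DeltaSeq.iso (isExSeq_T U) (isExSeq_T' U) (e₀ U) n F
  exact ⟨e.addCommGroupIsoToAddEquiv⟩

end top

end OpenRestr

end Groth.Agent.Lib.helper27
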