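import Mathlib
import Groth.Agent.Lib.Helper27.Horseshoe7
import Groth.Agent.Lib.Helper27.DeltaF

set_option autoImplicit false

namespace Groth.Agent.Lib.helper27

open CategoryTheory Limits Abelian

universe w w' v u v' u'

namespace ExtAdj

variable {A : Type u} [Category.{v} A] [Abelian A] [HasExt.{w} A]
  {B : Type u'} [Category.{v'} B] [Abelian B] [HasExt.{w'} B]
  {L : B ⥤ A} {G : A ⥤ B} (adj : L ⊣ G) [L.Additive] [PreservesFiniteLimits L]
  [PreservesFiniteColimits L]

/-- the comparison map `Ext^n(P, G F) → Ext^n(L P, F)` -/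
noncomputable def Ψ (P : B) (F : A) (n : ℕ) : Ext.{w'} P (G.obj F) n →+ Ext.{w} (L.obj P) F n :=
  ((Ext.mk₀ (adj.counit.app F)).postcomp (L.obj P) (add_zero n)).comp
    (L.mapExtAddHom P (G.obj F) n)

lemma Ψ_apply (P : B) (F : A) (n : ℕ) (x : Ext.{w'} P (G.obj F) n) :
    Ψ adj P F n x = (x.mapExactFunctor L).comp (Ext.mk₀ (adj.counit.app F)) (add_zero n) := rfl

lemma Ψ_natural (P : B) {F F' : A} (φ : F ⟶ F') (n : ℕ) (x : Ext.{w'} P (G.obj F) n) :
    Ψ adj P F' n (x.comp (Ext.mk₀ (G.map φ)) (add_zero n)) =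
      (Ψ adj P F n x).comp (Ext.mk₀ φ) (add_zero n) := by
  simp only [Ψ_apply, Ext.mapExactFunctor_comp, Ext.mapExactFunctor_mk₀,
    Ext.comp_assoc_of_third_deg_zero, Ext.mk₀_comp_mk₀]
  simp

variable [G.Additive]

/-- the counit as a morphism of short complexes -/
noncomputable def counitSC (S : ShortComplex A) : (S.map G).map L ⟶ S where
  τ₁ := adj.counit.app S.X₁
  τ₂ := adj.counit.app S.X₂
  τ₃ := adj.counit.app S.X₃
  comm₁₂ := (adj.counit.naturality S.f).symm
  comm₂₃ := (adj.counit.naturality S.g).symm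

lemma Ψ_extClass (P : B) {S : ShortComplex A} (hS : S.ShortExact) (hGS : (S.map G).ShortExact)
    {n m : ℕ} (h : n + 1 = m) (x : Ext.{w'} P (G.obj S.X₃) n) :
    Ψ adj P S.X₁ m (x.comp hGS.extClass h) = (Ψ adj P S.X₃ n x).comp hS.extClass h := by
  have nat : (hGS.map_of_exact L).extClass.comp (Ext.mk₀ (adj.counit.app S.X₁)) (add_zero 1) =
      (Ext.mk₀ (adj.counit.app S.X₃)).comp hS.extClass (zero_add 1) :=
    ShortComplex.ShortExact.extClass_naturality (hGS.map_of_exact L) hS (counitSC adj S)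
  have e1 : (x.comp hGS.extClass h).mapExactFunctor L =
      (x.mapExactFunctor L).comp (hGS.extClass.mapExactFunctor L) h :=
    Ext.mapExactFunctor_comp L x hGS.extClass h
  have e2 : (hGS.extClass.mapExactFunctor L) = (hGS.map_of_exact L).extClass :=
    Ext.mapExactFunctor_extClass L hGS
  calc Ψ adj P S.X₁ m (x.comp hGS.extClass h)
      = ((x.mapExactFunctor L).comp (hGS.extClass.mapExactFunctor L) h).comp
          (Ext.mk₀ (adj.counit.app S.X₁)) (add_zero m) :=
        congrArg (fun y => Ext.comp y (Ext.mk₀ (adj.counit.app S.X₁)) (add_zero m)) e1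
    _ = (x.mapExactFunctor L).comp ((hGS.extClass.mapExactFunctor L).comp
          (Ext.mk₀ (adj.counit.app S.X₁)) (add_zero 1)) h :=
        Ext.comp_assoc_of_third_deg_zero _ _ _ _
    _ = (x.mapExactFunctor L).comp ((Ext.mk₀ (adj.counit.app S.X₃)).comp hS.extClass
          (zero_add 1)) h := by
        rw [e2]
        exact congrArg (fun y => Ext.comp (x.mapExactFunctor L) y h) nat
    _ = _ := (Ext.comp_assoc_of_second_deg_zero _ _ _ _).symm

omit [G.Additive] in
lemma Ψ_zero_bijective (P : B) (F : A) : Function.Bijective (Ψ adj P F 0) := by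
  have e : ⇑(Ψ adj P F 0) = Ext.homEquiv₀.symm ∘ (adj.homEquiv P F).symm ∘ Ext.homEquiv₀ := by
    ext x
    obtain ⟨y, rfl⟩ := (Ext.mk₀_bijective _ _).2 x
    simp [Ψ_apply, Ext.mapExactFunctor_mk₀, Ext.homEquiv₀, Adjunction.homEquiv_counit]
  rw [e]
  exact Ext.homEquiv₀.symm.bijective.comp ((adj.homEquiv P F).symm.bijective.comp
    Ext.homEquiv₀.bijective)

lemma Ψ_bijective_step (P : B) {S : ShortComplex A} (hS : S.ShortExact)
    (hGS : (S.map G).ShortExact) [Injective S.X₂] (hGI : Injective (G.obj S.X₂)) (n : ℕ)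
    (bI : Function.Bijective (Ψ adj P S.X₂ n)) (bQ : Function.Bijective (Ψ adj P S.X₃ n)) :
    Function.Bijective (Ψ adj P S.X₁ (n + 1)) := by
  let c : Ext.{w'} (G.obj S.X₃) (G.obj S.X₁) 1 := hGS.extClass
  have ex₁ : ∀ w : Ext.{w'} P (G.obj S.X₁) (n + 1), ∃ x : Ext.{w'} P (G.obj S.X₃) n,
      x.comp c rfl = w := fun w =>
    Ext.covariant_sequence_exact₁ P hGS w (Ext.eq_zero_of_injective (I := G.obj S.X₂) _) rfl
  have hc : ∀ x : Ext.{w'} P (G.obj S.X₃) n,
      Ψ adj P S.X₁ (n + 1) (x.comp c rfl) = (Ψ adj P S.X₃ n x).comp hS.extClass rfl :=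
    fun x => Ψ_extClass adj P hS hGS rfl x
  have hc0 : ∀ u : Ext.{w'} P (G.obj S.X₂) n,
      (u.comp (Ext.mk₀ (G.map S.g)) (add_zero n)).comp c rfl = 0 := fun u => by
    rw [Ext.comp_assoc_of_second_deg_zero]
    have : (Ext.mk₀ (G.map S.g)).comp c (zero_add 1) = 0 := hGS.comp_extClass
    rw [this, Ext.comp_zero]
  clear_value c
  constructor
  · rw [injective_iff_map_eq_zero]
    intro w hw
    obtain ⟨x, rfl⟩ := ex₁ w
    rw [hc] at hw
    obtain ⟨u, hu⟩ := Ext.covariant_sequence_exact₃ (L.obj P) hS _ rfl hw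
    obtain ⟨u', rfl⟩ := bI.2 u
    rw [← Ψ_natural] at hu
    have := bQ.1 hu
    rw [← this]
    exact hc0 u'
  · intro y
    obtain ⟨z, rfl⟩ := Ext.covariant_sequence_exact₁ (L.obj P) hS y
      (Ext.eq_zero_of_injective _) rfl
    obtain ⟨x, rfl⟩ := bQ.2 z
    exact ⟨_, hc x⟩

variable [EnoughInjectives A] [PreservesFiniteLimits G]

theorem Ψ_bijective (P : B) : ∀ (n : ℕ) (F : A),
    (∀ i : ℕ, 0 < i → IsZero ((G.rightDerived i).obj F)) → Function.Bijective (Ψ adj P F n) := by
  intro n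
  induction n with
  | zero => intro F _; exact Ψ_zero_bijective adj P F
  | succ n ih =>
    intro F hF
    have hS : (cokerSES (Injective.ι F)).ShortExact := cokerSES_shortExact _
    have hI : ∀ i : ℕ, 0 < i → IsZero ((G.rightDerived i).obj (Injective.under F)) := by
      intro i hi
      obtain ⟨j, rfl⟩ : ∃ j, i = j + 1 := ⟨i - 1, by omega⟩
      exact Functor.isZero_rightDerived_obj_injective_succ G j (Injective.under F)
    obtain ⟨hQ, hGS⟩ := (Horseshoe.rightAcyclic_shortExact G hS).2.1 hF hI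
    have : Injective (cokerSES (Injective.ι F)).X₂ :=
      inferInstanceAs (Injective (Injective.under F))
    exact Ψ_bijective_step adj P hS hGS
      (Injective.injective_of_adjoint adj (Injective.under F)) n (ih _ hI) (ih _ hQ)

/-- **Lemma E**: for an adjunction `L ⊣ G` with `L` exact and a `G`-acyclic object `F`,
`Ext^n(P, G F) ≃+ Ext^n(L P, F)`. -/
noncomputable def extAddEquiv (P : B) (F : A)
    (hF : ∀ i : ℕ, 0 < i → IsZero ((G.rightDerived i).obj F)) (n : ℕ) :
    Ext.{w'} P (G.obj F) n ≃+ Ext.{w} (L.obj P) F n :=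
  AddEquiv.ofBijective (Ψ adj P F n) (Ψ_bijective adj P n F hF)

/-- `Ext` is invariant under isomorphisms in the first variable -/
noncomputable def extIsoLeft {C : Type u} [Category.{v} C] [Abelian C] [HasExt.{w} C]
    {X X' : C} (e : X ≅ X') (Y : C) (n : ℕ) : Ext.{w} X Y n ≃+ Ext.{w} X' Y n where
  toFun x := (Ext.mk₀ e.inv).comp x (zero_add n)
  invFun x := (Ext.mk₀ e.hom).comp x (zero_add n)
  left_inv x := by simp
  right_inv x := by simp
  map_add' x y := by simp

end ExtAdj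

end Groth.Agent.Lib.helper27
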