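import Mathlib

set_option linter.unusedSectionVars false
set_option linter.unusedVariables false

namespace Groth.Agent.Lib.helper27

open CategoryTheory Limits ZeroObject

namespace MapExtend

universe v u v' u'

variable {A : Type u} [Category.{v} A] [Abelian A] [HasInjectiveResolutions A]
  {B : Type u'} [Category.{v'} B] [Abelian B] (F : A ⥤ B) [F.Additive]
  {X : A} (R : InjectiveResolution X)

lemma isZero_map_single₀_X (n : ℕ) :
    IsZero (((F.mapHomologicalComplex (ComplexShape.up ℕ)).obj
      ((CochainComplex.single₀ A).obj X)).X (n + 1)) := by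
  apply F.map_isZero
  exact HomologicalComplex.isZero_single_obj_X _ _ _ _ (by simp)

lemma quasiIsoAt_succ_iff (n : ℕ) :
    QuasiIsoAt ((F.mapHomologicalComplex (ComplexShape.up ℕ)).map R.ι) (n + 1) ↔
      IsZero ((F.rightDerived (n + 1)).obj X) := by
  have hS : ((F.mapHomologicalComplex (ComplexShape.up ℕ)).obj
      ((CochainComplex.single₀ A).obj X)).ExactAt (n + 1) :=
    ShortComplex.exact_of_isZero_X₂ _ (isZero_map_single₀_X F n)
  rw [quasiIsoAt_iff_exactAt _ _ hS, HomologicalComplex.exactAt_iff_isZero_homology]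
  exact (R.isoRightDerivedObj F (n + 1)).symm.isZero_iff

lemma quasiIsoAt_zero_iff :
    QuasiIsoAt ((F.mapHomologicalComplex (ComplexShape.up ℕ)).map R.ι) 0 ↔
      IsIso (F.toRightDerivedZero.app X) := by
  let f := (F.mapHomologicalComplex (ComplexShape.up ℕ)).map R.ι
  let S' := (F.mapHomologicalComplex (ComplexShape.up ℕ)).obj ((CochainComplex.single₀ A).obj X)
  let C' := (F.mapHomologicalComplex (ComplexShape.up ℕ)).obj R.cocomplex
  have h1 : IsIso (S'.iCycles 0) := by
    apply S'.isIso_iCycles 0 1 (by simp)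
    change F.map (((CochainComplex.single₀ A).obj X).d 0 1) = 0
    rw [HomologicalComplex.single_obj_d, F.map_zero]
  let t : S'.X 0 ⟶ C'.cycles 0 := R.toRightDerivedZero' F
  have ht : t ≫ C'.iCycles 0 = f.f 0 := R.toRightDerivedZero'_comp_iCycles F
  let e : C'.cycles 0 ≅ (F.rightDerived 0).obj X :=
    (CochainComplex.isoHomologyπ₀ C') ≪≫ (R.isoRightDerivedObj F 0).symm
  have ht' : F.toRightDerivedZero.app X = t ≫ e.hom :=
    R.toRightDerivedZero_eq F
  clear_value t e
  have h2 : HomologicalComplex.cyclesMap f 0 = S'.iCycles 0 ≫ t := by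
    rw [← cancel_mono (C'.iCycles 0), HomologicalComplex.cyclesMap_i, Category.assoc, ht]
  have h3 : IsIso (HomologicalComplex.homologyMap f 0) ↔
      IsIso (HomologicalComplex.cyclesMap f 0) := by
    have nat := HomologicalComplex.homologyπ_naturality f 0
    constructor
    · intro h
      have : IsIso (HomologicalComplex.cyclesMap f 0 ≫ C'.homologyπ 0) := by
        rw [← nat]; infer_instance
      exact IsIso.of_isIso_comp_right _ (C'.homologyπ 0)
    · intro h
      have : IsIso (S'.homologyπ 0 ≫ HomologicalComplex.homologyMap f 0) := by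
        rw [nat]; infer_instance
      exact IsIso.of_isIso_comp_left (S'.homologyπ 0) _
  rw [quasiIsoAt_iff_isIso_homologyMap]
  change IsIso (HomologicalComplex.homologyMap f 0) ↔ _
  rw [h3, h2, ht']
  constructor
  · intro h
    have : IsIso t := IsIso.of_isIso_comp_left (S'.iCycles 0) _
    exact IsIso.comp_isIso' this inferInstance
  · intro h
    have : IsIso t := @IsIso.of_isIso_comp_right _ _ _ _ _ t e.hom inferInstance h
    infer_instance

theorem quasiIso_map_ι_iff :
    QuasiIso ((F.mapHomologicalComplex (ComplexShape.up ℕ)).map R.ι) ↔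
      (IsIso (F.toRightDerivedZero.app X) ∧
        ∀ i : ℕ, 0 < i → IsZero ((F.rightDerived i).obj X)) := by
  rw [quasiIso_iff]
  constructor
  · intro h
    refine ⟨(quasiIsoAt_zero_iff F R).1 (h 0), fun i hi => ?_⟩
    obtain ⟨n, rfl⟩ : ∃ n, i = n + 1 := ⟨i - 1, by omega⟩
    exact (quasiIsoAt_succ_iff F R n).1 (h _)
  · rintro ⟨h0, h1⟩ i
    cases i with
    | zero => exact (quasiIsoAt_zero_iff F R).2 h0
    | succ n => exact (quasiIsoAt_succ_iff F R n).2 (h1 _ (Nat.succ_pos n))

end MapExtend

end Groth.Agent.Lib.helper27
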