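import Mathlib
import Groth.Agent.Lib.Helper27.MapExtend1
import Groth.Agent.Lib.Helper27.MapExtend2
import Groth.Agent.Lib.Helper27.MapExtend3

set_option linter.unusedSectionVars false
set_option linter.unusedVariables false

namespace Groth.Agent.Lib.helper27

open CategoryTheory Limits ZeroObject

namespace MapExtend

universe w w' v u v' u'

variable {A : Type u} [Category.{v} A] [Abelian A] [HasDerivedCategory.{w} A] [EnoughInjectives A]
    {B : Type u'} [Category.{v'} B] [Abelian B] [HasDerivedCategory.{w'} B]
    (F : A ⥤ B) [F.Additive]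

omit [HasDerivedCategory.{w} A] [HasDerivedCategory.{w'} B] in
lemma quasiIso_map_ι'_iff {X : A} (R : InjectiveResolution X) :
    QuasiIso ((F.mapHomologicalComplex (ComplexShape.up ℤ)).map R.ι') ↔
      QuasiIso ((F.mapHomologicalComplex (ComplexShape.up ℕ)).map R.ι) := by
  rw [← quasiIso_map_extendMap_iff F R.ι ComplexShape.embeddingUpNat]
  unfold InjectiveResolution.ι'
  rw [Functor.map_comp]
  exact quasiIso_iff_comp_left _ _

theorem isIso_unit_single_iff (X : A) :
    IsIso (F.rightDerivedFunctorPlusUnit.app ((HomotopyCategory.Plus.singleFunctor A 0).obj X)) ↔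
      (IsIso (F.toRightDerivedZero.app X) ∧ ∀ i : ℕ, 0 < i → IsZero ((F.rightDerived i).obj X)) := by
  let R := injectiveResolution X
  let K : CochainComplex.Plus A := ⟨(CochainComplex.singleFunctor A 0).obj X, ⟨0, inferInstance⟩⟩
  let L : CochainComplex.Plus A := ⟨R.cochainComplex, ⟨0, inferInstance⟩⟩
  let φ : K ⟶ L := ObjectProperty.homMk R.ι'
  have hφ : QuasiIso φ.hom := inferInstanceAs (QuasiIso R.ι')
  have : ∀ n, Injective (L.obj.X n) := fun n => inferInstanceAs (Injective (R.cochainComplex.X n))
  rw [← quasiIso_map_ι_iff F R, ← quasiIso_map_ι'_iff F R]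
  exact isIso_unit_iff F φ hφ

end MapExtend

end Groth.Agent.Lib.helper27
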