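import Mathlib
import Groth.Agent.Lib.Helper27.Leray3
import Groth.Agent.Lib.Helper27.MapExtend4

set_option linter.unusedSectionVars false
set_option linter.unusedVariables false

namespace Groth.Agent.Lib.helper27

open CategoryTheory Limits

universe w v u

namespace Leray

theorem comp_isRightDerivedFunctor {A B C : Type u}
    [Category.{v} A] [Category.{v} B] [Category.{v} C] [Abelian A] [Abelian B] [Abelian C]
    [HasDerivedCategory.{w} A] [HasDerivedCategory.{w} B] [HasDerivedCategory.{w} C]
    [EnoughInjectives A] [EnoughInjectives B]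
    (F : A ⥤ B) [F.Additive] [PreservesFiniteLimits F] (G : B ⥤ C) [G.Additive] [PreservesFiniteLimits G]
    (hFG : ∀ I : A, Injective I →
      IsIso (G.rightDerivedFunctorPlusUnit.app ((HomotopyCategory.Plus.singleFunctor B 0).obj (F.obj I)))) :
    (F.rightDerivedFunctorPlus ⋙ G.rightDerivedFunctorPlus).IsRightDerivedFunctor
      (Functor.whiskerRight (Functor.mapHomotopyCategoryPlusCompIso (Iso.refl (F ⋙ G))).inv DerivedCategory.Plus.Qh
        ≫ (Functor.associator _ _ _).hom
        ≫ Functor.whiskerLeft F.mapHomotopyCategoryPlus G.rightDerivedFunctorPlusUnit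
        ≫ (Functor.associator _ _ _).inv
        ≫ Functor.whiskerRight F.rightDerivedFunctorPlusUnit G.rightDerivedFunctorPlus
        ≫ (Functor.associator _ _ _).hom)
      (HomotopyCategory.Plus.quasiIso A) := by
  apply (HomotopyCategory.Plus.localizerMorphism_derives
    ((F ⋙ G).mapHomotopyCategoryPlus ⋙ DerivedCategory.Plus.Qh)).isRightDerivedFunctor_of_isIso
  intro X₁
  obtain ⟨L, rfl⟩ := HomotopyCategory.Plus.quotient_obj_surjective X₁
  have h1 : IsIso (F.rightDerivedFunctorPlusUnit.app
      ((HomotopyCategory.Plus.localizerMorphism A).functor.obj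
        ((HomotopyCategory.Plus.quotient (InjectiveObject A)).obj L))) := inferInstance
  let K' : CochainComplex.Plus B :=
    F.mapCochainComplexPlus.obj ((InjectiveObject.ι A).mapCochainComplexPlus.obj L)
  have hK' : ∀ (m : ℤ) (i : ℕ), 0 < i → IsZero ((G.rightDerived i).obj (K'.obj.X m)) := by
    intro m i hi
    have := ((MapExtend.isIso_unit_single_iff G (F.obj (L.obj.X m).obj)).1
      (hFG _ (L.obj.X m).property)).2 i hi
    exact this
  have h2 : IsIso (G.rightDerivedFunctorPlusUnit.app
      (F.mapHomotopyCategoryPlus.obj ((HomotopyCategory.Plus.localizerMorphism A).functor.obj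
        ((HomotopyCategory.Plus.quotient (InjectiveObject A)).obj L)))) :=
    leray G K' hK'
  simp only [NatTrans.comp_app, Functor.whiskerRight_app, Functor.whiskerLeft_app,
    Functor.associator_hom_app, Functor.associator_inv_app, Category.id_comp, Category.comp_id]
  infer_instance

end Leray

end Groth.Agent.Lib.helper27
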