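import Mathlib
import Groth.Prelude.Def_CohTop
import Groth.Agent.Lib.Helper27.GrothComp

set_option linter.unusedSectionVars false
set_option linter.unusedVariables false

namespace Groth.Agent.Lib.helper27

open CategoryTheory Limits

universe u

attribute [local instance] HasDerivedCategory.standard

namespace PushComp

instance pull_preservesFiniteLimits {X Y : TopCat.{u}} (f : X ⟶ Y) :
    PreservesFiniteLimits (TopCat.Sheaf.pullback AddCommGrpCat.{u} f) := by
  unfold TopCat.Sheaf.pullback
  have : ReflectsLimits (forget AddCommGrpCat.{u}) := reflectsLimits_of_reflectsIsomorphisms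
  apply Functor.sheafPullbackConstruction.preservesFiniteLimits

instance push_preservesLimits {X Y : TopCat.{u}} (f : X ⟶ Y) :
    PreservesLimits (CohTop.push f) :=
  (TopCat.Sheaf.pullbackPushforwardAdjunction AddCommGrpCat.{u} f).rightAdjoint_preservesLimits

lemma injective_push {X Y : TopCat.{u}} (f : X ⟶ Y) (I : CohTop.Ab X) (hI : Injective I) :
    Injective ((CohTop.push f).obj I) := by
  have hp : (TopCat.Sheaf.pullback AddCommGrpCat.{u} f).PreservesMonomorphisms := inferInstance
  exact @Injective.injective_of_adjoint _ _ _ _ _ _ hp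
    (TopCat.Sheaf.pullbackPushforwardAdjunction AddCommGrpCat.{u} f) I hI

theorem push_comp {X Y Z : TopCat.{u}} (f : X ⟶ Y) (g : Y ⟶ Z) :
    Nonempty ((CohTop.push f).rightDerivedFunctorPlus ⋙ (CohTop.push g).rightDerivedFunctorPlus ≅
      (CohTop.push (f ≫ g)).rightDerivedFunctorPlus) := by
  let F := CohTop.push f
  let G := CohTop.push g
  let H := CohTop.push (f ≫ g)
  have hFG : ∀ I : CohTop.Ab X, Injective I →
      IsIso (G.rightDerivedFunctorPlusUnit.app
        ((HomotopyCategory.Plus.singleFunctor (CohTop.Ab Y) 0).obj (F.obj I))) := by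
    intro I hI
    have := injective_push f I hI
    rw [MapExtend.isIso_unit_single_iff]
    refine ⟨inferInstance, fun i hi => ?_⟩
    obtain ⟨j, rfl⟩ : ∃ j, i = j + 1 := ⟨i - 1, by omega⟩
    exact G.isZero_rightDerived_obj_injective_succ j _
  have key := Leray.comp_isRightDerivedFunctor F G hFG
  let e : F ⋙ G ≅ H := Iso.refl _
  let e' : (F ⋙ G).mapHomotopyCategoryPlus ≅ H.mapHomotopyCategoryPlus :=
    (Functor.mapHomotopyCategoryPlusCompIso (Iso.refl (F ⋙ G))).symm ≪≫
      Functor.mapHomotopyCategoryPlusCompIso e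
  exact ⟨Functor.rightDerivedNatIso _ _ (Functor.whiskerRight (Functor.mapHomotopyCategoryPlusCompIso (Iso.refl (F ⋙ G))).inv DerivedCategory.Plus.Qh
        ≫ (Functor.associator _ _ _).hom
        ≫ Functor.whiskerLeft F.mapHomotopyCategoryPlus G.rightDerivedFunctorPlusUnit
        ≫ (Functor.associator _ _ _).inv
        ≫ Functor.whiskerRight F.rightDerivedFunctorPlusUnit G.rightDerivedFunctorPlus
        ≫ (Functor.associator _ _ _).hom) H.rightDerivedFunctorPlusUnit
    (HomotopyCategory.Plus.quasiIso (CohTop.Ab X)) (Functor.isoWhiskerRight e' DerivedCategory.Plus.Qh)⟩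

end PushComp

end Groth.Agent.Lib.helper27
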