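import Mathlib
import Groth.Prelude.Def_CohTop
import Groth.Agent.Lib.Helper27.PushComp
import Groth.Agent.Lib.Helper27.ExtAdj

set_option autoImplicit false

namespace Groth.Agent.Lib.helper27

open CategoryTheory Limits Abelian Opposite TopologicalSpace

universe u

namespace PullConst

/-- the pullback-pushforward adjunction, typed on `CohTop.Ab` -/
noncomputable def pbAdj {X Y : TopCat.{u}} (f : X ⟶ Y) : CohTop.pull f ⊣ CohTop.push f :=
  TopCat.Sheaf.pullbackPushforwardAdjunction AddCommGrpCat.{u} f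

instance pull_additive {X Y : TopCat.{u}} (f : X ⟶ Y) : (CohTop.pull f).Additive :=
  (pbAdj f).left_adjoint_additive

instance pull_preservesFiniteLimits {X Y : TopCat.{u}} (f : X ⟶ Y) :
    PreservesFiniteLimits (CohTop.pull f) :=
  PushComp.pull_preservesFiniteLimits f

instance pull_preservesFiniteColimits {X Y : TopCat.{u}} (f : X ⟶ Y) :
    PreservesFiniteColimits (CohTop.pull f) :=
  have := (pbAdj f).leftAdjoint_preservesColimits
  inferInstance

/-- global sections of `f_* F` are global sections of `F` -/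
noncomputable def pushSectionsIso {X Y : TopCat.{u}} (f : X ⟶ Y) :
    CohTop.push f ⋙ (sheafSections (Opens.grothendieckTopology Y) AddCommGrpCat.{u}).obj
        (op (⊤ : Opens Y)) ≅
      (sheafSections (Opens.grothendieckTopology X) AddCommGrpCat.{u}).obj (op (⊤ : Opens X)) :=
  Iso.refl _

/-- the pullback of a constant sheaf is the constant sheaf -/
noncomputable def pullConstIso {X Y : TopCat.{u}} (f : X ⟶ Y) :
    constantSheaf (Opens.grothendieckTopology Y) AddCommGrpCat.{u} ⋙ CohTop.pull f ≅
      constantSheaf (Opens.grothendieckTopology X) AddCommGrpCat.{u} :=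
  Adjunction.leftAdjointUniq
    (((constantSheafAdj (Opens.grothendieckTopology Y) AddCommGrpCat.{u} isTerminalTop).comp
      (pbAdj f)).ofNatIsoRight (pushSectionsIso f))
    (constantSheafAdj (Opens.grothendieckTopology X) AddCommGrpCat.{u} isTerminalTop)

/-- S0462: if `F` is `f_*`-acyclic, `H^p(X, F) ≃ H^p(Y, f_* F)`. -/
theorem H_push_equiv {X Y : TopCat.{u}} (f : X ⟶ Y) (F : CohTop.Ab X)
    (h : ∀ q : ℕ, IsZero ((CohTop.Rpush f (q + 1)).obj F)) (p : ℕ) :
    Nonempty (CohTop.H F p ≃+ CohTop.H ((CohTop.push f).obj F) p) := by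
  have hF : ∀ i : ℕ, 0 < i → IsZero (((CohTop.push f).rightDerived i).obj F) := by
    intro i hi
    obtain ⟨j, rfl⟩ : ∃ j, i = j + 1 := ⟨i - 1, by omega⟩
    exact h j
  let e1 := ExtAdj.extAddEquiv.{u, u} (pbAdj f)
    ((constantSheaf (Opens.grothendieckTopology Y) AddCommGrpCat.{u}).obj
      (AddCommGrpCat.of (ULift ℤ))) F hF p
  let e2 := ExtAdj.extIsoLeft.{u} ((pullConstIso f).app (AddCommGrpCat.of (ULift ℤ))) F p
  exact ⟨(e1.trans e2).symm⟩

end PullConst

end Groth.Agent.Lib.helper27
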