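import Mathlib
import Groth.Agent.Lib.Helper27.CechSite

set_option autoImplicit false
set_option linter.unusedVariables false
set_option linter.unusedSectionVars false

namespace Groth.Agent.Lib.helper27

open CategoryTheory Limits Opposite TopologicalSpace

universe u

namespace CechAffine

variable {X : TopCat.{u}} (F : (Opens X)ᵒᵖ ⥤ AddCommGrpCat.{u})
  {A : Type u} [CommRing A] (μ : A →+* End F) (D : A → Opens X)

/-- the action of `A` on sections -/
def sm (r : A) (V : Opens X) : F.obj (op V) →+ F.obj (op V) :=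
  ((μ r : F ⟶ F).app (op V)).hom

lemma sm_res (r : A) {V V' : Opens X} (i : V' ⟶ V) (x : F.obj (op V)) :
    F.map i.op (sm F μ r V x) = sm F μ r V' (F.map i.op x) := by
  have := ConcreteCategory.congr_hom ((μ r : F ⟶ F).naturality i.op) x
  rw [ConcreteCategory.comp_apply, ConcreteCategory.comp_apply] at this
  exact this.symm

lemma sm_mul (a b : A) (V : Opens X) (x : F.obj (op V)) :
    sm F μ (a * b) V x = sm F μ a V (sm F μ b V x) := by
  simp only [sm, map_mul, End.mul_def]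
  rfl

lemma sm_one (V : Opens X) (x : F.obj (op V)) : sm F μ 1 V x = x := by
  simp only [sm, map_one]
  rfl

lemma sm_add (a b : A) (V : Opens X) (x : F.obj (op V)) :
    sm F μ (a + b) V x = sm F μ a V x + sm F μ b V x := by
  simp only [sm, map_add]
  rfl

/-- the localization hypotheses -/
structure IsLoc : Prop where
  D_one : D 1 = ⊤
  D_mul : ∀ a b, D (a * b) = D a ⊓ D b
  bij : ∀ (a : A) (V : Opens X), V ≤ D a → Function.Bijective (sm F μ a V)
  ext : ∀ (g h : A) (V V' : Opens X) (hV : V = D g) (hV' : V' = D (g * h)) (le : V' ≤ V)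
    (s : F.obj (op V')), ∃ (N : ℕ) (t : F.obj (op V)),
      F.map (homOfLE le).op t = sm F μ (h ^ N) V' s
  ker : ∀ (g h : A) (V V' : Opens X) (hV : V = D g) (hV' : V' = D (g * h)) (le : V' ≤ V)
    (t : F.obj (op V)), F.map (homOfLE le).op t = 0 → ∃ N : ℕ, sm F μ (h ^ N) V t = 0

variable {F μ D}

lemma IsLoc.ext_ge (hL : IsLoc F μ D) (g h : A) (V V' : Opens X) (hV : V = D g)
    (hV' : V' = D (g * h)) (le : V' ≤ V) (s : F.obj (op V')) :
    ∃ N₀ : ℕ, ∀ N, N₀ ≤ N → ∃ t : F.obj (op V), F.map (homOfLE le).op t = sm F μ (h ^ N) V' s := by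
  obtain ⟨N₀, t, ht⟩ := hL.ext g h V V' hV hV' le s
  refine ⟨N₀, fun N hN => ⟨sm F μ (h ^ (N - N₀)) V t, ?_⟩⟩
  rw [sm_res, ht, ← sm_mul, ← pow_add, Nat.sub_add_cancel hN]

lemma IsLoc.ker_ge (hL : IsLoc F μ D) (g h : A) (V V' : Opens X) (hV : V = D g)
    (hV' : V' = D (g * h)) (le : V' ≤ V) (t : F.obj (op V)) (ht : F.map (homOfLE le).op t = 0) :
    ∃ N₀ : ℕ, ∀ N, N₀ ≤ N → sm F μ (h ^ N) V t = 0 := by
  obtain ⟨N₀, h0⟩ := hL.ker g h V V' hV hV' le t ht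
  refine ⟨N₀, fun N hN => ?_⟩
  rw [← Nat.sub_add_cancel hN, pow_add, sm_mul, h0, map_zero]

lemma IsLoc.D_prod (hL : IsLoc F μ D) {κ : Type*} (s : Finset κ) (g : κ → A) :
    D (∏ k ∈ s, g k) = ⨅ k ∈ s, D (g k) := by
  classical
  induction s using Finset.induction_on with
  | empty => simp [hL.D_one]
  | insert a s ha ih => rw [Finset.prod_insert ha, hL.D_mul, ih, Finset.iInf_insert]

lemma prod_eq_iInf {n : ℕ} (W : Fin n → Opens X) : (∏ᶜ W : Opens X) = ⨅ k, W k := by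
  apply le_antisymm
  · exact le_iInf fun k => leOfHom (Pi.π W k)
  · exact leOfHom (Pi.lift (fun k => homOfLE (iInf_le W k)))

lemma IsLoc.prod_eq (hL : IsLoc F μ D) {ι : Type u} (f : ι → A) {n : ℕ} (a : Fin n → ι) :
    (∏ᶜ ((fun i => D (f i)) ∘ a) : Opens X) = D (∏ k, f (a k)) := by
  rw [prod_eq_iInf, hL.D_prod]
  simp

section cech

variable (F μ D) {ι : Type u} (f : ι → A)

/-- the family of opens `D (f i)` -/
abbrev U : ι → Opens X := fun i => D (f i)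

/-- scalar multiplication on the Cech complex -/
noncomputable def m (r : A) :
    (cechComplexFunctor (U D f)).obj F ⟶ (cechComplexFunctor (U D f)).obj F :=
  (cechComplexFunctor (U D f)).map (μ r : F ⟶ F)

/-- scalar multiplication on Cech cochains, retyped -/
noncomputable def mf (r : A) (n : ℕ) :
    (∏ᶜ Cech.Z (U D f) F n : AddCommGrpCat.{u}) ⟶ ∏ᶜ Cech.Z (U D f) F n :=
  (m F μ D f r).f n

lemma π_mf (r : A) (n : ℕ) (a : Fin (n + 1) → ι) (x : (∏ᶜ Cech.Z (U D f) F n : AddCommGrpCat.{u})) :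
    Pi.π (Cech.Z (U D f) F n) a (mf F μ D f r n x) =
      sm F μ r (∏ᶜ (U D f ∘ a)) (Pi.π (Cech.Z (U D f) F n) a x) :=
  CechLeray.π_map_apply (Cech.Z (U D f) F n) (Cech.Z (U D f) F n)
    (fun a => (μ r : F ⟶ F).app (op (∏ᶜ (U D f ∘ a)))) a x

lemma mf_d' (r : A) (n : ℕ) (x : (∏ᶜ Cech.Z (U D f) F n : AddCommGrpCat.{u})) :
    Cech.d' (U D f) F n (mf F μ D f r n x) = mf F μ D f r (n + 1) (Cech.d' (U D f) F n x) := by
  have h := (m F μ D f r).comm n (n + 1)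
  exact ConcreteCategory.congr_hom h x

lemma ΦQ_mf (r : A) (n : ℕ) (x : (∏ᶜ Cech.Z (U D f) F n : AddCommGrpCat.{u})) (T : Opens X)
    (t : Fin (n + 1) → Cech.Sec (U D f) T) :
    Cech.ΦQ (U D f) F n (mf F μ D f r n x) T t = sm F μ r T (Cech.ΦQ (U D f) F n x T t) := by
  rw [Cech.ΦQ_apply, Cech.ΦQ_apply, π_mf, sm_res]

variable {F μ}

/-- the open `∏ U∘a` -/
noncomputable abbrev Vo {n : ℕ} (a : Fin (n + 1) → ι) : Opens X := ∏ᶜ (U D f ∘ a)

/-- the open `∏ U∘a ⊓ D φ` -/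
noncomputable abbrev V' (φ : A) {n : ℕ} (a : Fin (n + 1) → ι) : Opens X := Vo D f a ⊓ D φ

/-- the canonical sections over `V' a` -/
noncomputable abbrev ta (φ : A) {n : ℕ} (a : Fin (n + 1) → ι) :
    Fin (n + 1) → Cech.Sec (U D f) (V' D f φ a) :=
  Cech.pull (U D f) (homOfLE inf_le_left) (Cech.canon (U D f) a)

/-- the extra section over `V' a` -/
noncomputable abbrev σ (i₀ : ι) {n : ℕ} (a : Fin (n + 1) → ι) : Cech.Sec (U D f) (V' D f (f i₀) a) :=
  ⟨i₀, homOfLE inf_le_right⟩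

variable (F) in
lemma ΦQ_ta (φ : A) {n : ℕ} (a : Fin (n + 1) → ι)
    (z : (∏ᶜ Cech.Z (U D f) F n : AddCommGrpCat.{u})) :
    Cech.ΦQ (U D f) F n z (V' D f φ a) (ta D f φ a) =
      F.map (homOfLE (inf_le_left : V' D f φ a ≤ Vo D f a)).op (Pi.π (Cech.Z (U D f) F n) a z) := by
  rw [Cech.ΦQ_apply]
  show F.map (Cech.tup (U D f) (ta D f φ a)).op (Pi.π (Cech.Z (U D f) F n) a z) = _
  rw [Subsingleton.elim (Cech.tup (U D f) (ta D f φ a)) (homOfLE inf_le_left)]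

variable (F) in
lemma cocycle_cons (i₀ : ι) (p : ℕ) (x : (∏ᶜ Cech.Z (U D f) F (p + 1) : AddCommGrpCat.{u}))
    (hx : Cech.d' (U D f) F (p + 1) x = 0) (T : Opens X) (s : Cech.Sec (U D f) T)
    (t : Fin (p + 2) → Cech.Sec (U D f) T) :
    ∑ k : Fin (p + 2), (-1 : ℤ) ^ (k : ℕ) •
        Cech.ΦQ (U D f) F (p + 1) x T (Fin.cons s (t ∘ Fin.succAbove k)) =
      Cech.ΦQ (U D f) F (p + 1) x T t := by
  have h0 : Cech.ΦQ (U D f) F (p + 2) (Cech.d' (U D f) F (p + 1) x) T (Fin.cons s t) = 0 := by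
    rw [hx, map_zero]
    rfl
  rw [Cech.ΦQ_d'] at h0
  simp only [Cech.dFam] at h0
  have hs : ∀ g : Fin (p + 1 + 2) → F.obj (op T), ∑ i, g i = g 0 + ∑ i : Fin (p + 2), g i.succ :=
    fun g => Fin.sum_univ_succ g
  rw [hs] at h0
  have e0 : (Fin.cons s t : Fin (p + 1 + 2) → Cech.Sec (U D f) T) ∘ Fin.succAbove 0 = t := by
    funext j
    simp [Fin.succAbove_zero]
  have ek : ∀ k : Fin (p + 2),
      (Fin.cons s t : Fin (p + 1 + 2) → Cech.Sec (U D f) T) ∘ Fin.succAbove k.succ =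
        Fin.cons s (t ∘ Fin.succAbove k) := by
    intro k
    funext j
    refine Fin.cases ?_ (fun j' => ?_) j
    · simp
    · simp
  rw [e0] at h0
  simp only [ek] at h0
  simp only [Fin.val_zero, pow_zero, one_smul, Fin.val_succ, pow_succ, mul_neg, mul_one, neg_smul,
    Finset.sum_neg_distrib] at h0
  exact (add_neg_eq_zero.1 h0).symm

lemma V'_le (φ : A) {n : ℕ} (a : Fin (n + 2) → ι) (k : Fin (n + 2)) :
    V' D f φ a ≤ V' D f φ (a ∘ Fin.succAbove k) :=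
  inf_le_inf_right _ (leOfHom (Cech.face (U D f) a k))

lemma pull_cons (i₀ : ι) {n : ℕ} (a : Fin (n + 2) → ι) (k : Fin (n + 2)) :
    Cech.pull (U D f) (homOfLE (V'_le D f (f i₀) a k))
      (Fin.cons (σ D f i₀ (a ∘ Fin.succAbove k)) (ta D f (f i₀) (a ∘ Fin.succAbove k)) :
        Fin (n + 2) → Cech.Sec (U D f) (V' D f (f i₀) (a ∘ Fin.succAbove k))) =
      Fin.cons (σ D f i₀ a) (ta D f (f i₀) a ∘ Fin.succAbove k) := by
  funext j
  refine Fin.cases ?_ (fun j' => ?_) j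
  · simp only [Cech.pull, Fin.cons_zero]
    exact congrArg (Sigma.mk i₀) (Subsingleton.elim _ _)
  · simp only [Cech.pull, Fin.cons_succ]
    exact congrArg (Sigma.mk (a (Fin.succAbove k j'))) (Subsingleton.elim _ _)

variable (F) in
lemma ΦQ_y (hL : IsLoc F μ D) (i₀ : ι) (p : ℕ)
    (x : (∏ᶜ Cech.Z (U D f) F (p + 1) : AddCommGrpCat.{u})) (N : ℕ)
    (y : (∏ᶜ Cech.Z (U D f) F p : AddCommGrpCat.{u}))
    (hy : ∀ b : Fin (p + 1) → ι,
      F.map (homOfLE (inf_le_left : V' D f (f i₀) b ≤ Vo D f b)).op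
          (Pi.π (Cech.Z (U D f) F p) b y) =
        sm F μ (f i₀ ^ N) (V' D f (f i₀) b)
          (Cech.ΦQ (U D f) F (p + 1) x (V' D f (f i₀) b)
            (Fin.cons (σ D f i₀ b) (ta D f (f i₀) b))))
    (a : Fin (p + 2) → ι) (k : Fin (p + 2)) :
    Cech.ΦQ (U D f) F p y (V' D f (f i₀) a) (ta D f (f i₀) a ∘ Fin.succAbove k) =
      sm F μ (f i₀ ^ N) (V' D f (f i₀) a)
        (Cech.ΦQ (U D f) F (p + 1) x (V' D f (f i₀) a)
          (Fin.cons (σ D f i₀ a) (ta D f (f i₀) a ∘ Fin.succAbove k))) := by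
  rw [Cech.ΦQ_apply]
  show F.map (Cech.tup (U D f) (ta D f (f i₀) a ∘ Fin.succAbove k)).op
    (Pi.π (Cech.Z (U D f) F p) (a ∘ Fin.succAbove k) y) = _
  have e : Cech.tup (U D f) (ta D f (f i₀) a ∘ Fin.succAbove k) =
      homOfLE (V'_le D f (f i₀) a k) ≫
        homOfLE (inf_le_left : V' D f (f i₀) (a ∘ Fin.succAbove k) ≤ Vo D f (a ∘ Fin.succAbove k)) :=
    Subsingleton.elim _ _
  rw [e, op_comp, F.map_comp, ConcreteCategory.comp_apply, hy, sm_res]
  congr 1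
  have := Cech.ΦQ_isNat (U D f) F (p + 1) x _ _ (homOfLE (V'_le D f (f i₀) a k))
    (Fin.cons (σ D f i₀ (a ∘ Fin.succAbove k)) (ta D f (f i₀) (a ∘ Fin.succAbove k)))
  rw [this, pull_cons]

lemma hom_zsmul_sum {M N : AddCommGrpCat.{u}} (g : M →+ N) {κ : Type*} (s : Finset κ)
    (c : κ → ℤ) (v : κ → M) : g (∑ k ∈ s, c k • v k) = ∑ k ∈ s, c k • g (v k) := by
  rw [map_sum]
  simp only [map_zsmul]

theorem step1 (hL : IsLoc F μ D) [Finite ι] (i₀ : ι) (p : ℕ)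
    (x : (∏ᶜ Cech.Z (U D f) F (p + 1) : AddCommGrpCat.{u}))
    (hx : Cech.d' (U D f) F (p + 1) x = 0) :
    ∃ (N : ℕ) (y : (∏ᶜ Cech.Z (U D f) F p : AddCommGrpCat.{u})),
      Cech.d' (U D f) F p y = mf F μ D f (f i₀ ^ N) (p + 1) x := by
  classical
  -- extension step
  have hV : ∀ {n : ℕ} (b : Fin (n + 1) → ι), Vo D f b = D (∏ k, f (b k)) :=
    fun b => hL.prod_eq f b
  have hV' : ∀ {n : ℕ} (b : Fin (n + 1) → ι), V' D f (f i₀) b = D ((∏ k, f (b k)) * f i₀) := by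
    intro n b
    rw [hL.D_mul, ← hV]
  have h1 : ∀ b : Fin (p + 1) → ι, ∃ N₀ : ℕ, ∀ N, N₀ ≤ N → ∃ t : F.obj (op (Vo D f b)),
      F.map (homOfLE (inf_le_left : V' D f (f i₀) b ≤ Vo D f b)).op t =
        sm F μ (f i₀ ^ N) (V' D f (f i₀) b)
          (Cech.ΦQ (U D f) F (p + 1) x (V' D f (f i₀) b)
            (Fin.cons (σ D f i₀ b) (ta D f (f i₀) b))) :=
    fun b => hL.ext_ge _ _ _ _ (hV b) (hV' b) inf_le_left _
  choose N₀ hN₀ using h1
  obtain ⟨N, hN⟩ := Finite.exists_le N₀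
  have h2 := fun b => hN₀ b N (hN b)
  choose t ht using h2
  let y : (∏ᶜ Cech.Z (U D f) F p : AddCommGrpCat.{u}) :=
    (Concrete.productEquiv (Cech.Z (U D f) F p)).symm t
  have hy : ∀ b, Pi.π (Cech.Z (U D f) F p) b y = t b :=
    fun b => Concrete.productEquiv_symm_apply_π (Cech.Z (U D f) F p) t b
  -- the key identity
  have key : ∀ a : Fin (p + 2) → ι,
      F.map (homOfLE (inf_le_left : V' D f (f i₀) a ≤ Vo D f a)).op
        (Pi.π (Cech.Z (U D f) F (p + 1)) a (Cech.d' (U D f) F p y) -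
          sm F μ (f i₀ ^ N) (Vo D f a) (Pi.π (Cech.Z (U D f) F (p + 1)) a x)) = 0 := by
    intro a
    rw [map_sub, ← ΦQ_ta F D f (f i₀) a, sm_res, ← ΦQ_ta F D f (f i₀) a, Cech.ΦQ_d']
    simp only [Cech.dFam]
    have := fun k => ΦQ_y F D f hL i₀ p x N y (fun b => by rw [hy, ht]) a k
    simp only [this]
    rw [← hom_zsmul_sum, cocycle_cons F D f i₀ p x hx, sub_self]
  have h3 : ∀ a : Fin (p + 2) → ι, ∃ N₀ : ℕ, ∀ N', N₀ ≤ N' →
      sm F μ (f i₀ ^ N') (Vo D f a)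
        (Pi.π (Cech.Z (U D f) F (p + 1)) a (Cech.d' (U D f) F p y) -
          sm F μ (f i₀ ^ N) (Vo D f a) (Pi.π (Cech.Z (U D f) F (p + 1)) a x)) = 0 :=
    fun a => hL.ker_ge _ _ _ _ (hV a) (hV' a) inf_le_left _ (key a)
  choose N₁ hN₁ using h3
  obtain ⟨N', hN'⟩ := Finite.exists_le N₁
  refine ⟨N' + N, mf F μ D f (f i₀ ^ N') p y, ?_⟩
  rw [mf_d']
  apply CechLeray.prod_ext
  intro a
  rw [π_mf, π_mf, pow_add, sm_mul]
  have := hN₁ a N' (hN' a)
  rw [map_sub, sub_eq_zero] at this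
  exact this

variable (F μ) in
lemma mf_add (a b : A) (n : ℕ) (x : (∏ᶜ Cech.Z (U D f) F n : AddCommGrpCat.{u})) :
    mf F μ D f (a + b) n x = mf F μ D f a n x + mf F μ D f b n x := by
  apply CechLeray.prod_ext
  intro c
  rw [π_mf, map_add, π_mf, π_mf, sm_add]

variable (F μ) in
lemma mf_mul (a b : A) (n : ℕ) (x : (∏ᶜ Cech.Z (U D f) F n : AddCommGrpCat.{u})) :
    mf F μ D f (a * b) n x = mf F μ D f a n (mf F μ D f b n x) := by
  apply CechLeray.prod_ext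
  intro c
  rw [π_mf, π_mf, π_mf, sm_mul]

variable (F μ) in
lemma mf_zero (n : ℕ) (x : (∏ᶜ Cech.Z (U D f) F n : AddCommGrpCat.{u})) :
    mf F μ D f 0 n x = 0 := by
  apply CechLeray.prod_ext
  intro c
  rw [π_mf, map_zero]
  simp [sm]

variable (F μ) in
lemma mf_sum {κ : Type*} (s : Finset κ) (c r : κ → A) (n : ℕ)
    (x : (∏ᶜ Cech.Z (U D f) F n : AddCommGrpCat.{u})) :
    mf F μ D f (∑ i ∈ s, c i * r i) n x = ∑ i ∈ s, mf F μ D f (c i) n (mf F μ D f (r i) n x) := by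
  classical
  induction s using Finset.induction_on with
  | empty => simp [mf_zero]
  | insert a s ha ih => rw [Finset.sum_insert ha, Finset.sum_insert ha, mf_add, mf_mul, ih]

lemma IsLoc.le_D_pow (hL : IsLoc F μ D) (g : A) (k : ℕ) : D g ≤ D (g ^ k) := by
  induction k with
  | zero => rw [pow_zero, hL.D_one]; exact le_top
  | succ k ih => rw [pow_succ, hL.D_mul]; exact le_inf ih le_rfl

/-- **Cech acyclicity** for a finite covering of `D g` by opens `D (f i)`, for a presheaf with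
a localizing action of `A`. -/
theorem exactAt (hL : IsLoc F μ D) [Finite ι] (g : A) (hfg : ∀ i, D (f i) ≤ D g)
    (hrad : ∀ N : ι → ℕ, ∃ k : ℕ, g ^ k ∈ Ideal.span (Set.range fun i => f i ^ N i)) (p : ℕ) :
    ((cechComplexFunctor (U D f)).obj F).ExactAt (p + 1) := by
  classical
  have := Fintype.ofFinite ι
  suffices h : ∀ x : (∏ᶜ Cech.Z (U D f) F (p + 1) : AddCommGrpCat.{u}),
      Cech.d' (U D f) F (p + 1) x = 0 →
        ∃ y : (∏ᶜ Cech.Z (U D f) F p : AddCommGrpCat.{u}), Cech.d' (U D f) F p y = x from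
    Cech.exactAt_of_forall p h
  intro x hx'
  choose N y hy using fun i => step1 D f hL i p x hx'
  obtain ⟨k, hk⟩ := hrad N
  rw [Ideal.mem_span_range_iff_exists_fun] at hk
  obtain ⟨c, hc⟩ := hk
  let y' : (∏ᶜ Cech.Z (U D f) F p : AddCommGrpCat.{u}) := ∑ i, mf F μ D f (c i) p (y i)
  have hy' : Cech.d' (U D f) F p y' = mf F μ D f (g ^ k) (p + 1) x := by
    simp only [y']
    rw [map_sum, ← hc]
    rw [mf_sum]
    refine Finset.sum_congr rfl (fun i _ => ?_)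
    rw [mf_d', hy]
  have hle : ∀ {n : ℕ} (a : Fin (n + 1) → ι), Vo D f a ≤ D (g ^ k) := fun a =>
    (leOfHom (Pi.π (U D f ∘ a) 0)).trans ((hfg (a 0)).trans (IsLoc.le_D_pow D hL g k))
  have hsurj : ∀ b : Fin (p + 1) → ι, ∃ w : F.obj (op (Vo D f b)),
      sm F μ (g ^ k) (Vo D f b) w = Pi.π (Cech.Z (U D f) F p) b y' :=
    fun b => (hL.bij (g ^ k) _ (hle b)).2 _
  choose w hw using hsurj
  let y'' : (∏ᶜ Cech.Z (U D f) F p : AddCommGrpCat.{u}) :=
    (Concrete.productEquiv (Cech.Z (U D f) F p)).symm w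
  have hy'' : mf F μ D f (g ^ k) p y'' = y' := by
    apply CechLeray.prod_ext
    intro b
    rw [π_mf, ← hw]
    congr 1
    exact Concrete.productEquiv_symm_apply_π (Cech.Z (U D f) F p) w b
  refine ⟨y'', ?_⟩
  have hinj : Function.Injective (mf F μ D f (g ^ k) (p + 1)) := by
    intro z z' hzz
    apply CechLeray.prod_ext
    intro a
    apply (hL.bij (g ^ k) _ (hle a)).1
    rw [← π_mf, ← π_mf, hzz]
  apply hinj
  rw [← mf_d', hy'', hy']

end cech

end CechAffine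

end Groth.Agent.Lib.helper27
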