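import Mathlib
import Groth.Agent.Lib.Helper27.CechAffine

set_option autoImplicit false
set_option linter.unusedVariables false
set_option linter.unusedSectionVars false

namespace Groth.Agent.Lib.helper27

open CategoryTheory Limits Opposite TopologicalSpace AlgebraicGeometry

universe u

namespace CechSpec

variable {R : CommRingCat.{u}} (M : (Spec R).Modules)

/-- multiplication by `r : R` on the abelian presheaf underlying a module on `Spec R` -/
noncomputable def μ₀ (r : R) : M.presheaf ⟶ M.presheaf where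
  app U := AddCommGrpCat.ofHom (DistribSMul.toAddMonoidHom Γ(M, U.unop) r)
  naturality U V i := by
    ext x
    exact (Scheme.Modules.map_smul_Spec (M := M) i r x).symm

lemma μ₀_app_apply (r : R) (U : (Spec R).Opens) (x : Γ(M, U)) :
    (μ₀ M r).app (op U) x = r • x := rfl

/-- the action of `R` on the abelian presheaf underlying a module on `Spec R` -/
noncomputable def μ : R →+* End M.presheaf where
  toFun := μ₀ M
  map_one' := by
    apply NatTrans.ext
    funext U
    apply AddCommGrpCat.hom_ext
    apply AddMonoidHom.ext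
    intro (x : Γ(M, U.unop))
    exact one_smul R x
  map_mul' a b := by
    apply NatTrans.ext
    funext U
    apply AddCommGrpCat.hom_ext
    apply AddMonoidHom.ext
    intro (x : Γ(M, U.unop))
    exact mul_smul a b x
  map_zero' := by
    apply NatTrans.ext
    funext U
    apply AddCommGrpCat.hom_ext
    apply AddMonoidHom.ext
    intro (x : Γ(M, U.unop))
    exact zero_smul R x
  map_add' a b := by
    apply NatTrans.ext
    funext U
    apply AddCommGrpCat.hom_ext
    apply AddMonoidHom.ext
    intro (x : Γ(M, U.unop))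
    exact add_smul a b x

lemma sm_eq (r : R) (V : (Spec R).Opens) (x : Γ(M, V)) :
    CechAffine.sm M.presheaf (μ M) r V x = r • x := rfl

/-- the basic open as an open of `Spec R` -/
abbrev Dr (r : R) : (Spec R).Opens := PrimeSpectrum.basicOpen r

lemma le_Dr_pow (g : R) (k : ℕ) : Dr g ≤ Dr (g ^ k) := by
  induction k with
  | zero =>
    rw [pow_zero]
    show PrimeSpectrum.basicOpen g ≤ PrimeSpectrum.basicOpen 1
    rw [PrimeSpectrum.basicOpen_one]
    exact le_top
  | succ k ih =>
    rw [pow_succ]
    show PrimeSpectrum.basicOpen g ≤ PrimeSpectrum.basicOpen (g ^ k * g)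
    rw [PrimeSpectrum.basicOpen_mul]
    exact le_inf ih le_rfl

lemma res_smul {U V : (Spec R).Opens} (i : V ⟶ U) (r : R) (x : Γ(M, U)) :
    M.presheaf.map i.op (r • x) = r • M.presheaf.map i.op x :=
  Scheme.Modules.map_smul_Spec (M := M) i.op r x

lemma res_res {U V W : (Spec R).Opens} (i : V ⟶ U) (j : W ⟶ V) (k : W ⟶ U) (x : Γ(M, U)) :
    M.presheaf.map j.op (M.presheaf.map i.op x) = M.presheaf.map k.op x := by
  rw [← ConcreteCategory.comp_apply, ← M.presheaf.map_comp, ← op_comp,
    Subsingleton.elim (j ≫ i) k]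

theorem isLoc (hM : IsLocalizing (modulesSpecToSheaf.obj M)) :
    CechAffine.IsLoc M.presheaf (μ M) (fun r : R => Dr r) where
  D_one := PrimeSpectrum.basicOpen_one
  D_mul a b := PrimeSpectrum.basicOpen_mul a b
  bij a V hV := by
    have := M.isUnit_algebraMap_end_of_le_basicOpen a hV
    rw [Module.End.isUnit_iff] at this
    exact this
  ext g h V V' hV hV' le s := by
    subst hV hV'
    have hloc := hM (g * h)
    obtain ⟨⟨m, ⟨_, k, rfl⟩⟩, hk⟩ := IsLocalizedModule.surj (.powers (g * h))
      ((modulesSpecToSheaf.obj M).obj.map (Dr (g * h)).leTop.op).hom s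
    have hk' : (g * h) ^ k • s = M.presheaf.map (Dr (g * h)).leTop.op m := hk
    have hb := M.isUnit_algebraMap_end_of_le_basicOpen (U := Dr g) (g ^ k) (le_Dr_pow g k)
    rw [Module.End.isUnit_iff] at hb
    obtain ⟨t, ht⟩ := hb.2 (M.presheaf.map (Dr g).leTop.op m)
    have ht' : g ^ k • t = M.presheaf.map (Dr g).leTop.op m := ht
    refine ⟨k, t, ?_⟩
    rw [sm_eq]
    have hreg : IsSMulRegular Γ(M, Dr (g * h)) (g ^ k) :=
      M.isSMulRegular_of_le_basicOpen (le.trans (le_Dr_pow g k))
    apply hreg
    show g ^ k • M.presheaf.map (homOfLE le).op t = g ^ k • h ^ k • s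
    rw [← res_smul, ht', res_res M _ _ (Dr (g * h)).leTop, ← hk', mul_pow, mul_smul]
  ker g h V V' hV hV' le t ht := by
    subst hV hV'
    obtain ⟨⟨m, ⟨_, k, rfl⟩⟩, hk⟩ := IsLocalizedModule.surj (.powers g)
      ((modulesSpecToSheaf.obj M).obj.map (Dr g).leTop.op).hom t
    have hk' : g ^ k • t = M.presheaf.map (Dr g).leTop.op m := hk
    have h0 : ((modulesSpecToSheaf.obj M).obj.map (Dr (g * h)).leTop.op).hom m = 0 := by
      show M.presheaf.map (Dr (g * h)).leTop.op m = 0
      rw [← res_res M (Dr g).leTop (homOfLE le) (Dr (g * h)).leTop, ← hk', res_smul, ht,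
        smul_zero]
    have hloc := hM (g * h)
    obtain ⟨⟨_, j, rfl⟩, hj⟩ := (IsLocalizedModule.eq_zero_iff (.powers (g * h))
      ((modulesSpecToSheaf.obj M).obj.map (Dr (g * h)).leTop.op).hom).1 h0
    have hj' : (g * h) ^ j • m = 0 := hj
    refine ⟨j, ?_⟩
    rw [sm_eq]
    have hreg : IsSMulRegular Γ(M, Dr g) (g ^ (j + k)) :=
      M.isSMulRegular_of_le_basicOpen (le_Dr_pow g (j + k))
    apply hreg
    show g ^ (j + k) • h ^ j • t = g ^ (j + k) • (0 : Γ(M, Dr g))
    rw [smul_zero, pow_add, mul_smul, smul_comm (g ^ k) (h ^ j) t, hk', ← mul_smul, ← mul_pow]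
    have := ((modulesSpecToSheaf.obj M).obj.map (Dr g).leTop.op).hom.map_smul ((g * h) ^ j) m
    rw [hj', map_zero] at this
    exact this.symm

lemma exists_pow_mem_span_of_span_eq_top {ι : Type*} (f : ι → R)
    (hf : Ideal.span (Set.range f) = ⊤) (N : ι → ℕ) :
    ∃ k : ℕ, (1 : R) ^ k ∈ Ideal.span (Set.range fun i => f i ^ N i) := by
  classical
  refine ⟨0, ?_⟩
  rw [pow_zero, ← Ideal.eq_top_iff_one]
  have h1 := Ideal.span_range_pow_eq_top (Set.range f) hf
    (fun x => N (Classical.choose x.2))
  refine top_unique (h1.ge.trans (Ideal.span_mono ?_))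
  rintro _ ⟨x, rfl⟩
  refine ⟨Classical.choose x.2, ?_⟩
  show f (Classical.choose x.2) ^ N (Classical.choose x.2) = x.1 ^ N (Classical.choose x.2)
  rw [Classical.choose_spec x.2]

/-- **Cech acyclicity on `Spec R`** for the standard covering, for a localizing module. -/
theorem exactAt_of_span_eq_top (hM : IsLocalizing (modulesSpecToSheaf.obj M)) {ι : Type u} [Finite ι]
    (f : ι → R) (hf : Ideal.span (Set.range f) = ⊤) (p : ℕ) :
    ((cechComplexFunctor (fun i => Dr (f i))).obj M.presheaf).ExactAt (p + 1) :=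
  CechAffine.exactAt (fun r : R => Dr r) f (isLoc M hM) 1
    (fun i => by
      show PrimeSpectrum.basicOpen (f i) ≤ PrimeSpectrum.basicOpen 1
      rw [PrimeSpectrum.basicOpen_one]
      exact le_top)
    (exists_pow_mem_span_of_span_eq_top f hf) p

end CechSpec

end Groth.Agent.Lib.helper27
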