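import Mathlib
import Groth.Agent.Lib.Helper27.CechSpec
import Groth.Agent.Lib.Helper27.CechCartan
import Groth.Agent.S0493
import Groth.Prelude.Def_Coh
import Groth.Prelude.Def_E1Deg2

set_option autoImplicit false
set_option linter.unusedVariables false
set_option linter.unusedSectionVars false

namespace Groth.Agent.Lib.helper27

open CategoryTheory Limits Opposite TopologicalSpace AlgebraicGeometry

universe u

namespace SerreVan

open CechSpec

variable {R : CommRingCat.{u}} (M : (Spec R).Modules)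

/-- the class of standard coverings -/
def Cov (ι : Type u) (V : ι → (Spec R).Opens) : Prop :=
  Finite ι ∧ ∃ (f : ι → R) (g : R), V = (fun i => Dr (f i)) ∧ iSup V = Dr g

lemma exists_pow_mem_span {ι : Type u} (f : ι → R) (g : R)
    (h : (Dr g : (Spec R).Opens) ≤ ⨆ i, Dr (f i)) (N : ι → ℕ) :
    ∃ k : ℕ, g ^ k ∈ Ideal.span (Set.range fun i => f i ^ N i) := by
  have hg : g ∈ (Ideal.span (Set.range fun i => f i ^ N i)).radical := by
    rw [← PrimeSpectrum.vanishingIdeal_zeroLocus_eq_radical, PrimeSpectrum.mem_vanishingIdeal]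
    intro x hx
    by_contra hgx
    have hxg : x ∈ (Dr g : (Spec R).Opens) := hgx
    obtain ⟨i, hi⟩ := Opens.mem_iSup.1 (h hxg)
    apply hi
    have : f i ^ N i ∈ x.asIdeal := by
      rw [PrimeSpectrum.mem_zeroLocus] at hx
      exact hx (Ideal.subset_span ⟨i, rfl⟩)
    exact x.isPrime.mem_of_pow_mem _ this
  exact hg

lemma refine (g : R) {κ : Type u} (W : κ → (Spec R).Opens) (hW : iSup W = Dr g) :
    ∃ (ι : Type u) (V : ι → (Spec R).Opens), Cov ι V ∧ iSup V = Dr g ∧ ∀ i, ∃ k, V i ≤ W k := by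
  classical
  let S : Set R := {r | ∃ k, (Dr r : (Spec R).Opens) ≤ W k}
  have hcov : ((Dr g : (Spec R).Opens) : Set (Spec R)) ⊆
      ⋃ r : S, ((Dr r.1 : (Spec R).Opens) : Set (Spec R)) := by
    intro x hx
    have hx' : x ∈ iSup W := by rw [hW]; exact hx
    obtain ⟨k, hk⟩ := Opens.mem_iSup.1 hx'
    obtain ⟨_, ⟨r, rfl⟩, hxr, hrW⟩ :=
      (Opens.isBasis_iff_nbhd.1 (PrimeSpectrum.isBasis_basic_opens (R := R))) hk
    exact Set.mem_iUnion.2 ⟨⟨r, k, hrW⟩, hxr⟩
  obtain ⟨t, ht⟩ := (PrimeSpectrum.isCompact_basicOpen g).elim_finite_subcover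
    (fun r : S => ((Dr r.1 : (Spec R).Opens) : Set (Spec R))) (fun r => (Dr r.1).2) hcov
  refine ⟨{r : S // r ∈ t}, fun i => Dr i.1.1, ⟨inferInstance, fun i => i.1.1, g, rfl, ?_⟩, ?_,
    fun i => i.1.2⟩
  all_goals
    apply le_antisymm
    · refine iSup_le (fun i => ?_)
      obtain ⟨k, hk⟩ := i.1.2
      exact hk.trans ((le_iSup W k).trans hW.le)
    · intro x hx
      obtain ⟨r, hr⟩ := Set.mem_iUnion.1 (ht hx)
      obtain ⟨hrt, hxr⟩ := Set.mem_iUnion.1 hr
      exact Opens.mem_iSup.2 ⟨⟨r, hrt⟩, hxr⟩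

/-- **Serre vanishing on basic opens of `Spec R`** for a localizing module. -/
theorem subsingleton_HU (hM : IsLocalizing (modulesSpecToSheaf.obj M)) (g : R) (p : ℕ) :
    Subsingleton (CohTop.HU (Coh.toAb M) (p + 1) (Dr g)) := by
  refine Groth.Agent.S0493.result (Coh.toAb M)
    (Set.range (fun r : R => (Dr r : (Spec R).Opens)))
    PrimeSpectrum.isBasis_basic_opens Cov ?_ ?_ ?_ (Dr g) ⟨g, rfl⟩ p
  · rintro ι V ⟨hfin, f, g, rfl, hV⟩
    refine ⟨⟨g, hV.symm⟩, fun p a => ⟨∏ k, f (a k), ?_⟩⟩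
    have := (isLoc M hM).D_prod Finset.univ (fun k => f (a k))
    simp only [Finset.mem_univ, iInf_pos] at this
    exact this
  · rintro U ⟨g, rfl⟩ κ W hW
    exact refine g W hW
  · rintro ι V ⟨hfin, f, g, rfl, hV⟩ p
    have := CechAffine.exactAt (fun r : R => Dr r) f (isLoc M hM) g
      (fun i => by rw [← hV]; exact le_iSup (fun i => Dr (f i)) i)
      (exists_pow_mem_span f g hV.ge) p
    exact (HomologicalComplex.exactAt_iff_isZero_homology _ _).1 this

/-- comparison of `H^n(X, F)` with `H^n(⊤, F)` -/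
noncomputable def HEquivHU {X : TopCat.{u}} (F : CohTop.Ab X) (n : ℕ) :
    CohTop.HU F n ⊤ ≃+ CohTop.H F n :=
  E1Deg.extCongrLeft (E1Deg.freeSheafIsoConstant (Opens.grothendieckTopology X) isTerminalTop) F n

/-- **Affine Serre vanishing on `Spec R`**. -/
theorem subsingleton_HH_spec [M.IsQuasicoherent] (p : ℕ) :
    Subsingleton (Coh.HH (Spec R) M (p + 1)) := by
  have hM : IsLocalizing (modulesSpecToSheaf.obj M) :=
    (isIso_fromTildeΓ_iff_isLocalizing M).1 inferInstance
  have h1 := subsingleton_HU M hM 1 p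
  have e : (Dr (1 : R) : (Spec R).Opens) = ⊤ := PrimeSpectrum.basicOpen_one
  rw [e] at h1
  exact (HEquivHU (Coh.toAb M) (p + 1)).symm.toEquiv.subsingleton

end SerreVan

end Groth.Agent.Lib.helper27
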