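import Mathlib
import Groth.Agent.Lib.Helper27.SerreVan
import Groth.Agent.Lib.Helper27.PullConst
import Groth.Agent.S14402

set_option autoImplicit false
set_option linter.unusedVariables false
set_option linter.unusedSectionVars false

namespace Groth.Agent.Lib.helper27

open CategoryTheory Limits Opposite TopologicalSpace AlgebraicGeometry

universe u

namespace SerreVan

/-- pushforward along an isomorphism of schemes preserves quasi-coherence -/
lemma isQuasicoherent_pushforward_iso {X Y : Scheme.{u}} (e : X ≅ Y) (M : X.Modules)
    [M.IsQuasicoherent] : ((Scheme.Modules.pushforward e.hom).obj M).IsQuasicoherent := by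
  let unitIso : 𝟭 X.Modules ≅ Scheme.Modules.pushforward e.hom ⋙ Scheme.Modules.pushforward e.inv :=
    (Scheme.Modules.pushforwardId X).symm ≪≫
      Scheme.Modules.pushforwardCongr e.hom_inv_id.symm ≪≫
      (Scheme.Modules.pushforwardComp e.hom e.inv).symm
  let counitIso :
      Scheme.Modules.pushforward e.inv ⋙ Scheme.Modules.pushforward e.hom ≅ 𝟭 Y.Modules :=
    Scheme.Modules.pushforwardComp e.inv e.hom ≪≫
      Scheme.Modules.pushforwardCongr e.inv_hom_id ≪≫ Scheme.Modules.pushforwardId Y
  let E : X.Modules ≌ Y.Modules := CategoryTheory.Equivalence.mk (Scheme.Modules.pushforward e.hom)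
    (Scheme.Modules.pushforward e.inv) unitIso counitIso
  have adj1 : Scheme.Modules.pushforward e.hom ⊣ Scheme.Modules.pushforward e.inv := E.toAdjunction
  have adj2 : Scheme.Modules.restrictFunctor e.inv ⊣ Scheme.Modules.pushforward e.inv :=
    Scheme.Modules.restrictAdjunction e.inv
  have iso : Scheme.Modules.restrictFunctor e.inv ≅ Scheme.Modules.pushforward e.hom :=
    adj2.leftAdjointUniq adj1
  have h : ((Scheme.Modules.restrictFunctor e.inv).obj M).IsQuasicoherent := inferInstance
  exact ObjectProperty.prop_of_iso (P := SheafOfModules.isQuasicoherent Y.ringCatSheaf) (iso.app M) h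

/-- **Affine Serre vanishing**. -/
theorem subsingleton_HH_affine (X : Scheme.{u}) [IsAffine X] (M : X.Modules)
    [M.IsQuasicoherent] (p : ℕ) : Subsingleton (Coh.HH X M (p + 1)) := by
  let e := X.isoSpec
  have hq := isQuasicoherent_pushforward_iso e M
  have h1 := subsingleton_HH_spec ((Scheme.Modules.pushforward e.hom).obj M) p
  have hcl : Topology.IsClosedEmbedding e.hom.base :=
    (Scheme.homeoOfIso e).isClosedEmbedding
  obtain ⟨eq⟩ := PullConst.H_push_equiv e.hom.base (Coh.toAb M)
    (fun q => Groth.Agent.S14402.result e.hom.base hcl (Coh.toAb M) q) (p + 1)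
  exact @Equiv.subsingleton _ _ eq.toEquiv h1

end SerreVan

end Groth.Agent.Lib.helper27
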