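import Mathlib
import Groth.Agent.Lib.Helper27.SerreVan2
import Groth.Agent.Lib.Helper27.OpenRestr
import Groth.Agent.S0464

set_option autoImplicit false
set_option linter.unusedVariables false
set_option linter.unusedSectionVars false

namespace Groth.Agent.Lib.helper27

open CategoryTheory Limits Opposite TopologicalSpace AlgebraicGeometry

universe u

namespace SerreVan

/-- **Serre vanishing on affine opens** of an arbitrary scheme. -/
theorem subsingleton_HU_of_isAffineOpen {X : Scheme.{u}} (M : X.Modules) [M.IsQuasicoherent]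
    (V : X.Opens) (hV : IsAffineOpen V) (q : ℕ) :
    Subsingleton (CohTop.HU (Coh.toAb M) (q + 1) V) := by
  obtain ⟨e⟩ := OpenRestr.HU_equiv_H_restr V (Coh.toAb M) (q + 1)
  have : IsAffine ↑V := hV
  have h := subsingleton_HH_affine ↑V (M.restrict V.ι) q
  exact @Equiv.subsingleton _ _ e.toEquiv h

/-- Cech cohomology computes cohomology for coverings with affine finite intersections. -/
theorem cech_iso_of_affine_intersections (X : Scheme.{u}) {ι : Type u}
    (U : ι → X.Opens) (hcov : ⨆ i, U i = ⊤)
    (hU : ∀ s : Finset ι, s.Nonempty → IsAffineOpen (⨅ i ∈ s, U i))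
    (M : X.Modules) [M.IsQuasicoherent] (p : ℕ) :
    Nonempty (↑(CohTop.cechH (Coh.toAb M).obj U p) ≃+ Coh.HH X M p) := by
  classical
  have hacyc : ∀ (n : ℕ) (a : Fin (n + 1) → ι) (q : ℕ),
      Subsingleton (CohTop.HU (Coh.toAb M) (q + 1) (iInf fun k => U (a k))) := by
    intro n a q
    apply subsingleton_HU_of_isAffineOpen
    have := hU (Finset.univ.image a) (Finset.image_nonempty.2 Finset.univ_nonempty)
    have e : (⨅ i ∈ Finset.univ.image a, U i) = iInf fun k => U (a k) := by
      apply le_antisymm
      · exact le_iInf fun k => iInf₂_le (a k) (Finset.mem_image_of_mem a (Finset.mem_univ k))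
      · refine le_iInf₂ fun i hi => ?_
        obtain ⟨k, -, rfl⟩ := Finset.mem_image.1 hi
        exact iInf_le (fun k => U (a k)) k
    rwa [e] at this
  obtain ⟨e⟩ := Groth.Agent.S0464.result (Coh.toAb M) U hacyc p
  have hcov' : iSup U = ⊤ := hcov
  rw [hcov'] at e
  exact ⟨e.trans (HEquivHU (Coh.toAb M) p)⟩

end SerreVan

end Groth.Agent.Lib.helper27
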