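import Mathlib

set_option autoImplicit false
set_option linter.unusedSectionVars false

namespace Groth.Agent.Lib.helper27

open CategoryTheory Limits

universe v u v' u'

namespace FunLES

variable {C : Type u} [Category.{v} C] [Abelian C] [HasInjectiveResolutions C]
  {D : Type u'} [Category.{v'} D] [Abelian D]
  {G₁ G₂ G₃ : C ⥤ D} [G₁.Additive] [G₂.Additive] [G₃.Additive]
  (α : G₁ ⟶ G₂) (β : G₂ ⟶ G₃) (w : α ≫ β = 0)
  (hex : ∀ (I : C), Injective I →
    (ShortComplex.mk (α.app I) (β.app I) (by rw [← NatTrans.comp_app, w]; rfl)).ShortExact)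

/-- the short complex of complexes attached to a cochain complex -/
noncomputable abbrev sc (K : CochainComplex C ℕ) : ShortComplex (CochainComplex D ℕ) :=
  ShortComplex.mk ((NatTrans.mapHomologicalComplex α _).app K)
    ((NatTrans.mapHomologicalComplex β _).app K) (by
      rw [← NatTrans.comp_app, ← NatTrans.mapHomologicalComplex_comp, w]
      ext n
      simp
      rfl)

/-- morphisms of complexes induce morphisms of the short complexes -/
noncomputable def scMap {K L : CochainComplex C ℕ} (φ : K ⟶ L) : sc α β w K ⟶ sc α β w L where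
  τ₁ := (G₁.mapHomologicalComplex _).map φ
  τ₂ := (G₂.mapHomologicalComplex _).map φ
  τ₃ := (G₃.mapHomologicalComplex _).map φ
  comm₁₂ := (NatTrans.mapHomologicalComplex α _).naturality φ
  comm₂₃ := (NatTrans.mapHomologicalComplex β _).naturality φ

include hex in
lemma sc_shortExact (K : CochainComplex C ℕ) (hK : ∀ n, Injective (K.X n)) :
    (sc α β w K).ShortExact := by
  apply HomologicalComplex.shortExact_of_degreewise_shortExact
  intro n
  exact hex (K.X n) (hK n)

include hex in
/-- the short exact sequence of complexes attached to an object -/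
lemma scX_shortExact (X : C) : (sc α β w (injectiveResolution X).cocomplex).ShortExact :=
  sc_shortExact α β w hex _ (fun _ => inferInstance)

/-- the connecting morphism at an object -/
noncomputable def δApp (n : ℕ) (X : C) :
    (G₃.rightDerived n).obj X ⟶ (G₁.rightDerived (n + 1)).obj X :=
  ((injectiveResolution X).isoRightDerivedObj G₃ n).hom ≫
    (scX_shortExact α β w hex X).δ n (n + 1) rfl ≫
    ((injectiveResolution X).isoRightDerivedObj G₁ (n + 1)).inv

lemma δApp_naturality (n : ℕ) {X Y : C} (f : X ⟶ Y) :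
    (G₃.rightDerived n).map f ≫ δApp α β w hex n Y =
      δApp α β w hex n X ≫ (G₁.rightDerived (n + 1)).map f := by
  have hφ : (injectiveResolution X).ι.f 0 ≫
      (InjectiveResolution.desc f (injectiveResolution Y) (injectiveResolution X)).f 0 =
      f ≫ (injectiveResolution Y).ι.f 0 := InjectiveResolution.desc_commutes_zero _ _ _
  have hnat := HomologicalComplex.HomologySequence.δ_naturality
    (scMap α β w (InjectiveResolution.desc f (injectiveResolution Y) (injectiveResolution X)))
    (scX_shortExact α β w hex X) (scX_shortExact α β w hex Y) n (n + 1) rfl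
  have e1 := InjectiveResolution.isoRightDerivedObj_hom_naturality f (injectiveResolution X)
    (injectiveResolution Y) _ hφ G₃ n
  have e2 := InjectiveResolution.isoRightDerivedObj_inv_naturality f (injectiveResolution X)
    (injectiveResolution Y) _ hφ G₁ (n + 1)
  have key : ∀ (δ : (HomologicalComplex.homologyFunctor D (ComplexShape.up ℕ) n).obj
        ((G₃.mapHomologicalComplex (ComplexShape.up ℕ)).obj (injectiveResolution X).cocomplex) ⟶
      (HomologicalComplex.homologyFunctor D (ComplexShape.up ℕ) (n + 1)).obj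
        ((G₁.mapHomologicalComplex (ComplexShape.up ℕ)).obj (injectiveResolution X).cocomplex))
      (δ' : (HomologicalComplex.homologyFunctor D (ComplexShape.up ℕ) n).obj
        ((G₃.mapHomologicalComplex (ComplexShape.up ℕ)).obj (injectiveResolution Y).cocomplex) ⟶
      (HomologicalComplex.homologyFunctor D (ComplexShape.up ℕ) (n + 1)).obj
        ((G₁.mapHomologicalComplex (ComplexShape.up ℕ)).obj (injectiveResolution Y).cocomplex))
      (hδ : δ ≫ (G₁.mapHomologicalComplex (ComplexShape.up ℕ) ⋙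
          HomologicalComplex.homologyFunctor D (ComplexShape.up ℕ) (n + 1)).map
            (InjectiveResolution.desc f (injectiveResolution Y) (injectiveResolution X)) =
        (G₃.mapHomologicalComplex (ComplexShape.up ℕ) ⋙
          HomologicalComplex.homologyFunctor D (ComplexShape.up ℕ) n).map
            (InjectiveResolution.desc f (injectiveResolution Y) (injectiveResolution X)) ≫ δ'),
      (G₃.rightDerived n).map f ≫ ((injectiveResolution Y).isoRightDerivedObj G₃ n).hom ≫ δ' ≫
        ((injectiveResolution Y).isoRightDerivedObj G₁ (n + 1)).inv =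
      (((injectiveResolution X).isoRightDerivedObj G₃ n).hom ≫ δ ≫
        ((injectiveResolution X).isoRightDerivedObj G₁ (n + 1)).inv) ≫
        (G₁.rightDerived (n + 1)).map f := by
    intro δ δ' hδ
    rw [reassoc_of% e1, Category.assoc, Category.assoc, e2]
    congr 1
    rw [← Category.assoc, ← Category.assoc]
    congr 1
    exact hδ.symm
  exact key _ _ hnat

/-- the connecting natural transformation `RⁿG₃ ⟶ Rⁿ⁺¹G₁` -/
noncomputable def δ (n : ℕ) : G₃.rightDerived n ⟶ G₁.rightDerived (n + 1) where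
  app X := δApp α β w hex n X
  naturality _ _ f := δApp_naturality α β w hex n f


lemma δ_app (n : ℕ) (X : C) : (δ α β w hex n).app X = δApp α β w hex n X := rfl

lemma δApp_eq (n : ℕ) (X : C) : δApp α β w hex n X =
  ((injectiveResolution X).isoRightDerivedObj G₃ n).hom ≫
    (scX_shortExact α β w hex X).δ n (n + 1) rfl ≫
    ((injectiveResolution X).isoRightDerivedObj G₁ (n + 1)).inv := rfl

lemma rightDerived_β_eq (n : ℕ) (X : C) : (NatTrans.rightDerived β n).app X =
    ((injectiveResolution X).isoRightDerivedObj G₂ n).hom ≫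
      HomologicalComplex.homologyMap (sc α β w (injectiveResolution X).cocomplex).g n ≫
      ((injectiveResolution X).isoRightDerivedObj G₃ n).inv :=
  InjectiveResolution.rightDerived_app_eq β (injectiveResolution X) n

lemma rightDerived_α_eq (n : ℕ) (X : C) : (NatTrans.rightDerived α n).app X =
    ((injectiveResolution X).isoRightDerivedObj G₁ n).hom ≫
      HomologicalComplex.homologyMap (sc α β w (injectiveResolution X).cocomplex).f n ≫
      ((injectiveResolution X).isoRightDerivedObj G₂ n).inv :=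
  InjectiveResolution.rightDerived_app_eq α (injectiveResolution X) n

section aux
variable {E : Type*} [Category E] [Abelian E]

lemma aux_zero {A₁ A₂ A₃ B₁ B₂ B₃ : E} (e₁ : A₁ ≅ B₁) (e₂ : A₂ ≅ B₂) (e₃ : A₃ ≅ B₃)
    (f : B₁ ⟶ B₂) (g : B₂ ⟶ B₃) (h : f ≫ g = 0) :
    (e₁.hom ≫ f ≫ e₂.inv) ≫ (e₂.hom ≫ g ≫ e₃.inv) = 0 := by
  simp [reassoc_of% h]

lemma aux_exact {A₁ A₂ A₃ B₁ B₂ B₃ : E} (e₁ : A₁ ≅ B₁) (e₂ : A₂ ≅ B₂) (e₃ : A₃ ≅ B₃)
    (f : B₁ ⟶ B₂) (g : B₂ ⟶ B₃) (h : f ≫ g = 0) (hex : (ShortComplex.mk f g h).Exact) :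
    (ShortComplex.mk (e₁.hom ≫ f ≫ e₂.inv) (e₂.hom ≫ g ≫ e₃.inv)
      (aux_zero e₁ e₂ e₃ f g h)).Exact := by
  refine ShortComplex.exact_of_iso ?_ hex
  exact ShortComplex.isoMk e₁.symm e₂.symm e₃.symm (by simp) (by simp)

end aux

lemma β_comp_δApp (n : ℕ) (X : C) :
    (NatTrans.rightDerived β n).app X ≫ δApp α β w hex n X = 0 := by
  rw [rightDerived_β_eq α β w, δApp_eq]
  exact aux_zero _ _ _ _ _ ((scX_shortExact α β w hex X).comp_δ n (n + 1) rfl)

lemma δApp_comp_α (n : ℕ) (X : C) :
    δApp α β w hex n X ≫ (NatTrans.rightDerived α (n + 1)).app X = 0 := by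
  rw [rightDerived_α_eq α β w, δApp_eq]
  exact aux_zero _ _ _ _ _ ((scX_shortExact α β w hex X).δ_comp n (n + 1) rfl)

lemma exact₃ (n : ℕ) (X : C) :
    (ShortComplex.mk _ _ (β_comp_δApp α β w hex n X)).Exact := by
  have := aux_exact ((injectiveResolution X).isoRightDerivedObj G₂ n)
    ((injectiveResolution X).isoRightDerivedObj G₃ n)
    ((injectiveResolution X).isoRightDerivedObj G₁ (n + 1)) _ _ _
    ((scX_shortExact α β w hex X).homology_exact₃ n (n + 1) rfl)
  refine ShortComplex.exact_of_iso ?_ this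
  exact ShortComplex.isoMk (Iso.refl _) (Iso.refl _) (Iso.refl _)
    (by dsimp; rw [rightDerived_β_eq α β w]; simp; rfl)
    (by dsimp; rw [δApp_eq]; simp; rfl)

lemma exact₁ (n : ℕ) (X : C) :
    (ShortComplex.mk _ _ (δApp_comp_α α β w hex n X)).Exact := by
  have := aux_exact ((injectiveResolution X).isoRightDerivedObj G₃ n)
    ((injectiveResolution X).isoRightDerivedObj G₁ (n + 1))
    ((injectiveResolution X).isoRightDerivedObj G₂ (n + 1)) _ _ _
    ((scX_shortExact α β w hex X).homology_exact₁ n (n + 1) rfl)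
  refine ShortComplex.exact_of_iso ?_ this
  exact ShortComplex.isoMk (Iso.refl _) (Iso.refl _) (Iso.refl _)
    (by dsimp; rw [δApp_eq]; simp; rfl)
    (by dsimp; rw [rightDerived_α_eq α β w]; simp; rfl)

include w in
lemma α_comp_β (n : ℕ) (X : C) :
    (NatTrans.rightDerived α n).app X ≫ (NatTrans.rightDerived β n).app X = 0 := by
  rw [rightDerived_α_eq α β w, rightDerived_β_eq α β w]
  have h : HomologicalComplex.homologyMap (sc α β w (injectiveResolution X).cocomplex).f n ≫
      HomologicalComplex.homologyMap (sc α β w (injectiveResolution X).cocomplex).g n = 0 := by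
    rw [← HomologicalComplex.homologyMap_comp, (sc α β w _).zero,
      HomologicalComplex.homologyMap_zero]
  exact aux_zero _ _ _ _ _ h

include hex in
lemma exact₂ (n : ℕ) (X : C) :
    (ShortComplex.mk _ _ (α_comp_β α β w n X)).Exact := by
  have := aux_exact ((injectiveResolution X).isoRightDerivedObj G₁ n)
    ((injectiveResolution X).isoRightDerivedObj G₂ n)
    ((injectiveResolution X).isoRightDerivedObj G₃ n) _ _ _
    ((scX_shortExact α β w hex X).homology_exact₂ n)
  refine ShortComplex.exact_of_iso ?_ this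
  exact ShortComplex.isoMk (Iso.refl _) (Iso.refl _) (Iso.refl _)
    (by dsimp; rw [rightDerived_α_eq α β w]; simp; rfl)
    (by dsimp; rw [rightDerived_β_eq α β w]; simp; rfl)


/-- objectwise exactness implies exactness in a functor category -/
lemma exact_of_evaluation' {J : Type*} [Category J] {B : Type*} [Category B] [Abelian B]
    (S : ShortComplex (J ⥤ B)) (h : ∀ W : J, (S.map ((evaluation J B).obj W)).Exact) :
    S.Exact := by
  rw [ShortComplex.exact_iff_isZero_homology, Functor.isZero_iff]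
  intro W
  have := h W
  rw [ShortComplex.exact_iff_isZero_homology] at this
  exact this.of_iso (S.mapHomologyIso ((evaluation J B).obj W)).symm

lemma mono_δApp (n : ℕ) (X : C) (h₀ : IsZero ((G₂.rightDerived n).obj X)) :
    Mono (δApp α β w hex n X) :=
  (exact₃ α β w hex n X).mono_g (h₀.eq_of_src _ _)

lemma epi_δApp (n : ℕ) (X : C) (h₁ : IsZero ((G₂.rightDerived (n + 1)).obj X)) :
    Epi (δApp α β w hex n X) :=
  (exact₁ α β w hex n X).epi_f (h₁.eq_of_tgt _ _)

lemma isIso_δ (n : ℕ) (h₀ : ∀ X, IsZero ((G₂.rightDerived n).obj X))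
    (h₁ : ∀ X, IsZero ((G₂.rightDerived (n + 1)).obj X)) : IsIso (δ α β w hex n) := by
  rw [NatTrans.isIso_iff_isIso_app]
  intro X
  have := mono_δApp α β w hex n X (h₀ X)
  have := epi_δApp α β w hex n X (h₁ X)
  exact isIso_of_mono_of_epi (δApp α β w hex n X)

/-- `RⁿG₃ ≅ Rⁿ⁺¹G₁` when `RⁿG₂ = Rⁿ⁺¹G₂ = 0`. -/
noncomputable def δIso (n : ℕ) (h₀ : ∀ X, IsZero ((G₂.rightDerived n).obj X))
    (h₁ : ∀ X, IsZero ((G₂.rightDerived (n + 1)).obj X)) :
    G₃.rightDerived n ≅ G₁.rightDerived (n + 1) :=
  haveI := isIso_δ α β w hex n h₀ h₁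
  asIso (δ α β w hex n)

lemma β_comp_δ (n : ℕ) : NatTrans.rightDerived β n ≫ δ α β w hex n = 0 := by
  ext X
  exact β_comp_δApp α β w hex n X

/-- `R¹G₁ ≅ coker (R⁰β)` when `R¹G₂ = 0`. -/
noncomputable def cokernelIso (h₁ : ∀ X, IsZero ((G₂.rightDerived 1).obj X)) :
    cokernel (NatTrans.rightDerived β 0) ≅ G₁.rightDerived 1 := by
  have hS : (ShortComplex.mk _ _ (β_comp_δ α β w hex 0)).Exact :=
    exact_of_evaluation' _ (fun X => exact₃ α β w hex 0 X)
  haveI : Epi (δ α β w hex 0) := by
    haveI : ∀ X, Epi ((δ α β w hex 0).app X) := fun X => epi_δApp α β w hex 0 X (h₁ X)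
    exact NatTrans.epi_of_epi_app _
  exact IsColimit.coconePointUniqueUpToIso (cokernelIsCokernel _) hS.gIsCokernel

lemma toRightDerivedZero_naturality {F G : C ⥤ D} [F.Additive] [G.Additive] (γ : F ⟶ G) :
    γ ≫ G.toRightDerivedZero = F.toRightDerivedZero ≫ NatTrans.rightDerived γ 0 := by
  ext X
  rw [NatTrans.comp_app, NatTrans.comp_app,
    (injectiveResolution X).toRightDerivedZero_eq F, (injectiveResolution X).toRightDerivedZero_eq G,
    InjectiveResolution.rightDerived_app_eq γ (injectiveResolution X) 0]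
  have h1 : γ.app X ≫ (injectiveResolution X).toRightDerivedZero' G =
      (injectiveResolution X).toRightDerivedZero' F ≫
        HomologicalComplex.cyclesMap
          ((NatTrans.mapHomologicalComplex γ _).app (injectiveResolution X).cocomplex) 0 := by
    rw [← cancel_mono (HomologicalComplex.iCycles _ _)]
    simp
    exact (γ.naturality _).symm
  have h2 := HomologicalComplex.homologyπ_naturality
    ((NatTrans.mapHomologicalComplex γ (ComplexShape.up ℕ)).app (injectiveResolution X).cocomplex) 0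
  have key : ∀ {A₁ A₂ B₁ B₂ : D} (e₁ : A₁ ≅ B₁) (e₂ : A₂ ≅ B₂) {Z₁ Z₂ : D} (a : F.obj X ⟶ Z₁)
      (b : G.obj X ⟶ Z₂) (c : Z₁ ⟶ Z₂) (p₁ : Z₁ ⟶ B₁) (p₂ : Z₂ ⟶ B₂) (m : B₁ ⟶ B₂)
      (_ : γ.app X ≫ b = a ≫ c) (_ : p₁ ≫ m = c ≫ p₂),
      γ.app X ≫ b ≫ p₂ ≫ e₂.inv = (a ≫ p₁ ≫ e₁.inv) ≫ e₁.hom ≫ m ≫ e₂.inv := by
    intro A₁ A₂ B₁ B₂ e₁ e₂ Z₁ Z₂ a b c p₁ p₂ m h h'
    simp only [Category.assoc, Iso.inv_hom_id_assoc]
    rw [reassoc_of% h, reassoc_of% h']
  exact key _ _ _ _ _ _ _ _ h1 h2

end FunLES

end Groth.Agent.Lib.helper27
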