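import Mathlib
import Groth.Agent.Lib.Helper27.SerreVan3

set_option autoImplicit false
set_option linter.unusedVariables false
set_option linter.unusedSectionVars false

namespace Groth.Agent.Lib.helper27

open CategoryTheory Limits Opposite TopologicalSpace AlgebraicGeometry

universe u

namespace SerreVan

/-- `H^0(⊥, F) = 0` -/
lemma subsingleton_HU_zero_bot {X : TopCat.{u}} (F : CohTop.Ab X) :
    Subsingleton (CohTop.HU F 0 ⊥) := by
  have h1 : Subsingleton (F.obj.obj (op (⊥ : Opens X))) := by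
    have ht : IsTerminal (F.obj.obj (op (⊥ : Opens X))) := TopCat.Sheaf.isTerminalOfEmpty F
    have hz : IsZero (F.obj.obj (op (⊥ : Opens X))) := by
      rw [IsZero.iff_id_eq_zero]
      exact ht.hom_ext _ _
    exact AddCommGrpCat.subsingleton_of_isZero hz
  have e1 : Abelian.Ext.{u} ((helper7.FreeYoneda.freeSheaf (Opens.grothendieckTopology X)).obj ⊥) F 0 ≃
      F.obj.obj (op (⊥ : Opens X)) :=
    Abelian.Ext.addEquiv₀.toEquiv.trans (helper7.FreeYoneda.homEquiv _ ⊥ F)
  exact e1.subsingleton

/-- Mayer-Vietoris vanishing -/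
lemma subsingleton_HU_sup {X : TopCat.{u}} (F : CohTop.Ab X) (V W : Opens X) (n : ℕ)
    (h₁ : Subsingleton (CohTop.HU F n (V ⊓ W))) (h₂ : Subsingleton (CohTop.HU F (n + 1) V))
    (h₃ : Subsingleton (CohTop.HU F (n + 1) W)) :
    Subsingleton (CohTop.HU F (n + 1) (V ⊔ W)) := by
  let S := Opens.mayerVietorisSquare V W
  have hex := (S.sequence_exact F n (n + 1) rfl).exact 2
  have hz₁ : IsZero (F.H' n S.X₁) := @AddCommGrpCat.isZero_of_subsingleton _ h₁
  have hz₂ : IsZero (F.H' (n + 1) S.X₂) := @AddCommGrpCat.isZero_of_subsingleton _ h₂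
  have hz₃ : IsZero (F.H' (n + 1) S.X₃) := @AddCommGrpCat.isZero_of_subsingleton _ h₃
  have hz : IsZero (F.H' (n + 1) S.X₄) := by
    refine hex.isZero_of_both_zeros (hz₁.eq_of_src _ _) ?_
    apply biprod.hom_ext
    · exact hz₂.eq_of_tgt _ _
    · exact hz₃.eq_of_tgt _ _
  exact AddCommGrpCat.subsingleton_of_isZero hz

lemma iSup_fin_succ {α : Type*} [CompleteLattice α] {t : ℕ} (U : Fin (t + 1) → α) :
    (⨆ i, U i) = (⨆ i : Fin t, U i.castSucc) ⊔ U (Fin.last t) := by
  apply le_antisymm
  · refine iSup_le (fun i => ?_)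
    refine Fin.lastCases ?_ (fun j => ?_) i
    · exact le_sup_right
    · exact (le_iSup (fun j : Fin t => U j.castSucc) j).trans le_sup_left
  · exact sup_le (iSup_le fun j => le_iSup U j.castSucc) (le_iSup U (Fin.last t))

/-- vanishing of cohomology above the number of affine opens covering an open, when affine opens
have affine intersections -/
theorem subsingleton_HU_iSup {X : Scheme.{u}}
    (hd : ∀ V W : X.Opens, IsAffineOpen V → IsAffineOpen W → IsAffineOpen (V ⊓ W))
    (M : X.Modules) [M.IsQuasicoherent] :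
    ∀ (t : ℕ) (U : Fin t → X.Opens) (hU : ∀ i, IsAffineOpen (U i)) (n : ℕ) (hn : t ≤ n),
      Subsingleton (CohTop.HU (Coh.toAb M) n (⨆ i, U i)) := by
  intro t
  induction t with
  | zero =>
    intro U hU n hn
    rw [iSup_of_empty]
    rcases n with _ | n
    · exact subsingleton_HU_zero_bot _
    · exact subsingleton_HU_of_isAffineOpen M ⊥ (isAffineOpen_bot X) n
  | succ t ih =>
    intro U hU n hn
    obtain ⟨m, rfl⟩ : ∃ m, n = m + 1 := ⟨n - 1, by omega⟩
    rw [iSup_fin_succ]
    apply subsingleton_HU_sup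
    · rw [iSup_inf_eq]
      exact ih (fun i => U i.castSucc ⊓ U (Fin.last t))
        (fun i => hd _ _ (hU _) (hU _)) m (by omega)
    · exact ih (fun i => U i.castSucc) (fun i => hU _) (m + 1) (by omega)
    · exact subsingleton_HU_of_isAffineOpen M _ (hU _) m

end SerreVan

end Groth.Agent.Lib.helper27
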