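import Mathlib
import Groth.Agent.Lib.Helper27.SerreVan4
import Groth.Agent.Lib.Helper27.RpushSheafify

set_option autoImplicit false
set_option linter.unusedVariables false
set_option linter.unusedSectionVars false

namespace Groth.Agent.Lib.helper27

open CategoryTheory Limits Opposite TopologicalSpace AlgebraicGeometry

universe u

namespace RpushVanish

/-- the sheafification of a presheaf of abelian groups which vanishes on arbitrarily small
neighbourhoods of every point is zero -/
lemma isZero_sheafify_of_locally_subsingleton {Y : TopCat.{u}}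
    (P : (Opens Y)ᵒᵖ ⥤ AddCommGrpCat.{u})
    (h : ∀ (W : Opens Y) (y : Y), y ∈ W → ∃ V : Opens Y, V ≤ W ∧ y ∈ V ∧
      Subsingleton (P.obj (op V))) :
    IsZero ((presheafToSheaf (Opens.grothendieckTopology Y) AddCommGrpCat.{u}).obj P) := by
  have key : ∀ (G : Sheaf (Opens.grothendieckTopology Y) AddCommGrpCat.{u}) (φ ψ : P ⟶ G.obj),
      φ = ψ := by
    intro G φ ψ
    apply NatTrans.ext
    funext W
    apply AddCommGrpCat.hom_ext
    apply AddMonoidHom.ext
    intro s
    have hG : TopCat.Presheaf.IsSheaf (G.obj : TopCat.Presheaf AddCommGrpCat.{u} Y) := G.property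
    refine TopCat.Presheaf.IsSheaf.section_ext hG (U := W) (fun y hy => ?_)
    obtain ⟨V, hVW, hyV, hsub⟩ := h W.unop y hy
    refine ⟨V, hVW, hyV, ?_⟩
    have h1 := ConcreteCategory.congr_hom (φ.naturality (homOfLE hVW).op) s
    have h2 := ConcreteCategory.congr_hom (ψ.naturality (homOfLE hVW).op) s
    rw [ConcreteCategory.comp_apply, ConcreteCategory.comp_apply] at h1 h2
    show G.obj.map (homOfLE hVW).op (φ.app W s) = G.obj.map (homOfLE hVW).op (ψ.app W s)
    rw [← h1, ← h2, Subsingleton.elim (P.map (homOfLE hVW).op s) 0, map_zero, map_zero]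
  rw [IsZero.iff_id_eq_zero]
  apply ((sheafificationAdjunction (Opens.grothendieckTopology Y) AddCommGrpCat.{u}).homEquiv
    P _).injective
  exact key _ _ _

/-- **Relative affine vanishing**. -/
theorem isZero_RpushAb {X S : Scheme.{u}} (f : X ⟶ S) [IsAffineHom f]
    (M : X.Modules) [M.IsQuasicoherent] (i : ℕ) :
    IsZero ((Coh.RpushAb f (i + 1)).obj (Coh.toAb M)) := by
  obtain ⟨e⟩ := RpushSheafify.rpush_iso_top f.base (Coh.toAb M) (i + 1)
  refine IsZero.of_iso ?_ e
  apply isZero_sheafify_of_locally_subsingleton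
  intro W y hy
  obtain ⟨V, hV, hyV, hVW⟩ := (Opens.isBasis_iff_nbhd.1 S.isBasis_affineOpens) hy
  refine ⟨V, hVW, hyV, ?_⟩
  exact SerreVan.subsingleton_HU_of_isAffineOpen M (f ⁻¹ᵁ V) (IsAffineOpen.preimage hV f) i

end RpushVanish

end Groth.Agent.Lib.helper27
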