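import Mathlib
import Groth.Prelude.Def_CohCx
import Groth.Agent.Lib.Helper27.CechCartan

set_option autoImplicit false
set_option linter.unusedVariables false
set_option linter.unusedSectionVars false

namespace Groth.Agent.Lib.helper27

open CategoryTheory Limits Opposite Abelian Groth.Agent.Lib.helper7

universe u

namespace SieveExt

variable {C : Type u} [SmallCategory C] (J : GrothendieckTopology C)

/-- the underlying presheaf of an abelian sheaf, as a sheaf for the trivial topology -/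
noncomputable abbrev ι : Sheaf J AddCommGrpCat.{u} ⥤ Sheaf (⊥ : GrothendieckTopology C) AddCommGrpCat.{u} :=
  sheafToPresheaf J AddCommGrpCat.{u} ⋙ (sheafBotEquivalence AddCommGrpCat.{u}).inverse

/-- sheafification of a presheaf (viewed as a sheaf for the trivial topology) -/
noncomputable abbrev a : Sheaf (⊥ : GrothendieckTopology C) AddCommGrpCat.{u} ⥤ Sheaf J AddCommGrpCat.{u} :=
  (sheafBotEquivalence AddCommGrpCat.{u}).functor ⋙ presheafToSheaf J AddCommGrpCat.{u}

noncomputable def adj : a J ⊣ ι J :=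
  (sheafBotEquivalence AddCommGrpCat.{u}).toAdjunction.comp
    (sheafificationAdjunction J AddCommGrpCat.{u})

instance : (ι J).Additive where
  map_add := rfl

instance : PreservesFiniteLimits (ι J) := by
  have : PreservesLimits (ι J) := (adj J).rightAdjoint_preservesLimits
  infer_instance

instance : (a J).PreservesMonomorphisms := by
  infer_instance

lemma injective_ι (I : Sheaf J AddCommGrpCat.{u}) [Injective I] : Injective ((ι J).obj I) :=
  Injective.injective_of_adjoint (adj J) I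

section fam

variable {X : C} (R : Sieve X)

/-- the free abelian presheaf on a sieve, as a sheaf for the trivial topology -/
noncomputable abbrev ZR : Sheaf (⊥ : GrothendieckTopology C) AddCommGrpCat.{u} :=
  (presheafToSheaf (⊥ : GrothendieckTopology C) AddCommGrpCat.{u}).obj
    (R.functor ⋙ AddCommGrpCat.free.{u})

/-- morphisms out of `ZR R` are natural families indexed by the sieve -/
noncomputable def famEquiv (A : Sheaf (⊥ : GrothendieckTopology C) AddCommGrpCat.{u}) :
    (ZR R ⟶ A) ≃ (R.functor ⟶ A.obj ⋙ forget AddCommGrpCat.{u}) :=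
  ((sheafificationAdjunction (⊥ : GrothendieckTopology C) AddCommGrpCat.{u}).homEquiv _ A).trans
    ((AddCommGrpCat.adj.whiskerRight Cᵒᵖ).homEquiv R.functor A.obj)

lemma famEquiv_naturality {A B : Sheaf (⊥ : GrothendieckTopology C) AddCommGrpCat.{u}}
    (φ : ZR R ⟶ A) (α : A ⟶ B) :
    famEquiv R B (φ ≫ α) = famEquiv R A φ ≫ Functor.whiskerRight α.hom (forget AddCommGrpCat.{u}) := by
  dsimp only [famEquiv, Equiv.trans_apply]
  rw [Adjunction.homEquiv_naturality_right, Adjunction.homEquiv_naturality_right]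
  rfl

/-- the member of the family attached to an arrow of the sieve -/
noncomputable def fam {A : Sheaf (⊥ : GrothendieckTopology C) AddCommGrpCat.{u}} (φ : ZR R ⟶ A)
    {U : C} (f : U ⟶ X) (hf : R f) : A.obj.obj (op U) :=
  (famEquiv R A φ).app (op U) ⟨f, hf⟩

lemma fam_comp {A B : Sheaf (⊥ : GrothendieckTopology C) AddCommGrpCat.{u}}
    (φ : ZR R ⟶ A) (α : A ⟶ B) {U : C} (f : U ⟶ X) (hf : R f) :
    fam R (φ ≫ α) f hf = α.hom.app (op U) (fam R φ f hf) := by
  unfold fam
  rw [famEquiv_naturality]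
  rfl

lemma fam_map {A : Sheaf (⊥ : GrothendieckTopology C) AddCommGrpCat.{u}} (φ : ZR R ⟶ A)
    {U V : C} (f : U ⟶ X) (hf : R f) (h : V ⟶ U) :
    A.obj.map h.op (fam R φ f hf) = fam R φ (h ≫ f) (R.downward_closed hf h) := by
  have := NatTrans.naturality_apply (famEquiv R A φ) h.op ⟨f, hf⟩
  exact this.symm

lemma fam_ext {A : Sheaf (⊥ : GrothendieckTopology C) AddCommGrpCat.{u}} (φ ψ : ZR R ⟶ A)
    (h : ∀ (U : C) (f : U ⟶ X) (hf : R f), fam R φ f hf = fam R ψ f hf) : φ = ψ := by
  apply (famEquiv R A).injective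
  ext U ⟨f, hf⟩
  exact h U.unop f hf

/-- construct a morphism out of `ZR R` from a compatible family -/
lemma exists_fam (A : Sheaf (⊥ : GrothendieckTopology C) AddCommGrpCat.{u})
    (x : ∀ (U : C) (f : U ⟶ X), R f → A.obj.obj (op U))
    (hx : ∀ (U V : C) (f : U ⟶ X) (hf : R f) (h : V ⟶ U),
      A.obj.map h.op (x U f hf) = x V (h ≫ f) (R.downward_closed hf h)) :
    ∃ φ : ZR R ⟶ A, ∀ (U : C) (f : U ⟶ X) (hf : R f), fam R φ f hf = x U f hf := by
  let τ : R.functor ⟶ A.obj ⋙ forget AddCommGrpCat.{u} :=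
    { app := fun U => ↾ fun g => x U.unop g.1 g.2
      naturality := by
        intro U V h
        ext ⟨f, hf⟩
        exact (hx U.unop V.unop f hf h.unop).symm }
  refine ⟨(famEquiv R A).symm τ, fun U f hf => ?_⟩
  unfold fam
  rw [Equiv.apply_symm_apply]
  rfl

end fam

/-- gluing along a covering sieve -/
lemma glue_sieve (G : Sheaf J AddCommGrpCat.{u}) {X : C} (R : Sieve X) (hR : R ∈ J X)
    (x : ∀ (U : C) (f : U ⟶ X), R f → G.obj.obj (op U))
    (hx : ∀ (U V : C) (f : U ⟶ X) (hf : R f) (h : V ⟶ U),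
      G.obj.map h.op (x U f hf) = x V (h ≫ f) (R.downward_closed hf h)) :
    ∃! t : G.obj.obj (op X), ∀ (U : C) (f : U ⟶ X) (hf : R f), G.obj.map f.op t = x U f hf := by
  let I : Type u := Σ U : C, {f : U ⟶ X // R f}
  have hgen : Sieve.ofArrows (fun i : I => i.1) (fun i : I => i.2.1) = R := by
    apply le_antisymm
    · rw [Sieve.ofArrows, Sieve.generate_le_iff]
      rintro U f ⟨i⟩
      exact i.2.2
    · intro U f hf
      exact Sieve.ofArrows_mk _ _ (⟨U, f, hf⟩ : I)
  obtain ⟨t, ht, huniq⟩ := CechSite.glue_arrows J G (fun i : I => i.1) (fun i : I => i.2.1)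
    (by rw [hgen]; exact hR) (fun i => x i.1 i.2.1 i.2.2) (by
      intro i j Z gi gj hij
      rw [hx _ _ _ i.2.2 gi, hx _ _ _ j.2.2 gj]
      congr 1)
  refine ⟨t, fun U f hf => ht ⟨U, f, hf⟩, fun t' ht' => huniq t' (fun i => ht' i.1 i.2.1 i.2.2)⟩

lemma injective_of_mono {A B : Sheaf (⊥ : GrothendieckTopology C) AddCommGrpCat.{u}} (m : A ⟶ B)
    [Mono m] (U : C) : Function.Injective (m.hom.app (op U)) := by
  have h1 : Mono ((sheafToPresheaf (⊥ : GrothendieckTopology C) AddCommGrpCat.{u}).map m) :=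
    inferInstance
  have h2 : Mono (((sheafToPresheaf (⊥ : GrothendieckTopology C) AddCommGrpCat.{u}).map m).app
      (op U)) := inferInstance
  exact (AddCommGrpCat.mono_iff_injective _).1 h2

lemma epi_of_surjective {A B : Sheaf (⊥ : GrothendieckTopology C) AddCommGrpCat.{u}} (m : A ⟶ B)
    (h : ∀ U : C, Function.Surjective (m.hom.app (op U))) : Epi m := by
  have h1 : ∀ U : Cᵒᵖ, Epi (((sheafToPresheaf (⊥ : GrothendieckTopology C)
      AddCommGrpCat.{u}).map m).app U) := fun U =>
    (AddCommGrpCat.epi_iff_surjective _).2 (h U.unop)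
  have h2 : Epi ((sheafToPresheaf (⊥ : GrothendieckTopology C) AddCommGrpCat.{u}).map m) :=
    NatTrans.epi_of_epi_app _
  exact (sheafToPresheaf (⊥ : GrothendieckTopology C) AddCommGrpCat.{u}).epi_of_epi_map h2

section extlemmas

universe w v' u'

variable {𝒜 : Type u'} [Category.{v'} 𝒜] [Abelian 𝒜] [HasExt.{w} 𝒜]

lemma ext_succ_eq_zero (S : ShortComplex 𝒜) (hS : S.ShortExact) (hI : Injective S.X₂) (Z : 𝒜)
    (n : ℕ) (h : ∀ x : Ext.{w} Z S.X₃ (n + 1), x = 0) :
    ∀ x : Ext.{w} Z S.X₁ (n + 2), x = 0 := by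
  intro x'
  obtain ⟨x₃, rfl⟩ := Ext.covariant_sequence_exact₁ _ hS x'
    (Ext.eq_zero_of_injective _) (rfl : (n + 1) + 1 = n + 2)
  rw [h x₃, Ext.zero_comp]

lemma ext_one_eq_zero (S : ShortComplex 𝒜) (hS : S.ShortExact) (hI : Injective S.X₂) (Z : 𝒜)
    (h : ∀ b : Z ⟶ S.X₃, ∃ c : Z ⟶ S.X₂, c ≫ S.g = b) :
    ∀ x : Ext.{w} Z S.X₁ 1, x = 0 := by
  intro x'
  obtain ⟨x₃, rfl⟩ := Ext.covariant_sequence_exact₁ _ hS x'
    (Ext.eq_zero_of_injective _) (zero_add 1)
  obtain ⟨b, rfl⟩ := (Ext.mk₀_bijective _ _).2 x₃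
  obtain ⟨c, rfl⟩ := h b
  rw [← Ext.mk₀_comp_mk₀, Ext.comp_assoc_of_second_deg_zero, hS.comp_extClass, Ext.comp_zero]

lemma ext_X₃_eq_zero (S : ShortComplex 𝒜) (hS : S.ShortExact) (hI : Injective S.X₂) (Z : 𝒜)
    (n : ℕ) (h : ∀ x : Ext.{w} Z S.X₁ (n + 2), x = 0) :
    ∀ x : Ext.{w} Z S.X₃ (n + 1), x = 0 := by
  intro x
  obtain ⟨x₂, rfl⟩ := Ext.covariant_sequence_exact₃ _ hS x rfl (h _)
  rw [Ext.eq_zero_of_injective x₂, Ext.zero_comp]

lemma lift_of_ext_one (S : ShortComplex 𝒜) (hS : S.ShortExact) (Z : 𝒜)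
    (h : ∀ x : Ext.{w} Z S.X₁ 1, x = 0) (b : Z ⟶ S.X₃) : ∃ c : Z ⟶ S.X₂, c ≫ S.g = b := by
  obtain ⟨x₂, hx₂⟩ := Ext.covariant_sequence_exact₃ _ hS (Ext.mk₀ b) rfl (h _)
  obtain ⟨c, rfl⟩ := (Ext.mk₀_bijective _ _).2 x₂
  rw [Ext.mk₀_comp_mk₀] at hx₂
  exact ⟨c, (Ext.mk₀_bijective _ _).1 hx₂⟩

end extlemmas

lemma mono_ι_map (S : ShortComplex (Sheaf J AddCommGrpCat.{u})) (hS : S.ShortExact) :
    (S.map (ι J)).Exact ∧ Mono ((ι J).map S.f) := by
  have hΓ : PreservesFiniteLimits (ι J) := inferInstance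
  have key : ∀ (S : ShortComplex (Sheaf J AddCommGrpCat.{u})), S.ShortExact →
      (S.map (ι J)).Exact ∧ Mono ((ι J).map S.f) :=
    ((Functor.preservesFiniteLimits_tfae (ι J)).out 3 0).1 hΓ
  exact key S hS

lemma map_ι_shortExact (S : ShortComplex (Sheaf J AddCommGrpCat.{u})) (hS : S.ShortExact)
    (hsurj : ∀ U : C, Function.Surjective (S.g.hom.app (op U))) : (S.map (ι J)).ShortExact := by
  obtain ⟨hex, hm⟩ := mono_ι_map J S hS
  exact ShortComplex.ShortExact.mk' hex hm (epi_of_surjective _ hsurj)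

variable [HasExt.{u} (Sheaf J AddCommGrpCat.{u})]
  [HasExt.{u} (Sheaf (⊥ : GrothendieckTopology C) AddCommGrpCat.{u})]

/-- the class of sheaves acyclic on all objects -/
def AcycObj (F : Sheaf J AddCommGrpCat.{u}) : Prop :=
  ∀ (X : C) (q : ℕ), Subsingleton (Ext.{u} ((FreeYoneda.freeSheaf J).obj X) F (q + 1))

/-- vanishing of the presheaf `Ext` groups out of covering sieves -/
def SieveAcyc (F : Sheaf J AddCommGrpCat.{u}) : Prop :=
  ∀ (X : C) (R : Sieve X), R ∈ J X → ∀ (q : ℕ) (x : Ext.{u} (ZR R) ((ι J).obj F) (q + 1)), x = 0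

lemma acycObj_X₃ (S : ShortComplex (Sheaf J AddCommGrpCat.{u})) (hS : S.ShortExact)
    (h₁ : AcycObj J S.X₁) (hI : Injective S.X₂) : AcycObj J S.X₃ := by
  intro X q
  refine subsingleton_of_forall_eq 0 (fun x => ?_)
  have := h₁ X (q + 1)
  obtain ⟨x₂, rfl⟩ := Ext.covariant_sequence_exact₃ _ hS x rfl (Subsingleton.elim _ _)
  rw [Ext.eq_zero_of_injective x₂, Ext.zero_comp]

theorem forward : ∀ (q : ℕ) (F : Sheaf J AddCommGrpCat.{u}), AcycObj J F →
    ∀ (X : C) (R : Sieve X), R ∈ J X → ∀ x : Ext.{u} (ZR R) ((ι J).obj F) (q + 1), x = 0 := by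
  intro q
  induction q with
  | zero =>
    intro F hF X R hR
    let S := CechSite.resS J F
    have hS := CechSite.resS_shortExact J F
    have hsurj : ∀ U : C, Function.Surjective (S.g.hom.app (op U)) := fun U =>
      CechLeray.surjective_of_ext_one J S hS U (hF U 0)
    have hιS := map_ι_shortExact J S hS hsurj
    have hI : Injective (S.map (ι J)).X₂ := injective_ι J S.X₂
    apply ext_one_eq_zero (S.map (ι J)) hιS hI (ZR R)
    intro b
    obtain ⟨s, hs, -⟩ := glue_sieve J S.X₃ R hR (fun U f hf => fam R b f hf)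
      (fun U V f hf h => fam_map R b f hf h)
    obtain ⟨t, ht⟩ := hsurj X s
    obtain ⟨c, hc⟩ : ∃ c : ZR R ⟶ (S.map (ι J)).X₂, ∀ (U : C) (f : U ⟶ X) (hf : R f),
        fam R c f hf = S.X₂.obj.map f.op t :=
      exists_fam R ((ι J).obj S.X₂) (fun U f hf => S.X₂.obj.map f.op t) (by
        intro U V f hf h
        show S.X₂.obj.map h.op (S.X₂.obj.map f.op t) = S.X₂.obj.map (h ≫ f).op t
        rw [op_comp, Functor.map_comp, ConcreteCategory.comp_apply])
    refine ⟨c, ?_⟩
    apply fam_ext R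
    intro U f hf
    rw [fam_comp, hc, ← hs U f hf, ← ht]
    exact NatTrans.naturality_apply S.g.hom f.op t
  | succ q ih =>
    intro F hF X R hR
    let S := CechSite.resS J F
    have hS := CechSite.resS_shortExact J F
    have hsurj : ∀ U : C, Function.Surjective (S.g.hom.app (op U)) := fun U =>
      CechLeray.surjective_of_ext_one J S hS U (hF U 0)
    have hιS := map_ι_shortExact J S hS hsurj
    have hI : Injective (S.map (ι J)).X₂ := injective_ι J S.X₂
    have hQ : AcycObj J S.X₃ := acycObj_X₃ J S hS hF inferInstance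
    exact ext_succ_eq_zero (S.map (ι J)) hιS hI (ZR R) q (ih S.X₃ hQ X R hR)

omit [HasExt.{u} (Sheaf J AddCommGrpCat.{u})]
  [HasExt.{u} (Sheaf (⊥ : GrothendieckTopology C) AddCommGrpCat.{u})] in
lemma comp_app_apply {A B D : Sheaf (⊥ : GrothendieckTopology C) AddCommGrpCat.{u}} (f : A ⟶ B)
    (g : B ⟶ D) (U : C) (x : A.obj.obj (op U)) :
    (f ≫ g).hom.app (op U) x = g.hom.app (op U) (f.hom.app (op U) x) := rfl

omit [HasExt.{u} (Sheaf J AddCommGrpCat.{u})] in
/-- key step: sections lift along an epimorphism of sheaves if the first presheaf `Ext` groups of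
the kernel out of covering sieves vanish -/
lemma surj_of_sieveExt_one (S : ShortComplex (Sheaf J AddCommGrpCat.{u})) (hS : S.ShortExact)
    (h : ∀ (X : C) (R : Sieve X), R ∈ J X → ∀ x : Ext.{u} (ZR R) ((ι J).obj S.X₁) 1, x = 0)
    (X : C) : Function.Surjective (S.g.hom.app (op X)) := by
  intro s
  have hepi : Epi S.g := hS.epi_g
  have hls : Sheaf.IsLocallySurjective S.g :=
    (Sheaf.isLocallySurjective_iff_epi' (φ := S.g)).2 hepi
  let R : Sieve X := Presheaf.imageSieve S.g.hom s
  have hR : R ∈ J X := Presheaf.imageSieve_mem J S.g.hom (U := op X) s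
  let g' := (ι J).map S.g
  let S' : ShortComplex (Sheaf (⊥ : GrothendieckTopology C) AddCommGrpCat.{u}) :=
    ShortComplex.mk ((ι J).map S.f) (Abelian.factorThruImage g') (by
      rw [← cancel_mono (Abelian.image.ι g'), Category.assoc, Abelian.image.fac, zero_comp,
        ← Functor.map_comp, S.zero, Functor.map_zero])
  have hS' : S'.ShortExact := by
    obtain ⟨hex, hm⟩ := mono_ι_map J S hS
    let φ : S' ⟶ S.map (ι J) :=
      { τ₁ := 𝟙 _
        τ₂ := 𝟙 _
        τ₃ := Abelian.image.ι g'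
        comm₁₂ := by
          show 𝟙 _ ≫ (ι J).map S.f = (ι J).map S.f ≫ 𝟙 _
          rw [Category.id_comp, Category.comp_id]
        comm₂₃ := by
          show 𝟙 _ ≫ (ι J).map S.g = Abelian.factorThruImage g' ≫ Abelian.image.ι g'
          rw [Abelian.image.fac, Category.id_comp] }
    have h1 : Epi φ.τ₁ := inferInstanceAs (Epi (𝟙 _))
    have h2 : IsIso φ.τ₂ := inferInstanceAs (IsIso (𝟙 _))
    have h3 : Mono φ.τ₃ := inferInstanceAs (Mono (Abelian.image.ι g'))
    have hex' : S'.Exact := (ShortComplex.exact_iff_of_epi_of_isIso_of_mono φ).2 hex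
    exact ShortComplex.ShortExact.mk' hex' hm (inferInstanceAs (Epi (Abelian.factorThruImage g')))
  have hfac : ∀ (U : C) (x : S.X₂.obj.obj (op U)),
      (Abelian.image.ι g').hom.app (op U) ((Abelian.factorThruImage g').hom.app (op U) x) =
        S.g.hom.app (op U) x := by
    intro U x
    rw [← comp_app_apply, Abelian.image.fac]
    rfl
  have hex : ∀ (U : C) (f : U ⟶ X), R f →
      ∃ a : S.X₂.obj.obj (op U), S.g.hom.app (op U) a = S.X₃.obj.map f.op s := fun U f hf => hf
  choose a ha using hex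
  obtain ⟨φp, hφp⟩ := exists_fam R S'.X₃
    (fun U f hf => (Abelian.factorThruImage g').hom.app (op U) (a U f hf)) (by
      intro U V f hf k
      apply injective_of_mono (Abelian.image.ι g') V
      have hnat := NatTrans.naturality_apply (Abelian.image.ι g').hom k.op
        ((Abelian.factorThruImage g').hom.app (op U) (a U f hf))
      refine hnat.trans ?_
      rw [hfac, hfac, ha, ha]
      show S.X₃.obj.map k.op (S.X₃.obj.map f.op s) = S.X₃.obj.map (k ≫ f).op s
      rw [op_comp, Functor.map_comp, ConcreteCategory.comp_apply])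
  obtain ⟨c, hc⟩ := lift_of_ext_one S' hS' (ZR R) (h X R hR) φp
  have hg : ∀ (U : C) (f : U ⟶ X) (hf : R f),
      S.g.hom.app (op U) (fam R c f hf) = S.X₃.obj.map f.op s := by
    intro U f hf
    have h1 := fam_comp R c S'.g f hf
    rw [hc, hφp] at h1
    rw [← hfac, ← ha U f hf, ← hfac]
    exact congrArg _ h1.symm
  obtain ⟨t, ht, -⟩ := glue_sieve J S.X₂ R hR (fun U f hf => fam R c f hf)
    (fun U V f hf k => fam_map R c f hf k)
  refine ⟨t, ?_⟩
  obtain ⟨s', -, huniq⟩ := glue_sieve J S.X₃ R hR (fun U f hf => S.X₃.obj.map f.op s) (by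
    intro U V f hf k
    show S.X₃.obj.map k.op (S.X₃.obj.map f.op s) = S.X₃.obj.map (k ≫ f).op s
    rw [op_comp, Functor.map_comp, ConcreteCategory.comp_apply])
  rw [huniq (S.g.hom.app (op X) t) (fun U f hf => by
    rw [← hg U f hf, ← ht U f hf]
    exact (NatTrans.naturality_apply S.g.hom f.op t).symm), huniq s (fun _ _ _ => rfl)]

theorem backward : ∀ (q : ℕ) (F : Sheaf J AddCommGrpCat.{u}), SieveAcyc J F →
    ∀ X : C, Subsingleton (CohSite.HU F (q + 1) X) := by
  intro q
  induction q with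
  | zero =>
    intro F hF X
    let S := CechSite.resS J F
    have hS := CechSite.resS_shortExact J F
    have hsurj := surj_of_sieveExt_one J S hS (fun X R hR x => hF X R hR 0 x) X
    exact CechSite.subsingleton_H_one J S hS inferInstance X hsurj
  | succ q ih =>
    intro F hF X
    let S := CechSite.resS J F
    have hS := CechSite.resS_shortExact J F
    have hsurj : ∀ U : C, Function.Surjective (S.g.hom.app (op U)) := fun U =>
      surj_of_sieveExt_one J S hS (fun X R hR x => hF X R hR 0 x) U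
    have hιS := map_ι_shortExact J S hS hsurj
    have hI : Injective (S.map (ι J)).X₂ := injective_ι J S.X₂
    have hQ : SieveAcyc J S.X₃ := fun X R hR n =>
      ext_X₃_eq_zero (S.map (ι J)) hιS hI (ZR R) n (hF X R hR (n + 1))
    exact CechSite.subsingleton_H_succ J S hS inferInstance X q (ih S.X₃ hQ X)

/-- **SGA 4 V 4.3**: an abelian sheaf is acyclic on all objects iff the presheaf `Ext` groups of its
underlying presheaf out of all covering sieves vanish in positive degrees. -/
theorem acyclic_iff (F : Sheaf J AddCommGrpCat.{u}) :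
    (∀ (X : C) (q : ℕ), Subsingleton (CohSite.HU F (q + 1) X)) ↔
      ∀ (X : C) (R : Sieve X), R ∈ J X → ∀ q : ℕ,
        Subsingleton (CohCx.HK (J := (⊥ : GrothendieckTopology C))
          ⟨R.functor, Presheaf.isSheaf_bot _⟩ ⟨F.obj, Presheaf.isSheaf_bot _⟩ (q + 1)) := by
  constructor
  · intro h X R hR q
    exact subsingleton_of_forall_eq (0 : Ext.{u} (ZR R) ((ι J).obj F) (q + 1))
      (forward J q F h X R hR)
  · intro h X q
    exact backward J q F (fun X R hR n x => @Subsingleton.elim _ (h X R hR n) x 0) X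

end SieveExt

end Groth.Agent.Lib.helper27
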