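import Mathlib
import Groth.Prelude.Def_CohCx
import Groth.Agent.Lib.Helper27.SieveExt

set_option autoImplicit false
set_option linter.unusedVariables false
set_option linter.unusedSectionVars false

namespace Groth.Agent.Lib.helper27

open CategoryTheory Limits Opposite Abelian Groth.Agent.Lib.helper7

universe u

namespace SieveCech

variable {C : Type u} [SmallCategory C]

/-- an epimorphism of sheaves for the trivial topology is surjective on sections -/
lemma surjective_of_epi {A B : Sheaf (⊥ : GrothendieckTopology C) AddCommGrpCat.{u}} (m : A ⟶ B)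
    [Epi m] (U : C) : Function.Surjective (m.hom.app (op U)) := by
  have he : (sheafToPresheaf (⊥ : GrothendieckTopology C) AddCommGrpCat.{u}).IsEquivalence :=
    (sheafBotEquivalence AddCommGrpCat.{u}).isEquivalence_functor
  have h1 : Epi ((sheafToPresheaf (⊥ : GrothendieckTopology C) AddCommGrpCat.{u}).map m) :=
    inferInstance
  have h2 : Epi (((sheafToPresheaf (⊥ : GrothendieckTopology C) AddCommGrpCat.{u}).map m).app
      (op U)) := inferInstance
  exact (AddCommGrpCat.epi_iff_surjective _).1 h2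

lemma fam_eq {X : C} (R : Sieve X) {A : Sheaf (⊥ : GrothendieckTopology C) AddCommGrpCat.{u}}
    (φ : SieveExt.ZR R ⟶ A) {U : C} (f : U ⟶ X) (hf : R f) :
    SieveExt.fam R φ f hf = φ.hom.app (op U) (SieveExt.fam R (𝟙 _) f hf) := by
  have := SieveExt.fam_comp R (𝟙 (SieveExt.ZR R)) φ f hf
  rwa [Category.id_comp] at this

lemma fam_add {X : C} (R : Sieve X) {A : Sheaf (⊥ : GrothendieckTopology C) AddCommGrpCat.{u}}
    (φ ψ : SieveExt.ZR R ⟶ A) {U : C} (f : U ⟶ X) (hf : R f) :
    SieveExt.fam R (φ + ψ) f hf = SieveExt.fam R φ f hf + SieveExt.fam R ψ f hf := by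
  rw [fam_eq R (φ + ψ), fam_eq R φ, fam_eq R ψ]
  rfl

lemma fam_zero {X : C} (R : Sieve X) {A : Sheaf (⊥ : GrothendieckTopology C) AddCommGrpCat.{u}}
    {U : C} (f : U ⟶ X) (hf : R f) :
    SieveExt.fam R (0 : SieveExt.ZR R ⟶ A) f hf = 0 := by
  rw [fam_eq R (0 : SieveExt.ZR R ⟶ A)]
  rfl

variable {X : C} [HasFiniteProducts (Over X)] {ι : Type u} (Y : ι → Over X)

/-- the sieve generated by the family -/
abbrev R : Sieve X := Sieve.ofArrows (fun i => (Y i).left) (fun i => (Y i).hom)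

lemma mem_R (T : Over X) (s : Cech.Sec Y T) : (R Y) T.hom := by
  rw [← Over.w s.2]
  exact Sieve.downward_closed _ (Sieve.ofArrows_mk _ _ s.1) _

/-- morphisms out of the free presheaf on the sieve -/
noncomputable abbrev Γ : Sheaf (⊥ : GrothendieckTopology C) AddCommGrpCat.{u} ⥤ AddCommGrpCat.{u} :=
  preadditiveCoyoneda.obj (op (SieveExt.ZR (R Y)))

/-- evaluation of a morphism out of the free presheaf on the sieve -/
noncomputable def ε (F : Sheaf (⊥ : GrothendieckTopology C) AddCommGrpCat.{u}) (T : Over X)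
    (s : Cech.Sec Y T) : (Γ Y).obj F ⟶ ((Over.forget X).op ⋙ F.obj).obj (op T) :=
  AddCommGrpCat.ofHom
    { toFun := fun φ => SieveExt.fam (R Y) φ T.hom (mem_R Y T s)
      map_zero' := fam_zero (R Y) T.hom _
      map_add' := fun φ ψ => fam_add (R Y) φ ψ T.hom _ }

lemma ε_apply (F : Sheaf (⊥ : GrothendieckTopology C) AddCommGrpCat.{u}) (T : Over X)
    (s : Cech.Sec Y T) (φ : SieveExt.ZR (R Y) ⟶ F) :
    ε Y F T s φ = SieveExt.fam (R Y) φ T.hom (mem_R Y T s) := rfl

lemma hε (F : Sheaf (⊥ : GrothendieckTopology C) AddCommGrpCat.{u}) (T T' : Over X) (h : T' ⟶ T)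
    (s : Cech.Sec Y T) (s' : Cech.Sec Y T') :
    ε Y F T s ≫ ((Over.forget X).op ⋙ F.obj).map h.op = ε Y F T' s' := by
  apply AddCommGrpCat.hom_ext
  apply AddMonoidHom.ext
  intro φ
  show F.obj.map h.left.op (SieveExt.fam (R Y) φ T.hom (mem_R Y T s)) =
    SieveExt.fam (R Y) φ T'.hom (mem_R Y T' s')
  rw [SieveExt.fam_map]
  congr 1
  exact Over.w h

/-- the Cech complex functor on presheaves (sheaves for the trivial topology) -/
noncomputable abbrev Č :
    Sheaf (⊥ : GrothendieckTopology C) AddCommGrpCat.{u} ⥤ CochainComplex AddCommGrpCat.{u} ℕ :=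
  CechSite.Č (⊥ : GrothendieckTopology C) (Over.forget X) Y

/-- the augmentation of the Cech complex functor -/
noncomputable def aug : Γ Y ⟶ Č Y ⋙ HomologicalComplex.eval _ _ 0 where
  app F := Cech.augQ Y ((Over.forget X).op ⋙ F.obj) ((Γ Y).obj F) (ε Y F)
  naturality F G φ := by
    apply Pi.hom_ext
    intro a
    show ((Γ Y).map φ ≫ Cech.augQ Y ((Over.forget X).op ⋙ G.obj) ((Γ Y).obj G) (ε Y G)) ≫
        Pi.π (Cech.Z Y ((Over.forget X).op ⋙ G.obj) 0) a =
      (Cech.augQ Y ((Over.forget X).op ⋙ F.obj) ((Γ Y).obj F) (ε Y F) ≫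
        (Limits.Pi.map fun a : Fin 1 → ι => φ.hom.app (op (CechSite.V (Over.forget X) Y 0 a)))) ≫
        Pi.π (Cech.Z Y ((Over.forget X).op ⋙ G.obj) 0) a
    simp only [Cech.augQ, Category.assoc, Pi.lift_π, Pi.map_π, Pi.lift_π_assoc]
    apply AddCommGrpCat.hom_ext
    apply AddMonoidHom.ext
    intro ψ
    exact SieveExt.fam_comp (R Y) ψ φ _ _

lemma hG (F : Sheaf (⊥ : GrothendieckTopology C) AddCommGrpCat.{u})
    (c : Cech.Fam Y ((Over.forget X).op ⋙ F.obj) 0)
    (hc : Cech.IsNat Y ((Over.forget X).op ⋙ F.obj) c)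
    (hd : Cech.dFam Y ((Over.forget X).op ⋙ F.obj) 0 c = 0) :
    ∃! γ : (Γ Y).obj F, ∀ (T : Over X) (t : Fin 1 → Cech.Sec Y T), c T t = ε Y F T (t 0) γ := by
  have cocycle : ∀ (T : Over X) (s s' : Cech.Sec Y T),
      c T (fun _ => s) = c T (fun _ => s') := by
    intro T s s'
    have := congrFun (congrFun hd T) ![s', s]
    simp only [Cech.dFam] at this
    have h2 : ∀ f : Fin (0 + 2) → ((Over.forget X).op ⋙ F.obj).obj (op T), ∑ x, f x = f 0 + f 1 :=
      fun f => Fin.sum_univ_two f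
    rw [h2] at this
    have e0 : (![s', s] : Fin 2 → Cech.Sec Y T) ∘ Fin.succAbove (0 : Fin 2) = fun _ => s := by
      funext k
      fin_cases k
      rfl
    have e1 : (![s', s] : Fin 2 → Cech.Sec Y T) ∘ Fin.succAbove (1 : Fin 2) = fun _ => s' := by
      funext k
      fin_cases k
      rfl
    rw [e0, e1] at this
    simp only [Fin.val_zero, Fin.val_one, pow_zero, pow_one, one_smul, neg_smul] at this
    exact add_neg_eq_zero.1 this
  have const : ∀ (T : Over X) (t : Fin 1 → Cech.Sec Y T), t = fun _ => t 0 := by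
    intro T t
    funext k
    congr
    exact Subsingleton.elim _ _
  -- sections of the family over an arrow of the sieve
  have hsec : ∀ (U : C) (f : U ⟶ X), (R Y) f → Nonempty (Cech.Sec Y (Over.mk f)) := by
    intro U f hf
    obtain ⟨i, g, hg⟩ := (Sieve.mem_ofArrows_iff _ _ _).1 hf
    exact ⟨⟨i, Over.homMk g hg.symm⟩⟩
  let x : ∀ (U : C) (f : U ⟶ X), (R Y) f → F.obj.obj (op U) := fun U f hf =>
    c (Over.mk f) (fun _ => (hsec U f hf).some)
  have hx : ∀ (U V : C) (f : U ⟶ X) (hf : (R Y) f) (h : V ⟶ U),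
      F.obj.map h.op (x U f hf) = x V (h ≫ f) ((R Y).downward_closed hf h) := by
    intro U V f hf h
    have := hc (Over.mk f) (Over.mk (h ≫ f)) (Over.homMk h rfl) (fun _ => (hsec U f hf).some)
    refine this.trans ?_
    exact (congrArg (c (Over.mk (h ≫ f))) (const _ _)).trans (cocycle _ _ _)
  obtain ⟨γ, hγ⟩ := SieveExt.exists_fam (R Y) F x hx
  have key : ∀ (γ' : SieveExt.ZR (R Y) ⟶ F),
      (∀ (T : Over X) (t : Fin 1 → Cech.Sec Y T), c T t = ε Y F T (t 0) γ') ↔
      ∀ (U : C) (f : U ⟶ X) (hf : (R Y) f), SieveExt.fam (R Y) γ' f hf = x U f hf := by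
    intro γ'
    constructor
    · intro h U f hf
      have := h (Over.mk f) (fun _ => (hsec U f hf).some)
      rw [ε_apply] at this
      exact this.symm
    · intro h T t
      rw [ε_apply, h T.left T.hom (mem_R Y T (t 0)), const T t]
      let k : Over.mk T.hom ⟶ T := Over.homMk (𝟙 T.left) (by simp)
      have := hc T (Over.mk T.hom) k (fun _ => t 0)
      have e1 : ((Over.forget X).op ⋙ F.obj).map k.op = 𝟙 _ := by
        show F.obj.map (𝟙 T.left).op = 𝟙 _
        rw [op_id, F.obj.map_id]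
      rw [e1] at this
      exact this.trans ((congrArg (c (Over.mk T.hom)) (const _ _)).trans
        (cocycle (Over.mk T.hom) _ _))
  refine ⟨γ, (key γ).2 hγ, ?_⟩
  intro γ' hγ'
  apply SieveExt.fam_ext (R Y)
  intro U f hf
  rw [(key γ').1 hγ' U f hf, hγ U f hf]

lemma aug_d (F : Sheaf (⊥ : GrothendieckTopology C) AddCommGrpCat.{u}) :
    (aug Y).app F ≫ ((Č Y).obj F).d 0 1 = 0 :=
  Cech.augQ_d' Y ((Over.forget X).op ⋙ F.obj) ((Γ Y).obj F) (ε Y F) (hε Y F)

/-- `Ȟ^0` of a presheaf is the group of morphisms out of the free presheaf on the sieve -/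
noncomputable def e₀ : CechLeray.T (⊥ : GrothendieckTopology C) (Č Y) 0 ≅ Γ Y :=
  Cech.h0Iso (Č Y) (Γ Y) (aug Y) (aug_d Y)
    (fun F => Cech.augQIsKernel Y ((Over.forget X).op ⋙ F.obj) ((Γ Y).obj F) (ε Y F)
      (hε Y F) (hG Y F))

/-- the Cech complex functor is exact on presheaves -/
lemma map_shortExact (S : ShortComplex (Sheaf (⊥ : GrothendieckTopology C) AddCommGrpCat.{u}))
    (hS : S.ShortExact) : (S.map (Č Y)).ShortExact := by
  apply HomologicalComplex.shortExact_of_degreewise_shortExact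
  intro n
  have hepi : Epi S.g := hS.epi_g
  have h : (S.map (CechLeray.prodSections (⊥ : GrothendieckTopology C)
      (CechSite.V (Over.forget X) Y n))).ShortExact := by
    refine CechLeray.prod_shortExact _ _ _
      (fun a => S.f.hom.app (op (CechSite.V (Over.forget X) Y n a)))
      (fun a => S.g.hom.app (op (CechSite.V (Over.forget X) Y n a))) ?_ _ ?_
    · intro a
      rw [← NatTrans.comp_app, ← ObjectProperty.FullSubcategory.comp_hom, S.zero]
      rfl
    · intro a
      exact CechLeray.sections_shortExact _ S hS _ (surjective_of_epi S.g _)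
  exact ShortComplex.shortExact_of_iso
    (ShortComplex.mapNatIso S (CechSite.e (⊥ : GrothendieckTopology C) (Over.forget X) Y n)).symm h

lemma injective_obj (I : Sheaf (⊥ : GrothendieckTopology C) AddCommGrpCat.{u}) [Injective I] :
    Injective I.obj := by
  have : ((sheafBotEquivalence AddCommGrpCat.{u}).inverse :
      (Cᵒᵖ ⥤ AddCommGrpCat.{u}) ⥤ Sheaf (⊥ : GrothendieckTopology C) AddCommGrpCat.{u}
      ).PreservesMonomorphisms := inferInstance
  exact Injective.injective_of_adjoint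
    (sheafBotEquivalence (C := C) AddCommGrpCat.{u}).symm.toAdjunction I

lemma isExSeq_T : DeltaSeq.IsExSeq (CechLeray.T (⊥ : GrothendieckTopology C) (Č Y)) where
  ex S hS i := by
    have hSČ := map_shortExact Y S hS
    exact ⟨hSČ.δ i (i + 1) rfl, hSČ.comp_δ i (i + 1) rfl, hSČ.δ_comp i (i + 1) rfl,
      hSČ.homology_exact₃ i (i + 1) rfl, hSČ.homology_exact₁ i (i + 1) rfl⟩
  vanish I hI i := by
    have : Injective I.obj := injective_obj I
    have := Cech.exactAt_over_of_injective X Y I.obj i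
    rwa [HomologicalComplex.exactAt_iff_isZero_homology] at this

variable [HasExt.{u} (Sheaf (⊥ : GrothendieckTopology C) AddCommGrpCat.{u})]

/-- `Ext^0` is `Hom`, functorially -/
noncomputable def ext₀Iso (P : Sheaf (⊥ : GrothendieckTopology C) AddCommGrpCat.{u}) :
    (extFunctor.{u} 0).obj (op P) ≅ preadditiveCoyoneda.obj (op P) :=
  NatIso.ofComponents (fun F => (Ext.addEquiv₀ (X := P) (Y := F)).toAddCommGrpIso) (by
    intro F F' φ
    apply AddCommGrpCat.hom_ext
    apply AddMonoidHom.ext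
    intro x
    obtain ⟨b, rfl⟩ := (Ext.mk₀_bijective _ _).2 x
    show Ext.addEquiv₀ ((Ext.mk₀ b).comp (Ext.mk₀ φ) (add_zero 0)) = Ext.addEquiv₀ (Ext.mk₀ b) ≫ φ
    rw [Ext.mk₀_comp_mk₀]
    have h1 : ∀ {F₁ : Sheaf (⊥ : GrothendieckTopology C) AddCommGrpCat.{u}} (b' : P ⟶ F₁),
        Ext.addEquiv₀ (Ext.mk₀ b') = b' := fun b' => Ext.addEquiv₀.apply_symm_apply b'
    rw [h1, h1])

/-- **Cech cohomology of a presheaf with respect to a family is the presheaf `Ext` out of the
free abelian presheaf on the generated sieve.** -/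
theorem cech_iso_ext (F : Sheaf (⊥ : GrothendieckTopology C) AddCommGrpCat.{u}) (q : ℕ) :
    Nonempty (((Č Y).obj F).homology q ≅
      AddCommGrpCat.of (Ext.{u} (SieveExt.ZR (R Y)) F q)) :=
  DeltaSeq.iso (isExSeq_T Y) (ExtPsh.isExSeq_ext (SieveExt.ZR (R Y)))
    (e₀ Y ≪≫ (ext₀Iso (SieveExt.ZR (R Y))).symm) q F

end SieveCech

end Groth.Agent.Lib.helper27
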