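import Mathlib
import Groth.Prelude.Def_CohSite
import Groth.Prelude.Def_FreeSh
import Groth.Agent.Lib.Helper27.SSGroth4
import Groth.Agent.Lib.Helper27.SieveCech
import Groth.Agent.Lib.Helper27.RpushSheafify

set_option autoImplicit false

namespace Groth.Agent.Lib.helper27

open CategoryTheory Limits Opposite Abelian Groth.Agent.Lib.helper7

universe u

namespace CLSS

variable {C : Type u} [SmallCategory C] (J : GrothendieckTopology C) {X : C} (R : Sieve X)

lemma exists_c : ∃ c : SieveExt.ZR R ⟶ (SieveExt.ι J).obj (CohCx.freeSheaf J X),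
    ∀ (U : C) (f : U ⟶ X) (hf : R f), SieveExt.fam R c f hf =
      ((CohCx.freeSheaf J X).obj.map f.op).hom (CohFree.gen J X) :=
  SieveExt.exists_fam R ((SieveExt.ι J).obj (CohCx.freeSheaf J X))
    (fun U f _ => ((CohCx.freeSheaf J X).obj.map f.op).hom (CohFree.gen J X)) (by
      intro U V f hf h
      show ((CohCx.freeSheaf J X).obj.map h.op).hom
        (((CohCx.freeSheaf J X).obj.map f.op).hom (CohFree.gen J X)) = _
      rw [op_comp, Functor.map_comp]
      rfl)

/-- the canonical map from the free presheaf on a sieve of `X` to the free sheaf on `X` -/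
noncomputable def c : SieveExt.ZR R ⟶ (SieveExt.ι J).obj (CohCx.freeSheaf J X) :=
  (exists_c J R).choose

lemma fam_c {U : C} (f : U ⟶ X) (hf : R f) : SieveExt.fam R (c J R) f hf =
    ((CohCx.freeSheaf J X).obj.map f.op).hom (CohFree.gen J X) :=
  (exists_c J R).choose_spec U f hf

/-- composition with `c` -/
noncomputable def Φ (G : Sheaf J AddCommGrpCat.{u}) :
    (CohCx.freeSheaf J X ⟶ G) →+ (SieveExt.ZR R ⟶ (SieveExt.ι J).obj G) where
  toFun ψ := c J R ≫ (SieveExt.ι J).map ψ
  map_zero' := by rw [Functor.map_zero, comp_zero]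
  map_add' ψ ψ' := by rw [Functor.map_add, Preadditive.comp_add]

lemma fam_Φ (G : Sheaf J AddCommGrpCat.{u}) (ψ : CohCx.freeSheaf J X ⟶ G) {U : C} (f : U ⟶ X)
    (hf : R f) :
    SieveExt.fam R (Φ J R G ψ) f hf = (G.obj.map f.op).hom (CohFree.evalGen J X G ψ) := by
  show SieveExt.fam R (c J R ≫ (SieveExt.ι J).map ψ) f hf = _
  rw [SieveExt.fam_comp, fam_c]
  exact ConcreteCategory.congr_hom (ψ.hom.naturality f.op) (CohFree.gen J X)

lemma Φ_bijective (hR : R ∈ J X) (G : Sheaf J AddCommGrpCat.{u}) :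
    Function.Bijective (Φ J R G) := by
  constructor
  · intro ψ ψ' h
    apply (CohFree.homEquivSect J X G).injective
    show CohFree.evalGen J X G ψ = CohFree.evalGen J X G ψ'
    obtain ⟨t, -, huniq⟩ := SieveExt.glue_sieve J G R hR
      (fun U f _ => (G.obj.map f.op).hom (CohFree.evalGen J X G ψ)) (by
        intro U V f hf h
        show (G.obj.map h.op).hom ((G.obj.map f.op).hom _) = _
        rw [op_comp, Functor.map_comp]
        rfl)
    rw [huniq (CohFree.evalGen J X G ψ) (fun U f hf => rfl)]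
    refine (huniq (CohFree.evalGen J X G ψ') (fun U f hf => ?_)).symm
    rw [← fam_Φ J R G ψ' f hf, ← fam_Φ J R G ψ f hf, h]
  · intro φ
    obtain ⟨t, ht, -⟩ := SieveExt.glue_sieve J G R hR
      (fun U f hf => SieveExt.fam R φ f hf) (by
        intro U V f hf h
        exact SieveExt.fam_map R φ f hf h)
    refine ⟨CohFree.ofSect J X G t, ?_⟩
    apply SieveExt.fam_ext
    intro U f hf
    rw [fam_Φ, CohFree.evalGen_ofSect]
    exact ht U f hf

/-- for a covering sieve `R` of `X`, morphisms of presheaves `ℤ[R] ⟶ G` into a sheaf are the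
sections of `G` over `X` -/
noncomputable def coyIso (hR : R ∈ J X) :
    preadditiveCoyoneda.obj (op (CohCx.freeSheaf J X)) ≅
      SieveExt.ι J ⋙ preadditiveCoyoneda.obj (op (SieveExt.ZR R)) :=
  NatIso.ofComponents
    (fun G => (AddEquiv.ofBijective (Φ J R G) (Φ_bijective J R hR G)).toAddCommGrpIso) (by
      intro G G' α
      apply AddCommGrpCat.hom_ext
      apply AddMonoidHom.ext
      intro ψ
      show c J R ≫ (SieveExt.ι J).map (ψ ≫ α) = (c J R ≫ (SieveExt.ι J).map ψ) ≫ (SieveExt.ι J).map α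
      rw [Functor.map_comp, Category.assoc])

end CLSS

end Groth.Agent.Lib.helper27
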