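import Mathlib
import Groth.Prelude.Def_CohSite
import Groth.Prelude.Def_SpSeq
import Groth.Agent.Lib.Helper27.CLSS

set_option autoImplicit false

namespace Groth.Agent.Lib.helper27

open CategoryTheory Limits Opposite Abelian Groth.Agent.Lib.helper7

universe u

namespace CLSS

variable {C : Type u} [SmallCategory C] (J : GrothendieckTopology C)

instance : ((sheafBotEquivalence (C := C) AddCommGrpCat.{u}).inverse).Additive where
  map_add := rfl

/-- the derived functors of the inclusion of sheaves into presheaves are the cohomology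
presheaves -/
theorem rightDerived_ι_iso (M : Sheaf J AddCommGrpCat.{u}) (q : ℕ) :
    Nonempty (((SieveExt.ι J).rightDerived q).obj M ≅
      (sheafBotEquivalence AddCommGrpCat.{u}).inverse.obj (Sheaf.cohomologyPresheaf.{u} M q)) :=
  DeltaSeq.rightDerived_iso (SieveExt.ι J)
    ((ExtPsh.isExSeq_Tp (FreeYoneda.freeSheaf J)).comp
      (sheafBotEquivalence AddCommGrpCat.{u}).inverse)
    (Functor.isoWhiskerRight (CohPsh.tp₀Iso J) (sheafBotEquivalence AddCommGrpCat.{u}).inverse) q M

theorem cartan_leray_ss [HasPullbacks C] (M : Sheaf J AddCommGrpCat.{u}) {X : C} {ι : Type u}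
    (Y : ι → Over X)
    (hY : Sieve.ofArrows (fun i => (Y i).left) (fun i => (Y i).hom) ∈ J X) :
    ∃ (E : E₂CohomologicalSpectralSequence AddCommGrpCat.{u})
      (a : SpSeq.Abutment E (fun n : ℤ =>
        if 0 ≤ n then AddCommGrpCat.of (CohSite.HU M n.toNat X) else AddCommGrpCat.of PUnit.{u + 1})),
      (∀ n, a.IsFinite n) ∧ SpSeq.IsBounded E ∧
      ∀ p q : ℤ, Nonempty ((E.page 2 le_rfl).X (p, q) ≅
        (if 0 ≤ p ∧ 0 ≤ q then CohCx.cechH (M.cohomologyPresheaf q.toNat) Y p.toNat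
         else AddCommGrpCat.of PUnit.{u + 1})) := by
  let T := SieveExt.ι J
  let S := SieveCech.Γ Y
  refine SSGroth.grothendieck_ss_nat T S ?_ M
    (fun n => AddCommGrpCat.of (CohSite.HU M n X)) ?_
    (fun p q => CohCx.cechH (M.cohomologyPresheaf q) Y p) ?_ _ _ ?_ ?_
  · intro Q hQ q hq
    have := SieveExt.injective_ι J Q
    obtain ⟨j, rfl⟩ : ∃ j, q = j + 1 := ⟨q - 1, by omega⟩
    exact S.isZero_rightDerived_obj_injective_succ j _
  · intro k
    exact ExtCoy.rightDerived_iso_ext (T ⋙ S) _ (coyIso J (SieveCech.R Y) hY) k M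
  · intro k l
    obtain ⟨e1⟩ := rightDerived_ι_iso J M l
    obtain ⟨e2⟩ := ExtCoy.rightDerived_iso_ext S _ (Iso.refl _) k
      ((sheafBotEquivalence AddCommGrpCat.{u}).inverse.obj (Sheaf.cohomologyPresheaf.{u} M l))
    obtain ⟨e3⟩ := SieveCech.cech_iso_ext Y
      ((sheafBotEquivalence AddCommGrpCat.{u}).inverse.obj (Sheaf.cohomologyPresheaf.{u} M l)) k
    exact ⟨e3 ≪≫ e2 ≪≫ ((S.rightDerived k).mapIso e1).symm⟩
  · exact AddCommGrpCat.isZero_of_subsingleton _
  · exact AddCommGrpCat.isZero_of_subsingleton _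

end CLSS

end Groth.Agent.Lib.helper27
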