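import Mathlib
import Groth.Prelude.Def_CohSite
import Groth.Prelude.Def_SpSeq
import Groth.Agent.Lib.Helper27.CLSS2

set_option autoImplicit false

namespace Groth.Agent.Lib.helper27

open CategoryTheory Limits Opposite Abelian Groth.Agent.Lib.helper7

universe v u

namespace ExtCoy

/-- an adjunction between preadditive categories identifies `Hom(Z, G -)` with `Hom(F Z, -)` -/
noncomputable def adjCoyIso {C D : Type u} [Category.{v} C] [Category.{v} D] [Preadditive C]
    [Preadditive D] {F : C ⥤ D} {G : D ⥤ C} (adj : F ⊣ G) [F.Additive] (Z : C) :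
    G ⋙ preadditiveCoyoneda.obj (op Z) ≅ preadditiveCoyoneda.obj (op (F.obj Z)) :=
  NatIso.ofComponents (fun Y => (adj.homAddEquiv Z Y).symm.toAddCommGrpIso) (by
    intro Y Y' f
    apply AddCommGrpCat.hom_ext
    apply AddMonoidHom.ext
    intro x
    exact adj.homEquiv_naturality_right_symm x f)

end ExtCoy

namespace PshSS

variable {C : Type u} [SmallCategory C] (J : GrothendieckTopology C)

/-- morphisms out of the free abelian sheaf on a presheaf of sets -/
noncomputable def fe (Q : Cᵒᵖ ⥤ Type u) (G : Sheaf J AddCommGrpCat.{u}) :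
    ((presheafToSheaf J AddCommGrpCat.{u}).obj (Q ⋙ AddCommGrpCat.free.{u}) ⟶ G) ≃
      (Q ⟶ G.obj ⋙ forget AddCommGrpCat.{u}) :=
  ((sheafificationAdjunction J AddCommGrpCat.{u}).homEquiv _ G).trans
    ((AddCommGrpCat.adj.whiskerRight Cᵒᵖ).homEquiv Q G.obj)

lemma fe_naturality {Q Q' : Cᵒᵖ ⥤ Type u} (v : Q ⟶ Q') (G : Sheaf J AddCommGrpCat.{u})
    (x : (presheafToSheaf J AddCommGrpCat.{u}).obj (Q' ⋙ AddCommGrpCat.free.{u}) ⟶ G) :
    fe J Q G ((presheafToSheaf J AddCommGrpCat.{u}).map
      (Functor.whiskerRight v AddCommGrpCat.free.{u}) ≫ x) = v ≫ fe J Q' G x := by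
  dsimp only [fe, Equiv.trans_apply]
  rw [Adjunction.homEquiv_naturality_left]
  exact Adjunction.homEquiv_naturality_left _ _ _

/-- the free abelian sheaf on a presheaf of sets is the free abelian sheaf on its associated
sheaf -/
lemma isIso_map_unit (R : Cᵒᵖ ⥤ Type u) :
    IsIso ((presheafToSheaf J AddCommGrpCat.{u}).map
      (Functor.whiskerRight ((sheafificationAdjunction J (Type u)).unit.app R)
        AddCommGrpCat.free.{u})) := by
  rw [isIso_iff_coyoneda_map_bijective]
  intro G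
  let G' : Sheaf J (Type u) := (sheafCompose J (forget AddCommGrpCat.{u})).obj G
  have h1 : Function.Bijective
      (fun y : ((presheafToSheaf J (Type u)).obj R).obj ⟶ G.obj ⋙ forget AddCommGrpCat.{u} =>
        (sheafificationAdjunction J (Type u)).unit.app R ≫ y) := by
    have := ((sheafificationAdjunction J (Type u)).homEquiv R G').bijective
    have h2 : Function.Bijective
        (fun y : ((presheafToSheaf J (Type u)).obj R).obj ⟶ G.obj ⋙ forget AddCommGrpCat.{u} =>
          (⟨y⟩ : (presheafToSheaf J (Type u)).obj R ⟶ G')) :=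
      ⟨fun y y' h => congrArg (fun z => z.hom) h, fun z => ⟨z.hom, rfl⟩⟩
    exact this.comp h2
  have h3 : (fun x => (presheafToSheaf J AddCommGrpCat.{u}).map
      (Functor.whiskerRight ((sheafificationAdjunction J (Type u)).unit.app R)
        AddCommGrpCat.free.{u}) ≫ x) =
      (fe J R G).symm ∘ (fun y => (sheafificationAdjunction J (Type u)).unit.app R ≫ y) ∘
        (fe J _ G) := by
    funext x
    apply (fe J R G).injective
    rw [fe_naturality]
    simp
  rw [h3]
  exact (fe J R G).symm.bijective.comp (h1.comp (fe J _ G).bijective)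

/-- the free abelian presheaf on `R`, as a sheaf for the trivial topology -/
noncomputable abbrev ZR' (R : Cᵒᵖ ⥤ Type u) : Sheaf (⊥ : GrothendieckTopology C) AddCommGrpCat.{u} :=
  (presheafToSheaf (⊥ : GrothendieckTopology C) AddCommGrpCat.{u}).obj (R ⋙ AddCommGrpCat.free.{u})

/-- the free abelian sheaf on the sheaf associated to `R` -/
noncomputable abbrev Zt (R : Cᵒᵖ ⥤ Type u) : Sheaf J AddCommGrpCat.{u} :=
  (presheafToSheaf J AddCommGrpCat.{u}).obj
    (((presheafToSheaf J (Type u)).obj R).obj ⋙ AddCommGrpCat.free.{u})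

/-- sheafifying the free abelian presheaf on `R` gives the free abelian sheaf on `aR` -/
noncomputable def zIso (R : Cᵒᵖ ⥤ Type u) : (SieveExt.a J).obj (ZR' R) ≅ Zt J R :=
  haveI := isIso_map_unit J R
  haveI : IsIso (toSheafify (⊥ : GrothendieckTopology C) (R ⋙ AddCommGrpCat.free.{u})) :=
    isIso_toSheafify _ (Presheaf.isSheaf_bot _)
  ((presheafToSheaf J AddCommGrpCat.{u}).mapIso
    (asIso (toSheafify (⊥ : GrothendieckTopology C) (R ⋙ AddCommGrpCat.free.{u})))).symm ≪≫
  asIso ((presheafToSheaf J AddCommGrpCat.{u}).map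
      (Functor.whiskerRight ((sheafificationAdjunction J (Type u)).unit.app R)
        AddCommGrpCat.free.{u}))

instance : (SieveExt.a J).Additive := (SieveExt.adj J).left_adjoint_additive

theorem presheaf_ss (R : Cᵒᵖ ⥤ Type u) (M : Sheaf J AddCommGrpCat.{u}) :
    ∃ (E : E₂CohomologicalSpectralSequence AddCommGrpCat.{u})
      (a : SpSeq.Abutment E (fun n : ℤ =>
        if 0 ≤ n then AddCommGrpCat.of (CohCx.HK ((presheafToSheaf J (Type u)).obj R) M n.toNat)
        else AddCommGrpCat.of PUnit.{u + 1})),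
      (∀ n, a.IsFinite n) ∧ SpSeq.IsBounded E ∧
      ∀ p q : ℤ, Nonempty ((E.page 2 le_rfl).X (p, q) ≅
        (if 0 ≤ p ∧ 0 ≤ q then
          AddCommGrpCat.of (CohCx.HK (J := (⊥ : GrothendieckTopology C)) ⟨R, Presheaf.isSheaf_bot _⟩
            ⟨M.cohomologyPresheaf q.toNat, Presheaf.isSheaf_bot _⟩ p.toNat)
         else AddCommGrpCat.of PUnit.{u + 1})) := by
  let T := SieveExt.ι J
  let S : Sheaf (⊥ : GrothendieckTopology C) AddCommGrpCat.{u} ⥤ AddCommGrpCat.{u} :=
    preadditiveCoyoneda.obj (op (ZR' R))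
  refine SSGroth.grothendieck_ss_nat T S ?_ M
    (fun n => AddCommGrpCat.of (CohCx.HK ((presheafToSheaf J (Type u)).obj R) M n)) ?_
    (fun p q => AddCommGrpCat.of (CohCx.HK (J := (⊥ : GrothendieckTopology C))
      ⟨R, Presheaf.isSheaf_bot _⟩ ⟨M.cohomologyPresheaf q, Presheaf.isSheaf_bot _⟩ p)) ?_ _ _ ?_ ?_
  · intro Q hQ q hq
    have := SieveExt.injective_ι J Q
    obtain ⟨j, rfl⟩ : ∃ j, q = j + 1 := ⟨q - 1, by omega⟩
    exact S.isZero_rightDerived_obj_injective_succ j _
  · intro k
    exact ExtCoy.rightDerived_iso_ext (T ⋙ S) (Zt J R)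
      ((preadditiveCoyoneda.mapIso (zIso J R).op) ≪≫
        (ExtCoy.adjCoyIso (SieveExt.adj J) (ZR' R)).symm) k M
  · intro k l
    obtain ⟨e1⟩ := CLSS.rightDerived_ι_iso J M l
    obtain ⟨e2⟩ := ExtCoy.rightDerived_iso_ext S _ (Iso.refl _) k
      ((sheafBotEquivalence AddCommGrpCat.{u}).inverse.obj (Sheaf.cohomologyPresheaf.{u} M l))
    exact ⟨e2 ≪≫ ((S.rightDerived k).mapIso e1).symm⟩
  · exact AddCommGrpCat.isZero_of_subsingleton _
  · exact AddCommGrpCat.isZero_of_subsingleton _

end PshSS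

end Groth.Agent.Lib.helper27
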