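import Mathlib
import Groth.Prelude.Def_CohTop

set_option autoImplicit false
set_option backward.isDefEq.respectTransparency false
set_option linter.unusedVariables false
set_option linter.unusedSectionVars false

namespace Groth.Agent.Lib.helper27

open CategoryTheory Limits Opposite TopologicalSpace

universe u

namespace MVTop

variable {X : TopCat.{u}} (F : CohTop.Ab X)

lemma res_res (n : ℕ) {U V W : Opens X} (h₁ : W ≤ V) (h₂ : V ≤ U) (a : CohTop.HU F n U) :
    CohTop.res F n h₁ (CohTop.res F n h₂ a) = CohTop.res F n (h₁.trans h₂) a := by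
  show ((Sheaf.cohomologyPresheaf.{u} F n).map (homOfLE h₁).op)
    (((Sheaf.cohomologyPresheaf.{u} F n).map (homOfLE h₂).op) a) = _
  rw [← ConcreteCategory.comp_apply, ← Functor.map_comp]
  rfl

lemma res_self (n : ℕ) {U : Opens X} (a : CohTop.HU F n U) :
    CohTop.res F n (le_refl U) a = a := by
  show ((Sheaf.cohomologyPresheaf.{u} F n).map (homOfLE (le_refl U)).op) a = a
  have : (homOfLE (le_refl U)).op = 𝟙 (op U) := rfl
  rw [this, CategoryTheory.Functor.map_id]
  rfl

variable (U V : Opens X) (n : ℕ)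

/-- Mayer–Vietoris: gluing classes -/
theorem exists_glue (a : CohTop.HU F n U) (b : CohTop.HU F n V)
    (h : CohTop.res F n (inf_le_left : U ⊓ V ≤ U) a = CohTop.res F n (inf_le_right : U ⊓ V ≤ V) b) :
    ∃ c : CohTop.HU F n (U ⊔ V), CohTop.res F n (le_sup_left : U ≤ U ⊔ V) c = a ∧
      CohTop.res F n (le_sup_right : V ≤ U ⊔ V) c = b := by
  let S := Opens.mayerVietorisSquare U V
  have hex := (S.sequence_exact F n (n + 1) rfl).exact 0
  rw [ShortComplex.ab_exact_iff] at hex
  let x : ↑(F.H' n S.X₂ ⊞ F.H' n S.X₃) := (AddCommGrpCat.biprodIsoProd _ _).inv ⟨a, b⟩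
  have hx : S.fromBiprod F n x = 0 := by
    rw [GrothendieckTopology.MayerVietorisSquare.fromBiprod_biprodIsoProd_inv_apply]
    exact sub_eq_zero.2 h
  obtain ⟨c, hc⟩ := hex x hx
  have hc' : S.toBiprod F n c = x := hc
  rw [GrothendieckTopology.MayerVietorisSquare.toBiprod_apply] at hc'
  have hinj := (AddCommGrpCat.biprodIsoProd (F.H' n S.X₂) (F.H' n S.X₃)).symm.addCommGroupIsoToAddEquiv.injective
  have := hinj hc'
  exact ⟨c, congrArg Prod.fst this, congrArg Prod.snd this⟩

/-- Mayer–Vietoris: a class on `U ⊔ V` vanishing on `U` and `V` vanishes, if every class of one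
degree less on `U ⊓ V` is a difference of restrictions -/
theorem eq_zero_of_res_eq_zero (c : CohTop.HU F (n + 1) (U ⊔ V))
    (h₁ : CohTop.res F (n + 1) (le_sup_left : U ≤ U ⊔ V) c = 0)
    (h₂ : CohTop.res F (n + 1) (le_sup_right : V ≤ U ⊔ V) c = 0)
    (hsurj : ∀ z : CohTop.HU F n (U ⊓ V), ∃ (a : CohTop.HU F n U) (b : CohTop.HU F n V),
      z = CohTop.res F n (inf_le_left : U ⊓ V ≤ U) a -
        CohTop.res F n (inf_le_right : U ⊓ V ≤ V) b) : c = 0 := by
  let S := Opens.mayerVietorisSquare U V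
  have hex := (S.sequence_exact F n (n + 1) rfl).exact 2
  rw [ShortComplex.ab_exact_iff] at hex
  have hc : S.toBiprod F (n + 1) c = 0 := by
    rw [GrothendieckTopology.MayerVietorisSquare.toBiprod_apply]
    have e1 : (F.cohomologyPresheaf (n + 1)).map S.f₂₄.op c = 0 := h₁
    have e2 : (F.cohomologyPresheaf (n + 1)).map S.f₃₄.op c = 0 := h₂
    rw [e1, e2]
    exact map_zero _
  obtain ⟨z, hz⟩ := hex c hc
  obtain ⟨a, b, hab⟩ := hsurj z
  have hz' : S.δ F n (n + 1) rfl z = c := hz
  have hfb : z = S.fromBiprod F n ((AddCommGrpCat.biprodIsoProd _ _).inv ⟨a, b⟩) := by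
    rw [GrothendieckTopology.MayerVietorisSquare.fromBiprod_biprodIsoProd_inv_apply]
    exact hab
  rw [← hz', hfb, ← ConcreteCategory.comp_apply,
    GrothendieckTopology.MayerVietorisSquare.fromBiprod_δ]
  rfl

end MVTop

end Groth.Agent.Lib.helper27
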