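import Mathlib
import Groth.Prelude.Def_RDerDelta
import Groth.Agent.Lib.Helper27.Horseshoe7

set_option autoImplicit false
set_option linter.unusedSectionVars false
set_option linter.unusedVariables false

namespace Groth.Agent.Lib.helper27

open CategoryTheory Limits

universe v u v' u'

namespace FourTerm

variable {ℬ : Type u} [Category.{v} ℬ] [Abelian ℬ] [HasInjectiveResolutions ℬ]
  {𝒞 : Type u'} [Category.{v'} 𝒞] [Abelian 𝒞] (H : ℬ ⥤ 𝒞) [H.Additive] [PreservesFiniteLimits H]

/-- `H`-acyclicity -/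
def Acyc (A : ℬ) : Prop := ∀ i : ℕ, 0 < i → IsZero ((H.rightDerived i).obj A)

variable {A₁ A₂ A₃ A₄ : ℬ} (u : A₁ ⟶ A₂) (v : A₂ ⟶ A₃) (w : A₃ ⟶ A₄)
  (huv : u ≫ v = 0) (hvw : v ≫ w = 0)
  (e₁ : (ShortComplex.mk u v huv).Exact) (e₂ : (ShortComplex.mk v w hvw).Exact)
  [Mono u] [Epi w]

/-- the first short exact sequence `0 → A₁ → A₂ → im v → 0` -/
noncomputable abbrev S₁ : ShortComplex ℬ :=
  ShortComplex.mk u (Abelian.factorThruImage v) (by
    rw [← cancel_mono (Abelian.image.ι v), Category.assoc, Abelian.image.fac, huv, zero_comp])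

/-- the second short exact sequence `0 → im v → A₃ → A₄ → 0` -/
noncomputable abbrev S₂ : ShortComplex ℬ :=
  ShortComplex.mk (Abelian.image.ι v) w (by
    rw [← cancel_epi (Abelian.factorThruImage v), ← Category.assoc, Abelian.image.fac, hvw,
      comp_zero])

include e₁ in
lemma S₁_shortExact : (S₁ u v huv).ShortExact := by
  refine ShortComplex.ShortExact.mk' ?_ inferInstance inferInstance
  have hk : IsLimit (KernelFork.ofι u huv) := e₁.fIsKernel
  exact ShortComplex.exact_of_f_is_kernel _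
    (isKernelOfComp (Abelian.image.ι v) v hk (S₁ u v huv).zero (Abelian.image.fac v))

include e₂ in
lemma S₂_shortExact : (S₂ v w hvw).ShortExact := by
  refine ShortComplex.ShortExact.mk' ?_ inferInstance inferInstance
  rw [ShortComplex.exact_iff_epi_kernel_lift]
  have h := (ShortComplex.exact_iff_epi_kernel_lift _).1 e₂
  have fac : kernel.lift w v hvw =
      Abelian.factorThruImage v ≫ kernel.lift w (Abelian.image.ι v) (S₂ v w hvw).zero := by
    rw [← cancel_mono (kernel.ι w), Category.assoc, kernel.lift_ι, kernel.lift_ι, Abelian.image.fac]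
  exact epi_of_epi_fac fac.symm

include e₁ e₂ in
/-- applying a left exact functor to a four term exact sequence with acyclic first two terms -/
theorem main (h₁ : Acyc H A₁) (h₂ : Acyc H A₂) :
    (ShortComplex.mk (H.map v) (H.map w) (by rw [← H.map_comp, hvw, H.map_zero])).Exact ∧
      Epi (H.map w) ∧ (Acyc H A₄ → Acyc H A₃) := by
  have hS₁ := S₁_shortExact u v huv e₁
  have hS₂ := S₂_shortExact v w hvw e₂
  obtain ⟨hZ, hH₁⟩ := (Horseshoe.rightAcyclic_shortExact H hS₁).2.1 h₁ h₂
  have hH₂ : ((S₂ v w hvw).map H).ShortExact :=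
    Horseshoe.map_shortExact_of_epi H hS₂ (Horseshoe.epi_of_isZero H hS₂ (hZ 1 Nat.one_pos))
  refine ⟨?_, hH₂.epi_g, fun h₄ => ((Horseshoe.rightAcyclic_shortExact H hS₂).1 hZ h₄).1⟩
  let φ : ShortComplex.mk (H.map v) (H.map w) (by rw [← H.map_comp, hvw, H.map_zero]) ⟶
      (S₂ v w hvw).map H :=
    { τ₁ := H.map (Abelian.factorThruImage v)
      τ₂ := 𝟙 _
      τ₃ := 𝟙 _
      comm₁₂ := by
        show H.map (Abelian.factorThruImage v) ≫ H.map (Abelian.image.ι v) = H.map v ≫ 𝟙 _
        rw [← H.map_comp, Abelian.image.fac, Category.comp_id]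
      comm₂₃ := by
        show 𝟙 _ ≫ H.map w = H.map w ≫ 𝟙 _
        rw [Category.id_comp, Category.comp_id] }
  haveI : Epi φ.τ₁ := hH₁.epi_g
  haveI : IsIso φ.τ₂ := inferInstanceAs (IsIso (𝟙 _))
  haveI : Mono φ.τ₃ := inferInstanceAs (Mono (𝟙 _))
  exact (ShortComplex.exact_iff_of_epi_of_isIso_of_mono φ).2 hH₂.exact

end FourTerm

end Groth.Agent.Lib.helper27
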