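import Mathlib
import Groth.Agent.Lib.Helper27.FourTerm
import Groth.Agent.Lib.Helper27.DeltaSeq2
import Groth.Agent.Lib.Helper27.Horseshoe7

set_option autoImplicit false
set_option linter.unusedSectionVars false
set_option linter.unusedVariables false

namespace Groth.Agent.Lib.helper27

open CategoryTheory Limits

universe v u v' u' v'' u''

namespace LerayDeg

variable {𝒜 : Type u} [Category.{v} 𝒜] [Abelian 𝒜] [EnoughInjectives 𝒜]
  {ℬ : Type u'} [Category.{v'} ℬ] [Abelian ℬ] [EnoughInjectives ℬ]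
  {𝒞 : Type u''} [Category.{v''} 𝒞] [Abelian 𝒞]
  (G : 𝒜 ⥤ ℬ) [G.Additive] [PreservesFiniteLimits G]
  (E : ℬ ⥤ 𝒞) [E.Additive] [PreservesFiniteLimits E]

/-- the class of objects all of whose higher direct images are `E`-acyclic -/
def Cls : ObjectProperty 𝒜 := fun F => ∀ q : ℕ, FourTerm.Acyc E ((G.rightDerived q).obj F)

/-- the functors `E ∘ R^i G` -/
noncomputable abbrev T (i : ℕ) : 𝒜 ⥤ 𝒞 := G.rightDerived i ⋙ E

/-- the functors `R^i (E ∘ G)` -/
noncomputable abbrev T' (i : ℕ) : 𝒜 ⥤ 𝒞 := (G ⋙ E).rightDerived i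

lemma acyc_of_iso {A B : ℬ} (e : A ≅ B) (h : FourTerm.Acyc E A) : FourTerm.Acyc E B :=
  fun i hi => (h i hi).of_iso ((E.rightDerived i).mapIso e.symm)

section ses

variable {S : ShortComplex 𝒜} (hS : S.ShortExact) (hI : Injective S.X₂)

include hI in
lemma isZero_succ (i : ℕ) : IsZero ((G.rightDerived (i + 1)).obj S.X₂) :=
  G.isZero_rightDerived_obj_injective_succ i S.X₂

include hI in
lemma isIso_δ (j : ℕ) : IsIso ((Horseshoe.derivedLES G).δ S hS (j + 1) (j + 2) rfl) := by
  have hm : Mono ((Horseshoe.derivedLES G).δ S hS (j + 1) (j + 2) rfl) :=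
    ((Horseshoe.derivedLES G).exact₃ S hS (j + 1) (j + 2) rfl).mono_g
      ((isZero_succ G hI j).eq_of_src _ _)
  have he : Epi ((Horseshoe.derivedLES G).δ S hS (j + 1) (j + 2) rfl) :=
    ((Horseshoe.derivedLES G).exact₁ S hS (j + 1) (j + 2) rfl).epi_f
      ((isZero_succ G hI (j + 1)).eq_of_tgt _ _)
  exact isIso_of_mono_of_epi _

include hI in
lemma epi_δ₀ : Epi ((Horseshoe.derivedLES G).δ S hS 0 1 rfl) :=
  ((Horseshoe.derivedLES G).exact₁ S hS 0 1 rfl).epi_f ((isZero_succ G hI 0).eq_of_tgt _ _)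

include hS in
lemma mono_f₀ : Mono ((G.rightDerived 0).map S.f) := by
  have := Horseshoe.rightDerived_zero_preservesFiniteLimits G
  have := hS.mono_f
  infer_instance

variable (hG : ∀ I : 𝒜, Injective I → FourTerm.Acyc E (G.obj I))

include hS hI hG in
lemma four (h₁ : Cls G E S.X₁) :
    (ShortComplex.mk (E.map ((G.rightDerived 0).map S.g))
      (E.map ((Horseshoe.derivedLES G).δ S hS 0 1 rfl)) (by
        rw [← E.map_comp, (Horseshoe.derivedLES G).comp_δ S hS 0 1 rfl, E.map_zero])).Exact ∧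
      Epi (E.map ((Horseshoe.derivedLES G).δ S hS 0 1 rfl)) ∧
      (FourTerm.Acyc E ((G.rightDerived 1).obj S.X₁) →
        FourTerm.Acyc E ((G.rightDerived 0).obj S.X₃)) := by
  have := mono_f₀ G hS
  have := epi_δ₀ G hS hI
  exact FourTerm.main E ((G.rightDerived 0).map S.f) ((G.rightDerived 0).map S.g)
    ((Horseshoe.derivedLES G).δ S hS 0 1 rfl)
    (by rw [← Functor.map_comp, S.zero, Functor.map_zero])
    ((Horseshoe.derivedLES G).comp_δ S hS 0 1 rfl)
    ((Horseshoe.derivedLES G).exact₂ S hS 0)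
    ((Horseshoe.derivedLES G).exact₃ S hS 0 1 rfl)
    (h₁ 0)
    (acyc_of_iso E ((G.rightDerivedZeroIsoSelf).app S.X₂).symm (hG _ hI))

include hS hI hG in
lemma cls_X₃ (h₁ : Cls G E S.X₁) : Cls G E S.X₃ := by
  intro q
  cases q with
  | zero => exact (four G E hS hI hG h₁).2.2 (h₁ 1)
  | succ j =>
    have := isIso_δ G hS hI j
    exact acyc_of_iso E (asIso ((Horseshoe.derivedLES G).δ S hS (j + 1) (j + 2) rfl)).symm
      (h₁ (j + 2))

end ses

variable (hG : ∀ I : 𝒜, Injective I → FourTerm.Acyc E (G.obj I))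

include hG in
lemma isExSeqOn_T : DeltaSeq.IsExSeqOn (Cls G E) (T G E) where
  ex S hS h₁ hI i := by
    cases i with
    | zero =>
      obtain ⟨e1, e2, _⟩ := four G E hS hI hG h₁
      refine ⟨E.map ((Horseshoe.derivedLES G).δ S hS 0 1 rfl), ?_, ?_, e1, ?_⟩
      · show E.map _ ≫ E.map _ = 0
        rw [← E.map_comp, (Horseshoe.derivedLES G).comp_δ S hS 0 1 rfl, E.map_zero]
      · exact (E.map_isZero (isZero_succ G hI 0)).eq_of_tgt _ _
      · exact (ShortComplex.exact_iff_epi _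
          ((E.map_isZero (isZero_succ G hI 0)).eq_of_tgt _ _)).2 e2
    | succ j =>
      have := isIso_δ G hS hI j
      refine ⟨E.map ((Horseshoe.derivedLES G).δ S hS (j + 1) (j + 2) rfl), ?_, ?_, ?_, ?_⟩
      · exact (E.map_isZero (isZero_succ G hI j)).eq_of_src _ _
      · exact (E.map_isZero (isZero_succ G hI (j + 1))).eq_of_tgt _ _
      · exact (ShortComplex.exact_iff_mono _
          ((E.map_isZero (isZero_succ G hI j)).eq_of_src _ _)).2 inferInstance
      · exact (ShortComplex.exact_iff_epi _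
          ((E.map_isZero (isZero_succ G hI (j + 1))).eq_of_tgt _ _)).2 inferInstance
  vanish I hI i := E.map_isZero (G.isZero_rightDerived_obj_injective_succ i I)

lemma isExSeqOn_T' : DeltaSeq.IsExSeqOn (Cls G E) (T' G E) :=
  (DeltaSeq.isExSeq_rightDerived (G ⋙ E)).on _

/-- the isomorphism in degree zero -/
noncomputable def e₀ : T G E 0 ≅ T' G E 0 :=
  Functor.isoWhiskerRight G.rightDerivedZeroIsoSelf E ≪≫ (G ⋙ E).rightDerivedZeroIsoSelf.symm

include hG in
/-- **degenerate Grothendieck spectral sequence**: if all `R^q G F` are `E`-acyclic then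
`R^q (E ∘ G) F ≅ E (R^q G F)`. -/
theorem main (F : 𝒜) (hF : Cls G E F) (q : ℕ) :
    Nonempty (E.obj ((G.rightDerived q).obj F) ≅ ((G ⋙ E).rightDerived q).obj F) :=
  DeltaSeq.iso_on (isExSeqOn_T G E hG) (isExSeqOn_T' G E)
    (fun S hS h₁ hI => cls_X₃ G E hS hI hG h₁) (e₀ G E) q F hF

end LerayDeg

end Groth.Agent.Lib.helper27
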