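import Mathlib
import Groth.Prelude.Def_CohTop
import Groth.Agent.Lib.Helper27.LerayDeg
import Groth.Agent.Lib.Helper27.PullConst
import Groth.Agent.Lib.Helper27.OpenRestr
import Groth.Agent.Lib.Helper27.ExtPsh

set_option autoImplicit false
set_option linter.unusedSectionVars false
set_option linter.unusedVariables false

namespace Groth.Agent.Lib.helper27

open CategoryTheory Limits Abelian Opposite TopologicalSpace

universe u

namespace LerayDegTop

/-- global sections -/
noncomputable abbrev ΓT (X : TopCat.{u}) : CohTop.Ab X ⥤ AddCommGrpCat.{u} :=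
  (sheafSections (Opens.grothendieckTopology X) AddCommGrpCat.{u}).obj (op (⊤ : Opens X))

instance (X : TopCat.{u}) : (ΓT X).Additive := ⟨fun {_ _ _ _} => rfl⟩

instance (X : TopCat.{u}) : PreservesFiniteLimits (ΓT X) := by
  show PreservesFiniteLimits (sheafToPresheaf _ _ ⋙ (evaluation _ _).obj (op ⊤))
  infer_instance

/-- the constant sheaf `ℤ` -/
noncomputable abbrev Zc (X : TopCat.{u}) : CohTop.Ab X :=
  (constantSheaf (Opens.grothendieckTopology X) AddCommGrpCat.{u}).obj (AddCommGrpCat.of (ULift ℤ))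

/-- derived functors of global sections are cohomology -/
theorem rightDerived_ΓT_iso (X : TopCat.{u}) (k : ℕ) (F : CohTop.Ab X) :
    Nonempty (((ΓT X).rightDerived k).obj F ≅ AddCommGrpCat.of (CohTop.H F k)) :=
  DeltaSeq.rightDerived_iso (ΓT X) (ExtPsh.isExSeq_ext.{u} (Zc X))
    (OpenRestr.ext₀Iso (Opens.grothendieckTopology X) isTerminalTop) k F

lemma acyc_of_subsingleton {X : TopCat.{u}} (F : CohTop.Ab X)
    (h : ∀ p : ℕ, Subsingleton (CohTop.H F (p + 1))) : FourTerm.Acyc (ΓT X) F := by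
  intro i hi
  obtain ⟨j, rfl⟩ : ∃ j, i = j + 1 := ⟨i - 1, by omega⟩
  obtain ⟨e⟩ := rightDerived_ΓT_iso X (j + 1) F
  have := h j
  exact (AddCommGrpCat.isZero_of_subsingleton (AddCommGrpCat.of (CohTop.H F (j + 1)))).of_iso e

lemma acyc_push_injective {X Y : TopCat.{u}} (f : X ⟶ Y) (I : CohTop.Ab X) (hI : Injective I) :
    FourTerm.Acyc (ΓT Y) ((CohTop.push f).obj I) := by
  have : Injective ((CohTop.push f).obj I) := Injective.injective_of_adjoint (PullConst.pbAdj f) I
  intro i hi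
  obtain ⟨j, rfl⟩ : ∃ j, i = j + 1 := ⟨i - 1, by omega⟩
  exact (ΓT Y).isZero_rightDerived_obj_injective_succ j _

/-- S0494 -/
theorem main {X Y : TopCat.{u}} (f : X ⟶ Y) (F : CohTop.Ab X)
    (h : ∀ p q : ℕ, Subsingleton (CohTop.H ((CohTop.Rpush f q).obj F) (p + 1))) (q : ℕ) :
    Nonempty (CohTop.H F q ≃+ ((CohTop.Rpush f q).obj F).obj.obj (op ⊤)) := by
  have hF : LerayDeg.Cls (CohTop.push f) (ΓT Y) F := fun q => acyc_of_subsingleton _ (fun p => h p q)
  obtain ⟨e⟩ := LerayDeg.main (CohTop.push f) (ΓT Y) (acyc_push_injective f) F hF q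
  obtain ⟨e'⟩ := rightDerived_ΓT_iso X q F
  have e'' : ((CohTop.push f ⋙ ΓT Y).rightDerived q).obj F ≅ AddCommGrpCat.of (CohTop.H F q) := e'
  exact ⟨(e ≪≫ e'').symm.addCommGroupIsoToAddEquiv⟩

end LerayDegTop

end Groth.Agent.Lib.helper27
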