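import Mathlib

set_option autoImplicit false
set_option linter.unusedVariables false
set_option linter.unusedSectionVars false

namespace Groth.Agent.Lib.helper27

open TopologicalSpace Topology Set

namespace SpecTop

section compactY

variable {Y : Type*} [TopologicalSpace Y]

/-- open sets of a prespectral space are open in the constructible topology -/
lemma isOpen_constructible_of_isOpen [PrespectralSpace Y] {s : Set Y} (hs : IsOpen s) :
    IsOpen[constructibleTopology Y] s := by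
  rw [PrespectralSpace.isTopologicalBasis.isOpen_iff] at hs
  have : s = ⋃₀ {t : Set Y | (IsOpen t ∧ IsCompact t) ∧ t ⊆ s} := by
    ext x
    constructor
    · intro hx
      obtain ⟨t, ht, hxt, hts⟩ := hs x hx
      exact ⟨t, ⟨ht, hts⟩, hxt⟩
    · rintro ⟨t, ⟨_, hts⟩, hxt⟩
      exact hts hxt
  rw [this]
  refine @isOpen_sUnion Y (constructibleTopology Y) _ ?_
  rintro t ⟨⟨ho, hc⟩, _⟩
  exact hc.isOpen_constructibleTopology_of_isOpen ho

lemma isClosed_constructible_of_isClosed [PrespectralSpace Y] {s : Set Y} (hs : IsClosed s) :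
    IsClosed[constructibleTopology Y] s := by
  rw [← @isOpen_compl_iff Y s (constructibleTopology Y)]
  exact isOpen_constructible_of_isOpen hs.isOpen_compl

lemma isClosed_constructible_of_isCompact_isOpen {s : Set Y} (hc : IsCompact s) (ho : IsOpen s) :
    IsClosed[constructibleTopology Y] s := by
  rw [← @isOpen_compl_iff Y s (constructibleTopology Y)]
  refine IsCompact.isOpen_constructibleTopology_of_isClosed ?_ ho.isClosed_compl
  rwa [compl_compl]

/-- a directed family of constructibly closed subsets of a spectral space with empty intersection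
has an empty member -/
theorem exists_eq_empty [CompactSpace Y] [QuasiSober Y] [PrespectralSpace Y]
    [QuasiSeparatedSpace Y] {ι : Type*} [Nonempty ι] (A : ι → Set Y)
    (hA : ∀ i, IsClosed[constructibleTopology Y] (A i)) (hdir : Directed (· ⊇ ·) A)
    (h : ⋂ i, A i = ∅) : ∃ i, A i = ∅ := by
  let B : ι → Set (WithConstructibleTopology Y) := fun i => WithTopology.ofTopology ⁻¹' (A i)
  have hB : ∀ i, IsClosed (B i) := by
    intro i
    rw [WithTopology.isClosed_iff]
    exact hA i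
  have hdirB : Directed (· ⊇ ·) B := by
    intro i j
    obtain ⟨k, hk1, hk2⟩ := hdir i j
    exact ⟨k, preimage_mono hk1, preimage_mono hk2⟩
  have hint : (univ ∩ ⋂ i, B i) = ∅ := by
    rw [univ_inter]
    ext z
    simp only [mem_iInter, mem_empty_iff_false, iff_false, not_forall]
    have : WithTopology.ofTopology z ∉ ⋂ i, A i := by rw [h]; exact fun h => h
    simpa [B] using this
  obtain ⟨i, hi⟩ := isCompact_univ.elim_directed_family_closed B hB hint hdirB
  refine ⟨i, ?_⟩
  rw [univ_inter] at hi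
  ext y
  simp only [mem_empty_iff_false, iff_false]
  intro hy
  have : WithTopology.toTopology (constructibleTopology Y) y ∈ B i := hy
  rw [hi] at this
  exact this

end compactY

section family

variable {X : Type*} [TopologicalSpace X] [QuasiSober X] [PrespectralSpace X]
  [QuasiSeparatedSpace X]

/-- **Key compactness lemma**: if the intersection of a directed family of compact opens meets
a compact open `K` inside an open `O`, so does a member of the family. -/
theorem exists_mem_inter_subset (𝒰 : Set (Opens X)) (hne : 𝒰.Nonempty)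
    (hc : ∀ U ∈ 𝒰, IsCompact (U : Set X))
    (hdir : ∀ U ∈ 𝒰, ∀ V ∈ 𝒰, ∃ W ∈ 𝒰, W ≤ U ⊓ V)
    (K : Set X) (hKo : IsOpen K) (hK : IsCompact K) (O : Set X) (hO : IsOpen O)
    (h : (⋂ U ∈ 𝒰, (U : Set X)) ∩ K ⊆ O) : ∃ U ∈ 𝒰, (U : Set X) ∩ K ⊆ O := by
  obtain ⟨U₀, hU₀⟩ := hne
  have hemb : IsOpenEmbedding (Subtype.val : ↥U₀ → X) := U₀.2.isOpenEmbedding_subtypeVal
  have : CompactSpace ↥U₀ := isCompact_iff_compactSpace.mp (hc U₀ hU₀)
  have : QuasiSober ↥U₀ := hemb.quasiSober
  have : PrespectralSpace ↥U₀ := hemb.prespectralSpace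
  have : QuasiSeparatedSpace ↥U₀ := hemb.quasiSeparatedSpace
  have : Nonempty 𝒰 := ⟨⟨U₀, hU₀⟩⟩
  let A : 𝒰 → Set ↥U₀ := fun U => Subtype.val ⁻¹' (((U : Opens X) : Set X) ∩ K ∩ Oᶜ)
  have hcomp : ∀ S : Set X, IsOpen S → IsCompact S →
      IsClosed[constructibleTopology ↥U₀] (Subtype.val ⁻¹' S : Set ↥U₀) := by
    intro S hSo hSc
    refine isClosed_constructible_of_isCompact_isOpen ?_ (hSo.preimage continuous_subtype_val)
    have h1 : IsCompact (S ∩ (U₀ : Set X)) :=
      QuasiSeparatedSpace.inter_isCompact S U₀ hSo hSc U₀.2 (hc U₀ hU₀)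
    have h2 : (Subtype.val ⁻¹' S : Set ↥U₀) = Subtype.val ⁻¹' (S ∩ (U₀ : Set X)) := by
      ext y
      simp
    rw [h2]
    exact (hemb.isInducing.isCompact_preimage_iff
      (by rw [Subtype.range_coe]; exact inter_subset_right)).2 h1
  have hA : ∀ U, IsClosed[constructibleTopology ↥U₀] (A U) := by
    intro U
    have e : A U = (Subtype.val ⁻¹' ((U : Opens X) : Set X)) ∩ (Subtype.val ⁻¹' K) ∩
        (Subtype.val ⁻¹' Oᶜ) := by
      simp [A, preimage_inter]
    rw [e]
    refine @IsClosed.inter _ _ _ (constructibleTopology ↥U₀)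
      (@IsClosed.inter _ _ _ (constructibleTopology ↥U₀) ?_ ?_) ?_
    · exact hcomp _ U.1.2 (hc U.1 U.2)
    · exact hcomp _ hKo hK
    · exact isClosed_constructible_of_isClosed (hO.isClosed_compl.preimage continuous_subtype_val)
  have hdirA : Directed (· ⊇ ·) A := by
    intro U V
    obtain ⟨W, hW, hWUV⟩ := hdir U.1 U.2 V.1 V.2
    refine ⟨⟨W, hW⟩, ?_, ?_⟩
    · intro y hy
      exact ⟨⟨(hWUV hy.1.1).1, hy.1.2⟩, hy.2⟩
    · intro y hy
      exact ⟨⟨(hWUV hy.1.1).2, hy.1.2⟩, hy.2⟩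
  have hint : ⋂ U, A U = ∅ := by
    ext y
    simp only [mem_iInter, mem_empty_iff_false, iff_false]
    intro hy
    have h1 : (y : X) ∈ (⋂ U ∈ 𝒰, (U : Set X)) ∩ K := by
      refine ⟨?_, (hy ⟨U₀, hU₀⟩).1.2⟩
      simp only [mem_iInter]
      intro U hU
      exact (hy ⟨U, hU⟩).1.1
    exact (hy ⟨U₀, hU₀⟩).2 (h h1)
  obtain ⟨U, hU⟩ := exists_eq_empty A hA hdirA hint
  obtain ⟨W, hW, hWU⟩ := hdir U.1 U.2 U₀ hU₀
  refine ⟨W, hW, ?_⟩
  rintro x ⟨hxW, hxK⟩
  by_contra hxO
  have : (⟨x, (hWU hxW).2⟩ : ↥U₀) ∈ A U := ⟨⟨(hWU hxW).1, hxK⟩, hxO⟩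
  rw [hU] at this
  exact this

/-- the intersection of a directed family of compact opens meets every compact open in a
compact set -/
theorem isCompact_iInter_inter (𝒰 : Set (Opens X)) (hne : 𝒰.Nonempty)
    (hc : ∀ U ∈ 𝒰, IsCompact (U : Set X))
    (hdir : ∀ U ∈ 𝒰, ∀ V ∈ 𝒰, ∃ W ∈ 𝒰, W ≤ U ⊓ V)
    (K : Set X) (hKo : IsOpen K) (hK : IsCompact K) :
    IsCompact ((⋂ U ∈ 𝒰, (U : Set X)) ∩ K) := by
  refine isCompact_of_finite_subcover (fun {ι} O hO hcov => ?_)
  obtain ⟨U, hU, hUK⟩ := exists_mem_inter_subset 𝒰 hne hc hdir K hKo hK (⋃ i, O i)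
    (isOpen_iUnion hO) hcov
  have hUKc : IsCompact ((U : Set X) ∩ K) :=
    QuasiSeparatedSpace.inter_isCompact U K U.2 (hc U hU) hKo hK
  obtain ⟨t, ht⟩ := hUKc.elim_finite_subcover O hO hUK
  refine ⟨t, subset_trans ?_ ht⟩
  rintro x ⟨hx, hxK⟩
  simp only [mem_iInter] at hx
  exact ⟨hx U hU, hxK⟩

end family

end SpecTop

end Groth.Agent.Lib.helper27
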