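import Mathlib
import Groth.Prelude.Def_CohTop
import Groth.Agent.Lib.Helper27.PullGerm
import Groth.Agent.Lib.Helper27.SpecTop

set_option autoImplicit false
set_option backward.isDefEq.respectTransparency false
set_option linter.unusedVariables false
set_option linter.unusedSectionVars false

namespace Groth.Agent.Lib.helper27

open CategoryTheory Limits Opposite TopologicalSpace

universe u

namespace SpecLim

/-- restriction of sections -/
noncomputable abbrev res {X : TopCat.{u}} (F : CohTop.Ab X) {U V : Opens X} (h : U ≤ V)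
    (s : F.obj.obj (op V)) : F.obj.obj (op U) :=
  F.obj.map (homOfLE h).op s

section res

variable {X : TopCat.{u}} (F : CohTop.Ab X)

lemma res_res {U V W : Opens X} (h₁ : U ≤ V) (h₂ : V ≤ W) (s : F.obj.obj (op W)) :
    res F h₁ (res F h₂ s) = res F (h₁.trans h₂) s := by
  unfold res
  rw [← ConcreteCategory.comp_apply, ← F.obj.map_comp]
  rfl

lemma res_self {U : Opens X} (s : F.obj.obj (op U)) : res F (le_refl U) s = s := by
  unfold res
  have : (homOfLE (le_refl U)).op = 𝟙 (op U) := rfl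
  rw [this, F.obj.map_id]
  rfl

lemma res_zero {U V : Opens X} (h : U ≤ V) : res F h (0 : F.obj.obj (op V)) = 0 :=
  map_zero _

lemma res_sub {U V : Opens X} (h : U ≤ V) (s t : F.obj.obj (op V)) :
    res F h (s - t) = res F h s - res F h t :=
  map_sub _ _ _

lemma res_add {U V : Opens X} (h : U ≤ V) (s t : F.obj.obj (op V)) :
    res F h (s + t) = res F h s + res F h t :=
  map_add _ _ _

lemma res_congr {U V : Opens X} (h h' : U ≤ V) (s : F.obj.obj (op V)) :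
    res F h s = res F h' s := rfl

lemma map_eq_res {U V : Opens X} (g : op V ⟶ op U) (s : F.obj.obj (op V)) :
    F.obj.map g s = res F (leOfHom g.unop) s := by
  have : g = (homOfLE (leOfHom g.unop)).op := Subsingleton.elim _ _
  rw [this]

/-- binary gluing -/
lemma glue₂ {U₁ U₂ : Opens X} (s₁ : F.obj.obj (op U₁)) (s₂ : F.obj.obj (op U₂))
    (h : res F (inf_le_left : U₁ ⊓ U₂ ≤ U₁) s₁ = res F (inf_le_right : U₁ ⊓ U₂ ≤ U₂) s₂)
    {V : Opens X} (h₁ : U₁ ≤ V) (h₂ : U₂ ≤ V) (hV : V ≤ U₁ ⊔ U₂) :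
    ∃ s : F.obj.obj (op V), res F h₁ s = s₁ ∧ res F h₂ s = s₂ := by
  let Uf : Bool → Opens X := fun b => if b then U₁ else U₂
  let sf : ∀ b : Bool, F.obj.obj (op (Uf b)) := fun b =>
    match b with
    | true => s₁
    | false => s₂
  have hcompat : TopCat.Presheaf.IsCompatible F.obj Uf sf := by
    rintro (_ | _) (_ | _)
    · rfl
    · show res F (inf_le_left : U₂ ⊓ U₁ ≤ U₂) s₂ = res F (inf_le_right : U₂ ⊓ U₁ ≤ U₁) s₁
      have e := congrArg (res F (le_of_eq (inf_comm _ _) : U₂ ⊓ U₁ ≤ U₁ ⊓ U₂)) h.symm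
      rw [res_res, res_res] at e
      exact e
    · exact h
    · rfl
  have hcover : V ≤ iSup Uf := by
    refine hV.trans (sup_le ?_ ?_)
    · exact le_iSup Uf true
    · exact le_iSup Uf false
  obtain ⟨s, hs, -⟩ := TopCat.Sheaf.existsUnique_gluing' (C := AddCommGrpCat.{u}) F Uf V
    (fun b => match b with
      | true => homOfLE h₁
      | false => homOfLE h₂) hcover sf hcompat
  exact ⟨s, hs true, hs false⟩

lemma eq_of_res₂ {U₁ U₂ V : Opens X} (h₁ : U₁ ≤ V) (h₂ : U₂ ≤ V) (hV : V ≤ U₁ ⊔ U₂)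
    (s t : F.obj.obj (op V)) (e₁ : res F h₁ s = res F h₁ t) (e₂ : res F h₂ s = res F h₂ t) :
    s = t :=
  TopCat.Sheaf.eq_of_locally_eq₂ (C := AddCommGrpCat.{u}) F (homOfLE h₁) (homOfLE h₂) hV s t e₁ e₂

end res

section general

variable {X Y : TopCat.{u}} (f : X ⟶ Y) (F : CohTop.Ab Y)

/-- the pulled back sheaf -/
noncomputable abbrev G : CohTop.Ab X := (CohTop.pull f).obj F

/-- the canonical map on sections -/
noncomputable abbrev ρ (V : Opens Y) :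
    F.obj.obj (op V) → (G f F).obj.obj (op ((Opens.map f).obj V)) :=
  PullGerm.ρ f F V

lemma ρ_zero (V : Opens Y) : ρ f F V 0 = 0 := map_zero _

lemma ρ_sub (V : Opens Y) (s t : F.obj.obj (op V)) : ρ f F V (s - t) = ρ f F V s - ρ f F V t :=
  map_sub _ _ _

lemma ρ_res {V' V : Opens Y} (h : V' ≤ V) (s : F.obj.obj (op V)) :
    ρ f F V' (res F h s) = res (G f F) ((Opens.map f).monotone h) (ρ f F V s) := by
  have := ConcreteCategory.congr_hom
    (((PullConst.pbAdj f).unit.app F).hom.naturality (homOfLE h).op) s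
  exact this

end general

section sub

variable {X : TopCat.{u}} (W : Set X)

/-- the inclusion of a subspace -/
abbrev incl : TopCat.of W ⟶ X := TopCat.ofHom ⟨Subtype.val, continuous_subtype_val⟩

/-- trace of an open on the subspace -/
abbrev pre (V : Opens X) : Opens (TopCat.of W) := (Opens.map (incl W)).obj V

lemma pre_mono {V' V : Opens X} (h : V' ≤ V) : pre W V' ≤ pre W V := (Opens.map (incl W)).monotone h

variable (F : CohTop.Ab X)

/-- every section of the pullback to a subspace is, near each point, the image of a section -/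
lemma exists_local_rep_nhd (W' : Opens (TopCat.of W)) (t : (G (incl W) F).obj.obj (op W'))
    (w : W) (hw : w ∈ W') :
    ∃ (V : Opens X) (hV : pre W V ≤ W'), (w : X) ∈ V ∧
      ∃ s : F.obj.obj (op V), ρ (incl W) F V s = res (G (incl W) F) hV t := by
  obtain ⟨V₁, hwV₁, s₁, hgerm⟩ := PullGerm.exists_local_rep (incl W) F W' t w hw
  obtain ⟨N, hwN, iU, iV, e⟩ := TopCat.Presheaf.germ_eq (G (incl W) F).obj w hw hwV₁ t
    (ρ (incl W) F V₁ s₁) hgerm
  obtain ⟨O₂, hO₂, hO₂N⟩ := isOpen_induced_iff.mp N.2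
  let V : Opens X := V₁ ⊓ ⟨O₂, hO₂⟩
  have hVN : pre W V ≤ N := by
    intro w' hw'
    have : w' ∈ Subtype.val ⁻¹' O₂ := hw'.2
    rw [hO₂N] at this
    exact this
  have hwV : (w : X) ∈ V := by
    refine ⟨hwV₁, ?_⟩
    have : w ∈ Subtype.val ⁻¹' O₂ := by rw [hO₂N]; exact hwN
    exact this
  refine ⟨V, hVN.trans iU.le, hwV, res F inf_le_left s₁, ?_⟩
  rw [ρ_res]
  have e' : res (G (incl W) F) iU.le t = res (G (incl W) F) iV.le (ρ (incl W) F V₁ s₁) := by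
    rw [← map_eq_res, ← map_eq_res]
    exact e
  have h1 : res (G (incl W) F) (pre_mono W (inf_le_left : V ≤ V₁)) (ρ (incl W) F V₁ s₁) =
      res (G (incl W) F) hVN (res (G (incl W) F) iV.le (ρ (incl W) F V₁ s₁)) := by
    rw [res_res]
  rw [h1, ← e', res_res]

end sub

section spectral

variable {X : TopCat.{u}} [QuasiSober X] [PrespectralSpace X] [QuasiSeparatedSpace X]
  (𝒰 : Set (Opens X)) (hne : 𝒰.Nonempty) (hc : ∀ U ∈ 𝒰, IsCompact (U : Set X))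
  (hdir : ∀ U ∈ 𝒰, ∀ V ∈ 𝒰, ∃ U' ∈ 𝒰, U' ≤ U ⊓ V)
  (W : Set X) (hW : ∀ x, x ∈ W ↔ ∀ U ∈ 𝒰, x ∈ U)
  (F : CohTop.Ab X)

include hne hc hdir hW

lemma W_eq : W = ⋂ U ∈ 𝒰, (U : Set X) := by
  ext x
  rw [hW]
  simp

/-- injectivity part of the `p = 0` statement -/
theorem exists_res_eq_zero (K : Opens X) (hK : IsCompact (K : Set X)) (s : F.obj.obj (op K))
    (h : ρ (incl W) F K s = 0) :
    ∃ U ∈ 𝒰, res F (inf_le_right : U ⊓ K ≤ K) s = 0 := by
  have hloc : ∀ w : {w : W // (w : X) ∈ K}, ∃ (V' : Opens X) (hV' : V' ≤ K),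
      ((w : W) : X) ∈ V' ∧ res F hV' s = 0 := by
    intro w
    refine PullGerm.exists_res_eq_zero (incl W) F K s w.1 w.2 ?_
    have : PullGerm.ρ (incl W) F K s = 0 := h
    rw [this, map_zero]
  choose V' hV' hwV' hsV' using hloc
  let O : Opens X := ⨆ w, V' w
  have hWK : (⋂ U ∈ 𝒰, (U : Set X)) ∩ (K : Set X) ⊆ (O : Set X) := by
    rintro x ⟨hxW, hxK⟩
    rw [← W_eq 𝒰 hne hc hdir W hW] at hxW
    exact Opens.mem_iSup.2 ⟨⟨⟨x, hxW⟩, hxK⟩, hwV' ⟨⟨x, hxW⟩, hxK⟩⟩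
  obtain ⟨U, hU, hUK⟩ := SpecTop.exists_mem_inter_subset 𝒰 hne hc hdir K K.2 hK O O.2 hWK
  refine ⟨U, hU, ?_⟩
  refine TopCat.Sheaf.eq_of_locally_eq' (C := AddCommGrpCat.{u}) F (fun w => V' w ⊓ (U ⊓ K))
    (U ⊓ K) (fun w => homOfLE inf_le_right) ?_ _ _ (fun w => ?_)
  · intro x hx
    obtain ⟨w, hw⟩ := Opens.mem_iSup.1 (hUK hx)
    exact Opens.mem_iSup.2 ⟨w, hw, hx⟩
  · show res F _ (res F _ s) = res F _ 0
    rw [res_zero, res_res]
    have : res F ((inf_le_left : V' w ⊓ (U ⊓ K) ≤ V' w).trans (hV' w)) s = 0 := by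
      rw [← res_res F (inf_le_left : V' w ⊓ (U ⊓ K) ≤ V' w) (hV' w), hsV' w, res_zero]
    exact this

omit hne hc hdir hW [QuasiSober X] [PrespectralSpace X] [QuasiSeparatedSpace X] in
lemma rep_res {V A B : Opens X} (hAV : A ≤ V) (hBA : B ≤ A)
    (t : (G (incl W) F).obj.obj (op (pre W V))) (s : F.obj.obj (op A))
    (h : ρ (incl W) F A s = res (G (incl W) F) (pre_mono W hAV) t) :
    ρ (incl W) F B (res F hBA s) = res (G (incl W) F) (pre_mono W (hBA.trans hAV)) t := by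
  rw [ρ_res, h, res_res]

omit hne hc hdir hW [QuasiSober X] [PrespectralSpace X] [QuasiSeparatedSpace X] in
lemma eq_of_empty (H : CohTop.Ab X) {A : Opens X} (hA : A = ⊥) (a b : H.obj.obj (op A)) :
    a = b := by
  refine TopCat.Sheaf.eq_of_locally_eq' (C := AddCommGrpCat.{u}) H (fun i : PEmpty.{1} => ⊥) A
    (fun i => i.elim) ?_ a b (fun i => i.elim)
  rw [hA]
  exact bot_le

/-- surjectivity part of the `p = 0` statement -/
theorem exists_section (V : Opens X) (hV : IsCompact (V : Set X))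
    (t : (G (incl W) F).obj.obj (op (pre W V))) :
    ∃ U ∈ 𝒰, ∃ s : F.obj.obj (op (U ⊓ V)),
      ρ (incl W) F (U ⊓ V) s =
        res (G (incl W) F) (pre_mono W (inf_le_right : U ⊓ V ≤ V)) t := by
  -- local representatives on compact opens
  have hloc : ∀ w : {w : W // (w : X) ∈ V}, ∃ (V' : Opens X) (hV'V : V' ≤ V),
      IsCompact (V' : Set X) ∧ ((w : W) : X) ∈ V' ∧ ∃ s : F.obj.obj (op V'),
        ρ (incl W) F V' s = res (G (incl W) F) (pre_mono W hV'V) t := by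
    intro w
    obtain ⟨V₁, hV₁, hwV₁, s₁, hs₁⟩ := exists_local_rep_nhd W F (pre W V) t w.1 w.2
    obtain ⟨B, ⟨hBo, hBc⟩, hwB, hBV⟩ := PrespectralSpace.isTopologicalBasis.exists_subset_of_mem_open
      (show ((w : W) : X) ∈ ((V₁ ⊓ V : Opens X) : Set X) from ⟨hwV₁, w.2⟩) (V₁ ⊓ V).2
    let V' : Opens X := ⟨B, hBo⟩
    have hV'V₁ : V' ≤ V₁ := fun x hx => (hBV hx).1
    have hV'V : V' ≤ V := fun x hx => (hBV hx).2
    refine ⟨V', hV'V, hBc, hwB, res F hV'V₁ s₁, ?_⟩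
    rw [ρ_res, hs₁, res_res]
  choose V' hV'V hV'c hwV' s' hs' using hloc
  let O : Opens X := ⨆ w, V' w
  have hWK : (⋂ U ∈ 𝒰, (U : Set X)) ∩ (V : Set X) ⊆ (O : Set X) := by
    rintro x ⟨hxW, hxV⟩
    rw [← W_eq 𝒰 hne hc hdir W hW] at hxW
    exact Opens.mem_iSup.2 ⟨⟨⟨x, hxW⟩, hxV⟩, hwV' ⟨⟨x, hxW⟩, hxV⟩⟩
  obtain ⟨U₁, hU₁, hU₁V⟩ := SpecTop.exists_mem_inter_subset 𝒰 hne hc hdir V V.2 hV O O.2 hWK
  have hS₀ : IsCompact ((U₁ : Set X) ∩ (V : Set X)) :=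
    QuasiSeparatedSpace.inter_isCompact (U₁ : Set X) (V : Set X) U₁.2 (hc U₁ hU₁) V.2 hV
  let p : Set X → Prop := fun S => ∃ (K : Opens X) (hKV : K ≤ V), IsCompact (K : Set X) ∧
    S ⊆ (K : Set X) ∧ ∃ U ∈ 𝒰, ∃ s : F.obj.obj (op (U ⊓ K)),
      ρ (incl W) F (U ⊓ K) s =
        res (G (incl W) F) (pre_mono W ((inf_le_right : U ⊓ K ≤ K).trans hKV)) t
  have hp : p ((U₁ : Set X) ∩ (V : Set X)) := by
    refine hS₀.induction_on ?_ ?_ ?_ ?_
    · -- empty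
      refine ⟨⊥, bot_le, by simp, Set.empty_subset _, U₁, hU₁, 0, ?_⟩
      refine eq_of_empty (G (incl W) F) ?_ _ _
      rw [inf_bot_eq]
      rfl
    · -- mono
      rintro S T hST ⟨K, hKV, hKc, hTK, rest⟩
      exact ⟨K, hKV, hKc, hST.trans hTK, rest⟩
    · -- union
      rintro S₁ S₂ ⟨K₁, hK₁V, hK₁c, hS₁, Ua, hUa, s₁, e₁⟩ ⟨K₂, hK₂V, hK₂c, hS₂, Ub, hUb, s₂, e₂⟩
      obtain ⟨U₃, hU₃, hU₃le⟩ := hdir Ua hUa Ub hUb
      let M : Opens X := U₃ ⊓ (K₁ ⊓ K₂)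
      have hMc : IsCompact (M : Set X) := by
        have h12 : IsCompact ((K₁ : Set X) ∩ (K₂ : Set X)) :=
          QuasiSeparatedSpace.inter_isCompact (K₁ : Set X) (K₂ : Set X) K₁.2 hK₁c K₂.2 hK₂c
        exact QuasiSeparatedSpace.inter_isCompact (U₃ : Set X) ((K₁ : Set X) ∩ (K₂ : Set X))
          U₃.2 (hc U₃ hU₃) (K₁ ⊓ K₂).2 h12
      have hM1 : M ≤ Ua ⊓ K₁ := le_inf (inf_le_left.trans (hU₃le.trans inf_le_left))
        (inf_le_right.trans inf_le_left)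
      have hM2 : M ≤ Ub ⊓ K₂ := le_inf (inf_le_left.trans (hU₃le.trans inf_le_right))
        (inf_le_right.trans inf_le_right)
      let d : F.obj.obj (op M) := res F hM1 s₁ - res F hM2 s₂
      have hd : ρ (incl W) F M d = 0 := by
        show ρ (incl W) F M (res F hM1 s₁ - res F hM2 s₂) = 0
        rw [ρ_sub, rep_res W F ((inf_le_right : Ua ⊓ K₁ ≤ K₁).trans hK₁V) hM1 t s₁ e₁,
          rep_res W F ((inf_le_right : Ub ⊓ K₂ ≤ K₂).trans hK₂V) hM2 t s₂ e₂, sub_self]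
      obtain ⟨U₄, hU₄, hU₄d⟩ := exists_res_eq_zero 𝒰 hne hc hdir W hW F M hMc d hd
      obtain ⟨U, hU, hUle⟩ := hdir U₄ hU₄ U₃ hU₃
      have hUa' : U ≤ Ua := hUle.trans (inf_le_right.trans (hU₃le.trans inf_le_left))
      have hUb' : U ≤ Ub := hUle.trans (inf_le_right.trans (hU₃le.trans inf_le_right))
      have h1 : U ⊓ K₁ ≤ Ua ⊓ K₁ := inf_le_inf_right _ hUa'
      have h2 : U ⊓ K₂ ≤ Ub ⊓ K₂ := inf_le_inf_right _ hUb'
      let a₁ := res F h1 s₁
      let a₂ := res F h2 s₂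
      have hI : (U ⊓ K₁) ⊓ (U ⊓ K₂) ≤ U₄ ⊓ M := by
        intro x hx
        exact ⟨(hUle hx.1.1).1, (hUle hx.1.1).2, hx.1.2, hx.2.2⟩
      have hcompat : res F (inf_le_left : (U ⊓ K₁) ⊓ (U ⊓ K₂) ≤ U ⊓ K₁) a₁ =
          res F (inf_le_right : (U ⊓ K₁) ⊓ (U ⊓ K₂) ≤ U ⊓ K₂) a₂ := by
        have e := congrArg (res F hI) hU₄d
        rw [res_res, res_zero] at e
        have e' : res F (hI.trans inf_le_right) d =
            res F ((hI.trans inf_le_right).trans hM1) s₁ -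
              res F ((hI.trans inf_le_right).trans hM2) s₂ := by
          show res F _ (res F hM1 s₁ - res F hM2 s₂) = _
          rw [res_sub, res_res, res_res]
        rw [e'] at e
        have e'' := sub_eq_zero.1 e
        show res F _ (res F h1 s₁) = res F _ (res F h2 s₂)
        rw [res_res, res_res]
        exact e''
      have hcov : U ⊓ (K₁ ⊔ K₂) ≤ (U ⊓ K₁) ⊔ (U ⊓ K₂) := inf_sup_left U K₁ K₂ ▸ le_refl _
      obtain ⟨s, hsa₁, hsa₂⟩ := glue₂ F a₁ a₂ hcompat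
        (inf_le_inf_left U le_sup_left : U ⊓ K₁ ≤ U ⊓ (K₁ ⊔ K₂))
        (inf_le_inf_left U le_sup_right : U ⊓ K₂ ≤ U ⊓ (K₁ ⊔ K₂)) hcov
      refine ⟨K₁ ⊔ K₂, sup_le hK₁V hK₂V, hK₁c.union hK₂c, Set.union_subset_union hS₁ hS₂, U, hU,
        s, ?_⟩
      refine eq_of_res₂ (G (incl W) F)
        (pre_mono W (inf_le_inf_left U le_sup_left : U ⊓ K₁ ≤ U ⊓ (K₁ ⊔ K₂)))
        (pre_mono W (inf_le_inf_left U le_sup_right : U ⊓ K₂ ≤ U ⊓ (K₁ ⊔ K₂))) ?_ _ _ ?_ ?_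
      · intro w hw
        rcases hw.2 with h | h
        · exact Or.inl ⟨hw.1, h⟩
        · exact Or.inr ⟨hw.1, h⟩
      · rw [← ρ_res (incl W) F (inf_le_inf_left U le_sup_left : U ⊓ K₁ ≤ U ⊓ (K₁ ⊔ K₂)), hsa₁,
          res_res]
        exact rep_res W F ((inf_le_right : Ua ⊓ K₁ ≤ K₁).trans hK₁V) h1 t s₁ e₁
      · rw [← ρ_res (incl W) F (inf_le_inf_left U le_sup_right : U ⊓ K₂ ≤ U ⊓ (K₁ ⊔ K₂)), hsa₂,
          res_res]
        exact rep_res W F ((inf_le_right : Ub ⊓ K₂ ≤ K₂).trans hK₂V) h2 t s₂ e₂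
    · -- local
      intro x hx
      obtain ⟨w, hw⟩ := Opens.mem_iSup.1 (hU₁V hx)
      refine ⟨(V' w : Set X) ∩ ((U₁ : Set X) ∩ (V : Set X)),
        mem_nhdsWithin.2 ⟨V' w, (V' w).2, hw, le_refl _⟩, ?_⟩
      refine ⟨V' w, hV'V w, hV'c w, Set.inter_subset_left, U₁, hU₁,
        res F (inf_le_right : U₁ ⊓ V' w ≤ V' w) (s' w), ?_⟩
      exact rep_res W F (hV'V w) (inf_le_right : U₁ ⊓ V' w ≤ V' w) t (s' w) (hs' w)
  obtain ⟨K, hKV, hKc, hSK, U, hU, s, hs⟩ := hp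
  obtain ⟨U', hU', hU'le⟩ := hdir U hU U₁ hU₁
  have hle : U' ⊓ V ≤ U ⊓ K := by
    intro x hx
    exact ⟨(hU'le hx.1).1, hSK ⟨(hU'le hx.1).2, hx.2⟩⟩
  refine ⟨U', hU', res F hle s, ?_⟩
  exact rep_res W F ((inf_le_right : U ⊓ K ≤ K).trans hKV) hle t s hs

end spectral

end SpecLim

end Groth.Agent.Lib.helper27
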