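import Mathlib
import Groth.Prelude.Def_CohTop
import Groth.Agent.Lib.Helper27.SpecLimA
import Groth.Agent.Lib.Helper27.AcyclicClass2
import Groth.Agent.Lib.Helper27.LerayDegTop
import Groth.Agent.Lib.Helper27.Horseshoe7
import Groth.Agent.S0454

set_option autoImplicit false
set_option backward.isDefEq.respectTransparency false
set_option linter.unusedVariables false
set_option linter.unusedSectionVars false

namespace Groth.Agent.Lib.helper27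

open CategoryTheory Limits Opposite TopologicalSpace

universe u

namespace SpecLim

section qcflasque

variable {Z : TopCat.{u}} (ℬ : Set (Opens Z))

/-- a sheaf is `ℬ`-flasque if restrictions between members of `ℬ` are surjective -/
def QcFlasque (G : CohTop.Ab Z) : Prop :=
  ∀ B ∈ ℬ, ∀ B' ∈ ℬ, ∀ h : B' ≤ B, Function.Surjective (res G h)

lemma qcFlasque_of_injective (I : CohTop.Ab Z) [Injective I] : QcFlasque ℬ I := by
  intro B _ B' _ h
  have hfl : TopCat.Sheaf.IsFlasque I := Groth.Agent.S0454.result I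
  have := hfl.epi (homOfLE h).op
  rw [AddCommGrpCat.epi_iff_surjective] at this
  exact this

/-- sections of a short exact sequence: exactness in the middle -/
lemma exists_of_g_eq_zero (S : ShortComplex (CohTop.Ab Z)) (hS : S.ShortExact) (V : Opens Z)
    (d : S.X₂.obj.obj (op V)) (hd : S.g.hom.app (op V) d = 0) :
    ∃ e : S.X₁.obj.obj (op V), S.f.hom.app (op V) e = d := by
  have hΓ : PreservesFiniteLimits ((sheafSections (Opens.grothendieckTopology Z)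
      AddCommGrpCat.{u}).obj (op V)) := by
    show PreservesFiniteLimits (sheafToPresheaf _ AddCommGrpCat.{u} ⋙ (evaluation _ _).obj (op V))
    infer_instance
  have hadd : ((sheafSections (Opens.grothendieckTopology Z) AddCommGrpCat.{u}).obj
      (op V)).Additive := ⟨fun {_ _ _ _} => rfl⟩
  have key : ∀ (S : ShortComplex (CohTop.Ab Z)), S.ShortExact →
      (S.map ((sheafSections (Opens.grothendieckTopology Z) AddCommGrpCat.{u}).obj (op V))).Exact ∧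
        Mono (((sheafSections (Opens.grothendieckTopology Z) AddCommGrpCat.{u}).obj (op V)).map
          S.f) :=
    ((Functor.preservesFiniteLimits_tfae
      ((sheafSections (Opens.grothendieckTopology Z) AddCommGrpCat.{u}).obj (op V))).out 3 0).1 hΓ
  obtain ⟨hex, -⟩ := key S hS
  rw [ShortComplex.ab_exact_iff] at hex
  exact hex d hd

lemma g_f_apply (S : ShortComplex (CohTop.Ab Z)) (V : Opens Z) (e : S.X₁.obj.obj (op V)) :
    S.g.hom.app (op V) (S.f.hom.app (op V) e) = 0 := by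
  rw [← ConcreteCategory.comp_apply, ← NatTrans.comp_app,
    ← ObjectProperty.FullSubcategory.comp_hom, S.zero]
  rfl

lemma hom_res {G G' : CohTop.Ab Z} (φ : G ⟶ G') {U V : Opens Z} (h : U ≤ V)
    (s : G.obj.obj (op V)) : φ.hom.app (op U) (res G h s) = res G' h (φ.hom.app (op V) s) :=
  ConcreteCategory.congr_hom (φ.hom.naturality (homOfLE h).op) s

variable (hbasis : ∀ (O : Opens Z) (z : Z), z ∈ O → ∃ B ∈ ℬ, z ∈ B ∧ B ≤ O)
  (hinf : ∀ B₁ ∈ ℬ, ∀ B₂ ∈ ℬ, B₁ ⊓ B₂ ∈ ℬ)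
  (hsup : ∀ B₁ ∈ ℬ, ∀ B₂ ∈ ℬ, B₁ ⊔ B₂ ∈ ℬ)
  (hbot : ⊥ ∈ ℬ)
  (hcomp : ∀ B ∈ ℬ, IsCompact (B : Set Z))

include hbasis hinf hsup hbot hcomp

/-- **Lemma B**: sections over members of `ℬ` are right exact on short exact sequences with
`ℬ`-flasque kernel -/
theorem surjective_of_qcFlasque (S : ShortComplex (CohTop.Ab Z)) (hS : S.ShortExact)
    (h₁ : QcFlasque ℬ S.X₁) (B : Opens Z) (hB : B ∈ ℬ) :
    Function.Surjective (S.g.hom.app (op B)) := by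
  intro t''
  have hepi : Epi S.g := hS.epi_g
  have hls := (TopCat.Sheaf.isLocallySurjective_iff_epi (C := AddCommGrpCat.{u}) (X := Z) S.g).mpr
    hepi
  rw [TopCat.Presheaf.isLocallySurjective_iff] at hls
  let p : Set Z → Prop := fun T => ∃ (B' : Opens Z) (hB'B : B' ≤ B), B' ∈ ℬ ∧ T ⊆ (B' : Set Z) ∧
    ∃ t : S.X₂.obj.obj (op B'), S.g.hom.app (op B') t = res S.X₃ hB'B t''
  have hp : p (B : Set Z) := by
    refine (hcomp B hB).induction_on ?_ ?_ ?_ ?_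
    · exact ⟨⊥, bot_le, hbot, Set.empty_subset _, 0, eq_of_empty S.X₃ rfl _ _⟩
    · rintro T T' hTT' ⟨B', hB'B, hB', hT', rest⟩
      exact ⟨B', hB'B, hB', hTT'.trans hT', rest⟩
    · rintro T₁ T₂ ⟨B₁, hB₁B, hB₁, hT₁, t₁, e₁⟩ ⟨B₂, hB₂B, hB₂, hT₂, t₂, e₂⟩
      let d : S.X₂.obj.obj (op (B₁ ⊓ B₂)) :=
        res S.X₂ (inf_le_left : B₁ ⊓ B₂ ≤ B₁) t₁ - res S.X₂ (inf_le_right : B₁ ⊓ B₂ ≤ B₂) t₂
      have hd : S.g.hom.app (op (B₁ ⊓ B₂)) d = 0 := by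
        show S.g.hom.app (op (B₁ ⊓ B₂)) (res S.X₂ _ t₁ - res S.X₂ _ t₂) = 0
        rw [map_sub, hom_res, hom_res, e₁, e₂, res_res, res_res, sub_self]
      obtain ⟨e, he⟩ := exists_of_g_eq_zero S hS _ d hd
      obtain ⟨e', he'⟩ := h₁ B₂ hB₂ (B₁ ⊓ B₂) (hinf B₁ hB₁ B₂ hB₂) inf_le_right e
      let t₂' : S.X₂.obj.obj (op B₂) := t₂ + S.f.hom.app (op B₂) e'
      have e₂' : S.g.hom.app (op B₂) t₂' = res S.X₃ hB₂B t'' := by
        show S.g.hom.app (op B₂) (t₂ + S.f.hom.app (op B₂) e') = _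
        rw [map_add, g_f_apply, add_zero, e₂]
      have hcompat : res S.X₂ (inf_le_left : B₁ ⊓ B₂ ≤ B₁) t₁ =
          res S.X₂ (inf_le_right : B₁ ⊓ B₂ ≤ B₂) t₂' := by
        show _ = res S.X₂ _ (t₂ + S.f.hom.app (op B₂) e')
        rw [res_add, ← hom_res, he', he]
        show _ = _ + (res S.X₂ _ t₁ - res S.X₂ _ t₂)
        abel
      obtain ⟨t, ht₁, ht₂⟩ := glue₂ S.X₂ t₁ t₂' hcompat
        (le_sup_left : B₁ ≤ B₁ ⊔ B₂) (le_sup_right : B₂ ≤ B₁ ⊔ B₂) (le_refl _)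
      refine ⟨B₁ ⊔ B₂, sup_le hB₁B hB₂B, hsup B₁ hB₁ B₂ hB₂, Set.union_subset_union hT₁ hT₂, t, ?_⟩
      refine eq_of_res₂ S.X₃ (le_sup_left : B₁ ≤ B₁ ⊔ B₂) (le_sup_right : B₂ ≤ B₁ ⊔ B₂)
        (le_refl _) _ _ ?_ ?_
      · rw [← hom_res, ht₁, e₁, res_res]
      · rw [← hom_res, ht₂, e₂', res_res]
    · intro z hz
      obtain ⟨O, hOB, ⟨t, ht⟩, hzO⟩ := hls B t'' z hz
      obtain ⟨B', hB', hzB', hB'O⟩ := hbasis O z hzO
      refine ⟨(B' : Set Z) ∩ (B : Set Z), mem_nhdsWithin.2 ⟨B', B'.2, hzB', le_refl _⟩, ?_⟩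
      refine ⟨B', hB'O.trans hOB, hB', Set.inter_subset_left, res S.X₂ hB'O t, ?_⟩
      rw [hom_res]
      have : S.g.hom.app (op O) t = res S.X₃ hOB t'' := ht
      rw [this, res_res]
  obtain ⟨B', hB'B, hB', hBB', t, ht⟩ := hp
  have hBeq : B' = B := le_antisymm hB'B hBB'
  subst hBeq
  exact ⟨t, by rw [ht, res_self]⟩

/-- the quotient of a `ℬ`-flasque sheaf by a `ℬ`-flasque subsheaf is `ℬ`-flasque -/
theorem qcFlasque_X₃ (S : ShortComplex (CohTop.Ab Z)) (hS : S.ShortExact)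
    (h₁ : QcFlasque ℬ S.X₁) (h₂ : QcFlasque ℬ S.X₂) : QcFlasque ℬ S.X₃ := by
  intro B hB B' hB' h t''
  obtain ⟨t, ht⟩ := surjective_of_qcFlasque ℬ hbasis hinf hsup hbot hcomp S hS h₁ B' hB' t''
  obtain ⟨t', ht'⟩ := h₂ B hB B' hB' h t
  refine ⟨S.g.hom.app (op B) t', ?_⟩
  rw [← hom_res, ht', ht]

/-- `ℬ`-flasque sheaves are acyclic for global sections -/
theorem subsingleton_H_of_qcFlasque (htop : ⊤ ∈ ℬ) (G : CohTop.Ab Z) (hG : QcFlasque ℬ G)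
    (q : ℕ) : Subsingleton (CohTop.H G (q + 1)) := by
  have h1 : ∀ F : CohTop.Ab Z, ∃ (Y : CohTop.Ab Z) (ι : F ⟶ Y), QcFlasque ℬ Y ∧ Mono ι :=
    fun F => ⟨Injective.under F, Injective.ι F, qcFlasque_of_injective ℬ _, inferInstance⟩
  have h2 : ∀ S : ShortComplex (CohTop.Ab Z), S.ShortExact → QcFlasque ℬ S.X₁ →
      QcFlasque ℬ S.X₂ → QcFlasque ℬ S.X₃ ∧ (S.map (LerayDegTop.ΓT Z)).ShortExact := by
    intro S hS a b
    refine ⟨qcFlasque_X₃ ℬ hbasis hinf hsup hbot hcomp S hS a b, ?_⟩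
    refine Horseshoe.map_shortExact_of_epi (LerayDegTop.ΓT Z) hS ?_
    rw [AddCommGrpCat.epi_iff_surjective]
    exact surjective_of_qcFlasque ℬ hbasis hinf hsup hbot hcomp S hS a ⊤ htop
  have hz := Horseshoe.isZero_rightDerived_succ_of_class (LerayDegTop.ΓT Z) (QcFlasque ℬ) h1 h2 q
    G hG
  obtain ⟨e⟩ := LerayDegTop.rightDerived_ΓT_iso Z (q + 1) G
  have hz' := hz.of_iso e.symm
  exact (AddCommGrpCat.subsingleton_of_isZero hz')

end qcflasque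

section apply

variable {X : TopCat.{u}} [QuasiSober X] [PrespectralSpace X] [QuasiSeparatedSpace X]
  (𝒰 : Set (Opens X)) (hne : 𝒰.Nonempty) (hc : ∀ U ∈ 𝒰, IsCompact (U : Set X))
  (hdir : ∀ U ∈ 𝒰, ∀ V ∈ 𝒰, ∃ U' ∈ 𝒰, U' ≤ U ⊓ V)
  (W : Set X) (hW : ∀ x, x ∈ W ↔ ∀ U ∈ 𝒰, x ∈ U)

/-- the basis of traces of compact opens -/
def 𝔅 : Set (Opens (TopCat.of W)) := {B | ∃ V : Opens X, IsCompact (V : Set X) ∧ B = pre W V}

omit [QuasiSober X] [QuasiSeparatedSpace X] in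
lemma 𝔅_basis (O : Opens (TopCat.of W)) (w : TopCat.of W) (hw : w ∈ O) :
    ∃ B ∈ 𝔅 W, w ∈ B ∧ B ≤ O := by
  obtain ⟨O', hO', hO'O⟩ := isOpen_induced_iff.mp O.2
  have hw' : (w : X) ∈ O' := by
    have : w ∈ Subtype.val ⁻¹' O' := by rw [hO'O]; exact hw
    exact this
  obtain ⟨K, ⟨hKo, hKc⟩, hwK, hKO'⟩ :=
    PrespectralSpace.isTopologicalBasis.exists_subset_of_mem_open hw' hO'
  refine ⟨pre W ⟨K, hKo⟩, ⟨⟨K, hKo⟩, hKc, rfl⟩, hwK, ?_⟩
  intro w' hw'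
  have : w' ∈ Subtype.val ⁻¹' O' := hKO' hw'
  rw [hO'O] at this
  exact this

omit [QuasiSober X] [PrespectralSpace X] in
lemma 𝔅_inf (B₁ : Opens (TopCat.of W)) (h₁ : B₁ ∈ 𝔅 W) (B₂ : Opens (TopCat.of W))
    (h₂ : B₂ ∈ 𝔅 W) : B₁ ⊓ B₂ ∈ 𝔅 W := by
  obtain ⟨V₁, hV₁, rfl⟩ := h₁
  obtain ⟨V₂, hV₂, rfl⟩ := h₂
  exact ⟨V₁ ⊓ V₂, QuasiSeparatedSpace.inter_isCompact (V₁ : Set X) (V₂ : Set X) V₁.2 hV₁ V₂.2 hV₂,
    rfl⟩

omit [QuasiSober X] [PrespectralSpace X] [QuasiSeparatedSpace X] in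
lemma 𝔅_sup (B₁ : Opens (TopCat.of W)) (h₁ : B₁ ∈ 𝔅 W) (B₂ : Opens (TopCat.of W))
    (h₂ : B₂ ∈ 𝔅 W) : B₁ ⊔ B₂ ∈ 𝔅 W := by
  obtain ⟨V₁, hV₁, rfl⟩ := h₁
  obtain ⟨V₂, hV₂, rfl⟩ := h₂
  exact ⟨V₁ ⊔ V₂, hV₁.union hV₂, rfl⟩

omit [QuasiSober X] [PrespectralSpace X] [QuasiSeparatedSpace X] in
lemma 𝔅_bot : (⊥ : Opens (TopCat.of W)) ∈ 𝔅 W := ⟨⊥, by simp, rfl⟩

include hne hc hW in
omit [QuasiSober X] [PrespectralSpace X] [QuasiSeparatedSpace X] in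
lemma 𝔅_top : (⊤ : Opens (TopCat.of W)) ∈ 𝔅 W := by
  obtain ⟨U₀, hU₀⟩ := hne
  refine ⟨U₀, hc U₀ hU₀, ?_⟩
  ext w
  simp only [Opens.coe_top, Set.mem_univ, true_iff]
  exact (hW w.1).1 w.2 U₀ hU₀

include hne hc hdir hW in
lemma 𝔅_compact (B : Opens (TopCat.of W)) (hB : B ∈ 𝔅 W) : IsCompact (B : Set (TopCat.of W)) := by
  obtain ⟨V, hV, rfl⟩ := hB
  have h1 := SpecTop.isCompact_iInter_inter 𝒰 hne hc hdir V V.2 hV
  rw [← W_eq 𝒰 hne hc hdir W hW] at h1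
  have hind : Topology.IsInducing (Subtype.val : W → X) := Topology.IsInducing.subtypeVal
  have h2 : ((pre W V : Opens (TopCat.of W)) : Set (TopCat.of W)) =
      (Subtype.val : W → X) ⁻¹' (W ∩ (V : Set X)) := by
    ext w
    constructor
    · intro h
      exact ⟨w.2, h⟩
    · intro h
      exact h.2
  rw [h2]
  exact (hind.isCompact_preimage_iff (by rw [Subtype.range_coe]; exact Set.inter_subset_left)).2 h1

include hne hc hdir hW in
/-- the pullback of a flasque sheaf to `W` is `𝔅`-flasque -/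
theorem qcFlasque_pull (I : CohTop.Ab X) (hI : TopCat.Sheaf.IsFlasque I) :
    QcFlasque (𝔅 W) ((CohTop.pull (incl W)).obj I) := by
  rintro B ⟨V, hV, rfl⟩ B' ⟨V', hV', rfl⟩ h t'
  let V'' : Opens X := V' ⊓ V
  have hV''c : IsCompact (V'' : Set X) :=
    QuasiSeparatedSpace.inter_isCompact (V' : Set X) (V : Set X) V'.2 hV' V.2 hV
  have h1 : pre W V'' ≤ pre W V' := pre_mono W inf_le_left
  have h2 : pre W V' ≤ pre W V'' := fun w hw => ⟨hw, h hw⟩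
  obtain ⟨U, hU, s, hs⟩ := exists_section 𝒰 hne hc hdir W hW I V'' hV''c
    (res (G (incl W) I) h1 t')
  have hUV : U ⊓ V'' ≤ V := inf_le_right.trans inf_le_right
  have hsurj := hI.epi (homOfLE hUV).op
  rw [AddCommGrpCat.epi_iff_surjective] at hsurj
  obtain ⟨ŝ, hŝ⟩ := hsurj s
  refine ⟨ρ (incl W) I V ŝ, ?_⟩
  have h3 : pre W (U ⊓ V'') ≤ pre W V' := (pre_mono W inf_le_right).trans h1
  have h4 : pre W V' ≤ pre W (U ⊓ V'') := fun w hw => ⟨(hW w.1).1 w.2 U hU, hw, h hw⟩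
  have key : res (G (incl W) I) h3 (res (G (incl W) I) h (ρ (incl W) I V ŝ)) =
      res (G (incl W) I) h3 t' := by
    rw [res_res, ← ρ_res (incl W) I hUV]
    have : res I hUV ŝ = s := hŝ
    rw [this, hs, res_res]
  have := congrArg (res (G (incl W) I) h4) key
  have e1 : res (G (incl W) I) h4 (res (G (incl W) I) h3 (res (G (incl W) I) h
      (ρ (incl W) I V ŝ))) = res (G (incl W) I) h (ρ (incl W) I V ŝ) := by
    rw [res_res, res_res]
  have e2 : res (G (incl W) I) h4 (res (G (incl W) I) h3 t') = t' := by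
    rw [res_res]
    exact res_self _ _
  rw [e1, e2] at this
  exact this

include hne hc hdir hW in
/-- the pullback of an injective sheaf to `W` is acyclic -/
theorem subsingleton_H_pull_injective (I : CohTop.Ab X) [Injective I] (q : ℕ) :
    Subsingleton (CohTop.H ((CohTop.pull (incl W)).obj I) (q + 1)) :=
  subsingleton_H_of_qcFlasque (𝔅 W) (𝔅_basis W) (𝔅_inf W) (𝔅_sup W) (𝔅_bot W)
    (𝔅_compact 𝒰 hne hc hdir W hW) (𝔅_top 𝒰 hne hc W hW) _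
    (qcFlasque_pull 𝒰 hne hc hdir W hW I (Groth.Agent.S0454.result I)) q

end apply

end SpecLim

end Groth.Agent.Lib.helper27
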