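import Mathlib
import Groth.Prelude.Def_CohTop
import Groth.Agent.Lib.Helper27.SpecLimB
import Groth.Agent.Lib.Helper27.DeltaSeq
import Groth.Agent.Lib.Helper27.ExtPsh
import Groth.Agent.Lib.Helper27.CohPsh
import Groth.Agent.Lib.Helper27.OpenRestr

set_option autoImplicit false
set_option backward.isDefEq.respectTransparency false
set_option linter.unusedVariables false
set_option linter.unusedSectionVars false

namespace Groth.Agent.Lib.helper27

open CategoryTheory Limits Opposite TopologicalSpace Abelian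
open Groth.Agent.Lib.helper7

universe u

namespace SpecLim

section main

variable {X : TopCat.{u}} [QuasiSober X] [PrespectralSpace X] [QuasiSeparatedSpace X]
  {Λ : Type u} [SmallCategory Λ] [IsFiltered Λ] (φ : Λ ⥤ (Opens X)ᵒᵖ)
  (hφc : ∀ l, IsCompact ((φ.obj l).unop : Set X))
  (W : Set X) (hW : ∀ x, x ∈ W ↔ ∀ l, x ∈ (φ.obj l).unop)

/-- the family of opens -/
def fam : Set (Opens X) := Set.range (fun l => (φ.obj l).unop)

lemma fam_nonempty : (fam φ).Nonempty := ⟨_, ⟨IsFiltered.nonempty.some, rfl⟩⟩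

include hφc in
lemma fam_compact : ∀ U ∈ fam φ, IsCompact (U : Set X) := by
  rintro U ⟨l, rfl⟩
  exact hφc l

lemma fam_dir : ∀ U ∈ fam φ, ∀ V ∈ fam φ, ∃ U' ∈ fam φ, U' ≤ U ⊓ V := by
  rintro U ⟨l, rfl⟩ V ⟨l', rfl⟩
  refine ⟨_, ⟨IsFiltered.max l l', rfl⟩, le_inf ?_ ?_⟩
  · exact leOfHom (φ.map (IsFiltered.leftToMax l l')).unop
  · exact leOfHom (φ.map (IsFiltered.rightToMax l l')).unop

include hW in
lemma fam_W : ∀ x, x ∈ W ↔ ∀ U ∈ fam φ, x ∈ U := by
  intro x
  rw [hW]
  constructor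
  · rintro h U ⟨l, rfl⟩
    exact h l
  · intro h l
    exact h _ ⟨l, rfl⟩

/-- restrict along `φ`, then take the colimit -/
noncomputable abbrev E : ((Opens X)ᵒᵖ ⥤ AddCommGrpCat.{u}) ⥤ AddCommGrpCat.{u} :=
  (Functor.whiskeringLeft Λ (Opens X)ᵒᵖ AddCommGrpCat.{u}).obj φ ⋙ colim

/-- `F ↦ colim_l H^n(U_l, F)` -/
noncomputable abbrev T (n : ℕ) : CohTop.Ab X ⥤ AddCommGrpCat.{u} :=
  ExtPsh.Tp.{u} (FreeYoneda.freeSheaf (Opens.grothendieckTopology X)) n ⋙ E φ

lemma isExSeq_T : DeltaSeq.IsExSeq (T φ) :=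
  (ExtPsh.isExSeq_Tp (FreeYoneda.freeSheaf (Opens.grothendieckTopology X))).comp (E φ)

/-- `F ↦ H^n(W, F|_W)` -/
noncomputable abbrev T' (n : ℕ) : CohTop.Ab X ⥤ AddCommGrpCat.{u} :=
  CohTop.pull (incl W) ⋙ (extFunctor.{u} n).obj (op (LerayDegTop.Zc (TopCat.of W)))

instance : (CohTop.pull (incl W)).Additive := PullConst.pull_additive _

instance : PreservesFiniteLimits (CohTop.pull (incl W)) := PullConst.pull_preservesFiniteLimits _

instance : PreservesFiniteColimits (CohTop.pull (incl W)) :=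
  PullConst.pull_preservesFiniteColimits _

include hφc hW in
lemma isExSeq_T' : DeltaSeq.IsExSeq (T' W) := by
  refine (ExtPsh.isExSeq_ext.{u} (LerayDegTop.Zc (TopCat.of W))).precomp (CohTop.pull (incl W)) ?_
  intro I hI i
  have := subsingleton_H_pull_injective (fam φ) (fam_nonempty φ) (fam_compact φ hφc) (fam_dir φ)
    W (fam_W φ W hW) I i
  exact AddCommGrpCat.isZero_of_subsingleton
    (AddCommGrpCat.of (CohTop.H ((CohTop.pull (incl W)).obj I) (i + 1)))

include hW in
lemma top_le_pre (l : Λ) : (⊤ : Opens (TopCat.of W)) ≤ pre W (φ.obj l).unop :=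
  fun w _ => (hW w.1).1 w.2 l

/-- the legs of the comparison cocone -/
noncomputable def leg (F : CohTop.Ab X) (l : Λ) :
    F.obj.obj (φ.obj l) ⟶ ((CohTop.pull (incl W)).obj F).obj.obj (op ⊤) :=
  PullGerm.ρ (incl W) F (φ.obj l).unop ≫
    ((CohTop.pull (incl W)).obj F).obj.map (homOfLE (top_le_pre φ W hW l)).op

lemma leg_apply (F : CohTop.Ab X) (l : Λ) (s : F.obj.obj (φ.obj l)) :
    leg φ W hW F l s = res (G (incl W) F) (top_le_pre φ W hW l) (ρ (incl W) F (φ.obj l).unop s) :=
  rfl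

/-- the comparison cocone -/
noncomputable def cc (F : CohTop.Ab X) : Cocone (φ ⋙ F.obj) where
  pt := ((CohTop.pull (incl W)).obj F).obj.obj (op ⊤)
  ι :=
    { app := fun l => leg φ W hW F l
      naturality := by
        intro l l' g
        apply AddCommGrpCat.hom_ext
        apply AddMonoidHom.ext
        intro s
        show leg φ W hW F l' (F.obj.map (φ.map g) s) = leg φ W hW F l s
        rw [leg_apply, leg_apply, map_eq_res F (φ.map g) s, ρ_res, res_res] }

/-- the comparison in degree zero -/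
noncomputable def τapp (F : CohTop.Ab X) :
    colimit (φ ⋙ F.obj) ⟶ ((CohTop.pull (incl W)).obj F).obj.obj (op ⊤) :=
  colimit.desc (φ ⋙ F.obj) (cc φ W hW F)

lemma τapp_ι (F : CohTop.Ab X) (l : Λ) (s : F.obj.obj (φ.obj l)) :
    τapp φ W hW F (colimit.ι (φ ⋙ F.obj) l s) = leg φ W hW F l s := by
  have := colimit.ι_desc (cc φ W hW F) l
  exact ConcreteCategory.congr_hom this s

include hφc in
lemma τapp_surjective (F : CohTop.Ab X) : Function.Surjective (τapp φ W hW F) := by
  intro t
  let l₀ : Λ := IsFiltered.nonempty.some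
  let V : Opens X := (φ.obj l₀).unop
  obtain ⟨U, ⟨l, rfl⟩, s, hs⟩ := exists_section (fam φ) (fam_nonempty φ) (fam_compact φ hφc)
    (fam_dir φ) W (fam_W φ W hW) F V (hφc l₀) (res (G (incl W) F) le_top t)
  let l' := IsFiltered.max l l₀
  have h1 : (φ.obj l').unop ≤ (φ.obj l).unop ⊓ V :=
    le_inf (leOfHom (φ.map (IsFiltered.leftToMax l l₀)).unop)
      (leOfHom (φ.map (IsFiltered.rightToMax l l₀)).unop)
  refine ⟨colimit.ι (φ ⋙ F.obj) l' (res F h1 s), ?_⟩
  rw [τapp_ι, leg_apply, ρ_res, hs, res_res, res_res, res_res]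
  exact res_self _ _

include hφc in
lemma τapp_injective (F : CohTop.Ab X) : Function.Injective (τapp φ W hW F) := by
  rw [injective_iff_map_eq_zero]
  intro x hx
  obtain ⟨l, s, rfl⟩ := Concrete.colimit_exists_rep (φ ⋙ F.obj) x
  rw [τapp_ι, leg_apply] at hx
  have hρ : ρ (incl W) F (φ.obj l).unop s = 0 := by
    have h2 : pre W (φ.obj l).unop ≤ ⊤ := le_top
    have := congrArg (res (G (incl W) F) h2) hx
    rw [res_res, res_zero] at this
    rw [← this]
    exact (res_self _ _).symm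
  obtain ⟨U, ⟨l₁, rfl⟩, hs⟩ := exists_res_eq_zero (fam φ) (fam_nonempty φ) (fam_compact φ hφc)
    (fam_dir φ) W (fam_W φ W hW) F (φ.obj l).unop (hφc l) s hρ
  let l' := IsFiltered.max l l₁
  have h1 : (φ.obj l').unop ≤ (φ.obj l₁).unop ⊓ (φ.obj l).unop :=
    le_inf (leOfHom (φ.map (IsFiltered.rightToMax l l₁)).unop)
      (leOfHom (φ.map (IsFiltered.leftToMax l l₁)).unop)
  have h3 : F.obj.map (φ.map (IsFiltered.leftToMax l l₁)) s = 0 := by
    rw [map_eq_res]
    have := congrArg (res F h1) hs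
    rw [res_res, res_zero] at this
    exact this
  have h4 := ConcreteCategory.congr_hom (colimit.w (φ ⋙ F.obj) (IsFiltered.leftToMax l l₁)) s
  have h5 : colimit.ι (φ ⋙ F.obj) l s =
      colimit.ι (φ ⋙ F.obj) l' (F.obj.map (φ.map (IsFiltered.leftToMax l l₁)) s) := h4.symm
  rw [h5, h3, map_zero]

/-- the comparison as a natural transformation -/
noncomputable def τ : sheafToPresheaf (Opens.grothendieckTopology X) AddCommGrpCat.{u} ⋙ E φ ⟶
    CohTop.pull (incl W) ⋙ LerayDegTop.ΓT (TopCat.of W) where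
  app F := τapp φ W hW F
  naturality := by
    intro F F' α
    apply colimit.hom_ext
    intro l
    apply AddCommGrpCat.hom_ext
    apply AddMonoidHom.ext
    intro s
    show τapp φ W hW F' ((colim.map (Functor.whiskerLeft φ α.hom))
      (colimit.ι (φ ⋙ F.obj) l s)) =
      ((CohTop.pull (incl W)).map α).hom.app (op ⊤) (τapp φ W hW F (colimit.ι (φ ⋙ F.obj) l s))
    have e1 : (colim.map (Functor.whiskerLeft φ α.hom)) (colimit.ι (φ ⋙ F.obj) l s) =
        colimit.ι (φ ⋙ F'.obj) l (α.hom.app (φ.obj l) s) := by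
      have := colimit.ι_map (Functor.whiskerLeft φ α.hom) l
      exact ConcreteCategory.congr_hom this s
    rw [e1, τapp_ι, τapp_ι, leg_apply, leg_apply]
    have hnat := (PullConst.pbAdj (incl W)).unit.naturality α
    have hnat' := ConcreteCategory.congr_hom
      (congrArg (fun β => β.hom.app (φ.obj l)) hnat) s
    have e2 : ρ (incl W) F' (φ.obj l).unop (α.hom.app (φ.obj l) s) =
        ((CohTop.pull (incl W)).map α).hom.app (op (pre W (φ.obj l).unop))
          (ρ (incl W) F (φ.obj l).unop s) := hnat'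
    rw [e2]
    exact (SpecLim.hom_res ((CohTop.pull (incl W)).map α) _ _).symm

include hφc in
lemma isIso_τ : IsIso (τ φ W hW) := by
  have : ∀ F, IsIso ((τ φ W hW).app F) := by
    intro F
    apply (ConcreteCategory.isIso_iff_bijective _).2
    exact ⟨τapp_injective φ hφc W hW F, τapp_surjective φ hφc W hW F⟩
  exact NatIso.isIso_of_isIso_app _

/-- the degree zero isomorphism -/
noncomputable def e₀ : T φ 0 ≅ T' W 0 :=
  haveI := isIso_τ φ hφc W hW
  Functor.isoWhiskerRight (CohPsh.tp₀Iso (Opens.grothendieckTopology X)) (E φ) ≪≫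
    asIso (τ φ W hW) ≪≫
    (Functor.isoWhiskerLeft (CohTop.pull (incl W))
      (OpenRestr.ext₀Iso (Opens.grothendieckTopology (TopCat.of W)) isTerminalTop)).symm

include hφc hW in
/-- **Main theorem**: the cohomology of the intersection `W` of a filtered family of compact
opens of a (pre)spectral space is the colimit of the cohomologies of the members. -/
theorem main (F : CohTop.Ab X) (p : ℕ) :
    Nonempty (colimit (φ ⋙ (Sheaf.cohomologyPresheafFunctor (Opens.grothendieckTopology X) p).obj F)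
      ≅ AddCommGrpCat.of (CohTop.H ((CohTop.pull (incl W)).obj F) p)) :=
  DeltaSeq.iso (isExSeq_T φ) (isExSeq_T' φ hφc W hW) (e₀ φ hφc W hW) p F

end main

end SpecLim

end Groth.Agent.Lib.helper27
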