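import Mathlib
import Groth.Prelude.Def_CohTop
import Groth.Agent.Lib.Helper27.SpecLimC

set_option autoImplicit false
set_option backward.isDefEq.respectTransparency false
set_option linter.unusedVariables false
set_option linter.unusedSectionVars false

namespace Groth.Agent.Lib.helper27

open CategoryTheory Limits Opposite TopologicalSpace

universe u

namespace SpecLim

section filt

variable {Y : TopCat.{u}} (P : ObjectProperty (Opens Y)ᵒᵖ)

/-- a full subcategory of `(Opens Y)ᵒᵖ` closed under binary intersections and nonempty is
filtered -/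
lemma isFiltered_fullSubcategory (hne : ∃ U, P U)
    (hinf : ∀ U V, P U → P V → P (op (U.unop ⊓ V.unop))) : IsFiltered P.FullSubcategory := by
  have : Nonempty P.FullSubcategory := by
    obtain ⟨U, hU⟩ := hne
    exact ⟨⟨U, hU⟩⟩
  refine { cocone_objs := ?_, cocone_maps := ?_, nonempty := inferInstance }
  · intro A B
    refine ⟨⟨op (A.obj.unop ⊓ B.obj.unop), hinf _ _ A.2 B.2⟩,
      ObjectProperty.homMk (homOfLE inf_le_left).op, ObjectProperty.homMk (homOfLE inf_le_right).op,
      trivial⟩
  · intro A B f g
    refine ⟨B, 𝟙 B, ?_⟩
    apply ObjectProperty.hom_ext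
    exact Subsingleton.elim _ _

end filt

section gen

variable {X : TopCat.{u}} [PrespectralSpace X]

/-- a point lies in all compact open neighbourhoods of a compact set iff it specializes to a
point of the set -/
lemma mem_generalizations_iff (E : Set X) (hE : IsCompact E) (x : X) :
    (∃ e ∈ E, e ∈ closure {x}) ↔
      ∀ U : Opens X, E ⊆ (U : Set X) → IsCompact (U : Set X) → x ∈ U := by
  constructor
  · rintro ⟨e, heE, hex⟩ U hEU hU
    obtain ⟨y, hyU, hy⟩ := mem_closure_iff.1 hex U U.2 (hEU heE)
    rw [Set.mem_singleton_iff] at hy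
    rw [← hy]
    exact hyU
  · intro h
    by_contra hcon
    push Not at hcon
    have hsub : E ⊆ (closure {x})ᶜ := fun e he hex => hcon e he hex
    obtain ⟨V, hVc, hVo, hEV, hVO⟩ := PrespectralSpace.exists_isCompact_and_isOpen_between hE
      isClosed_closure.isOpen_compl hsub
    have := h ⟨V, hVo⟩ hEV hVc
    exact hVO this (subset_closure rfl)

end gen

end SpecLim

end Groth.Agent.Lib.helper27
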