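import Mathlib
import Groth.Agent.Lib.Helper27.SpecTop

set_option autoImplicit false
set_option linter.unusedVariables false
set_option linter.unusedSectionVars false

namespace Groth.Agent.Lib.helper27

open TopologicalSpace Topology Set

namespace SpecTop

section W

variable {X : Type*} [TopologicalSpace X] [QuasiSober X] [PrespectralSpace X]
  [QuasiSeparatedSpace X]
  (𝒰 : Set (Opens X)) (hne : 𝒰.Nonempty) (hc : ∀ U ∈ 𝒰, IsCompact (U : Set X))
  (hdir : ∀ U ∈ 𝒰, ∀ V ∈ 𝒰, ∃ W ∈ 𝒰, W ≤ U ⊓ V)
  (W : Set X) (hW : ∀ x, x ∈ W ↔ ∀ U ∈ 𝒰, x ∈ U)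

include hne hc hdir hW

lemma W_eq' : W = ⋂ U ∈ 𝒰, (U : Set X) := by
  ext x
  rw [hW]
  simp

/-- traces of compact opens on `W` are compact -/
lemma isCompact_preimage_val (K : Set X) (hKo : IsOpen K) (hK : IsCompact K) :
    IsCompact ((Subtype.val : W → X) ⁻¹' K) := by
  have h1 := isCompact_iInter_inter 𝒰 hne hc hdir K hKo hK
  rw [← W_eq' 𝒰 hne hc hdir W hW] at h1
  have h2 : (Subtype.val : W → X) ⁻¹' K = (Subtype.val : W → X) ⁻¹' (W ∩ K) := by
    ext w
    simp
  rw [h2]
  exact (IsInducing.subtypeVal.isCompact_preimage_iff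
    (by rw [Subtype.range_coe]; exact inter_subset_left)).2 h1

lemma isSpectralMap_val : IsSpectralMap (Subtype.val : W → X) :=
  ⟨continuous_subtype_val, fun K hKo hK => isCompact_preimage_val 𝒰 hne hc hdir W hW K hKo hK⟩

lemma compactSpace_W : CompactSpace W := by
  obtain ⟨U₀, hU₀⟩ := hne
  have := isCompact_preimage_val 𝒰 ⟨U₀, hU₀⟩ hc hdir W hW U₀ U₀.2 (hc U₀ hU₀)
  have h2 : (Subtype.val : W → X) ⁻¹' (U₀ : Set X) = univ := by
    ext w
    simp only [mem_preimage, mem_univ, iff_true]
    exact (hW w.1).1 w.2 U₀ hU₀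
  rw [h2] at this
  exact ⟨this⟩

lemma prespectralSpace_W : PrespectralSpace W :=
  PrespectralSpace.of_isInducing Subtype.val IsInducing.subtypeVal
    (isSpectralMap_val 𝒰 hne hc hdir W hW)

lemma quasiSeparatedSpace_W : QuasiSeparatedSpace W := by
  let b : {K : Set X // IsOpen K ∧ IsCompact K} → Set W := fun K => Subtype.val ⁻¹' K.1
  have hb : IsTopologicalBasis (range b) := by
    have := (PrespectralSpace.isTopologicalBasis (X := X)).isInducing
      (IsInducing.subtypeVal (t := W))
    convert this using 1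
    ext S
    constructor
    · rintro ⟨K, rfl⟩
      exact ⟨K.1, K.2, rfl⟩
    · rintro ⟨K, hK, rfl⟩
      exact ⟨⟨K, hK⟩, rfl⟩
  refine QuasiSeparatedSpace.of_isTopologicalBasis hb ?_
  intro i j
  have : b i ∩ b j = Subtype.val ⁻¹' (i.1 ∩ j.1) := rfl
  rw [this]
  exact isCompact_preimage_val 𝒰 hne hc hdir W hW _ (i.2.1.inter j.2.1)
    (QuasiSeparatedSpace.inter_isCompact i.1 j.1 i.2.1 i.2.2 j.2.1 j.2.2)

omit hne hc hdir [PrespectralSpace X] [QuasiSeparatedSpace X] in
/-- `W` is stable under generalization -/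
lemma mem_of_specializes {x y : X} (h : y ⤳ x) (hx : x ∈ W) : y ∈ W := by
  rw [hW] at hx ⊢
  intro U hU
  exact h.mem_open U.2 (hx U hU)

omit hne hc hdir [PrespectralSpace X] [QuasiSeparatedSpace X] in
lemma quasiSober_W : QuasiSober W := by
  refine ⟨fun {T} hT hTc => ?_⟩
  have hirr : IsIrreducible (closure (Subtype.val '' T : Set X)) :=
    (hT.image _ continuous_subtype_val.continuousOn).closure
  let η := hirr.genericPoint
  have hη : IsGenericPoint η (closure (Subtype.val '' T : Set X)) :=
    hirr.isGenericPoint_genericPoint isClosed_closure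
  obtain ⟨t, ht⟩ := hT.nonempty
  have htC : (t : X) ∈ closure (Subtype.val '' T : Set X) := subset_closure ⟨t, ht, rfl⟩
  have hηt : η ⤳ (t : X) := hη.specializes htC
  have hηW : η ∈ W := mem_of_specializes 𝒰 W hW hηt t.2
  have hTeq : T = Subtype.val ⁻¹' closure (Subtype.val '' T : Set X) := by
    rw [← IsInducing.subtypeVal.closure_eq_preimage_closure_image, hTc.closure_eq]
  refine ⟨⟨η, hηW⟩, ?_⟩
  show closure {(⟨η, hηW⟩ : W)} = T
  rw [IsInducing.subtypeVal.closure_eq_preimage_closure_image, image_singleton]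
  have : closure {η} = closure (Subtype.val '' T : Set X) := hη
  rw [this]
  exact hTeq.symm

lemma spectralSpace_W [T0Space X] : SpectralSpace W :=
  { compactSpace_W 𝒰 hne hc hdir W hW, quasiSober_W 𝒰 W hW,
    quasiSeparatedSpace_W 𝒰 hne hc hdir W hW, prespectralSpace_W 𝒰 hne hc hdir W hW,
    (inferInstance : T0Space W) with }

end W

section dim

variable {X : Type*} [TopologicalSpace X] [QuasiSober X]

/-- a generalization-stable subspace all of whose points specialize to points outside it has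
strictly smaller Krull dimension -/
theorem topologicalKrullDim_lt (W : Set X) (hgen : ∀ x y : X, y ⤳ x → x ∈ W → y ∈ W)
    (hspec : ∀ w ∈ W, ∃ z, z ∉ W ∧ w ⤳ z) (d : ℕ) (hd : topologicalKrullDim X ≤ d) :
    topologicalKrullDim W < d := by
  unfold topologicalKrullDim at hd ⊢
  rw [Order.krullDim_lt_coe_iff]
  intro l
  let m : IrreducibleCloseds W → IrreducibleCloseds X :=
    IrreducibleCloseds.map Subtype.val continuous_subtype_val
  have hm : StrictMono m := IrreducibleCloseds.map_strictMono_of_isInducing IsInducing.subtypeVal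
  let l' : LTSeries (IrreducibleCloseds X) := l.map m hm
  let T₀ := l.head
  have hirr : IsIrreducible ((m T₀ : IrreducibleCloseds X) : Set X) := (m T₀).isIrreducible
  let η := hirr.genericPoint
  have hη : IsGenericPoint η ((m T₀ : IrreducibleCloseds X) : Set X) :=
    hirr.isGenericPoint_genericPoint (m T₀).isClosed
  obtain ⟨t, ht⟩ := T₀.isIrreducible.nonempty
  have htC : (t : X) ∈ ((m T₀ : IrreducibleCloseds X) : Set X) :=
    subset_closure ⟨t, ht, rfl⟩
  have hηW : η ∈ W := hgen _ _ (hη.specializes htC) t.2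
  obtain ⟨z, hzW, hηz⟩ := hspec η hηW
  have hzC : z ∈ ((m T₀ : IrreducibleCloseds X) : Set X) := by
    have : closure {η} = ((m T₀ : IrreducibleCloseds X) : Set X) := hη
    rw [← this]
    exact hηz.mem_closure
  let A : IrreducibleCloseds X := ⟨closure {z}, isIrreducible_singleton.closure, isClosed_closure⟩
  have hAle : A ≤ m T₀ := by
    show closure {z} ⊆ ((m T₀ : IrreducibleCloseds X) : Set X)
    exact (m T₀).isClosed.closure_subset_iff.2 (singleton_subset_iff.2 hzC)
  have hAne : A ≠ m T₀ := by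
    intro h
    have h1 : η ∈ ((m T₀ : IrreducibleCloseds X) : Set X) := hη.mem
    rw [← h] at h1
    have h2 : z ⤳ η := specializes_iff_mem_closure.2 h1
    exact hzW (hgen _ _ h2 hηW)
  have hlt : A < l'.head := by
    have : l'.head = m T₀ := LTSeries.head_map l m hm
    rw [this]
    exact lt_of_le_of_ne hAle hAne
  have h3 := Order.LTSeries.length_le_krullDim (l'.cons A hlt)
  have h4 : ((l.length + 1 : ℕ) : WithBot ℕ∞) ≤ (d : WithBot ℕ∞) := by
    refine le_trans ?_ hd
    have e : (RelSeries.cons l' A hlt).length = l.length + 1 := by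
      simp [l']
    rw [e] at h3
    exact h3
  have h5 : l.length + 1 ≤ d := by exact_mod_cast h4
  omega

end dim

end SpecTop

end Groth.Agent.Lib.helper27
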