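import Mathlib
import Groth.Prelude.Def_CohTop
import Groth.Agent.Lib.Helper27.SpecLimD
import Groth.Agent.Lib.Helper27.SpecTop2
import Groth.Agent.Lib.Helper27.MVTop
import Groth.Agent.Lib.Helper27.SerreVan
import Groth.Agent.S0460

set_option autoImplicit false
set_option backward.isDefEq.respectTransparency false
set_option linter.unusedVariables false
set_option linter.unusedSectionVars false

namespace Groth.Agent.Lib.helper27

open CategoryTheory Limits Opposite TopologicalSpace Abelian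

universe u

namespace Scheiderer

/-- vanishing above the dimension for all spectral spaces of dimension `< d` -/
def Van (d : ℕ) : Prop :=
  ∀ (X : TopCat.{u}) [SpectralSpace X], topologicalKrullDim X < d →
    ∀ (F : CohTop.Ab X) (p : ℕ), d ≤ p → Subsingleton (CohTop.H F p)

lemma lt_succ_iff_le (x : WithBot ℕ∞) (d : ℕ) : x < ((d + 1 : ℕ) : WithBot ℕ∞) ↔ x ≤ (d : WithBot ℕ∞) := by
  induction x with
  | bot => simp
  | coe y =>
    induction y with
    | top =>
      have h1 : ¬ ((⊤ : ℕ∞) : WithBot ℕ∞) < ((d + 1 : ℕ) : WithBot ℕ∞) := by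
        have : ((d + 1 : ℕ) : WithBot ℕ∞) = (((d + 1 : ℕ) : ℕ∞) : WithBot ℕ∞) := rfl
        rw [this, WithBot.coe_lt_coe]
        exact not_lt.2 le_top
      have h2 : ¬ ((⊤ : ℕ∞) : WithBot ℕ∞) ≤ ((d : ℕ) : WithBot ℕ∞) := by
        have : ((d : ℕ) : WithBot ℕ∞) = (((d : ℕ) : ℕ∞) : WithBot ℕ∞) := rfl
        rw [this, WithBot.coe_le_coe]
        exact not_le.2 (ENat.natCast_lt_top d)
      exact iff_of_false h1 h2
    | coe n =>
      norm_cast
      exact Nat.lt_succ_iff

section empty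

variable {X : TopCat.{u}}

lemma subsingleton_H_of_isEmpty [IsEmpty X] (F : CohTop.Ab X) (p : ℕ) :
    Subsingleton (CohTop.H F p) := by
  have hid : 𝟙 F = 0 := by
    apply Sheaf.hom_ext
    ext U : 2
    apply AddCommGrpCat.hom_ext
    apply AddMonoidHom.ext
    intro s
    refine SpecLim.eq_of_empty F ?_ _ _
    ext x
    exact isEmptyElim x
  refine ⟨fun x y => ?_⟩
  have h : ∀ z : CohTop.H F p, z = 0 := by
    intro z
    have h1 := Abelian.Ext.comp_mk₀_id z
    rw [hid, Abelian.Ext.mk₀_zero, Abelian.Ext.comp_zero] at h1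
    exact h1.symm
  rw [h x, h y]

lemma isEmpty_of_dim_lt_zero (h : topologicalKrullDim X < ((0 : ℕ) : WithBot ℕ∞)) : IsEmpty X := by
  unfold topologicalKrullDim at h
  have h0 : Order.krullDim (IrreducibleCloseds X) = ⊥ := by
    by_contra hne
    have : (0 : WithBot ℕ∞) ≤ Order.krullDim (IrreducibleCloseds X) := by
      rw [Order.krullDim_nonneg_iff]
      by_contra hemp
      rw [not_nonempty_iff] at hemp
      exact hne Order.krullDim_eq_bot
    exact absurd (lt_of_le_of_lt this h) (by simp)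
  rw [Order.krullDim_eq_bot_iff] at h0
  refine ⟨fun x => ?_⟩
  exact h0.elim ⟨closure {x}, isIrreducible_singleton.closure, isClosed_closure⟩

end empty


section stepA

variable {X : TopCat.{u}} [SpectralSpace X] (U U' : Opens X)

/-- compact open neighbourhoods of `Z = U' \ U` -/
def nhdZ : ObjectProperty (Opens X)ᵒᵖ :=
  fun V => IsCompact (V.unop : Set X) ∧ (U' : Set X) ∩ (U : Set X)ᶜ ⊆ V.unop

lemma isFiltered_nhdZ (hU' : IsCompact (U' : Set X)) : IsFiltered (nhdZ U U').FullSubcategory :=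
  SpecLim.isFiltered_fullSubcategory (nhdZ U U') ⟨op U', hU', Set.inter_subset_left⟩
    (fun A B hA hB => ⟨QuasiSeparatedSpace.inter_isCompact _ _ A.unop.2 hA.1 B.unop.2 hB.1,
      Set.subset_inter hA.2 hB.2⟩)

/-- intersecting with `U` -/
def infU : (Opens X)ᵒᵖ ⥤ (Opens X)ᵒᵖ :=
  (Monotone.functor (f := fun V : Opens X => V ⊓ U) (fun _ _ h => inf_le_inf_right U h)).op

/-- the family `V ⊓ U` -/
def φ : (nhdZ U U').FullSubcategory ⥤ (Opens X)ᵒᵖ := (nhdZ U U').ι ⋙ infU U

lemma φ_obj (l : (nhdZ U U').FullSubcategory) : ((φ U U').obj l).unop = l.obj.unop ⊓ U := rfl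

/-- the points of `U` specializing to a point of `Z` -/
def W' : Set X := {x | x ∈ U ∧ ∃ z ∈ (U' : Set X) ∩ (U : Set X)ᶜ, z ∈ closure {x}}

lemma isCompact_Z (hU' : IsCompact (U' : Set X)) : IsCompact ((U' : Set X) ∩ (U : Set X)ᶜ) :=
  hU'.inter_right U.2.isClosed_compl

lemma mem_W'_iff (hU' : IsCompact (U' : Set X)) (x : X) :
    x ∈ W' U U' ↔ ∀ l : (nhdZ U U').FullSubcategory, x ∈ ((φ U U').obj l).unop := by
  constructor
  · rintro ⟨hxU, hz⟩ l
    exact ⟨(SpecLim.mem_generalizations_iff _ (isCompact_Z U U' hU') x).1 hz l.obj.unop l.2.2 l.2.1,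
      hxU⟩
  · intro h
    refine ⟨(h ⟨op U', hU', Set.inter_subset_left⟩).2, ?_⟩
    refine (SpecLim.mem_generalizations_iff _ (isCompact_Z U U' hU') x).2 ?_
    intro V hZV hV
    exact (h ⟨op V, hV, hZV⟩).1

lemma φ_compact (hU : IsCompact (U : Set X)) (l : (nhdZ U U').FullSubcategory) :
    IsCompact (((φ U U').obj l).unop : Set X) :=
  QuasiSeparatedSpace.inter_isCompact _ _ l.obj.unop.2 l.2.1 U.2 hU

end stepA


section stepA2

variable {X : TopCat.{u}} [SpectralSpace X] (d : ℕ) (hd : topologicalKrullDim X ≤ d)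
  (hVan : Van.{u} d) (F : CohTop.Ab X)
  (U U' : Opens X) (hU : IsCompact (U : Set X)) (hU' : IsCompact (U' : Set X)) (hle : U ≤ U')

include hd hVan hU hU' in
theorem stepA : Function.Surjective (CohTop.res F d hle) := by
  intro ξ
  have := isFiltered_nhdZ U U' hU'
  let Λ := (nhdZ U U').FullSubcategory
  let ψ : Λ ⥤ (Opens X)ᵒᵖ := φ U U'
  have hψc : ∀ l, IsCompact ((ψ.obj l).unop : Set X) := φ_compact U U' hU
  have hW := mem_W'_iff U U' hU'
  -- W' is spectral of smaller dimension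
  let _ : SpectralSpace (TopCat.of (W' U U')) :=
    SpecTop.spectralSpace_W (SpecLim.fam ψ) (SpecLim.fam_nonempty ψ) (SpecLim.fam_compact ψ hψc)
      (SpecLim.fam_dir ψ) (W' U U') (SpecLim.fam_W ψ (W' U U') hW)
  have hdim : topologicalKrullDim (TopCat.of (W' U U')) < d := by
    refine SpecTop.topologicalKrullDim_lt (W' U U') ?_ ?_ d hd
    · intro x y hyx hx
      exact SpecTop.mem_of_specializes (SpecLim.fam ψ) (W' U U') (SpecLim.fam_W ψ (W' U U') hW)
        hyx hx
    · rintro w ⟨hwU, z, hz, hzw⟩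
      exact ⟨z, fun hzW => hz.2 hzW.1, specializes_iff_mem_closure.2 hzw⟩
  have hsub := hVan (TopCat.of (W' U U')) hdim ((CohTop.pull (SpecLim.incl (W' U U'))).obj F) d le_rfl
  obtain ⟨e⟩ := SpecLim.main ψ hψc (W' U U') hW F d
  let Q := (Sheaf.cohomologyPresheafFunctor (Opens.grothendieckTopology X) d).obj F
  have hsub' : Subsingleton (ToType (colimit (ψ ⋙ Q))) :=
    (e.addCommGroupIsoToAddEquiv.toEquiv).subsingleton
  let l₀ : Λ := ⟨op U', hU', Set.inter_subset_left⟩
  let ξ' : ToType ((ψ ⋙ Q).obj l₀) := CohTop.res F d (inf_le_right : U' ⊓ U ≤ U) ξ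
  have h0 : colimit.ι (ψ ⋙ Q) l₀ ξ' = colimit.ι (ψ ⋙ Q) l₀ 0 := Subsingleton.elim _ _
  obtain ⟨l, f, g, hfg⟩ := Concrete.colimit_exists_of_rep_eq (ψ ⋙ Q) ξ' 0 h0
  let V : Opens X := l.obj.unop
  have hVU : CohTop.res F d (inf_le_right : V ⊓ U ≤ U) ξ = 0 := by
    have h1 : (ψ ⋙ Q).map f ξ' = 0 := by rw [hfg, map_zero]
    have h2 : (ψ ⋙ Q).map f ξ' = CohTop.res F d (leOfHom (ψ.map f).unop) ξ' := rfl
    rw [h2] at h1
    have h3 := MVTop.res_res F d (leOfHom (ψ.map f).unop) (inf_le_right : U' ⊓ U ≤ U) ξ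
    exact h3.symm.trans h1
  have hglue : CohTop.res F d (inf_le_left : U ⊓ V ≤ U) ξ =
      CohTop.res F d (inf_le_right : U ⊓ V ≤ V) 0 := by
    rw [map_zero]
    have h4 : U ⊓ V ≤ V ⊓ U := le_of_eq (inf_comm U V)
    have := congrArg (CohTop.res F d h4) hVU
    rw [MVTop.res_res, map_zero] at this
    exact this
  obtain ⟨c, hc, -⟩ := MVTop.exists_glue F U V d ξ 0 hglue
  have hU'le : U' ≤ U ⊔ V := by
    intro x hx
    by_cases hxU : x ∈ U
    · exact Or.inl hxU
    · exact Or.inr (l.2.2 ⟨hx, hxU⟩)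
  refine ⟨CohTop.res F d hU'le c, ?_⟩
  rw [MVTop.res_res]
  exact hc

end stepA2


section stepB

variable {X : TopCat.{u}}

lemma subsingleton_HU_bot (F : CohTop.Ab X) (p : ℕ) :
    Subsingleton (CohTop.HU F p (⊥ : Opens X)) := by
  obtain ⟨e⟩ := OpenRestr.HU_equiv_H_restr (⊥ : Opens X) F p
  have : IsEmpty (TopCat.of ((⊥ : Opens X) : Set X)) := ⟨fun x => x.2⟩
  have := subsingleton_H_of_isEmpty (CohTop.restr F (⊥ : Opens X)) p
  exact e.toEquiv.subsingleton

variable [SpectralSpace X] (d : ℕ) (hd : topologicalKrullDim X ≤ d)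
  (hVan : Van.{u} d) (F : CohTop.Ab X)

lemma isCompact_finset_sup (s : Finset (Opens X)) (h : ∀ V ∈ s, IsCompact (V : Set X)) :
    IsCompact ((s.sup id : Opens X) : Set X) := by
  rw [Opens.coe_finset_sup, Finset.sup_set_eq_biUnion]
  exact s.isCompact_biUnion h

include hd hVan in
lemma eq_zero_of_cover (n : ℕ) (hn : d ≤ n)
    (hprev : d < n → ∀ V : Opens X, IsCompact (V : Set X) → Subsingleton (CohTop.HU F n V))
    (S : Finset (Opens X)) : (∀ V ∈ S, IsCompact (V : Set X)) → ∀ T : Opens X, T = S.sup id →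
      ∀ c : CohTop.HU F (n + 1) T,
        (∀ V ∈ S, ∀ h : V ≤ T, CohTop.res F (n + 1) h c = 0) → c = 0 := by
  classical
  induction S using Finset.induction_on with
  | empty =>
    intro _ T hT c _
    rw [Finset.sup_empty] at hT
    subst hT
    exact (subsingleton_HU_bot F (n + 1)).elim _ _
  | insert a s has ih =>
    intro hcomp T hT c hc
    rw [Finset.sup_insert, id] at hT
    subst hT
    have hsc : IsCompact ((s.sup id : Opens X) : Set X) :=
      isCompact_finset_sup s (fun V hV => hcomp V (Finset.mem_insert_of_mem hV))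
    have hac' : IsCompact (a : Set X) := hcomp a (Finset.mem_insert_self a s)
    refine MVTop.eq_zero_of_res_eq_zero F a (s.sup id) n c
      (hc a (Finset.mem_insert_self a s) le_sup_left) ?_ ?_
    · refine ih (fun V hV => hcomp V (Finset.mem_insert_of_mem hV)) (s.sup id) rfl _ ?_
      intro V hV h
      rw [MVTop.res_res]
      exact hc V (Finset.mem_insert_of_mem hV) _
    · intro z
      have hac : IsCompact ((a ⊓ s.sup id : Opens X) : Set X) :=
        QuasiSeparatedSpace.inter_isCompact _ _ a.2 hac' (s.sup id).2 hsc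
      rcases hn.eq_or_lt with h | h
      · subst h
        obtain ⟨a', ha'⟩ := stepA d hd hVan F (a ⊓ s.sup id) a hac hac' inf_le_left z
        exact ⟨a', 0, by rw [ha', map_zero, sub_zero]⟩
      · have := hprev h _ hac
        exact ⟨0, 0, Subsingleton.elim _ _⟩

include hd hVan in
theorem stepB : ∀ p, d < p → ∀ V : Opens X, IsCompact (V : Set X) →
    Subsingleton (CohTop.HU F p V) := by
  intro p
  induction p using Nat.strong_induction_on with
  | _ p ih =>
    intro hp V hV
    obtain ⟨n, rfl⟩ : ∃ n, p = n + 1 := ⟨p - 1, by omega⟩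
    have hn : d ≤ n := by omega
    suffices h : ∀ c : CohTop.HU F (n + 1) V, c = 0 from ⟨fun c c' => by rw [h c, h c']⟩
    intro c
    obtain ⟨ι, Vi, hVi, hsup, hres⟩ := Groth.Agent.S0460.result F V n c
    have hx : ∀ x : V, ∃ K : Opens X, IsCompact (K : Set X) ∧ x.1 ∈ K ∧ ∃ i, K ≤ Vi i := by
      intro x
      have : x.1 ∈ iSup Vi := by rw [hsup]; exact x.2
      obtain ⟨i, hi⟩ := Opens.mem_iSup.1 this
      obtain ⟨K, ⟨hKo, hKc⟩, hxK, hKV⟩ :=
        PrespectralSpace.isTopologicalBasis.exists_subset_of_mem_open hi (Vi i).2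
      exact ⟨⟨K, hKo⟩, hKc, hxK, i, hKV⟩
    choose K hKc hxK iK hKi using hx
    obtain ⟨t, ht⟩ := hV.elim_finite_subcover (fun x : V => (K x : Set X)) (fun x => (K x).2)
      (fun x hx => Set.mem_iUnion.2 ⟨⟨x, hx⟩, hxK _⟩)
    classical
    let S : Finset (Opens X) := t.image K
    have hKV : ∀ x, K x ≤ V := fun x => (hKi x).trans (hVi (iK x))
    have hT : V = S.sup id := by
      apply le_antisymm
      · intro x hx
        obtain ⟨y, hy⟩ := Set.mem_iUnion.1 (ht hx)
        obtain ⟨hyt, hxy⟩ := Set.mem_iUnion.1 hy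
        have h1 : K y ≤ S.sup id := Finset.le_sup (f := id) (Finset.mem_image_of_mem K hyt)
        exact h1 hxy
      · refine Finset.sup_le ?_
        intro O hO
        obtain ⟨y, -, rfl⟩ := Finset.mem_image.1 hO
        exact hKV y
    refine eq_zero_of_cover d hd hVan F n hn (fun h => ih n (by omega) h) S ?_ V hT c ?_
    · intro O hO
      obtain ⟨y, -, rfl⟩ := Finset.mem_image.1 hO
      exact hKc y
    · intro O hO h
      obtain ⟨y, -, rfl⟩ := Finset.mem_image.1 hO
      have := MVTop.res_res F (n + 1) (hKi y) (hVi (iK y)) c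
      rw [hres, map_zero] at this
      exact this.symm

end stepB

theorem van_zero : Van.{u} 0 := by
  intro X _ hdim F p _
  have := isEmpty_of_dim_lt_zero hdim
  exact subsingleton_H_of_isEmpty F p

theorem van_succ (d : ℕ) (h : Van.{u} d) : Van.{u} (d + 1) := by
  intro X _ hdim F p hp
  rw [lt_succ_iff_le] at hdim
  have hc : IsCompact ((⊤ : Opens X) : Set X) := by
    rw [Opens.coe_top]
    exact isCompact_univ
  have := stepB d hdim h F p (by omega) ⊤ hc
  exact (SerreVan.HEquivHU F p).symm.toEquiv.subsingleton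

theorem van : ∀ d : ℕ, Van.{u} d
  | 0 => van_zero
  | d + 1 => van_succ d (van d)

/-- **S0469** -/
theorem spectral_vanishing {X : TopCat.{u}} [SpectralSpace X] (d : ℕ)
    (hd : topologicalKrullDim X ≤ d) (F : CohTop.Ab X) (p : ℕ) (hp : d < p) :
    Subsingleton (CohTop.H F p) :=
  van (d + 1) X ((lt_succ_iff_le _ d).2 hd) F p hp

/-- **S0470** -/
theorem spectral_top_degree_surjective {X : TopCat.{u}} [SpectralSpace X] (d : ℕ)
    (hd : topologicalKrullDim X ≤ d) (F : CohTop.Ab X) (U U' : Opens X)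
    (hU : IsCompact (U : Set X)) (hU' : IsCompact (U' : Set X)) (hle : U ≤ U') :
    Function.Surjective (CohTop.res F d hle) :=
  stepA d hd (van d) F U U' hU hU' hle

end Scheiderer

end Groth.Agent.Lib.helper27
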