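import Mathlib
import Groth.Prelude.Def_CohCx
import Groth.Agent.Lib.Helper27.CechCartan
import Groth.Agent.Lib.Helper27.FiltCohA

set_option autoImplicit false
set_option backward.isDefEq.respectTransparency false
set_option linter.unusedVariables false
set_option linter.unusedSectionVars false

namespace Groth.Agent.Lib.helper27

open CategoryTheory Limits Opposite Abelian
open Groth.Agent.Lib.helper7

universe u

namespace FiltCoh

section cech

variable {Λ : Type u} [SmallCategory Λ] [IsFiltered Λ]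
  {C : Type u} [SmallCategory C] [HasPullbacks C] (J : GrothendieckTopology C)
  (F : Λ ⥤ Sheaf J AddCommGrpCat.{u}) (c : Cocone F)
  {U : C} {ι : Type u} [Finite ι] (Y : ι → Over U)
  (hsec : ∀ (n : ℕ) (a : Fin (n + 1) → ι), SecLike F c ((∏ᶜ fun k => Y (a k)).left))

/-- the Cech complex functor of the family `Y` -/
noncomputable abbrev ČY : Sheaf J AddCommGrpCat.{u} ⥤ CochainComplex AddCommGrpCat.{u} ℕ :=
  CechSite.Č J (Over.forget U) Y

lemma ČY_map_f {G G' : Sheaf J AddCommGrpCat.{u}} (φ : G ⟶ G') (n : ℕ) :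
    ((ČY J Y).map φ).f n =
      (Limits.Pi.map fun a : Fin (n + 1) → ι => φ.hom.app (op ((∏ᶜ (Y ∘ a)).left)) :
        (∏ᶜ Cech.Z Y ((Over.forget U).op ⋙ G.obj) n : AddCommGrpCat.{u}) ⟶
          ∏ᶜ Cech.Z Y ((Over.forget U).op ⋙ G'.obj) n) := rfl

lemma π_ČY_map {G G' : Sheaf J AddCommGrpCat.{u}} (φ : G ⟶ G') (n : ℕ)
    (a : Fin (n + 1) → ι) (x : ((ČY J Y).obj G).X n) :
    Pi.π (Cech.Z Y ((Over.forget U).op ⋙ G'.obj) n) a (((ČY J Y).map φ).f n x) =
      φ.hom.app (op ((∏ᶜ (Y ∘ a)).left))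
        (Pi.π (Cech.Z Y ((Over.forget U).op ⋙ G.obj) n) a x) :=
  CechLeray.π_map_apply (Cech.Z Y ((Over.forget U).op ⋙ G.obj) n)
    (Cech.Z Y ((Over.forget U).op ⋙ G'.obj) n)
    (fun a => φ.hom.app (op ((∏ᶜ (Y ∘ a)).left))) a x

include hsec in
lemma cech_surj (n : ℕ) (x : ((ČY J Y).obj c.pt).X n) :
    ∃ (μ : Λ) (y : ((ČY J Y).obj (F.obj μ)).X n), ((ČY J Y).map (c.ι.app μ)).f n y = x := by
  choose μa ya hya using fun a : Fin (n + 1) → ι =>
    (hsec n a).surj (Pi.π (Cech.Z Y ((Over.forget U).op ⋙ c.pt.obj) n) a x)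
  obtain ⟨μ, hμ⟩ := exists_upper μa
  let h : ∀ a, μa a ⟶ μ := fun a => (hμ a).some
  let y : ((ČY J Y).obj (F.obj μ)).X n :=
    (Concrete.productEquiv (Cech.Z Y ((Over.forget U).op ⋙ (F.obj μ).obj) n)).symm
      (fun a => (F.map (h a)).hom.app _ (ya a))
  refine ⟨μ, y, ?_⟩
  refine CechLeray.prod_ext (Cech.Z Y ((Over.forget U).op ⋙ c.pt.obj) n) _ _ (fun a => ?_)
  refine (π_ČY_map J Y (c.ι.app μ) n a y).trans ?_
  have e1 : Pi.π (Cech.Z Y ((Over.forget U).op ⋙ (F.obj μ).obj) n) a y =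
      (F.map (h a)).hom.app _ (ya a) :=
    Concrete.productEquiv_symm_apply_π (Cech.Z Y ((Over.forget U).op ⋙ (F.obj μ).obj) n) _ a
  exact (congrArg (fun t => (c.ι.app μ).hom.app (op ((∏ᶜ (Y ∘ a)).left)) t) e1).trans
    ((cocone_w_apply F c (h a) _ (ya a)).trans (hya a))

include hsec in
lemma cech_inj (n : ℕ) (μ : Λ) (y : ((ČY J Y).obj (F.obj μ)).X n)
    (hy : ((ČY J Y).map (c.ι.app μ)).f n y = 0) :
    ∃ (μ' : Λ) (f : μ ⟶ μ'), ((ČY J Y).map (F.map f)).f n y = 0 := by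
  have h0 : ∀ a : Fin (n + 1) → ι, (c.ι.app μ).hom.app (op ((∏ᶜ fun k => Y (a k)).left))
      (Pi.π (Cech.Z Y ((Over.forget U).op ⋙ (F.obj μ).obj) n) a y) = 0 := by
    intro a
    have := π_ČY_map J Y (c.ι.app μ) n a y
    rw [hy, map_zero] at this
    exact this.symm
  choose μa fa hfa using fun a : Fin (n + 1) → ι => (hsec n a).inj μ _ (h0 a)
  obtain ⟨μ', g, h, hh⟩ := exists_common μ μa fa
  refine ⟨μ', g, ?_⟩
  refine CechLeray.prod_ext (Cech.Z Y ((Over.forget U).op ⋙ (F.obj μ').obj) n) _ _ (fun a => ?_)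
  refine (π_ČY_map J Y (F.map g) n a y).trans ?_
  have := map_comp_apply F (fa a) (h a) ((∏ᶜ fun k => Y (a k)).left)
    (Pi.π (Cech.Z Y ((Over.forget U).op ⋙ (F.obj μ).obj) n) a y)
  rw [hh a, hfa a, map_zero] at this
  exact this.trans (map_zero _).symm

omit [IsFiltered Λ] [HasPullbacks C] [Finite ι] in
lemma comm_apply {K L : CochainComplex AddCommGrpCat.{u} ℕ} (φ : K ⟶ L) (i j : ℕ) (y : K.X i) :
    L.d i j (φ.f i y) = φ.f j (K.d i j y) :=
  (ConcreteCategory.congr_hom (φ.comm i j) y)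

include hsec in
lemma cech_exactAt (q : ℕ) (hex : ∀ μ, ((ČY J Y).obj (F.obj μ)).ExactAt (q + 1)) :
    ((ČY J Y).obj c.pt).ExactAt (q + 1) := by
  rw [HomologicalComplex.exactAt_iff' _ q (q + 1) (q + 2) (by simp) (by simp),
    ShortComplex.ab_exact_iff]
  intro x hx
  let K := (ČY J Y).obj c.pt
  have hx' : K.d (q + 1) (q + 2) x = 0 := hx
  obtain ⟨μ, y, hy⟩ := cech_surj J F c Y hsec (q + 1) x
  let φ : (ČY J Y).obj (F.obj μ) ⟶ K := (ČY J Y).map (c.ι.app μ)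
  have hy₀ : φ.f (q + 1) y = x := hy
  have h1 : φ.f (q + 2) (((ČY J Y).obj (F.obj μ)).d (q + 1) (q + 2) y) = 0 := by
    rw [← comm_apply φ, hy₀]
    exact hx'
  obtain ⟨μ', f, hf⟩ := cech_inj J F c Y hsec (q + 2) μ _ h1
  let ψ : (ČY J Y).obj (F.obj μ) ⟶ (ČY J Y).obj (F.obj μ') := (ČY J Y).map (F.map f)
  let y' := ψ.f (q + 1) y
  have hy' : ((ČY J Y).obj (F.obj μ')).d (q + 1) (q + 2) y' = 0 := by
    dsimp only [y']
    rw [comm_apply ψ]
    exact hf
  obtain ⟨z, hz⟩ := CechSite.forall_of_exactAt q (hex μ') y' hy'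
  let φ' : (ČY J Y).obj (F.obj μ') ⟶ K := (ČY J Y).map (c.ι.app μ')
  refine ⟨φ'.f q z, ?_⟩
  change K.d q (q + 1) (φ'.f q z) = x
  rw [comm_apply φ', hz, ← hy₀]
  have h3 : ψ ≫ φ' = φ := by
    dsimp only [ψ, φ', φ]
    rw [← Functor.map_comp, c.w f]
  exact congrArg (fun θ => θ.f (q + 1) y) h3

end cech

section zero

variable {Λ : Type u} [SmallCategory Λ]
  {C : Type u} [SmallCategory C] (J : GrothendieckTopology C)

lemma homEquiv_zero (U : C) (G : Sheaf J AddCommGrpCat.{u}) :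
    FreeYoneda.homEquiv J U G 0 = 0 := by
  have := FreeYoneda.homEquiv_naturality_right J U (0 : G ⟶ G)
    (0 : (FreeYoneda.freeSheaf J).obj U ⟶ G)
  rw [comp_zero] at this
  rw [this]
  rfl

lemma colimLike_zero (F : Λ ⥤ Sheaf J AddCommGrpCat.{u}) (c : Cocone F) (U : C)
    (h : SecLike F c U) : ColimLike.{u} ((FreeYoneda.freeSheaf J).obj U) 0 F c where
  surj y := by
    obtain ⟨b, rfl⟩ := (Ext.mk₀_bijective _ _).2 y
    obtain ⟨μ, t, ht⟩ := h.surj (FreeYoneda.homEquiv J U c.pt b)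
    refine ⟨μ, Ext.mk₀ ((FreeYoneda.homEquiv J U (F.obj μ)).symm t), ?_⟩
    rw [post_def, Ext.mk₀_comp_mk₀]
    congr 1
    apply (FreeYoneda.homEquiv J U c.pt).injective
    rw [FreeYoneda.homEquiv_naturality_right, Equiv.apply_symm_apply]
    exact ht
  inj μ x hx := by
    obtain ⟨b, rfl⟩ := (Ext.mk₀_bijective _ _).2 x
    rw [post_def, Ext.mk₀_comp_mk₀] at hx
    have hb : b ≫ c.ι.app μ = 0 := (Ext.mk₀_bijective _ _).1 (hx.trans (Ext.mk₀_zero _ _).symm)
    have h0 : (c.ι.app μ).hom.app (op U) (FreeYoneda.homEquiv J U (F.obj μ) b) = 0 := by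
      rw [← FreeYoneda.homEquiv_naturality_right, hb, homEquiv_zero]
    obtain ⟨μ', f, hf⟩ := h.inj μ _ h0
    refine ⟨μ', f, ?_⟩
    rw [post_def, Ext.mk₀_comp_mk₀]
    have : b ≫ F.map f = 0 := by
      apply (FreeYoneda.homEquiv J U (F.obj μ')).injective
      rw [FreeYoneda.homEquiv_naturality_right, hf, homEquiv_zero]
    rw [this, Ext.mk₀_zero]

end zero

section main

variable {Λ : Type u} [SmallCategory Λ] [IsFiltered Λ]
  {C : Type u} [SmallCategory C] [HasPullbacks C] (J : GrothendieckTopology C)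
  (B : Set C) (Cov : ∀ (U : C) (ι : Type u), (ι → Over U) → Prop)
  (h1 : ∀ (U : C) (ι : Type u) (Y : ι → Over U), Cov U ι Y → Finite ι ∧ U ∈ B ∧
    Sieve.ofArrows (fun i => (Y i).left) (fun i => (Y i).hom) ∈ J U ∧
    ∀ (p : ℕ) (a : Fin (p + 1) → ι), (∏ᶜ fun k => Y (a k)).left ∈ B)
  (h2 : ∀ U ∈ B, ∀ T ∈ J U, ∃ (ι : Type u) (Y : ι → Over U), Cov U ι Y ∧ ∀ i, T.arrows (Y i).hom)

include h1 h2

/-- a filtered colimit of injective sheaves has vanishing higher cohomology on members of `B` -/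
theorem subsingleton_H_of_injective (F : Λ ⥤ Sheaf J AddCommGrpCat.{u})
    (hF : ∀ μ, Injective (F.obj μ)) (c : Cocone F) (hc : IsColimit c) (U : C) (hU : U ∈ B)
    (p : ℕ) : Subsingleton (Sheaf.H' c.pt (p + 1) U : AddCommGrpCat.{u}) := by
  let Cov' : ∀ W : C, Set (CechSite.Datum J W) := fun W =>
    {𝒰 | ∃ (ι : Type u) (Y : ι → Over W) (hY : Cov W ι Y),
      𝒰 = CechSite.datumOver J Y (h1 W ι Y hY).2.2.1}
  refine CechSite.cartan J B Cov' ?_ ?_ p c.pt ?_ U hU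
  · rintro W 𝒰 ⟨ι, Y, hY, rfl⟩ n a
    exact (h1 W ι Y hY).2.2.2 n a
  · intro W hW T hT
    obtain ⟨ι, Y, hY, hYT⟩ := h2 W hW T hT
    exact ⟨_, ⟨ι, Y, hY, rfl⟩, hYT⟩
  · rintro W 𝒰 ⟨ι, Y, hY, rfl⟩ q
    have := (h1 W ι Y hY).1
    rw [← HomologicalComplex.exactAt_iff_isZero_homology]
    refine cech_exactAt J F c Y
      (fun n a => secLike F B Cov h1 h2 c hc _ ((h1 W ι Y hY).2.2.2 n a)) q (fun μ => ?_)
    have hinj : Injective ((sheafToPresheaf J AddCommGrpCat.{u}).obj (F.obj μ)) :=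
      Injective.injective_of_adjoint (sheafificationAdjunction J AddCommGrpCat.{u}) _
    exact (CechSite.datumOver J Y (h1 W ι Y hY).2.2.1).hinj _ hinj q

theorem colimLike_H (U : C) (hU : U ∈ B) (p : ℕ) (F : Λ ⥤ Sheaf J AddCommGrpCat.{u}) :
    ColimLike.{u} ((FreeYoneda.freeSheaf J).obj U) p F (colimit.cocone F) :=
  colimLike_all _
    (fun F => colimLike_zero J F _ U (secLike F B Cov h1 h2 _ (colimit.isColimit F) U hU))
    (fun I hI q x => by
      have hs := subsingleton_H_of_injective J B Cov h1 h2 I hI _ (colimit.isColimit I) U hU q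
      exact @Subsingleton.elim _ hs x 0) p F

/-- **Cohomology over members of `B` commutes with filtered colimits** (Stacks 0739). -/
theorem preservesColimit_H (U : C) (hU : U ∈ B) (p : ℕ) (F : Λ ⥤ Sheaf J AddCommGrpCat.{u}) :
    PreservesColimit F ((Sheaf.cohomologyPresheafFunctor J p).flip.obj (op U)) := by
  have := preservesColimit_extFunctorObj ((FreeYoneda.freeSheaf J).obj U) p F _
    (colimit.isColimit F) (colimLike_H J B Cov h1 h2 U hU p F)
  exact this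

end main

end FiltCoh

end Groth.Agent.Lib.helper27
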