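import Mathlib
import Groth.Prelude.Def_CohCx
import Groth.Prelude.Def_CohTop
import Groth.Agent.Lib.Helper27.FiltCohB

set_option autoImplicit false
set_option backward.isDefEq.respectTransparency false
set_option linter.unusedVariables false
set_option linter.unusedSectionVars false

namespace Groth.Agent.Lib.helper27

open CategoryTheory Limits Opposite Abelian TopologicalSpace

universe u

namespace FiltCoh

section top

variable {X : TopCat.{u}} (𝔅 : Set (Opens X))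
  (hcomp : ∀ W ∈ 𝔅, IsCompact (W : Set X))
  (hinf : ∀ W ∈ 𝔅, ∀ W' ∈ 𝔅, W ⊓ W' ∈ 𝔅)
  (hbasis : ∀ W ∈ 𝔅, ∀ (V : Opens X), V ≤ W → ∀ x ∈ V, ∃ W' ∈ 𝔅, x ∈ W' ∧ W' ≤ V)

include hinf in
lemma exists_glb : ∀ (n : ℕ) (V : Fin (n + 1) → Opens X), (∀ k, V k ∈ 𝔅) →
    ∃ W ∈ 𝔅, (∀ k, W ≤ V k) ∧ ∀ T : Opens X, (∀ k, T ≤ V k) → T ≤ W := by
  intro n
  induction n with
  | zero =>
    intro V hV
    refine ⟨V 0, hV 0, fun k => ?_, fun T hT => hT 0⟩
    have : k = 0 := Fin.ext (by omega)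
    rw [this]
  | succ n ih =>
    intro V hV
    obtain ⟨W', hW', h1, h2⟩ := ih (fun k => V k.succ) (fun k => hV k.succ)
    refine ⟨V 0 ⊓ W', hinf _ (hV 0) _ hW', fun k => ?_, fun T hT => ?_⟩
    · refine Fin.cases ?_ (fun k' => ?_) k
      · exact inf_le_left
      · exact inf_le_right.trans (h1 k')
    · exact le_inf (hT 0) (h2 T (fun k => hT k.succ))

include hinf in
lemma prod_mem {U : Opens X} {ι : Type u} (Y : ι → Over U) (hY : ∀ i, (Y i).left ∈ 𝔅)
    (n : ℕ) (a : Fin (n + 1) → ι) : (∏ᶜ fun k => Y (a k)).left ∈ 𝔅 := by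
  obtain ⟨W, hW, h1, h2⟩ := exists_glb 𝔅 hinf n (fun k => (Y (a k)).left) (fun k => hY (a k))
  have e : (∏ᶜ fun k => Y (a k)).left = W := by
    apply le_antisymm
    · apply h2
      intro k
      exact leOfHom (Pi.π (fun k => Y (a k)) k).left
    · have hWU : W ≤ U := (h1 0).trans (leOfHom (Y (a 0)).hom)
      let Z : Over U := Over.mk (homOfLE hWU)
      let l : Z ⟶ ∏ᶜ fun k => Y (a k) :=
        Pi.lift (fun k => Over.homMk (homOfLE (h1 k)) (Subsingleton.elim _ _))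
      exact leOfHom l.left
  rw [e]
  exact hW

include hcomp hinf hbasis in
/-- cohomology over members of `𝔅` commutes with filtered colimits -/
theorem preservesColimit_H_top (U : Opens X) (hU : U ∈ 𝔅) (p : ℕ)
    {Λ : Type u} [SmallCategory Λ] [IsFiltered Λ] (F : Λ ⥤ CohTop.Ab X) :
    PreservesColimit F
      ((Sheaf.cohomologyPresheafFunctor (Opens.grothendieckTopology X) p).flip.obj (op U)) := by
  let Cov : ∀ (V : Opens X) (ι : Type u), (ι → Over V) → Prop := fun V ι Y =>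
    Finite ι ∧ V ∈ 𝔅 ∧
      Sieve.ofArrows (fun i => (Y i).left) (fun i => (Y i).hom) ∈ Opens.grothendieckTopology X V ∧
      ∀ i, (Y i).left ∈ 𝔅
  refine preservesColimit_H (Opens.grothendieckTopology X) 𝔅 Cov ?_ ?_ U hU p F
  · rintro V ι Y ⟨hfin, hV, hcov, hY⟩
    exact ⟨hfin, hV, hcov, fun n a => prod_mem 𝔅 hinf Y hY n a⟩
  · intro V hV T hT
    -- choose for each point of V a member of 𝔅 inside a member of T
    have hx : ∀ x : (V : Set X), ∃ W' ∈ 𝔅, (x : X) ∈ W' ∧ ∃ h : W' ≤ V, T.arrows (homOfLE h) := by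
      rintro ⟨x, hxV⟩
      obtain ⟨V', f, hf, hxV'⟩ := hT x hxV
      obtain ⟨W', hW', hxW', hle⟩ := hbasis V hV V' (leOfHom f) x hxV'
      refine ⟨W', hW', hxW', hle.trans (leOfHom f), ?_⟩
      have : homOfLE (hle.trans (leOfHom f)) = homOfLE hle ≫ f := Subsingleton.elim _ _
      rw [this]
      exact T.downward_closed hf _
    choose W hW hxW hle hT' using hx
    obtain ⟨t, ht⟩ := (hcomp V hV).elim_finite_subcover (fun x : (V : Set X) => ((W x : Opens X) : Set X))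
      (fun x => (W x).isOpen) (fun x hx => Set.mem_iUnion.2 ⟨⟨x, hx⟩, hxW ⟨x, hx⟩⟩)
    refine ⟨{x // x ∈ t}, fun i => Over.mk (homOfLE (hle i.1)), ⟨inferInstance, hV, ?_, fun i => hW i.1⟩,
      fun i => hT' i.1⟩
    intro x hxV
    obtain ⟨i, hi⟩ := Set.mem_iUnion.1 (ht hxV)
    obtain ⟨hit, hxi⟩ := Set.mem_iUnion.1 hi
    exact ⟨W i, homOfLE (hle i), Sieve.ofArrows_mk _ _ (⟨i, hit⟩ : {x // x ∈ t}), hxi⟩

end top

end FiltCoh

end Groth.Agent.Lib.helper27
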