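import Mathlib
import Groth.Agent.Lib.Helper27.DeltaSeq2
import Groth.Agent.Lib.Helper27.Horseshoe7

set_option autoImplicit false
set_option linter.unusedVariables false
set_option linter.unusedSectionVars false

namespace Groth.Agent.Lib.helper27

open CategoryTheory Limits

universe v u v' u' v'' u''

namespace CompAcyc

variable {A : Type u} [Category.{v} A] [Abelian A] [EnoughInjectives A]
  {B : Type u'} [Category.{v'} B] [Abelian B] [EnoughInjectives B]
  {D : Type u''} [Category.{v''} D] [Abelian D]
  (G : A ⥤ B) [G.Additive] [PreservesFiniteLimits G]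
  (H : B ⥤ D) [H.Additive] [PreservesFiniteLimits H]
  (hG : ∀ I : A, Injective I → Injective (G.obj I))

/-- the class of `G`-acyclic objects -/
def Acyc : ObjectProperty A := fun F => ∀ i : ℕ, 0 < i → IsZero ((G.rightDerived i).obj F)

lemma acyc_injective (I : A) [Injective I] : Acyc G I := by
  intro i hi
  obtain ⟨j, rfl⟩ : ∃ j, i = j + 1 := ⟨i - 1, by omega⟩
  exact Functor.isZero_rightDerived_obj_injective_succ G j I

include hG in
lemma isExSeqOn_T : DeltaSeq.IsExSeqOn (Acyc G) (fun p => G ⋙ H.rightDerived p) where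
  ex S hS h₁ hI i := by
    have hGS : (S.map G).ShortExact :=
      ((Horseshoe.rightAcyclic_shortExact G hS).2.1 h₁ (acyc_injective G S.X₂)).2
    exact (DeltaSeq.isExSeq_rightDerived H).ex (S.map G) hGS i
  vanish I hI i := by
    have := hG I hI
    exact Functor.isZero_rightDerived_obj_injective_succ H i (G.obj I)

include hG in
/-- **Grothendieck composition, degenerate case**: for a `G`-acyclic object `F`,
`R^p H (G F) ≅ R^p (G ⋙ H) F`. -/
theorem rightDerived_comp_iso (F : A) (hF : Acyc G F) (p : ℕ) :
    Nonempty ((H.rightDerived p).obj (G.obj F) ≅ ((G ⋙ H).rightDerived p).obj F) :=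
  DeltaSeq.iso_on (isExSeqOn_T G H hG) ((DeltaSeq.isExSeq_rightDerived (G ⋙ H)).on (Acyc G))
    (fun S hS h₁ hI => ((Horseshoe.rightAcyclic_shortExact G hS).2.1 h₁
      (acyc_injective (I := S.X₂) G)).1)
    (Functor.isoWhiskerLeft G H.rightDerivedZeroIsoSelf ≪≫
      (G ⋙ H).rightDerivedZeroIsoSelf.symm) p F hF

end CompAcyc

end Groth.Agent.Lib.helper27
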