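import Mathlib
import Groth.Prelude.Def_MoreMor
import Groth.Agent.Lib.Helper7.ThickAff5

/-!
# Vanishing above the affine stratification number, part 1: geometry (helper27)

* `isAffineOpen_of_immersion`, `isAffineOpen_and_isAffineHom_of_range`: the open top stratum of an
  affine stratification is an affine open with affine inclusion (uses helper7's thickening lemma).
* `hasAffineStratification_of_isAffineHom`: restriction of an affine stratification along an affine
  morphism missing the top stratum.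
* `exists_ft_ideal`: on a qcqs scheme, the complement of a quasi-compact open is the support of a
  finite type ideal sheaf; `basicOpen_le_of_mem_ideal`.
-/

set_option autoImplicit false
set_option backward.isDefEq.respectTransparency false

universe u

open AlgebraicGeometry CategoryTheory Limits TopologicalSpace

namespace Groth.Agent.Lib.helper27.AffStratVan

variable {X : Scheme.{u}}


/-- an open `W` contained in the range of an immersion `ι` with `ι⁻¹ W` affine is affine -/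
lemma isAffineOpen_of_immersion {T : Scheme.{u}} (ι : T ⟶ X) [IsImmersion ι] (W : X.Opens)
    (hW : (W : Set X) ⊆ Set.range ι) (h : IsAffineOpen (ι ⁻¹ᵁ W)) : IsAffineOpen W := by
  have hsurj : Function.Surjective (ι ∣_ W) := by
    rintro ⟨x, hx⟩
    obtain ⟨t, rfl⟩ := hW hx
    let t' : (ι ⁻¹ᵁ W).toScheme := ⟨t, hx⟩
    refine ⟨t', ?_⟩
    apply Subtype.ext
    have h1 : ((ι ∣_ W) ≫ W.ι) t' = ((ι ⁻¹ᵁ W).ι ≫ ι) t' := by rw [morphismRestrict_ι]
    exact h1
  have hcl : IsClosedImmersion (ι ∣_ W) := by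
    refine IsClosedImmersion.of_isPreimmersion _ ?_
    rw [Set.range_eq_univ.mpr hsurj]
    exact isClosed_univ
  have : IsAffine (ι ⁻¹ᵁ W).toScheme := h
  exact Groth.Agent.Lib.helper7.ThickAff.isAffine_of_thickening (ι ∣_ W) hsurj

/-- the open range of an affine immersion from an affine scheme is affine with affine inclusion -/
lemma isAffineOpen_and_isAffineHom_of_range {T : Scheme.{u}} (ι : T ⟶ X) [IsImmersion ι]
    [IsAffine T] [IsAffineHom ι] (U₀ : X.Opens) (h : Set.range ι = (U₀ : Set X)) :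
    IsAffineOpen U₀ ∧ IsAffineHom U₀.ι := by
  have key : ∀ V : X.Opens, IsAffineOpen V → IsAffineOpen (U₀ ⊓ V) := by
    intro V hV
    apply isAffineOpen_of_immersion ι
    · intro x hx; rw [h]; exact hx.1
    · have : ι ⁻¹ᵁ (U₀ ⊓ V) = ι ⁻¹ᵁ V := by
        ext t
        constructor
        · intro ht; exact ht.2
        · intro ht
          refine ⟨?_, ht⟩
          change ι t ∈ (U₀ : Set X)
          rw [← h]; exact ⟨t, rfl⟩
      rw [this]
      exact hV.preimage ι
  constructor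
  · apply isAffineOpen_of_immersion ι
    · rw [h]
    · have : ι ⁻¹ᵁ U₀ = ⊤ := by
        ext t
        simp only [Opens.coe_top, Set.mem_univ, iff_true]
        change ι t ∈ (U₀ : Set X)
        rw [← h]; exact ⟨t, rfl⟩
      rw [this]; exact isAffineOpen_top T
  · apply isAffineHom_of_forall_exists_isAffineOpen
    intro x
    obtain ⟨V, hV, hxV, -⟩ := Opens.isBasis_iff_nbhd.mp X.isBasis_affineOpens
      (show x ∈ (⊤ : X.Opens) from trivial)
    refine ⟨V, hxV, hV, ?_⟩
    rw [← U₀.ι.isAffineOpen_iff_of_isOpenImmersion, Scheme.Hom.image_preimage_eq_opensRange_inf,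
      Scheme.Opens.opensRange_ι]
    exact key V hV



/-- an affine stratification restricts along an affine morphism missing the top stratum -/
lemma hasAffineStratification_of_isAffineHom {Y : Scheme.{u}} (i : Y ⟶ X) [IsAffineHom i] (n : ℕ)
    (s : X → Fin (n + 2)) (hcl : ∀ k : Fin (n + 2), IsClosed {x : X | s x ≤ k})
    (hst : ∀ k : Fin (n + 2), ∃ (Z : Scheme.{u}) (ι : Z ⟶ X),
      IsImmersion ι ∧ IsAffine Z ∧ IsAffineHom ι ∧ Set.range ι = {x : X | s x = k})
    (hi : ∀ y : Y, s (i y) ≠ Fin.last (n + 1)) : MoreMor.HasAffineStratification Y n := by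
  have hlt : ∀ y : Y, (s (i y)).val < n + 1 := by
    intro y
    have h1 := hi y
    have h2 := (s (i y)).isLt
    rw [Ne, Fin.ext_iff, Fin.val_last] at h1
    omega
  refine ⟨fun y => ⟨(s (i y)).val, hlt y⟩, ?_, ?_⟩
  · intro k
    have : {y : Y | (⟨(s (i y)).val, hlt y⟩ : Fin (n + 1)) ≤ k} =
        i ⁻¹' {x : X | s x ≤ k.castSucc} := by
      ext y
      simp only [Set.mem_ofPred_eq, Set.mem_preimage, Fin.le_def, Fin.val_castSucc]
    rw [this]
    exact (hcl k.castSucc).preimage i.continuous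
  · intro k
    obtain ⟨Z, ι, h1, h2, h3, h4⟩ := hst k.castSucc
    have hsnd : IsAffineHom (pullback.snd ι i) := MorphismProperty.pullback_snd _ _ h3
    have hfst : IsAffineHom (pullback.fst ι i) := MorphismProperty.pullback_fst _ _ ‹IsAffineHom i›
    refine ⟨pullback ι i, pullback.snd ι i, inferInstance, ?_, hsnd, ?_⟩
    · exact isAffine_of_isAffineHom (pullback.fst ι i)
    · rw [Scheme.Pullback.range_snd, h4]
      ext y
      simp only [Set.mem_preimage, Set.mem_ofPred_eq, Fin.ext_iff, Fin.val_castSucc]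



/-- a compact open inside an affine open is a finite union of basic opens -/
lemma exists_finset_basicOpen {W : X.Opens} (hW : IsAffineOpen W) (V : X.Opens)
    (hV : IsCompact (V : Set X)) (hVW : V ≤ W) :
    ∃ t : Finset Γ(X, W), (∀ f ∈ t, X.basicOpen f ≤ V) ∧
      ∀ x ∈ V, ∃ f ∈ t, x ∈ X.basicOpen f := by
  classical
  have hex : ∀ x : V, ∃ f : Γ(X, W), X.basicOpen f ≤ V ∧ (x : X) ∈ X.basicOpen f :=
    fun x => hW.exists_basicOpen_le x (hVW x.2)
  choose f hf1 hf2 using hex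
  obtain ⟨t, ht⟩ := hV.elim_nhds_subcover' (fun x hx => (X.basicOpen (f ⟨x, hx⟩) : Set X))
    (fun x hx => (X.basicOpen (f ⟨x, hx⟩)).isOpen.mem_nhds (hf2 ⟨x, hx⟩))
  refine ⟨t.image (fun x => f ⟨x.1, x.2⟩), ?_, ?_⟩
  · intro g hg
    obtain ⟨x, -, rfl⟩ := Finset.mem_image.mp hg
    exact hf1 _
  · intro x hx
    obtain ⟨y, hy, hxy⟩ := Set.mem_iUnion₂.mp (ht hx)
    exact ⟨f ⟨y.1, y.2⟩, Finset.mem_image.mpr ⟨y, hy, rfl⟩, hxy⟩

/-- membership in the vanishing ideal of a closed set disjoint from a basic open -/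
lemma mem_vanishingIdeal_of_basicOpen_le (Z : Closeds X) (W : X.affineOpens) (f : Γ(X, W.1))
    (hf : ∀ x ∈ X.basicOpen f, x ∉ Z) :
    f ∈ (Scheme.IdealSheafData.vanishingIdeal Z).ideal W := by
  rw [Scheme.IdealSheafData.vanishingIdeal_ideal]
  rw [PrimeSpectrum.mem_vanishingIdeal]
  intro p hp
  by_contra hfp
  have h1 : p ∈ W.2.fromSpec ⁻¹ᵁ X.basicOpen f := by
    rw [W.2.fromSpec_preimage_basicOpen]
    exact hfp
  exact hf _ h1 hp

/-- finitely many sections of an ideal sheaf lie in a finite type sub-ideal sheaf (finset form) -/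
lemma exists_ft_subideal_finset [CompactSpace X] [QuasiSeparatedSpace X] (N : X.IdealSheafData)
    (s : Finset X.affineOpens) (t : ∀ W : X.affineOpens, Finset Γ(X, W.1))
    (hmem : ∀ W ∈ s, ∀ f ∈ t W, f ∈ N.ideal W) :
    ∃ J : X.IdealSheafData, J ≤ N ∧ BlowUp.IsFiniteTypeIdeal J ∧
      ∀ W ∈ s, ∀ f ∈ t W, f ∈ J.ideal W := by
  classical
  let P : Finset (Σ W : X.affineOpens, Γ(X, W.1)) := s.sigma t
  have hmem' : ∀ p ∈ P, p.2 ∈ N.ideal p.1 := by
    intro p hp
    obtain ⟨hp1, hp2⟩ := Finset.mem_sigma.mp hp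
    exact hmem p.1 hp1 p.2 hp2
  let φ : {p // p ∈ P} → (Σ T : X.affineOpens, N.ideal T) :=
    fun p => ⟨p.1.1, ⟨p.1.2, hmem' p.1 p.2⟩⟩
  obtain ⟨J, hJN, hJft, hJl⟩ :=
    Groth.Agent.Lib.helper7.ThickAff.exists_ft_subideal N (P.attach.toList.map φ)
  refine ⟨J, hJN, hJft, ?_⟩
  intro W hW f hf
  have hp : (⟨W, f⟩ : Σ W : X.affineOpens, Γ(X, W.1)) ∈ P := Finset.mem_sigma.mpr ⟨hW, hf⟩
  have hl : φ ⟨⟨W, f⟩, hp⟩ ∈ P.attach.toList.map φ :=
    List.mem_map.mpr ⟨⟨⟨W, f⟩, hp⟩, Finset.mem_toList.mpr (Finset.mem_attach _ _), rfl⟩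
  exact hJl _ hl

/-- **a finite type ideal sheaf cutting out the complement of a quasi-compact open** -/
theorem exists_ft_ideal [CompactSpace X] [QuasiSeparatedSpace X] (U₀ : X.Opens)
    (hU₀ : IsCompact (U₀ : Set X)) :
    ∃ J : X.IdealSheafData, BlowUp.IsFiniteTypeIdeal J ∧
      (J.support : Set X) = ((U₀ : Set X))ᶜ := by
  classical
  let Z : Closeds X := ⟨((U₀ : Set X))ᶜ, U₀.isOpen.isClosed_compl⟩
  obtain ⟨s, hs, hcov⟩ := (isCompact_iff_finite_and_eq_biUnion_affineOpens
    (U := (⊤ : X.Opens))).mp (by simpa using CompactSpace.isCompact_univ (X := X))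
  have hex : ∀ W : X.affineOpens, ∃ t : Finset Γ(X, W.1),
      (∀ f ∈ t, X.basicOpen f ≤ W.1 ⊓ U₀) ∧ ∀ x ∈ W.1 ⊓ U₀, ∃ f ∈ t, x ∈ X.basicOpen f := by
    intro W
    exact exists_finset_basicOpen W.2 (W.1 ⊓ U₀)
      (QuasiSeparatedSpace.inter_isCompact _ _ W.1.2 W.2.isCompact U₀.2 hU₀) inf_le_left
  choose t ht1 ht2 using hex
  obtain ⟨J, hJN, hJft, hJl⟩ := exists_ft_subideal_finset
    (Scheme.IdealSheafData.vanishingIdeal Z) hs.toFinset t (by
      intro W _ f hf
      exact mem_vanishingIdeal_of_basicOpen_le Z W f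
        (fun x hx hxZ => hxZ (((ht1 W f hf).trans inf_le_right) hx)))
  refine ⟨J, hJft, ?_⟩
  apply Set.Subset.antisymm
  · -- support J ⊆ U₀ᶜ
    intro x hx hxU
    have hx' : x ∈ (⊤ : X.Opens) := trivial
    rw [hcov] at hx'
    obtain ⟨W, hW⟩ := Opens.mem_iSup.mp hx'
    obtain ⟨hWs, hxW⟩ := Opens.mem_iSup.mp hW
    obtain ⟨f, hft, hxf⟩ := ht2 W x ⟨hxW, hxU⟩
    have hfJ : f ∈ J.ideal W := hJl W (hs.mem_toFinset.mpr hWs) f hft
    have h1 := (Scheme.IdealSheafData.mem_support_iff_of_mem (I := J) hxW).mp hx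
    exact (Scheme.mem_zeroLocus_iff _ _ _).mp h1 f hfJ hxf
  · -- U₀ᶜ ⊆ support J
    have : Z ≤ J.support := Scheme.IdealSheafData.le_support_iff_le_vanishingIdeal.mpr hJN
    exact this

/-- sections of an ideal sheaf with support disjoint from `U₀` have basic opens inside `U₀` -/
lemma basicOpen_le_of_mem_ideal (J : X.IdealSheafData) (U₀ : X.Opens)
    (hJ : (J.support : Set X) = ((U₀ : Set X))ᶜ) (W : X.affineOpens) (g : Γ(X, W.1))
    (hg : g ∈ J.ideal W) : X.basicOpen g ≤ U₀ := by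
  intro x hx
  by_contra hxU
  have h1 : x ∈ (J.support : Set X) := by rw [hJ]; exact hxU
  have h2 := (Scheme.IdealSheafData.mem_support_iff_of_mem (I := J)
    (show x ∈ W.1 from X.basicOpen_le g hx)).mp h1
  exact (Scheme.mem_zeroLocus_iff _ _ _).mp h2 g hg hx

end Groth.Agent.Lib.helper27.AffStratVan
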