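import Mathlib
import Groth.Prelude.Def_MoreMor
import Groth.Prelude.Def_Coh
import Groth.Agent.Lib.Helper27.AffStratVan1
import Groth.Agent.Lib.Helper16.CohFinite

/-!
# Vanishing above the affine stratification number, part 2 (helper27)

`VanOn U₀ G`: the module `G` vanishes on the open `U₀`.  `exists_pow_kill`: a finite type
quasi-coherent module vanishing on `U₀` is killed over each affine open by a power of a finite type
ideal cutting out the complement.
-/

set_option autoImplicit false
set_option backward.isDefEq.respectTransparency false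

universe u

open AlgebraicGeometry CategoryTheory Limits TopologicalSpace

namespace Groth.Agent.Lib.helper27.AffStratVan

variable {X : Scheme.{u}}

/-- the module `G` vanishes on the open `U₀` -/
def VanOn (U₀ : X.Opens) (G : X.Modules) : Prop :=
  ∀ W : X.Opens, W ≤ U₀ → Subsingleton Γ(G, W)

/-- pure algebra: a finitely generated ideal acting locally nilpotently on a finite module has a
power killing the module -/
lemma exists_pow_le_annihilator {A M : Type*} [CommRing A] [AddCommGroup M] [Module A M]
    [Module.Finite A M] (I : Ideal A) (hI : I.FG)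
    (h : ∀ g ∈ I, ∀ m : M, ∃ n : ℕ, g ^ n • m = 0) :
    ∃ k : ℕ, I ^ k ≤ Module.annihilator A M := by
  classical
  apply Ideal.exists_pow_le_of_le_radical_of_fg _ hI
  intro g hg
  obtain ⟨S, hS⟩ := (Module.Finite.fg_top : (⊤ : Submodule A M).FG)
  choose n hn using h g hg
  refine ⟨S.sup n, ?_⟩
  rw [Module.mem_annihilator]
  intro m
  have hm : m ∈ Submodule.span A (S : Set M) := by rw [hS]; trivial
  induction hm using Submodule.span_induction with
  | mem x hx =>
    have h1 : n x ≤ S.sup n := Finset.le_sup hx
    obtain ⟨d, hd⟩ := Nat.exists_eq_add_of_le h1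
    rw [hd, pow_add, mul_comm, mul_smul, hn, smul_zero]
  | zero => rw [smul_zero]
  | add x y _ _ hx hy => rw [smul_add, hx, hy, add_zero]
  | smul a x _ hx => rw [smul_comm, hx, smul_zero]

open Groth.Agent.Lib.helper7 in
/-- a finite type quasi-coherent module vanishing on `U₀` is killed, over each affine open, by a
power of a finite type ideal cutting out the complement of `U₀` -/
lemma exists_pow_kill (U₀ : X.Opens) (J : X.IdealSheafData) (hJft : BlowUp.IsFiniteTypeIdeal J)
    (hJ : (J.support : Set X) = ((U₀ : Set X))ᶜ) (G : X.Modules) [G.IsQuasicoherent]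
    (hft : CohB1.IsFT G) (hG : VanOn U₀ G) (W : X.affineOpens) :
    ∃ k : ℕ, ∀ a ∈ (J.ideal W) ^ k, ∀ m : Γ(G, W.1), a • m = 0 := by
  have hfin : Module.Finite Γ(X, W.1) Γ(G, W.1) :=
    (Groth.Agent.Lib.helper16.CohFinite.isFiniteType_iff_finite_sections G).mp hft W
  obtain ⟨k, hk⟩ := exists_pow_le_annihilator (M := Γ(G, W.1)) (J.ideal W) (hJft W) (by
    intro g hg m
    have hle : X.basicOpen g ≤ U₀ := basicOpen_le_of_mem_ideal J U₀ hJ W g hg
    have := hG _ hle
    exact exists_pow_smul_eq_zero_of_isAffineOpen W.2 G g m (Subsingleton.elim _ _))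
  exact ⟨k, fun a ha m => Module.mem_annihilator.mp (hk ha) m⟩

end Groth.Agent.Lib.helper27.AffStratVan
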