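import Mathlib
import Groth.Prelude.Def_MoreMor
import Groth.Prelude.Def_Coh
import Groth.Agent.Lib.Helper27.AffStratVan2
import Groth.Agent.Lib.Helper16.Satur1
import Groth.Agent.Lib.Helper7.KerSections

/-!
# Vanishing above the affine stratification number, part 3: the class `VanOn` (helper27)

`VanOn U₀ G ↔ IsZero (G|_{U₀})`; stability under subobjects and coproducts; kernel and cokernel of the
unit `F ⟶ j_* j^* F` vanish on `U₀`.
-/

set_option autoImplicit false
set_option backward.isDefEq.respectTransparency false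

universe u

open AlgebraicGeometry CategoryTheory Limits TopologicalSpace

namespace Groth.Agent.Lib.helper27.AffStratVan

variable {X : Scheme.{u}}

open Scheme.Modules

/-- a module all of whose sections vanish is zero -/
lemma isZero_of_subsingleton_sections (M : X.Modules) (h : ∀ V : X.Opens, Subsingleton Γ(M, V)) :
    IsZero M := by
  rw [IsZero.iff_id_eq_zero]
  apply Scheme.Modules.hom_ext
  intro V
  ext a
  have := h V
  exact Subsingleton.elim _ _

/-- sections of a zero module vanish -/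
lemma subsingleton_sections_of_isZero {M : X.Modules} (h : IsZero M) (V : X.Opens) :
    Subsingleton Γ(M, V) := by
  refine ⟨fun a b => ?_⟩
  have h0 : (𝟙 M : M ⟶ M) = 0 := (IsZero.iff_id_eq_zero M).mp h
  have ha : a = ((𝟙 M : M ⟶ M).app V).hom a := rfl
  have hb : b = ((𝟙 M : M ⟶ M).app V).hom b := rfl
  rw [ha, hb, h0]
  rfl

lemma image_preimage_ι_eq (U₀ W : X.Opens) (h : W ≤ U₀) : U₀.ι ''ᵁ (U₀.ι ⁻¹ᵁ W) = W := by
  rw [Scheme.Hom.image_preimage_eq_opensRange_inf, Scheme.Opens.opensRange_ι]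
  exact inf_eq_right.mpr h

theorem vanOn_iff_isZero_restrict (U₀ : X.Opens) (G : X.Modules) :
    VanOn U₀ G ↔ IsZero ((restrictFunctor U₀.ι).obj G) := by
  constructor
  · intro h
    apply isZero_of_subsingleton_sections
    intro V
    exact h (U₀.ι ''ᵁ V) (by
      rintro _ ⟨y, -, rfl⟩
      exact y.2)
  · intro h W hW
    have h1 := subsingleton_sections_of_isZero h (U₀.ι ⁻¹ᵁ W)
    have h2 : Γ((restrictFunctor U₀.ι).obj G, U₀.ι ⁻¹ᵁ W) = Γ(G, U₀.ι ''ᵁ (U₀.ι ⁻¹ᵁ W)) := rfl
    rw [h2, image_preimage_ι_eq U₀ W hW] at h1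
    exact h1

lemma VanOn.of_mono {U₀ : X.Opens} {G' G : X.Modules} (i : G' ⟶ G) [Mono i] (hG : VanOn U₀ G) :
    VanOn U₀ G' := by
  intro W hW
  have := hG W hW
  exact (Groth.Agent.Lib.helper16.Satur.injective_app_of_mono i W).subsingleton

lemma VanOn.sigma {U₀ : X.Opens} {ι : Type u} (E : ι → X.Modules) (h : ∀ j, VanOn U₀ (E j)) :
    VanOn U₀ (∐ E) := by
  rw [vanOn_iff_isZero_restrict]
  have hp : PreservesColimitsOfSize.{u, u} (restrictFunctor U₀.ι) := inferInstance
  let e : (restrictFunctor U₀.ι).obj (∐ E) ≅ ∐ fun j => (restrictFunctor U₀.ι).obj (E j) :=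
    PreservesCoproduct.iso (restrictFunctor U₀.ι) E
  refine IsZero.of_iso ?_ e
  rw [IsZero.iff_id_eq_zero]
  apply Sigma.hom_ext
  intro j
  exact ((vanOn_iff_isZero_restrict U₀ (E j)).mp (h j)).eq_of_src _ _

/-- the unit `F ⟶ j_* j^* F` of restriction to the open `U₀` -/
noncomputable abbrev unitOpen (U₀ : X.Opens) (F : X.Modules) :
    F ⟶ (pushforward U₀.ι).obj ((restrictFunctor U₀.ι).obj F) :=
  (restrictAdjunction U₀.ι).unit.app F

lemma isIso_restrict_unitOpen (U₀ : X.Opens) (F : X.Modules) :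
    IsIso ((restrictFunctor U₀.ι).map (unitOpen U₀ F)) := by
  have h := (restrictAdjunction U₀.ι).left_triangle_components F
  have h2 : IsIso ((restrictFunctor U₀.ι).map (unitOpen U₀ F) ≫
      (restrictAdjunction U₀.ι).counit.app ((restrictFunctor U₀.ι).obj F)) := by
    rw [h]; infer_instance
  exact IsIso.of_isIso_comp_right _
    ((restrictAdjunction U₀.ι).counit.app ((restrictFunctor U₀.ι).obj F))

lemma vanOn_cokernel_unitOpen (U₀ : X.Opens) (F : X.Modules) :
    VanOn U₀ (cokernel (unitOpen U₀ F)) := by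
  rw [vanOn_iff_isZero_restrict]
  have hp : PreservesColimitsOfSize.{u, u} (restrictFunctor U₀.ι) := inferInstance
  have hiso := isIso_restrict_unitOpen U₀ F
  let e : (restrictFunctor U₀.ι).obj (cokernel (unitOpen U₀ F)) ≅
      cokernel ((restrictFunctor U₀.ι).map (unitOpen U₀ F)) :=
    PreservesCokernel.iso (restrictFunctor U₀.ι) (unitOpen U₀ F)
  exact IsZero.of_iso (isZero_cokernel_of_epi _) e

lemma vanOn_kernel_unitOpen (U₀ : X.Opens) (F : X.Modules) :
    VanOn U₀ (kernel (unitOpen U₀ F)) := by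
  intro W hW
  refine ⟨fun a b => ?_⟩
  apply Groth.Agent.Lib.helper7.KerSections.kernel_ι_app_injective (unitOpen U₀ F) W
  have hinj : Function.Injective ((unitOpen U₀ F).app W).hom := by
    have h1 : (unitOpen U₀ F).app W =
        F.presheaf.map (homOfLE (U₀.ι.image_preimage_le W)).op :=
      restrictAdjunction_unit_app_app U₀.ι F W
    rw [h1]
    have heq : U₀.ι ''ᵁ (U₀.ι ⁻¹ᵁ W) = W := image_preimage_ι_eq U₀ W hW
    have : IsIso (F.presheaf.map (homOfLE (U₀.ι.image_preimage_le W)).op) := by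
      have : IsIso (homOfLE (U₀.ι.image_preimage_le W)) :=
        ⟨⟨homOfLE heq.ge, Subsingleton.elim _ _, Subsingleton.elim _ _⟩⟩
      infer_instance
    exact ((ConcreteCategory.bijective_of_isIso
      (F.presheaf.map (homOfLE (U₀.ι.image_preimage_le W)).op))).1
  apply hinj
  rw [Groth.Agent.Lib.helper7.KerSections.kernel_ι_app_comp,
    Groth.Agent.Lib.helper7.KerSections.kernel_ι_app_comp]

end Groth.Agent.Lib.helper27.AffStratVan
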