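import Mathlib
import Groth.Agent.Lib.Helper27.RpushVanish

set_option autoImplicit false
set_option linter.unusedVariables false
set_option linter.unusedSectionVars false

namespace Groth.Agent.Lib.helper27

open CategoryTheory Limits Opposite TopologicalSpace AlgebraicGeometry

universe u

namespace SerreVan

/-- an affine open mapping into an affine open meets the preimage of a smaller affine open in an
affine open -/
lemma isAffineOpen_inf_preimage {Y Z : Scheme.{u}} (g : Y ⟶ Z) {W : Y.Opens}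
    (hW : IsAffineOpen W) {Z' : Z.Opens} (hZ' : IsAffineOpen Z') (hWZ : W ≤ g ⁻¹ᵁ Z')
    {V : Z.Opens} (hV : IsAffineOpen V) (hVZ : V ≤ Z') :
    IsAffineOpen (W ⊓ g ⁻¹ᵁ V) := by
  have : IsAffine W.toScheme := hW
  have : IsAffine Z'.toScheme := hZ'
  have h1 : IsAffineOpen (Z'.ι ⁻¹ᵁ V) :=
    hV.preimage_of_isOpenImmersion Z'.ι (by simpa using hVZ)
  have h2 : IsAffineOpen ((g.resLE Z' W hWZ) ⁻¹ᵁ (Z'.ι ⁻¹ᵁ V)) := h1.preimage _
  have h3 := h2.image_of_isOpenImmersion W.ι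
  convert h3 using 1
  ext x
  constructor
  · rintro ⟨hxW, hxV⟩
    refine ⟨⟨x, hxW⟩, ?_, rfl⟩
    show (Z'.ι.base ((g.resLE Z' W hWZ).base ⟨x, hxW⟩)) ∈ V
    have := Scheme.Hom.resLE_comp_ι g hWZ
    have h4 := congrArg (fun φ => φ.base ⟨x, hxW⟩) this
    simp only [Scheme.Hom.comp_base, TopCat.hom_comp, ContinuousMap.comp_apply] at h4
    rw [h4]
    exact hxV
  · rintro ⟨⟨y, hyW⟩, hy, rfl⟩
    refine ⟨hyW, ?_⟩
    have hy' : (Z'.ι.base ((g.resLE Z' W hWZ).base ⟨y, hyW⟩)) ∈ V := hy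
    have := Scheme.Hom.resLE_comp_ι g hWZ
    have h4 := congrArg (fun φ => φ.base ⟨y, hyW⟩) this
    simp only [Scheme.Hom.comp_base, TopCat.hom_comp, ContinuousMap.comp_apply] at h4
    rw [h4] at hy'
    exact hy'

lemma subsingleton_HU_bot {X : Scheme.{u}} (M : X.Modules) [M.IsQuasicoherent] (p : ℕ) :
    Subsingleton (CohTop.HU (Coh.toAb M) p ⊥) := by
  rcases p with _ | p
  · exact subsingleton_HU_zero_bot _
  · exact subsingleton_HU_of_isAffineOpen M ⊥ (isAffineOpen_bot X) p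

/-- vanishing of cohomology above the number of members of a class of affine opens closed under
intersection needed to cover an open -/
theorem subsingleton_HU_iSup' {X : Scheme.{u}} (𝒜 : X.Opens → Prop)
    (h𝒜 : ∀ V, 𝒜 V → IsAffineOpen V) (hd : ∀ V W, 𝒜 V → 𝒜 W → 𝒜 (V ⊓ W))
    (M : X.Modules) [M.IsQuasicoherent] :
    ∀ (t : ℕ) (U : Fin t → X.Opens) (hU : ∀ i, 𝒜 (U i)) (n : ℕ) (hn : t ≤ n),
      Subsingleton (CohTop.HU (Coh.toAb M) n (⨆ i, U i)) := by
  intro t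
  induction t with
  | zero =>
    intro U hU n hn
    rw [iSup_of_empty]
    exact subsingleton_HU_bot M n
  | succ t ih =>
    intro U hU n hn
    obtain ⟨m, rfl⟩ : ∃ m, n = m + 1 := ⟨n - 1, by omega⟩
    rw [iSup_fin_succ]
    apply subsingleton_HU_sup
    · rw [iSup_inf_eq]
      exact ih (fun i => U i.castSucc ⊓ U (Fin.last t))
        (fun i => hd _ _ (hU _) (hU _)) m (by omega)
    · exact ih (fun i => U i.castSucc) (fun i => hU _) (m + 1) (by omega)
    · exact subsingleton_HU_of_isAffineOpen M _ (h𝒜 _ (hU _)) m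

/-- Claim A: uniform vanishing on a compact open inside an affine open mapping into an affine. -/
theorem exists_bound_of_le_affine {X S : Scheme.{u}} (f : X ⟶ S) {S' : S.Opens}
    (hS' : IsAffineOpen S') {U : X.Opens} (hU : IsAffineOpen U) (hUS : U ≤ f ⁻¹ᵁ S')
    (T : X.Opens) (hT : IsCompact (T : Set X)) (hTU : T ≤ U) :
    ∃ n : ℕ, ∀ V : S.Opens, IsAffineOpen V → V ≤ S' → ∀ (M : X.Modules), M.IsQuasicoherent →
      ∀ p : ℕ, n ≤ p → Subsingleton (CohTop.HU (Coh.toAb M) p (T ⊓ f ⁻¹ᵁ V)) := by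
  obtain ⟨s, hs, rfl⟩ := isCompact_iff_finite_and_eq_biUnion_affineOpens.mp hT
  obtain ⟨t, e, he⟩ := hs.fin_embedding
  refine ⟨t, fun V hV hVS M hM p hp => ?_⟩
  have h1 : (⨆ i ∈ s, (i : X.Opens)) = ⨆ k : Fin t, ((e k : X.affineOpens) : X.Opens) := by
    rw [← he, iSup_range]
  rw [h1, iSup_inf_eq]
  refine subsingleton_HU_iSup' (fun A => A ≤ U ∧ IsAffineOpen A) (fun A hA => hA.2) ?_ M t _ ?_
    p hp
  · rintro A B ⟨hAU, hA⟩ ⟨hBU, hB⟩
    refine ⟨inf_le_left.trans hAU, ?_⟩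
    have := isAffineOpen_inf_preimage (𝟙 X) hA (Z' := U) hU (by simpa using hAU) hB hBU
    simpa using this
  · intro k
    have hk : ((e k : X.affineOpens) : X.Opens) ≤ U := by
      refine le_trans ?_ hTU
      rw [h1]
      exact le_iSup (fun k : Fin t => ((e k : X.affineOpens) : X.Opens)) k
    exact ⟨inf_le_left.trans hk,
      isAffineOpen_inf_preimage f (e k).2 hS' (hk.trans hUS) hV hVS⟩

/-- Claim B: uniform vanishing on a compact open mapping into an affine open. -/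
theorem exists_bound_of_le_preimage_affine {X S : Scheme.{u}} (f : X ⟶ S) [QuasiSeparated f]
    {S' : S.Opens} (hS' : IsAffineOpen S') (T : X.Opens) (hT : IsCompact (T : Set X)) :
    T ≤ f ⁻¹ᵁ S' →
    ∃ n : ℕ, ∀ V : S.Opens, IsAffineOpen V → V ≤ S' → ∀ (M : X.Modules), M.IsQuasicoherent →
      ∀ p : ℕ, n ≤ p → Subsingleton (CohTop.HU (Coh.toAb M) p (T ⊓ f ⁻¹ᵁ V)) := by
  have hqs : IsQuasiSeparated ((f ⁻¹ᵁ S' : X.Opens) : Set X) :=
    f.isQuasiSeparated_preimage hS'.isQuasiSeparated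
  refine compact_open_induction_on (P := fun T : X.Opens => T ≤ f ⁻¹ᵁ S' →
    ∃ n : ℕ, ∀ V : S.Opens, IsAffineOpen V → V ≤ S' → ∀ (M : X.Modules), M.IsQuasicoherent →
      ∀ p : ℕ, n ≤ p → Subsingleton (CohTop.HU (Coh.toAb M) p (T ⊓ f ⁻¹ᵁ V))) T hT ?_ ?_
  · intro _
    refine ⟨0, fun V hV hVS M hM p hp => ?_⟩
    rw [bot_inf_eq]
    exact subsingleton_HU_bot M p
  · intro T hT U ih hTU
    have hT' : T ≤ f ⁻¹ᵁ S' := le_sup_left.trans hTU
    have hU' : (U : X.Opens) ≤ f ⁻¹ᵁ S' := le_sup_right.trans hTU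
    obtain ⟨n₁, h₁⟩ := ih hT'
    have hc : IsCompact ((T ⊓ (U : X.Opens) : X.Opens) : Set X) :=
      hqs T U hT' T.2 hT hU' (U : X.Opens).2 U.2.isCompact
    obtain ⟨n₂, h₂⟩ := exists_bound_of_le_affine f hS' U.2 hU' (T ⊓ (U : X.Opens)) hc inf_le_right
    refine ⟨max (max n₁ 1) (n₂ + 1), fun V hV hVS M hM p hp => ?_⟩
    obtain ⟨q, rfl⟩ : ∃ q, p = q + 1 := ⟨p - 1, by omega⟩
    rw [inf_sup_right]
    apply subsingleton_HU_sup
    · rw [← inf_inf_distrib_right]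
      exact h₂ V hV hVS M hM q (by omega)
    · exact h₁ V hV hVS M hM (q + 1) (by omega)
    · exact subsingleton_HU_of_isAffineOpen M _
        (isAffineOpen_inf_preimage f U.2 hS' hU' hV hVS) q

/-- **Uniform vanishing of higher direct images** for qcqs morphisms to a quasi-compact base. -/
theorem exists_bound_RpushAb {X S : Scheme.{u}} (f : X ⟶ S) [QuasiCompact f]
    [QuasiSeparated f] [CompactSpace S] :
    ∃ n : ℕ, ∀ (M : X.Modules), M.IsQuasicoherent → ∀ p : ℕ, n ≤ p →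
      IsZero ((Coh.RpushAb f p).obj (Coh.toAb M)) := by
  obtain ⟨s, hs, hs'⟩ := isCompact_iff_finite_and_eq_biUnion_affineOpens.mp
    (show IsCompact ((⊤ : S.Opens) : Set S) from isCompact_univ)
  have hex : ∀ j : s, ∃ n : ℕ, ∀ V : S.Opens, IsAffineOpen V → V ≤ (j.1 : S.Opens) →
      ∀ (M : X.Modules), M.IsQuasicoherent →
      ∀ p : ℕ, n ≤ p → Subsingleton (CohTop.HU (Coh.toAb M) p
        (f ⁻¹ᵁ (j.1 : S.Opens) ⊓ f ⁻¹ᵁ V)) := fun j =>
    exists_bound_of_le_preimage_affine f j.1.2 (f ⁻¹ᵁ (j.1 : S.Opens))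
      (QuasiCompact.isCompact_preimage (f := f) _ (j.1 : S.Opens).2 j.1.2.isCompact) le_rfl
  choose n hn using hex
  have : Finite s := hs.to_subtype
  obtain ⟨N, hN⟩ := Finite.exists_le n
  refine ⟨N, fun M hM p hp => ?_⟩
  obtain ⟨e⟩ := RpushSheafify.rpush_iso_top f.base (Coh.toAb M) p
  refine IsZero.of_iso ?_ e
  apply RpushVanish.isZero_sheafify_of_locally_subsingleton
  intro W y hy
  have hy' : y ∈ (⊤ : S.Opens) := trivial
  rw [hs'] at hy'
  simp only [Opens.mem_iSup] at hy'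
  obtain ⟨j, hj, hyj⟩ := hy'
  obtain ⟨V, hV, hyV, hVW⟩ := (Opens.isBasis_iff_nbhd.1 S.isBasis_affineOpens)
    (show y ∈ W ⊓ (j : S.Opens) from ⟨hy, hyj⟩)
  refine ⟨V, hVW.trans inf_le_left, hyV, ?_⟩
  have h := hn ⟨j, hj⟩ V hV (hVW.trans inf_le_right) M hM p ((hN _).trans hp)
  have h2 : f ⁻¹ᵁ (j : S.Opens) ⊓ f ⁻¹ᵁ V = f ⁻¹ᵁ V := by
    apply inf_eq_right.mpr
    exact (Opens.map f.base).monotone (hVW.trans inf_le_right)
  rw [h2] at h
  exact h

end SerreVan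

end Groth.Agent.Lib.helper27
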