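import Mathlib
import Groth.Prelude.Def_MoreMor
import Groth.Prelude.Def_Coh
import Groth.Agent.Lib.Helper27.AffStratVan2
import Groth.Agent.Lib.Helper7.ThickAff2
import Groth.Agent.Lib.Helper27.SerreVan5

/-!
# Vanishing above the affine stratification number, part 4 (helper27)

`subsingleton_HH_of_ft`: the finite type case via thickenings `V(J^(k+1))`;
`exists_bound`: finite cohomological dimension of quasi-coherent modules on a qcqs scheme.
-/

set_option autoImplicit false
set_option backward.isDefEq.respectTransparency false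

universe u

open AlgebraicGeometry CategoryTheory Limits TopologicalSpace

namespace Groth.Agent.Lib.helper27.AffStratVan

variable {X : Scheme.{u}}

open Groth.Agent.Lib.helper7 Groth.Agent.Lib.helper7.ThickAff Scheme.Modules in
/-- **finite type case**: a finite type quasi-coherent module vanishing on `U₀` has no `H^p` if
quasi-coherent modules on the thickenings `V(J^(k+1))` have none -/
theorem subsingleton_HH_of_ft [CompactSpace X] [QuasiSeparatedSpace X] (U₀ : X.Opens)
    (J : X.IdealSheafData) (hJft : BlowUp.IsFiniteTypeIdeal J)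
    (hJ : (J.support : Set X) = ((U₀ : Set X))ᶜ) (p : ℕ)
    (hY : ∀ (k : ℕ) (M : (J ^ (k + 1)).subscheme.Modules), M.IsQuasicoherent →
      Subsingleton (Coh.HH (J ^ (k + 1)).subscheme M p))
    (G : X.Modules) [G.IsQuasicoherent] (hft : CohB1.IsFT G) (hG : VanOn U₀ G) :
    Subsingleton (Coh.HH X G p) := by
  classical
  obtain ⟨s, hs, hcov⟩ := (isCompact_iff_finite_and_eq_biUnion_affineOpens
    (U := (⊤ : X.Opens))).mp (by simpa using CompactSpace.isCompact_univ (X := X))
  choose e he using fun W : X.affineOpens => exists_pow_kill U₀ J hJft hJ G hft hG W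
  let k := hs.toFinset.sup e
  let i := (J ^ (k + 1)).subschemeι
  have hqp : ((Scheme.Modules.pullback i).obj G).IsQuasicoherent :=
    Groth.Agent.Lib.helper16.QCohPullback.isQuasicoherent_pullback i G
  have hq : ((pushforward i).obj ((Scheme.Modules.pullback i).obj G)).IsQuasicoherent :=
    Groth.Agent.Lib.helper7.QCohPushQC.isQuasicoherent_pushforward i _
  have hiso : IsIso (un i G) := by
    refine KerSections.isIso_of_bijective_cover (un i G) (fun W : s => (W.1 : X.Opens))
      (fun W => W.1.2) ?_ ?_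
    · intro x
      have hx : x ∈ (⊤ : X.Opens) := trivial
      rw [hcov] at hx
      obtain ⟨W, hW⟩ := Opens.mem_iSup.mp hx
      obtain ⟨hWs, hxW⟩ := Opens.mem_iSup.mp hW
      exact ⟨⟨W, hWs⟩, hxW⟩
    · rintro ⟨W, hWs⟩
      refine (Groth.Agent.Lib.helper8.ClosedImmUnit.bijective_unit_app_iff i G W.2).mpr ?_
      intro a ha m
      rw [← Scheme.Hom.ker_apply, Scheme.IdealSheafData.ker_subschemeι,
        Scheme.IdealSheafData.ideal_pow, Pi.pow_apply] at ha
      refine he W a ?_ m
      have h1 : e W ≤ k + 1 := (Finset.le_sup (hs.mem_toFinset.mpr hWs)).trans (Nat.le_succ _)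
      exact Ideal.pow_le_pow_right h1 ha
  refine subsingleton_HH_of_iso (asIso (un i G)) p ?_
  obtain ⟨eq⟩ := Groth.Agent.S0012.result i ((Scheme.Modules.pullback i).obj G) p
  have := hY k _ hqp
  exact eq.symm.toEquiv.subsingleton

/-- **finite cohomological dimension of quasi-coherent modules on a qcqs scheme** -/
theorem exists_bound [CompactSpace X] [QuasiSeparatedSpace X] :
    ∃ d : ℕ, ∀ (M : X.Modules), M.IsQuasicoherent → ∀ p : ℕ, d ≤ p →
      Subsingleton (Coh.HH X M p) := by
  obtain ⟨n, hn⟩ := SerreVan.exists_bound_of_le_preimage_affine X.toSpecΓ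
    (isAffineOpen_top (Spec Γ(X, ⊤))) (⊤ : X.Opens) isCompact_univ le_top
  refine ⟨n, fun M hM p hp => ?_⟩
  have h := hn ⊤ (isAffineOpen_top _) le_rfl M hM p hp
  have h2 : (⊤ : X.Opens) ⊓ X.toSpecΓ ⁻¹ᵁ ⊤ = ⊤ := by simp
  rw [h2] at h
  exact (SerreVan.HEquivHU (Coh.toAb M) p).symm.toEquiv.subsingleton

end Groth.Agent.Lib.helper27.AffStratVan
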