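import Mathlib
import Groth.Prelude.Def_MoreMor
import Groth.Prelude.Def_Coh
import Groth.Agent.Lib.Helper27.AffStratVan3
import Groth.Agent.Lib.Helper27.AffStratVan4
import Groth.Agent.Lib.Helper16.Satur5
import Groth.Agent.Lib.Helper11.CoprodVan
import Groth.Agent.Lib.Helper11.QCohSigma

/-!
# Vanishing above the affine stratification number, part 5: dimension shifting (helper27)

`exists_epi_sigma_ft`: a quasi-coherent module on a qcqs scheme is a quotient of a coproduct of finite
type quasi-coherent submodules (from helper16's EGA I 9.4.9).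
`subsingleton_HH_of_vanOn`: vanishing of `H^p` for finite type modules vanishing on `U₀` implies it
for all quasi-coherent modules vanishing on `U₀` (uses helper11's `CoprodVan`).
-/

set_option autoImplicit false
set_option backward.isDefEq.respectTransparency false

universe u

open AlgebraicGeometry CategoryTheory Limits TopologicalSpace

namespace Groth.Agent.Lib.helper27.AffStratVan

variable {X : Scheme.{u}}

open Scheme.Modules Groth.Agent.Lib.helper7

/-- every quasi-coherent module on a qcqs scheme is a quotient of a coproduct of finite type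
quasi-coherent submodules -/
theorem exists_epi_sigma_ft [CompactSpace X] [QuasiSeparatedSpace X] (G : X.Modules)
    [G.IsQuasicoherent] :
    ∃ (ι : Type u) (E : ι → X.Modules) (i : ∀ j, E j ⟶ G), (∀ j, Mono (i j)) ∧
      (∀ j, (E j).IsQuasicoherent) ∧ (∀ j, CohB1.IsFT (E j)) ∧ Epi (Sigma.desc i) := by
  classical
  let ι : Type u := Σ W : X.affineOpens, Γ(G, W.1)
  have hex : ∀ α : ι, ∃ (G' : X.Modules) (i : G' ⟶ G), Mono i ∧ G'.IsQuasicoherent ∧
      CohB1.IsFT G' ∧ ∀ t ∈ ({α.2} : Finset Γ(G, α.1.1)), t ∈ Set.range (i.app α.1.1) :=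
    fun α => Groth.Agent.Lib.helper16.Satur.exists_ft_sub_sections G α.1.2 {α.2}
  choose E iE hmono hq hft hmem using hex
  refine ⟨ι, E, iE, hmono, hq, hft, ?_⟩
  have hqs : (∐ E).IsQuasicoherent := Groth.Agent.Lib.helper11.QCohSigma.isQuasicoherent_sigma E hq
  refine KerSections.epi_of_surjective_affine (Sigma.desc iE) ?_
  intro U hU m
  obtain ⟨t, ht⟩ := hmem ⟨⟨U, hU⟩, m⟩ m (Finset.mem_singleton_self m)
  refine ⟨((Sigma.ι E ⟨⟨U, hU⟩, m⟩).app U).hom t, ?_⟩
  have h1 : Sigma.ι E ⟨⟨U, hU⟩, m⟩ ≫ Sigma.desc iE = iE ⟨⟨U, hU⟩, m⟩ := Sigma.ι_desc _ _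
  have h2 := congrArg (fun ψ => (Scheme.Modules.Hom.app ψ U).hom t) h1
  exact h2.trans ht

/-- **dimension shifting**: vanishing for finite type modules vanishing on `U₀` implies vanishing
for all quasi-coherent modules vanishing on `U₀` -/
theorem subsingleton_HH_of_vanOn [CompactSpace X] [QuasiSeparatedSpace X] (U₀ : X.Opens) (n : ℕ)
    (hft : ∀ (G : X.Modules), G.IsQuasicoherent → CohB1.IsFT G → VanOn U₀ G →
      ∀ p : ℕ, n < p → Subsingleton (Coh.HH X G p))
    (G : X.Modules) (hGq : G.IsQuasicoherent) (hG : VanOn U₀ G) (p : ℕ) (hp : n < p) :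
    Subsingleton (Coh.HH X G p) := by
  obtain ⟨d, hd⟩ := exists_bound (X := X)
  suffices H : ∀ (m p : ℕ), d ≤ p + m → n < p → ∀ (G : X.Modules), G.IsQuasicoherent →
      VanOn U₀ G → Subsingleton (Coh.HH X G p) from H d p (Nat.le_add_left d p) hp G hGq hG
  intro m
  induction m with
  | zero =>
    intro p hdp _ G hGq _
    exact hd G hGq p (by omega)
  | succ m ih =>
    intro p hdp hp G hGq hG
    obtain ⟨ι, E, i, hmono, hq, hEft, hepi⟩ := exists_epi_sigma_ft G
    have hqs : (∐ E).IsQuasicoherent :=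
      Groth.Agent.Lib.helper11.QCohSigma.isQuasicoherent_sigma E hq
    have hK : (kernel (Sigma.desc i)).IsQuasicoherent :=
      CohKer.isQuasicoherent_kernel (Sigma.desc i)
    let S : ShortComplex X.Modules :=
      ShortComplex.mk (kernel.ι (Sigma.desc i)) (Sigma.desc i) (kernel.condition _)
    have hS : S.ShortExact :=
      { exact := ShortComplex.exact_of_f_is_kernel _ (kernelIsKernel (Sigma.desc i))
        mono_f := inferInstanceAs (Mono (kernel.ι (Sigma.desc i)))
        epi_g := hepi }
    have hEv : ∀ j, VanOn U₀ (E j) := fun j => VanOn.of_mono (i j) hG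
    have h2 : Subsingleton (Coh.HH X S.X₂ p) :=
      Groth.Agent.Lib.helper11.CoprodVan.subsingleton_HH_sigma X E p
        (fun j => hft (E j) (hq j) (hEft j) (hEv j) p hp)
    have h1 : Subsingleton (Coh.HH X S.X₁ (p + 1)) :=
      ih (p + 1) (by omega) (by omega) (kernel (Sigma.desc i)) hK
        (VanOn.of_mono (kernel.ι (Sigma.desc i)) (VanOn.sigma E hEv))
    exact Groth.Agent.Lib.Helper18.HH.subsingleton_X₃ hS p h2 h1

end Groth.Agent.Lib.helper27.AffStratVan
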