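import Mathlib
import Groth.Prelude.Def_Coh
import Groth.Agent.Lib.Helper27.AffStratVan5
import Groth.Agent.Lib.Lead.GrothVanish

/-!
# Grothendieck vanishing with supports (helper27)

`subsingleton_HH_of_vanOn_of_dim_le`: on a qcqs scheme, a quasi-coherent module vanishing on a
quasi-compact open `U₀` whose complement has dimension `≤ d` has no cohomology in degrees `> d`.
-/

set_option autoImplicit false
set_option backward.isDefEq.respectTransparency false

universe u

open AlgebraicGeometry CategoryTheory Limits TopologicalSpace

namespace Groth.Agent.Lib.helper27.AffStratVan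

variable {X : Scheme.{u}}

/-- **Grothendieck vanishing with supports**: on a qcqs scheme, a quasi-coherent module vanishing
on a quasi-compact open `U₀` whose complement has dimension `≤ d` has no cohomology above `d`. -/
theorem subsingleton_HH_of_vanOn_of_dim_le [CompactSpace X] [QuasiSeparatedSpace X] (U₀ : X.Opens)
    (hU₀ : IsCompact (U₀ : Set X)) (d : ℕ)
    (hd : topologicalKrullDim ↥(((U₀ : Set X))ᶜ) ≤ d)
    (G : X.Modules) (hGq : G.IsQuasicoherent) (hG : VanOn U₀ G) (p : ℕ) (hp : d < p) :
    Subsingleton (Coh.HH X G p) := by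
  obtain ⟨J, hJft, hJ⟩ := exists_ft_ideal U₀ hU₀
  refine subsingleton_HH_of_vanOn U₀ d ?_ G hGq hG p hp
  intro G' hG'q hG'ft hG' q hq
  refine subsingleton_HH_of_ft U₀ J hJft hJ q ?_ G' hG'ft hG'
  intro k M hM
  let I := J ^ (k + 1)
  have hrange : Set.range I.subschemeι = ((U₀ : Set X))ᶜ := by
    rw [I.range_subschemeι, Scheme.IdealSheafData.support_pow_succ, hJ]
  have : CompactSpace I.subscheme := QuasiCompact.compactSpace_of_compactSpace I.subschemeι
  have : QuasiSeparatedSpace I.subscheme :=
    quasiSeparatedSpace_of_quasiSeparated I.subschemeι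
  have hdim : topologicalKrullDim I.subscheme ≤ d := by
    let g : I.subscheme → ↥(((U₀ : Set X))ᶜ) := fun x =>
      ⟨I.subschemeι x, by rw [← hrange]; exact ⟨x, rfl⟩⟩
    have hg : Topology.IsInducing g := by
      refine Topology.IsInducing.of_comp ?_ continuous_subtype_val ?_
      · exact I.subschemeι.continuous.subtype_mk _
      · exact I.subschemeι.isEmbedding.toIsInducing
    exact hg.topologicalKrullDim_le.trans hd
  exact Groth.Agent.Lib.Lead.GrothVanish.subsingleton_HH_of_dim_le I.subscheme d hdim M q hq

end Groth.Agent.Lib.helper27.AffStratVan
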