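import Mathlib
import Groth.Prelude.Def_Coh
import Groth.Prelude.Def_Formal
import Groth.Agent.S0059
import Groth.Agent.Lib.Helper8.ZConn1
import Groth.Agent.Lib.Helper8.FormalQuot
import Groth.Agent.Lib.Helper27.AffStratVan7

/-!
# Vanishing of coherent cohomology above the dimension of the closed fibre (helper27)

`X` proper over `Spec A`, `A` Noetherian local, `M` coherent, the closed fibre of dimension `≤ d`:
`H^p(X, M) = 0` for `p > d`.
-/

set_option autoImplicit false
set_option backward.isDefEq.respectTransparency false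

universe u

open AlgebraicGeometry CategoryTheory Limits TopologicalSpace Opposite

namespace Groth.Agent.Lib.helper27.FibreVan

open Groth.Agent.Lib.helper27.AffStratVan Groth.Agent.Lib.helper8.FF Groth.Agent.Lib.helper8.ZConn

variable {A : Type u} [CommRing A] [IsLocalRing A]
  {X : Scheme.{u}} [X.Over (Spec (CommRingCat.of A))]

variable (A X) in
/-- the complement of the closed fibre -/
noncomputable def U₀ : X.Opens :=
  (X ↘ Spec (CommRingCat.of A)) ⁻¹ᵁ
    ⟨({IsLocalRing.closedPoint A} : Set (PrimeSpectrum A))ᶜ,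
      (IsLocalRing.isClosed_singleton_closedPoint A).isOpen_compl⟩

lemma mem_U₀_iff (x : X) :
    x ∈ U₀ A X ↔ (X ↘ Spec (CommRingCat.of A)) x ≠ IsLocalRing.closedPoint A := Iff.rfl

lemma compl_U₀ : ((U₀ A X : Set X))ᶜ =
    (X ↘ Spec (CommRingCat.of A)) ⁻¹' {IsLocalRing.closedPoint A} := by
  ext x
  simp only [Set.mem_compl_iff, SetLike.mem_coe, mem_U₀_iff, Set.mem_preimage,
    Set.mem_singleton_iff, not_not]

lemma vanOn_of_killedBy (N : X.Modules) (n : ℕ)
    (hN : Formal.KilledBy (IsLocalRing.maximalIdeal A ^ n) N) : VanOn (U₀ A X) N := by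
  intro W hW
  refine ⟨fun s t => ?_⟩
  have h1 := eq_zero_of_disjoint_fibre N n hN W (fun x hx => (mem_U₀_iff x).mp (hW hx)) s
  have h2 := eq_zero_of_disjoint_fibre N n hN W (fun x hx => (mem_U₀_iff x).mp (hW hx)) t
  exact h1.trans h2.symm

variable [IsNoetherianRing A] [IsProper (X ↘ Spec (CommRingCat.of A))]

lemma isNoetherian_of_proper (A : Type u) [CommRing A] [IsNoetherianRing A] (X : Scheme.{u})
    [X.Over (Spec (CommRingCat.of A))] [IsProper (X ↘ Spec (CommRingCat.of A))] :
    IsNoetherian X := by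
  have : IsLocallyNoetherian X :=
    LocallyOfFiniteType.isLocallyNoetherian (X ↘ Spec (CommRingCat.of A))
  have : CompactSpace X :=
    QuasiCompact.compactSpace_of_compactSpace (X ↘ Spec (CommRingCat.of A))
  exact {}

theorem subsingleton_HH_modPow (M : X.Modules) (hM : Coh.IsCoh M) (d : ℕ)
    (hd : topologicalKrullDim
      ↥((X ↘ Spec (CommRingCat.of A)) ⁻¹' {IsLocalRing.closedPoint A}) ≤ d)
    (p : ℕ) (hp : d < p) (n : ℕ) :
    Subsingleton (Coh.HH X (Formal.modPow (IsLocalRing.maximalIdeal A) n M) p) := by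
  have : IsNoetherian X := isNoetherian_of_proper A X
  have hc : IsCompact ((U₀ A X : X.Opens) : Set X) :=
    TopologicalSpace.NoetherianSpace.isCompact _
  refine subsingleton_HH_of_vanOn_of_dim_le (U₀ A X) hc d ?_ _ ?_ ?_ p hp
  · rw [compl_U₀]; exact hd
  · exact (isCoh_Q (IsLocalRing.maximalIdeal A ^ n) M hM).1
  · refine vanOn_of_killedBy _ n ?_
    intro a ha
    exact smulMod_Q M ha

theorem subsingleton_HH (M : X.Modules) (hM : Coh.IsCoh M) (d : ℕ)
    (hd : topologicalKrullDim
      ↥((X ↘ Spec (CommRingCat.of A)) ⁻¹' {IsLocalRing.closedPoint A}) ≤ d)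
    (p : ℕ) (hp : d < p) : Subsingleton (Coh.HH X M p) := by
  obtain ⟨e⟩ := Groth.Agent.S0059.result A (IsLocalRing.maximalIdeal A) X M hM p
  have : Module.Finite A (Coh.HH X M p) := Groth.Agent.S0002.result A X M hM p
  have h1 : Subsingleton (Formal.HHlim (IsLocalRing.maximalIdeal A) M p) := by
    refine ⟨fun x y => ?_⟩
    apply Subtype.ext
    funext n
    have := subsingleton_HH_modPow M hM d hd p hp (n + 1)
    exact Subsingleton.elim _ _
  have h2 : Subsingleton (AdicCompletion (IsLocalRing.maximalIdeal A) (Coh.HH X M p)) :=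
    e.toEquiv.subsingleton
  exact (AdicCompletion.of_injective (IsLocalRing.maximalIdeal A) (Coh.HH X M p)).subsingleton

end Groth.Agent.Lib.helper27.FibreVan
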