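import Mathlib
import Groth.Prelude.Def_Coh
import Groth.Agent.S0030
import Groth.Agent.S11319
import Groth.Agent.Lib.Helper8.StalkBC2
import Groth.Agent.Lib.Helper16.QCohPullback2
import Groth.Agent.Lib.Helper27.FibreVan1

/-!
# The stalk of `R^p f_* M` vanishes above the dimension of the fibre (helper27)
-/

set_option autoImplicit false
set_option backward.isDefEq.respectTransparency false

universe u

open AlgebraicGeometry CategoryTheory Limits TopologicalSpace Opposite

namespace Groth.Agent.Lib.helper27.FibreVan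

open Groth.Agent.Lib.helper21.ModOpenBC

variable {X Y : Scheme.{u}} (f : X ⟶ Y) (y : Y)

/-- base change to the local ring -/
noncomputable abbrev X₁ : Scheme.{u} := pullback f (Y.fromSpecStalk y)

noncomputable instance over₁ : (X₁ f y).Over (Spec (CommRingCat.of (Y.presheaf.stalk y))) :=
  ⟨pullback.snd f (Y.fromSpecStalk y)⟩

instance [IsProper f] : IsProper ((X₁ f y) ↘ Spec (CommRingCat.of (Y.presheaf.stalk y))) := by
  change IsProper (pullback.snd f (Y.fromSpecStalk y))
  infer_instance

lemma dim_closedFibre_le (d : ℕ) (hd : topologicalKrullDim ↥(f.fiber y) ≤ d) :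
    topologicalKrullDim ↥(((X₁ f y) ↘ Spec (CommRingCat.of (Y.presheaf.stalk y))) ⁻¹'
      {IsLocalRing.closedPoint (Y.presheaf.stalk y)}) ≤ d := by
  let g := pullback.fst f (Y.fromSpecStalk y)
  have hmem : ∀ x : ↥(((X₁ f y) ↘ Spec (CommRingCat.of (Y.presheaf.stalk y))) ⁻¹'
      {IsLocalRing.closedPoint (Y.presheaf.stalk y)}), g x.1 ∈ f ⁻¹' {y} := by
    rintro ⟨x, hx⟩
    have hx' : pullback.snd f (Y.fromSpecStalk y) x =
      IsLocalRing.closedPoint (Y.presheaf.stalk y) := hx
    change f (g x) = y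
    have h1 : f (g x) = (g ≫ f) x := rfl
    rw [h1, pullback.condition]
    change Y.fromSpecStalk y (pullback.snd f (Y.fromSpecStalk y) x) = y
    rw [hx']
    exact Scheme.fromSpecStalk_closedPoint
  let φ : ↥(((X₁ f y) ↘ Spec (CommRingCat.of (Y.presheaf.stalk y))) ⁻¹'
      {IsLocalRing.closedPoint (Y.presheaf.stalk y)}) → ↥(f ⁻¹' {y}) := fun x => ⟨g x.1, hmem x⟩
  have hφ : Topology.IsInducing φ := by
    refine Topology.IsInducing.of_comp ?_ continuous_subtype_val ?_
    · exact (g.continuous.comp continuous_subtype_val).subtype_mk _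
    · exact g.isEmbedding.toIsInducing.comp Topology.IsInducing.subtypeVal
  calc _ ≤ topologicalKrullDim ↥(f ⁻¹' {y}) := hφ.topologicalKrullDim_le
    _ = topologicalKrullDim ↥(f.fiber y) :=
      (IsHomeomorph.topologicalKrullDim_eq _ (f.fiberHomeo y).isHomeomorph).symm
    _ ≤ d := hd

theorem isZero_stalk [IsProper f] [IsLocallyNoetherian Y] (d : ℕ)
    (hd : topologicalKrullDim ↥(f.fiber y) ≤ d) (M : X.Modules) (hM : Coh.IsCoh M) (p : ℕ)
    (hp : d < p) :
    IsZero (TopCat.Presheaf.stalk ((Coh.RpushAb f p).obj (Coh.toAb M)).obj y) := by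
  have : M.IsQuasicoherent := hM.1
  have hG : ((Coh.Rpush f p).obj M).IsQuasicoherent := Groth.Agent.S0030.result f M p
  let g := pullback.fst f (Y.fromSpecStalk y)
  have hsq : IsPullback g ((X₁ f y) ↘ Spec (CommRingCat.of (Y.presheaf.stalk y))) f
      (Y.fromSpecStalk y) := IsPullback.of_hasPullback _ _
  obtain ⟨e, -⟩ := Groth.Agent.Lib.helper8.StalkBC.exists_stalk_equiv f M p hG y g hsq
  have hM₁ : Coh.IsCoh ((Scheme.Modules.pullback g).obj M) :=
    ⟨Groth.Agent.Lib.helper16.QCohPullback.isQuasicoherent_pullback g M,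
      Groth.Agent.Lib.helper16.QCohPullback2.isFiniteType_pullback g M hM.2⟩
  have hsub := subsingleton_HH (A := Y.presheaf.stalk y) (X := X₁ f y) _ hM₁ d
    (dim_closedFibre_le f y d hd) p hp
  have h1 : Subsingleton (((Coh.Rpush f p).obj M).presheaf.stalk y) := e.toEquiv.subsingleton
  obtain ⟨i⟩ := Groth.Agent.S11319.result f M p
  have i' := (TopCat.Presheaf.stalkFunctor AddCommGrpCat.{u} y).mapIso
    ((sheafToPresheaf _ _).mapIso i)
  refine IsZero.of_iso ?_ i'.symm
  have h2 : Subsingleton ↑((TopCat.Presheaf.stalkFunctor AddCommGrpCat.{u} y).obj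
      ((sheafToPresheaf (Opens.grothendieckTopology ↥Y) AddCommGrpCat.{u}).obj
        (Coh.toAb ((Coh.Rpush f p).obj M)))) := h1
  exact AddCommGrpCat.isZero_of_subsingleton _

end Groth.Agent.Lib.helper27.FibreVan
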