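import Mathlib
import Groth.Agent.Lib.Helper27.CechFam

set_option autoImplicit false
set_option linter.unusedVariables false
set_option linter.unusedSectionVars false

namespace Groth.Agent.Lib.helper27

open CategoryTheory Limits Opposite

universe u

namespace Cech

variable {D : Type u} [SmallCategory D] [HasFiniteProducts D] [Quiver.IsThin D] {ι : Type u}
  (U : ι → D) (Q : Dᵒᵖ ⥤ AddCommGrpCat.{u}) (i : ι) (m : ∀ j, U j ⟶ U i)

omit [HasFiniteProducts D] in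
lemma sec_ext {T : D} (s s' : Sec U T) (h : s.1 = s'.1) : s = s' := by
  obtain ⟨j, f⟩ := s
  obtain ⟨j', f'⟩ := s'
  obtain rfl : j = j' := h
  exact congrArg (Sigma.mk j) (Subsingleton.elim f f')

/-- the extra section -/
abbrev σ {T : D} {n : ℕ} (t : Fin (n + 1) → Sec U T) : Sec U T := ⟨i, (t 0).2 ≫ m (t 0).1⟩

/-- the contracting homotopy on families -/
def hFam (n : ℕ) (c : Fam U Q (n + 1)) : Fam U Q n :=
  fun T t => c T (Fin.cons (σ U i m t) t)

omit [HasFiniteProducts D] in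
lemma homotopy_Fam (n : ℕ) (c : Fam U Q (n + 1)) :
    dFam U Q n (hFam U Q i m n c) + hFam U Q i m (n + 1) (dFam U Q (n + 1) c) = c := by
  funext T t
  simp only [Pi.add_apply, dFam, hFam]
  rw [Fin.sum_univ_succ (n := n + 2)]
  simp only [cons_comp_succAbove_zero, cons_comp_succAbove_succ, Fin.val_zero, pow_zero, one_smul,
    Fin.val_succ, pow_succ, mul_neg, mul_one, neg_smul, Finset.sum_neg_distrib]
  have : ∀ k : Fin (n + 2), σ U i m (t ∘ Fin.succAbove k) = σ U i m t :=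
    fun k => sec_ext U _ _ rfl
  simp only [this]
  abel

/-- the contracting homotopy on cochains -/
noncomputable def hC (n : ℕ) : (∏ᶜ Z U Q (n + 1) : AddCommGrpCat.{u}) ⟶ ∏ᶜ Z U Q n :=
  Pi.lift (fun a => Pi.π (Z U Q (n + 1)) (idx U (Fin.cons (σ U i m (canon U a)) (canon U a))) ≫
    Q.map (tup U (Fin.cons (σ U i m (canon U a)) (canon U a))).op)

lemma π_hC (n : ℕ) (a : Fin (n + 1) → ι) (x : (∏ᶜ Z U Q (n + 1) : AddCommGrpCat.{u})) :
    Pi.π (Z U Q n) a (hC U Q i m n x) =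
      ΦQ U Q (n + 1) x (∏ᶜ (U ∘ a)) (Fin.cons (σ U i m (canon U a)) (canon U a)) := by
  have h : hC U Q i m n ≫ Pi.π (Z U Q n) a = _ := Pi.lift_π _ _
  exact ConcreteCategory.congr_hom h x

lemma ΦQ_hC (n : ℕ) (x : (∏ᶜ Z U Q (n + 1) : AddCommGrpCat.{u})) :
    ΦQ U Q n (hC U Q i m n x) = hFam U Q i m n (ΦQ U Q (n + 1) x) := by
  funext T t
  rw [ΦQ_apply, π_hC, ΦQ_isNat U Q (n + 1) x _ _ (tup U t)]
  simp only [hFam]
  have e : pull U (tup U t) (Fin.cons (σ U i m (canon U (idx U t))) (canon U (idx U t))) =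
      Fin.cons (σ U i m t) t := by
    funext k
    refine Fin.cases ?_ (fun k' => ?_) k
    · exact sec_ext U _ _ rfl
    · exact sec_ext U _ _ rfl
  rw [e]

lemma homotopy_C (n : ℕ) (x : (∏ᶜ Z U Q (n + 1) : AddCommGrpCat.{u})) :
    d' U Q n (hC U Q i m n x) + hC U Q i m (n + 1) (d' U Q (n + 1) x) = x := by
  apply ΦQ_injective
  rw [map_add, ΦQ_d', ΦQ_hC, ΦQ_hC, ΦQ_d']
  exact homotopy_Fam U Q i m n _

section zero

variable (W : D) (w : ∀ j, U j ⟶ W) (v : W ⟶ U i)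

/-- the augmentation -/
noncomputable def ε : Q.obj (op W) ⟶ (∏ᶜ Z U Q 0 : AddCommGrpCat.{u}) :=
  Pi.lift (fun a => Q.map (Pi.π (U ∘ a) 0 ≫ w (a 0)).op)

lemma ΦQ_ε (y : Q.obj (op W)) (T : D) (t : Fin 1 → Sec U T) :
    ΦQ U Q 0 (ε U Q W w y) T t = Q.map ((t 0).2 ≫ w (t 0).1).op y := by
  rw [ΦQ_apply]
  have h : ε U Q W w ≫ Pi.π (Z U Q 0) (idx U t) = _ := Pi.lift_π _ _
  have h2 := ConcreteCategory.congr_hom h y
  rw [ConcreteCategory.comp_apply] at h2
  rw [h2, ← ConcreteCategory.comp_apply, ← Q.map_comp, ← op_comp]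
  rw [Subsingleton.elim (tup U t ≫ Pi.π (U ∘ idx U t) 0 ≫ w (idx U t 0)) ((t 0).2 ≫ w (t 0).1)]

/-- the retraction -/
noncomputable def ρ : (∏ᶜ Z U Q 0 : AddCommGrpCat.{u}) ⟶ Q.obj (op W) :=
  Pi.π (Z U Q 0) (fun _ => i) ≫ Q.map (Pi.lift (fun _ => v) : W ⟶ ∏ᶜ (U ∘ fun _ : Fin 1 => i)).op

lemma ρ_apply (x : (∏ᶜ Z U Q 0 : AddCommGrpCat.{u})) :
    ρ U Q i W v x = ΦQ U Q 0 x W (fun _ => ⟨i, v⟩) := rfl

lemma ε_ρ : ε U Q W w ≫ ρ U Q i W v = 𝟙 _ := by
  ext y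
  rw [ConcreteCategory.comp_apply, ρ_apply, ΦQ_ε]
  rw [Subsingleton.elim (v ≫ w i) (𝟙 W), op_id, Q.map_id]

lemma d'_ε (y : Q.obj (op W)) : d' U Q 0 (ε U Q W w y) = 0 := by
  apply ΦQ_injective
  rw [ΦQ_d', map_zero]
  funext T t
  simp only [dFam]
  rw [Fin.sum_univ_two]
  rw [ΦQ_ε, ΦQ_ε]
  rw [Subsingleton.elim (((t ∘ Fin.succAbove (0 : Fin 2)) 0).2 ≫ w ((t ∘ Fin.succAbove (0 : Fin 2)) 0).1)
    (((t ∘ Fin.succAbove (1 : Fin 2)) 0).2 ≫ w ((t ∘ Fin.succAbove (1 : Fin 2)) 0).1)]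
  simp

lemma hC_d'_zero (x : (∏ᶜ Z U Q 0 : AddCommGrpCat.{u})) :
    hC U Q i m 0 (d' U Q 0 x) = x - ε U Q W w (ρ U Q i W v x) := by
  apply ΦQ_injective
  rw [ΦQ_hC, ΦQ_d', map_sub]
  funext T t
  simp only [hFam, dFam, Pi.sub_apply]
  rw [Fin.sum_univ_two, ΦQ_ε, ρ_apply, ΦQ_isNat U Q 0 x _ _ ((t 0).2 ≫ w (t 0).1)]
  have e0 : (Fin.cons (σ U i m t) t : Fin 2 → Sec U T) ∘ Fin.succAbove (0 : Fin 2) = t :=
    cons_comp_succAbove_zero _ _
  have e1 : (Fin.cons (σ U i m t) t : Fin 2 → Sec U T) ∘ Fin.succAbove (1 : Fin 2) =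
      pull U ((t 0).2 ≫ w (t 0).1) (fun _ => ⟨i, v⟩) := by
    funext k
    exact sec_ext U _ _ (by
      fin_cases k
      rfl)
  rw [e0, e1]
  simp [sub_eq_add_neg]

end zero

section equiv

variable (W : D) (w : ∀ j, U j ⟶ W) (v : W ⟶ U i)

/-- the Cech complex -/
noncomputable abbrev K : CochainComplex AddCommGrpCat.{u} ℕ := (cechComplexFunctor U).obj Q

lemma ε_d : (ε U Q W w : Q.obj (op W) ⟶ (K U Q).X 0) ≫ (K U Q).d 0 1 = 0 := by
  ext y
  exact d'_ε U Q W w y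

/-- the augmentation as a chain map -/
noncomputable def εC : (CochainComplex.single₀ AddCommGrpCat.{u}).obj (Q.obj (op W)) ⟶ K U Q :=
  (CochainComplex.fromSingle₀Equiv (K U Q) (Q.obj (op W))).symm ⟨ε U Q W w, ε_d U Q W w⟩

/-- the retraction as a chain map -/
noncomputable def ρC : K U Q ⟶ (CochainComplex.single₀ AddCommGrpCat.{u}).obj (Q.obj (op W)) :=
  (CochainComplex.toSingle₀Equiv (K U Q) (Q.obj (op W))).symm (ρ U Q i W v)

lemma εC_f_zero : (εC U Q W w).f 0 = ε U Q W w :=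
  CochainComplex.fromSingle₀Equiv_symm_apply_f_zero _ _

lemma ρC_f_zero : (ρC U Q i W v).f 0 = ρ U Q i W v :=
  CochainComplex.toSingle₀Equiv_symm_apply_f_zero _

lemma εC_ρC : εC U Q W w ≫ ρC U Q i W v = 𝟙 _ := by
  apply (CochainComplex.fromSingle₀Equiv _ _).injective
  ext : 1
  show (εC U Q W w ≫ ρC U Q i W v).f 0 = (𝟙 _ : _ ⟶ _)
  rw [HomologicalComplex.comp_f, εC_f_zero, ρC_f_zero]
  exact ε_ρ U Q i W w v

/-- the components of the homotopy -/
noncomputable def hHom (a b : ℕ) : (K U Q).X a ⟶ (K U Q).X b :=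
  if h : b + 1 = a then (by subst h; exact -hC U Q i m b) else 0

lemma hHom_succ (n : ℕ) : hHom U Q i m (n + 1) n = -hC U Q i m n := by
  simp [hHom]

/-- the homotopy -/
noncomputable def homotopy : Homotopy (ρC U Q i W v ≫ εC U Q W w) (𝟙 (K U Q)) where
  hom := hHom U Q i m
  zero a b hab := by
    have : ¬ b + 1 = a := hab
    simp [hHom, this]
  comm n := by
    cases n with
    | zero =>
      rw [dNext_eq _ (show (ComplexShape.up ℕ).Rel 0 1 from rfl), Homotopy.prevD_zero_cochainComplex,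
        add_zero, hHom_succ, HomologicalComplex.comp_f, εC_f_zero, ρC_f_zero]
      ext x
      let x' : (∏ᶜ Z U Q 0 : AddCommGrpCat.{u}) := x
      have h := hC_d'_zero U Q i m W w v x'
      show ε U Q W w (ρ U Q i W v x') = -(hC U Q i m 0 (d' U Q 0 x')) + x'
      rw [h]
      abel
    | succ n =>
      rw [dNext_eq _ (show (ComplexShape.up ℕ).Rel (n + 1) (n + 2) from rfl),
        prevD_eq _ (show (ComplexShape.up ℕ).Rel n (n + 1) from rfl), hHom_succ, hHom_succ]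
      have h0 : (ρC U Q i W v ≫ εC U Q W w).f (n + 1) = 0 := by
        rw [HomologicalComplex.comp_f]
        have : (ρC U Q i W v).f (n + 1) = 0 :=
          (HomologicalComplex.isZero_single_obj_X _ _ _ _ (by simp)).eq_of_tgt _ _
        rw [this, zero_comp]
      rw [h0]
      ext x
      let x' : (∏ᶜ Z U Q (n + 1) : AddCommGrpCat.{u}) := x
      have h := homotopy_C U Q i m n x'
      show (0 : (∏ᶜ Z U Q (n + 1) : AddCommGrpCat.{u})) =
        -(hC U Q i m (n + 1) (d' U Q (n + 1) x')) + (d' U Q n (-(hC U Q i m n x'))) + x'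
      rw [map_neg]
      nth_rewrite 3 [← h]
      abel

/-- the homotopy equivalence -/
noncomputable def homotopyEquiv :
    HomotopyEquiv ((CochainComplex.single₀ AddCommGrpCat.{u}).obj (Q.obj (op W))) (K U Q) where
  hom := εC U Q W w
  inv := ρC U Q i W v
  homotopyHomInvId := Homotopy.ofEq (εC_ρC U Q i W w v)
  homotopyInvHomId := homotopy U Q i m W w v

end equiv

end Cech

end Groth.Agent.Lib.helper27
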