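import Mathlib
import Groth.Prelude.Def_CohSite
import Groth.Agent.Lib.Helper27.RpushNat

set_option autoImplicit false
set_option backward.isDefEq.respectTransparency false
set_option linter.unusedVariables false
set_option linter.unusedSectionVars false

namespace Groth.Agent.Lib.helper27

open CategoryTheory Limits Abelian Opposite
open Groth.Agent.Lib.helper7

universe u

namespace RpushColim

section W

variable {D : Type u} [SmallCategory D] (K : GrothendieckTopology D)
  {P Q : Dᵒᵖ ⥤ AddCommGrpCat.{u}} (θ : P ⟶ Q)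
  (h : ∀ V : D, ∃ (κ : Type u) (Y : κ → D) (g : ∀ k, Y k ⟶ V), Sieve.ofArrows Y g ∈ K V ∧
    ∀ k, IsIso (θ.app (op (Y k))))

include h in
/-- a morphism of presheaves which is an isomorphism on the members of covering families of every
object becomes an isomorphism after sheafification -/
lemma W_of_iso_on_cover : K.W θ := by
  have hinj : Presheaf.IsLocallyInjective K θ := by
    refine ⟨fun {X} x y hxy => ?_⟩
    obtain ⟨κ, Z, g, hcov, hiso⟩ := h X.unop
    refine K.superset_covering ?_ hcov
    rw [Sieve.ofArrows, Sieve.generate_le_iff]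
    rintro W f ⟨k⟩
    have hb := ConcreteCategory.bijective_of_isIso (θ.app (op (Z k)))
    apply hb.1
    have h1 := NatTrans.naturality_apply θ (g k).op x
    have h2 := NatTrans.naturality_apply θ (g k).op y
    exact h1.trans ((congrArg _ hxy).trans h2.symm)
  have hsurj : Presheaf.IsLocallySurjective K θ := by
    refine ⟨fun {U} s => ?_⟩
    obtain ⟨κ, Z, g, hcov, hiso⟩ := h U
    refine K.superset_covering ?_ hcov
    rw [Sieve.ofArrows, Sieve.generate_le_iff]
    rintro W f ⟨k⟩
    have hb := ConcreteCategory.bijective_of_isIso (θ.app (op (Z k)))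
    obtain ⟨t, ht⟩ := hb.2 (Q.map (g k).op s)
    exact ⟨t, ht⟩
  exact K.W_of_isLocallyBijective θ

end W

section main

variable {C D : Type u} [SmallCategory C] [SmallCategory D]
  (J : GrothendieckTopology C) (K : GrothendieckTopology D) (u : D ⥤ C) [u.IsContinuous K J]
  {ι : Type u} [SmallCategory ι] (F : ι ⥤ Sheaf J AddCommGrpCat.{u}) (p : ℕ)

/-- `F ↦ (V ↦ H^p(u V, F))` -/
noncomputable abbrev Hp : Sheaf J AddCommGrpCat.{u} ⥤ (Dᵒᵖ ⥤ AddCommGrpCat.{u}) :=
  ExtPsh.Tp.{u} (FreeYoneda.freeSheaf J) p ⋙
    (Functor.whiskeringLeft Dᵒᵖ Cᵒᵖ AddCommGrpCat.{u}).obj u.op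

/-- the comparison from the presheaf colimit -/
noncomputable abbrev θ : colimit (F ⋙ Hp J u p) ⟶ (Hp J u p).obj (colimit F) :=
  colimit.desc (F ⋙ Hp J u p) ((Hp J u p).mapCocone (colimit.cocone F))

lemma isIso_θ_app (Y : D)
    (hY : PreservesColimit F ((Sheaf.cohomologyPresheafFunctor J p).flip.obj (op (u.obj Y)))) :
    IsIso ((θ J u F p).app (op Y)) := by
  let ev := (evaluation Dᵒᵖ AddCommGrpCat.{u}).obj (op Y)
  have h1 : IsColimit (ev.mapCocone (colimit.cocone (F ⋙ Hp J u p))) :=
    isColimitOfPreserves ev (colimit.isColimit _)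
  have h2 : IsColimit (((Sheaf.cohomologyPresheafFunctor J p).flip.obj (op (u.obj Y))).mapCocone
      (colimit.cocone F)) :=
    isColimitOfPreserves _ (colimit.isColimit F)
  let f : ev.mapCocone (colimit.cocone (F ⋙ Hp J u p)) ⟶
      ((Sheaf.cohomologyPresheafFunctor J p).flip.obj (op (u.obj Y))).mapCocone
        (colimit.cocone F) :=
    { hom := (θ J u F p).app (op Y)
      w := fun j => by
        have := congrArg (fun φ => φ.app (op Y))
          (colimit.ι_desc ((Hp J u p).mapCocone (colimit.cocone F)) j)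
        exact this }
  have hf : IsIso f := IsColimit.hom_isIso h1 h2 f
  exact (Cocone.forget _).map_isIso f

variable (h : ∀ V : D, ∃ (κ : Type u) (Y : κ → D) (g : ∀ k, Y k ⟶ V), Sieve.ofArrows Y g ∈ K V ∧
  ∀ k, PreservesColimit F ((Sheaf.cohomologyPresheafFunctor J p).flip.obj (op (u.obj (Y k)))))

include h in
lemma preservesColimit_sh :
    PreservesColimit F (Hp J u p ⋙ presheafToSheaf K AddCommGrpCat.{u}) := by
  apply preservesColimit_of_preserves_colimit_cocone (colimit.isColimit F)
  let a := presheafToSheaf K AddCommGrpCat.{u}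
  have h1 : IsColimit (a.mapCocone (colimit.cocone (F ⋙ Hp J u p))) :=
    isColimitOfPreserves a (colimit.isColimit _)
  have hW : K.W (θ J u F p) :=
    W_of_iso_on_cover K (θ J u F p) (fun V => by
      obtain ⟨κ, Y, g, hcov, hY⟩ := h V
      exact ⟨κ, Y, g, hcov, fun k => isIso_θ_app J u F p (Y k) (hY k)⟩)
  have hiso : IsIso (a.map (θ J u F p)) := (K.W_iff _).1 hW
  let t : Cocone ((F ⋙ Hp J u p) ⋙ a) := a.mapCocone ((Hp J u p).mapCocone (colimit.cocone F))
  have hdesc : h1.desc t = a.map (θ J u F p) := by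
    symm
    apply h1.uniq t
    intro j
    show a.map ((colimit.cocone (F ⋙ Hp J u p)).ι.app j) ≫ a.map (θ J u F p) = _
    rw [← a.map_comp]
    congr 1
    exact colimit.ι_desc ((Hp J u p).mapCocone (colimit.cocone F)) j
  have : IsIso (h1.desc t) := by rw [hdesc]; exact hiso
  exact IsColimit.ofPointIso h1 (t := t)

include h in
/-- S0882 -/
theorem preservesColimit_Rpush : PreservesColimit F (CohSite.Rpush J K u p) := by
  obtain ⟨e⟩ := RpushNat.rpush_natIso J K u p
  have hps : PreservesColimit F
      (ExtPsh.Tp.{u} (FreeYoneda.freeSheaf J) p ⋙ RpushSheafify.E K u) :=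
    preservesColimit_sh J K u F p h
  exact preservesColimit_of_natIso F e.symm

end main

end RpushColim

end Groth.Agent.Lib.helper27
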