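import Mathlib

set_option autoImplicit false
set_option linter.unusedVariables false
set_option linter.unusedSectionVars false

namespace Groth.Agent.Lib.helper27

open TopologicalSpace Topology Set

namespace HausSep

variable {X : Type*} [TopologicalSpace X]

/-- the points of `A` are pairwise separated by open subsets of `X` -/
def Sep (A : Set X) : Prop :=
  ∀ x ∈ A, ∀ y ∈ A, x ≠ y → ∃ U V : Set X, IsOpen U ∧ IsOpen V ∧ x ∈ U ∧ y ∈ V ∧ Disjoint U V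

lemma Sep.mono {A B : Set X} (h : Sep A) (hBA : B ⊆ A) : Sep B :=
  fun x hx y hy hxy => h x (hBA hx) y (hBA hy) hxy

variable {A : Set X} (hsep : Sep A)

include hsep

/-- separate a point from a compact set -/
lemma point_compact {x : X} (hx : x ∈ A) {C : Set X} (hC : IsCompact C) (hCA : C ⊆ A)
    (hxC : x ∉ C) : ∃ U V : Set X, IsOpen U ∧ IsOpen V ∧ x ∈ U ∧ C ⊆ V ∧ Disjoint U V := by
  refine hC.induction_on (p := fun S => ∃ U V : Set X, IsOpen U ∧ IsOpen V ∧ x ∈ U ∧ S ⊆ V ∧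
    Disjoint U V) ?_ ?_ ?_ ?_
  · exact ⟨univ, ∅, isOpen_univ, isOpen_empty, mem_univ x, Subset.rfl, disjoint_empty _⟩
  · rintro S T hST ⟨U, V, hU, hV, hxU, hTV, hd⟩
    exact ⟨U, V, hU, hV, hxU, hST.trans hTV, hd⟩
  · rintro S T ⟨U₁, V₁, hU₁, hV₁, hxU₁, hSV₁, hd₁⟩ ⟨U₂, V₂, hU₂, hV₂, hxU₂, hTV₂, hd₂⟩
    refine ⟨U₁ ∩ U₂, V₁ ∪ V₂, hU₁.inter hU₂, hV₁.union hV₂, ⟨hxU₁, hxU₂⟩,
      union_subset_union hSV₁ hTV₂, ?_⟩
    rw [disjoint_union_right]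
    exact ⟨hd₁.mono_left inter_subset_left, hd₂.mono_left inter_subset_right⟩
  · intro y hy
    have hxy : x ≠ y := fun h => hxC (h ▸ hy)
    obtain ⟨U, V, hU, hV, hxU, hyV, hd⟩ := hsep x hx y (hCA hy) hxy
    exact ⟨C ∩ V, inter_mem_nhdsWithin C (hV.mem_nhds hyV),
      U, V, hU, hV, hxU, inter_subset_right, hd⟩

/-- separate two disjoint compact sets -/
lemma compact_compact {C₁ C₂ : Set X} (h₁ : IsCompact C₁) (h₂ : IsCompact C₂) (h₁A : C₁ ⊆ A)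
    (h₂A : C₂ ⊆ A) (hd : Disjoint C₁ C₂) :
    ∃ U V : Set X, IsOpen U ∧ IsOpen V ∧ C₁ ⊆ U ∧ C₂ ⊆ V ∧ Disjoint U V := by
  refine h₁.induction_on (p := fun S => ∃ U V : Set X, IsOpen U ∧ IsOpen V ∧ S ⊆ U ∧ C₂ ⊆ V ∧
    Disjoint U V) ?_ ?_ ?_ ?_
  · exact ⟨∅, univ, isOpen_empty, isOpen_univ, Subset.rfl, subset_univ _, empty_disjoint _⟩
  · rintro S T hST ⟨U, V, hU, hV, hTU, hCV, hd⟩
    exact ⟨U, V, hU, hV, hST.trans hTU, hCV, hd⟩
  · rintro S T ⟨U₁, V₁, hU₁, hV₁, hSU₁, hCV₁, hd₁⟩ ⟨U₂, V₂, hU₂, hV₂, hTU₂, hCV₂, hd₂⟩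
    refine ⟨U₁ ∪ U₂, V₁ ∩ V₂, hU₁.union hU₂, hV₁.inter hV₂, union_subset_union hSU₁ hTU₂,
      subset_inter hCV₁ hCV₂, ?_⟩
    rw [disjoint_union_left]
    exact ⟨hd₁.mono_right inter_subset_left, hd₂.mono_right inter_subset_right⟩
  · intro x hx
    have hxC : x ∉ C₂ := fun h => (disjoint_left.1 hd) hx h
    obtain ⟨U, V, hU, hV, hxU, hCV, hd'⟩ := point_compact hsep (h₁A hx) h₂ h₂A hxC
    exact ⟨C₁ ∩ U, inter_mem_nhdsWithin C₁ (hU.mem_nhds hxU), U, V, hU, hV, inter_subset_right,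
      hCV, hd'⟩

/-- a compact neighbourhood inside an open set -/
lemma exists_compact_nhd (hA : IsCompact A) {x : X} (hx : x ∈ A) {O : Set X} (hO : IsOpen O)
    (hxO : x ∈ O) : ∃ C : Set X, IsCompact C ∧ C ⊆ A ∧ C ⊆ O ∧ C ∈ 𝓝[A] x := by
  have hc : IsCompact (A ∩ Oᶜ) := hA.inter_right hO.isClosed_compl
  obtain ⟨U, V, hU, hV, hxU, hCV, hd⟩ := point_compact hsep hx hc inter_subset_left
    (fun h => h.2 hxO)
  refine ⟨A ∩ Vᶜ, hA.inter_right hV.isClosed_compl, inter_subset_left, ?_, ?_⟩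
  · rintro a ⟨haA, haV⟩
    by_contra haO
    exact haV (hCV ⟨haA, haO⟩)
  · refine Filter.mem_of_superset (inter_mem_nhdsWithin A (hU.mem_nhds hxU)) ?_
    rintro a ⟨haA, haU⟩
    exact ⟨haA, fun haV => (disjoint_left.1 hd) haU haV⟩

end HausSep

end Groth.Agent.Lib.helper27
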