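import Mathlib
import Groth.Prelude.Def_CohTop
import Groth.Agent.Lib.Helper27.HausSep
import Groth.Agent.Lib.Helper27.SpecLimA

set_option autoImplicit false
set_option backward.isDefEq.respectTransparency false
set_option linter.unusedVariables false
set_option linter.unusedSectionVars false

namespace Groth.Agent.Lib.helper27

open CategoryTheory Limits Opposite TopologicalSpace Topology

universe u

namespace HausGlue

open SpecLim HausSep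

variable {X : TopCat.{u}} (F : CohTop.Ab X) (A : Set X) (hA : IsCompact A) (hsep : Sep A)
  (P : ∀ O : Opens X, F.obj.obj (op O) → Prop)
  (hbot : ∀ σ : F.obj.obj (op (⊥ : Opens X)), P ⊥ σ)
  (hloc : ∀ a ∈ A, ∃ (O : Opens X) (σ : F.obj.obj (op O)), a ∈ O ∧ P O σ)
  (hres : ∀ (O O' : Opens X) (h : O' ≤ O) (σ : F.obj.obj (op O)), P O σ → P O' (res F h σ))
  (heq' : ∀ (O₁ O₂ : Opens X) (σ₁ : F.obj.obj (op O₁)) (σ₂ : F.obj.obj (op O₂)), P O₁ σ₁ → P O₂ σ₂ →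
    ∀ C₁ C₂ : Set X, IsCompact C₁ → IsCompact C₂ → C₁ ⊆ A → C₂ ⊆ A → C₁ ⊆ (O₁ : Set X) →
      C₂ ⊆ (O₂ : Set X) → ∃ (N : Opens X) (h₁ : N ≤ O₁) (h₂ : N ≤ O₂) (σ₂' : F.obj.obj (op O₂)),
        C₁ ∩ C₂ ⊆ (N : Set X) ∧ P O₂ σ₂' ∧ res F h₁ σ₁ = res F h₂ σ₂')
  (heq : ∀ (O₁ O₂ : Opens X) (σ₁ : F.obj.obj (op O₁)) (σ₂ : F.obj.obj (op O₂)), P O₁ σ₁ → P O₂ σ₂ →
    ∀ a ∈ A, a ∈ O₁ → a ∈ O₂ → ∃ (N : Opens X) (h₁ : N ≤ O₁) (h₂ : N ≤ O₂), a ∈ N ∧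
      res F h₁ σ₁ = res F h₂ σ₂)
  (hglue : ∀ (O₁ O₂ : Opens X) (σ : F.obj.obj (op (O₁ ⊔ O₂))),
    P O₁ (res F le_sup_left σ) → P O₂ (res F le_sup_right σ) → P (O₁ ⊔ O₂) σ)

include hA hsep hbot hloc hres heq' hglue in
/-- gluing local sections with a local property near a compact set with separated points
(version allowing a correction of the second section) -/
theorem exists_global' : ∃ (O : Opens X) (σ : F.obj.obj (op O)), A ⊆ (O : Set X) ∧ P O σ := by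
  let p : Set X → Prop := fun S => ∃ C : Set X, IsCompact C ∧ S ⊆ C ∧ C ⊆ A ∧
    ∃ (O : Opens X) (σ : F.obj.obj (op O)), C ⊆ (O : Set X) ∧ P O σ
  have hp : p A := by
    refine hA.induction_on ?_ ?_ ?_ ?_
    · exact ⟨∅, isCompact_empty, Set.Subset.rfl, Set.empty_subset _, ⊥, 0, Set.empty_subset _,
        hbot 0⟩
    · rintro S T hST ⟨C, hC, hTC, rest⟩
      exact ⟨C, hC, hST.trans hTC, rest⟩
    · rintro S T ⟨C₁, hC₁, hSC₁, hC₁A, O₁, σ₁, hCO₁, hP₁⟩ ⟨C₂, hC₂, hTC₂, hC₂A, O₂, σ₂, hCO₂, hP₂⟩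
      -- Step 1: agreement near C₁ ∩ C₂
      obtain ⟨M, hM₁, hM₂, σ₂', hCM, hP₂', hMeq⟩ := heq' O₁ O₂ σ₁ σ₂ hP₁ hP₂ C₁ C₂ hC₁ hC₂ hC₁A hC₂A
        hCO₁ hCO₂
      -- Step 2: separate
      have hD₁ : IsCompact (C₁ ∩ (M : Set X)ᶜ) := hC₁.inter_right M.2.isClosed_compl
      have hD₂ : IsCompact (C₂ ∩ (M : Set X)ᶜ) := hC₂.inter_right M.2.isClosed_compl
      have hdisj : Disjoint (C₁ ∩ (M : Set X)ᶜ) (C₂ ∩ (M : Set X)ᶜ) := by
        rw [Set.disjoint_left]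
        rintro a ⟨ha₁, haM⟩ ⟨ha₂, -⟩
        exact haM (hCM ⟨ha₁, ha₂⟩)
      obtain ⟨P₁, P₂, hP₁o, hP₂o, hDP₁, hDP₂, hPd⟩ := compact_compact hsep hD₁ hD₂
        (Set.inter_subset_left.trans hC₁A) (Set.inter_subset_left.trans hC₂A) hdisj
      let O₁' : Opens X := O₁ ⊓ (⟨P₁, hP₁o⟩ ⊔ M)
      let O₂' : Opens X := O₂ ⊓ (⟨P₂, hP₂o⟩ ⊔ M)
      have hI : O₁' ⊓ O₂' ≤ M := by
        rintro x ⟨⟨-, hx₁⟩, ⟨-, hx₂⟩⟩
        rcases hx₁ with hx₁ | hx₁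
        · rcases hx₂ with hx₂ | hx₂
          · exact absurd hx₂ ((Set.disjoint_left.1 hPd) hx₁)
          · exact hx₂
        · exact hx₁
      have hC₁O : C₁ ⊆ (O₁' : Set X) := by
        intro c hc
        refine ⟨hCO₁ hc, ?_⟩
        by_cases hcM : c ∈ (M : Set X)
        · exact Or.inr hcM
        · exact Or.inl (hDP₁ ⟨hc, hcM⟩)
      have hC₂O : C₂ ⊆ (O₂' : Set X) := by
        intro c hc
        refine ⟨hCO₂ hc, ?_⟩
        by_cases hcM : c ∈ (M : Set X)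
        · exact Or.inr hcM
        · exact Or.inl (hDP₂ ⟨hc, hcM⟩)
      -- Step 3: glue
      have h1 : O₁' ≤ O₁ := inf_le_left
      have h2 : O₂' ≤ O₂ := inf_le_left
      have hcompat : res F (inf_le_left : O₁' ⊓ O₂' ≤ O₁') (res F h1 σ₁) =
          res F (inf_le_right : O₁' ⊓ O₂' ≤ O₂') (res F h2 σ₂') := by
        rw [res_res, res_res]
        have e := congrArg (res F hI) hMeq
        rw [res_res, res_res] at e
        exact e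
      obtain ⟨σ, hσ₁, hσ₂⟩ := glue₂ F (res F h1 σ₁) (res F h2 σ₂') hcompat
        (le_sup_left : O₁' ≤ O₁' ⊔ O₂') (le_sup_right : O₂' ≤ O₁' ⊔ O₂') (le_refl _)
      refine ⟨C₁ ∪ C₂, hC₁.union hC₂, Set.union_subset_union hSC₁ hTC₂,
        Set.union_subset hC₁A hC₂A, O₁' ⊔ O₂', σ, ?_, ?_⟩
      · rintro c (hc | hc)
        · exact Or.inl (hC₁O hc)
        · exact Or.inr (hC₂O hc)
      · apply hglue
        · rw [hσ₁]
          exact hres O₁ O₁' h1 σ₁ hP₁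
        · rw [hσ₂]
          exact hres O₂ O₂' h2 σ₂' hP₂'
    · intro x hx
      obtain ⟨O, σ, hxO, hPσ⟩ := hloc x hx
      obtain ⟨C, hC, hCA, hCO, hCn⟩ := exists_compact_nhd hsep hA hx O.2 hxO
      exact ⟨C, hCn, C, hC, Set.Subset.rfl, hCA, O, σ, hCO, hPσ⟩
  obtain ⟨C, -, hAC, -, O, σ, hCO, hPσ⟩ := hp
  exact ⟨O, σ, hAC.trans hCO, hPσ⟩

include hA hsep hbot hloc hres heq hglue in
/-- gluing local sections with a local property near a compact set with separated points -/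
theorem exists_global : ∃ (O : Opens X) (σ : F.obj.obj (op O)), A ⊆ (O : Set X) ∧ P O σ := by
  refine exists_global' F A hA hsep P hbot hloc hres ?_ hglue
  intro O₁ O₂ σ₁ σ₂ hP₁ hP₂ C₁ C₂ hC₁ hC₂ hC₁A hC₂A hCO₁ hCO₂
  have hN : ∀ a : {a : X // a ∈ C₁ ∩ C₂}, ∃ (N : Opens X) (h₁ : N ≤ O₁) (h₂ : N ≤ O₂),
      (a : X) ∈ N ∧ res F h₁ σ₁ = res F h₂ σ₂ := fun a =>
    heq O₁ O₂ σ₁ σ₂ hP₁ hP₂ a.1 (hC₁A a.2.1) (hCO₁ a.2.1) (hCO₂ a.2.2)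
  choose N hN₁ hN₂ haN hNeq using hN
  let M : Opens X := ⨆ a, N a
  have hM₁ : M ≤ O₁ := iSup_le hN₁
  have hM₂ : M ≤ O₂ := iSup_le hN₂
  have hMeq : res F hM₁ σ₁ = res F hM₂ σ₂ := by
    refine TopCat.Sheaf.eq_of_locally_eq' (C := AddCommGrpCat.{u}) F N M
      (fun a => homOfLE (le_iSup N a)) (le_refl _) _ _ (fun a => ?_)
    show res F _ (res F hM₁ σ₁) = res F _ (res F hM₂ σ₂)
    rw [res_res, res_res]
    exact hNeq a
  have hCM : C₁ ∩ C₂ ⊆ (M : Set X) := fun a ha => Opens.mem_iSup.2 ⟨⟨a, ha⟩, haN ⟨a, ha⟩⟩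
  exact ⟨M, hM₁, hM₂, σ₂, hCM, hP₂, hMeq⟩

end HausGlue

end Groth.Agent.Lib.helper27
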