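import Mathlib
import Groth.Prelude.Def_CohTop
import Groth.Agent.Lib.Helper27.HausGlue

set_option autoImplicit false
set_option backward.isDefEq.respectTransparency false
set_option linter.unusedVariables false
set_option linter.unusedSectionVars false

namespace Groth.Agent.Lib.helper27

open CategoryTheory Limits Opposite TopologicalSpace Topology

universe u

namespace HausP0

open SpecLim HausSep

variable {X : TopCat.{u}} (F : CohTop.Ab X) (K : Set X) (A : Set X) (hAK : A ⊆ K)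
  (hA : IsCompact A) (hsep : Sep A)

include hAK hA hsep in
/-- sections of `F|_K` defined near `A` come from sections of `F` defined near `A` -/
theorem exists_rep (U' : Opens (TopCat.of K)) (hAU : ∀ k : K, (k : X) ∈ A → k ∈ U')
    (t : (G (incl K) F).obj.obj (op U')) :
    ∃ (O : Opens X) (hO : pre K O ≤ U') (σ : F.obj.obj (op O)), A ⊆ (O : Set X) ∧
      ρ (incl K) F O σ = res (G (incl K) F) hO t := by
  let P : ∀ O : Opens X, F.obj.obj (op O) → Prop := fun O σ =>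
    ∃ hO : pre K O ≤ U', ρ (incl K) F O σ = res (G (incl K) F) hO t
  suffices key : ∃ (O : Opens X) (σ : F.obj.obj (op O)), A ⊆ (O : Set X) ∧ P O σ by
    obtain ⟨O, σ, hAO, hO, hσ⟩ := key
    exact ⟨O, hO, σ, hAO, hσ⟩
  refine HausGlue.exists_global F A hA hsep P ?_ ?_ ?_ ?_ ?_
  · -- bot
    intro σ
    refine ⟨fun k hk => hk.elim, ?_⟩
    exact eq_of_empty (G (incl K) F) rfl _ _
  · -- local
    intro a ha
    obtain ⟨V, hV, haV, s, hs⟩ := exists_local_rep_nhd K F U' t ⟨a, hAK ha⟩ (hAU ⟨a, hAK ha⟩ ha)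
    exact ⟨V, s, haV, hV, hs⟩
  · -- restriction
    rintro O O' h σ ⟨hO, hσ⟩
    refine ⟨(pre_mono K h).trans hO, ?_⟩
    rw [ρ_res, hσ, res_res]
  · -- equality near points
    rintro O₁ O₂ σ₁ σ₂ ⟨hO₁, hσ₁⟩ ⟨hO₂, hσ₂⟩ a ha ha₁ ha₂
    let d : F.obj.obj (op (O₁ ⊓ O₂)) := res F inf_le_left σ₁ - res F inf_le_right σ₂
    have hd : ρ (incl K) F (O₁ ⊓ O₂) d = 0 := by
      show ρ (incl K) F (O₁ ⊓ O₂) (res F inf_le_left σ₁ - res F inf_le_right σ₂) = 0
      rw [ρ_sub, ρ_res, ρ_res, hσ₁, hσ₂, res_res, res_res, sub_self]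
    obtain ⟨N, hN, haN, hdN⟩ := PullGerm.exists_res_eq_zero (incl K) F (O₁ ⊓ O₂) d ⟨a, hAK ha⟩
      ⟨ha₁, ha₂⟩ (by
        have : PullGerm.ρ (incl K) F (O₁ ⊓ O₂) d = 0 := hd
        rw [this, map_zero])
    refine ⟨N, hN.trans inf_le_left, hN.trans inf_le_right, haN, ?_⟩
    have e : res F hN d = res F (hN.trans inf_le_left) σ₁ - res F (hN.trans inf_le_right) σ₂ := by
      show res F hN (res F inf_le_left σ₁ - res F inf_le_right σ₂) = _
      rw [res_sub, res_res, res_res]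
    have hdN' : res F hN d = 0 := hdN
    rw [e] at hdN'
    exact sub_eq_zero.1 hdN'
  · -- gluing
    rintro O₁ O₂ σ ⟨hO₁, hσ₁⟩ ⟨hO₂, hσ₂⟩
    have hO : pre K (O₁ ⊔ O₂) ≤ U' := by
      rintro k (hk | hk)
      · exact hO₁ hk
      · exact hO₂ hk
    refine ⟨hO, ?_⟩
    refine eq_of_res₂ (G (incl K) F) (pre_mono K (le_sup_left : O₁ ≤ O₁ ⊔ O₂))
      (pre_mono K (le_sup_right : O₂ ≤ O₁ ⊔ O₂)) ?_ _ _ ?_ ?_
    · rintro k (hk | hk)
      · exact Or.inl hk
      · exact Or.inr hk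
    · rw [← ρ_res (incl K) F (le_sup_left : O₁ ≤ O₁ ⊔ O₂), hσ₁, res_res]
    · rw [← ρ_res (incl K) F (le_sup_right : O₂ ≤ O₁ ⊔ O₂), hσ₂, res_res]

include hAK in
/-- a section of `F` near `A` whose image in `F|_K` vanishes near `A` vanishes near `A` -/
theorem exists_res_eq_zero (O : Opens X) (hAO : A ⊆ (O : Set X)) (σ : F.obj.obj (op O))
    (U' : Opens (TopCat.of K)) (hU' : U' ≤ pre K O) (hAU : ∀ k : K, (k : X) ∈ A → k ∈ U')
    (h : res (G (incl K) F) hU' (ρ (incl K) F O σ) = 0) :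
    ∃ (O' : Opens X) (hO' : O' ≤ O), A ⊆ (O' : Set X) ∧ res F hO' σ = 0 := by
  have hloc : ∀ a : {a : X // a ∈ A}, ∃ (N : Opens X) (hN : N ≤ O), (a : X) ∈ N ∧
      F.obj.map (homOfLE hN).op σ = 0 := by
    intro a
    refine PullGerm.exists_res_eq_zero (incl K) F O σ ⟨a.1, hAK a.2⟩ (hAO a.2) ?_
    have hk : (⟨a.1, hAK a.2⟩ : K) ∈ U' := hAU ⟨a.1, hAK a.2⟩ a.2
    have e := TopCat.Presheaf.germ_res_apply (G (incl K) F).obj (homOfLE hU')
      (⟨a.1, hAK a.2⟩ : K) hk (ρ (incl K) F O σ)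
    have h' : (G (incl K) F).obj.map (homOfLE hU').op (ρ (incl K) F O σ) = 0 := h
    rw [h', map_zero] at e
    exact e.symm
  choose N hN haN hσN using hloc
  refine ⟨⨆ a, N a, iSup_le hN, fun a ha => Opens.mem_iSup.2 ⟨⟨a, ha⟩, haN ⟨a, ha⟩⟩, ?_⟩
  refine TopCat.Sheaf.eq_of_locally_eq' (C := AddCommGrpCat.{u}) F N (⨆ a, N a)
    (fun a => homOfLE (le_iSup N a)) (le_refl _) _ _ (fun a => ?_)
  show res F _ (res F _ σ) = res F _ 0
  rw [res_res, res_zero]
  exact hσN a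

end HausP0

end Groth.Agent.Lib.helper27
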