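import Mathlib
import Groth.Prelude.Def_CohTop
import Groth.Agent.Lib.Helper27.HausGlue
import Groth.Agent.Lib.Helper27.SpecLimB

set_option autoImplicit false
set_option backward.isDefEq.respectTransparency false
set_option linter.unusedVariables false
set_option linter.unusedSectionVars false

namespace Groth.Agent.Lib.helper27

open CategoryTheory Limits Opposite TopologicalSpace Topology

universe u

namespace Soft

open SpecLim HausSep

variable {Z : TopCat.{u}}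

/-- soft sheaves, in a formulation using only sections over open sets: every section defined
near a closed set agrees near that closed set with a global section -/
def IsSoft (G : CohTop.Ab Z) : Prop :=
  ∀ (A : Set Z), IsClosed A → ∀ (U : Opens Z), A ⊆ (U : Set Z) → ∀ s : G.obj.obj (op U),
    ∃ (U' : Opens Z) (hU' : U' ≤ U), A ⊆ (U' : Set Z) ∧
      ∃ t : G.obj.obj (op (⊤ : Opens Z)), res G le_top t = res G hU' s

lemma isSoft_of_isFlasque (G : CohTop.Ab Z) [hfl : TopCat.Sheaf.IsFlasque G] : IsSoft G := by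
  intro A _ U hAU s
  have := hfl.epi (homOfLE (le_top : U ≤ ⊤)).op
  rw [AddCommGrpCat.epi_iff_surjective] at this
  obtain ⟨t, ht⟩ := this s
  exact ⟨U, le_refl U, hAU, t, by rw [res_self]; exact ht⟩

lemma isSoft_of_injective (I : CohTop.Ab Z) [Injective I] : IsSoft I := by
  have hfl : TopCat.Sheaf.IsFlasque I := Groth.Agent.S0454.result I
  exact isSoft_of_isFlasque I

variable [CompactSpace Z] [T2Space Z]

omit [CompactSpace Z] in
lemma sep_univ : Sep (Set.univ : Set Z) := by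
  intro x _ y _ hxy
  obtain ⟨U, V, hU, hV, hxU, hyV, hd⟩ := t2_separation hxy
  exact ⟨U, V, hU, hV, hxU, hyV, hd⟩

/-- local lifting of sections of the quotient near a closed set, when the kernel is soft -/
theorem exists_lift (S : ShortComplex (CohTop.Ab Z)) (hS : S.ShortExact) (h₁ : IsSoft S.X₁)
    (A : Set Z) (hA : IsClosed A) (U : Opens Z) (hAU : A ⊆ (U : Set Z))
    (s'' : S.X₃.obj.obj (op U)) :
    ∃ (U' : Opens Z) (hU' : U' ≤ U) (s : S.X₂.obj.obj (op U')), A ⊆ (U' : Set Z) ∧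
      S.g.hom.app (op U') s = res S.X₃ hU' s'' := by
  have hepi : Epi S.g := hS.epi_g
  have hls := (TopCat.Sheaf.isLocallySurjective_iff_epi (C := AddCommGrpCat.{u}) (X := Z) S.g).mpr
    hepi
  rw [TopCat.Presheaf.isLocallySurjective_iff] at hls
  let P : ∀ O : Opens Z, S.X₂.obj.obj (op O) → Prop := fun O s =>
    ∃ hO : O ≤ U, S.g.hom.app (op O) s = res S.X₃ hO s''
  suffices key : ∃ (O : Opens Z) (s : S.X₂.obj.obj (op O)), A ⊆ (O : Set Z) ∧ P O s by
    obtain ⟨O, s, hAO, hO, hs⟩ := key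
    exact ⟨O, hO, s, hAO, hs⟩
  refine HausGlue.exists_global' S.X₂ A hA.isCompact (sep_univ.mono (Set.subset_univ A)) P
    ?_ ?_ ?_ ?_ ?_
  · -- bot
    intro s
    exact ⟨bot_le, eq_of_empty S.X₃ rfl _ _⟩
  · -- local
    intro a ha
    obtain ⟨O, hOU, ⟨t, ht⟩, haO⟩ := hls U s'' a (hAU ha)
    exact ⟨O, t, haO, hOU, ht⟩
  · -- restriction
    rintro O O' h s ⟨hO, hs⟩
    refine ⟨h.trans hO, ?_⟩
    rw [hom_res, hs, res_res]
  · -- agreement after correction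
    rintro O₁ O₂ s₁ s₂ ⟨hO₁, e₁⟩ ⟨hO₂, e₂⟩ C₁ C₂ hC₁ hC₂ - - hCO₁ hCO₂
    let d : S.X₂.obj.obj (op (O₁ ⊓ O₂)) :=
      res S.X₂ (inf_le_left : O₁ ⊓ O₂ ≤ O₁) s₁ - res S.X₂ (inf_le_right : O₁ ⊓ O₂ ≤ O₂) s₂
    have hd : S.g.hom.app (op (O₁ ⊓ O₂)) d = 0 := by
      show S.g.hom.app (op (O₁ ⊓ O₂)) (res S.X₂ _ s₁ - res S.X₂ _ s₂) = 0
      rw [map_sub, hom_res, hom_res, e₁, e₂, res_res, res_res, sub_self]
    obtain ⟨e, he⟩ := exists_of_g_eq_zero S hS _ d hd
    have hCcl : IsClosed (C₁ ∩ C₂) := hC₁.isClosed.inter hC₂.isClosed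
    have hCsub : C₁ ∩ C₂ ⊆ ((O₁ ⊓ O₂ : Opens Z) : Set Z) := fun c hc => ⟨hCO₁ hc.1, hCO₂ hc.2⟩
    obtain ⟨N, hN, hCN, r, hr⟩ := h₁ (C₁ ∩ C₂) hCcl (O₁ ⊓ O₂) hCsub e
    let s₂' : S.X₂.obj.obj (op O₂) := s₂ + S.f.hom.app (op O₂) (res S.X₁ le_top r)
    have e₂' : S.g.hom.app (op O₂) s₂' = res S.X₃ hO₂ s'' := by
      show S.g.hom.app (op O₂) (s₂ + S.f.hom.app (op O₂) (res S.X₁ le_top r)) = _
      rw [map_add, g_f_apply, add_zero, e₂]
    refine ⟨N, hN.trans inf_le_left, hN.trans inf_le_right, s₂', hCN, ⟨hO₂, e₂'⟩, ?_⟩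
    show res S.X₂ _ s₁ = res S.X₂ _ (s₂ + S.f.hom.app (op O₂) (res S.X₁ le_top r))
    rw [res_add, ← hom_res, res_res]
    have hr' : res S.X₁ ((hN.trans inf_le_right).trans le_top) r = res S.X₁ hN e := hr
    rw [hr', hom_res, he]
    show _ = _ + res S.X₂ hN (res S.X₂ _ s₁ - res S.X₂ _ s₂)
    rw [res_sub, res_res, res_res]
    abel
  · -- gluing
    rintro O₁ O₂ s ⟨hO₁, e₁⟩ ⟨hO₂, e₂⟩
    refine ⟨sup_le hO₁ hO₂, ?_⟩
    refine eq_of_res₂ S.X₃ (le_sup_left : O₁ ≤ O₁ ⊔ O₂) (le_sup_right : O₂ ≤ O₁ ⊔ O₂)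
      (le_refl _) _ _ ?_ ?_
    · rw [← hom_res, e₁, res_res]
    · rw [← hom_res, e₂, res_res]

/-- global sections are right exact on short exact sequences with soft kernel -/
theorem surjective_of_isSoft (S : ShortComplex (CohTop.Ab Z)) (hS : S.ShortExact)
    (h₁ : IsSoft S.X₁) : Function.Surjective (S.g.hom.app (op (⊤ : Opens Z))) := by
  intro s''
  obtain ⟨U', hU', s, hAU', hs⟩ := exists_lift S hS h₁ Set.univ isClosed_univ ⊤ (Set.subset_univ _)
    s''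
  have hU'top : U' = ⊤ := top_le_iff.1 (fun x _ => hAU' (Set.mem_univ x))
  subst hU'top
  exact ⟨s, by rw [hs, res_self]⟩

/-- the quotient of a soft sheaf by a soft subsheaf is soft -/
theorem isSoft_X₃ (S : ShortComplex (CohTop.Ab Z)) (hS : S.ShortExact)
    (h₁ : IsSoft S.X₁) (h₂ : IsSoft S.X₂) : IsSoft S.X₃ := by
  intro A hA U hAU s''
  obtain ⟨U₁, hU₁, s, hAU₁, hs⟩ := exists_lift S hS h₁ A hA U hAU s''
  obtain ⟨U₂, hU₂, hAU₂, t, ht⟩ := h₂ A hA U₁ hAU₁ s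
  refine ⟨U₂, hU₂.trans hU₁, hAU₂, S.g.hom.app (op ⊤) t, ?_⟩
  rw [← hom_res, ht, hom_res, hs, res_res]

/-- soft sheaves on a compact Hausdorff space are acyclic -/
theorem subsingleton_H_of_isSoft (G : CohTop.Ab Z) (hG : IsSoft G) (q : ℕ) :
    Subsingleton (CohTop.H G (q + 1)) := by
  have h1 : ∀ F : CohTop.Ab Z, ∃ (Y : CohTop.Ab Z) (ι : F ⟶ Y), IsSoft Y ∧ Mono ι :=
    fun F => ⟨Injective.under F, Injective.ι F, isSoft_of_injective _, inferInstance⟩
  have h2 : ∀ S : ShortComplex (CohTop.Ab Z), S.ShortExact → IsSoft S.X₁ →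
      IsSoft S.X₂ → IsSoft S.X₃ ∧ (S.map (LerayDegTop.ΓT Z)).ShortExact := by
    intro S hS a b
    refine ⟨isSoft_X₃ S hS a b, ?_⟩
    refine Horseshoe.map_shortExact_of_epi (LerayDegTop.ΓT Z) hS ?_
    rw [AddCommGrpCat.epi_iff_surjective]
    exact surjective_of_isSoft S hS a
  have hz := Horseshoe.isZero_rightDerived_succ_of_class (LerayDegTop.ΓT Z) IsSoft h1 h2 q G hG
  obtain ⟨e⟩ := LerayDegTop.rightDerived_ΓT_iso Z (q + 1) G
  have hz' := hz.of_iso e.symm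
  exact (AddCommGrpCat.subsingleton_of_isZero hz')

end Soft

end Groth.Agent.Lib.helper27
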