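import Mathlib
import Groth.Prelude.Def_CohTop
import Groth.Agent.Lib.Helper27.HausP0
import Groth.Agent.Lib.Helper27.Soft
import Groth.Agent.Lib.Helper27.SpecLimD

set_option autoImplicit false
set_option backward.isDefEq.respectTransparency false
set_option linter.unusedVariables false
set_option linter.unusedSectionVars false

namespace Groth.Agent.Lib.helper27

open CategoryTheory Limits Opposite TopologicalSpace Topology Abelian
open Groth.Agent.Lib.helper7

universe u

namespace HausMain

open SpecLim HausSep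

section general

variable {X : TopCat.{u}}
  {Λ : Type u} [SmallCategory Λ] [IsFiltered Λ] (φ : Λ ⥤ (Opens X)ᵒᵖ)
  (W : Set X) (hW : ∀ l, W ⊆ ((φ.obj l).unop : Set X))

lemma isExSeq_T : DeltaSeq.IsExSeq (SpecLim.T φ) :=
  (ExtPsh.isExSeq_Tp (FreeYoneda.freeSheaf (Opens.grothendieckTopology X))).comp (SpecLim.E φ)

include hW in
lemma top_le_pre (l : Λ) : (⊤ : Opens (TopCat.of W)) ≤ pre W (φ.obj l).unop :=
  fun w _ => hW l w.2

/-- the legs of the comparison cocone -/
noncomputable def leg (F : CohTop.Ab X) (l : Λ) :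
    F.obj.obj (φ.obj l) ⟶ ((CohTop.pull (incl W)).obj F).obj.obj (op ⊤) :=
  PullGerm.ρ (incl W) F (φ.obj l).unop ≫
    ((CohTop.pull (incl W)).obj F).obj.map (homOfLE (top_le_pre φ W hW l)).op

lemma leg_apply (F : CohTop.Ab X) (l : Λ) (s : F.obj.obj (φ.obj l)) :
    leg φ W hW F l s = res (G (incl W) F) (top_le_pre φ W hW l) (ρ (incl W) F (φ.obj l).unop s) :=
  rfl

/-- the comparison cocone -/
noncomputable def cc (F : CohTop.Ab X) : Cocone (φ ⋙ F.obj) where
  pt := ((CohTop.pull (incl W)).obj F).obj.obj (op ⊤)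
  ι :=
    { app := fun l => leg φ W hW F l
      naturality := by
        intro l l' g
        apply AddCommGrpCat.hom_ext
        apply AddMonoidHom.ext
        intro s
        show leg φ W hW F l' (F.obj.map (φ.map g) s) = leg φ W hW F l s
        rw [leg_apply, leg_apply, map_eq_res F (φ.map g) s, ρ_res, res_res] }

/-- the comparison in degree zero -/
noncomputable def τapp (F : CohTop.Ab X) :
    colimit (φ ⋙ F.obj) ⟶ ((CohTop.pull (incl W)).obj F).obj.obj (op ⊤) :=
  colimit.desc (φ ⋙ F.obj) (cc φ W hW F)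

lemma τapp_ι (F : CohTop.Ab X) (l : Λ) (s : F.obj.obj (φ.obj l)) :
    τapp φ W hW F (colimit.ι (φ ⋙ F.obj) l s) = leg φ W hW F l s := by
  have := colimit.ι_desc (cc φ W hW F) l
  exact ConcreteCategory.congr_hom this s

/-- the comparison as a natural transformation -/
noncomputable def τ : sheafToPresheaf (Opens.grothendieckTopology X) AddCommGrpCat.{u} ⋙ E φ ⟶
    CohTop.pull (incl W) ⋙ LerayDegTop.ΓT (TopCat.of W) where
  app F := τapp φ W hW F
  naturality := by
    intro F F' α
    apply colimit.hom_ext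
    intro l
    apply AddCommGrpCat.hom_ext
    apply AddMonoidHom.ext
    intro s
    show τapp φ W hW F' ((colim.map (Functor.whiskerLeft φ α.hom))
      (colimit.ι (φ ⋙ F.obj) l s)) =
      ((CohTop.pull (incl W)).map α).hom.app (op ⊤) (τapp φ W hW F (colimit.ι (φ ⋙ F.obj) l s))
    have e1 : (colim.map (Functor.whiskerLeft φ α.hom)) (colimit.ι (φ ⋙ F.obj) l s) =
        colimit.ι (φ ⋙ F'.obj) l (α.hom.app (φ.obj l) s) := by
      have := colimit.ι_map (Functor.whiskerLeft φ α.hom) l
      exact ConcreteCategory.congr_hom this s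
    rw [e1, τapp_ι, τapp_ι, leg_apply, leg_apply]
    have hnat := (PullConst.pbAdj (incl W)).unit.naturality α
    have hnat' := ConcreteCategory.congr_hom
      (congrArg (fun β => β.hom.app (φ.obj l)) hnat) s
    have e2 : ρ (incl W) F' (φ.obj l).unop (α.hom.app (φ.obj l) s) =
        ((CohTop.pull (incl W)).map α).hom.app (op (pre W (φ.obj l).unop))
          (ρ (incl W) F (φ.obj l).unop s) := hnat'
    rw [e2]
    exact (SpecLim.hom_res ((CohTop.pull (incl W)).map α) _ _).symm

variable (hbij : ∀ F : CohTop.Ab X, Function.Bijective (τapp φ W hW F))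
  (hacyc : ∀ (I : CohTop.Ab X) [Injective I] (i : ℕ),
    Subsingleton (CohTop.H ((CohTop.pull (incl W)).obj I) (i + 1)))

instance : (CohTop.pull (incl W)).Additive := PullConst.pull_additive _

instance : PreservesFiniteLimits (CohTop.pull (incl W)) := PullConst.pull_preservesFiniteLimits _

instance : PreservesFiniteColimits (CohTop.pull (incl W)) :=
  PullConst.pull_preservesFiniteColimits _

include hacyc in
lemma isExSeq_T' : DeltaSeq.IsExSeq (SpecLim.T' W) := by
  refine (ExtPsh.isExSeq_ext.{u} (LerayDegTop.Zc (TopCat.of W))).precomp (CohTop.pull (incl W)) ?_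
  intro I hI i
  have := hacyc I i
  exact AddCommGrpCat.isZero_of_subsingleton
    (AddCommGrpCat.of (CohTop.H ((CohTop.pull (incl W)).obj I) (i + 1)))

include hbij in
lemma isIso_τ : IsIso (τ φ W hW) := by
  have : ∀ F, IsIso ((τ φ W hW).app F) := by
    intro F
    apply (ConcreteCategory.isIso_iff_bijective _).2
    exact hbij F
  exact NatIso.isIso_of_isIso_app _

/-- the degree zero isomorphism -/
noncomputable def e₀ : SpecLim.T φ 0 ≅ SpecLim.T' W 0 :=
  haveI := isIso_τ φ W hW hbij
  Functor.isoWhiskerRight (CohPsh.tp₀Iso (Opens.grothendieckTopology X)) (E φ) ≪≫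
    asIso (τ φ W hW) ≪≫
    (Functor.isoWhiskerLeft (CohTop.pull (incl W))
      (OpenRestr.ext₀Iso (Opens.grothendieckTopology (TopCat.of W)) isTerminalTop)).symm

include hW hbij hacyc in
/-- abstract form of the comparison theorem -/
theorem main_of (F : CohTop.Ab X) (p : ℕ) :
    Nonempty (colimit (φ ⋙ (Sheaf.cohomologyPresheafFunctor (Opens.grothendieckTopology X) p).obj F)
      ≅ AddCommGrpCat.of (CohTop.H ((CohTop.pull (incl W)).obj F) p)) :=
  DeltaSeq.iso (isExSeq_T φ) (isExSeq_T' W hacyc) (e₀ φ W hW hbij) p F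

end general


section haus

variable {X : TopCat.{u}} (Z : Set X)

/-- opens containing `Z` -/
def nhdP : ObjectProperty (Opens X)ᵒᵖ := fun U => Z ⊆ (U.unop : Set X)

instance : IsFiltered (nhdP Z).FullSubcategory :=
  isFiltered_fullSubcategory (nhdP Z) ⟨op ⊤, Set.subset_univ _⟩
    (fun U V hU hV => Set.subset_inter hU hV)

lemma hWφ (l : (nhdP Z).FullSubcategory) : Z ⊆ ((((nhdP Z).ι).obj l).unop : Set X) := l.2

variable (hZ : IsCompact Z) (hsep : Sep Z)

include hZ in
lemma compactSpace_of : CompactSpace (TopCat.of Z) := isCompact_iff_compactSpace.1 hZ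

include hsep in
lemma t2Space_of : T2Space (TopCat.of Z) := by
  refine ⟨fun x y hxy => ?_⟩
  have hne : (x : X) ≠ (y : X) := fun h => hxy (Subtype.ext h)
  obtain ⟨U, V, hU, hV, hxU, hyV, hd⟩ := hsep x.1 x.2 y.1 y.2 hne
  refine ⟨Subtype.val ⁻¹' U, Subtype.val ⁻¹' V, hU.preimage continuous_subtype_val,
    hV.preimage continuous_subtype_val, hxU, hyV, ?_⟩
  exact hd.preimage _

include hZ hsep in
/-- the restriction of a flasque sheaf to a compact subset with separated points is soft -/
theorem isSoft_pull (F : CohTop.Ab X) [hfl : TopCat.Sheaf.IsFlasque F] :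
    Soft.IsSoft (G (incl Z) F) := by
  have := compactSpace_of Z hZ
  intro A hA U hAU s
  let A' : Set X := Subtype.val '' A
  have hA'c : IsCompact A' := hA.isCompact.image continuous_subtype_val
  have hA'Z : A' ⊆ Z := by
    rintro _ ⟨a, -, rfl⟩
    exact a.2
  have hAU' : ∀ k : Z, (k : X) ∈ A' → k ∈ U := by
    rintro k ⟨a, ha, hak⟩
    have : a = k := Subtype.ext hak
    rw [← this]
    exact hAU ha
  obtain ⟨O, hO, σ, hA'O, hσ⟩ := HausP0.exists_rep F Z A' hA'Z hA'c (hsep.mono hA'Z) U hAU' s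
  have hsurj := hfl.epi (homOfLE (le_top : O ≤ ⊤)).op
  rw [AddCommGrpCat.epi_iff_surjective] at hsurj
  obtain ⟨τ', hτ'⟩ := hsurj σ
  have hτ'' : res F (le_top : O ≤ ⊤) τ' = σ := hτ'
  have htop : (⊤ : Opens (TopCat.of Z)) ≤ pre Z ⊤ := fun _ _ => trivial
  refine ⟨pre Z O, hO, fun a ha => hA'O ⟨a, ha, rfl⟩, res (G (incl Z) F) htop (ρ (incl Z) F ⊤ τ'), ?_⟩
  rw [res_res, ← hσ, ← hτ'', ρ_res]

include hZ hsep in
theorem τapp_bijective (F : CohTop.Ab X) :
    Function.Bijective (τapp (nhdP Z).ι Z (hWφ Z) F) := by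
  constructor
  · rw [injective_iff_map_eq_zero]
    intro x hx
    obtain ⟨l, s, rfl⟩ := Concrete.colimit_exists_rep ((nhdP Z).ι ⋙ F.obj) x
    rw [τapp_ι, leg_apply] at hx
    obtain ⟨O', hO', hZO', hs⟩ := HausP0.exists_res_eq_zero F Z Z Set.Subset.rfl l.obj.unop l.2 s ⊤
      (top_le_pre (nhdP Z).ι Z (hWφ Z) l) (fun k _ => trivial) hx
    let l' : (nhdP Z).FullSubcategory := ⟨op O', hZO'⟩
    let g : l ⟶ l' := ObjectProperty.homMk (homOfLE hO').op
    have h4 := ConcreteCategory.congr_hom (colimit.w ((nhdP Z).ι ⋙ F.obj) g) s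
    have h5 : colimit.ι ((nhdP Z).ι ⋙ F.obj) l s =
        colimit.ι ((nhdP Z).ι ⋙ F.obj) l' (res F hO' s) := h4.symm
    rw [h5, hs, map_zero]
  · intro t
    obtain ⟨O, hO, σ, hZO, hσ⟩ := HausP0.exists_rep F Z Z Set.Subset.rfl hZ hsep ⊤
      (fun k _ => trivial) t
    let l : (nhdP Z).FullSubcategory := ⟨op O, hZO⟩
    refine ⟨colimit.ι ((nhdP Z).ι ⋙ F.obj) l σ, ?_⟩
    rw [τapp_ι, leg_apply]
    have : ρ (incl Z) F (((nhdP Z).ι.obj l).unop) σ = res (G (incl Z) F) hO t := hσ
    rw [this, res_res]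
    exact res_self _ _

include hZ hsep in
/-- **S0946**: the cohomology of a compact subset with separated points is the colimit of the
cohomologies of its open neighbourhoods -/
theorem main (F : CohTop.Ab X) (p : ℕ) :
    Nonempty (colimit ((nhdP Z).ι ⋙
        (Sheaf.cohomologyPresheafFunctor (Opens.grothendieckTopology X) p).obj F)
      ≅ AddCommGrpCat.of (CohTop.H ((CohTop.pull (incl Z)).obj F) p)) := by
  have := compactSpace_of Z hZ
  have := t2Space_of Z hsep
  refine main_of (nhdP Z).ι Z (hWφ Z) (τapp_bijective Z hZ hsep) ?_ F p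
  intro I _ i
  have hfl : TopCat.Sheaf.IsFlasque I := Groth.Agent.S0454.result I
  exact Soft.subsingleton_H_of_isSoft _ (isSoft_pull Z hZ hsep I) i

end haus

end HausMain

end Groth.Agent.Lib.helper27
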