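import Mathlib
import Groth.Prelude.Def_CohTop
import Groth.Agent.Lib.Helper27.HausMain
import Groth.Agent.Lib.Helper27.RpushSheafify

set_option autoImplicit false
set_option backward.isDefEq.respectTransparency false
set_option linter.unusedVariables false
set_option linter.unusedSectionVars false

namespace Groth.Agent.Lib.helper27

open CategoryTheory Limits Opposite TopologicalSpace Topology

universe u

namespace HausMain

open SpecLim HausSep

section stalk

variable {X Y : TopCat.{u}} (f : X ⟶ Y) (y : Y)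

/-- preimages of neighbourhoods of `y` are neighbourhoods of the fibre -/
def Ψ : (OpenNhds y)ᵒᵖ ⥤ (nhdP (f ⁻¹' {y} : Set X)).FullSubcategory where
  obj V := ⟨op ((Opens.map f).obj V.unop.1), by
    intro x hx
    have : f x = y := hx
    show f x ∈ V.unop.1
    rw [this]
    exact V.unop.2⟩
  map {V V'} g := ObjectProperty.homMk ((Opens.map f).map ((OpenNhds.inclusion y).map g.unop)).op

lemma final_Ψ (hf : IsClosedMap f) : (Ψ f y).Final := by
  refine Functor.final_of_exists_of_isFiltered _ ?_ ?_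
  · intro l
    let U : Opens X := l.obj.unop
    have hZU : (f ⁻¹' {y} : Set X) ⊆ (U : Set X) := l.2
    have hcl : IsClosed (f '' (U : Set X)ᶜ) := hf _ U.2.isClosed_compl
    let V : Opens Y := ⟨(f '' (U : Set X)ᶜ)ᶜ, hcl.isOpen_compl⟩
    have hyV : y ∈ V := by
      rintro ⟨x, hxU, hxy⟩
      exact hxU (hZU hxy)
    have hle : (Opens.map f).obj V ≤ U := by
      intro x hx
      by_contra hxU
      exact hx ⟨x, hxU, rfl⟩
    exact ⟨op ⟨V, hyV⟩, ⟨ObjectProperty.homMk (homOfLE hle).op⟩⟩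
  · intro l V s s'
    exact ⟨V, 𝟙 V, by apply ObjectProperty.hom_ext; exact Subsingleton.elim _ _⟩

/-- the stalk of `V ↦ Q(f⁻¹V)` at `y` is the colimit of `Q` over the neighbourhoods of the fibre,
for a closed map `f` -/
noncomputable def stalkIso (hf : IsClosedMap f) (Q : (Opens X)ᵒᵖ ⥤ AddCommGrpCat.{u}) :
    TopCat.Presheaf.stalk ((Opens.map f).op ⋙ Q) y ≅
      colimit ((nhdP (f ⁻¹' {y} : Set X)).ι ⋙ Q) :=
  haveI := final_Ψ f y hf
  Functor.Final.colimitIso (Ψ f y) ((nhdP (f ⁻¹' {y} : Set X)).ι ⋙ Q)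

/-- **S0472**: stalks of higher direct images along proper separated maps -/
theorem stalk_Rpush (hf : IsProperMap f)
    (hs : ∀ x x' : X, f x = f x' → x ≠ x' →
      ∃ U V : Set X, IsOpen U ∧ IsOpen V ∧ x ∈ U ∧ x' ∈ V ∧ Disjoint U V)
    (F : CohTop.Ab X) (p : ℕ) :
    Nonempty (CohTop.stalk ((CohTop.Rpush f p).obj F) y ≅
      AddCommGrpCat.of (CohTop.H ((CohTop.pull (incl (f ⁻¹' {y} : Set X))).obj F) p)) := by
  obtain ⟨e⟩ := RpushSheafify.rpush_iso_top f F p
  let Q : (Opens Y)ᵒᵖ ⥤ AddCommGrpCat.{u} := (Opens.map f).op ⋙ Sheaf.cohomologyPresheaf.{u} F p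
  let e1 : CohTop.stalk ((CohTop.Rpush f p).obj F) y ≅
      TopCat.Presheaf.stalk ((presheafToSheaf (Opens.grothendieckTopology Y)
        AddCommGrpCat.{u}).obj Q).obj y :=
    (TopCat.Presheaf.stalkFunctor AddCommGrpCat.{u} y).mapIso
      ((sheafToPresheaf _ _).mapIso e)
  have := TopCat.Presheaf.stalkFunctor_map_unit_toSheafify_isIso y AddCommGrpCat.{u} Q
  let e2 : TopCat.Presheaf.stalk Q y ≅ TopCat.Presheaf.stalk ((presheafToSheaf
      (Opens.grothendieckTopology Y) AddCommGrpCat.{u}).obj Q).obj y :=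
    asIso ((TopCat.Presheaf.stalkFunctor AddCommGrpCat.{u} y).map
      (toSheafify (Opens.grothendieckTopology Y) Q))
  let e3 := stalkIso f y hf.isClosedMap (Sheaf.cohomologyPresheaf.{u} F p)
  have hZ : IsCompact (f ⁻¹' {y} : Set X) := hf.isCompact_preimage isCompact_singleton
  have hsep : Sep (f ⁻¹' {y} : Set X) := by
    intro x hx x' hx' hne
    have h1 : f x = y := hx
    have h2 : f x' = y := hx'
    exact hs x x' (h1.trans h2.symm) hne
  obtain ⟨e4⟩ := main (f ⁻¹' {y} : Set X) hZ hsep F p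
  exact ⟨e1 ≪≫ e2.symm ≪≫ e3 ≪≫ e4⟩

end stalk

end HausMain

end Groth.Agent.Lib.helper27
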