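import Mathlib
import Groth.Prelude.Def_CohTop

/-!
# Topology of pullback squares of spaces; base change of proper separated maps (helper27)
-/

set_option autoImplicit false
set_option backward.isDefEq.respectTransparency false

namespace Groth.Agent.Lib.helper27

open CategoryTheory Limits Opposite TopologicalSpace Topology

universe u

namespace PBCTop

variable {X Y X' Y' : TopCat.{u}} {f : X ⟶ Y} {g : Y' ⟶ Y} {f' : X' ⟶ Y'} {g' : X' ⟶ X}
  (hsq : IsPullback g' f' f g)

include hsq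

lemma w_apply (x' : X') : f (g' x') = g (f' x') :=
  ConcreteCategory.congr_hom hsq.w x'

/-- the comparison with the explicit pullback -/
noncomputable def e : X' ≅ TopCat.of { p : X × Y' // f p.1 = g p.2 } :=
  hsq.isLimit.conePointUniqueUpToIso (TopCat.pullbackConeIsLimit f g)

lemma e_hom_fst : (e hsq).hom ≫ TopCat.pullbackFst f g = g' :=
  IsLimit.conePointUniqueUpToIso_hom_comp hsq.isLimit (TopCat.pullbackConeIsLimit f g)
    WalkingCospan.left

lemma e_hom_snd : (e hsq).hom ≫ TopCat.pullbackSnd f g = f' :=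
  IsLimit.conePointUniqueUpToIso_hom_comp hsq.isLimit (TopCat.pullbackConeIsLimit f g)
    WalkingCospan.right

lemma e_hom_apply (x' : X') : ((e hsq).hom x').1 = (g' x', f' x') := by
  apply Prod.ext
  · exact ConcreteCategory.congr_hom (e_hom_fst hsq) x'
  · exact ConcreteCategory.congr_hom (e_hom_snd hsq) x'

lemma exists_lift (x : X) (y' : Y') (h : f x = g y') : ∃ x' : X', g' x' = x ∧ f' x' = y' := by
  refine ⟨(e hsq).inv ⟨(x, y'), h⟩, ?_, ?_⟩
  · have := e_hom_apply hsq ((e hsq).inv ⟨(x, y'), h⟩)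
    have h2 : (e hsq).hom ((e hsq).inv ⟨(x, y'), h⟩) = ⟨(x, y'), h⟩ :=
      ConcreteCategory.congr_hom (e hsq).inv_hom_id _
    rw [h2] at this
    exact (congrArg Prod.fst this).symm
  · have := e_hom_apply hsq ((e hsq).inv ⟨(x, y'), h⟩)
    have h2 : (e hsq).hom ((e hsq).inv ⟨(x, y'), h⟩) = ⟨(x, y'), h⟩ :=
      ConcreteCategory.congr_hom (e hsq).inv_hom_id _
    rw [h2] at this
    exact (congrArg Prod.snd this).symm

lemma isInducing : IsInducing (fun x' : X' => (g' x', f' x')) := by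
  have h1 : IsInducing (fun x' : X' => ((e hsq).hom x').1) :=
    IsInducing.subtypeVal.comp (TopCat.homeoOfIso (e hsq)).isInducing
  have h2 : (fun x' : X' => ((e hsq).hom x').1) = fun x' : X' => (g' x', f' x') := by
    funext x'; exact e_hom_apply hsq x'
  rwa [h2] at h1

lemma ext_pt (x₁ x₂ : X') (h1 : g' x₁ = g' x₂) (h2 : f' x₁ = f' x₂) : x₁ = x₂ := by
  have hinj : Function.Injective (e hsq).hom := (TopCat.homeoOfIso (e hsq)).injective
  apply hinj
  apply Subtype.ext
  rw [e_hom_apply, e_hom_apply, h1, h2]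

/-- product neighbourhoods form a basis of the pullback -/
lemma exists_prod_nhd (N : Set X') (hN : IsOpen N) (x' : X') (hx' : x' ∈ N) :
    ∃ (O : Opens X) (V : Opens Y'), g' x' ∈ O ∧ f' x' ∈ V ∧
      ∀ z : X', g' z ∈ O → f' z ∈ V → z ∈ N := by
  obtain ⟨M, hM, hMN⟩ := (isInducing hsq).isOpen_iff.mp hN
  have hx : (g' x', f' x') ∈ M := by
    have : x' ∈ (fun x' : X' => (g' x', f' x')) ⁻¹' M := by rw [hMN]; exact hx'
    exact this
  obtain ⟨O, V, hO, hV, hxO, hxV, hOV⟩ := isOpen_prod_iff.mp hM (g' x') (f' x') hx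
  refine ⟨⟨O, hO⟩, ⟨V, hV⟩, hxO, hxV, fun z hzO hzV => ?_⟩
  have : z ∈ (fun x' : X' => (g' x', f' x')) ⁻¹' M := hOV ⟨hzO, hzV⟩
  rwa [hMN] at this

/-- separatedness of fibres is stable under base change -/
lemma separated_base_change
    (hs : ∀ x x' : X, f x = f x' → x ≠ x' →
      ∃ U V : Set X, IsOpen U ∧ IsOpen V ∧ x ∈ U ∧ x' ∈ V ∧ Disjoint U V) :
    ∀ x x' : X', f' x = f' x' → x ≠ x' →
      ∃ U V : Set X', IsOpen U ∧ IsOpen V ∧ x ∈ U ∧ x' ∈ V ∧ Disjoint U V := by
  intro x₁ x₂ h12 hne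
  have hne' : g' x₁ ≠ g' x₂ := fun h => hne (ext_pt hsq x₁ x₂ h h12)
  have hf : f (g' x₁) = f (g' x₂) := by rw [w_apply hsq, w_apply hsq, h12]
  obtain ⟨U, V, hU, hV, h1, h2, hd⟩ := hs _ _ hf hne'
  exact ⟨g' ⁻¹' U, g' ⁻¹' V, hU.preimage g'.hom.continuous, hV.preimage g'.hom.continuous, h1, h2,
    hd.preimage _⟩

/-- properness is stable under base change -/
lemma isProperMap_base_change (hf : IsProperMap f) : IsProperMap f' := by
  rw [isProperMap_iff_isClosedMap_and_compact_fibers]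
  refine ⟨f'.hom.continuous, ?_, ?_⟩
  · -- closed map
    intro C hC
    rw [← isOpen_compl_iff, isOpen_iff_forall_mem_open]
    intro y' hy'
    -- the fibre of `f` over `g y'`
    have hA : IsCompact (f ⁻¹' {g y'}) := hf.isCompact_preimage isCompact_singleton
    have hloc : ∀ x : X, x ∈ f ⁻¹' {g y'} → ∃ (O : Opens X) (V : Opens Y'), x ∈ O ∧ y' ∈ V ∧
        ∀ z : X', g' z ∈ O → f' z ∈ V → z ∉ C := by
      intro x hx
      obtain ⟨x', hx'1, hx'2⟩ := exists_lift hsq x y' hx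
      have hx'C : x' ∈ Cᶜ := by
        intro hx'C
        exact hy' ⟨x', hx'C, hx'2⟩
      obtain ⟨O, V, hO, hV, hOV⟩ := exists_prod_nhd hsq Cᶜ hC.isOpen_compl x' hx'C
      exact ⟨O, V, hx'1 ▸ hO, hx'2 ▸ hV, hOV⟩
    choose! O V hO hV hOV using hloc
    obtain ⟨t, htA, htfin, ht⟩ := hA.elim_finite_subcover_image (b := f ⁻¹' {g y'})
      (c := fun x => (O x : Set X)) (fun x _ => (O x).isOpen)
      (fun x hx => Set.mem_biUnion hx (hO x hx))
    -- `f` is closed: a neighbourhood of `g y'` whose preimage lies in the union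
    have hUopen : IsOpen (⋃ x ∈ t, (O x : Set X)) := isOpen_biUnion fun x _ => (O x).isOpen
    let W : Set Y := (f '' (⋃ x ∈ t, (O x : Set X))ᶜ)ᶜ
    have hWopen : IsOpen W := (hf.isClosedMap _ hUopen.isClosed_compl).isOpen_compl
    have hyW : g y' ∈ W := by
      rintro ⟨x, hx, hxy⟩
      exact hx (ht hxy)
    have hW : ∀ x : X, f x ∈ W → x ∈ ⋃ x ∈ t, (O x : Set X) := by
      intro x hx
      by_contra hcon
      exact hx ⟨x, hcon, rfl⟩
    refine ⟨(g ⁻¹' W) ∩ ⋂ x ∈ t, (V x : Set Y'), ?_, ?_, ?_⟩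
    · rintro z ⟨hz1, hz2⟩ ⟨x', hx'C, rfl⟩
      have h1 : f (g' x') ∈ W := by rw [w_apply hsq]; exact hz1
      obtain ⟨x, hxt, hx⟩ := Set.mem_iUnion₂.mp (hW _ h1)
      have h2 : f' x' ∈ (V x : Set Y') := Set.mem_iInter₂.mp hz2 x hxt
      exact hOV x (htA hxt) x' hx h2 hx'C
    · exact (hWopen.preimage g.hom.continuous).inter
        (htfin.isOpen_biInter fun x _ => (V x).isOpen)
    · exact ⟨hyW, Set.mem_iInter₂.mpr fun x hxt => hV x (htA hxt)⟩
  · -- compact fibres
    intro y'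
    have hA : IsCompact (f ⁻¹' {g y'}) := hf.isCompact_preimage isCompact_singleton
    rw [isCompact_iff_ultrafilter_le_nhds]
    intro 𝒰 h𝒰
    have h1 : (𝒰.map g' : Filter X) ≤ Filter.principal (f ⁻¹' {g y'}) := by
      rw [Filter.le_principal_iff] at h𝒰 ⊢
      refine Filter.mem_of_superset (Filter.image_mem_map h𝒰) ?_
      rintro _ ⟨z, hz, rfl⟩
      change f (g' z) = g y'
      rw [w_apply hsq, hz]
    obtain ⟨x, hx, hxlim⟩ := isCompact_iff_ultrafilter_le_nhds.mp hA (𝒰.map g') h1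
    obtain ⟨x', hx'1, hx'2⟩ := exists_lift hsq x y' hx
    refine ⟨x', hx'2, ?_⟩
    rw [(isInducing hsq).nhds_eq_comap, ← Filter.map_le_iff_le_comap, hx'1, hx'2, nhds_prod_eq]
    have h2 : Filter.map (fun z : X' => (g' z, f' z)) 𝒰 ≤
        (Filter.map g' 𝒰) ×ˢ (Filter.map f' 𝒰) := by
      refine Filter.le_prod.mpr ⟨?_, ?_⟩
      · rw [Filter.tendsto_map'_iff]; exact Filter.tendsto_map
      · rw [Filter.tendsto_map'_iff]; exact Filter.tendsto_map
    refine h2.trans (Filter.prod_mono hxlim ?_)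
    -- `f'` is constant on the fibre
    have h3 : (Filter.map f' (𝒰 : Filter X')) ≤ pure y' := by
      rw [Filter.le_principal_iff] at h𝒰
      intro S hS
      have hy'S : y' ∈ S := hS
      refine Filter.mem_of_superset (Filter.image_mem_map h𝒰) ?_
      rintro _ ⟨z, hz, rfl⟩
      have : f' z = y' := hz
      rw [this]; exact hy'S
    exact h3.trans (pure_le_nhds y')

end PBCTop

end Groth.Agent.Lib.helper27
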