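import Mathlib
import Groth.Prelude.Def_CohTop
import Groth.Agent.Lib.Helper27.PBCTop
import Groth.Agent.Lib.Helper27.HausGlue
import Groth.Agent.Lib.Helper27.PullGerm

/-!
# The base change map in degree zero for proper separated maps of spaces (helper27)
-/

set_option autoImplicit false
set_option backward.isDefEq.respectTransparency false
set_option linter.unusedVariables false
set_option linter.unusedSectionVars false

namespace Groth.Agent.Lib.helper27

open CategoryTheory Limits Opposite TopologicalSpace Topology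

universe u

namespace PBC0

open SpecLim HausSep

section transport

variable {X' Y : TopCat.{u}}

/-- transport of pushforwards along an equality of maps -/
noncomputable def κ {h₁ h₂ : X' ⟶ Y} (e : h₁ = h₂) (G : CohTop.Ab X') :
    (CohTop.push h₁).obj G ⟶ (CohTop.push h₂).obj G :=
  eqToHom (by rw [e])

lemma germ_κ {h₁ h₂ : X' ⟶ Y} (e : h₁ = h₂) (G : CohTop.Ab X') (V : Opens Y)
    (t : G.obj.obj (op ((Opens.map h₁).obj V))) (x' : X') (hx : h₁ x' ∈ V) :
    TopCat.Presheaf.germ G.obj ((Opens.map h₂).obj V) x' (by rw [← e]; exact hx)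
        ((κ e G).hom.app (op V) t) =
      TopCat.Presheaf.germ G.obj ((Opens.map h₁).obj V) x' hx t := by
  subst e
  have : κ (rfl : h₁ = h₁) G = 𝟙 _ := rfl
  rw [this]
  rfl

end transport

variable {X Y X' Y' : TopCat.{u}} (f : X ⟶ Y) (g : Y' ⟶ Y) (f' : X' ⟶ Y') (g' : X' ⟶ X)
  (w : g' ≫ f = f' ≫ g)

/-- the adjoint of the base change map -/
noncomputable def φ (F : CohTop.Ab X) :
    (CohTop.push f).obj F ⟶ (CohTop.push g).obj ((CohTop.push f').obj ((CohTop.pull g').obj F)) :=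
  (CohTop.push f).map ((PullConst.pbAdj g').unit.app F) ≫
    κ (h₁ := g' ≫ f) (h₂ := f' ≫ g) w ((CohTop.pull g').obj F)

/-- the base change map -/
noncomputable def β (F : CohTop.Ab X) :
    (CohTop.pull g).obj ((CohTop.push f).obj F) ⟶ (CohTop.push f').obj ((CohTop.pull g').obj F) :=
  ((PullConst.pbAdj g).homEquiv _ _).symm (φ f g f' g' w F)

lemma unit_β (F : CohTop.Ab X) :
    (PullConst.pbAdj g).unit.app ((CohTop.push f).obj F) ≫ (CohTop.push g).map (β f g f' g' w F) =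
      φ f g f' g' w F := by
  have := (PullConst.pbAdj g).homEquiv_unit (f := β f g f' g' w F)
  rw [← this]
  exact Equiv.apply_symm_apply _ _

/-- the base change map on sections coming from downstairs -/
lemma β_ρ (F : CohTop.Ab X) (V : Opens Y) (s : F.obj.obj (op ((Opens.map f).obj V))) :
    (β f g f' g' w F).hom.app (op ((Opens.map g).obj V))
        (ρ g ((CohTop.push f).obj F) V s) =
      (κ (h₁ := g' ≫ f) (h₂ := f' ≫ g) w ((CohTop.pull g').obj F)).hom.app (op V)
        (ρ g' F ((Opens.map f).obj V) s) := by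
  have h := unit_β f g f' g' w F
  have h2 := congrArg (fun m => m.hom.app (op V)) h
  exact ConcreteCategory.congr_hom h2 s

section stalks

variable (hsq : IsPullback g' f' f g) (hf : IsProperMap f)
  (hs : ∀ x x' : X, f x = f x' → x ≠ x' →
    ∃ U V : Set X, IsOpen U ∧ IsOpen V ∧ x ∈ U ∧ x' ∈ V ∧ Disjoint U V)

/-- the base change map on stalks -/
noncomputable abbrev σβ (F : CohTop.Ab X) (y' : Y') :=
  (TopCat.Presheaf.stalkFunctor AddCommGrpCat.{u} y').map (β f g f' g' hsq.w F).hom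

/-- closedness of `f`: a neighbourhood of the fibre contains the preimage of a neighbourhood -/
lemma exists_nhd_of_fibre (hcl : IsClosedMap f) (y : Y) (O : Opens X) (hO : f ⁻¹' {y} ⊆ (O : Set X))
    (V : Opens Y) (hy : y ∈ V) :
    ∃ V'' : Opens Y, V'' ≤ V ∧ y ∈ V'' ∧ (Opens.map f).obj V'' ≤ O := by
  let W : Set Y := (f '' ((O : Set X))ᶜ)ᶜ
  have hW : IsOpen W := (hcl _ O.isOpen.isClosed_compl).isOpen_compl
  refine ⟨V ⊓ ⟨W, hW⟩, inf_le_left, ⟨hy, ?_⟩, ?_⟩
  · rintro ⟨x, hx, hxy⟩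
    exact hx (hO hxy)
  · rintro x ⟨-, hx⟩
    by_contra hcon
    exact hx ⟨x, hcon, rfl⟩

include hf in
lemma σβ_injective (F : CohTop.Ab X) (y' : Y') : Function.Injective (σβ f g f' g' hsq F y') := by
  rw [injective_iff_map_eq_zero]
  intro a ha
  obtain ⟨b, rfl⟩ := (PullGerm.Φ_bijective g ((CohTop.push f).obj F) y').2 a
  obtain ⟨V, hyV, s, rfl⟩ := TopCat.Presheaf.exists_germ_eq ((CohTop.push f).obj F).obj b
  rw [PullGerm.germ_unit_apply, TopCat.Presheaf.stalkFunctor_map_germ_apply] at ha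
  have hβ := β_ρ f g f' g' hsq.w F V s
  have hβ' : (β f g f' g' hsq.w F).hom.app (op ((Opens.map g).obj V))
      (PullGerm.ρ g ((CohTop.push f).obj F) V s) =
      (κ (h₁ := g' ≫ f) (h₂ := f' ≫ g) hsq.w ((CohTop.pull g').obj F)).hom.app (op V)
        (ρ g' F ((Opens.map f).obj V) s) := hβ
  rw [hβ'] at ha
  -- the section `κ ρ s` vanishes on the preimage of a neighbourhood of `y'`
  set τ := (κ (h₁ := g' ≫ f) (h₂ := f' ≫ g) hsq.w ((CohTop.pull g').obj F)).hom.app (op V)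
    (ρ g' F ((Opens.map f).obj V) s) with hτ
  have h0 : TopCat.Presheaf.germ ((CohTop.push f').obj ((CohTop.pull g').obj F)).obj
      ((Opens.map g).obj V) y' hyV τ =
      TopCat.Presheaf.germ ((CohTop.push f').obj ((CohTop.pull g').obj F)).obj
      ((Opens.map g).obj V) y' hyV 0 := by rw [ha, map_zero]
  obtain ⟨W', hyW', iU, iV, e⟩ := TopCat.Presheaf.germ_eq
    ((CohTop.push f').obj ((CohTop.pull g').obj F)).obj (U := (Opens.map g).obj V)
    (V := (Opens.map g).obj V) y' hyV hyV τ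
    (0 : ((CohTop.push f').obj ((CohTop.pull g').obj F)).obj.obj (op ((Opens.map g).obj V))) h0
  rw [map_zero] at e
  -- vanishing near each point of the fibre
  have hloc : ∀ x : {x : X // x ∈ f ⁻¹' {g y'}}, ∃ (N : Opens X) (hN : N ≤ (Opens.map f).obj V),
      (x : X) ∈ N ∧ F.obj.map (homOfLE hN).op s = 0 := by
    intro x
    obtain ⟨x', hx'1, hx'2⟩ := PBCTop.exists_lift hsq x.1 y' x.2
    have hxV : f (g' x') ∈ V := by rw [hx'1, x.2]; exact hyV
    have hx'W : f' x' ∈ W' := by rw [hx'2]; exact hyW'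
    have hgerm : TopCat.Presheaf.germ ((CohTop.pull g').obj F).obj
        ((Opens.map g').obj ((Opens.map f).obj V)) x' hxV (PullGerm.ρ g' F ((Opens.map f).obj V) s)
        = 0 := by
      have h1 := germ_κ (h₁ := g' ≫ f) (h₂ := f' ≫ g) hsq.w ((CohTop.pull g').obj F) V
        (ρ g' F ((Opens.map f).obj V) s) x' hxV
      have h2 := TopCat.Presheaf.germ_res_apply ((CohTop.pull g').obj F).obj
        ((Opens.map f').map iU) x' hx'W τ
      have e' : ((CohTop.pull g').obj F).obj.map ((Opens.map f').map iU).op τ = 0 := e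
      rw [e', map_zero] at h2
      exact h1.symm.trans h2.symm
    obtain ⟨N, hN, hxN, hsN⟩ := PullGerm.exists_res_eq_zero g' F ((Opens.map f).obj V) s x' hxV hgerm
    exact ⟨N, hN, hx'1 ▸ hxN, hsN⟩
  choose N hN hxN hsN using hloc
  have hO : f ⁻¹' {g y'} ⊆ ((⨆ x, N x : Opens X) : Set X) := fun x hx =>
    Opens.mem_iSup.2 ⟨⟨x, hx⟩, hxN ⟨x, hx⟩⟩
  have hsO : res F (iSup_le hN) s = 0 := by
    refine TopCat.Sheaf.eq_of_locally_eq' (C := AddCommGrpCat.{u}) F N (⨆ x, N x)
      (fun x => homOfLE (le_iSup N x)) (le_refl _) _ _ (fun x => ?_)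
    show res F _ (res F _ s) = res F _ 0
    rw [res_res, res_zero]
    exact hsN x
  obtain ⟨V'', hV''V, hyV'', hV''O⟩ := exists_nhd_of_fibre f hf.isClosedMap (g y') (⨆ x, N x) hO V hyV
  have hsV'' : ((CohTop.push f).obj F).obj.map (homOfLE hV''V).op s = 0 := by
    have h1 : res F ((Opens.map f).monotone hV''V) s = res F hV''O (res F (iSup_le hN) s) := by
      rw [res_res]
    have h2 : ((CohTop.push f).obj F).obj.map (homOfLE hV''V).op s =
        res F ((Opens.map f).monotone hV''V) s := rfl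
    rw [h2, h1, hsO, res_zero]
  have hb : TopCat.Presheaf.germ ((CohTop.push f).obj F).obj V (g y') hyV s = 0 := by
    have := TopCat.Presheaf.germ_res_apply ((CohTop.push f).obj F).obj (homOfLE hV''V) (g y') hyV'' s
    rw [hsV'', map_zero] at this
    exact this.symm
  rw [hb, map_zero]

omit hsq in
/-- germs of `ρ` of a restricted section -/
lemma germ_ρ_res (F : CohTop.Ab X) {O' O : Opens X} (h : O' ≤ O) (σ : F.obj.obj (op O)) (z : X')
    (hz : g' z ∈ O') :
    TopCat.Presheaf.germ ((CohTop.pull g').obj F).obj ((Opens.map g').obj O') z hz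
        (ρ g' F O' (res F h σ)) =
      TopCat.Presheaf.germ ((CohTop.pull g').obj F).obj ((Opens.map g').obj O) z (h hz)
        (ρ g' F O σ) := by
  rw [ρ_res]
  exact TopCat.Presheaf.germ_res_apply ((CohTop.pull g').obj F).obj
    (homOfLE ((Opens.map g').monotone h)) z hz (ρ g' F O σ)

include hf hs in
lemma σβ_surjective (F : CohTop.Ab X) (y' : Y') : Function.Surjective (σβ f g f' g' hsq F y') := by
  intro b'
  obtain ⟨V', hyV', t, rfl⟩ := TopCat.Presheaf.exists_germ_eq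
    ((CohTop.push f').obj ((CohTop.pull g').obj F)).obj b'
  have hA : IsCompact (f ⁻¹' {g y'}) := hf.isCompact_preimage isCompact_singleton
  have hsep : Sep (f ⁻¹' {g y'} : Set X) := by
    intro x hx x' hx' hne
    have h1 : f x = g y' := hx
    have h2 : f x' = g y' := hx'
    exact hs x x' (h1.trans h2.symm) hne
  let P : ∀ O : Opens X, F.obj.obj (op O) → Prop := fun O σ =>
    ∃ (V'' : Opens Y') (hV'' : V'' ≤ V'), y' ∈ V'' ∧ ∀ (z : X') (h1 : g' z ∈ O) (h2 : f' z ∈ V''),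
      TopCat.Presheaf.germ ((CohTop.pull g').obj F).obj ((Opens.map g').obj O) z h1 (ρ g' F O σ) =
        TopCat.Presheaf.germ ((CohTop.pull g').obj F).obj ((Opens.map f').obj V') z (hV'' h2) t
  obtain ⟨O, σ, hAO, V'', hV''V', hyV'', hP⟩ : ∃ (O : Opens X) (σ : F.obj.obj (op O)),
      f ⁻¹' {g y'} ⊆ (O : Set X) ∧ P O σ := by
    refine HausGlue.exists_global F _ hA hsep P ?_ ?_ ?_ ?_ ?_
    · -- bot
      intro σ
      exact ⟨V', le_refl _, hyV', fun z h1 _ => h1.elim⟩
    · -- local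
      intro a ha
      obtain ⟨x', hx'1, hx'2⟩ := PBCTop.exists_lift hsq a y' ha
      have hx'V' : f' x' ∈ V' := by rw [hx'2]; exact hyV'
      obtain ⟨O₀, hxO₀, s₀, hgerm⟩ :=
        PullGerm.exists_local_rep g' F ((Opens.map f').obj V') t x' hx'V'
      obtain ⟨N', hx'N', i1, i2, e⟩ := TopCat.Presheaf.germ_eq ((CohTop.pull g').obj F).obj
        (U := (Opens.map f').obj V') (V := (Opens.map g').obj O₀) x' hx'V' hxO₀ t
        (ρ g' F O₀ s₀) hgerm
      obtain ⟨O₁, V₁, hxO₁, hxV₁, hOV⟩ := PBCTop.exists_prod_nhd hsq N' N'.isOpen x' hx'N'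
      refine ⟨O₀ ⊓ O₁, res F inf_le_left s₀, hx'1 ▸ ⟨hxO₀, hxO₁⟩, V₁ ⊓ V', inf_le_right,
        ⟨hx'2 ▸ hxV₁, hyV'⟩, ?_⟩
      intro z h1 h2
      have hzN' : z ∈ N' := hOV z h1.2 h2.1
      rw [germ_ρ_res g' F inf_le_left s₀ z h1]
      have e1 := TopCat.Presheaf.germ_res_apply ((CohTop.pull g').obj F).obj i2 z hzN'
        (ρ g' F O₀ s₀)
      have e2 := TopCat.Presheaf.germ_res_apply ((CohTop.pull g').obj F).obj i1 z hzN' t
      rw [← e] at e1
      exact e1.symm.trans e2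
    · -- restriction
      rintro O O' h σ ⟨V'', hV'', hyV'', hP⟩
      refine ⟨V'', hV'', hyV'', fun z h1 h2 => ?_⟩
      rw [germ_ρ_res g' F h σ z h1]
      exact hP z (h h1) h2
    · -- equality near points
      rintro O₁ O₂ σ₁ σ₂ ⟨V₁, hV₁, hyV₁, hP₁⟩ ⟨V₂, hV₂, hyV₂, hP₂⟩ a ha ha₁ ha₂
      obtain ⟨x', hx'1, hx'2⟩ := PBCTop.exists_lift hsq a y' ha
      have h1 : g' x' ∈ O₁ := by rw [hx'1]; exact ha₁
      have h2 : g' x' ∈ O₂ := by rw [hx'1]; exact ha₂
      have e1 := hP₁ x' h1 (by rw [hx'2]; exact hyV₁)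
      have e2 := hP₂ x' h2 (by rw [hx'2]; exact hyV₂)
      have e3 : PullGerm.Φ g' F x' (TopCat.Presheaf.germ F.obj O₁ (g' x') h1 σ₁) =
          PullGerm.Φ g' F x' (TopCat.Presheaf.germ F.obj O₂ (g' x') h2 σ₂) := by
        rw [PullGerm.germ_unit_apply, PullGerm.germ_unit_apply]
        exact e1.trans e2.symm
      have e4 := (PullGerm.Φ_bijective g' F x').1 e3
      obtain ⟨N, hxN, iU, iV, e⟩ := TopCat.Presheaf.germ_eq F.obj (g' x') h1 h2 σ₁ σ₂ e4
      exact ⟨N, iU.le, iV.le, hx'1 ▸ hxN, e⟩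
    · -- gluing
      rintro O₁ O₂ σ ⟨V₁, hV₁, hyV₁, hP₁⟩ ⟨V₂, hV₂, hyV₂, hP₂⟩
      refine ⟨V₁ ⊓ V₂, inf_le_left.trans hV₁, ⟨hyV₁, hyV₂⟩, fun z h1 h2 => ?_⟩
      rcases h1 with h1 | h1
      · rw [← germ_ρ_res g' F (le_sup_left : O₁ ≤ O₁ ⊔ O₂) σ z h1]
        exact hP₁ z h1 h2.1
      · rw [← germ_ρ_res g' F (le_sup_right : O₂ ≤ O₁ ⊔ O₂) σ z h1]
        exact hP₂ z h1 h2.2
  obtain ⟨V, -, hyV, hVO⟩ := exists_nhd_of_fibre f hf.isClosedMap (g y') O hAO ⊤ trivial
  let s : F.obj.obj (op ((Opens.map f).obj V)) := res F hVO σ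
  refine ⟨TopCat.Presheaf.germ ((CohTop.pull g).obj ((CohTop.push f).obj F)).obj
    ((Opens.map g).obj V) y' hyV (ρ g ((CohTop.push f).obj F) V s), ?_⟩
  rw [TopCat.Presheaf.stalkFunctor_map_germ_apply]
  have hβ := β_ρ f g f' g' hsq.w F V s
  rw [hβ]
  set τ := (κ (h₁ := g' ≫ f) (h₂ := f' ≫ g) hsq.w ((CohTop.pull g').obj F)).hom.app (op V)
    (ρ g' F ((Opens.map f).obj V) s) with hτ
  refine TopCat.Presheaf.germ_ext ((CohTop.push f').obj ((CohTop.pull g').obj F)).obj
    (V'' ⊓ (Opens.map g).obj V) ⟨hyV'', hyV⟩ (homOfLE inf_le_right)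
    (homOfLE (inf_le_left.trans hV''V')) ?_
  refine TopCat.Presheaf.section_ext ((CohTop.pull g').obj F)
    ((Opens.map f').obj (V'' ⊓ (Opens.map g).obj V)) _ _ (fun z hz => ?_)
  have hzV : f (g' z) ∈ V := by rw [PBCTop.w_apply hsq]; exact hz.2
  have e1 := TopCat.Presheaf.germ_res_apply ((CohTop.pull g').obj F).obj
    ((Opens.map f').map (homOfLE (inf_le_right : V'' ⊓ (Opens.map g).obj V ≤ (Opens.map g).obj V)))
    z hz τ
  have e2 := TopCat.Presheaf.germ_res_apply ((CohTop.pull g').obj F).obj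
    ((Opens.map f').map (homOfLE ((inf_le_left : V'' ⊓ (Opens.map g).obj V ≤ V'').trans hV''V')))
    z hz t
  have e3 := germ_κ (h₁ := g' ≫ f) (h₂ := f' ≫ g) hsq.w ((CohTop.pull g').obj F) V
    (ρ g' F ((Opens.map f).obj V) s) z hzV
  have e4 := germ_ρ_res g' F hVO σ z hzV
  have e5 := hP z (hVO hzV) hz.1
  exact e1.trans (e3.trans (e4.trans (e5.trans e2.symm)))

include hf hs in
/-- the base change map is an isomorphism -/
theorem isIso_β (F : CohTop.Ab X) : IsIso (β f g f' g' hsq.w F) := by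
  have : ∀ y' : Y', IsIso ((TopCat.Presheaf.stalkFunctor AddCommGrpCat.{u} y').map
      (β f g f' g' hsq.w F).1) := by
    intro y'
    exact (ConcreteCategory.isIso_iff_bijective _).mpr
      ⟨σβ_injective f g f' g' hsq hf F y', σβ_surjective f g f' g' hsq hf hs F y'⟩
  exact TopCat.Presheaf.isIso_of_stalkFunctor_map_iso (β f g f' g' hsq.w F)

end stalks

end PBC0

end Groth.Agent.Lib.helper27
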