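import Mathlib
import Groth.Prelude.Def_CohTop
import Groth.Agent.Lib.Helper27.PBC0
import Groth.Agent.Lib.Helper27.HausMain

/-!
# Pullbacks of flasque sheaves restricted to fibres of a base-changed proper map are soft (helper27)
-/

set_option autoImplicit false
set_option backward.isDefEq.respectTransparency false
set_option linter.unusedVariables false
set_option linter.unusedSectionVars false

namespace Groth.Agent.Lib.helper27

open CategoryTheory Limits Opposite TopologicalSpace Topology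

universe u

namespace PBCSoft

open SpecLim HausSep

variable {X Y X' Y' : TopCat.{u}} {f : X ⟶ Y} {g : Y' ⟶ Y} {f' : X' ⟶ Y'} {g' : X' ⟶ X}
  (hsq : IsPullback g' f' f g) (hf : IsProperMap f)
  (hs : ∀ x x' : X, f x = f x' → x ≠ x' →
    ∃ U V : Set X, IsOpen U ∧ IsOpen V ∧ x ∈ U ∧ x' ∈ V ∧ Disjoint U V)

include hsq hf hs in
/-- a section of `g'⁻¹I` near a compact subset `C₁` of a fibre of `f'` agrees near `C₁` with the
pullback of a section of `I` defined near `g'(C₁)` -/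
theorem exists_descent (I : CohTop.Ab X) (y' : Y') (C₁ : Set X') (hC₁ : IsCompact C₁)
    (hC₁A : C₁ ⊆ f' ⁻¹' {y'}) (O' : Opens X') (hCO' : C₁ ⊆ (O' : Set X'))
    (σ' : ((CohTop.pull g').obj I).obj.obj (op O')) :
    ∃ (O : Opens X) (σ : I.obj.obj (op O)), g' '' C₁ ⊆ (O : Set X) ∧
      ∀ (z : X') (hz : z ∈ C₁) (h : g' z ∈ O),
        TopCat.Presheaf.germ ((CohTop.pull g').obj I).obj ((Opens.map g').obj O) z h (ρ g' I O σ) =
          TopCat.Presheaf.germ ((CohTop.pull g').obj I).obj O' z (hCO' hz) σ' := by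
  have hB : IsCompact (g' '' C₁) := hC₁.image g'.hom.continuous
  have hBA : g' '' C₁ ⊆ f ⁻¹' {g y'} := by
    rintro _ ⟨z, hz, rfl⟩
    change f (g' z) = g y'
    rw [PBCTop.w_apply hsq, hC₁A hz]
  have hsepA : Sep (f ⁻¹' {g y'} : Set X) := by
    intro x hx x' hx' hne
    have h1 : f x = g y' := hx
    have h2 : f x' = g y' := hx'
    exact hs x x' (h1.trans h2.symm) hne
  have hsep : Sep (g' '' C₁) := hsepA.mono hBA
  let P : ∀ O : Opens X, I.obj.obj (op O) → Prop := fun O σ =>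
    ∀ (z : X') (hz : z ∈ C₁) (h : g' z ∈ O),
      TopCat.Presheaf.germ ((CohTop.pull g').obj I).obj ((Opens.map g').obj O) z h (ρ g' I O σ) =
        TopCat.Presheaf.germ ((CohTop.pull g').obj I).obj O' z (hCO' hz) σ'
  refine HausGlue.exists_global I _ hB hsep P ?_ ?_ ?_ ?_ ?_
  · -- bot
    intro σ z hz h
    exact h.elim
  · -- local
    rintro b ⟨c, hc, rfl⟩
    obtain ⟨O₀, hcO₀, s₀, hgerm⟩ := PullGerm.exists_local_rep g' I O' σ' c (hCO' hc)
    obtain ⟨N', hcN', i1, i2, e⟩ := TopCat.Presheaf.germ_eq ((CohTop.pull g').obj I).obj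
      (U := O') (V := (Opens.map g').obj O₀) c (hCO' hc) hcO₀ σ' (ρ g' I O₀ s₀) hgerm
    -- separate `g' c` from the image of `C₁ \ N'`
    have hD : IsCompact (g' '' (C₁ \ (N' : Set X'))) :=
      (hC₁.diff N'.isOpen).image g'.hom.continuous
    have hDA : g' '' (C₁ \ (N' : Set X')) ⊆ f ⁻¹' {g y'} :=
      (Set.image_mono Set.sdiff_subset).trans hBA
    have hcD : g' c ∉ g' '' (C₁ \ (N' : Set X')) := by
      rintro ⟨z, ⟨hzC, hzN⟩, hzc⟩
      have : z = c := PBCTop.ext_pt hsq z c hzc ((hC₁A hzC).trans (hC₁A hc).symm)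
      exact hzN (this ▸ hcN')
    obtain ⟨U₁, U₂, hU₁, hU₂, hcU₁, hDU₂, hdisj⟩ :=
      point_compact hsepA (hBA ⟨c, hc, rfl⟩) hD hDA hcD
    refine ⟨O₀ ⊓ ⟨U₁, hU₁⟩, res I inf_le_left s₀, ⟨hcO₀, hcU₁⟩, ?_⟩
    intro z hz h
    have hzN' : z ∈ N' := by
      by_contra hzN
      have h1 : g' z ∈ U₂ := hDU₂ ⟨z, ⟨hz, hzN⟩, rfl⟩
      exact Set.disjoint_left.mp hdisj h.2 h1
    rw [PBC0.germ_ρ_res g' I inf_le_left s₀ z h]
    have e1 := TopCat.Presheaf.germ_res_apply ((CohTop.pull g').obj I).obj i2 z hzN'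
      (ρ g' I O₀ s₀)
    have e2 := TopCat.Presheaf.germ_res_apply ((CohTop.pull g').obj I).obj i1 z hzN' σ'
    rw [← e] at e1
    exact e1.symm.trans e2
  · -- restriction
    intro O O₂ h σ hP z hz h'
    rw [PBC0.germ_ρ_res g' I h σ z h']
    exact hP z hz (h h')
  · -- equality near points
    rintro O₁ O₂ σ₁ σ₂ hP₁ hP₂ b ⟨c, hc, rfl⟩ hb₁ hb₂
    have e1 := hP₁ c hc hb₁
    have e2 := hP₂ c hc hb₂
    have e3 : PullGerm.Φ g' I c (TopCat.Presheaf.germ I.obj O₁ (g' c) hb₁ σ₁) =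
        PullGerm.Φ g' I c (TopCat.Presheaf.germ I.obj O₂ (g' c) hb₂ σ₂) := by
      rw [PullGerm.germ_unit_apply, PullGerm.germ_unit_apply]
      exact e1.trans e2.symm
    have e4 := (PullGerm.Φ_bijective g' I c).1 e3
    obtain ⟨N, hxN, iU, iV, e⟩ := TopCat.Presheaf.germ_eq I.obj (g' c) hb₁ hb₂ σ₁ σ₂ e4
    exact ⟨N, iU.le, iV.le, hxN, e⟩
  · -- gluing
    intro O₁ O₂ σ hP₁ hP₂ z hz h
    rcases h with h | h
    · rw [← PBC0.germ_ρ_res g' I (le_sup_left : O₁ ≤ O₁ ⊔ O₂) σ z h]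
      exact hP₁ z hz h
    · rw [← PBC0.germ_ρ_res g' I (le_sup_right : O₂ ≤ O₁ ⊔ O₂) σ z h]
      exact hP₂ z hz h

include hsq hf hs in
/-- the restriction to a fibre of `f'` of the pullback of a flasque sheaf is soft -/
theorem isSoft_fibre (I : CohTop.Ab X) [hfl : TopCat.Sheaf.IsFlasque I] (y' : Y') :
    Soft.IsSoft (G (incl (f' ⁻¹' {y'} : Set X')) ((CohTop.pull g').obj I)) := by
  have hf' := PBCTop.isProperMap_base_change hsq hf
  have hA' : IsCompact (f' ⁻¹' {y'} : Set X') := hf'.isCompact_preimage isCompact_singleton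
  have hs' := PBCTop.separated_base_change hsq hs
  have hsepA' : Sep (f' ⁻¹' {y'} : Set X') := by
    intro x hx x' hx' hne
    have h1 : f' x = y' := hx
    have h2 : f' x' = y' := hx'
    exact hs' x x' (h1.trans h2.symm) hne
  have := HausMain.compactSpace_of (f' ⁻¹' {y'} : Set X') hA'
  intro C hC U hCU s
  let C₁ : Set X' := Subtype.val '' C
  have hC₁c : IsCompact C₁ := hC.isCompact.image continuous_subtype_val
  have hC₁A : C₁ ⊆ f' ⁻¹' {y'} := by
    rintro _ ⟨a, -, rfl⟩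
    exact a.2
  have hCU' : ∀ k : (f' ⁻¹' {y'} : Set X'), (k : X') ∈ C₁ → k ∈ U := by
    rintro k ⟨a, ha, hak⟩
    have : a = k := Subtype.ext hak
    rw [← this]
    exact hCU ha
  obtain ⟨O', hO', σ', hC₁O', hσ'⟩ := HausP0.exists_rep ((CohTop.pull g').obj I)
    (f' ⁻¹' {y'} : Set X') C₁ hC₁A hC₁c (hsepA'.mono hC₁A) U hCU' s
  obtain ⟨O, σ, hBO, hgerm⟩ := exists_descent hsq hf hs I y' C₁ hC₁c hC₁A O' hC₁O' σ'
  -- extend `σ` to a global section
  have hsurj := hfl.epi (homOfLE (le_top : O ≤ ⊤)).op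
  rw [AddCommGrpCat.epi_iff_surjective] at hsurj
  obtain ⟨τ, hτ⟩ := hsurj σ
  have hτ' : res I (le_top : O ≤ ⊤) τ = σ := hτ
  -- near each point of `C₁` the pullback of `τ` agrees with `σ'`
  have hloc : ∀ z : {z : X' // z ∈ C₁}, ∃ (M : Opens X') (hM : M ≤ O'), (z : X') ∈ M ∧
      res ((CohTop.pull g').obj I) (le_top : M ≤ (Opens.map g').obj ⊤) (ρ g' I ⊤ τ) =
        res ((CohTop.pull g').obj I) hM σ' := by
    intro z
    have hzO : g' z.1 ∈ O := hBO ⟨z.1, z.2, rfl⟩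
    have e1 := hgerm z.1 z.2 hzO
    have e2 := PBC0.germ_ρ_res g' I (le_top : O ≤ ⊤) τ z.1 hzO
    rw [hτ'] at e2
    obtain ⟨M, hzM, i1, i2, e⟩ := TopCat.Presheaf.germ_eq ((CohTop.pull g').obj I).obj
      (U := (Opens.map g').obj ⊤) (V := O') z.1 trivial (hC₁O' z.2) (ρ g' I ⊤ τ) σ'
      (e2.symm.trans e1)
    exact ⟨M, i2.le, hzM, e⟩
  choose M hM hzM hMeq using hloc
  have hM₀ : res ((CohTop.pull g').obj I) (le_top : (⨆ z, M z) ≤ (Opens.map g').obj ⊤)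
      (ρ g' I ⊤ τ) = res ((CohTop.pull g').obj I) (iSup_le hM) σ' := by
    refine TopCat.Sheaf.eq_of_locally_eq' (C := AddCommGrpCat.{u}) ((CohTop.pull g').obj I) M
      (⨆ z, M z) (fun z => homOfLE (le_iSup M z)) (le_refl _) _ _ (fun z => ?_)
    show res _ _ (res _ _ _) = res _ _ (res _ _ _)
    rw [res_res, res_res]
    exact hMeq z
  have htop : (⊤ : Opens (TopCat.of (f' ⁻¹' {y'} : Set X'))) ≤
      pre (f' ⁻¹' {y'} : Set X') ((Opens.map g').obj ⊤) := fun _ _ => trivial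
  refine ⟨pre (f' ⁻¹' {y'} : Set X') (⨆ z, M z),
    (pre_mono (f' ⁻¹' {y'} : Set X') (iSup_le hM)).trans hO', ?_,
    res (G (incl (f' ⁻¹' {y'} : Set X')) ((CohTop.pull g').obj I)) htop
      (ρ (incl (f' ⁻¹' {y'} : Set X')) ((CohTop.pull g').obj I) ((Opens.map g').obj ⊤)
        (ρ g' I ⊤ τ)), ?_⟩
  · intro a ha
    exact Opens.mem_iSup.2 ⟨⟨a.1, a, ha, rfl⟩, hzM ⟨a.1, a, ha, rfl⟩⟩
  · rw [res_res]
    have h1 := ρ_res (incl (f' ⁻¹' {y'} : Set X')) ((CohTop.pull g').obj I)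
      (le_top : (⨆ z, M z) ≤ (Opens.map g').obj ⊤) (ρ g' I ⊤ τ)
    have h2 := ρ_res (incl (f' ⁻¹' {y'} : Set X')) ((CohTop.pull g').obj I)
      (iSup_le hM : (⨆ z, M z) ≤ O') σ'
    rw [hM₀, h2, hσ', res_res] at h1
    exact h1.symm

end PBCSoft

end Groth.Agent.Lib.helper27
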