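import Mathlib
import Groth.Prelude.Def_CohTop
import Groth.Agent.Lib.Helper27.PBCSoft
import Groth.Agent.Lib.Helper27.HausPBC
import Groth.Agent.Lib.Helper27.DeltaSeq

/-!
# Proper base change for abelian sheaves on topological spaces, sheaf version (helper27)
-/

set_option autoImplicit false
set_option backward.isDefEq.respectTransparency false
set_option linter.unusedVariables false
set_option linter.unusedSectionVars false

namespace Groth.Agent.Lib.helper27

open CategoryTheory Limits Opposite TopologicalSpace Topology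

universe u

namespace PBCMain

open SpecLim HausSep

/-- an abelian sheaf all of whose stalks vanish is zero -/
lemma isZero_of_stalks {Y : TopCat.{u}} (G : CohTop.Ab Y)
    (h : ∀ y : Y, IsZero (CohTop.stalk G y)) : IsZero G := by
  rw [IsZero.iff_id_eq_zero]
  apply Sheaf.hom_ext
  ext U s
  refine TopCat.Presheaf.section_ext G U.unop _ _ (fun y hy => ?_)
  have := AddCommGrpCat.subsingleton_of_isZero (h y)
  exact Subsingleton.elim _ _

section

variable {X Y X' Y' : TopCat.{u}} {f : X ⟶ Y} {g : Y' ⟶ Y} {f' : X' ⟶ Y'} {g' : X' ⟶ X}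
  (hsq : IsPullback g' f' f g) (hf : IsProperMap f)
  (hs : ∀ x x' : X, f x = f x' → x ≠ x' →
    ∃ U V : Set X, IsOpen U ∧ IsOpen V ∧ x ∈ U ∧ x' ∈ V ∧ Disjoint U V)

include hsq hf hs in
/-- pullbacks of injective sheaves are acyclic for the base-changed map -/
theorem isZero_Rpush_pull (I : CohTop.Ab X) [Injective I] (i : ℕ) :
    IsZero ((CohTop.Rpush f' (i + 1)).obj ((CohTop.pull g').obj I)) := by
  have hfl : TopCat.Sheaf.IsFlasque I := Groth.Agent.S0454.result I
  have hf' := PBCTop.isProperMap_base_change hsq hf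
  have hs' := PBCTop.separated_base_change hsq hs
  refine isZero_of_stalks _ (fun y' => ?_)
  obtain ⟨e⟩ := HausMain.stalk_Rpush f' y' hf' hs' ((CohTop.pull g').obj I) (i + 1)
  refine IsZero.of_iso ?_ e
  have hA' : IsCompact (f' ⁻¹' {y'} : Set X') := hf'.isCompact_preimage isCompact_singleton
  have hsepA' : Sep (f' ⁻¹' {y'} : Set X') := by
    intro x hx x' hx' hne
    have h1 : f' x = y' := hx
    have h2 : f' x' = y' := hx'
    exact hs' x x' (h1.trans h2.symm) hne
  have := HausMain.compactSpace_of (f' ⁻¹' {y'} : Set X') hA'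
  have := HausMain.t2Space_of (f' ⁻¹' {y'} : Set X') hsepA'
  have hsub := Soft.subsingleton_H_of_isSoft _ (PBCSoft.isSoft_fibre hsq hf hs I y') i
  exact AddCommGrpCat.isZero_of_subsingleton _

end

section nat

variable {X' Y : TopCat.{u}}

lemma κ_naturality {h₁ h₂ : X' ⟶ Y} (e : h₁ = h₂) {G₁ G₂ : CohTop.Ab X'} (n : G₁ ⟶ G₂) :
    (CohTop.push h₁).map n ≫ PBC0.κ e G₂ = PBC0.κ e G₁ ≫ (CohTop.push h₂).map n := by
  subst e
  have h1 : PBC0.κ (rfl : h₁ = h₁) G₁ = 𝟙 _ := rfl
  have h2 : PBC0.κ (rfl : h₁ = h₁) G₂ = 𝟙 _ := rfl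
  rw [h1, h2, Category.comp_id, Category.id_comp]

end nat

section

variable {X Y X' Y' : TopCat.{u}} (f : X ⟶ Y) (g : Y' ⟶ Y) (f' : X' ⟶ Y') (g' : X' ⟶ X)
  (w : g' ≫ f = f' ≫ g)

lemma φ_naturality {F₁ F₂ : CohTop.Ab X} (m : F₁ ⟶ F₂) :
    (CohTop.push f).map m ≫ PBC0.φ f g f' g' w F₂ =
      PBC0.φ f g f' g' w F₁ ≫
        (CohTop.push g).map ((CohTop.push f').map ((CohTop.pull g').map m)) := by
  unfold PBC0.φ
  have h1 := (PullConst.pbAdj g').unit.naturality m
  have h2 := κ_naturality (h₁ := g' ≫ f) (h₂ := f' ≫ g) w ((CohTop.pull g').map m)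
  have h3 : (CohTop.push f).map m ≫ (CohTop.push f).map ((PullConst.pbAdj g').unit.app F₂) =
      (CohTop.push f).map ((PullConst.pbAdj g').unit.app F₁) ≫
        (CohTop.push (g' ≫ f)).map ((CohTop.pull g').map m) := by
    rw [← Functor.map_comp]
    have : m ≫ (PullConst.pbAdj g').unit.app F₂ = (PullConst.pbAdj g').unit.app F₁ ≫
        (CohTop.push g').map ((CohTop.pull g').map m) := h1
    rw [this, Functor.map_comp]
    rfl
  rw [← Category.assoc, h3, Category.assoc, h2, Category.assoc]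
  rfl

lemma β_naturality {F₁ F₂ : CohTop.Ab X} (m : F₁ ⟶ F₂) :
    (CohTop.pull g).map ((CohTop.push f).map m) ≫ PBC0.β f g f' g' w F₂ =
      PBC0.β f g f' g' w F₁ ≫ (CohTop.push f').map ((CohTop.pull g').map m) := by
  unfold PBC0.β
  rw [← Adjunction.homEquiv_naturality_left_symm, ← Adjunction.homEquiv_naturality_right_symm,
    φ_naturality]

end

section

variable {X Y X' Y' : TopCat.{u}} {f : X ⟶ Y} {g : Y' ⟶ Y} {f' : X' ⟶ Y'} {g' : X' ⟶ X}
  (hsq : IsPullback g' f' f g) (hf : IsProperMap f)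
  (hs : ∀ x x' : X, f x = f x' → x ≠ x' →
    ∃ U V : Set X, IsOpen U ∧ IsOpen V ∧ x ∈ U ∧ x' ∈ V ∧ Disjoint U V)

include hf hs in
/-- the base change isomorphism in degree zero, objectwise -/
noncomputable def βIsoApp (F : CohTop.Ab X) :
    (CohTop.pull g).obj ((CohTop.push f).obj F) ≅ (CohTop.push f').obj ((CohTop.pull g').obj F) :=
  haveI := PBC0.isIso_β f g f' g' hsq hf hs F
  asIso (PBC0.β f g f' g' hsq.w F)

include hf hs in
/-- the base change isomorphism in degree zero -/
noncomputable def βIso : CohTop.push f ⋙ CohTop.pull g ≅ CohTop.pull g' ⋙ CohTop.push f' :=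
  NatIso.ofComponents (fun F => βIsoApp hsq hf hs F)
    (fun m => β_naturality f g f' g' hsq.w m)

instance (h : X ⟶ Y) : PreservesFiniteLimits (CohTop.push h) := by
  have : PreservesLimits (CohTop.push h) := PushComp.push_preservesLimits h
  infer_instance

include hsq hf hs in
/-- **Proper base change** (S0486) -/
theorem proper_base_change (F : CohTop.Ab X) (p : ℕ) :
    Nonempty ((CohTop.pull g).obj ((CohTop.Rpush f p).obj F) ≅
      (CohTop.Rpush f' p).obj ((CohTop.pull g').obj F)) := by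
  have hT := (DeltaSeq.isExSeq_rightDerived (CohTop.push f)).comp (CohTop.pull g)
  have hT' := (DeltaSeq.isExSeq_rightDerived (CohTop.push f')).precomp (CohTop.pull g')
    (fun I hI i => isZero_Rpush_pull hsq hf hs I i)
  let e₀ : (CohTop.push f).rightDerived 0 ⋙ CohTop.pull g ≅
      CohTop.pull g' ⋙ (CohTop.push f').rightDerived 0 :=
    Functor.isoWhiskerRight (CohTop.push f).rightDerivedZeroIsoSelf (CohTop.pull g) ≪≫
      βIso hsq hf hs ≪≫
      Functor.isoWhiskerLeft (CohTop.pull g') (CohTop.push f').rightDerivedZeroIsoSelf.symm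
  exact DeltaSeq.iso hT hT' e₀ p F

end

end PBCMain

end Groth.Agent.Lib.helper27
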