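import Mathlib
import Groth.Agent.S0012
import Groth.Agent.S0032
import Groth.Agent.S11319
import Groth.Agent.Lib.Helper27.RpushVanish
import Groth.Agent.Lib.Helper11.HUOpen
import Groth.Agent.Lib.Helper21.ModOpenBC2
import Groth.Agent.Lib.Helper7.QCohPushQC

set_option autoImplicit false
set_option linter.style.haveILetI false

namespace Groth.Agent.Lib.helper27.BCVan

open CategoryTheory Limits Opposite TopologicalSpace AlgebraicGeometry Scheme.Modules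

universe u

variable {X Y : Scheme.{u}} (f : X ⟶ Y)

open Groth.Agent.Lib.helper21.ModOpenBC in
/-- Step 3 -/
theorem subsingleton_HH_preimage_affine [QuasiCompact f] [QuasiSeparatedSpace X]
    (i : ℕ)
    (hvan : ∀ (M : X.Modules), Coh.IsQCoh M → IsZero ((Coh.RpushAb f i).obj (Coh.toAb M)))
    (V : Y.Opens) (hV : IsAffineOpen V) (P : (↑(f ⁻¹ᵁ V) : Scheme.{u}).Modules)
    [P.IsQuasicoherent] :
    Subsingleton (Coh.HH (↑(f ⁻¹ᵁ V) : Scheme.{u}) P i) := by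
  haveI : IsAffine (↑V : Scheme.{u}) := hV
  haveI : CompactSpace (↑(f ⁻¹ᵁ V) : Scheme.{u}) :=
    isCompact_iff_compactSpace.1 (f.isCompact_preimage hV.isCompact)
  haveI : QuasiCompact (f ⁻¹ᵁ V).ι := quasiCompact_of_compactSpace _
  haveI : QuasiSeparated (f ⁻¹ᵁ V).ι := inferInstance
  have hM : ((Scheme.Modules.pushforward (f ⁻¹ᵁ V).ι).obj P).IsQuasicoherent :=
    Groth.Agent.Lib.helper7.QCohPushQC.isQuasicoherent_pushforward _ P
  set M := (Scheme.Modules.pushforward (f ⁻¹ᵁ V).ι).obj P with hMdef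
  have h1 := hvan M hM
  obtain ⟨e1⟩ := Groth.Agent.S11319.result f M i
  have h2 : IsZero ((Coh.Rpush f i).obj M) :=
    isZero_of_isZero_toSheaf _ (IsZero.of_iso h1 e1)
  obtain ⟨e2⟩ := nonempty_restrict_rpush_iso f V M i
  have h3 : IsZero ((Coh.Rpush (f ∣_ V) i).obj ((restrictFunctor (f ⁻¹ᵁ V).ι).obj M)) :=
    IsZero.of_iso (Functor.map_isZero _ h2) e2.symm
  have e3 : (restrictFunctor (f ⁻¹ᵁ V).ι).obj M ≅ P :=
    asIso ((restrictAdjunction (f ⁻¹ᵁ V).ι).counit.app P)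
  have h4 : IsZero ((Coh.Rpush (f ∣_ V) i).obj P) :=
    IsZero.of_iso h3 ((Coh.Rpush (f ∣_ V) i).mapIso e3.symm)
  obtain ⟨e4⟩ := Groth.Agent.S11319.result (f ∣_ V) P i
  have h5 : IsZero ((Coh.RpushAb (f ∣_ V) i).obj (Coh.toAb P)) :=
    IsZero.of_iso (Functor.map_isZero _ h4) e4.symm
  haveI : QuasiCompact (f ∣_ V) := inferInstance
  haveI : QuasiSeparatedSpace (↑(f ⁻¹ᵁ V) : Scheme.{u}) :=
    quasiSeparatedSpace_of_quasiSeparated (f ⁻¹ᵁ V).ι
  haveI : QuasiSeparated (f ∣_ V) := QuasiSeparated.of_quasiSeparatedSpace _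
  obtain ⟨e5⟩ := Groth.Agent.S0032.result (f ∣_ V) P i
  have h6 : IsZero (((Coh.RpushAb (f ∣_ V) i).obj (Coh.toAb P)).obj.obj (op ⊤)) :=
    Functor.map_isZero ((sheafSections _ _).obj (op ⊤)) h5
  haveI := AddCommGrpCat.subsingleton_of_isZero h6
  exact e5.toEquiv.subsingleton


variable {X' Y' : Scheme.{u}} {f} {g : Y' ⟶ Y} {f' : X' ⟶ Y'} {g' : X' ⟶ X}

lemma preimage_le (sq : IsPullback g' f' f g) (V : Y.Opens) (V' : Y'.Opens) (hle : V' ≤ g ⁻¹ᵁ V) :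
    f' ⁻¹ᵁ V' ≤ g' ⁻¹ᵁ (f ⁻¹ᵁ V) := by
  intro x hx
  have h1 : g (f' x) ∈ V := hle hx
  have h2 : f (g' x) = g (f' x) := by
    rw [← Scheme.Hom.comp_apply, ← Scheme.Hom.comp_apply, sq.w]
  show f (g' x) ∈ V
  rw [h2]; exact h1

lemma isPullback_resLE (sq : IsPullback g' f' f g) (V : Y.Opens) (V' : Y'.Opens)
    (hle : V' ≤ g ⁻¹ᵁ V) :
    IsPullback (f' ∣_ V') (g'.resLE (f ⁻¹ᵁ V) (f' ⁻¹ᵁ V') (preimage_le sq V V' hle))
      (g.resLE V V' hle) (f ∣_ V) := by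
  have big := (isPullback_morphismRestrict f' V').paste_vert sq.flip
  have bot := isPullback_morphismRestrict f V
  have e1 : g'.resLE (f ⁻¹ᵁ V) (f' ⁻¹ᵁ V') (preimage_le sq V V' hle) ≫ (f ⁻¹ᵁ V).ι =
      (f' ⁻¹ᵁ V').ι ≫ g' := Scheme.Hom.resLE_comp_ι _ _
  have e2 : g.resLE V V' hle ≫ V.ι = V'.ι ≫ g := Scheme.Hom.resLE_comp_ι _ _
  rw [← e1, ← e2] at big
  refine IsPullback.of_bot big ?_ bot
  rw [← cancel_mono V.ι]
  simp only [Category.assoc, e2]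
  rw [morphismRestrict_ι, reassoc_of% e1, morphismRestrict_ι_assoc, sq.w]


theorem subsingleton_HHon_preimage [QuasiCompact f] [QuasiSeparatedSpace X]
    (sq : IsPullback g' f' f g) (i : ℕ)
    (hvan : ∀ (M : X.Modules), Coh.IsQCoh M → IsZero ((Coh.RpushAb f i).obj (Coh.toAb M)))
    (V : Y.Opens) (hV : IsAffineOpen V) (V' : Y'.Opens) (hV' : IsAffineOpen V')
    (hle : V' ≤ g ⁻¹ᵁ V) (M' : X'.Modules) [M'.IsQuasicoherent] :
    Subsingleton (Coh.HHon X' M' (f' ⁻¹ᵁ V') i) := by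
  haveI : IsAffine (↑V : Scheme.{u}) := hV
  haveI : IsAffine (↑V' : Scheme.{u}) := hV'
  have hpb := isPullback_resLE sq V V' hle
  set h := g'.resLE (f ⁻¹ᵁ V) (f' ⁻¹ᵁ V') (preimage_le sq V V' hle) with hh
  haveI : IsAffineHom (g.resLE V V' hle) := inferInstance
  haveI : IsAffineHom h := MorphismProperty.of_isPullback (P := @IsAffineHom) hpb inferInstance
  haveI : (M'.restrict (f' ⁻¹ᵁ V').ι).IsQuasicoherent := inferInstance
  haveI hP : ((Scheme.Modules.pushforward h).obj (M'.restrict (f' ⁻¹ᵁ V').ι)).IsQuasicoherent :=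
    Groth.Agent.Lib.helper7.QCohPushQC.isQuasicoherent_pushforward h _
  obtain ⟨e⟩ := Groth.Agent.S0012.result h (M'.restrict (f' ⁻¹ᵁ V').ι) i
  haveI := subsingleton_HH_preimage_affine f i hvan V hV
    ((Scheme.Modules.pushforward h).obj (M'.restrict (f' ⁻¹ᵁ V').ι))
  exact e.toEquiv.subsingleton

theorem main [QuasiCompact f] [QuasiSeparatedSpace X]
    (sq : IsPullback g' f' f g) (i : ℕ)
    (hvan : ∀ (M : X.Modules), Coh.IsQCoh M → IsZero ((Coh.RpushAb f i).obj (Coh.toAb M)))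
    (M' : X'.Modules) [M'.IsQuasicoherent] :
    IsZero ((Coh.RpushAb f' i).obj (Coh.toAb M')) := by
  obtain ⟨e⟩ := RpushSheafify.rpush_iso_top f'.base (Coh.toAb M') i
  refine IsZero.of_iso ?_ e
  apply RpushVanish.isZero_sheafify_of_locally_subsingleton
  intro W y hy
  obtain ⟨V, hV, hyV, -⟩ := (Opens.isBasis_iff_nbhd.1 Y.isBasis_affineOpens)
    (show g y ∈ (⊤ : Y.Opens) from trivial)
  have hy' : y ∈ W ⊓ g ⁻¹ᵁ V := ⟨hy, hyV⟩
  obtain ⟨V', hV', hyV', hV'W⟩ := (Opens.isBasis_iff_nbhd.1 Y'.isBasis_affineOpens) hy'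
  refine ⟨V', hV'W.trans inf_le_left, hyV', ?_⟩
  exact Groth.Agent.Lib.helper11.HUOpen.subsingleton_HU_of_HHon M' (f' ⁻¹ᵁ V') i
    (subsingleton_HHon_preimage sq i hvan V hV V' hV' (hV'W.trans inf_le_right) M')

end Groth.Agent.Lib.helper27.BCVan
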