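import Mathlib
import Groth.Prelude.Def_DeltaF
import Groth.Agent.Lib.Helper27.DeltaF

set_option linter.unusedSectionVars false
set_option linter.unusedVariables false

namespace Groth.Agent.Lib.helper27

open CategoryTheory Limits DeltaF

universe v u w

section

variable {C : Type u} [Category.{v} C] [Abelian C]
variable {T T' : CohDeltaFunctor C AddCommGrpCat.{w} ℕ} (φ : T ⟶ T')

namespace abD

lemma comp_apply' {X Y Z : AddCommGrpCat.{w}} (f : X ⟶ Y) (g : Y ⟶ Z) (x : X) :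
    (f ≫ g) x = g (f x) := rfl

variable (T)

lemma ex1 (q : ℕ) (S : ShortComplex C) (hS : S.ShortExact) (x : (T.F (q + 1)).obj S.X₁)
    (hx : (T.F (q + 1)).map S.f x = 0) : ∃ y, T.δ S hS q (q + 1) rfl y = x :=
  (ShortComplex.ab_exact_iff _).1 (T.exact₁ S hS q (q + 1) rfl) x hx

lemma ex2 (q : ℕ) (S : ShortComplex C) (hS : S.ShortExact) (x : (T.F q).obj S.X₂)
    (hx : (T.F q).map S.g x = 0) : ∃ y, (T.F q).map S.f y = x :=
  (ShortComplex.ab_exact_iff _).1 (T.exact₂ S hS q) x hx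

lemma ex3 (q : ℕ) (S : ShortComplex C) (hS : S.ShortExact) (x : (T.F q).obj S.X₃)
    (hx : T.δ S hS q (q + 1) rfl x = 0) : ∃ y, (T.F q).map S.g y = x :=
  (ShortComplex.ab_exact_iff _).1 (T.exact₃ S hS q (q + 1) rfl) x hx

lemma z12 (q : ℕ) (S : ShortComplex C) (hS : S.ShortExact) (x : (T.F q).obj S.X₁) :
    (T.F q).map S.g ((T.F q).map S.f x) = 0 := by
  rw [← comp_apply', ← Functor.map_comp, S.zero, Functor.map_zero]; rfl

lemma z23 (q : ℕ) (S : ShortComplex C) (hS : S.ShortExact) (x : (T.F q).obj S.X₂) :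
    T.δ S hS q (q + 1) rfl ((T.F q).map S.g x) = 0 := by
  rw [← comp_apply', T.comp_δ]; rfl

lemma z31 (q : ℕ) (S : ShortComplex C) (hS : S.ShortExact) (x : (T.F q).obj S.X₃) :
    (T.F (q + 1)).map S.f (T.δ S hS q (q + 1) rfl x) = 0 := by
  rw [← comp_apply', T.δ_comp]; rfl

variable {T}

lemma nat (q : ℕ) {X Y : C} (f : X ⟶ Y) (x : (T.F q).obj X) :
    (φ.app q).app Y ((T.F q).map f x) = (T'.F q).map f ((φ.app q).app X x) := by
  rw [← comp_apply', ← comp_apply', (φ.app q).naturality f]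

lemma natδ (q : ℕ) (S : ShortComplex C) (hS : S.ShortExact) (x : (T.F q).obj S.X₃) :
    (φ.app (q + 1)).app S.X₁ (T.δ S hS q (q + 1) rfl x) =
      T'.δ S hS q (q + 1) rfl ((φ.app q).app S.X₃ x) := by
  rw [← comp_apply', ← comp_apply', φ.comm S hS q (q + 1) rfl]

lemma mono_step (q : ℕ) (S : ShortComplex C) (hS : S.ShortExact)
    (h2 : Function.Surjective ((φ.app q).app S.X₂)) (h3 : Function.Injective ((φ.app q).app S.X₃))
    (α : (T.F (q + 1)).obj S.X₁) (hα : (φ.app (q + 1)).app S.X₁ α = 0)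
    (hα2 : (T.F (q + 1)).map S.f α = 0) : α = 0 := by
  obtain ⟨β, rfl⟩ := ex1 T q S hS α hα2
  rw [natδ] at hα
  obtain ⟨γ', hγ'⟩ := ex3 T' q S hS _ hα
  obtain ⟨γ, rfl⟩ := h2 γ'
  rw [← nat] at hγ'
  rw [← h3 hγ', z23]

lemma epi_step (q : ℕ) (S : ShortComplex C) (hS : S.ShortExact)
    (h3 : Function.Surjective ((φ.app q).app S.X₃))
    (α' : (T'.F (q + 1)).obj S.X₁) (m : (T.F (q + 1)).obj S.X₂)
    (hm : (φ.app (q + 1)).app S.X₂ m = (T'.F (q + 1)).map S.f α')
    (hm2 : (T.F (q + 1)).map S.g m = 0) : ∃ α, (φ.app (q + 1)).app S.X₁ α = α' := by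
  obtain ⟨a₀, rfl⟩ := ex2 T (q + 1) S hS m hm2
  have he : (T'.F (q + 1)).map S.f (α' - (φ.app (q + 1)).app S.X₁ a₀) = 0 := by
    rw [map_sub, ← nat, hm, sub_self]
  obtain ⟨z', hz'⟩ := ex1 T' q S hS _ he
  obtain ⟨z, rfl⟩ := h3 z'
  refine ⟨a₀ + T.δ S hS q (q + 1) rfl z, ?_⟩
  rw [map_add, natδ, hz']
  abel

lemma mono0 (S : ShortComplex C) (hS : S.ShortExact)
    (h1 : Function.Injective ((T.F 0).map S.f)) (h2 : Function.Injective ((φ.app 0).app S.X₂)) :
    Function.Injective ((φ.app 0).app S.X₁) := by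
  intro a b hab
  apply h1
  apply h2
  rw [nat, nat, hab]

lemma epi0 (S : ShortComplex C) (hS : S.ShortExact)
    (h1 : Function.Injective ((T'.F 0).map S.f)) (h2 : Function.Surjective ((φ.app 0).app S.X₂))
    (h3 : Function.Injective ((φ.app 0).app S.X₃)) :
    Function.Surjective ((φ.app 0).app S.X₁) := by
  intro α'
  obtain ⟨m, hm⟩ := h2 ((T'.F 0).map S.f α')
  have hm2 : (T.F 0).map S.g m = 0 := by
    apply h3
    rw [nat, hm, z12 T' 0 S hS, map_zero]
  obtain ⟨a₀, rfl⟩ := ex2 T 0 S hS m hm2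
  refine ⟨a₀, h1 ?_⟩
  rw [← nat, hm]

end abD

lemma ab_isIso_iff {X Y : AddCommGrpCat.{w}} (f : X ⟶ Y) :
    IsIso f ↔ Function.Injective f ∧ Function.Surjective f := by
  rw [ConcreteCategory.isIso_iff_bijective]
  rfl

/-- the inductive step: injectivity in degree `q+1` from elementwise effaceability -/
lemma abD.inj_succ
    (hT : ∀ (q : ℕ) (A : C) (α : (T.F (q + 1)).obj A),
      ∃ (M : C) (u : A ⟶ M), Mono u ∧ (T.F (q + 1)).map u α = 0) (q : ℕ)
    (hq : ∀ A : C, Function.Bijective ((φ.app q).app A)) (A : C) :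
    Function.Injective ((φ.app (q + 1)).app A) := by
  rw [injective_iff_map_eq_zero]
  intro α hα
  obtain ⟨M, u, hu, hu0⟩ := hT q A α
  exact abD.mono_step φ q (cokerSES u) (cokerSES_shortExact u) (hq _).2 (hq _).1 α hα hu0

theorem deltaFunctor_hom_isIso_iff_of_effaceable (hT0 : T.ZeroMono) (hT'0 : T'.ZeroMono)
    (hT : ∀ (q : ℕ) (A : C) (α : (T.F (q + 1)).obj A),
      ∃ (M : C) (u : A ⟶ M), Mono u ∧ (T.F (q + 1)).map u α = 0)
    (E : ObjectProperty C)
    (hE : ∀ A : C, ∃ (M : C) (i : A ⟶ M), Mono i ∧ E M) :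
    ((∀ (q : ℕ) (A : C), IsIso ((φ.app q).app A)) ↔
      ((∀ M : C, E M → IsIso ((φ.app 0).app M)) ∧
        ∀ (q : ℕ) (M : C), E M → Epi ((φ.app (q + 1)).app M))) ∧
    ((∀ (q : ℕ) (A : C), IsIso ((φ.app q).app A)) ↔
      ((∀ A : C, IsIso ((φ.app 0).app A)) ∧
        ∀ (q : ℕ) (A : C) (α : (T'.F (q + 1)).obj A),
          ∃ (M : C) (u : A ⟶ M), Mono u ∧ (T'.F (q + 1)).map u α = 0)) := by
  simp only [ab_isIso_iff, AddCommGrpCat.epi_iff_surjective]
  have hm : ∀ (S : ShortComplex C), S.ShortExact → Function.Injective ((T.F 0).map S.f) := by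
    intro S hS
    exact (AddCommGrpCat.mono_iff_injective _).1 (hT0 S hS)
  have hm' : ∀ (S : ShortComplex C), S.ShortExact → Function.Injective ((T'.F 0).map S.f) := by
    intro S hS
    exact (AddCommGrpCat.mono_iff_injective _).1 (hT'0 S hS)
  refine ⟨⟨fun h => ⟨fun M _ => h 0 M, fun q M _ => (h (q + 1) M).2⟩, ?_⟩,
    ⟨fun h => ⟨fun A => h 0 A, ?_⟩, ?_⟩⟩
  · rintro ⟨h1, h2⟩
    have hA : ∀ A : C, Function.Injective ((φ.app 0).app A) := by
      intro A
      obtain ⟨M, i, hi, hM⟩ := hE A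
      exact abD.mono0 φ (cokerSES i) (cokerSES_shortExact i) (hm _ (cokerSES_shortExact i))
        (h1 M hM).1
    have hB : ∀ A : C, Function.Surjective ((φ.app 0).app A) := by
      intro A
      obtain ⟨M, i, hi, hM⟩ := hE A
      exact abD.epi0 φ (cokerSES i) (cokerSES_shortExact i) (hm' _ (cokerSES_shortExact i))
        (h1 M hM).2 (hA _)
    intro q
    induction q with
    | zero => exact fun A => ⟨hA A, hB A⟩
    | succ q ih =>
      have hC1 := abD.inj_succ φ hT q ih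
      intro A
      refine ⟨hC1 A, ?_⟩
      obtain ⟨M, i, hi, hM⟩ := hE A
      intro α'
      obtain ⟨m, hm⟩ := h2 q M hM ((T'.F (q + 1)).map i α')
      refine abD.epi_step φ q (cokerSES i) (cokerSES_shortExact i) (ih _).2 α' m hm ?_
      apply hC1
      rw [abD.nat, map_zero]
      erw [hm]
      exact abD.z12 T' (q + 1) (cokerSES i) (cokerSES_shortExact i) α'
  · intro q A α'
    obtain ⟨α, rfl⟩ := (h (q + 1) A).2 α'
    obtain ⟨M, u, hu, hu0⟩ := hT q A α
    refine ⟨M, u, hu, ?_⟩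
    rw [← abD.nat, hu0, map_zero]
  · rintro ⟨h1, h2⟩
    intro q
    induction q with
    | zero => exact h1
    | succ q ih =>
      intro A
      refine ⟨abD.inj_succ φ hT q ih A, ?_⟩
      intro α'
      obtain ⟨M, u, hu, hu0⟩ := h2 q A α'
      refine abD.epi_step φ q (cokerSES u) (cokerSES_shortExact u) (ih _).2 α' 0 ?_ (map_zero _)
      rw [map_zero]
      exact hu0.symm

end

end Groth.Agent.Lib.helper27
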