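import Mathlib
import Groth.Prelude.Def_DeltaF
import Groth.Agent.Lib.Helper27.DeltaF3

set_option linter.unusedSectionVars false
set_option linter.unusedVariables false

namespace Groth.Agent.Lib.helper27

open CategoryTheory Limits DeltaF

universe v u w

section

variable {J : Type v} [SmallCategory J] [IsFiltered J]

instance : IsFiltered (AsSmall.{w} J) :=
  IsFiltered.of_equivalence (AsSmall.equiv : J ≌ AsSmall.{w} J)

lemma ab_forget_preservesColimitsOfShape :
    PreservesColimitsOfShape J (forget AddCommGrpCat.{max w v}) := by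
  have : PreservesColimitsOfShape (AsSmall.{w} J)
    (forget AddCommGrpCat.{max w v}) := inferInstance
  exact preservesColimitsOfShape_of_equiv (AsSmall.equiv : J ≌ AsSmall.{w} J).symm _

/-- the forgetful functor of abelian groups (any universe) preserves small filtered colimits of
any size, provided they exist -/
lemma ab_forget_preservesColimit (D : J ⥤ AddCommGrpCat.{w}) (c : Cocone D) (hc : IsColimit c) :
    Nonempty (IsColimit ((forget AddCommGrpCat.{w}).mapCocone c)) := by
  have : PreservesColimitsOfShape J (forget AddCommGrpCat.{max w v}) :=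
    ab_forget_preservesColimitsOfShape
  have h1 : IsColimit (AddCommGrpCat.uliftFunctor.{v, w}.mapCocone c) :=
    isColimitOfPreserves _ hc
  have h2 : IsColimit ((forget AddCommGrpCat.{max w v}).mapCocone
      (AddCommGrpCat.uliftFunctor.{v, w}.mapCocone c)) := isColimitOfPreserves _ h1
  have h3 : IsColimit (CategoryTheory.uliftFunctor.{v, w}.mapCocone
      ((forget AddCommGrpCat.{w}).mapCocone c)) := h2
  exact ⟨isColimitOfReflects CategoryTheory.uliftFunctor.{v, w} h3⟩

lemma ab_colimit_exists_rep (D : J ⥤ AddCommGrpCat.{w}) (c : Cocone D) (hc : IsColimit c)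
    (x : c.pt) : ∃ (j : J) (y : D.obj j), c.ι.app j y = x := by
  obtain ⟨h⟩ := ab_forget_preservesColimit D c hc
  exact Types.jointly_surjective_of_isColimit h x

lemma ab_colimit_eq_zero (D : J ⥤ AddCommGrpCat.{w}) (c : Cocone D) (hc : IsColimit c)
    (j : J) (y : D.obj j) (hy : c.ι.app j y = 0) : ∃ (k : J) (f : j ⟶ k), D.map f y = 0 := by
  obtain ⟨h⟩ := ab_forget_preservesColimit D c hc
  have := (Types.FilteredColimit.isColimit_eq_iff' h (i := j) y (0 : D.obj j)).1 (by
    change c.ι.app j y = c.ι.app j 0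
    rw [hy, map_zero])
  obtain ⟨k, f, hf⟩ := this
  refine ⟨k, f, ?_⟩
  change D.map f y = D.map f 0 at hf
  rw [hf, map_zero]

variable {C : Type u} [Category.{v} C]

lemma ab_transfer_injective {G G' : C ⥤ AddCommGrpCat.{w}} (α : G ⟶ G') {K : J ⥤ C} (c : Cocone K)
    (hG : IsColimit (G.mapCocone c)) (hG' : IsColimit (G'.mapCocone c))
    (h : ∀ j, Function.Injective (α.app (K.obj j))) : Function.Injective (α.app c.pt) := by
  rw [injective_iff_map_eq_zero]
  intro x hx
  obtain ⟨j, y, rfl⟩ := ab_colimit_exists_rep _ _ hG x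
  change (G.map (c.ι.app j) ≫ α.app c.pt) y = 0 at hx
  rw [show G.map (c.ι.app j) ≫ α.app c.pt = α.app (K.obj j) ≫ G'.map (c.ι.app j) from
    α.naturality (c.ι.app j)] at hx
  obtain ⟨k, f, hf⟩ := ab_colimit_eq_zero _ _ hG' j (α.app _ y) hx
  change (α.app (K.obj j) ≫ G'.map (K.map f)) y = 0 at hf
  rw [← α.naturality] at hf
  have h0 : G.map (K.map f) y = 0 := by
    apply h k
    rw [map_zero]
    exact hf
  change G.map (c.ι.app j) y = 0
  rw [← c.w f, Functor.map_comp]
  change G.map (c.ι.app k) (G.map (K.map f) y) = 0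
  rw [h0, map_zero]

lemma ab_transfer_surjective {G G' : C ⥤ AddCommGrpCat.{w}} (α : G ⟶ G') {K : J ⥤ C} (c : Cocone K)
    (hG' : IsColimit (G'.mapCocone c))
    (h : ∀ j, Function.Surjective (α.app (K.obj j))) : Function.Surjective (α.app c.pt) := by
  intro x'
  obtain ⟨j, y', rfl⟩ := ab_colimit_exists_rep _ _ hG' x'
  obtain ⟨y, rfl⟩ := h j y'
  refine ⟨G.map (c.ι.app j) y, ?_⟩
  change (G.map (c.ι.app j) ≫ α.app c.pt) y = (α.app (K.obj j) ≫ G'.map (c.ι.app j)) y
  rw [show G.map (c.ι.app j) ≫ α.app c.pt = α.app (K.obj j) ≫ G'.map (c.ι.app j) from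
    α.naturality (c.ι.app j)]

end

section main

variable {C : Type u} [Category.{v} C] [Abelian C]
variable {T T' : CohDeltaFunctor C AddCommGrpCat.{w} ℕ} (φ : T ⟶ T')

lemma transfer_iso_inj (q : ℕ) {X A : C} (e : X ≅ A)
    (h : Function.Injective ((φ.app q).app X)) : Function.Injective ((φ.app q).app A) := by
  intro a b hab
  have h1 : (T.F q).map e.inv a = (T.F q).map e.inv b := by
    apply h
    rw [abD.nat, abD.nat, hab]
  have := congrArg ((T.F q).map e.hom) h1
  simp only [← abD.comp_apply', ← Functor.map_comp, e.inv_hom_id,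
    CategoryTheory.Functor.map_id] at this
  exact this

lemma transfer_iso_surj (q : ℕ) {X A : C} (e : X ≅ A)
    (h : Function.Surjective ((φ.app q).app X)) : Function.Surjective ((φ.app q).app A) := by
  intro a'
  obtain ⟨x, hx⟩ := h ((T'.F q).map e.inv a')
  refine ⟨(T.F q).map e.hom x, ?_⟩
  rw [abD.nat, hx, ← abD.comp_apply', ← Functor.map_comp, e.inv_hom_id,
    CategoryTheory.Functor.map_id]
  rfl

theorem deltaFunctor_hom_isIso_iff_of_filteredColimits
    (hT0 : T.ZeroMono) (hT'0 : T'.ZeroMono)
    [∀ n, PreservesFilteredColimitsOfSize.{v, v} (T.F n)]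
    [∀ n, PreservesFilteredColimitsOfSize.{v, v} (T'.F n)]
    (D E : ObjectProperty C)
    (hD : ∀ A : C, ∃ (J : Type v) (_ : SmallCategory J) (_ : IsFiltered J) (K : J ⥤ C)
      (c : Cocone K) (_ : IsColimit c), (∀ j, D (K.obj j)) ∧ Nonempty (c.pt ≅ A))
    (hE : ∀ A : C, D A → ∃ (M : C) (i : A ⟶ M), Mono i ∧ E M) :
    (∀ (q : ℕ) (A : C), IsIso ((φ.app q).app A)) ↔
      ∀ (q : ℕ) (M : C), E M → IsIso ((φ.app q).app M) := by
  simp only [ab_isIso_iff]
  refine ⟨fun h q M _ => h q M, fun h => ?_⟩
  have hm : ∀ (S : ShortComplex C), S.ShortExact → Function.Injective ((T.F 0).map S.f) := by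
    intro S hS
    exact (AddCommGrpCat.mono_iff_injective _).1 (hT0 S hS)
  have hm' : ∀ (S : ShortComplex C), S.ShortExact → Function.Injective ((T'.F 0).map S.f) := by
    intro S hS
    exact (AddCommGrpCat.mono_iff_injective _).1 (hT'0 S hS)
  -- transfer from `D` to all objects
  have tI : ∀ q, (∀ A, D A → Function.Injective ((φ.app q).app A)) →
      ∀ A, Function.Injective ((φ.app q).app A) := by
    intro q hq A
    obtain ⟨J, _, _, K, c, hc, hK, ⟨e⟩⟩ := hD A
    have : PreservesFilteredColimitsOfSize.{v, v} (T.F q) := inferInstance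
    have : PreservesFilteredColimitsOfSize.{v, v} (T'.F q) := inferInstance
    have : PreservesColimitsOfShape J (T.F q) :=
      PreservesFilteredColimitsOfSize.preserves_filtered_colimits J
    have : PreservesColimitsOfShape J (T'.F q) :=
      PreservesFilteredColimitsOfSize.preserves_filtered_colimits J
    exact transfer_iso_inj φ q e (ab_transfer_injective (φ.app q) c (isColimitOfPreserves _ hc)
      (isColimitOfPreserves _ hc) (fun j => hq _ (hK j)))
  have tS : ∀ q, (∀ A, D A → Function.Surjective ((φ.app q).app A)) →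
      ∀ A, Function.Surjective ((φ.app q).app A) := by
    intro q hq A
    obtain ⟨J, _, _, K, c, hc, hK, ⟨e⟩⟩ := hD A
    have : PreservesFilteredColimitsOfSize.{v, v} (T'.F q) := inferInstance
    have : PreservesColimitsOfShape J (T'.F q) :=
      PreservesFilteredColimitsOfSize.preserves_filtered_colimits J
    exact transfer_iso_surj φ q e (ab_transfer_surjective (φ.app q) c
      (isColimitOfPreserves _ hc) (fun j => hq _ (hK j)))
  have hA : ∀ A : C, Function.Injective ((φ.app 0).app A) := by
    apply tI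
    intro A hAD
    obtain ⟨M, i, hi, hM⟩ := hE A hAD
    exact abD.mono0 φ (cokerSES i) (cokerSES_shortExact i) (hm _ (cokerSES_shortExact i))
      (h 0 M hM).1
  have hB : ∀ A : C, Function.Surjective ((φ.app 0).app A) := by
    apply tS
    intro A hAD
    obtain ⟨M, i, hi, hM⟩ := hE A hAD
    exact abD.epi0 φ (cokerSES i) (cokerSES_shortExact i) (hm' _ (cokerSES_shortExact i))
      (h 0 M hM).2 (hA _)
  intro q
  induction q with
  | zero => exact fun A => ⟨hA A, hB A⟩
  | succ q ih =>
    have hC1 : ∀ A : C, Function.Injective ((φ.app (q + 1)).app A) := by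
      apply tI
      intro A hAD
      obtain ⟨M, i, hi, hM⟩ := hE A hAD
      rw [injective_iff_map_eq_zero]
      intro α hα
      refine abD.mono_step φ q (cokerSES i) (cokerSES_shortExact i) (ih _).2 (ih _).1 α hα ?_
      apply (h (q + 1) M hM).1
      have e1 := abD.nat φ (q + 1) i α
      rw [hα, map_zero] at e1
      exact e1.trans (map_zero _).symm
    have hC2 : ∀ A : C, Function.Surjective ((φ.app (q + 1)).app A) := by
      apply tS
      intro A hAD
      obtain ⟨M, i, hi, hM⟩ := hE A hAD
      intro α'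
      obtain ⟨m, hm⟩ := (h (q + 1) M hM).2 ((T'.F (q + 1)).map i α')
      refine abD.epi_step φ q (cokerSES i) (cokerSES_shortExact i) (ih _).2 α' m hm ?_
      apply hC1
      rw [abD.nat, map_zero]
      erw [hm]
      exact abD.z12 T' (q + 1) (cokerSES i) (cokerSES_shortExact i) α'
    exact fun A => ⟨hC1 A, hC2 A⟩

end main

end Groth.Agent.Lib.helper27
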