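import Mathlib
import Groth.Prelude.Def_DerLim

set_option linter.unusedSectionVars false

namespace Groth.Agent.Lib.helper27

open CategoryTheory Limits

universe v u

section telescopePre

variable {A : Type u} [Category.{v} A] [Preadditive A]

lemma shiftMap_π_zero' (K : ℕ → A) [HasCoproduct K] (f : ∀ n, K n ⟶ K (n + 1)) :
    DerLim.shiftMap K f ≫ Sigma.π K 0 = 0 := by
  refine Sigma.hom_ext _ _ (fun n => ?_)
  rw [DerLim.shiftMap, Sigma.ι_desc_assoc, Category.assoc,
    Sigma.ι_π_of_ne K (Nat.succ_ne_zero n), comp_zero, comp_zero]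

lemma shiftMap_π_succ' (K : ℕ → A) [HasCoproduct K] (f : ∀ n, K n ⟶ K (n + 1)) (m : ℕ) :
    DerLim.shiftMap K f ≫ Sigma.π K (m + 1) = Sigma.π K m ≫ f m := by
  refine Sigma.hom_ext _ _ (fun n => ?_)
  rw [DerLim.shiftMap, Sigma.ι_desc_assoc, Category.assoc]
  by_cases h : n = m
  · subst h
    rw [Sigma.ι_π_eq_id, Category.comp_id, Sigma.ι_π_eq_id_assoc]
  · have h' : n + 1 ≠ m + 1 := fun h' => h (Nat.succ_injective h')
    rw [Sigma.ι_π_of_ne K h', comp_zero, Sigma.ι_π_of_ne_assoc K h, zero_comp]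

lemma comp_π_eq_zero_of_comp_one_sub_shiftMap (K : ℕ → A) [HasCoproduct K]
    (f : ∀ n, K n ⟶ K (n + 1)) {Z : A} (g : Z ⟶ ∐ K)
    (h : g ≫ (𝟙 _ - DerLim.shiftMap K f) = 0) (m : ℕ) : g ≫ Sigma.π K m = 0 := by
  have h1 : g = g ≫ DerLim.shiftMap K f := by
    rw [Preadditive.comp_sub, Category.comp_id, sub_eq_zero] at h
    exact h
  induction m with
  | zero =>
    rw [h1, Category.assoc, shiftMap_π_zero', comp_zero]
  | succ m ih =>
    rw [h1, Category.assoc, shiftMap_π_succ', ← Category.assoc, ih, zero_comp]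

variable [HasFiniteCoproducts A]

/-- partial sums of a sequence of objects -/
noncomputable def psObj (K : ℕ → A) (N : ℕ) : A := ∐ (fun n : Fin N => K n)

noncomputable def psι (K : ℕ → A) (N : ℕ) (n : Fin N) : K n ⟶ psObj K N :=
  Sigma.ι (fun n : Fin N => K n) n

noncomputable def psDesc (K : ℕ → A) {N : ℕ} {Z : A} (g : ∀ n : Fin N, K n ⟶ Z) : psObj K N ⟶ Z :=
  Sigma.desc g

@[reassoc (attr := simp)]
lemma psι_desc (K : ℕ → A) {N : ℕ} {Z : A} (g : ∀ n : Fin N, K n ⟶ Z) (n : Fin N) :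
    psι K N n ≫ psDesc K g = g n :=
  Sigma.ι_desc _ _

lemma ps_hom_ext (K : ℕ → A) {N : ℕ} {Z : A} (g g' : psObj K N ⟶ Z)
    (h : ∀ n, psι K N n ≫ g = psι K N n ≫ g') : g = g' :=
  Sigma.hom_ext _ _ h

noncomputable def partialSum (K : ℕ → A) : ℕ ⥤ A where
  obj N := psObj K N
  map {N M} h := psDesc K (fun n : Fin N => psι K M ⟨n.1, lt_of_lt_of_le n.2 (leOfHom h)⟩)
  map_id N := by
    refine ps_hom_ext K _ _ (fun n => ?_)
    rw [psι_desc, Category.comp_id]
  map_comp {N M P} h h' := by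
    refine ps_hom_ext K _ _ (fun n => ?_)
    rw [psι_desc, psι_desc_assoc, psι_desc]

@[reassoc]
lemma psι_map (K : ℕ → A) {N M : ℕ} (h : N ⟶ M) (n : Fin N) :
    psι K N n ≫ (partialSum K).map h = psι K M ⟨n.1, lt_of_lt_of_le n.2 (leOfHom h)⟩ :=
  psι_desc _ _ _

variable (K : ℕ → A) [HasCoproduct K]

noncomputable def psIncl (N : ℕ) : psObj K N ⟶ ∐ K := psDesc K (fun n : Fin N => Sigma.ι K n)

@[reassoc]
lemma psι_incl (N : ℕ) (n : Fin N) : psι K N n ≫ psIncl K N = Sigma.ι K n := psι_desc _ _ _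

noncomputable def partialSumCocone : Cocone (partialSum K) where
  pt := ∐ K
  ι :=
    { app N := psIncl K N
      naturality := by
        intro N M h
        refine ps_hom_ext K _ _ (fun n => ?_)
        change psι K N n ≫ (partialSum K).map h ≫ psIncl K M = psι K N n ≫ psIncl K N ≫ 𝟙 _
        rw [Category.comp_id, psι_incl]
        exact (psι_map_assoc K h n _).trans (psι_incl K M _) }

noncomputable def partialSumIsColimit : IsColimit (partialSumCocone K) where
  desc s := Sigma.desc (fun n => psι K (n + 1) ⟨n, Nat.lt_succ_self n⟩ ≫ s.ι.app (n + 1))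
  fac s N := by
    refine ps_hom_ext K _ _ (fun n => ?_)
    have := s.w (homOfLE (Nat.succ_le_of_lt n.2) : (n.1 + 1) ⟶ N)
    change psι K N n ≫ psIncl K N ≫ Sigma.desc _ = psι K N n ≫ s.ι.app N
    rw [psι_incl_assoc, Sigma.ι_desc, ← this]
    exact psι_map_assoc K (homOfLE (Nat.succ_le_of_lt n.2) : (n.1 + 1) ⟶ N)
      ⟨n.1, Nat.lt_succ_self _⟩ (s.ι.app N)
  uniq s m hm := by
    refine Sigma.hom_ext _ _ (fun n => ?_)
    have h1 := hm (n + 1)
    change psIncl K (n + 1) ≫ m = _ at h1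
    rw [Sigma.ι_desc, ← h1, psι_incl_assoc]

noncomputable def partialSumRetr (N : ℕ) : ∐ K ⟶ psObj K N :=
  ∑ n : Fin N, Sigma.π K n ≫ psι K N n

lemma psIncl_retr (N : ℕ) : psIncl K N ≫ partialSumRetr K N = 𝟙 _ := by
  refine ps_hom_ext K _ _ (fun m => ?_)
  rw [psι_incl_assoc, partialSumRetr, Preadditive.comp_sum, Category.comp_id]
  rw [Finset.sum_eq_single m]
  · rw [Sigma.ι_π_eq_id_assoc]
  · intro n _ hnm
    have : (m : ℕ) ≠ n := fun h => hnm (Fin.ext h.symm)
    rw [Sigma.ι_π_of_ne_assoc K this, zero_comp]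
  · intro h; exact absurd (Finset.mem_univ m) h

lemma eq_zero_of_comp_psIncl_one_sub_shiftMap [DecidableEq ℕ] (f : ∀ n, K n ⟶ K (n + 1)) {N : ℕ} {Z : A}
    (z : Z ⟶ psObj K N) (hz : (z ≫ psIncl K N) ≫ (𝟙 (∐ K) - DerLim.shiftMap K f) = 0) : z = 0 := by
  have h0 := comp_π_eq_zero_of_comp_one_sub_shiftMap K f _ hz
  have : z = (z ≫ psIncl K N) ≫ partialSumRetr K N := by
    rw [Category.assoc, psIncl_retr, Category.comp_id]
  rw [this, partialSumRetr, Preadditive.comp_sum]
  refine Finset.sum_eq_zero (fun n _ => ?_)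
  rw [← Category.assoc, h0, zero_comp]

end telescopePre

section telescope

variable {A : Type u} [Category.{v} A] [Abelian A]
  [HasColimitsOfShape ℕ A] [HasExactColimitsOfShape ℕ A]

attribute [local instance] IsFiltered.isConnected

lemma mono_one_sub_shiftMap (K : ℕ → A) [HasCoproduct K] (f : ∀ n, K n ⟶ K (n + 1)) :
    Mono (𝟙 (∐ K) - DerLim.shiftMap K f) := by
  classical
  let φ := 𝟙 (∐ K) - DerLim.shiftMap K f
  let α : partialSum K ⟶ (Functor.const ℕ).obj (∐ K) :=
    { app N := (partialSumCocone K).ι.app N ≫ φ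
      naturality := by
        intro N M h
        have := (partialSumCocone K).w h
        dsimp at this ⊢
        rw [Category.comp_id, ← Category.assoc, this] }
  have hα : ∀ N, Mono (α.app N) := by
    intro N
    refine Preadditive.mono_of_cancel_zero _ (fun {Z} z hz => ?_)
    change z ≫ psIncl K N ≫ φ = 0 at hz
    rw [← Category.assoc] at hz
    exact eq_zero_of_comp_psIncl_one_sub_shiftMap K f z hz
  have := NatTrans.mono_of_mono_app α
  exact colim.map_mono' α (partialSumIsColimit K) (isColimitConstCocone ℕ (∐ K)) φ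
    (fun N => (Category.comp_id (α.app N)).symm)

theorem telescope_shortExact (F : ℕ ⥤ A) [HasCoproduct F.obj] (c : Cocone F) (hc : IsColimit c) :
    ∃ w : (𝟙 (∐ F.obj) - DerLim.shiftMap F.obj (fun n => F.map (homOfLE (Nat.le_succ n)))) ≫
        Sigma.desc (fun n => c.ι.app n) = 0,
      (ShortComplex.mk _ _ w).ShortExact := by
  have hι : ∀ n, Sigma.ι F.obj n ≫ DerLim.shiftMap F.obj (fun n => F.map (homOfLE (Nat.le_succ n))) =
      F.map (homOfLE (Nat.le_succ n)) ≫ Sigma.ι F.obj (n + 1) := fun n => by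
    rw [DerLim.shiftMap, Sigma.ι_desc]
  have w : (𝟙 (∐ F.obj) - DerLim.shiftMap F.obj (fun n => F.map (homOfLE (Nat.le_succ n)))) ≫
        Sigma.desc (fun n => c.ι.app n) = 0 := by
    refine Sigma.hom_ext _ _ (fun n => ?_)
    rw [Preadditive.sub_comp, Preadditive.comp_sub, Category.id_comp, Sigma.ι_desc,
      reassoc_of% (hι n), Sigma.ι_desc, c.w, sub_self, comp_zero]
  refine ⟨w, ?_⟩
  have hepi : Epi (Sigma.desc (fun n => c.ι.app n)) := by
    constructor
    intro Z g g' hgg'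
    refine hc.hom_ext (fun n => ?_)
    have := Sigma.ι F.obj n ≫= hgg'
    rwa [Sigma.ι_desc_assoc, Sigma.ι_desc_assoc] at this
  have hmono := mono_one_sub_shiftMap F.obj (fun n => F.map (homOfLE (Nat.le_succ n)))
  have hex : (ShortComplex.mk _ _ w).Exact := by
    apply ShortComplex.exact_of_g_is_cokernel
    refine CokernelCofork.IsColimit.ofπ' _ _ (fun {Z} g' hg' => ?_)
    have hg'' : ∀ n, Sigma.ι F.obj n ≫ g' = F.map (homOfLE (Nat.le_succ n)) ≫ Sigma.ι F.obj (n + 1) ≫ g' := by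
      intro n
      have := Sigma.ι F.obj n ≫= hg'
      dsimp at this
      rw [Preadditive.sub_comp, Preadditive.comp_sub, Category.id_comp, comp_zero, sub_eq_zero,
        reassoc_of% (hι n)] at this
      exact this
    let s : Cocone F :=
      { pt := Z
        ι := NatTrans.ofSequence (fun n => Sigma.ι F.obj n ≫ g') (fun n => by
          dsimp
          rw [Category.comp_id]
          exact (hg'' n).symm) }
    refine ⟨hc.desc s, ?_⟩
    refine Sigma.hom_ext _ _ (fun n => ?_)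
    dsimp
    rw [Sigma.ι_desc_assoc, hc.fac]
    rfl
  exact { exact := hex, mono_f := hmono, epi_g := hepi }

end telescope

end Groth.Agent.Lib.helper27
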