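import Mathlib
import Groth.Prelude.Def_DerLim
import Groth.Agent.Lib.Helper27.Telescope

set_option linter.unusedSectionVars false

namespace Groth.Agent.Lib.helper27

open CategoryTheory Limits

universe v u v' u'

section seqVersion

variable {A : Type u} [Category.{v} A] [Abelian A]
  [HasColimitsOfShape ℕ A] [HasExactColimitsOfShape ℕ A]

theorem telescope_shortExact_seq (X : ℕ → A) (g : ∀ n, X n ⟶ X (n + 1)) [HasCoproduct X]
    (c : Cocone (Functor.ofSequence g)) (hc : IsColimit c) :
    ∃ w : (𝟙 (∐ X) - DerLim.shiftMap X g) ≫ Sigma.desc (fun n => c.ι.app n) = 0,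
      (ShortComplex.mk _ _ w).ShortExact := by
  have hX : HasCoproduct (Functor.ofSequence g).obj := (inferInstance : HasCoproduct X)
  have key := telescope_shortExact (Functor.ofSequence g) c hc
  have : (fun n => (Functor.ofSequence g).map (homOfLE (Nat.le_succ n))) = g :=
    funext (fun n => Functor.ofSequence_map_homOfLE_succ g n)
  rw [this] at key
  exact key

end seqVersion

section mapShift

variable {C : Type u} [Category.{v} C] [Preadditive C] {A : Type u'} [Category.{v'} A] [Preadditive A]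
  (G : C ⥤ A) [G.Additive] (K : ℕ → C) (f : ∀ n, K n ⟶ K (n + 1)) [HasCoproduct K]
  [HasCoproduct (fun n => G.obj (K n))]

lemma sigmaComparison_map_one_sub_shiftMap :
    sigmaComparison G K ≫ G.map (𝟙 _ - DerLim.shiftMap K f) =
      (𝟙 _ - DerLim.shiftMap (fun n => G.obj (K n)) (fun n => G.map (f n))) ≫
        sigmaComparison G K := by
  refine Sigma.hom_ext _ _ (fun n => ?_)
  rw [ι_comp_sigmaComparison_assoc, ← G.map_comp, Preadditive.comp_sub, Category.comp_id,
    Preadditive.sub_comp, Preadditive.comp_sub, Category.id_comp, ι_comp_sigmaComparison,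
    DerLim.shiftMap, DerLim.shiftMap, Sigma.ι_desc, Sigma.ι_desc_assoc, Category.assoc,
    ι_comp_sigmaComparison, G.map_sub, G.map_comp]

lemma sigmaComparison_map_desc {L : C} (i : ∀ n, K n ⟶ L) :
    sigmaComparison G K ≫ G.map (Sigma.desc i) = Sigma.desc (fun n => G.map (i n)) := by
  refine Sigma.hom_ext _ _ (fun n => ?_)
  rw [ι_comp_sigmaComparison_assoc, ← G.map_comp, Sigma.ι_desc, Sigma.ι_desc]

end mapShift

section hocolimHomological

open Pretriangulated

variable {D : Type u} [Category.{v} D] [Preadditive D] [HasZeroObject D] [HasShift D ℤ]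
  [∀ n : ℤ, (shiftFunctor D n).Additive] [Pretriangulated D]
  [HasColimitsOfShape (Discrete ℕ) D]
  {A : Type u'} [Category.{v'} A] [Abelian A] [HasColimitsOfShape ℕ A] [HasExactColimitsOfShape ℕ A]

lemma mono_map_one_sub_shiftMap (G : D ⥤ A) [G.Additive]
    [PreservesColimitsOfShape (Discrete ℕ) G] (K : ℕ → D) (f : ∀ n, K n ⟶ K (n + 1)) :
    Mono (G.map (𝟙 _ - DerLim.shiftMap K f)) := by
  have : HasCoproduct (fun n => G.obj (K n)) :=
    ⟨⟨_, isColimitOfHasCoproductOfPreservesColimit G K⟩⟩
  have h := sigmaComparison_map_one_sub_shiftMap G K f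
  have hm := mono_one_sub_shiftMap (fun n => G.obj (K n)) (fun n => G.map (f n))
  have : G.map (𝟙 _ - DerLim.shiftMap K f) = inv (sigmaComparison G K) ≫
      (𝟙 _ - DerLim.shiftMap (fun n => G.obj (K n)) (fun n => G.map (f n))) ≫
        sigmaComparison G K := by
    rw [← h, IsIso.inv_hom_id_assoc]
  rw [this]
  infer_instance

theorem hocolim_homological (H : D ⥤ A) [H.IsHomological]
    [PreservesColimitsOfShape (Discrete ℕ) H]
    (K : ℕ → D) (f : ∀ n, K n ⟶ K (n + 1)) (L : D) (i : ∀ n, K n ⟶ L)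
    (hL : DerLim.IsHocolim K f L i) :
    ∃ e : colimit (Functor.ofSequence (fun n => H.map (f n))) ≅ H.obj L,
      ∀ n : ℕ, colimit.ι (Functor.ofSequence (fun n => H.map (f n))) n ≫ e.hom = H.map (i n) := by
  obtain ⟨c, hc⟩ := hL
  have : HasCoproduct (fun n => H.obj (K n)) :=
    ⟨⟨_, isColimitOfHasCoproductOfPreservesColimit H K⟩⟩
  obtain ⟨w, hS⟩ := telescope_shortExact_seq (fun n => H.obj (K n)) (fun n => H.map (f n))
    (colimit.cocone _) (colimit.isColimit _)
  set φ := 𝟙 (∐ K) - DerLim.shiftMap K f with hφ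
  set σ := sigmaComparison H K with hσ
  have hσiso : IsIso σ := inferInstanceAs (IsIso (sigmaComparison H K))
  -- H.map c = 0
  have hc0 : H.map c = 0 := by
    have hm : Mono ((shiftFunctor D (1 : ℤ) ⋙ H).map φ) := mono_map_one_sub_shiftMap _ K f
    have h31 : c ≫ φ⟦(1 : ℤ)⟧' = 0 := comp_distTriang_mor_zero₃₁ _ hc
    rw [← cancel_mono ((shiftFunctor D (1 : ℤ) ⋙ H).map φ), zero_comp]
    dsimp
    rw [← H.map_comp, h31, H.map_zero]
  have hE1 := H.map_distinguished_exact _ hc
  have hE2 := H.map_distinguished_exact _ (rot_of_distTriang _ hc)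
  have hepi : Epi (H.map (Sigma.desc i)) := hE2.epi_f hc0
  let p : (∐ fun n => H.obj (K n)) ⟶ colimit (Functor.ofSequence (fun n => H.map (f n))) :=
    Sigma.desc (f := fun n => H.obj (K n))
      (fun n => colimit.ι (Functor.ofSequence (fun n => H.map (f n))) n)
  have hepi1 : Epi p := hS.epi_g
  have : Epi (ShortComplex.mk _ _ w).g := hS.epi_g
  have : Epi ((shortComplexOfDistTriangle _ hc).map H).g := hepi
  have w' : (𝟙 _ - DerLim.shiftMap (fun n => H.obj (K n)) (fun n => H.map (f n))) ≫ p = 0 := w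
  have h1 := sigmaComparison_map_one_sub_shiftMap H K f
  have h2 := sigmaComparison_map_desc H K i
  have hz : H.map φ ≫ H.map (Sigma.desc i) = 0 := by
    have h12 : φ ≫ Sigma.desc i = 0 := comp_distTriang_mor_zero₁₂ _ hc
    rw [← H.map_comp, h12, H.map_zero]
  let ehom : colimit (Functor.ofSequence (fun n => H.map (f n))) ⟶ H.obj L :=
    hS.exact.desc (σ ≫ H.map (Sigma.desc i)) (by
      dsimp
      rw [← Category.assoc, ← h1, Category.assoc, hz, comp_zero])
  have hehom : p ≫ ehom =
      σ ≫ H.map (Sigma.desc i) := hS.exact.g_desc _ _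
  let q : H.obj (∐ K) ⟶ colimit (Functor.ofSequence (fun n => H.map (f n))) := inv σ ≫ p
  let einv : H.obj L ⟶ colimit (Functor.ofSequence (fun n => H.map (f n))) :=
    hE1.desc q (by
      change H.map φ ≫ inv σ ≫ p = 0
      have : H.map φ ≫ inv σ = inv σ ≫ (𝟙 _ - DerLim.shiftMap (fun n => H.obj (K n)) (fun n => H.map (f n))) := by
        rw [← cancel_mono σ, Category.assoc, Category.assoc, ← h1, IsIso.inv_hom_id_assoc,
          IsIso.inv_hom_id, Category.comp_id]
      rw [reassoc_of% this, w', comp_zero])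
  have heinv : H.map (Sigma.desc i) ≫ einv = inv σ ≫ p :=
    hE1.g_desc q _
  refine ⟨⟨ehom, einv, ?_, ?_⟩, fun n => ?_⟩
  · rw [← cancel_epi p,
      reassoc_of% hehom, heinv, IsIso.hom_inv_id_assoc, Category.comp_id]
  · rw [← cancel_epi (H.map (Sigma.desc i)), reassoc_of% heinv, hehom, IsIso.inv_hom_id_assoc,
      Category.comp_id]
  · have := Sigma.ι (fun n => H.obj (K n)) n ≫= hehom
    rw [Sigma.ι_desc_assoc, ι_comp_sigmaComparison_assoc, ← H.map_comp, Sigma.ι_desc] at this
    exact this

end hocolimHomological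

end Groth.Agent.Lib.helper27
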