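import Mathlib

/-!
# Subspaces of `k[[t]]` of finite codimension and their sets of orders (helper27)

For a `k`-subspace `V ⊆ k[[t]]` containing all power series of order `≥ N`:
* `vals V` : the set of orders of its nonzero elements;
* `mem_of_le_order` : if every `n ≥ c` is a value then `V ⊇ t^c k[[t]]`;
* `finrank_quot` : `dim k[[t]]/V = #(ℕ ∖ vals V)`.
Combinatorics: `mem_of_add_le` (a `Γ`-stable set `S` contains every `n ≥ #Γᶜ + #Sᶜ`).
-/

set_option autoImplicit false
universe u

namespace Groth.Agent.Lib.helper27.PSLattice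
open PowerSeries

variable {k : Type u} [Field k]

/-- the set of orders of the nonzero elements of a subspace -/
def vals (V : Submodule k (PowerSeries k)) : Set ℕ := {n | ∃ f ∈ V, order f = n}

lemma order_sub_ge (φ ψ : PowerSeries k) (N : ℕ) (hφ : (N : ℕ∞) ≤ order φ)
    (hψ : (N : ℕ∞) ≤ order ψ) (hc : coeff N φ = coeff N ψ) : ((N + 1 : ℕ) : ℕ∞) ≤ order (φ - ψ) := by
  apply nat_le_order
  intro i hi
  rcases Nat.lt_succ_iff_lt_or_eq.mp hi with hlt | rfl
  · rw [map_sub, coeff_of_lt_order i (lt_of_lt_of_le (by exact_mod_cast hlt) hφ),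
      coeff_of_lt_order i (lt_of_lt_of_le (by exact_mod_cast hlt) hψ), sub_zero]
  · rw [map_sub, hc, sub_self]

lemma coeff_ne_zero_of_order_eq {a : PowerSeries k} {n : ℕ} (h : order a = n) : coeff n a ≠ 0 := by
  have ha0 : a ≠ 0 := by
    rw [← order_finite_iff_ne_zero, h]; exact ENat.natCast_lt_top n
  have := coeff_order ha0
  rwa [h, ENat.toNat_natCast] at this

/-- one approximation step -/
lemma exists_sub_order_ge {V : Submodule k (PowerSeries k)} {n : ℕ} (hn : n ∈ vals V)
    (h : PowerSeries k) (hh : (n : ℕ∞) ≤ order h) :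
    ∃ a ∈ V, (n : ℕ∞) ≤ order a ∧ ((n + 1 : ℕ) : ℕ∞) ≤ order (h - a) := by
  obtain ⟨a, haV, ha⟩ := hn
  have hc := coeff_ne_zero_of_order_eq ha
  refine ⟨(coeff n h * (coeff n a)⁻¹) • a, V.smul_mem _ haV, le_trans ha.ge le_order_smul, ?_⟩
  refine order_sub_ge _ _ n hh (le_trans ha.ge le_order_smul) ?_
  rw [coeff_smul, smul_eq_mul, mul_assoc, inv_mul_cancel₀ hc, mul_one]

/-- If `V` contains all series of order `≥ N` and every `n ≥ c` is the order of an element of `V`,
then `V` contains all series of order `≥ c`. -/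
theorem mem_of_le_order (V : Submodule k (PowerSeries k)) (N : ℕ)
    (hN : ∀ h : PowerSeries k, (N : ℕ∞) ≤ order h → h ∈ V) (c : ℕ)
    (hc : ∀ n, c ≤ n → n ∈ vals V) (h : PowerSeries k) (hh : (c : ℕ∞) ≤ order h) : h ∈ V := by
  have claim : ∀ d : ℕ, ∀ h : PowerSeries k, ((N - d : ℕ) : ℕ∞) ≤ order h → (c : ℕ∞) ≤ order h →
      h ∈ V := by
    intro d
    induction d with
    | zero => intro h h1 _; exact hN h h1
    | succ d ih =>
      intro h h1 h2
      set n := N - (d + 1) with hn
      by_cases hcn : c ≤ n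
      · obtain ⟨a, haV, ha1, ha2⟩ := exists_sub_order_ge (hc n hcn) h h1
        have hle : ((N - d : ℕ) : ℕ∞) ≤ ((n + 1 : ℕ) : ℕ∞) := by
          have : N - d ≤ n + 1 := by omega
          exact_mod_cast this
        have hcn' : (c : ℕ∞) ≤ ((n + 1 : ℕ) : ℕ∞) := by
          have : c ≤ n + 1 := by omega
          exact_mod_cast this
        have h3 : h - a ∈ V := ih _ (le_trans hle ha2) (le_trans hcn' ha2)
        have := V.add_mem h3 haV
        simpa using this
      · apply ih h _ h2
        have : N - d ≤ c := by omega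
        exact le_trans (by exact_mod_cast this) h2
  exact claim N h (by simp) hh

lemma vals_of_le (V : Submodule k (PowerSeries k)) (N : ℕ)
    (hN : ∀ h : PowerSeries k, (N : ℕ∞) ≤ order h → h ∈ V) (n : ℕ) (hn : N ≤ n) : n ∈ vals V :=
  ⟨X ^ n, hN _ (by rw [order_X_pow]; exact_mod_cast hn), order_X_pow n⟩

/-- `dim k[[t]]/V` is the number of non-values of `V`. -/
theorem finrank_quot (V : Submodule k (PowerSeries k)) (N : ℕ)
    (hN : ∀ h : PowerSeries k, (N : ℕ∞) ≤ order h → h ∈ V) :
    (vals V)ᶜ.Finite ∧ Module.finrank k (PowerSeries k ⧸ V) = (vals V)ᶜ.ncard := by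
  classical
  set Γ := vals V with hΓdef
  have hΓbig : ∀ n, N ≤ n → n ∈ Γ := vals_of_le V N hN
  have hfin : Γᶜ.Finite := (Set.finite_lt_nat N).subset (fun n hn => by
    by_contra h
    exact hn (hΓbig n (not_lt.mp h)))
  refine ⟨hfin, ?_⟩
  haveI : Fintype ↥Γᶜ := hfin.fintype
  let b : ↥Γᶜ → PowerSeries k := fun g => X ^ (g : ℕ)
  have hcoeff : ∀ (l : ↥Γᶜ → k) (n : ℕ),
      coeff n (∑ g, l g • b g) = if h : n ∈ Γᶜ then l ⟨n, h⟩ else 0 := by
    intro l n
    simp only [map_sum, coeff_smul, b, coeff_X_pow, smul_eq_mul, mul_ite, mul_one, mul_zero]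
    split_ifs with h
    · rw [Finset.sum_eq_single ⟨n, h⟩]
      · simp
      · intro g _ hg
        rw [if_neg]
        intro e
        exact hg (Subtype.ext e.symm)
      · simp
    · apply Finset.sum_eq_zero
      intro g _
      rw [if_neg]
      intro e
      exact h (e ▸ g.2)
  have hLI : LinearIndependent k b := by
    rw [Fintype.linearIndependent_iff]
    intro l hl g
    have := hcoeff l g
    rw [hl, dif_pos g.2] at this
    simpa using this.symm
  set T := Submodule.span k (Set.range b) with hT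
  have hdisj : Disjoint V T := by
    rw [Submodule.disjoint_def]
    intro x hxA hxT
    obtain ⟨l, rfl⟩ := (Submodule.mem_span_range_iff_exists_fun k).mp hxT
    by_contra hx0
    obtain ⟨n, hn⟩ : ∃ n : ℕ, order (∑ g, l g • b g) = n := ⟨_, (coe_toNat_order hx0).symm⟩
    have h1 : coeff n (∑ g, l g • b g) ≠ 0 := coeff_ne_zero_of_order_eq hn
    rw [hcoeff] at h1
    split_ifs at h1 with h
    · exact h ⟨_, hxA, hn⟩
    · exact h1 rfl
  have hcodisj : Codisjoint V T := by
    rw [codisjoint_iff, eq_top_iff]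
    have claim : ∀ d : ℕ, ∀ h : PowerSeries k, ((N - d : ℕ) : ℕ∞) ≤ order h → h ∈ V ⊔ T := by
      intro d
      induction d with
      | zero => intro h hh; exact Submodule.mem_sup_left (hN h hh)
      | succ d ih =>
        intro h hh
        set n := N - (d+1) with hn
        have hle : ((N - d : ℕ) : ℕ∞) ≤ ((n + 1 : ℕ) : ℕ∞) := by
          have : N - d ≤ n + 1 := by omega
          exact_mod_cast this
        by_cases hNΓ : n ∈ Γ
        · obtain ⟨a, haV, _, ha2⟩ := exists_sub_order_ge hNΓ h hh
          have h1 : h - a ∈ V ⊔ T := ih _ (le_trans hle ha2)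
          have := Submodule.add_mem _ h1 (Submodule.mem_sup_left haV)
          simpa using this
        · have h1 : h - (coeff n h) • (X : PowerSeries k) ^ n ∈ V ⊔ T := by
            apply ih
            refine le_trans hle (order_sub_ge _ _ n hh ?_ ?_)
            · exact le_trans (order_X_pow (R := k) n).ge le_order_smul
            · rw [coeff_smul, coeff_X_pow, if_pos rfl, smul_eq_mul, mul_one]
          have h2 : (coeff n h) • (X : PowerSeries k) ^ n ∈ V ⊔ T :=
            Submodule.mem_sup_right (Submodule.smul_mem _ _ (Submodule.subset_span ⟨⟨n, hNΓ⟩, rfl⟩))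
          have := Submodule.add_mem _ h1 h2
          simpa using this
    intro h _
    exact claim N h (by simp)
  have hcompl : IsCompl V T := ⟨hdisj, hcodisj⟩
  have e := Submodule.quotientEquivOfIsCompl _ _ hcompl
  rw [e.finrank_eq, hT, finrank_span_eq_card hLI, Set.ncard_eq_toFinset_card', Set.toFinset_card]

/-- Counting: if `Γ + S ⊆ S` then `S` contains every `n ≥ #Γᶜ + #Sᶜ`. -/
theorem mem_of_add_le (Γ S : Set ℕ) (hΓ : Γᶜ.Finite) (hS : Sᶜ.Finite)
    (hadd : ∀ a ∈ Γ, ∀ b ∈ S, a + b ∈ S) (n : ℕ) (hn : Γᶜ.ncard + Sᶜ.ncard ≤ n) : n ∈ S := by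
  classical
  by_contra hnS
  have hsub : Finset.range (n + 1) ⊆ hΓ.toFinset ∪ (hS.toFinset).image (fun j => n - j) := by
    intro i hi
    rw [Finset.mem_range] at hi
    rw [Finset.mem_union]
    by_cases hiΓ : i ∈ Γ
    · right
      rw [Finset.mem_image]
      refine ⟨n - i, ?_, by omega⟩
      rw [Set.Finite.mem_toFinset]
      intro h
      apply hnS
      have := hadd i hiΓ (n - i) h
      rwa [show i + (n - i) = n by omega] at this
    · left
      rw [Set.Finite.mem_toFinset]
      exact hiΓ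
  have h1 := Finset.card_le_card hsub
  rw [Finset.card_range] at h1
  have h2 := Finset.card_union_le hΓ.toFinset ((hS.toFinset).image (fun j => n - j))
  have h3 : ((hS.toFinset).image (fun j => n - j)).card ≤ hS.toFinset.card := Finset.card_image_le
  rw [Set.ncard_eq_toFinset_card _ hΓ, Set.ncard_eq_toFinset_card _ hS] at hn
  omega

end Groth.Agent.Lib.helper27.PSLattice
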