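import Mathlib
import Groth.Prelude.Def_SpSeq

set_option autoImplicit false
set_option linter.unusedSectionVars false

namespace Groth.Agent.Lib.helper27

open CategoryTheory Limits

universe v u w

namespace DegSS

variable {C : Type u} [Category.{v} C] [Abelian C]

section ZeroPage

variable {κ : Type w} (c : ComplexShape κ) (X : κ → C)

/-- the complex with given terms and zero differentials -/
noncomputable def zeroPage : HomologicalComplex C c where
  X := X
  d _ _ := 0
  shape _ _ _ := rfl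
  d_comp_d' _ _ _ _ _ := zero_comp

lemma zeroPage_d (i j : κ) : (zeroPage c X).d i j = 0 := rfl

/-- the homology of a complex with zero differentials -/
noncomputable def zeroPageHomologyIso (i : κ) : (zeroPage c X).homology i ≅ X i :=
  (ShortComplex.HomologyData.ofZeros ((zeroPage c X).sc i) rfl rfl).left.homologyIso

end ZeroPage

section Deg

variable {κ : Type w} (c : ℤ → ComplexShape κ) (r₀ : ℤ)
  (P : HomologicalComplex C (c r₀)) (X₂ : κ → C) (e : ∀ pq, P.homology pq ≅ X₂ pq)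

/-- the pages of the degenerate spectral sequence -/
noncomputable def page (r : ℤ) : HomologicalComplex C (c r) :=
  if h : r = r₀ then h ▸ P else zeroPage (c r) X₂

lemma page_self : page c r₀ P X₂ r₀ = P := by
  simp [page]

lemma page_of_ne (r : ℤ) (h : r ≠ r₀) : page c r₀ P X₂ r = zeroPage (c r) X₂ := by
  simp [page, h]

/-- the spectral sequence with first page `P`, and all further pages given by the homology of `P`
with zero differentials -/
noncomputable def E : SpectralSequence C c r₀ where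
  page r _ := page c r₀ P X₂ r
  iso r r' pq hrr' hr :=
    if h : r = r₀ then
      eqToIso (by subst h; rw [page_self]) ≪≫ e pq ≪≫
        eqToIso (by rw [page_of_ne c r₀ P X₂ r' (by omega)]; rfl)
    else
      eqToIso (by rw [page_of_ne c r₀ P X₂ r h]) ≪≫ zeroPageHomologyIso (c r) X₂ pq ≪≫
        eqToIso (by rw [page_of_ne c r₀ P X₂ r' (by omega)]; rfl)

end Deg

section Gr

variable {A : C} (F : ℤ → Subobject A) (hF : Antitone F)

/-- the graded piece `F p / F (p+1)` is zero if `F p = F (p + 1)` -/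
lemma isZero_grPiece (p : ℤ) (h : F p = F (p + 1)) : IsZero (SpSeq.grPiece F hF p) := by
  have : IsIso ((F (p + 1)).ofLE (F p) (hF (Int.le_add_one le_rfl))) :=
    inferInstanceAs (IsIso (Subobject.isoOfEq (F (p + 1)) (F p) h.symm).hom)
  exact isZero_cokernel_of_epi _

/-- the graded piece `F p / F (p+1)` is everything if `F p = ⊤` and `F (p + 1) = ⊥` -/
noncomputable def grPieceIso (p : ℤ) (h0 : F p = ⊤) (h1 : F (p + 1) = ⊥) :
    SpSeq.grPiece F hF p ≅ A := by
  have hz : IsZero ((F (p + 1) : Subobject A) : C) := by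
    rw [h1]
    exact (isZero_zero C).of_iso Subobject.botCoeIsoZero
  have hm : (F (p + 1)).ofLE (F p) (hF (Int.le_add_one le_rfl)) = 0 := hz.eq_zero_of_src _
  have : IsIso (F p).arrow := by
    rw [Subobject.isIso_arrow_iff_eq_top]
    exact h0
  exact cokernelIsoOfEq hm ≪≫ cokernelZeroIsoTarget ≪≫ asIso (F p).arrow

end Gr

section Abut

/-- the shapes of cohomological spectral sequences -/
abbrev cc : ℤ → ComplexShape (ℤ × ℤ) := fun r => ComplexShape.up' (⟨r, 1 - r⟩ : ℤ × ℤ)

variable (P : HomologicalComplex C (cc 1)) (X₂ : ℤ × ℤ → C) (e : ∀ pq, P.homology pq ≅ X₂ pq)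
  (H : ℤ → C) (hX₂ : ∀ p q : ℤ, p ≠ 0 → IsZero (X₂ (p, q))) (eH : ∀ n : ℤ, X₂ (0, n) ≅ H n)

/-- the degenerate spectral sequence as a cohomological spectral sequence -/
noncomputable abbrev E₁ : CohomologicalSpectralSequence C 1 := E cc 1 P X₂ e

/-- the two step filtration -/
noncomputable def fil (n : ℤ) (p : ℤ) : Subobject (H n) := if p ≤ 0 then ⊤ else ⊥

lemma fil_anti (n : ℤ) : Antitone (fil H n) := by
  intro p p' h
  dsimp only [fil]
  by_cases h1 : p ≤ 0
  · rw [if_pos h1]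
    exact le_top
  · rw [if_neg h1, if_neg (by omega)]

lemma page_d_eq_zero (r : ℤ) (hr : 1 ≤ r) (h : 2 ≤ r) (a b : ℤ × ℤ) :
    ((E₁ P X₂ e).page r hr).d a b = 0 := by
  show (page cc 1 P X₂ r).d a b = 0
  rw [page_of_ne cc 1 P X₂ r (by omega)]
  rfl

/-- the second page -/
noncomputable def page2XIso (pq : ℤ × ℤ) : ((E₁ P X₂ e).page 2 (by norm_num)).X pq ≅ X₂ pq :=
  eqToIso (by
    show (page cc 1 P X₂ 2).X pq = X₂ pq
    rw [page_of_ne cc 1 P X₂ 2 (by norm_num)]
    rfl)

/-- the first page -/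
noncomputable def page1XIso (pq : ℤ × ℤ) : ((E₁ P X₂ e).page 1 le_rfl).X pq ≅ P.X pq :=
  eqToIso (by
    show (page cc 1 P X₂ 1).X pq = P.X pq
    rw [page_self])

/-- the abutment -/
noncomputable def abut : SpSeq.Abutment (E₁ P X₂ e) H where
  fil := fil H
  anti := fil_anti H
  rk _ := 2
  stat pq := ⟨by norm_num, fun r' h₀ hr' =>
    ⟨page_d_eq_zero P X₂ e r' h₀ hr' _ _, page_d_eq_zero P X₂ e r' h₀ hr' _ _⟩⟩
  β pq :=
    page2XIso P X₂ e pq ≪≫
      (if h : pq.1 = 0 then
        eqToIso (by rw [← h]) ≪≫ eH pq.2 ≪≫ eqToIso (by rw [h, zero_add]) ≪≫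
          (grPieceIso (fil H (pq.1 + pq.2)) (fil_anti H _) pq.1
            (by simp [fil, h]) (by simp [fil, h])).symm
      else
        (hX₂ pq.1 pq.2 h).iso (isZero_grPiece (fil H (pq.1 + pq.2)) (fil_anti H _) pq.1 (by
          dsimp only [fil]
          split_ifs <;> first | rfl | omega)))

lemma abut_isFinite (n : ℤ) : (abut P X₂ e H hX₂ eH).IsFinite n :=
  ⟨⟨0, show fil H n 0 = ⊤ from if_pos le_rfl⟩,
    ⟨1, show fil H n 1 = ⊥ from if_neg (by norm_num)⟩⟩

end Abut

section Rows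

variable (R' : ℤ → CochainComplex C ℤ)

lemma cc_one_rel (pq pq' : ℤ × ℤ) : (cc 1).Rel pq pq' ↔ pq.1 + 1 = pq'.1 ∧ pq.2 = pq'.2 := by
  show pq + ((1 : ℤ), (1 : ℤ) - 1) = pq' ↔ _
  rw [Prod.ext_iff]
  simp

/-- the first page attached to a family of rows -/
noncomputable def rowsPage : HomologicalComplex C (cc 1) where
  X pq := (R' pq.2).X pq.1
  d pq pq' := if h : pq.2 = pq'.2 then (R' pq.2).d pq.1 pq'.1 ≫ eqToHom (by rw [h]) else 0
  shape pq pq' hrel := by
    split_ifs with h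
    · rw [(R' pq.2).shape, zero_comp]
      intro h'
      exact hrel ((cc_one_rel pq pq').2 ⟨h', h⟩)
    · rfl
  d_comp_d' i j k hij hjk := by
    obtain ⟨h1, h2⟩ := (cc_one_rel i j).1 hij
    obtain ⟨h3, h4⟩ := (cc_one_rel j k).1 hjk
    obtain ⟨i1, i2⟩ := i
    obtain ⟨j1, j2⟩ := j
    obtain ⟨k1, k2⟩ := k
    dsimp at h1 h2 h3 h4
    subst h2 h4
    simp

lemma rowsPage_d (p p' q : ℤ) : (rowsPage R').d (p, q) (p', q) = (R' q).d p p' := by
  simp [rowsPage]

/-- the homology of the first page is the homology of the rows -/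
noncomputable def rowsPageHomologyIso (p q : ℤ) :
    (rowsPage R').homology (p, q) ≅ (R' q).homology p :=
  (rowsPage R').homologyIsoSc' (p - 1, q) (p, q) (p + 1, q)
      ((cc 1).prev_eq' ((cc_one_rel _ _).2 ⟨by simp, rfl⟩))
      ((cc 1).next_eq' ((cc_one_rel _ _).2 ⟨rfl, rfl⟩)) ≪≫
    ShortComplex.homologyMapIso
      (ShortComplex.isoMk (Iso.refl _) (Iso.refl _) (Iso.refl _)
        (by simp [rowsPage_d]; erw [Category.id_comp, Category.comp_id])
        (by simp [rowsPage_d]; erw [Category.id_comp, Category.comp_id]) :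
        (rowsPage R').sc' (p - 1, q) (p, q) (p + 1, q) ≅ (R' q).sc' (p - 1) p (p + 1)) ≪≫
    ((R' q).homologyIsoSc' (p - 1) p (p + 1) (by simp) (by simp)).symm

end Rows

section Main

open ZeroObject

open ComplexShape in
/-- the rows, extended by zero to all of `ℤ × ℤ` -/
noncomputable def extRows (R : ℕ → CochainComplex C ℕ) (q : ℤ) : CochainComplex C ℤ :=
  if 0 ≤ q then (R q.toNat).extend ComplexShape.embeddingUpNat else 0

variable (R : ℕ → CochainComplex C ℕ)

lemma extRows_of_nonneg (q : ℤ) (hq : 0 ≤ q) :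
    extRows R q = (R q.toNat).extend ComplexShape.embeddingUpNat := if_pos hq

lemma extRows_of_neg (q : ℤ) (hq : ¬ 0 ≤ q) : extRows R q = 0 := if_neg hq

lemma isZero_extRows_X (p q : ℤ) (h : ¬ (0 ≤ p ∧ 0 ≤ q)) : IsZero ((extRows R q).X p) := by
  by_cases hq : 0 ≤ q
  · rw [extRows_of_nonneg R q hq]
    apply HomologicalComplex.isZero_extend_X
    intro i hi
    apply h
    refine ⟨?_, hq⟩
    rw [← hi]
    simp
  · rw [extRows_of_neg R q hq]
    exact (HomologicalComplex.eval C _ p).map_isZero (isZero_zero _)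

/-- the terms of the extended rows -/
noncomputable def extRowsXIso (p q : ℤ) (hp : 0 ≤ p) (hq : 0 ≤ q) :
    (extRows R q).X p ≅ (R q.toNat).X p.toNat :=
  eqToIso (by rw [extRows_of_nonneg R q hq]) ≪≫
    (R q.toNat).extendXIso ComplexShape.embeddingUpNat
      (show ComplexShape.embeddingUpNat.f p.toNat = p by simp [hp])

/-- the homology of the extended rows -/
noncomputable def extRowsHomologyIso (p q : ℤ) (hp : 0 ≤ p) (hq : 0 ≤ q) :
    (extRows R q).homology p ≅ (R q.toNat).homology p.toNat :=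
  eqToIso (by rw [extRows_of_nonneg R q hq]) ≪≫
    (R q.toNat).extendHomologyIso ComplexShape.embeddingUpNat
      (show ComplexShape.embeddingUpNat.f p.toNat = p by simp [hp])

lemma isZero_extRows_homology (p q : ℤ) (h : ¬ (0 ≤ p ∧ 0 ≤ q)) :
    IsZero ((extRows R q).homology p) := by
  by_cases hq : 0 ≤ q
  · rw [extRows_of_nonneg R q hq, ← HomologicalComplex.exactAt_iff_isZero_homology]
    apply HomologicalComplex.extend_exactAt
    intro i hi
    apply h
    refine ⟨?_, hq⟩
    rw [← hi]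
    simp
  · rw [extRows_of_neg R q hq]
    exact (HomologicalComplex.homologyFunctor C _ p).map_isZero (isZero_zero _)

variable (H : ℕ → C) (Z₀ : C) (hZ₀ : IsZero Z₀) (e0 : ∀ q, (R q).homology 0 ≅ H q)
  (hpos : ∀ q p, IsZero ((R q).homology (p + 1)))

include hpos in
lemma isZero_extRows_homology' (p q : ℤ) (hp : p ≠ 0) : IsZero ((extRows R q).homology p) := by
  by_cases h : 0 ≤ p ∧ 0 ≤ q
  · obtain ⟨k, hk⟩ : ∃ k : ℕ, p.toNat = k + 1 := ⟨p.toNat - 1, by omega⟩
    refine IsZero.of_iso ?_ (extRowsHomologyIso R p q h.1 h.2)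
    rw [hk]
    exact hpos _ _
  · exact isZero_extRows_homology R p q h

/-- the abutment objects -/
noncomputable def Hbar (n : ℤ) : C := if 0 ≤ n then H n.toNat else Z₀

include hZ₀ in
/-- the identification of the `E₂`-terms in the column `p = 0` -/
noncomputable def eHbar (n : ℤ) : (extRows R n).homology 0 ≅ Hbar H Z₀ n :=
  if hn : 0 ≤ n then
    extRowsHomologyIso R 0 n le_rfl hn ≪≫ e0 n.toNat ≪≫ eqToIso (by simp [Hbar, hn])
  else
    (isZero_extRows_homology R 0 n (by tauto)).iso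
      (IsZero.of_iso hZ₀ (eqToIso (by simp [Hbar, hn])))

include hZ₀ e0 hpos in
theorem main :
    ∃ (E : CohomologicalSpectralSequence C 1)
      (a : SpSeq.Abutment E (fun n : ℤ => if 0 ≤ n then H n.toNat else Z₀)),
      (∀ n, a.IsFinite n) ∧ SpSeq.IsBounded E ∧
      ∀ p q : ℤ, Nonempty ((E.page 1 le_rfl).X (p, q) ≅
        (if 0 ≤ p ∧ 0 ≤ q then (R q.toNat).X p.toNat else Z₀)) := by
  let R' := extRows R
  let P := rowsPage R'
  let X₂ : ℤ × ℤ → C := fun pq => (R' pq.2).homology pq.1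
  let e : ∀ pq, P.homology pq ≅ X₂ pq := fun pq => rowsPageHomologyIso R' pq.1 pq.2
  have hX₂ : ∀ p q : ℤ, p ≠ 0 → IsZero (X₂ (p, q)) := fun p q hp =>
    isZero_extRows_homology' R hpos p q hp
  let eH : ∀ n : ℤ, X₂ (0, n) ≅ Hbar H Z₀ n := fun n => eHbar R H Z₀ hZ₀ e0 n
  have hterm : ∀ p q : ℤ, Nonempty (((E₁ P X₂ e).page 1 le_rfl).X (p, q) ≅
      (if 0 ≤ p ∧ 0 ≤ q then (R q.toNat).X p.toNat else Z₀)) := by
    intro p q
    by_cases h : 0 ≤ p ∧ 0 ≤ q
    · rw [if_pos h]
      exact ⟨page1XIso P X₂ e (p, q) ≪≫ extRowsXIso R p q h.1 h.2⟩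
    · rw [if_neg h]
      exact ⟨page1XIso P X₂ e (p, q) ≪≫ (isZero_extRows_X R p q h).iso hZ₀⟩
  refine ⟨E₁ P X₂ e, abut P X₂ e (Hbar H Z₀) hX₂ eH, abut_isFinite P X₂ e _ hX₂ eH, ?_, hterm⟩
  intro n
  apply Set.Finite.subset (Set.finite_Icc (0 : ℤ) n)
  intro p hp
  simp only [Set.mem_ofPred_eq] at hp
  by_contra hc
  apply hp
  obtain ⟨i⟩ := hterm p (n - p)
  rw [if_neg (by simp only [Set.mem_Icc] at hc; omega)] at i
  exact hZ₀.of_iso i

end Main

end DegSS

end Groth.Agent.Lib.helper27
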