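import Mathlib
import Groth.Prelude.Def_CohTop
import Groth.Agent.Lib.Helper27.AcyclicClass2
import Groth.Agent.Lib.Helper27.PushComp
import Groth.Agent.S0454

set_option autoImplicit false

namespace Groth.Agent.Lib.helper27

open CategoryTheory Limits Opposite TopologicalSpace

universe u

namespace FlasqueAcyc

lemma h1 {X : TopCat.{u}} (F : CohTop.Ab X) :
    ∃ (Y : CohTop.Ab X) (ι : F ⟶ Y), TopCat.Sheaf.IsFlasque Y ∧ Mono ι :=
  ⟨Injective.under F, Injective.ι F, Groth.Agent.S0454.result _, inferInstance⟩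

lemma epi_push_g {X Y : TopCat.{u}} (f : X ⟶ Y) (S : ShortComplex (CohTop.Ab X))
    (hS : S.ShortExact) (h1 : TopCat.Sheaf.IsFlasque S.X₁) :
    Epi ((CohTop.push f).map S.g) := by
  refine (TopCat.Sheaf.isLocallySurjective_iff_epi (C := AddCommGrpCat.{u}) (X := Y)
    ((CohTop.push f).map S.g)).mp ?_
  rw [TopCat.Presheaf.isLocallySurjective_iff]
  intro U t x hx
  have := TopCat.Sheaf.IsFlasque.epi_of_shortExact (U := (Opens.map f).obj U) hS
  rw [AddCommGrpCat.epi_iff_surjective] at this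
  obtain ⟨s, hs⟩ := this t
  refine ⟨U, le_rfl, ⟨s, ?_⟩, hx⟩
  have e : TopCat.Presheaf.restrictOpen t U le_rfl = t := by
    simp [TopCat.Presheaf.restrictOpen, TopCat.Presheaf.restrict]
    rfl
  rw [e]
  exact hs

lemma h2 {X Y : TopCat.{u}} (f : X ⟶ Y) (S : ShortComplex (CohTop.Ab X)) (hS : S.ShortExact)
    (h1 : TopCat.Sheaf.IsFlasque S.X₁) (h2 : TopCat.Sheaf.IsFlasque S.X₂) :
    TopCat.Sheaf.IsFlasque S.X₃ ∧ (S.map (CohTop.push f)).ShortExact :=
  ⟨TopCat.Sheaf.IsFlasque.of_shortExact_of_isFlasque₁₂ hS,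
    Horseshoe.map_shortExact_of_epi (CohTop.push f) hS (epi_push_g f S hS h1)⟩

theorem isZero_Rpush_succ {X Y : TopCat.{u}} (f : X ⟶ Y) (F : CohTop.Ab X)
    [TopCat.Sheaf.IsFlasque F] (q : ℕ) : IsZero ((CohTop.Rpush f (q + 1)).obj F) :=
  Horseshoe.isZero_rightDerived_succ_of_class (CohTop.push f)
    (fun G => TopCat.Sheaf.IsFlasque G) h1 (fun S hS a b => h2 f S hS a b) q F inferInstance

end FlasqueAcyc

end Groth.Agent.Lib.helper27
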