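import Mathlib
import Groth.Prelude.Def_LocCohZ
import Groth.Agent.Lib.Helper27.SSGroth4
import Groth.Agent.Lib.Helper27.PushComp

set_option autoImplicit false

namespace Groth.Agent.Lib.helper27

open CategoryTheory Limits Opposite Abelian TopologicalSpace

universe u

namespace LocCohKer

variable {X : TopCat.{u}}

/-- maps out of `ℤ_V/ℤ_W` are the sections over `V` vanishing on `W` -/
noncomputable def homEquiv (G : CohTop.Ab X) {W V : Opens X} (h : W ≤ V) :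
    (LocCohZ.zq h ⟶ G) ≃+ LocCohZ.sectZ G h :=
  (Ext.addEquiv₀ (X := LocCohZ.zq h) (Y := G)).symm.trans (LocCohZ.sect0Equiv G h)

lemma homEquiv_apply_coe (G : CohTop.Ab X) {W V : Opens X} (h : W ≤ V) (x : LocCohZ.zq h ⟶ G) :
    ((homEquiv G h x : LocCohZ.sectZ G h) : G.obj.obj (op V)) =
      CohFree.evalGen (Opens.grothendieckTopology X) V G (cokernel.π _ ≫ x) := by
  show CohFree.evalGen (Opens.grothendieckTopology X) V G
    (cokernel.π _ ≫ Ext.addEquiv₀ (Ext.addEquiv₀.symm x)) = _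
  rw [AddEquiv.apply_symm_apply]

lemma homEquiv_comp {G G' : CohTop.Ab X} (φ : G ⟶ G') {W V : Opens X} (h : W ≤ V)
    (x : LocCohZ.zq h ⟶ G) :
    ((homEquiv G' h (x ≫ φ) : LocCohZ.sectZ G' h) : G'.obj.obj (op V)) =
      (φ.hom.app (op V)).hom ((homEquiv G h x : LocCohZ.sectZ G h) : G.obj.obj (op V)) := by
  rw [homEquiv_apply_coe, homEquiv_apply_coe]
  rfl

variable {Y : TopCat.{u}}

/-- the component of `pushCoyIso` -/
noncomputable def pushCoyEquiv (f : X ⟶ Y) (V : Opens Y) (G : CohTop.Ab X) :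
    (LocCohZ.zq (le_top : V ≤ ⊤) ⟶ (CohTop.push f).obj G) ≃+
      (LocCohZ.zq (le_top : (Opens.map f).obj V ≤ ⊤) ⟶ G) :=
  (homEquiv ((CohTop.push f).obj G) (le_top : V ≤ ⊤)).trans
    ((AddEquiv.refl _).trans (homEquiv G (le_top : (Opens.map f).obj V ≤ ⊤)).symm)

lemma pushCoyEquiv_naturality (f : X ⟶ Y) (V : Opens Y) {G G' : CohTop.Ab X} (φ : G ⟶ G')
    (x : LocCohZ.zq (le_top : V ≤ ⊤) ⟶ (CohTop.push f).obj G) :
    pushCoyEquiv f V G' (x ≫ (CohTop.push f).map φ) = pushCoyEquiv f V G x ≫ φ := by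
  apply (homEquiv G' (le_top : (Opens.map f).obj V ≤ ⊤)).injective
  apply Subtype.ext
  rw [homEquiv_comp]
  have h1 : ∀ (G₁ : CohTop.Ab X) (y : LocCohZ.zq (le_top : V ≤ ⊤) ⟶ (CohTop.push f).obj G₁),
      (homEquiv G₁ (le_top : (Opens.map f).obj V ≤ ⊤) (pushCoyEquiv f V G₁ y)).1 =
      (homEquiv ((CohTop.push f).obj G₁) (le_top : V ≤ ⊤) y).1 := by
    intro G₁ y
    exact congrArg Subtype.val
      ((homEquiv G₁ (le_top : (Opens.map f).obj V ≤ ⊤)).apply_symm_apply _)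
  rw [h1, h1, homEquiv_comp]
  rfl

/-- `Hom(ℤ_{Y'}, f_* G) ≅ Hom(ℤ_{f⁻¹ Y'}, G)` naturally in `G` -/
noncomputable def pushCoyIso (f : X ⟶ Y) (V : Opens Y) :
    CohTop.push f ⋙ preadditiveCoyoneda.obj (op (LocCohZ.zq (le_top : V ≤ ⊤))) ≅
      preadditiveCoyoneda.obj (op (LocCohZ.zq (le_top : (Opens.map f).obj V ≤ ⊤))) :=
  NatIso.ofComponents (fun G => (pushCoyEquiv f V G).toAddCommGrpIso) (by
    intro G G' φ
    apply AddCommGrpCat.hom_ext
    apply AddMonoidHom.ext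
    intro x
    exact pushCoyEquiv_naturality f V φ x)

end LocCohKer

end Groth.Agent.Lib.helper27
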