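import Mathlib
import Groth.Prelude.Def_LocCohZ
import Groth.Agent.Lib.Helper27.LocCohKer

set_option autoImplicit false

namespace Groth.Agent.Lib.helper27

open CategoryTheory Limits Opposite Abelian TopologicalSpace

universe u

namespace SectSupp

variable {X : TopCat.{u}} (U : Opens X)

lemma hj : Topology.IsOpenEmbedding (CohCx.incl U) := U.isOpenEmbedding

lemma opensMap_isContinuous {X Y : TopCat.{u}} (f : X ⟶ Y) :
    (Opens.map f).IsContinuous (Opens.grothendieckTopology Y) (Opens.grothendieckTopology X) :=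
  inferInstance

/-- the explicit adjunction between restriction to an open subspace and direct image -/
noncomputable def adj₂ : CohTop.restrFunctor U ⊣ CohTop.push (CohCx.incl U) :=
  haveI := (hj U).functor_isContinuous
  haveI := opensMap_isContinuous (CohCx.incl U)
  (hj U).isOpenMap.adjunction.sheafPushforwardContinuous (E := AddCommGrpCat.{u})
    (Opens.grothendieckTopology (TopCat.of U)) (Opens.grothendieckTopology X)

/-- `V ∩ U`, as the image of the preimage -/
noncomputable abbrev jj (V : Opens X) : Opens X :=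
  (hj U).isOpenMap.functor.obj ((Opens.map (CohCx.incl U)).obj V)

lemma jj_le (V : Opens X) : jj U V ≤ V := by
  rintro _ ⟨x, hx, rfl⟩
  exact hx

lemma jj_le' (V : Opens X) : jj U V ≤ U := by
  rintro _ ⟨x, hx, rfl⟩
  exact x.2

lemma le_jj (V W : Opens X) (h1 : W ≤ V) (h2 : W ≤ U) : W ≤ jj U V := by
  intro x hx
  exact ⟨⟨x, h2 hx⟩, h1 hx, rfl⟩

lemma adj₂_unit_app (F : CohTop.Ab X) (V : Opens X) :
    ((adj₂ U).unit.app F).hom.app (op V) = F.obj.map (homOfLE (jj_le U V)).op := by
  have : ((adj₂ U).unit.app F).hom.app (op V) =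
      𝟙 _ ≫ F.obj.map ((hj U).isOpenMap.adjunction.op.unit.app (op V)) ≫ 𝟙 _ := rfl
  rw [this, Category.id_comp, Category.comp_id]
  rfl

/-- the unit of the pullback-pushforward adjunction of the inclusion of `U` -/
noncomputable abbrev η (F : CohTop.Ab X) :
    F ⟶ (CohTop.push (CohCx.incl U)).obj ((CohTop.pull (CohCx.incl U)).obj F) :=
  (TopCat.Sheaf.pullbackPushforwardAdjunction AddCommGrpCat.{u} (CohCx.incl U)).unit.app F

lemma comp_η_eq_zero_iff {G F : CohTop.Ab X} (φ : G ⟶ F) :
    φ ≫ η U F = 0 ↔ φ ≫ (adj₂ U).unit.app F = 0 := by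
  have h := Adjunction.unit_leftAdjointUniq_hom_app
    (TopCat.Sheaf.pullbackPushforwardAdjunction AddCommGrpCat.{u} (CohCx.incl U)) (adj₂ U) F
  have h' : φ ≫ (adj₂ U).unit.app F = (φ ≫ η U F) ≫ (CohTop.push (CohCx.incl U)).map
      (((TopCat.Sheaf.pullbackPushforwardAdjunction AddCommGrpCat.{u}
        (CohCx.incl U)).leftAdjointUniq (adj₂ U)).hom.app F) :=
    (congrArg (fun k => φ ≫ k) h.symm).trans (Category.assoc _ _ _).symm
  constructor
  · intro h0
    rw [h', h0, zero_comp]
  · intro h0
    rw [h'] at h0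
    exact (cancel_mono _).1 (h0.trans zero_comp.symm)

section general

variable {J : GrothendieckTopology (Opens X)}

lemma evalGen_comp {V : Opens X} {F G : CohTop.Ab X} (φ : CohCx.freeSheaf _ V ⟶ F) (f : F ⟶ G) :
    CohFree.evalGen (Opens.grothendieckTopology X) V G (φ ≫ f) =
      (f.hom.app (op V)).hom (CohFree.evalGen (Opens.grothendieckTopology X) V F φ) := rfl

lemma ofSect_comp_eq_zero_iff {V : Opens X} {F G : CohTop.Ab X} (s : F.obj.obj (op V)) (f : F ⟶ G) :
    CohFree.ofSect (Opens.grothendieckTopology X) V F s ≫ f = 0 ↔ (f.hom.app (op V)).hom s = 0 := by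
  rw [← (CohFree.homEquivSect (Opens.grothendieckTopology X) V G).map_eq_zero_iff,
    CohFree.homEquivSect_apply, evalGen_comp, CohFree.evalGen_ofSect]

lemma app_injective_of_mono {F G : CohTop.Ab X} (m : F ⟶ G) [Mono m] (V : Opens X) :
    Function.Injective (m.hom.app (op V)).hom := by
  intro s t h
  have h1 : CohFree.ofSect (Opens.grothendieckTopology X) V F s ≫ m =
      CohFree.ofSect (Opens.grothendieckTopology X) V F t ≫ m := by
    apply (CohFree.homEquivSect (Opens.grothendieckTopology X) V G).injective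
    rw [CohFree.homEquivSect_apply, CohFree.homEquivSect_apply, evalGen_comp, evalGen_comp,
      CohFree.evalGen_ofSect, CohFree.evalGen_ofSect]
    exact h
  have h2 := (cancel_mono m).1 h1
  have h3 := congrArg (CohFree.evalGen (Opens.grothendieckTopology X) V F) h2
  rwa [CohFree.evalGen_ofSect, CohFree.evalGen_ofSect] at h3

/-- sections of a kernel -/
lemma exists_kernel_ι_app_eq_iff {F G : CohTop.Ab X} (f : F ⟶ G) (V : Opens X)
    (s : F.obj.obj (op V)) :
    (∃ t : (kernel f).obj.obj (op V), ((kernel.ι f).hom.app (op V)).hom t = s) ↔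
      (f.hom.app (op V)).hom s = 0 := by
  constructor
  · rintro ⟨t, rfl⟩
    have h : kernel.ι f ≫ f = 0 := kernel.condition f
    have h2 := congrArg (fun k => (k.hom.app (op V)).hom t) h
    exact h2
  · intro hs
    have h0 : CohFree.ofSect (Opens.grothendieckTopology X) V F s ≫ f = 0 :=
      (ofSect_comp_eq_zero_iff s f).2 hs
    refine ⟨CohFree.evalGen (Opens.grothendieckTopology X) V _ (kernel.lift f _ h0), ?_⟩
    rw [← evalGen_comp, kernel.lift_ι, CohFree.evalGen_ofSect]

end general

lemma η_app_eq_zero_iff (F : CohTop.Ab X) (V : Opens X) (s : F.obj.obj (op V)) :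
    ((η U F).hom.app (op V)).hom s = 0 ↔ (F.obj.map (homOfLE (jj_le U V)).op).hom s = 0 := by
  rw [← ofSect_comp_eq_zero_iff, comp_η_eq_zero_iff, ofSect_comp_eq_zero_iff, adj₂_unit_app]
  exact Iff.rfl

end SectSupp

end Groth.Agent.Lib.helper27
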