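import Mathlib
import Groth.Prelude.Def_LocCohZ
import Groth.Agent.Lib.Helper27.SectSupp1

set_option autoImplicit false

namespace Groth.Agent.Lib.helper27

open CategoryTheory Limits Opposite Abelian TopologicalSpace

universe u

namespace SectSupp

variable {X : TopCat.{u}}

lemma map_map_apply (A : CohTop.Ab X) {V₁ V₂ V₃ : Opens X} (h₁ : V₂ ≤ V₁) (h₂ : V₃ ≤ V₂)
    (s : A.obj.obj (op V₁)) :
    (A.obj.map (homOfLE h₂).op).hom ((A.obj.map (homOfLE h₁).op).hom s) =
      (A.obj.map (homOfLE (h₂.trans h₁)).op).hom s := by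
  have : A.obj.map (homOfLE (h₂.trans h₁)).op =
      A.obj.map (homOfLE h₁).op ≫ A.obj.map (homOfLE h₂).op := by
    rw [← Functor.map_comp]
    rfl
  rw [this]
  rfl

/-- gluing two sections of an abelian sheaf -/
lemma glue_two (A : CohTop.Ab X) (V₁ V₂ W : Opens X) (h₁ : V₁ ≤ W) (h₂ : V₂ ≤ W)
    (hW : W ≤ V₁ ⊔ V₂) (s₁ : A.obj.obj (op V₁)) (s₂ : A.obj.obj (op V₂))
    (h : (A.obj.map (homOfLE (inf_le_left : V₁ ⊓ V₂ ≤ V₁)).op).hom s₁ =
      (A.obj.map (homOfLE (inf_le_right : V₁ ⊓ V₂ ≤ V₂)).op).hom s₂) :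
    ∃ s : A.obj.obj (op W), (A.obj.map (homOfLE h₁).op).hom s = s₁ ∧
      (A.obj.map (homOfLE h₂).op).hom s = s₂ := by
  let Uf : Bool → Opens X := fun b => cond b V₁ V₂
  let sf : ∀ b : Bool, A.obj.obj (op (Uf b)) := fun b => by
    cases b
    · exact s₂
    · exact s₁
  have hcover : W ≤ iSup Uf := by
    refine hW.trans (sup_le ?_ ?_)
    · exact le_iSup Uf true
    · exact le_iSup Uf false
  have hcomp : TopCat.Presheaf.IsCompatible A.obj Uf sf := by
    intro i j
    cases i <;> cases j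
    · rfl
    · have := h.symm
      show (A.obj.map (homOfLE (inf_le_left : V₂ ⊓ V₁ ≤ V₂)).op).hom s₂ =
        (A.obj.map (homOfLE (inf_le_right : V₂ ⊓ V₁ ≤ V₁)).op).hom s₁
      have e1 := map_map_apply A (inf_le_right : V₁ ⊓ V₂ ≤ V₂)
        (le_inf inf_le_right inf_le_left : V₂ ⊓ V₁ ≤ V₁ ⊓ V₂) s₂
      have e2 := map_map_apply A (inf_le_left : V₁ ⊓ V₂ ≤ V₁)
        (le_inf inf_le_right inf_le_left : V₂ ⊓ V₁ ≤ V₁ ⊓ V₂) s₁
      rw [← h] at e1
      exact e1.symm.trans e2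
    · exact h
    · rfl
  obtain ⟨s, hs, -⟩ := TopCat.Sheaf.existsUnique_gluing' A Uf W
    (fun b => homOfLE (by cases b; exact h₂; exact h₁)) hcover sf hcomp
  exact ⟨s, hs true, hs false⟩

/-- sections with support in a closed subset of a flasque sheaf form a flasque sheaf -/
theorem isFlasque_sectSupp (U : Opens X) (A : CohTop.Ab X) [hA : TopCat.Sheaf.IsFlasque A] :
    TopCat.Sheaf.IsFlasque (CohCx.sectSupp U A) := by
  constructor
  intro V V' i
  rw [AddCommGrpCat.epi_iff_surjective]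
  intro t'
  have hle : V'.unop ≤ V.unop := leOfHom i.unop
  let ι := kernel.ι (η U A)
  let s' : A.obj.obj (op V'.unop) := (ι.hom.app (op V'.unop)).hom t'
  have h0 : (A.obj.map (homOfLE (jj_le U V'.unop)).op).hom s' = 0 :=
    (η_app_eq_zero_iff U A V'.unop s').1
      ((exists_kernel_ι_app_eq_iff (η U A) V'.unop s').1 ⟨t', rfl⟩)
  have hW : V'.unop ⊔ jj U V.unop ≤ V.unop := sup_le hle (jj_le U V.unop)
  obtain ⟨s'', hs1, hs2⟩ := glue_two A V'.unop (jj U V.unop) (V'.unop ⊔ jj U V.unop)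
    le_sup_left le_sup_right le_rfl s' 0 (by
      rw [map_zero]
      have hle2 : V'.unop ⊓ jj U V.unop ≤ jj U V'.unop :=
        le_jj U V'.unop _ inf_le_left (inf_le_right.trans (jj_le' U V.unop))
      have := map_map_apply A (jj_le U V'.unop) hle2 s'
      rw [h0, map_zero] at this
      exact this.symm)
  have hepi : Epi (A.obj.map (homOfLE hW).op) := hA.epi _
  rw [AddCommGrpCat.epi_iff_surjective] at hepi
  obtain ⟨s, hs⟩ := hepi s''
  have hs0 : (A.obj.map (homOfLE (jj_le U V.unop)).op).hom s = 0 := by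
    have := map_map_apply A hW (le_sup_right : jj U V.unop ≤ V'.unop ⊔ jj U V.unop) s
    rw [← this]
    exact (congrArg _ hs).trans hs2
  obtain ⟨t, ht⟩ := (exists_kernel_ι_app_eq_iff (η U A) V.unop s).2
    ((η_app_eq_zero_iff U A V.unop s).2 hs0)
  refine ⟨t, ?_⟩
  apply app_injective_of_mono ι V'.unop
  have hnat := ConcreteCategory.congr_hom (ι.hom.naturality i) t
  refine hnat.trans ?_
  show (A.obj.map i).hom ((ι.hom.app (op V.unop)).hom t) = s'
  rw [ht]
  have h3 := map_map_apply A hW (le_sup_left : V'.unop ≤ V'.unop ⊔ jj U V.unop) s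
  have h4 : (A.obj.map i).hom s = (A.obj.map (homOfLE hle).op).hom s := rfl
  rw [h4, ← h3]
  exact (congrArg _ hs).trans hs1

end SectSupp

end Groth.Agent.Lib.helper27
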