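import Mathlib
import Groth.Prelude.Def_LocCohZ
import Groth.Agent.Lib.Helper27.SectSupp2
import Groth.Agent.S0452
import Groth.Agent.S0454
import Groth.Prelude.Def_SpSeq

set_option autoImplicit false
set_option linter.style.haveILetI false

namespace Groth.Agent.Lib.helper27

open CategoryTheory Limits Opposite Abelian TopologicalSpace

universe u

namespace SectSupp

variable {X : TopCat.{u}} (U : Opens X)

/-- Lemma B: a morphism `ℤ_V ⟶ F` is killed by the unit iff it vanishes on `ℤ_{V ∩ U}` -/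
lemma comp_η_eq_zero_iff' {V W : Opens X} (hWV : W ≤ V) (h1 : W ≤ jj U V) (h2 : jj U V ≤ W)
    (F : CohTop.Ab X) (φ : CohCx.freeSheaf (Opens.grothendieckTopology X) V ⟶ F) :
    φ ≫ η U F = 0 ↔ CohCx.freeSheafMap (Opens.grothendieckTopology X) (homOfLE hWV) ≫ φ = 0 := by
  rw [← (CohFree.homEquivSect (Opens.grothendieckTopology X) V _).map_eq_zero_iff,
    ← (CohFree.homEquivSect (Opens.grothendieckTopology X) W _).map_eq_zero_iff,
    CohFree.homEquivSect_apply, CohFree.homEquivSect_apply, evalGen_comp,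
    CohFree.evalGen_freeSheafMap_comp, η_app_eq_zero_iff]
  constructor
  · intro h
    have := map_map_apply F (jj_le U V) h1
      (CohFree.evalGen (Opens.grothendieckTopology X) V F φ)
    rw [h, map_zero] at this
    exact this.symm
  · intro h
    have := map_map_apply F hWV h2
      (CohFree.evalGen (Opens.grothendieckTopology X) V F φ)
    rw [h, map_zero] at this
    exact this.symm

lemma top_cond1 : U ≤ jj U ⊤ := le_jj U ⊤ U le_top le_rfl
lemma top_cond2 : jj U ⊤ ≤ U := jj_le' U ⊤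

/-- the forward map of `homIso` -/
noncomputable def toZq (F : CohTop.Ab X)
    (ψ : CohCx.freeSheaf (Opens.grothendieckTopology X) (⊤ : Opens X) ⟶ CohCx.sectSupp U F) :
    LocCohZ.zq (le_top : U ≤ ⊤) ⟶ F :=
  cokernel.desc _ (ψ ≫ kernel.ι (η U F)) (by
    rw [← comp_η_eq_zero_iff' U le_top (top_cond1 U) (top_cond2 U), Category.assoc,
      kernel.condition, comp_zero])

lemma π_toZq (F : CohTop.Ab X)
    (ψ : CohCx.freeSheaf (Opens.grothendieckTopology X) (⊤ : Opens X) ⟶ CohCx.sectSupp U F) :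
    cokernel.π _ ≫ toZq U F ψ = ψ ≫ kernel.ι (η U F) :=
  cokernel.π_desc _ _ _

lemma toZq_bijective (F : CohTop.Ab X) : Function.Bijective (toZq U F) := by
  constructor
  · intro ψ ψ' h
    have := congrArg (fun k => cokernel.π _ ≫ k) h
    simp only [π_toZq] at this
    exact (cancel_mono _).1 this
  · intro χ
    have h0 : (cokernel.π (CohCx.freeSheafMap (Opens.grothendieckTopology X)
        (homOfLE (le_top : U ≤ ⊤))) ≫ χ) ≫ η U F = 0 := by
      rw [comp_η_eq_zero_iff' U le_top (top_cond1 U) (top_cond2 U), cokernel.condition_assoc,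
        zero_comp]
    refine ⟨kernel.lift _ _ h0, ?_⟩
    apply (cancel_epi (cokernel.π _)).1
    rw [π_toZq, kernel.lift_ι]

/-- `Γ(X, Γ_Z F) ≅ Hom(ℤ_X/ℤ_U, F)`, naturally in `F` -/
noncomputable def homIso :
    LocCohZ.sectSuppF U ⋙ preadditiveCoyoneda.obj
        (op (CohCx.freeSheaf (Opens.grothendieckTopology X) (⊤ : Opens X))) ≅
      preadditiveCoyoneda.obj (op (LocCohZ.zq (le_top : U ≤ ⊤))) :=
  NatIso.ofComponents (fun F => (AddEquiv.ofBijective
    (AddMonoidHom.mk' (toZq U F) (by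
      intro ψ ψ'
      apply (cancel_epi (cokernel.π _)).1
      rw [Preadditive.comp_add, π_toZq, π_toZq, π_toZq, Preadditive.add_comp]))
    (toZq_bijective U F)).toAddCommGrpIso) (by
      intro F F' α
      apply AddCommGrpCat.hom_ext
      apply AddMonoidHom.ext
      intro ψ
      show toZq U F' (ψ ≫ (LocCohZ.sectSuppF U).map α) = toZq U F ψ ≫ α
      apply (cancel_epi (cokernel.π _)).1
      rw [π_toZq, ← Category.assoc, π_toZq, Category.assoc, Category.assoc]
      congr 1
      exact kernel.lift_ι _ _ _)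

theorem localToGlobal_ss (F : CohTop.Ab X) :
    ∃ (E : E₂CohomologicalSpectralSequence AddCommGrpCat.{u})
      (a : SpSeq.Abutment E (fun n : ℤ =>
        if 0 ≤ n then AddCommGrpCat.of (LocCohZ.HZc F n.toNat U) else AddCommGrpCat.of PUnit.{u + 1})),
      (∀ n : ℤ, a.IsFinite n) ∧ SpSeq.IsBounded E ∧
      ∀ p q : ℤ, Nonempty ((E.page 2 le_rfl).X (p, q) ≅
        (if 0 ≤ p ∧ 0 ≤ q then AddCommGrpCat.of (CohTop.HU ((LocCohZ.HZsh U q.toNat).obj F) p.toNat ⊤)
          else AddCommGrpCat.of PUnit.{u + 1})) := by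
  let T := LocCohZ.sectSuppF U
  let S : CohTop.Ab X ⥤ AddCommGrpCat.{u} := preadditiveCoyoneda.obj
    (op (CohCx.freeSheaf (Opens.grothendieckTopology X) (⊤ : Opens X)))
  haveI : PreservesFiniteLimits (T ⋙ S) :=
    preservesFiniteLimits_of_natIso (homIso U).symm
  refine SSGroth.grothendieck_ss_nat T S ?_ F
    (fun n => AddCommGrpCat.of (LocCohZ.HZc F n U)) ?_
    (fun p q => AddCommGrpCat.of (CohTop.HU ((LocCohZ.HZsh U q).obj F) p ⊤)) ?_ _ _ ?_ ?_
  · intro Q hQ q hq
    obtain ⟨j, rfl⟩ : ∃ j, q = j + 1 := ⟨q - 1, by omega⟩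
    haveI : TopCat.Sheaf.IsFlasque Q := Groth.Agent.S0454.result Q
    haveI : TopCat.Sheaf.IsFlasque (T.obj Q) := isFlasque_sectSupp U Q
    obtain ⟨e⟩ := ExtCoy.rightDerived_iso_ext S _ (Iso.refl _) (j + 1) (T.obj Q)
    refine IsZero.of_iso ?_ e.symm
    have : Subsingleton (CohTop.HU (T.obj Q) (j + 1) ⊤) := Groth.Agent.S0452.result (T.obj Q) ⊤ j
    exact @AddCommGrpCat.isZero_of_subsingleton _ this
  · intro k
    exact ExtCoy.rightDerived_iso_ext (T ⋙ S) _ (homIso U).symm k F
  · intro k l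
    exact ExtCoy.rightDerived_iso_ext S _ (Iso.refl _) k _
  · exact AddCommGrpCat.isZero_of_subsingleton _
  · exact AddCommGrpCat.isZero_of_subsingleton _

end SectSupp

end Groth.Agent.Lib.helper27
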