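import Mathlib
import Groth.Prelude.Def_LocCohZ
import Groth.Agent.Lib.Helper27.SectSupp3
import Groth.Agent.Lib.Helper27.FlasqueAcyc

set_option autoImplicit false
set_option linter.style.haveILetI false

namespace Groth.Agent.Lib.helper27

open CategoryTheory Limits Opposite Abelian TopologicalSpace

universe u

namespace SectSupp

variable {X : TopCat.{u}} (U : Opens X)

/-- the inclusion `Γ_Z F ⟶ F` -/
noncomputable def ιZ (F : CohTop.Ab X) : (LocCohZ.sectSuppF U).obj F ⟶ F := kernel.ι (η U F)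

instance (F : CohTop.Ab X) : Mono (ιZ U F) := by
  unfold ιZ
  exact equalizer.ι_mono

lemma ιZ_η (F : CohTop.Ab X) : ιZ U F ≫ η U F = 0 := kernel.condition _

/-- lifting to `Γ_Z F` -/
noncomputable def liftZ {T F : CohTop.Ab X} (l : T ⟶ F) (h : l ≫ η U F = 0) :
    T ⟶ (LocCohZ.sectSuppF U).obj F := kernel.lift _ l h

lemma liftZ_ι {T F : CohTop.Ab X} (l : T ⟶ F) (h : l ≫ η U F = 0) :
    liftZ U l h ≫ ιZ U F = l := kernel.lift_ι _ _ _

lemma map_ι {A B : CohTop.Ab X} (f : A ⟶ B) :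
    (LocCohZ.sectSuppF U).map f ≫ ιZ U B = ιZ U A ≫ f :=
  kernel.lift_ι _ _ _

lemma η_naturality {A B : CohTop.Ab X} (f : A ⟶ B) :
    f ≫ η U B = η U A ≫ (CohTop.push (CohCx.incl U)).map ((CohTop.pull (CohCx.incl U)).map f) :=
  ((TopCat.Sheaf.pullbackPushforwardAdjunction AddCommGrpCat.{u} (CohCx.incl U)).unit.naturality f)

lemma mono_push_pull {A B : CohTop.Ab X} (f : A ⟶ B) [hf : Mono f] :
    Mono ((CohTop.push (CohCx.incl U)).map ((CohTop.pull (CohCx.incl U)).map f)) := by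
  have h3 : (TopCat.Sheaf.pullback AddCommGrpCat.{u} (CohCx.incl U)).PreservesMonomorphisms :=
    inferInstance
  have h4 : (TopCat.Sheaf.pushforward AddCommGrpCat.{u} (CohCx.incl U)).PreservesMonomorphisms :=
    inferInstance
  have h5 : Mono ((TopCat.Sheaf.pullback AddCommGrpCat.{u} (CohCx.incl U)).map f) :=
    @Functor.map_mono _ _ _ _ (TopCat.Sheaf.pullback AddCommGrpCat.{u} (CohCx.incl U)) h3 _ _ f hf
  exact @Functor.map_mono _ _ _ _ (TopCat.Sheaf.pushforward AddCommGrpCat.{u} (CohCx.incl U)) h4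
    _ _ _ h5

lemma mono_map {A B : CohTop.Ab X} (f : A ⟶ B) [Mono f] :
    Mono ((LocCohZ.sectSuppF U).map f) := by
  have : Mono ((LocCohZ.sectSuppF U).map f ≫ ιZ U B) := by
    rw [map_ι]
    exact mono_comp _ _
  exact mono_of_mono _ (ιZ U B)

lemma exact_map (S : ShortComplex (CohTop.Ab X)) (hS : S.ShortExact) :
    (S.map (LocCohZ.sectSuppF U)).Exact := by
  haveI := hS.mono_f
  haveI := mono_push_pull U S.f
  haveI : Mono (S.map (LocCohZ.sectSuppF U)).f := mono_map U S.f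
  refine ShortComplex.exact_of_f_is_kernel _ (KernelFork.IsLimit.ofι' _ _ ?_)
  intro T k hk
  change T ⟶ (LocCohZ.sectSuppF U).obj S.X₂ at k
  change k ≫ (LocCohZ.sectSuppF U).map S.g = 0 at hk
  have hk' : (k ≫ ιZ U S.X₂) ≫ S.g = 0 := by
    rw [Category.assoc, ← map_ι, ← Category.assoc, hk, zero_comp]
  let l₀ : T ⟶ S.X₁ := hS.exact.lift _ hk'
  have hl₀ : l₀ ≫ S.f = k ≫ ιZ U S.X₂ := hS.exact.lift_f _ hk'
  have h0 : l₀ ≫ η U S.X₁ = 0 := by
    apply (cancel_mono ((CohTop.push (CohCx.incl U)).map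
      ((CohTop.pull (CohCx.incl U)).map S.f))).1
    rw [Category.assoc, ← η_naturality, ← Category.assoc, hl₀, Category.assoc, ιZ_η,
      comp_zero, zero_comp]
  refine ⟨liftZ U l₀ h0, ?_⟩
  show liftZ U l₀ h0 ≫ (LocCohZ.sectSuppF U).map S.f = k
  apply (cancel_mono (ιZ U S.X₂)).1
  rw [Category.assoc, map_ι, ← Category.assoc, liftZ_ι, hl₀]

instance : PreservesFiniteLimits (LocCohZ.sectSuppF U) := by
  apply ((Functor.preservesFiniteLimits_tfae (LocCohZ.sectSuppF U)).out 0 3).1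
  intro S hS
  haveI := hS.mono_f
  exact ⟨exact_map U S hS, mono_map U S.f⟩

lemma ιZ_app_injective (F : CohTop.Ab X) (V : Opens X) :
    Function.Injective ((ιZ U F).hom.app (op V)).hom :=
  app_injective_of_mono (ιZ U F) V

lemma exists_ιZ_app_eq_iff (F : CohTop.Ab X) (V : Opens X) (s : F.obj.obj (op V)) :
    (∃ t : ((LocCohZ.sectSuppF U).obj F).obj.obj (op V), ((ιZ U F).hom.app (op V)).hom t = s) ↔
      (F.obj.map (homOfLE (jj_le U V)).op).hom s = 0 :=
  (exists_kernel_ι_app_eq_iff (η U F) V s).trans (η_app_eq_zero_iff U F V s)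

/-- `Γ_Z` is exact on short exact sequences starting with a flasque sheaf -/
lemma epi_map_g (S : ShortComplex (CohTop.Ab X)) (hS : S.ShortExact)
    (h1 : TopCat.Sheaf.IsFlasque S.X₁) : Epi ((LocCohZ.sectSuppF U).map S.g) := by
  refine (TopCat.Sheaf.isLocallySurjective_iff_epi (C := AddCommGrpCat.{u}) (X := X)
    ((LocCohZ.sectSuppF U).map S.g)).mp ?_
  rw [TopCat.Presheaf.isLocallySurjective_iff]
  intro V t x hx
  -- `c` the underlying section of `C`
  let c : S.X₃.obj.obj (op V) := ((ιZ U S.X₃).hom.app (op V)).hom t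
  have hc : (S.X₃.obj.map (homOfLE (jj_le U V)).op).hom c = 0 :=
    (exists_ιZ_app_eq_iff U S.X₃ V c).1 ⟨t, rfl⟩
  have hepi := TopCat.Sheaf.IsFlasque.epi_of_shortExact (U := V) hS
  rw [AddCommGrpCat.epi_iff_surjective] at hepi
  obtain ⟨b, hb⟩ := hepi c
  -- restrict `b` to `V ∩ U`: it comes from `A`
  have hb0 : (S.g.hom.app (op (jj U V))).hom ((S.X₂.obj.map (homOfLE (jj_le U V)).op).hom b) = 0 := by
    have := ConcreteCategory.congr_hom (S.g.hom.naturality (homOfLE (jj_le U V)).op) b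
    refine this.trans ?_
    show (S.X₃.obj.map (homOfLE (jj_le U V)).op).hom ((S.g.hom.app (op V)).hom b) = 0
    rw [show (S.g.hom.app (op V)).hom b = c from hb, hc]
  haveI := hS.mono_f
  obtain ⟨a', ha'⟩ := TopCat.Sheaf.sections_exact_of_left_exact hS.exact hS.mono_f _ hb0
  have hepi2 : Epi (S.X₁.obj.map (homOfLE (jj_le U V)).op) := h1.epi _
  rw [AddCommGrpCat.epi_iff_surjective] at hepi2
  obtain ⟨a, ha⟩ := hepi2 a'
  let b' : S.X₂.obj.obj (op V) := b - (S.f.hom.app (op V)).hom a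
  have hb'1 : (S.g.hom.app (op V)).hom b' = c := by
    show (S.g.hom.app (op V)).hom (b - (S.f.hom.app (op V)).hom a) = c
    rw [map_sub]
    have h0 : (S.g.hom.app (op V)).hom ((S.f.hom.app (op V)).hom a) = 0 := by
      have := congrArg (fun k => (k.hom.app (op V)).hom a) S.zero
      exact this
    rw [h0, sub_zero]
    exact hb
  have hb'2 : (S.X₂.obj.map (homOfLE (jj_le U V)).op).hom b' = 0 := by
    show (S.X₂.obj.map (homOfLE (jj_le U V)).op).hom (b - (S.f.hom.app (op V)).hom a) = 0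
    rw [map_sub, sub_eq_zero]
    have := ConcreteCategory.congr_hom (S.f.hom.naturality (homOfLE (jj_le U V)).op) a
    refine Eq.trans ?_ this
    show _ = (S.f.hom.app (op (jj U V))).hom ((S.X₁.obj.map (homOfLE (jj_le U V)).op).hom a)
    rw [ha]
    exact ha'.symm
  obtain ⟨tB, htB⟩ := (exists_ιZ_app_eq_iff U S.X₂ V b').2 hb'2
  refine ⟨V, le_rfl, ⟨tB, ?_⟩, hx⟩
  have e : TopCat.Presheaf.restrictOpen t V le_rfl = t := by
    simp [TopCat.Presheaf.restrictOpen, TopCat.Presheaf.restrict]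
  rw [e]
  apply ιZ_app_injective U S.X₃ V
  have hnat := congrArg (fun k => (k.hom.app (op V)).hom tB) (map_ι U S.g)
  refine hnat.trans ?_
  show (S.g.hom.app (op V)).hom (((ιZ U S.X₂).hom.app (op V)).hom tB) = c
  rw [htB]
  exact hb'1

lemma h2 (S : ShortComplex (CohTop.Ab X)) (hS : S.ShortExact)
    (h1 : TopCat.Sheaf.IsFlasque S.X₁) (h2 : TopCat.Sheaf.IsFlasque S.X₂) :
    TopCat.Sheaf.IsFlasque S.X₃ ∧ (S.map (LocCohZ.sectSuppF U)).ShortExact :=
  ⟨TopCat.Sheaf.IsFlasque.of_shortExact_of_isFlasque₁₂ hS,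
    Horseshoe.map_shortExact_of_epi (LocCohZ.sectSuppF U) hS (epi_map_g U S hS h1)⟩

/-- flasque sheaves are acyclic for `Γ_Z` -/
theorem isZero_HZsh_succ (F : CohTop.Ab X) [TopCat.Sheaf.IsFlasque F] (q : ℕ) :
    IsZero ((LocCohZ.HZsh U (q + 1)).obj F) :=
  Horseshoe.isZero_rightDerived_succ_of_class (LocCohZ.sectSuppF U)
    (fun G => TopCat.Sheaf.IsFlasque G) FlasqueAcyc.h1 (fun S hS a b => h2 U S hS a b) q F
    inferInstance

end SectSupp

end Groth.Agent.Lib.helper27
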