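import Mathlib
import Groth.Prelude.Def_LocCohZ
import Groth.Agent.Lib.Helper27.SectSupp4

set_option autoImplicit false
set_option linter.style.haveILetI false

namespace Groth.Agent.Lib.helper27

open CategoryTheory Limits Opposite Abelian TopologicalSpace

universe u

namespace LocCohLES

variable {X : TopCat.{u}}

/-- extending a morphism `ℤ_W ⟶ F` to `ℤ_V` amounts to extending the section -/
lemma exists_extension_iff (F : CohTop.Ab X) {W V : Opens X} (h : W ≤ V)
    (φ : CohCx.freeSheaf (Opens.grothendieckTopology X) W ⟶ F) :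
    (∃ ψ : CohCx.freeSheaf (Opens.grothendieckTopology X) V ⟶ F,
      CohCx.freeSheafMap (Opens.grothendieckTopology X) (homOfLE h) ≫ ψ = φ) ↔
    ∃ s : F.obj.obj (op V), (F.obj.map (homOfLE h).op).hom s =
      CohFree.evalGen (Opens.grothendieckTopology X) W F φ := by
  constructor
  · rintro ⟨ψ, rfl⟩
    exact ⟨CohFree.evalGen _ V F ψ, (CohFree.evalGen_freeSheafMap_comp _ _ _ _).symm⟩
  · rintro ⟨s, hs⟩
    refine ⟨CohFree.ofSect _ V F s, ?_⟩
    apply (CohFree.homEquivSect (Opens.grothendieckTopology X) W F).injective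
    rw [CohFree.homEquivSect_apply, CohFree.homEquivSect_apply,
      CohFree.evalGen_freeSheafMap_comp, CohFree.evalGen_ofSect]
    exact hs

/-- cohomology with supports of a flasque sheaf vanishes in positive degrees -/
theorem subsingleton_HZ_succ (F : CohTop.Ab X) [hF : TopCat.Sheaf.IsFlasque F] {W V : Opens X}
    (h : W ≤ V) (n : ℕ) : Subsingleton (LocCohZ.HZ F (n + 1) h) := by
  have hS := LocCohZ.zqSeq_shortExact h
  have key : ∀ x : LocCohZ.HZ F (n + 1) h, x = 0 := by
    intro x₃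
    have h2 : Subsingleton (CohTop.HU F (n + 1) V) := Groth.Agent.S0452.result F V n
    have hx₃ : (Ext.mk₀ (LocCohZ.zqSeq h).g).comp x₃ (zero_add (n + 1)) = 0 :=
      h2.elim _ _
    obtain ⟨x₁, hx₁⟩ := Ext.contravariant_sequence_exact₃ hS F x₃ hx₃ (add_comm 1 n)
    rw [← hx₁]
    rcases Nat.eq_zero_or_pos n with rfl | hn
    · obtain ⟨φ, rfl⟩ := (Ext.mk₀_bijective _ _).2 x₁
      have hepi : Epi (F.obj.map (homOfLE h).op) := hF.epi _
      rw [AddCommGrpCat.epi_iff_surjective] at hepi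
      obtain ⟨s, hs⟩ := hepi (CohFree.evalGen (Opens.grothendieckTopology X) W F φ)
      obtain ⟨ψ, hψ⟩ := (exists_extension_iff F h φ).2 ⟨s, hs⟩
      have : Ext.mk₀ φ = (Ext.mk₀ (LocCohZ.zqSeq h).f).comp (Ext.mk₀ ψ) (zero_add 0) := by
        rw [Ext.mk₀_comp_mk₀]
        congr 1
        exact hψ.symm
      rw [this]
      exact hS.extClass_comp_assoc _
    · obtain ⟨m, rfl⟩ : ∃ m, n = m + 1 := ⟨n - 1, by omega⟩
      have h1 : Subsingleton (CohTop.HU F (m + 1) W) := Groth.Agent.S0452.result F W m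
      have : x₁ = 0 := h1.elim _ _
      subst this
      exact Ext.comp_zero hS.extClass F (m + 1) (m + 1 + 1) (add_comm 1 (m + 1))
  exact ⟨fun a b => (key a).trans (key b).symm⟩

/-- a sheaf whose first cohomology groups with supports vanish is flasque -/
theorem isFlasque_of_HZc_one (F : CohTop.Ab X)
    (hF : ∀ U : Opens X, Subsingleton (LocCohZ.HZc F 1 U)) : TopCat.Sheaf.IsFlasque F := by
  constructor
  intro V V' i
  rw [AddCommGrpCat.epi_iff_surjective]
  intro s
  have hle : V'.unop ≤ V.unop := leOfHom i.unop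
  have hS := LocCohZ.zqSeq_shortExact (le_top : V'.unop ≤ ⊤)
  let φ := CohFree.ofSect (Opens.grothendieckTopology X) V'.unop F s
  have h0 : hS.extClass.comp (Ext.mk₀ φ) (add_zero 1) = 0 := (hF V'.unop).elim _ _
  obtain ⟨x₂, hx₂⟩ := Ext.contravariant_sequence_exact₁ hS F (Ext.mk₀ φ) (add_zero 1) h0
  obtain ⟨ψ, rfl⟩ := (Ext.mk₀_bijective _ _).2 x₂
  rw [Ext.mk₀_comp_mk₀] at hx₂
  have hψ : CohCx.freeSheafMap (Opens.grothendieckTopology X) (homOfLE (le_top : V'.unop ≤ ⊤)) ≫ ψ
      = φ := (Ext.mk₀_bijective _ _).1 hx₂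
  obtain ⟨t, ht⟩ := (exists_extension_iff F (le_top : V'.unop ≤ ⊤) φ).1 ⟨ψ, hψ⟩
  rw [CohFree.evalGen_ofSect] at ht
  refine ⟨(F.obj.map (homOfLE (le_top : V.unop ≤ ⊤)).op).hom t, ?_⟩
  have := SectSupp.map_map_apply F (le_top : V.unop ≤ ⊤) hle t
  exact this.trans ht

end LocCohLES

end Groth.Agent.Lib.helper27
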