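import Mathlib
import Groth.Prelude.Def_LocCohZ
import Groth.Agent.Lib.Helper27.SectSupp4
import Groth.Agent.Lib.Helper27.LocCohLES
import Groth.Agent.Lib.Helper27.SectSupp2
import Groth.Agent.Lib.Helper27.DeltaF

set_option autoImplicit false
set_option linter.style.haveILetI false
set_option linter.unusedSectionVars false
set_option linter.unusedVariables false

namespace Groth.Agent.Lib.helper27

open CategoryTheory Limits Opposite Abelian TopologicalSpace

universe u

namespace HZshVanish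

variable {X : TopCat.{u}} (U : Opens X)

/-- vanishing of the local cohomology sheaf in degree `i` -/
def A (i : ℕ) (G : CohTop.Ab X) : Prop := IsZero ((LocCohZ.HZsh U i).obj G)

/-- vanishing of the local cohomology groups in degree `i` over all opens -/
def B (i : ℕ) (G : CohTop.Ab X) : Prop :=
  ∀ V : Opens X, Subsingleton (LocCohZ.HZ G i (inf_le_left : V ⊓ U ≤ V))

/-- no nonzero sections supported in `Z` -/
def NoSupp (G : CohTop.Ab X) : Prop :=
  ∀ (V : Opens X) (s : G.obj.obj (op V)),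
    (G.obj.map (homOfLE (inf_le_left : V ⊓ U ≤ V)).op).hom s = 0 → s = 0

lemma jj_le_inf (V : Opens X) : SectSupp.jj U V ≤ V ⊓ U :=
  le_inf (SectSupp.jj_le U V) (SectSupp.jj_le' U V)

lemma inf_le_jj (V : Opens X) : V ⊓ U ≤ SectSupp.jj U V :=
  SectSupp.le_jj U V _ inf_le_left inf_le_right

lemma res_jj_eq_zero_iff (G : CohTop.Ab X) (V : Opens X) (s : G.obj.obj (op V)) :
    (G.obj.map (homOfLE (SectSupp.jj_le U V)).op).hom s = 0 ↔
      (G.obj.map (homOfLE (inf_le_left : V ⊓ U ≤ V)).op).hom s = 0 := by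
  constructor
  · intro h
    have := SectSupp.map_map_apply G (SectSupp.jj_le U V) (inf_le_jj U V) s
    rw [h, map_zero] at this
    exact this.symm
  · intro h
    have := SectSupp.map_map_apply G (inf_le_left : V ⊓ U ≤ V) (jj_le_inf U V) s
    rw [h, map_zero] at this
    exact this.symm

lemma section_eq_zero_of_isZero {G : CohTop.Ab X} (hG : IsZero G) (V : Opens X)
    (t : G.obj.obj (op V)) : t = 0 := by
  have h : 𝟙 G = 0 := hG.eq_of_src _ _
  have := congrArg (fun k : G ⟶ G => (k.hom.app (op V)).hom t) h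
  exact this

lemma isZero_sectSupp_iff (G : CohTop.Ab X) :
    IsZero ((LocCohZ.sectSuppF U).obj G) ↔ NoSupp U G := by
  constructor
  · intro h V s hs
    obtain ⟨t, rfl⟩ := (SectSupp.exists_ιZ_app_eq_iff U G V s).2
      ((res_jj_eq_zero_iff U G V s).2 hs)
    rw [section_eq_zero_of_isZero h V t, map_zero]
  · intro h
    have h0 : SectSupp.ιZ U G = 0 := by
      apply Sheaf.hom_ext
      apply NatTrans.ext
      funext V
      apply AddCommGrpCat.hom_ext
      apply AddMonoidHom.ext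
      intro t
      have h1 := (SectSupp.exists_ιZ_app_eq_iff U G V.unop _).1 ⟨t, rfl⟩
      exact h V.unop _ ((res_jj_eq_zero_iff U G V.unop _).1 h1)
    rw [IsZero.iff_id_eq_zero]
    apply (cancel_mono (SectSupp.ιZ U G)).1
    rw [h0, comp_zero, comp_zero]

lemma A_zero_iff (G : CohTop.Ab X) : A U 0 G ↔ NoSupp U G := by
  rw [← isZero_sectSupp_iff]
  exact Iso.isZero_iff ((LocCohZ.sectSuppF U).rightDerivedZeroIsoSelf.app G)

lemma B_zero_iff (G : CohTop.Ab X) : B U 0 G ↔ NoSupp U G := by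
  constructor
  · intro h V s hs
    have := h V
    have h1 : (LocCohZ.sect0Equiv G (inf_le_left : V ⊓ U ≤ V)).symm ⟨s, hs⟩ =
        (LocCohZ.sect0Equiv G (inf_le_left : V ⊓ U ≤ V)).symm 0 := Subsingleton.elim _ _
    have h2 := (LocCohZ.sect0Equiv G (inf_le_left : V ⊓ U ≤ V)).symm.injective h1
    exact congrArg Subtype.val h2
  · intro h V
    refine ⟨fun a b => ?_⟩
    apply (LocCohZ.sect0Equiv G (inf_le_left : V ⊓ U ≤ V)).injective
    apply Subtype.ext
    rw [h V _ ((LocCohZ.sect0Equiv G (inf_le_left : V ⊓ U ≤ V)) a).2,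
      h V _ ((LocCohZ.sect0Equiv G (inf_le_left : V ⊓ U ≤ V)) b).2]

lemma A_zero_iff_B_zero (G : CohTop.Ab X) : A U 0 G ↔ B U 0 G :=
  (A_zero_iff U G).trans (B_zero_iff U G).symm

section shift

variable (S : ShortComplex (CohTop.Ab X)) (hS : S.ShortExact)
  (hfl : TopCat.Sheaf.IsFlasque S.X₂) (h0 : NoSupp U S.X₂)

include hS hfl h0

lemma A_X₂ (i : ℕ) : A U i S.X₂ := by
  cases i with
  | zero => exact (A_zero_iff U S.X₂).2 h0
  | succ i => exact SectSupp.isZero_HZsh_succ U S.X₂ i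

lemma B_X₂ (i : ℕ) : B U i S.X₂ := by
  cases i with
  | zero => exact (B_zero_iff U S.X₂).2 h0
  | succ i => exact fun V => LocCohLES.subsingleton_HZ_succ S.X₂ _ i

lemma A_shift (i : ℕ) : A U i S.X₃ ↔ A U (i + 1) S.X₁ := by
  let Δ := Horseshoe.derivedLES (LocCohZ.sectSuppF U)
  have e3 := Δ.exact₃ S hS i (i + 1) rfl
  have e1 := Δ.exact₁ S hS i (i + 1) rfl
  have hm : Mono (Δ.δ S hS i (i + 1) rfl) := e3.mono_g ((A_X₂ U S hS hfl h0 i).eq_of_src _ _)
  have he : Epi (Δ.δ S hS i (i + 1) rfl) := e1.epi_f ((A_X₂ U S hS hfl h0 (i + 1)).eq_of_tgt _ _)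
  have : IsIso (Δ.δ S hS i (i + 1) rfl) := isIso_of_mono_of_epi _
  exact Iso.isZero_iff (asIso (Δ.δ S hS i (i + 1) rfl))

lemma B_shift (i : ℕ) : B U i S.X₃ ↔ B U (i + 1) S.X₁ := by
  constructor
  · intro h V
    refine subsingleton_of_forall_eq 0 (fun x₁ => ?_)
    have hz : x₁.comp (Ext.mk₀ S.f) (add_zero (i + 1)) = 0 :=
      (B_X₂ U S hS hfl h0 (i + 1) V).elim _ _
    obtain ⟨x₃, rfl⟩ := Ext.covariant_sequence_exact₁ _ hS x₁ hz rfl
    rw [(h V).elim x₃ 0, Ext.zero_comp]
  · intro h V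
    refine subsingleton_of_forall_eq 0 (fun x₃ => ?_)
    have hz : x₃.comp hS.extClass rfl = 0 := (h V).elim _ _
    obtain ⟨x₂, rfl⟩ := Ext.covariant_sequence_exact₃ _ hS x₃ rfl hz
    rw [(B_X₂ U S hS hfl h0 i V).elim x₂ 0, Ext.zero_comp]

end shift

/-- a sheaf without sections supported in `Z` embeds in a flasque sheaf with the same property -/
lemma exists_embedding (G : CohTop.Ab X) (hG : NoSupp U G) :
    ∃ (J : CohTop.Ab X) (m : G ⟶ J), Mono m ∧ TopCat.Sheaf.IsFlasque J ∧ NoSupp U J := by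
  let I := Injective.under G
  have hIfl : TopCat.Sheaf.IsFlasque I := Groth.Agent.S0454.result I
  have hΓfl : TopCat.Sheaf.IsFlasque ((LocCohZ.sectSuppF U).obj I) :=
    SectSupp.isFlasque_sectSupp U I
  let S := cokerSES (SectSupp.ιZ U I)
  have hS : S.ShortExact := cokerSES_shortExact _
  obtain ⟨hJfl, hΓS⟩ := SectSupp.h2 U S hS hΓfl hIfl
  -- `Γ_Z(ιZ) = ιZ` is an isomorphism
  have hη : SectSupp.η U ((LocCohZ.sectSuppF U).obj I) = 0 := by
    have := SectSupp.mono_push_pull U (SectSupp.ιZ U I)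
    apply (cancel_mono ((CohTop.push (CohCx.incl U)).map
      ((CohTop.pull (CohCx.incl U)).map (SectSupp.ιZ U I)))).1
    rw [← SectSupp.η_naturality, SectSupp.ιZ_η, zero_comp]
  have hmap : (LocCohZ.sectSuppF U).map (SectSupp.ιZ U I) =
      SectSupp.ιZ U ((LocCohZ.sectSuppF U).obj I) := by
    apply (cancel_mono (SectSupp.ιZ U I)).1
    exact SectSupp.map_ι U (SectSupp.ιZ U I)
  have hepi : Epi ((LocCohZ.sectSuppF U).map (SectSupp.ιZ U I)) := by
    rw [hmap]
    have : SectSupp.liftZ U (𝟙 _) (by rw [Category.id_comp]; exact hη) ≫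
        SectSupp.ιZ U ((LocCohZ.sectSuppF U).obj I) = 𝟙 _ := SectSupp.liftZ_ι U _ _
    exact epi_of_epi_fac this
  have hzero : IsZero ((LocCohZ.sectSuppF U).obj S.X₃) := by
    have hg : (LocCohZ.sectSuppF U).map S.g = 0 := by
      have hcomp : (LocCohZ.sectSuppF U).map S.f ≫ (LocCohZ.sectSuppF U).map S.g = 0 := by
        rw [← Functor.map_comp, S.zero, Functor.map_zero]
      have : Epi ((LocCohZ.sectSuppF U).map S.f) := hepi
      exact (cancel_epi ((LocCohZ.sectSuppF U).map S.f)).1 (hcomp.trans comp_zero.symm)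
    have hepig : Epi ((LocCohZ.sectSuppF U).map S.g) := hΓS.epi_g
    rw [IsZero.iff_id_eq_zero]
    apply (cancel_epi ((LocCohZ.sectSuppF U).map S.g)).1
    rw [hg, zero_comp, zero_comp]
  refine ⟨S.X₃, Injective.ι G ≫ S.g, ?_, hJfl, (isZero_sectSupp_iff U S.X₃).1 hzero⟩
  -- the composite is a monomorphism
  rw [Preadditive.mono_iff_cancel_zero]
  intro K k hk
  have hk' : (k ≫ Injective.ι G) ≫ S.g = 0 := by rw [Category.assoc]; exact hk
  haveI : Mono S.f := hS.mono_f
  -- `k ≫ ι` factors through `Γ_Z I`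
  have hfac : (k ≫ Injective.ι G) ≫ SectSupp.η U I = 0 := by
    have e := hS.exact.lift_f (k ≫ Injective.ι G) hk'
    have e2 : (hS.exact.lift (k ≫ Injective.ι G) hk' ≫ S.f) ≫ SectSupp.η U I = 0 := by
      rw [Category.assoc]
      have : S.f ≫ SectSupp.η U I = 0 := SectSupp.ιZ_η U I
      rw [this, comp_zero]
    exact (congrArg (fun t => t ≫ SectSupp.η U I) e).symm.trans e2
  have hkη : k ≫ SectSupp.η U G = 0 := by
    have := SectSupp.mono_push_pull U (Injective.ι G)
    apply (cancel_mono ((CohTop.push (CohCx.incl U)).map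
      ((CohTop.pull (CohCx.incl U)).map (Injective.ι G)))).1
    rw [Category.assoc, ← SectSupp.η_naturality, ← Category.assoc, hfac, zero_comp]
  have hz : IsZero ((LocCohZ.sectSuppF U).obj G) := (isZero_sectSupp_iff U G).2 hG
  rw [← SectSupp.liftZ_ι U k hkη, hz.eq_of_tgt (SectSupp.liftZ U k hkη) 0, zero_comp]

theorem main : ∀ (n : ℕ) (G : CohTop.Ab X),
    (∀ i : ℕ, i < n → A U i G) ↔ (∀ i : ℕ, i < n → B U i G) := by
  intro n
  induction n with
  | zero => intro G; exact ⟨fun _ i hi => absurd hi (Nat.not_lt_zero i),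
      fun _ i hi => absurd hi (Nat.not_lt_zero i)⟩
  | succ n ih =>
    intro G
    constructor
    · intro h
      have hG : NoSupp U G := (A_zero_iff U G).1 (h 0 (Nat.succ_pos n))
      obtain ⟨J, m, hm, hJfl, hJ⟩ := exists_embedding U G hG
      have hS := cokerSES_shortExact m
      have h3 : ∀ i, i < n → B U i (cokerSES m).X₃ :=
        (ih (cokerSES m).X₃).1 (fun i hi =>
          (A_shift U (cokerSES m) hS hJfl hJ i).2 (h (i + 1) (Nat.succ_lt_succ hi)))
      intro i hi
      cases i with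
      | zero => exact (B_zero_iff U G).2 hG
      | succ i =>
        exact (B_shift U (cokerSES m) hS hJfl hJ i).1 (h3 i (Nat.lt_of_succ_lt_succ hi))
    · intro h
      have hG : NoSupp U G := (B_zero_iff U G).1 (h 0 (Nat.succ_pos n))
      obtain ⟨J, m, hm, hJfl, hJ⟩ := exists_embedding U G hG
      have hS := cokerSES_shortExact m
      have h3 : ∀ i, i < n → A U i (cokerSES m).X₃ :=
        (ih (cokerSES m).X₃).2 (fun i hi =>
          (B_shift U (cokerSES m) hS hJfl hJ i).2 (h (i + 1) (Nat.succ_lt_succ hi)))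
      intro i hi
      cases i with
      | zero => exact (A_zero_iff U G).2 hG
      | succ i =>
        exact (A_shift U (cokerSES m) hS hJfl hJ i).1 (h3 i (Nat.lt_of_succ_lt_succ hi))

end HZshVanish

end Groth.Agent.Lib.helper27
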