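import Mathlib
import Groth.Agent.Lib.Helper27.CechInj

set_option autoImplicit false
set_option linter.unusedVariables false
set_option linter.unusedSectionVars false

namespace Groth.Agent.Lib.helper27

open CategoryTheory Limits Opposite Simplicial

universe w v u v' u'

namespace CechU

section gen

variable {D : Type u'} [Category.{v'} D] [HasFiniteProducts D] {ι : Type w} (U : ι → D)
  (Q : Dᵒᵖ ⥤ AddCommGrpCat.{w})

/-- the cosimplicial abelian group underlying the Cech complex -/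
noncomputable abbrev cosimp : CosimplicialObject AddCommGrpCat.{w} :=
  (FormalCoproduct.cosimplicialObjectFunctor (FormalCoproduct.mk _ U).cech).obj Q

lemma d_eq (n : ℕ) :
    ((cechComplexFunctor U).obj Q).d n (n + 1) =
      ∑ i : Fin (n + 2), (-1 : ℤ) ^ (i : ℕ) • (cosimp U Q).δ i :=
  CochainComplex.of_d (fun n => (cosimp U Q).obj ⦋n⦌)
    (AlgebraicTopology.AlternatingCofaceMapComplex.objD (cosimp U Q)) n

/-- the family of objects whose product is the degree `n` part of the Cech complex -/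
noncomputable abbrev Z (n : ℕ) : (Fin (n + 1) → ι) → AddCommGrpCat.{w} :=
  fun a => Q.obj (op (∏ᶜ (U ∘ a)))

/-- the face projection `U_b ⟶ U_{b ∘ δ^i}` -/
noncomputable abbrev face {n : ℕ} (b : Fin (n + 2) → ι) (i : Fin (n + 2)) :
    ∏ᶜ (U ∘ b) ⟶ ∏ᶜ (U ∘ b ∘ Fin.succAbove i) :=
  Pi.lift (fun k => Pi.π (U ∘ b) (Fin.succAbove i k))

/-- the coface maps, retyped -/
noncomputable def δ' (n : ℕ) (i : Fin (n + 2)) :
    (∏ᶜ Z U Q n : AddCommGrpCat.{w}) ⟶ ∏ᶜ Z U Q (n + 1) :=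
  Pi.lift (fun (b : Fin (n + 2) → ι) =>
      Pi.π (Z U Q n) (b ∘ Fin.succAbove i) ≫ Q.map (face U b i).op)

/-- the Cech differential, retyped -/
noncomputable def d' (n : ℕ) :
    (∏ᶜ Z U Q n : AddCommGrpCat.{w}) ⟶ ∏ᶜ Z U Q (n + 1) :=
  ((cechComplexFunctor U).obj Q).d n (n + 1)

lemma d'_eq (n : ℕ) :
    d' U Q n = ∑ i : Fin (n + 2), (-1 : ℤ) ^ (i : ℕ) • δ' U Q n i :=
  d_eq U Q n

lemma π_δ'_apply (n : ℕ) (i : Fin (n + 2))
    (b : Fin (n + 2) → ι) (x : (∏ᶜ Z U Q n : AddCommGrpCat.{w})) :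
    Pi.π (Z U Q (n + 1)) b (δ' U Q n i x) =
      Q.map (face U b i).op (Pi.π (Z U Q n) (b ∘ Fin.succAbove i) x) := by
  have h : δ' U Q n i ≫ Pi.π (Z U Q (n + 1)) b =
      Pi.π (Z U Q n) (b ∘ Fin.succAbove i) ≫ Q.map (face U b i).op := Pi.lift_π _ _
  exact ConcreteCategory.congr_hom h x

/-- the set of "sections" of the family over `V` -/
abbrev Sec (V : D) : Type (max w v') := Σ i : ι, (V ⟶ U i)

/-- the index tuple of a tuple of sections -/
abbrev idx {V : D} {n : ℕ} (t : Fin (n + 1) → Sec U V) : Fin (n + 1) → ι := fun k => (t k).1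

/-- the morphism to the product defined by a tuple of sections -/
noncomputable abbrev tup {V : D} {n : ℕ} (t : Fin (n + 1) → Sec U V) : V ⟶ ∏ᶜ (U ∘ idx U t) :=
  Pi.lift (fun k => (t k).2)

lemma tup_face {V : D} {n : ℕ} (t : Fin (n + 2) → Sec U V) (i : Fin (n + 2)) :
    tup U t ≫ face U (idx U t) i = tup U (t ∘ i.succAbove) := by
  apply Pi.hom_ext
  intro k
  simp only [tup, face, Category.assoc, Pi.lift_π]
  exact (Pi.lift_π (fun k => (t (i.succAbove k)).2) k).symm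

end gen

section cofree

variable {C : Type w} [Category.{v} C] [LocallySmall.{w} C]

/-- the cofree presheaf `W ↦ ∏_V ∏_{V ⟶ W} M V` -/
noncomputable def R (M : C → AddCommGrpCat.{w}) : Cᵒᵖ ⥤ AddCommGrpCat.{w} where
  obj W := AddCommGrpCat.of ((V : C) → Shrink.{w} (V ⟶ W.unop) → M V)
  map {W W'} g := AddCommGrpCat.ofHom
    { toFun := fun x V f => x V (equivShrink _ ((equivShrink _).symm f ≫ g.unop))
      map_zero' := rfl
      map_add' := fun _ _ => rfl }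
  map_id W := by
    ext x V f
    show x V (equivShrink _ ((equivShrink _).symm f ≫ 𝟙 _)) = x V f
    simp
  map_comp g h := by
    ext x V f
    show x V (equivShrink _ ((equivShrink _).symm f ≫ (h.unop ≫ g.unop))) =
      x V (equivShrink _ ((equivShrink _).symm (equivShrink _ ((equivShrink _).symm f ≫ h.unop)) ≫
        g.unop))
    simp

lemma R_map_apply (M : C → AddCommGrpCat.{w}) {W W' : Cᵒᵖ} (g : W ⟶ W')
    (x : (R M).obj W) (V : C) (f : Shrink.{w} (V ⟶ W'.unop)) :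
    ((R M).map g x : (V : C) → Shrink.{w} (V ⟶ W'.unop) → M V) V f =
      (x : (V : C) → Shrink.{w} (V ⟶ W.unop) → M V) V
        (equivShrink _ ((equivShrink _).symm f ≫ g.unop)) := rfl

/-- the canonical monomorphism `Q ⟶ R Q` -/
noncomputable def η (Q : Cᵒᵖ ⥤ AddCommGrpCat.{w}) : Q ⟶ R (fun V => Q.obj (op V)) where
  app W := AddCommGrpCat.ofHom
    { toFun := fun q V f => Q.map ((equivShrink _).symm f).op q
      map_zero' := by funext V f; simp
      map_add' := fun a b => by funext V f; simp }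
  naturality W W' g := by
    ext q
    funext V f
    show Q.map ((equivShrink _).symm f).op (Q.map g q) =
      Q.map ((equivShrink _).symm (equivShrink _ ((equivShrink _).symm f ≫ g.unop))).op q
    rw [← ConcreteCategory.comp_apply, ← Q.map_comp, Equiv.symm_apply_apply, op_comp,
      Quiver.Hom.op_unop]

lemma η_app_apply (Q : Cᵒᵖ ⥤ AddCommGrpCat.{w}) (W : Cᵒᵖ) (q : Q.obj W) (V : C)
    (f : Shrink.{w} (V ⟶ W.unop)) :
    (((η Q).app W) q : (V : C) → Shrink.{w} (V ⟶ W.unop) → Q.obj (op V)) V f =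
      Q.map ((equivShrink _).symm f).op q := rfl

instance (Q : Cᵒᵖ ⥤ AddCommGrpCat.{w}) : Mono (η Q) := by
  rw [NatTrans.mono_iff_mono_app]
  intro W
  rw [AddCommGrpCat.mono_iff_injective]
  intro a b h
  have := congrFun (congrFun h W.unop) (equivShrink _ (𝟙 _))
  rw [η_app_apply, η_app_apply] at this
  simpa using this

end cofree


section evmk

variable {C : Type w} [Category.{v} C] [LocallySmall.{w} C] (M : C → AddCommGrpCat.{w})

/-- evaluation of a section of the cofree presheaf at a morphism -/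
noncomputable def ev {W : C} (z : (R M).obj (op W)) (V : C) (f : V ⟶ W) : M V :=
  (z : (V : C) → Shrink.{w} (V ⟶ W) → M V) V (equivShrink _ f)

/-- construction of a section of the cofree presheaf -/
noncomputable def mk {W : C} (φ : (V : C) → (V ⟶ W) → M V) : (R M).obj (op W) :=
  (fun V f => φ V ((equivShrink _).symm f) : (V : C) → Shrink.{w} (V ⟶ W) → M V)

lemma ev_mk {W : C} (φ : (V : C) → (V ⟶ W) → M V) (V : C) (f : V ⟶ W) :
    ev M (mk M φ) V f = φ V f := by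
  show φ V ((equivShrink _).symm (equivShrink _ f)) = φ V f
  rw [Equiv.symm_apply_apply]

lemma ext_ev {W : C} (z z' : (R M).obj (op W)) (h : ∀ V f, ev M z V f = ev M z' V f) : z = z' := by
  funext V f
  have := h V ((equivShrink _).symm f)
  simpa [ev] using this

lemma ev_map {W W' : C} (g : W' ⟶ W) (z : (R M).obj (op W)) (V : C) (f : V ⟶ W') :
    ev M ((R M).map g.op z) V f = ev M z V (f ≫ g) := by
  show (z : (V : C) → Shrink.{w} (V ⟶ W) → M V) V
    (equivShrink _ ((equivShrink _).symm (equivShrink _ f) ≫ g)) = _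
  rw [Equiv.symm_apply_apply]
  rfl

lemma ev_zero {W : C} (V : C) (f : V ⟶ W) : ev M (0 : (R M).obj (op W)) V f = 0 := rfl

lemma ev_add {W : C} (z z' : (R M).obj (op W)) (V : C) (f : V ⟶ W) :
    ev M (z + z') V f = ev M z V f + ev M z' V f := rfl

/-- evaluation as an additive map -/
noncomputable def evHom {W : C} (V : C) (f : V ⟶ W) : (R M).obj (op W) →+ M V where
  toFun z := ev M z V f
  map_zero' := rfl
  map_add' _ _ := rfl

end evmk


section slice

variable {C : Type w} [Category.{v} C] [LocallySmall.{w} C] (U₀ : C)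
  [HasFiniteProducts (Over U₀)] {ι : Type w} (Y : ι → Over U₀) (M : C → AddCommGrpCat.{w})

/-- the restriction of the cofree presheaf to the slice category -/
noncomputable abbrev RO : (Over U₀)ᵒᵖ ⥤ AddCommGrpCat.{w} := (Over.forget U₀).op ⋙ R M

/-- explicit cochains with values in the cofree presheaf -/
abbrev G (n : ℕ) : Type (max w v) :=
  (V' : Over U₀) → (Fin (n + 1) → Sec Y V') → M V'.left

/-- comparison of Cech cochains of `R M` with explicit cochains -/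
noncomputable def Φ (n : ℕ) : (∏ᶜ Z Y (RO U₀ M) n : AddCommGrpCat.{w}) →+ G U₀ Y M n :=
  AddMonoidHom.pi (fun V' => AddMonoidHom.pi (fun t =>
    (evHom M (W := (∏ᶜ (Y ∘ idx Y t)).left) V'.left (tup Y t).left).comp
      (Pi.π (Z Y (RO U₀ M) n) (idx Y t)).hom))

lemma Φ_apply (n : ℕ) (x : (∏ᶜ Z Y (RO U₀ M) n : AddCommGrpCat.{w}))
    (V' : Over U₀) (t : Fin (n + 1) → Sec Y V') :
    Φ U₀ Y M n x V' t =
      ev M (W := (∏ᶜ (Y ∘ idx Y t)).left) (Pi.π (Z Y (RO U₀ M) n) (idx Y t) x)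
        V'.left (tup Y t).left := rfl

/-- congruence for explicit cochains -/
lemma G_congr {n : ℕ} (y : G U₀ Y M n) {V : C} (h₁ h₂ : V ⟶ U₀) (e : h₁ = h₂)
    (a : Fin (n + 1) → ι) (s₁ : ∀ k, Over.mk h₁ ⟶ Y (a k)) (s₂ : ∀ k, Over.mk h₂ ⟶ Y (a k))
    (hs : ∀ k, (s₁ k).left = (s₂ k).left) :
    y (Over.mk h₁) (fun k => ⟨a k, s₁ k⟩) = y (Over.mk h₂) (fun k => ⟨a k, s₂ k⟩) := by
  subst e
  congr 1
  funext k
  congr 1
  ext
  exact hs k

/-- the function defining the inverse of `Φ` -/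
noncomputable def ψ (n : ℕ) (y : G U₀ Y M n) (a : Fin (n + 1) → ι) (V : C)
    (f : V ⟶ (∏ᶜ (Y ∘ a)).left) : M V :=
  y (Over.mk (f ≫ (∏ᶜ (Y ∘ a)).hom))
    (fun k => ⟨a k, Over.homMk f rfl ≫ Pi.π (Y ∘ a) k⟩)

/-- inverse of `Φ` -/
noncomputable def Ψ (n : ℕ) (y : G U₀ Y M n) : (∏ᶜ Z Y (RO U₀ M) n : AddCommGrpCat.{w}) :=
  (Concrete.productEquiv (Z Y (RO U₀ M) n)).symm
    (fun a => mk M (W := (∏ᶜ (Y ∘ a)).left) (ψ U₀ Y M n y a))

lemma π_Ψ (n : ℕ) (y : G U₀ Y M n) (a : Fin (n + 1) → ι) :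
    Pi.π (Z Y (RO U₀ M) n) a (Ψ U₀ Y M n y) =
      mk M (W := (∏ᶜ (Y ∘ a)).left) (ψ U₀ Y M n y a) :=
  Concrete.productEquiv_symm_apply_π (Z Y (RO U₀ M) n) _ a

lemma Φ_Ψ (n : ℕ) (y : G U₀ Y M n) : Φ U₀ Y M n (Ψ U₀ Y M n y) = y := by
  funext V' t
  rw [Φ_apply, π_Ψ, ev_mk]
  refine (G_congr U₀ Y M y _ V'.hom (Over.w _) (idx Y t) _ (fun k => (t k).2) (fun k => ?_))
  show (tup Y t).left ≫ (Pi.π (Y ∘ idx Y t) k).left = (t k).2.left
  rw [← Over.comp_left]
  congr 1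
  exact Pi.lift_π _ _

lemma Ψ_Φ (n : ℕ) (x : (∏ᶜ Z Y (RO U₀ M) n : AddCommGrpCat.{w})) :
    Ψ U₀ Y M n (Φ U₀ Y M n x) = x := by
  apply (Concrete.productEquiv (Z Y (RO U₀ M) n)).injective
  funext a
  rw [Concrete.productEquiv_apply_apply, Concrete.productEquiv_apply_apply, π_Ψ]
  apply ext_ev M (W := (∏ᶜ (Y ∘ a)).left)
  intro V f
  rw [ev_mk]
  show Φ U₀ Y M n x (Over.mk (f ≫ (∏ᶜ (Y ∘ a)).hom))
    (fun k => ⟨a k, Over.homMk f rfl ≫ Pi.π (Y ∘ a) k⟩) = _
  rw [Φ_apply]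
  have e : tup Y (fun k => (⟨a k, Over.homMk f rfl ≫ Pi.π (Y ∘ a) k⟩ :
      Sec Y (Over.mk (f ≫ (∏ᶜ (Y ∘ a)).hom)))) = Over.homMk f rfl := by
    apply Pi.hom_ext
    intro k
    simp [tup]
  show ev M (W := (∏ᶜ (Y ∘ a)).left) (Pi.π (Z Y (RO U₀ M) n) a x) V
    (tup Y (fun k => (⟨a k, Over.homMk f rfl ≫ Pi.π (Y ∘ a) k⟩ :
      Sec Y (Over.mk (f ≫ (∏ᶜ (Y ∘ a)).hom))))).left = _
  rw [e]
  rfl

end slice


section slice2

variable {C : Type w} [Category.{v} C] [LocallySmall.{w} C] (U₀ : C)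
  [HasFiniteProducts (Over U₀)] {ι : Type w} (Y : ι → Over U₀) (M : C → AddCommGrpCat.{w})

/-- the differential on explicit cochains -/
def dG (n : ℕ) (y : G U₀ Y M n) : G U₀ Y M (n + 1) :=
  fun V' t => ∑ i : Fin (n + 2), (-1 : ℤ) ^ (i : ℕ) • y V' (t ∘ Fin.succAbove i)

lemma Φ_δ' (n : ℕ) (i : Fin (n + 2))
    (x : (∏ᶜ Z Y (RO U₀ M) n : AddCommGrpCat.{w})) (V' : Over U₀)
    (t : Fin (n + 2) → Sec Y V') :
    Φ U₀ Y M (n + 1) (δ' Y (RO U₀ M) n i x) V' t = Φ U₀ Y M n x V' (t ∘ Fin.succAbove i) := by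
  rw [Φ_apply, π_δ'_apply, Φ_apply]
  show ev M (W := (∏ᶜ (Y ∘ idx Y t)).left)
    ((R M).map (face Y (idx Y t) i).left.op
      (Pi.π (Z Y (RO U₀ M) n) (idx Y t ∘ Fin.succAbove i) x)) V'.left (tup Y t).left = _
  rw [ev_map, ← Over.comp_left, tup_face]
  rfl

lemma Φ_d' (n : ℕ) (x : (∏ᶜ Z Y (RO U₀ M) n : AddCommGrpCat.{w})) :
    Φ U₀ Y M (n + 1) (d' Y (RO U₀ M) n x) = dG U₀ Y M n (Φ U₀ Y M n x) := by
  funext V' t
  rw [d'_eq, Cech.hom_sum_apply, map_sum]
  simp only [dG, Finset.sum_apply, Cech.hom_zsmul_apply, map_zsmul, Pi.smul_apply, Φ_δ']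

/-- the contracting homotopy on explicit cochains -/
noncomputable def hG (n : ℕ) (y : G U₀ Y M (n + 1)) : G U₀ Y M n :=
  fun V' t => y V' (Fin.cons (Classical.choice ⟨t 0⟩) t)

lemma homotopy_G (n : ℕ) (y : G U₀ Y M (n + 1)) :
    dG U₀ Y M n (hG U₀ Y M n y) + hG U₀ Y M (n + 1) (dG U₀ Y M (n + 1) y) = y := by
  funext V' t
  simp only [Pi.add_apply, dG, hG]
  rw [Fin.sum_univ_succ (n := n + 2)]
  simp only [Cech.cons_comp_succAbove_zero, Cech.cons_comp_succAbove_succ, Fin.val_zero, pow_zero,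
    one_smul, Fin.val_succ, pow_succ, mul_neg, mul_one, neg_smul, Finset.sum_neg_distrib]
  abel

lemma exists_d'_eq_R (n : ℕ)
    (x : (∏ᶜ Z Y (RO U₀ M) (n + 1) : AddCommGrpCat.{w}))
    (hx : d' Y (RO U₀ M) (n + 1) x = 0) :
    ∃ y : (∏ᶜ Z Y (RO U₀ M) n : AddCommGrpCat.{w}), d' Y (RO U₀ M) n y = x := by
  refine ⟨Ψ U₀ Y M n (hG U₀ Y M n (Φ U₀ Y M (n + 1) x)), ?_⟩
  have h0 : hG U₀ Y M (n + 1) (dG U₀ Y M (n + 1) (Φ U₀ Y M (n + 1) x)) = 0 := by
    rw [← Φ_d', hx, map_zero]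
    rfl
  have h1 := homotopy_G U₀ Y M n (Φ U₀ Y M (n + 1) x)
  rw [h0, add_zero] at h1
  have hinj : Function.Injective (Φ U₀ Y M (n + 1)) :=
    Function.LeftInverse.injective (Ψ_Φ U₀ Y M (n + 1))
  apply hinj
  rw [Φ_d', Φ_Ψ, h1]

/-- Cech acyclicity of the restriction of a cofree presheaf to a slice -/
theorem exactAt_RO (n : ℕ) :
    ((cechComplexFunctor Y).obj (RO U₀ M)).ExactAt (n + 1) := by
  apply Cech.exactAt_of_forall
  exact exists_d'_eq_R U₀ Y M n

/-- **Cech acyclicity of injective presheaves**, universe polymorphic version. -/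
theorem exactAt_over_of_injective (I : Cᵒᵖ ⥤ AddCommGrpCat.{w}) [Injective I] (n : ℕ) :
    ((cechComplexFunctor Y).obj ((Over.forget U₀).op ⋙ I)).ExactAt (n + 1) := by
  let r := Injective.factorThru (𝟙 I) (η I)
  have hr : η I ≫ r = 𝟙 I := Injective.comp_factorThru _ _
  apply Cech.exactAt_of_forall
  apply Cech.exists_of_retract
    ((cechComplexFunctor Y).map (Functor.whiskerLeft (Over.forget U₀).op (η I)))
    ((cechComplexFunctor Y).map (Functor.whiskerLeft (Over.forget U₀).op r))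
    (by rw [← Functor.map_comp, ← Functor.whiskerLeft_comp, hr, Functor.whiskerLeft_id',
      CategoryTheory.Functor.map_id])
  exact exists_d'_eq_R U₀ Y (fun V => I.obj (op V)) n

end slice2

end CechU

end Groth.Agent.Lib.helper27
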