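import Mathlib

set_option autoImplicit false
set_option linter.unusedSectionVars false

namespace Groth.Agent.Lib.helper27

open CategoryTheory Limits Opposite Simplicial SimplicialObject AlgebraicTopology

namespace AFCMap

variable {𝒯 : Type*} [Category 𝒯] {𝒜 ℬ : Type*} [Category 𝒜] [Category ℬ]
  [Preadditive 𝒜] [Preadditive ℬ] [HasZeroObject 𝒜] [HasZeroObject ℬ]
  (H : 𝒯 ⥤ 𝒜) (G : 𝒜 ⥤ ℬ) [G.Additive] (X : SimplicialObject.Augmented 𝒯)

lemma d_eq (j : ℕ) :
    ((alternatingFaceMapComplex ℬ).obj (((Augmented.whiskering 𝒯 ℬ).obj (H ⋙ G)).obj X).left).d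
      (j + 1) j =
    G.map (((alternatingFaceMapComplex 𝒜).obj (((Augmented.whiskering 𝒯 𝒜).obj H).obj X).left).d
      (j + 1) j) := by
  simp only [alternatingFaceMapComplex_obj_d, AlternatingFaceMapComplex.objD, Functor.map_sum,
    Functor.map_zsmul]
  rfl

/-- the comparison of the sources -/
noncomputable def e₁ :
    (G.mapHomologicalComplex _).obj
      ((alternatingFaceMapComplex 𝒜).obj (((Augmented.whiskering 𝒯 𝒜).obj H).obj X).left) ≅
    (alternatingFaceMapComplex ℬ).obj (((Augmented.whiskering 𝒯 ℬ).obj (H ⋙ G)).obj X).left :=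
  HomologicalComplex.Hom.isoOfComponents (fun n => Iso.refl _) (by
    rintro i j (rfl : j + 1 = i)
    exact (Category.id_comp _).trans ((d_eq H G X j).trans (Category.comp_id _).symm))

lemma e₁_hom_f (n : ℕ) : (e₁ H G X).hom.f n = 𝟙 _ := rfl

/-- the comparison of the targets -/
noncomputable def e₂ :
    (G.mapHomologicalComplex _).obj
      ((ChainComplex.single₀ 𝒜).obj (((Augmented.whiskering 𝒯 𝒜).obj H).obj X).right) ≅
    (ChainComplex.single₀ ℬ).obj (((Augmented.whiskering 𝒯 ℬ).obj (H ⋙ G)).obj X).right :=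
  (HomologicalComplex.singleMapHomologicalComplex G (ComplexShape.down ℕ) 0).app (H.obj X.right)

lemma comm :
    (G.mapHomologicalComplex _).map
      (AlternatingFaceMapComplex.ε.app (((Augmented.whiskering 𝒯 𝒜).obj H).obj X)) ≫
      (e₂ H G X).hom =
    (e₁ H G X).hom ≫
      AlternatingFaceMapComplex.ε.app (((Augmented.whiskering 𝒯 ℬ).obj (H ⋙ G)).obj X) := by
  apply HomologicalComplex.to_single_hom_ext
  rw [HomologicalComplex.comp_f, HomologicalComplex.comp_f, e₁_hom_f]
  refine Eq.trans ?_ (Category.id_comp _).symm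
  rw [Functor.mapHomologicalComplex_map_f,
    AlternatingFaceMapComplex.ε_app_f_zero, AlternatingFaceMapComplex.ε_app_f_zero]
  simp [e₂, HomologicalComplex.singleObjXSelf, HomologicalComplex.singleObjXIsoOfEq]
  simp [Augmented.whiskering]
  exact Category.comp_id _

/-- quasi-isomorphisms are detected after applying an additive functor, up to the comparison -/
lemma quasiIso_iff [CategoryWithHomology ℬ] :
    QuasiIso ((G.mapHomologicalComplex _).map
      (AlternatingFaceMapComplex.ε.app (((Augmented.whiskering 𝒯 𝒜).obj H).obj X))) ↔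
    QuasiIso (AlternatingFaceMapComplex.ε.app (((Augmented.whiskering 𝒯 ℬ).obj (H ⋙ G)).obj X)) :=
  quasiIso_iff_of_arrow_mk_iso _ _ (Arrow.isoMk (e₁ H G X) (e₂ H G X) (comm H G X).symm)

end AFCMap

end Groth.Agent.Lib.helper27
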