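import Mathlib

set_option autoImplicit false
set_option linter.unusedSectionVars false

namespace Groth.Agent.Lib.helper27

open CategoryTheory Limits Opposite Simplicial SimplicialObject

universe v u v' u'

namespace CechED

variable {𝒞 : Type u} [Category.{v} 𝒞] {𝒟 : Type u'} [Category.{v'} 𝒟]
  (f : Arrow 𝒞)
  [∀ n : ℕ, HasWidePullback.{0} f.right (fun _ : Fin (n + 1) => f.left) fun _ => f.hom]
  (F : 𝒞 ⥤ 𝒟)
  [∀ n : ℕ, PreservesLimit (WidePullbackShape.wideCospan f.right
    (fun _ : Fin (n + 1) => f.left) fun _ => f.hom) F]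

/-- the `n`-th term of the Čech nerve -/
noncomputable abbrev X (n : ℕ) : 𝒞 :=
  widePullback.{0} f.right (fun _ : Fin (n + 1) => f.left) fun _ => f.hom

/-- the limit cone property of the image of the wide pullback -/
noncomputable def isLimitF (n : ℕ) : IsLimit (F.mapCone (limit.cone (WidePullbackShape.wideCospan
    f.right (fun _ : Fin (n + 1) => f.left) fun _ => f.hom))) :=
  isLimitOfPreserves F (limit.isLimit _)

section lift

variable {f F} {n : ℕ} {A : 𝒟} (b : A ⟶ F.obj f.right) (p : Fin (n + 1) → (A ⟶ F.obj f.left))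
  (h : ∀ i, p i ≫ F.map f.hom = b)

/-- lifting into the image of the wide pullback -/
noncomputable def liftF : A ⟶ F.obj (X f n) :=
  (isLimitF f F n).lift (WidePullbackShape.mkCone (F := WidePullbackShape.wideCospan
    f.right (fun _ : Fin (n + 1) => f.left) (fun _ => f.hom) ⋙ F) b p h)

@[reassoc (attr := simp)]
lemma liftF_π (i : Fin (n + 1)) :
    liftF b p h ≫ F.map (WidePullback.π (fun _ : Fin (n + 1) => f.hom) i) = p i :=
  (isLimitF f F n).fac _ (some i)

@[reassoc (attr := simp)]
lemma liftF_base :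
    liftF b p h ≫ F.map (WidePullback.base (fun _ : Fin (n + 1) => f.hom)) = b :=
  (isLimitF f F n).fac _ none

end lift

variable {f F} in
lemma hom_extF {n : ℕ} {A : 𝒟} {g g' : A ⟶ F.obj (X f n)}
    (h₁ : ∀ i, g ≫ F.map (WidePullback.π (fun _ : Fin (n + 1) => f.hom) i) =
      g' ≫ F.map (WidePullback.π (fun _ : Fin (n + 1) => f.hom) i))
    (h₂ : g ≫ F.map (WidePullback.base (fun _ : Fin (n + 1) => f.hom)) =
      g' ≫ F.map (WidePullback.base (fun _ : Fin (n + 1) => f.hom))) : g = g' := by
  apply (isLimitF f F n).hom_ext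
  rintro (_ | i)
  · exact h₂
  · exact h₁ i

section aug

variable {T : 𝒟} (e : F.obj f.left ⟶ T) (m : T ⟶ F.obj f.right) [Mono m]
  (fac : e ≫ m = F.map f.hom) (σ : T ⟶ F.obj f.left) (hσ : σ ≫ e = 𝟙 T)

include fac in
lemma π_e_m {n : ℕ} (i : Fin (n + 1)) :
    F.map (WidePullback.π (fun _ : Fin (n + 1) => f.hom) i) ≫ e ≫ m =
      F.map (WidePullback.base (fun _ : Fin (n + 1) => f.hom)) := by
  rw [fac, ← F.map_comp, WidePullback.π_arrow]

include fac in
lemma π_e_eq {n : ℕ} (i j : Fin (n + 1)) :
    F.map (WidePullback.π (fun _ : Fin (n + 1) => f.hom) i) ≫ e =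
      F.map (WidePullback.π (fun _ : Fin (n + 1) => f.hom) j) ≫ e := by
  rw [← cancel_mono m, Category.assoc, Category.assoc, π_e_m f F e m fac, π_e_m f F e m fac]

/-- the augmented simplicial object `F ∘ Čech nerve`, augmented to `T` -/
noncomputable def aug : SimplicialObject.Augmented 𝒟 where
  left := ((SimplicialObject.whiskering 𝒞 𝒟).obj F).obj f.cechNerve
  right := T
  hom :=
    { app := fun Δ => F.map (WidePullback.π (fun _ : Fin (Δ.unop.len + 1) => f.hom) 0) ≫ e
      naturality := fun Δ Δ' g => by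
        rw [← cancel_mono m]
        show (F.map (f.cechNerve.map g) ≫
          F.map (WidePullback.π (fun _ : Fin (Δ'.unop.len + 1) => f.hom) 0) ≫ e) ≫ m =
          ((F.map (WidePullback.π (fun _ : Fin (Δ.unop.len + 1) => f.hom) 0) ≫ e) ≫ 𝟙 T) ≫ m
        simp only [Category.assoc, Category.comp_id]
        rw [π_e_m f F e m fac, π_e_m f F e m fac, ← F.map_comp]
        congr 1
        exact WidePullback.lift_base _ _ _ _ }

end aug

section ed

variable {T : 𝒟} (e : F.obj f.left ⟶ T) (m : T ⟶ F.obj f.right) [Mono m]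
  (fac : e ≫ m = F.map f.hom) (σ : T ⟶ F.obj f.left) (hσ : σ ≫ e = 𝟙 T)

include fac hσ in
lemma s_cond {n : ℕ} (i : Fin (n + 2)) :
    (Fin.cases (motive := fun _ => F.obj (X f n) ⟶ F.obj f.left)
      (F.map (WidePullback.π (fun _ : Fin (n + 1) => f.hom) 0) ≫ e ≫ σ)
      (fun i => F.map (WidePullback.π (fun _ : Fin (n + 1) => f.hom) i)) i) ≫ F.map f.hom =
      F.map (WidePullback.base (fun _ : Fin (n + 1) => f.hom)) := by
  induction i using Fin.cases with
  | zero =>
    simp only [Fin.cases_zero, Category.assoc]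
    rw [← fac, reassoc_of% hσ, π_e_m f F e m fac]
  | succ i =>
    simp only [Fin.cases_succ]
    rw [← F.map_comp, WidePullback.π_arrow]

/-- the extra degeneracy -/
noncomputable def s (n : ℕ) : F.obj (X f n) ⟶ F.obj (X f (n + 1)) :=
  liftF (F.map (WidePullback.base (fun _ : Fin (n + 1) => f.hom)))
    (Fin.cases (motive := fun _ => F.obj (X f n) ⟶ F.obj f.left)
      (F.map (WidePullback.π (fun _ : Fin (n + 1) => f.hom) 0) ≫ e ≫ σ)
      (fun i => F.map (WidePullback.π (fun _ : Fin (n + 1) => f.hom) i)))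
    (s_cond f F e m fac σ hσ)

@[reassoc]
lemma s_π_zero (n : ℕ) : s f F e m fac σ hσ n ≫
    F.map (WidePullback.π (fun _ : Fin (n + 2) => f.hom) 0) =
      F.map (WidePullback.π (fun _ : Fin (n + 1) => f.hom) 0) ≫ e ≫ σ := by
  unfold s
  rw [liftF_π]
  rfl

@[reassoc]
lemma s_π_succ (n : ℕ) (i : Fin (n + 1)) : s f F e m fac σ hσ n ≫
    F.map (WidePullback.π (fun _ : Fin (n + 2) => f.hom) i.succ) =
      F.map (WidePullback.π (fun _ : Fin (n + 1) => f.hom) i) := by
  unfold s
  rw [liftF_π]
  rfl

@[reassoc]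
lemma s_base (n : ℕ) : s f F e m fac σ hσ n ≫
    F.map (WidePullback.base (fun _ : Fin (n + 2) => f.hom)) =
      F.map (WidePullback.base (fun _ : Fin (n + 1) => f.hom)) := by
  unfold s
  rw [liftF_base]

omit [∀ n : ℕ, PreservesLimit (WidePullbackShape.wideCospan f.right
    (fun _ : Fin (n + 1) => f.left) fun _ => f.hom) F] in
@[reassoc]
lemma map_π {Δ Δ' : SimplexCategoryᵒᵖ} (g : Δ ⟶ Δ') (i : Fin (Δ'.unop.len + 1)) :
    F.map (f.cechNerve.map g) ≫ F.map (WidePullback.π (fun _ : Fin (Δ'.unop.len + 1) => f.hom) i) =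
      F.map (WidePullback.π (fun _ : Fin (Δ.unop.len + 1) => f.hom) (g.unop.toOrderHom i)) := by
  rw [← F.map_comp]
  congr 1
  exact WidePullback.lift_π _ _ _ _ _

omit [∀ n : ℕ, PreservesLimit (WidePullbackShape.wideCospan f.right
    (fun _ : Fin (n + 1) => f.left) fun _ => f.hom) F] in
lemma map_base {Δ Δ' : SimplexCategoryᵒᵖ} (g : Δ ⟶ Δ') :
    F.map (f.cechNerve.map g) ≫ F.map (WidePullback.base (fun _ : Fin (Δ'.unop.len + 1) => f.hom)) =
      F.map (WidePullback.base (fun _ : Fin (Δ.unop.len + 1) => f.hom)) := by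
  rw [← F.map_comp]
  congr 1
  exact WidePullback.lift_base _ _ _ _

/-- the section in degree zero -/
noncomputable def s' : T ⟶ F.obj (X f 0) :=
  σ ≫ F.map (WidePullback.lift f.hom (fun _ => 𝟙 _) (by simp))

end ed

section ed2

variable {T : 𝒟} (e : F.obj f.left ⟶ T) (m : T ⟶ F.obj f.right) [Mono m]
  (fac : e ≫ m = F.map f.hom) (σ : T ⟶ F.obj f.left) (hσ : σ ≫ e = 𝟙 T)

/-- **Lemma E'** : the augmented simplicial object `F ∘ Čech nerve ⟶ T` has an extra degeneracy
as soon as `F(f)` factors as a split epimorphism onto `T` followed by a monomorphism. -/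
noncomputable def extraDegeneracy :
    SimplicialObject.Augmented.ExtraDegeneracy (aug f F e m fac) where
  s' := s' f F σ
  s n := s f F e m fac σ hσ n
  s'_comp_ε := by
    show (σ ≫ F.map (WidePullback.lift f.hom (fun _ => 𝟙 _) (by simp))) ≫
      F.map (WidePullback.π (fun _ : Fin (0 + 1) => f.hom) 0) ≫ e = 𝟙 T
    rw [Category.assoc, ← F.map_comp_assoc, WidePullback.lift_π, F.map_id, Category.id_comp, hσ]
  s₀_comp_δ₁ := by
    show s f F e m fac σ hσ 0 ≫ F.map (f.cechNerve.map (SimplexCategory.δ 1).op) =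
      (F.map (WidePullback.π (fun _ : Fin (0 + 1) => f.hom) 0) ≫ e) ≫
        σ ≫ F.map (WidePullback.lift f.hom (fun _ => 𝟙 _) (by simp))
    apply hom_extF
    · intro i
      obtain rfl : i = 0 := @Subsingleton.elim (Fin 1) _ _ _
      rw [Category.assoc, map_π]
      simp only [Category.assoc]
      rw [← F.map_comp, WidePullback.lift_π, F.map_id, Category.comp_id]
      exact s_π_zero f F e m fac σ hσ 0
    · rw [Category.assoc, map_base, s_base]
      simp only [Category.assoc]
      rw [← F.map_comp, WidePullback.lift_base, ← fac, reassoc_of% hσ, π_e_m f F e m fac]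
  s_comp_δ₀ n := by
    show s f F e m fac σ hσ n ≫ F.map (f.cechNerve.map (SimplexCategory.δ 0).op) = 𝟙 _
    apply hom_extF
    · intro i
      rw [Category.assoc, map_π, Category.id_comp]
      exact s_π_succ f F e m fac σ hσ n i
    · rw [Category.assoc, map_base, s_base, Category.id_comp]
  s_comp_δ n i := by
    show s f F e m fac σ hσ (n + 1) ≫ F.map (f.cechNerve.map (SimplexCategory.δ i.succ).op) =
      F.map (f.cechNerve.map (SimplexCategory.δ i).op) ≫ s f F e m fac σ hσ n
    apply hom_extF
    · intro j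
      rw [Category.assoc, map_π, Category.assoc]
      induction j using Fin.cases with
      | zero =>
        rw [s_π_zero, map_π_assoc]
        have h0 : (SimplexCategory.Hom.toOrderHom (SimplexCategory.δ i.succ).op.unop) 0 = 0 := rfl
        rw [h0, s_π_zero]
        rw [← Category.assoc, ← Category.assoc, π_e_eq f F e m fac _ 0]
        rw [π_e_eq f F e m fac 0 _]
      | succ j =>
        rw [s_π_succ, map_π]
        have h1 : (SimplexCategory.Hom.toOrderHom (SimplexCategory.δ i.succ).op.unop) j.succ =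
            ((SimplexCategory.Hom.toOrderHom (SimplexCategory.δ i).op.unop) j).succ := by
          show i.succ.succAbove j.succ = (i.succAbove j).succ
          exact Fin.succ_succAbove_succ i j
        rw [h1, s_π_succ]
    · rw [Category.assoc, map_base, s_base, Category.assoc, s_base, map_base]
  s_comp_σ n i := by
    show s f F e m fac σ hσ n ≫ F.map (f.cechNerve.map (SimplexCategory.σ i.succ).op) =
      F.map (f.cechNerve.map (SimplexCategory.σ i).op) ≫ s f F e m fac σ hσ (n + 1)
    apply hom_extF
    · intro j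
      rw [Category.assoc, map_π, Category.assoc]
      induction j using Fin.cases with
      | zero =>
        rw [s_π_zero, map_π_assoc]
        have h0 : (SimplexCategory.Hom.toOrderHom (SimplexCategory.σ i.succ).op.unop) 0 = 0 := by
          show i.succ.predAbove 0 = 0
          simp
        rw [h0, s_π_zero]
        rw [← Category.assoc, ← Category.assoc, π_e_eq f F e m fac _ 0]
        rw [π_e_eq f F e m fac 0 _]
      | succ j =>
        rw [s_π_succ, map_π]
        have h1 : (SimplexCategory.Hom.toOrderHom (SimplexCategory.σ i.succ).op.unop) j.succ =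
            ((SimplexCategory.Hom.toOrderHom (SimplexCategory.σ i).op.unop) j).succ := by
          show i.succ.predAbove j.succ = (i.predAbove j).succ
          exact Fin.succ_predAbove_succ i j
        rw [h1, s_π_succ]
    · rw [Category.assoc, map_base, s_base, Category.assoc, s_base, map_base]

end ed2

end CechED

end Groth.Agent.Lib.helper27
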