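import Mathlib

set_option autoImplicit false
set_option linter.unusedSectionVars false

namespace Groth.Agent.Lib.helper27

open CategoryTheory Limits

namespace QIsoEval

variable {D : Type*} [Category D] {B : Type*} [Category B] [Abelian B]

lemma isIso_of_comm {E : Type*} [Category E] {A₁ A₂ B₁ B₂ : E} (a : A₁ ⟶ A₂) (b : B₁ ⟶ B₂)
    (e₁ : A₁ ≅ B₁) (e₂ : A₂ ≅ B₂) (h : a ≫ e₂.hom = e₁.hom ≫ b) (ha : IsIso a) : IsIso b := by
  have : b = e₁.inv ≫ a ≫ e₂.hom := by rw [h, Iso.inv_hom_id_assoc]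
  rw [this]
  infer_instance

lemma shortComplex_quasiIso_of_evaluation {S₁ S₂ : ShortComplex (D ⥤ B)} (ψ : S₁ ⟶ S₂)
    (h : ∀ U : D, ShortComplex.QuasiIso (((evaluation D B).obj U).mapShortComplex.map ψ)) :
    ShortComplex.QuasiIso ψ := by
  rw [ShortComplex.quasiIso_iff, NatTrans.isIso_iff_isIso_app]
  intro U
  have hU := h U
  rw [ShortComplex.quasiIso_iff] at hU
  have nat := ShortComplex.mapHomologyIso_hom_naturality ψ ((evaluation D B).obj U)
  exact isIso_of_comm _ _ _ _ nat hU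

lemma quasiIso_of_evaluation {ι : Type*} {c : ComplexShape ι}
    {K L : HomologicalComplex (D ⥤ B) c} (φ : K ⟶ L)
    (h : ∀ U : D, QuasiIso ((((evaluation D B).obj U).mapHomologicalComplex c).map φ)) :
    QuasiIso φ := by
  rw [quasiIso_iff]
  intro i
  rw [quasiIsoAt_iff]
  apply shortComplex_quasiIso_of_evaluation
  intro U
  have hU := h U
  rw [quasiIso_iff] at hU
  have := hU i
  rw [quasiIsoAt_iff] at this
  exact this

end QIsoEval

end Groth.Agent.Lib.helper27
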