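import Mathlib
import Groth.Agent.Lib.Helper27.CechED
import Groth.Agent.Lib.Helper27.AFCMap
import Groth.Agent.Lib.Helper27.QIsoEval

set_option autoImplicit false
set_option linter.unusedSectionVars false

namespace Groth.Agent.Lib.helper27

open CategoryTheory Limits Opposite Simplicial SimplicialObject AlgebraicTopology

universe u

namespace CechRes

variable {C : Type u} [SmallCategory C] (J : GrothendieckTopology C)
  {K' K : Sheaf J (Type u)} (f : K' ⟶ K)

/-- the forgetful functor to presheaves -/
noncomputable abbrev F₀ : Sheaf J (Type u) ⥤ (Cᵒᵖ ⥤ Type u) := sheafToPresheaf J (Type u)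

/-- free abelian presheaf -/
noncomputable abbrev W : (Cᵒᵖ ⥤ Type u) ⥤ (Cᵒᵖ ⥤ AddCommGrpCat.{u}) :=
  (Functor.whiskeringRight Cᵒᵖ _ _).obj AddCommGrpCat.free.{u}

/-- the map to the image presheaf -/
noncomputable abbrev eP : K'.obj ⟶ (Subfunctor.range f.hom).toFunctor := Subfunctor.toRange f.hom

/-- the inclusion of the image presheaf -/
noncomputable abbrev mP : (Subfunctor.range f.hom).toFunctor ⟶ K.obj := (Subfunctor.range f.hom).ι

lemma facP : eP J f ≫ mP J f = (F₀ J).map (Arrow.mk f).hom := rfl

/-- the Čech nerve of `f` as presheaves of sets, augmented to the image presheaf -/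
noncomputable abbrev XI : SimplicialObject.Augmented (Cᵒᵖ ⥤ Type u) :=
  CechED.aug (Arrow.mk f) (F₀ J) (eP J f) (mP J f) (facP J f)

section objectwise

variable (U : Cᵒᵖ)

/-- evaluation on presheaves of sets -/
noncomputable abbrev evT : (Cᵒᵖ ⥤ Type u) ⥤ Type u := (evaluation Cᵒᵖ (Type u)).obj U

lemma facU : (eP J f).app U ≫ (mP J f).app U = (F₀ J ⋙ evT U).map (Arrow.mk f).hom := rfl

instance : Mono ((mP J f).app U) := inferInstance

/-- a set-theoretic section of the map to the image -/
noncomputable def σU : (Subfunctor.range f.hom).toFunctor.obj U ⟶ K'.obj.obj U :=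
  TypeCat.ofHom (Function.surjInv ((epi_iff_surjective _).1
    (inferInstance : Epi ((eP J f).app U))))

lemma σU_e : σU J f U ≫ (eP J f).app U = 𝟙 _ := by
  ext x
  exact Function.surjInv_eq ((epi_iff_surjective _).1
    (inferInstance : Epi ((eP J f).app U))) x

/-- the Čech nerve evaluated at `U`, augmented to the image, has an extra degeneracy -/
noncomputable def edU : SimplicialObject.Augmented.ExtraDegeneracy
    (CechED.aug (Arrow.mk f) (F₀ J ⋙ evT U) ((eP J f).app U) ((mP J f).app U) (facU J f U)) :=
  CechED.extraDegeneracy (Arrow.mk f) (F₀ J ⋙ evT U) ((eP J f).app U) ((mP J f).app U)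
    (facU J f U) (σU J f U) (σU_e J f U)

end objectwise

section objectwise2

variable (U : Cᵒᵖ)

/-- evaluation on presheaves of abelian groups -/
noncomputable abbrev evA : (Cᵒᵖ ⥤ AddCommGrpCat.{u}) ⥤ AddCommGrpCat.{u} :=
  (evaluation Cᵒᵖ AddCommGrpCat.{u}).obj U

/-- the free abelian groups on the Čech nerve evaluated at `U` have an extra degeneracy -/
noncomputable def edU' : SimplicialObject.Augmented.ExtraDegeneracy
    (((Augmented.whiskering _ _).obj (W ⋙ evA U)).obj (XI J f)) :=
  (edU J f U).map AddCommGrpCat.free.{u}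

end objectwise2

/-- the presheaf-level free Čech complex resolves the free presheaf on the image -/
theorem quasiIso_presheaf :
    QuasiIso (AlternatingFaceMapComplex.ε.app
      (((Augmented.whiskering _ _).obj (W (C := C))).obj (XI J f))) := by
  apply QIsoEval.quasiIso_of_evaluation
  intro U
  rw [AFCMap.quasiIso_iff (W (C := C)) (evA U) (XI J f)]
  exact (edU' J f U).homotopyEquiv.quasiIso_hom


/-- sheafification of abelian presheaves -/
noncomputable abbrev a : (Cᵒᵖ ⥤ AddCommGrpCat.{u}) ⥤ Sheaf J AddCommGrpCat.{u} :=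
  presheafToSheaf J AddCommGrpCat.{u}

/-- after sheafification -/
theorem quasiIso_sheafified :
    QuasiIso (AlternatingFaceMapComplex.ε.app
      (((Augmented.whiskering _ _).obj (W (C := C) ⋙ a J)).obj (XI J f))) := by
  rw [← AFCMap.quasiIso_iff (W (C := C)) (a J) (XI J f)]
  have := quasiIso_presheaf J f
  infer_instance


section epi

variable [Epi f]

instance : Presheaf.IsLocallySurjective J f.hom :=
  (Sheaf.isLocallySurjective_iff_epi f).2 inferInstance

instance : Presheaf.IsLocallySurjective J (mP J f) :=
  Presheaf.isLocallySurjective_of_isLocallySurjective_fac J (f₁ := eP J f) (f₂ := mP J f) (f₃ := f.hom) rfl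

instance : Presheaf.IsLocallyInjective J (mP J f) :=
  Presheaf.isLocallyInjective_of_injective J _ (fun U => by
    rw [← mono_iff_injective]
    infer_instance)

lemma W_mP : J.W (mP J f) := J.W_of_isLocallyBijective _

instance isIso_mP : IsIso ((W (C := C) ⋙ a J).map (mP J f)) := by
  have h := J.W_of_preservesSheafification AddCommGrpCat.free.{u} _ (W_mP J f)
  exact (J.W_iff _).1 h


/-- the two augmented simplicial objects agree up to the isomorphism `a ℤ[im f] ≅ a ℤ[K]` -/
noncomputable def θ : ((Augmented.whiskering _ _).obj (W (C := C) ⋙ a J)).obj (XI J f) ≅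
    ((Augmented.whiskering _ _).obj (Sheaf.composeAndSheafify J AddCommGrpCat.free.{u})).obj
      (Arrow.mk f).augmentedCechNerve :=
  Comma.isoMk (Iso.refl _) (@asIso _ _ _ _ ((W (C := C) ⋙ a J).map (mP J f)) (isIso_mP J f)) (by
    apply NatTrans.ext
    funext Δ
    dsimp [Augmented.whiskering, Augmented.whiskeringObj]
    have h1 : (Functor.constComp SimplexCategoryᵒᵖ (Arrow.mk f).augmentedCechNerve.right
                (Sheaf.composeAndSheafify J AddCommGrpCat.free.{u})).hom.app Δ = 𝟙 _ := rfl
    have h2 : (Functor.constComp SimplexCategoryᵒᵖ (XI J f).right (W (C := C) ⋙ a J)).hom.app Δ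
        = 𝟙 _ := rfl
    rw [h1, h2]
    refine (Category.id_comp _).trans ?_
    refine (Category.comp_id _).trans ?_
    refine Eq.trans ?_ (congrArg (· ≫ (a J).map (Functor.whiskerRight (mP J f) AddCommGrpCat.free.{u}))
      (Category.comp_id _).symm)
    refine Eq.trans ?_ ((a J).map_comp _ _)
    refine congrArg (a J).map ?_
    refine Eq.trans ?_ (Functor.whiskerRight_comp _ _ _)
    refine congrArg (fun t => Functor.whiskerRight t AddCommGrpCat.free.{u}) ?_
    exact ((Category.assoc _ _ _).trans
      (CechED.π_e_m (Arrow.mk f) (F₀ J) (eP J f) (mP J f) (facP J f) 0)).symm)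

theorem main :
    QuasiIso (AlternatingFaceMapComplex.ε.app
      (((Augmented.whiskering _ _).obj (Sheaf.composeAndSheafify J AddCommGrpCat.free.{u})).obj
        (Arrow.mk f).augmentedCechNerve)) := by
  have h := quasiIso_sheafified J f
  have e : Arrow.mk (AlternatingFaceMapComplex.ε.app
      (((Augmented.whiskering _ _).obj (W (C := C) ⋙ a J)).obj (XI J f))) ≅
      Arrow.mk (AlternatingFaceMapComplex.ε.app
      (((Augmented.whiskering _ _).obj (Sheaf.composeAndSheafify J AddCommGrpCat.free.{u})).obj
        (Arrow.mk f).augmentedCechNerve)) :=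
    Arrow.isoMk ((Augmented.drop ⋙ alternatingFaceMapComplex _).mapIso (θ J f))
      ((Augmented.point ⋙ ChainComplex.single₀ _).mapIso (θ J f))
      (AlternatingFaceMapComplex.ε.naturality (θ J f).hom)
  exact (quasiIso_iff_of_arrow_mk_iso _ _ e).1 h

end epi

end CechRes


end Groth.Agent.Lib.helper27
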