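import Mathlib
import Groth.Agent.Lib.Helper27.SieveExt
import Groth.Agent.Lib.Helper27.CechH0

set_option autoImplicit false
set_option linter.unusedSectionVars false
set_option linter.unusedVariables false

namespace Groth.Agent.Lib.helper27

open CategoryTheory Limits Opposite Simplicial SimplicialObject AlgebraicTopology

universe w v' u'

namespace NerveHom

variable {𝒜 : Type u'} [Category.{v'} 𝒜] [Abelian 𝒜]

section basic

variable (P : SimplicialObject 𝒜)

/-- the cochain complex `Hom(P_•, F)`, functorially in `F` -/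
noncomputable def Cx : 𝒜 ⥤ CochainComplex AddCommGrpCat.{v'} ℕ :=
  preadditiveYoneda ⋙ (Functor.whiskeringLeft _ _ _).obj P.rightOp ⋙
    alternatingCofaceMapComplex AddCommGrpCat.{v'}

/-- the alternating face map complex of `P` -/
noncomputable abbrev K : ChainComplex 𝒜 ℕ := (alternatingFaceMapComplex 𝒜).obj P

/-- cochains are morphisms -/
def toHom {F : 𝒜} {n : ℕ} (x : ((Cx P).obj F).X n) : (K P).X n ⟶ F := x

/-- morphisms are cochains -/
def ofHom {F : 𝒜} {n : ℕ} (x : (K P).X n ⟶ F) : ((Cx P).obj F).X n := x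

lemma d_apply (F : 𝒜) (n : ℕ) (x : ((Cx P).obj F).X n) :
    toHom P (((Cx P).obj F).d n (n + 1) x) = (K P).d (n + 1) n ≫ toHom P x := by
  have h1 : ((Cx P).obj F).d n (n + 1) =
      AlternatingCofaceMapComplex.objD (P.rightOp ⋙ preadditiveYoneda.obj F) n := by
    exact CochainComplex.of_d (V := AddCommGrpCat.{v'}) _
      (AlternatingCofaceMapComplex.objD (P.rightOp ⋙ preadditiveYoneda.obj F)) n
  rw [h1]
  simp only [AlternatingCofaceMapComplex.objD, K, alternatingFaceMapComplex_obj_d,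
    AlternatingFaceMapComplex.objD]
  rw [Preadditive.sum_comp]
  let ev : ((P.rightOp ⋙ preadditiveYoneda.obj F).obj ⦋n⦌ ⟶
      (P.rightOp ⋙ preadditiveYoneda.obj F).obj ⦋n + 1⦌) →+ ((K P).X (n + 1) ⟶ F) :=
    (AddMonoidHom.eval x).comp AddCommGrpCat.homAddEquiv.toAddMonoidHom
  show ev _ = _
  rw [map_sum]
  refine Finset.sum_congr rfl fun i _ => ?_
  rw [map_zsmul, Preadditive.zsmul_comp]
  rfl

lemma map_apply {F G : 𝒜} (φ : F ⟶ G) (n : ℕ) (x : ((Cx P).obj F).X n) :
    toHom P (((Cx P).map φ).f n x) = toHom P x ≫ φ := by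
  rfl


instance : (Cx P).PreservesZeroMorphisms where
  map_zero F G := by
    apply HomologicalComplex.hom_ext
    intro n
    ext x
    exact (map_apply P (0 : F ⟶ G) n x).trans comp_zero

end basic

section ses

variable (P : SimplicialObject 𝒜) [HasExt.{w} 𝒜] (S : ShortComplex 𝒜) (hS : S.ShortExact)

include hS in
/-- a short exact sequence whose kernel has no `Ext¹` from the terms of `P` induces a short
exact sequence of Čech complexes -/
lemma shortExact_map (h₁ : ∀ (n : ℕ) (x : Abelian.Ext.{w} ((K P).X n) S.X₁ 1), x = 0) :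
    (S.map (Cx P)).ShortExact := by
  apply HomologicalComplex.shortExact_of_degreewise_shortExact
  intro n
  have hm := hS.mono_f
  refine ShortComplex.ShortExact.mk' ?_ ?_ ?_
  · rw [ShortComplex.ab_exact_iff]
    intro x hx
    have hx' : toHom P x ≫ S.g = 0 := hx
    exact ⟨ofHom P (hS.exact.lift (toHom P x) hx'), hS.exact.lift_f _ _⟩
  · rw [AddCommGrpCat.mono_iff_injective]
    intro x y hxy
    have : toHom P x ≫ S.f = toHom P y ≫ S.f := hxy
    exact (cancel_mono S.f).1 this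
  · rw [AddCommGrpCat.epi_iff_surjective]
    intro y
    obtain ⟨c, hc⟩ := SieveExt.lift_of_ext_one S hS ((K P).X n) (h₁ n) (toHom P y)
    exact ⟨ofHom P c, hc⟩

end ses


section inj

variable (P : SimplicialObject 𝒜)

/-- `Hom(P_•, I)` is exact where `P_•` is, for injective `I` -/
lemma exactAt_of_injective (I : 𝒜) [Injective I] (n : ℕ) (h : (K P).ExactAt (n + 1)) :
    ((Cx P).obj I).ExactAt (n + 1) := by
  rw [HomologicalComplex.exactAt_iff' _ n (n + 1) (n + 2) (by simp) (by simp),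
    ShortComplex.ab_exact_iff]
  intro x hx
  have hK := (HomologicalComplex.exactAt_iff' _ (n + 2) (n + 1) n (by simp) (by simp)).1 h
  have hx' : (K P).d (n + 2) (n + 1) ≫ toHom P x = 0 := (d_apply P I (n + 1) x).symm.trans hx
  have hm : Mono ((K P).sc' (n + 2) (n + 1) n).fromOpcycles :=
    ((K P).sc' (n + 2) (n + 1) n).exact_iff_mono_fromOpcycles.1 hK
  obtain ⟨z, hz⟩ := Injective.factors (((K P).sc' (n + 2) (n + 1) n).descOpcycles (toHom P x) hx')
    ((K P).sc' (n + 2) (n + 1) n).fromOpcycles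
  refine ⟨ofHom P z, ?_⟩
  refine (d_apply P I n _).trans ?_
  have h2 := ((K P).sc' (n + 2) (n + 1) n).p_fromOpcycles
  exact ((congrArg (· ≫ z) h2.symm).trans (Category.assoc _ _ _)).trans
    ((congrArg (((K P).sc' (n + 2) (n + 1) n).pOpcycles ≫ ·) hz).trans
      (ShortComplex.p_descOpcycles _ _ _))

end inj


section resolution

open HomologicalComplex ChainComplex Category

variable {Kc : ChainComplex 𝒜 ℕ} {Z : 𝒜} (π : Kc ⟶ (ChainComplex.single₀ 𝒜).obj Z) [QuasiIso π]

include π in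
lemma exactAt_succ_of_quasiIso (n : ℕ) : Kc.ExactAt (n + 1) := by
  rw [← quasiIsoAt_iff_exactAt' π (n + 1) (exactAt_succ_single_obj _ _)]
  infer_instance

omit [QuasiIso π] in
lemma d_comp_π : Kc.d 1 0 ≫ π.f 0 = 0 := by
  rw [← π.comm 1 0, single_obj_d, comp_zero]

set_option backward.isDefEq.respectTransparency.types false in
set_option backward.defeqAttrib.useBackward true in
/-- `Z` is the cokernel of `Kc.X 1 ⟶ Kc.X 0` when `Kc` resolves `Z` -/
noncomputable def isColimitCokernelCofork :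
    IsColimit (CokernelCofork.ofπ (π.f 0) (d_comp_π π)) := by
  refine IsColimit.ofIsoColimit (Kc.opcyclesIsCokernel 1 0 (by simp)) ?_
  refine Cofork.ext (Kc.isoHomologyι₀.symm ≪≫ isoOfQuasiIsoAt π 0 ≪≫
    singleObjHomologySelfIso _ _ _) ?_
  rw [← cancel_mono (singleObjHomologySelfIso (ComplexShape.down ℕ) 0 _).inv,
    ← cancel_mono (isoHomologyι₀ _).hom]
  dsimp
  simp only [isoHomologyι₀_inv_naturality_assoc, p_opcyclesMap_assoc, single₀_obj_zero, assoc,
    Iso.hom_inv_id, comp_id, isoHomologyι_inv_hom_id, singleObjHomologySelfIso_inv_homologyι,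
    singleObjOpcyclesSelfIso_hom, single₀ObjXSelf, Iso.refl_inv, id_comp]

end resolution


section h0

variable (P : SimplicialObject 𝒜) {Z : 𝒜} (π : K P ⟶ (ChainComplex.single₀ 𝒜).obj Z) [QuasiIso π]

/-- the augmentation map in degree `0` -/
noncomputable abbrev ε₀ : (K P).X 0 ⟶ Z := π.f 0

lemma d_ε₀ : (K P).d 1 0 ≫ ε₀ P π = 0 := d_comp_π π

instance : Epi (ε₀ P π) := epi_of_isColimit_cofork (isColimitCokernelCofork π)

lemma exists_desc {F : 𝒜} (y : (K P).X 0 ⟶ F) (hy : (K P).d 1 0 ≫ y = 0) :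
    ∃ u : Z ⟶ F, ε₀ P π ≫ u = y :=
  ⟨(isColimitCokernelCofork π).desc (CokernelCofork.ofπ y hy),
    (isColimitCokernelCofork π).fac (CokernelCofork.ofπ y hy) WalkingParallelPair.one⟩

/-- global sections: `Hom(Z, -)` -/
noncomputable abbrev Γ : 𝒜 ⥤ AddCommGrpCat.{v'} := preadditiveCoyoneda.obj (op Z)

/-- the augmentation `Hom(Z, F) ⟶ Hom(P_0, F)` -/
noncomputable def aug : Γ (Z := Z) ⟶ Cx P ⋙ HomologicalComplex.eval _ _ 0 where
  app F := AddCommGrpCat.ofHom
    { toFun := fun u => ofHom P (ε₀ P π ≫ u)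
      map_zero' := comp_zero
      map_add' := fun _ _ => Preadditive.comp_add _ _ _ _ _ _ }
  naturality F G φ := by
    ext u
    exact (Category.assoc _ _ _).symm

lemma aug_apply (F : 𝒜) (u : Z ⟶ F) : toHom P ((aug P π).app F u) = ε₀ P π ≫ u := rfl

lemma aug_d (F : 𝒜) : (aug P π).app F ≫ ((Cx P).obj F).d 0 1 = 0 := by
  ext u
  refine (d_apply P F 0 _).trans ?_
  show (K P).d 1 0 ≫ ε₀ P π ≫ u = 0
  rw [← Category.assoc, d_ε₀, zero_comp]

/-- the augmentation is pointwise a kernel -/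
noncomputable def augIsKernel (F : 𝒜) :
    IsLimit (KernelFork.ofι ((aug P π).app F) (aug_d P π F)) := by
  have hm : Mono ((aug P π).app F) := by
    rw [AddCommGrpCat.mono_iff_injective]
    intro u v huv
    have : ε₀ P π ≫ u = ε₀ P π ≫ v := huv
    exact (cancel_epi (ε₀ P π)).1 this
  have hex : (ShortComplex.mk ((aug P π).app F) (((Cx P).obj F).d 0 1) (aug_d P π F)).Exact := by
    rw [ShortComplex.ab_exact_iff]
    intro y hy
    have hy' : (K P).d 1 0 ≫ toHom P y = 0 := (d_apply P F 0 y).symm.trans hy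
    obtain ⟨u, hu⟩ := exists_desc P π (toHom P y) hy'
    exact ⟨u, hu⟩
  exact hex.fIsKernel

/-- `H⁰` of the Čech complex is `Hom(Z, -)` -/
noncomputable def h0Iso : Cx P ⋙ HomologicalComplex.homologyFunctor _ _ 0 ≅ Γ (Z := Z) :=
  Cech.h0Iso (Cx P) Γ (aug P π) (aug_d P π) (augIsKernel P π)

end h0


section main

variable (P : SimplicialObject 𝒜) {Z : 𝒜} (π : K P ⟶ (ChainComplex.single₀ 𝒜).obj Z) [QuasiIso π]
  [HasExt.{w} 𝒜] [EnoughInjectives 𝒜]

/-- the acyclicity class: no higher `Ext` from the terms of `P` and from `Z` -/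
def Acyc (Z : 𝒜) (F : 𝒜) : Prop :=
  (∀ (n p : ℕ) (x : Abelian.Ext.{w} ((K P).X n) F (p + 1)), x = 0) ∧
  (∀ (p : ℕ) (x : Abelian.Ext.{w} Z F (p + 1)), x = 0)

lemma acyc_X₃ (S : ShortComplex 𝒜) (hS : S.ShortExact) (hI : Injective S.X₂)
    (h : Acyc.{w} P Z S.X₁) : Acyc.{w} P Z S.X₃ :=
  ⟨fun n p => SieveExt.ext_X₃_eq_zero S hS hI _ p (h.1 n (p + 1)),
    fun p => SieveExt.ext_X₃_eq_zero S hS hI _ p (h.2 (p + 1))⟩

/-- the injective embedding sequence -/
noncomputable abbrev embS (F : 𝒜) : ShortComplex 𝒜 :=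
  ShortComplex.mk (Injective.ι F) (cokernel.π (Injective.ι F)) (cokernel.condition _)

lemma embS_shortExact (F : 𝒜) : (embS F).ShortExact :=
  ShortComplex.ShortExact.mk' (ShortComplex.exact_cokernel _) inferInstance inferInstance

include π in
lemma isZero_homology_of_injective (I : 𝒜) [Injective I] (n : ℕ) :
    IsZero (((Cx P).obj I).homology (n + 1)) :=
  (HomologicalComplex.exactAt_iff_isZero_homology _ _).1
    (exactAt_of_injective P I n (exactAt_succ_of_quasiIso π n))

include π in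
lemma epi_h0_map (S : ShortComplex 𝒜) (hS : S.ShortExact)
    (h : ∀ x : Abelian.Ext.{w} Z S.X₁ 1, x = 0) :
    Epi (HomologicalComplex.homologyMap ((Cx P).map S.g) 0) := by
  have hΓ : Epi ((Γ (Z := Z)).map S.g) := by
    rw [AddCommGrpCat.epi_iff_surjective]
    intro b
    obtain ⟨c, hc⟩ := SieveExt.lift_of_ext_one S hS Z h b
    exact ⟨c, hc⟩
  have hn := (h0Iso P π).hom.naturality S.g
  have : HomologicalComplex.homologyMap ((Cx P).map S.g) 0 =
      (h0Iso P π).hom.app S.X₂ ≫ (Γ (Z := Z)).map S.g ≫ (h0Iso P π).inv.app S.X₃ := by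
    rw [← Category.assoc, ← hn, Category.assoc, Iso.hom_inv_id_app, Category.comp_id]
    rfl
  rw [this]
  have i1 : IsIso ((h0Iso P π).hom.app S.X₂) := ((h0Iso P π).app S.X₂).isIso_hom
  have i2 : IsIso ((h0Iso P π).inv.app S.X₃) := ((h0Iso P π).app S.X₃).isIso_inv
  have e1 : Epi ((h0Iso P π).hom.app S.X₂) := i1.epi_of_iso
  have e2 : Epi ((h0Iso P π).inv.app S.X₃) := i2.epi_of_iso
  exact epi_comp' e1 (epi_comp' hΓ e2)

include π in
/-- Čech cohomology of an acyclic object vanishes in positive degrees -/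
theorem isZero_homology_succ : ∀ (q : ℕ) (F : 𝒜), Acyc.{w} P Z F →
    IsZero (((Cx P).obj F).homology (q + 1)) := by
  intro q
  induction q with
  | zero =>
    intro F hF
    have hS := embS_shortExact F
    have hC : ((embS F).map (Cx P)).ShortExact :=
      shortExact_map P (embS F) hS (fun n x => hF.1 n 0 x)
    have hz : IsZero (((embS F).map (Cx P)).X₂.homology 1) :=
      isZero_homology_of_injective P π (Injective.under F) 0
    have hδ : Epi (hC.δ 0 1 rfl) := hC.epi_δ 0 1 rfl hz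
    have hg : Epi (HomologicalComplex.homologyMap ((embS F).map (Cx P)).g 0) :=
      epi_h0_map P π (embS F) hS (hF.2 0)
    have h0 : hC.δ 0 1 rfl = 0 := by
      rw [← cancel_epi (HomologicalComplex.homologyMap ((embS F).map (Cx P)).g 0), comp_zero]
      exact hC.comp_δ 0 1 rfl
    exact @IsZero.of_epi_eq_zero _ _ _ _ _ _ hδ h0
  | succ q ih =>
    intro F hF
    have hS := embS_shortExact F
    have hC : ((embS F).map (Cx P)).ShortExact :=
      shortExact_map P (embS F) hS (fun n x => hF.1 n 0 x)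
    have hz : IsZero (((embS F).map (Cx P)).X₂.homology (q + 2)) :=
      isZero_homology_of_injective P π (Injective.under F) (q + 1)
    have hδ : Epi (hC.δ (q + 1) (q + 2) rfl) := hC.epi_δ (q + 1) (q + 2) rfl hz
    have hQ : IsZero (((embS F).map (Cx P)).X₃.homology (q + 1)) :=
      ih (embS F).X₃ (acyc_X₃ P (embS F) hS inferInstance hF)
    exact @IsZero.of_epi _ _ _ _ _ (hC.δ (q + 1) (q + 2) rfl) hδ hQ


include π in
/-- the cokernel of an injective embedding inherits Čech acyclicity one degree lower -/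
lemma isZero_homology_X₃ (S : ShortComplex 𝒜) (hS : S.ShortExact) [Injective S.X₂]
    (h₁ : ∀ (n : ℕ) (x : Abelian.Ext.{w} ((K P).X n) S.X₁ 1), x = 0) (q : ℕ)
    (h : IsZero (((Cx P).obj S.X₁).homology (q + 2))) :
    IsZero (((Cx P).obj S.X₃).homology (q + 1)) := by
  have hC : (S.map (Cx P)).ShortExact := shortExact_map P S hS h₁
  have e := hC.homology_exact₃ (q + 1) (q + 2) rfl
  exact e.isZero_X₂ ((isZero_homology_of_injective P π S.X₂ q).eq_of_src _ _)
    (IsZero.eq_of_tgt h _ _)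

include π in
/-- the key diagram chase: a morphism `Z ⟶ S.X₃` which lifts to `S.X₂` after restriction to `P_0`
lifts to `S.X₂`, if the first Čech cohomology of `S.X₁` vanishes -/
lemma exists_lift_of_exactAt_one (S : ShortComplex 𝒜) (hS : S.ShortExact)
    (hE : IsZero (((Cx P).obj S.X₁).homology 1)) (b : Z ⟶ S.X₃) (s' : (K P).X 0 ⟶ S.X₂)
    (hs' : s' ≫ S.g = ε₀ P π ≫ b) : ∃ u : Z ⟶ S.X₂, u ≫ S.g = b := by
  have hm := hS.mono_f
  -- the obstruction cocycle
  have h1 : ((K P).d 1 0 ≫ s') ≫ S.g = 0 := by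
    rw [Category.assoc, hs', ← Category.assoc, d_ε₀, zero_comp]
  let t₁ : (K P).X 1 ⟶ S.X₁ := hS.exact.lift _ h1
  have ht₁ : t₁ ≫ S.f = (K P).d 1 0 ≫ s' := hS.exact.lift_f _ h1
  have hcoc : (K P).d 2 1 ≫ t₁ = 0 := by
    rw [← cancel_mono S.f, Category.assoc, ht₁, zero_comp, ← Category.assoc,
      (K P).d_comp_d, zero_comp]
  -- it is a coboundary
  have hex := (HomologicalComplex.exactAt_iff' _ 0 1 2 (by simp) (by simp)).1
    ((HomologicalComplex.exactAt_iff_isZero_homology _ _).2 hE)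
  rw [ShortComplex.ab_exact_iff] at hex
  obtain ⟨t₀', ht₀'⟩ := hex (ofHom P t₁) ((d_apply P S.X₁ 1 (ofHom P t₁)).trans hcoc)
  have ht₀ : (K P).d 1 0 ≫ toHom P t₀' = t₁ := (d_apply P S.X₁ 0 t₀').symm.trans ht₀'
  -- correct the lift
  have hs'' : (K P).d 1 0 ≫ (s' - toHom P t₀' ≫ S.f) = 0 := by
    rw [Preadditive.comp_sub, ← Category.assoc, ht₀, ht₁, sub_self]
  obtain ⟨u, hu⟩ := exists_desc P π _ hs''
  refine ⟨u, ?_⟩
  rw [← cancel_epi (ε₀ P π), ← Category.assoc, hu, Preadditive.sub_comp, Category.assoc, S.zero,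
    comp_zero, sub_zero, hs']

end main

end NerveHom

end Groth.Agent.Lib.helper27
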