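import Mathlib
import Groth.Prelude.Def_CohCx
import Groth.Agent.Lib.Helper27.NerveHom
import Groth.Agent.Lib.Helper27.CechRes

set_option autoImplicit false
set_option linter.unusedSectionVars false
set_option linter.unusedVariables false

namespace Groth.Agent.Lib.helper27

open CategoryTheory Limits Opposite Simplicial SimplicialObject AlgebraicTopology

universe u

namespace NerveCx

variable {C : Type u} [SmallCategory C] (J : GrothendieckTopology C)
  {K' K : Sheaf J (Type u)} (f : K' ⟶ K)

/-- the free abelian sheaves on the augmented Čech nerve -/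
noncomputable abbrev XA : SimplicialObject.Augmented (Sheaf J AddCommGrpCat.{u}) :=
  ((Augmented.whiskering _ _).obj (Sheaf.composeAndSheafify J AddCommGrpCat.free.{u})).obj
    (Arrow.mk f).augmentedCechNerve

/-- the simplicial abelian sheaf -/
noncomputable abbrev P : SimplicialObject (Sheaf J AddCommGrpCat.{u}) := (XA J f).left

/-- the augmentation -/
noncomputable abbrev π : NerveHom.K (P J f) ⟶
    (ChainComplex.single₀ (Sheaf J AddCommGrpCat.{u})).obj (XA J f).right :=
  AlternatingFaceMapComplex.ε.app (XA J f)

instance [Epi f] : QuasiIso (π J f) := CechRes.main J f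

lemma cx_eq (F : Sheaf J AddCommGrpCat.{u}) :
    CohCx.cechNerveCx F f = (NerveHom.Cx (P J f)).obj F := rfl

theorem isZero_of_totallyAcyclic [Epi f] (F : Sheaf J AddCommGrpCat.{u})
    (hF : CohCx.IsTotallyAcyclic F) (q : ℕ) :
    IsZero ((CohCx.cechNerveCx F f).homology (q + 1)) := by
  rw [cx_eq]
  refine NerveHom.isZero_homology_succ.{u} (P J f) (π J f) q F ⟨?_, ?_⟩
  · intro n p x
    exact @Subsingleton.elim _ (hF ((Arrow.mk f).cechNerve.obj (op ⦋n⦌)) p) x 0
  · intro p x
    exact @Subsingleton.elim _ (hF K p) x 0

end NerveCx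

end Groth.Agent.Lib.helper27
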