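import Mathlib
import Groth.Prelude.Def_CohCx
import Groth.Agent.Lib.Helper27.SieveExt

set_option autoImplicit false
set_option linter.unusedVariables false
set_option linter.unusedSectionVars false

namespace Groth.Agent.Lib.helper27

open CategoryTheory Limits Opposite Abelian Groth.Agent.Lib.helper7

universe u

namespace TotAcyc

variable {C : Type u} [SmallCategory C] (J : GrothendieckTopology C)

/-- the free abelian sheaf on a sheaf of sets -/
noncomputable abbrev ZK (K : Sheaf J (Type u)) : Sheaf J AddCommGrpCat.{u} :=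
  (presheafToSheaf J AddCommGrpCat.{u}).obj (K.obj ⋙ AddCommGrpCat.free.{u})

/-- the free-forgetful adjunction on sheaves -/
noncomputable abbrev adj :
    Sheaf.composeAndSheafify J AddCommGrpCat.free.{u} ⊣ sheafCompose J (forget AddCommGrpCat.{u}) :=
  Sheaf.adjunction J AddCommGrpCat.adj

instance : (sheafCompose J (forget AddCommGrpCat.{u})).Faithful where
  map_injective {F G} f g h := by
    apply Sheaf.hom_ext
    ext U x
    have := congrArg (fun φ => φ.hom.app U x) h
    exact this

/-- the counit of the free-forgetful adjunction is an epimorphism -/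
lemma epi_counit (F : Sheaf J AddCommGrpCat.{u}) : Epi ((adj J).counit.app F) := by
  infer_instance

section prod

variable {T : Type u} (S : T → ShortComplex (Sheaf J AddCommGrpCat.{u}))

/-- the product of a family of short complexes of sheaves -/
noncomputable abbrev prodS : ShortComplex (Sheaf J AddCommGrpCat.{u}) :=
  ShortComplex.mk (Limits.Pi.map fun t => (S t).f) (Limits.Pi.map fun t => (S t).g) (by
    apply Limits.Pi.hom_ext
    intro t
    simp)

/-- the product of left exact sequences is left exact -/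
lemma prodS_exact_mono (hS : ∀ t, (S t).ShortExact) :
    (prodS J S).Exact ∧ Mono (prodS J S).f := by
  have hmono : ∀ t, Mono (S t).f := fun t => (hS t).mono_f
  have hmP : Mono (prodS J S).f := by
    show Mono (Limits.Pi.map fun t => (S t).f)
    infer_instance
  rw [ShortComplex.exact_and_mono_f_iff_f_is_kernel]
  refine ⟨KernelFork.IsLimit.ofι' _ _ (fun {W} k hk => ?_)⟩
  dsimp only at k hk
  have hkt : ∀ t, (k ≫ Pi.π (fun t => (S t).X₂) t) ≫ (S t).g = 0 := by
    intro t
    calc (k ≫ Pi.π (fun t => (S t).X₂) t) ≫ (S t).g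
        = (k ≫ (Limits.Pi.map fun t => (S t).g)) ≫ Pi.π (fun t => (S t).X₃) t := by
          rw [Category.assoc, Category.assoc, Limits.Pi.map_π]
      _ = 0 := by rw [hk, zero_comp]
  refine ⟨Pi.lift fun t => (hS t).exact.lift (k ≫ Pi.π (fun t => (S t).X₂) t) (hkt t), ?_⟩
  dsimp only
  apply Limits.Pi.hom_ext
  intro t
  rw [Category.assoc, Limits.Pi.map_π, Limits.Pi.lift_π_assoc, ShortComplex.Exact.lift_f]

end prod

variable [HasExt.{u} (Sheaf J AddCommGrpCat.{u})]

/-- vanishing of the higher cohomology with respect to all sheaves of sets, in elementwise form -/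
def TA (F : Sheaf J AddCommGrpCat.{u}) : Prop :=
  ∀ (K : Sheaf J (Type u)) (p : ℕ) (x : Ext.{u} (ZK J K) F (p + 1)), x = 0

section prod2

variable {T : Type u} (S : T → ShortComplex (Sheaf J AddCommGrpCat.{u}))

/-- the product of short exact sequences with totally acyclic kernels is short exact -/
lemma prodS_shortExact (hS : ∀ t, (S t).ShortExact) (h₁ : ∀ t, TA J (S t).X₁) :
    (prodS J S).ShortExact := by
  obtain ⟨hex, hm⟩ := prodS_exact_mono J S hS
  refine ShortComplex.ShortExact.mk' hex hm ?_
  -- the universal sections lift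
  let K : Sheaf J (Type u) := (sheafCompose J (forget AddCommGrpCat.{u})).obj (prodS J S).X₃
  let u : ZK J K ⟶ (prodS J S).X₃ := (adj J).counit.app (prodS J S).X₃
  have hu : Epi u := epi_counit J _
  have hlift : ∀ t, ∃ c : ZK J K ⟶ (S t).X₂, c ≫ (S t).g = u ≫ Pi.π _ t := fun t =>
    SieveExt.lift_of_ext_one (S t) (hS t) (ZK J K) (h₁ t K 0) (u ≫ Pi.π _ t)
  choose c hc using hlift
  have hfac : Pi.lift c ≫ (prodS J S).g = u := by
    apply Limits.Pi.hom_ext
    intro t
    simp [prodS, hc]
  have : Epi (Pi.lift c ≫ (prodS J S).g) := by rw [hfac]; exact hu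
  exact epi_of_epi (Pi.lift c) _

end prod2

theorem ta_pi : ∀ (p : ℕ) {T : Type u} (F : T → Sheaf J AddCommGrpCat.{u}), (∀ t, TA J (F t)) →
    ∀ (K : Sheaf J (Type u)) (x : Ext.{u} (ZK J K) (∏ᶜ F) (p + 1)), x = 0 := by
  intro p
  induction p with
  | zero =>
    intro T F hF K
    let S : T → ShortComplex (Sheaf J AddCommGrpCat.{u}) := fun t => CechSite.resS J (F t)
    have hS : ∀ t, (S t).ShortExact := fun t => CechSite.resS_shortExact J (F t)
    have hP := prodS_shortExact J S hS hF
    have hI : Injective (prodS J S).X₂ := by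
      show Injective (∏ᶜ fun t => (S t).X₂)
      infer_instance
    apply SieveExt.ext_one_eq_zero (prodS J S) hP hI (ZK J K)
    intro b
    have hlift : ∀ t, ∃ c : ZK J K ⟶ (S t).X₂, c ≫ (S t).g = b ≫ Pi.π _ t := fun t =>
      SieveExt.lift_of_ext_one (S t) (hS t) (ZK J K) (hF t K 0) (b ≫ Pi.π _ t)
    choose c hc using hlift
    refine ⟨Pi.lift c, ?_⟩
    apply Limits.Pi.hom_ext
    intro t
    simp [prodS, hc]
  | succ p ih =>
    intro T F hF K
    let S : T → ShortComplex (Sheaf J AddCommGrpCat.{u}) := fun t => CechSite.resS J (F t)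
    have hS : ∀ t, (S t).ShortExact := fun t => CechSite.resS_shortExact J (F t)
    have hP := prodS_shortExact J S hS hF
    have hI : Injective (prodS J S).X₂ := by
      show Injective (∏ᶜ fun t => (S t).X₂)
      infer_instance
    have hQ : ∀ t, TA J (S t).X₃ := fun t K' n =>
      SieveExt.ext_X₃_eq_zero (S t) (hS t) inferInstance (ZK J K') n (hF t K' (n + 1))
    exact SieveExt.ext_succ_eq_zero (prodS J S) hP hI (ZK J K) p
      (ih (fun t => (S t).X₃) hQ K)

/-- a product of totally acyclic abelian sheaves is totally acyclic -/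
theorem isTotallyAcyclic_pi {T : Type u} (F : T → Sheaf J AddCommGrpCat.{u})
    (hF : ∀ t, CohCx.IsTotallyAcyclic (F t)) : CohCx.IsTotallyAcyclic (∏ᶜ F) := by
  intro K p
  exact subsingleton_of_forall_eq (0 : Ext.{u} (ZK J K) (∏ᶜ F) (p + 1))
    (ta_pi J p F (fun t K' n x => @Subsingleton.elim _ (hF t K' n) x 0) K)

end TotAcyc

end Groth.Agent.Lib.helper27
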