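import Mathlib
import Groth.Prelude.Def_CohCx
import Groth.Agent.Lib.Helper27.NerveCx
import Groth.Agent.Lib.Helper27.TotAcyc

set_option autoImplicit false
set_option linter.unusedSectionVars false
set_option linter.unusedVariables false

namespace Groth.Agent.Lib.helper27

open CategoryTheory Limits Opposite Simplicial SimplicialObject AlgebraicTopology

universe u

namespace NerveCx

variable {C : Type u} [SmallCategory C] (J : GrothendieckTopology C)

/-- the class of Čech-acyclic abelian sheaves -/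
def CechAcyc (F : Sheaf J AddCommGrpCat.{u}) : Prop :=
  ∀ (K' K : Sheaf J (Type u)) (f : K' ⟶ K), Epi f →
    ∀ q : ℕ, IsZero ((CohCx.cechNerveCx F f).homology (q + 1))

/-- free abelian sheaf functor -/
noncomputable abbrev G : Sheaf J (Type u) ⥤ Sheaf J AddCommGrpCat.{u} :=
  Sheaf.composeAndSheafify J AddCommGrpCat.free.{u}

/-- underlying sheaf of sets -/
noncomputable abbrev U : Sheaf J AddCommGrpCat.{u} ⥤ Sheaf J (Type u) :=
  sheafCompose J (forget AddCommGrpCat.{u})

lemma epi_U_map {A B : Sheaf J AddCommGrpCat.{u}} (g : A ⟶ B) [Epi g] : Epi ((U J).map g) := by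
  have : Sheaf.IsLocallySurjective g := (Sheaf.isLocallySurjective_iff_epi' _ g).2 inferInstance
  infer_instance

lemma exists_lift_counit (F : Sheaf J AddCommGrpCat.{u}) (hF : CechAcyc J F) :
    ∃ c₀ : (G J).obj ((U J).obj (NerveHom.embS F).X₃) ⟶ (NerveHom.embS F).X₂,
      c₀ ≫ (NerveHom.embS F).g = (TotAcyc.adj J).counit.app (NerveHom.embS F).X₃ := by
  have hS := NerveHom.embS_shortExact F
  have : Epi (NerveHom.embS F).g := hS.epi_g
  let f := (U J).map (NerveHom.embS F).g
  have : Epi f := epi_U_map J _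
  have hE : IsZero (((NerveHom.Cx (P J f)).obj (NerveHom.embS F).X₁).homology 1) := by
    rw [← cx_eq]
    exact hF _ _ f inferInstance 0
  let s' : (NerveHom.K (P J f)).X 0 ⟶ (NerveHom.embS F).X₂ :=
    (G J).map (WidePullback.π (fun _ : Fin (0 + 1) => (Arrow.mk f).hom) 0) ≫
      (TotAcyc.adj J).counit.app (NerveHom.embS F).X₂
  refine NerveHom.exists_lift_of_exactAt_one.{u} (P J f) (π J f) (NerveHom.embS F) hS hE
    ((TotAcyc.adj J).counit.app (NerveHom.embS F).X₃) s' ?_
  have h0 : NerveHom.ε₀ (P J f) (π J f) =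
      (G J).map (WidePullback.base (fun _ : Fin (0 + 1) => (Arrow.mk f).hom)) := by
    show (AlternatingFaceMapComplex.ε.app (XA J f)).f 0 = _
    rw [AlternatingFaceMapComplex.ε_app_f_zero]
    exact Category.comp_id _
  have hb : WidePullback.base (fun _ : Fin (0 + 1) => (Arrow.mk f).hom) =
      WidePullback.π (fun _ : Fin (0 + 1) => (Arrow.mk f).hom) 0 ≫ f :=
    (WidePullback.π_arrow _ 0).symm
  have e2 : (TotAcyc.adj J).counit.app (NerveHom.embS F).X₂ ≫ (NerveHom.embS F).g =
      (G J).map f ≫ (TotAcyc.adj J).counit.app (NerveHom.embS F).X₃ :=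
    ((TotAcyc.adj J).counit.naturality (NerveHom.embS F).g).symm
  have e3 : (G J).map (WidePullback.base (fun _ : Fin (0 + 1) => (Arrow.mk f).hom)) =
      (G J).map (WidePullback.π (fun _ : Fin (0 + 1) => (Arrow.mk f).hom) 0) ≫ (G J).map f :=
    (congrArg (G J).map hb).trans ((G J).map_comp _ _)
  refine Eq.trans ?_ (congrArg (· ≫ (TotAcyc.adj J).counit.app (NerveHom.embS F).X₃) h0.symm)
  refine Eq.trans ?_ (congrArg (· ≫ (TotAcyc.adj J).counit.app (NerveHom.embS F).X₃) e3.symm)
  refine (Category.assoc _ _ _).trans ?_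
  refine Eq.trans ?_ (Category.assoc _ _ _).symm
  exact congrArg ((G J).map (WidePullback.π (fun _ : Fin (0 + 1) => (Arrow.mk f).hom) 0) ≫ ·) e2


lemma ext_one_eq_zero (F : Sheaf J AddCommGrpCat.{u}) (hF : CechAcyc J F) (K : Sheaf J (Type u))
    (x : Abelian.Ext.{u} ((G J).obj K) F 1) : x = 0 := by
  have hS := NerveHom.embS_shortExact F
  obtain ⟨c₀, hc₀⟩ := exists_lift_counit J F hF
  refine SieveExt.ext_one_eq_zero (NerveHom.embS F) hS inferInstance ((G J).obj K) ?_ x
  intro b
  refine ⟨(G J).map ((TotAcyc.adj J).homEquiv K _ b) ≫ c₀, ?_⟩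
  rw [Category.assoc, hc₀, ← Adjunction.homEquiv_counit, Equiv.symm_apply_apply]

lemma cechAcyc_X₃ (F : Sheaf J AddCommGrpCat.{u}) (hF : CechAcyc J F) :
    CechAcyc J (NerveHom.embS F).X₃ := by
  intro K' K f hf q
  have hS := NerveHom.embS_shortExact F
  exact NerveHom.isZero_homology_X₃.{u} (P J f) (π J f) (NerveHom.embS F) hS
    (fun n x => ext_one_eq_zero J F hF _ x) q (hF K' K f hf (q + 1))

theorem ext_eq_zero : ∀ (n : ℕ) (F : Sheaf J AddCommGrpCat.{u}), CechAcyc J F →
    ∀ (K : Sheaf J (Type u)) (x : Abelian.Ext.{u} ((G J).obj K) F (n + 1)), x = 0 := by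
  intro n
  induction n with
  | zero => exact fun F hF K x => ext_one_eq_zero J F hF K x
  | succ n ih =>
    intro F hF K
    exact SieveExt.ext_succ_eq_zero (NerveHom.embS F) (NerveHom.embS_shortExact F) inferInstance
      ((G J).obj K) n (ih _ (cechAcyc_X₃ J F hF) K)

theorem isTotallyAcyclic_of_cechAcyc (F : Sheaf J AddCommGrpCat.{u}) (hF : CechAcyc J F) :
    CohCx.IsTotallyAcyclic F := by
  intro K p
  exact subsingleton_of_forall_eq (0 : Abelian.Ext.{u} ((G J).obj K) F (p + 1))
    (fun x => ext_eq_zero J p F hF K x)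

end NerveCx

end Groth.Agent.Lib.helper27
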