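import Mathlib
import Groth.Prelude.Def_EtCech
import Groth.Agent.Lib.Helper27.CechInjU
import Groth.Agent.Lib.Helper27.CechLeray
import Groth.Agent.Lib.Helper27.DeltaFPre
import Groth.Agent.Lib.Helper27.DeltaFRDer
import Groth.Agent.Lib.Helper27.Horseshoe5

set_option autoImplicit false
set_option linter.unusedVariables false
set_option linter.unusedSectionVars false

namespace Groth.Agent.Lib.helper27

open CategoryTheory Limits Opposite DeltaF

universe w v

namespace CechRDer

variable {C : Type w} [Category.{v} C] [LocallySmall.{w} C] {U : C} [HasFiniteProducts (Over U)]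
  {ι : Type w} (Uf : ι → Over U)

/-- abelian presheaves -/
abbrev PSh (C : Type w) [Category.{v} C] := Cᵒᵖ ⥤ AddCommGrpCat.{w}

/-- the Cech complex functor on presheaves -/
noncomputable abbrev cxF : PSh C ⥤ CochainComplex AddCommGrpCat.{w} ℕ :=
  (Functor.whiskeringLeft (Over U)ᵒᵖ Cᵒᵖ AddCommGrpCat.{w}).obj (Over.forget U).op ⋙
    cechComplexFunctor Uf

lemma cx_map_f {P Q : PSh C} (φ : P ⟶ Q) (n : ℕ) :
    ((cxF Uf).map φ).f n =
      (Limits.Pi.map fun a : Fin (n + 1) → ι => φ.app (op (∏ᶜ (Uf ∘ a)).left) :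
        (∏ᶜ fun a : Fin (n + 1) → ι => P.obj (op (∏ᶜ (Uf ∘ a)).left) : AddCommGrpCat.{w}) ⟶
          ∏ᶜ fun a : Fin (n + 1) → ι => Q.obj (op (∏ᶜ (Uf ∘ a)).left)) := rfl

instance : (cxF Uf).Additive where
  map_add {P Q φ ψ} := by
    apply HomologicalComplex.hom_ext
    intro n
    rw [HomologicalComplex.add_f_apply, cx_map_f, cx_map_f, cx_map_f]
    exact CechLeray.pi_map_add _ _ (fun a => φ.app (op (∏ᶜ (Uf ∘ a)).left))
      (fun a => ψ.app (op (∏ᶜ (Uf ∘ a)).left))

/-- the Cech complex functor is exact on presheaves -/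
lemma cx_shortExact (S : ShortComplex (PSh C)) (hS : S.ShortExact) :
    (S.map (cxF Uf)).ShortExact := by
  apply HomologicalComplex.shortExact_of_degreewise_shortExact
  intro n
  have hev : ∀ V : C, (S.map ((evaluation Cᵒᵖ AddCommGrpCat.{w}).obj (op V))).ShortExact :=
    fun V => hS.map_of_exact _
  exact CechLeray.prod_shortExact _ _ _
    (fun a : Fin (n + 1) → ι => S.f.app (op (∏ᶜ (Uf ∘ a)).left))
    (fun a : Fin (n + 1) → ι => S.g.app (op (∏ᶜ (Uf ∘ a)).left))
    (fun a => by rw [← NatTrans.comp_app, S.zero]; rfl) _ (fun a => hev _)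

/-- Cech cohomology as a cohomological delta-functor on presheaves -/
noncomputable def Tc : CohDeltaFunctor (PSh C) AddCommGrpCat.{w} ℕ where
  F p := EtCech.cechHFunctor Uf p
  additive p := inferInstanceAs ((cxF Uf ⋙ HomologicalComplex.homologyFunctor _ _ p).Additive)
  δ S hS n₀ n₁ h := (cx_shortExact Uf S hS).δ n₀ n₁ h
  δ_natural {S S'} hS hS' φ n₀ n₁ h :=
    (HomologicalComplex.HomologySequence.δ_naturality
      ((cxF Uf).mapShortComplex.map φ) (cx_shortExact Uf S hS)
      (cx_shortExact Uf S' hS') n₀ n₁ h).symm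
  exact₂ S hS n := (cx_shortExact Uf S hS).homology_exact₂ n
  comp_δ S hS n₀ n₁ h := (cx_shortExact Uf S hS).comp_δ n₀ n₁ h
  exact₃ S hS n₀ n₁ h := (cx_shortExact Uf S hS).homology_exact₃ n₀ n₁ h
  δ_comp S hS n₀ n₁ h := (cx_shortExact Uf S hS).δ_comp n₀ n₁ h
  exact₁ S hS n₀ n₁ h := (cx_shortExact Uf S hS).homology_exact₁ n₀ n₁ h

lemma Tc_isEffaceable : (Tc Uf).IsEffaceable := by
  intro n X
  refine ⟨CechU.R (fun V => X.obj (op V)), CechU.η X, inferInstance, ?_⟩
  have hex := CechU.exactAt_RO U Uf (fun V => X.obj (op V)) n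
  rw [HomologicalComplex.exactAt_iff_isZero_homology] at hex
  exact hex.eq_of_tgt _ _


section leftExact

lemma mono_pi_map {A : Type w} (X₁ X₂ : A → AddCommGrpCat.{w}) (f : ∀ a, X₁ a ⟶ X₂ a)
    (h : ∀ a, Mono (f a)) : Mono (Limits.Pi.map f) := by
  rw [AddCommGrpCat.mono_iff_injective]
  intro x y hxy
  apply CechLeray.prod_ext
  intro a
  apply (AddCommGrpCat.mono_iff_injective _).1 (h a)
  rw [← CechLeray.π_map_apply, ← CechLeray.π_map_apply, hxy]

lemma mono_homologyMap_zero {K L : CochainComplex AddCommGrpCat.{w} ℕ} (m : K ⟶ L)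
    (h0 : Mono (m.f 0)) : Mono (HomologicalComplex.homologyMap m 0) := by
  have h1 : Mono (HomologicalComplex.cyclesMap m 0) := by
    have : Mono (HomologicalComplex.cyclesMap m 0 ≫ L.iCycles 0) := by
      rw [HomologicalComplex.cyclesMap_i]
      exact mono_comp _ _
    exact mono_of_mono _ (L.iCycles 0)
  have h2 : Mono (K.homologyπ 0 ≫ HomologicalComplex.homologyMap m 0) := by
    rw [HomologicalComplex.homologyπ_naturality]
    exact mono_comp _ _
  have h3 : HomologicalComplex.homologyMap m 0 =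
      inv (K.homologyπ 0) ≫ (K.homologyπ 0 ≫ HomologicalComplex.homologyMap m 0) := by
    rw [IsIso.inv_hom_id_assoc]
  rw [h3]
  exact mono_comp _ _

instance preservesFiniteLimits_cechH0 : PreservesFiniteLimits (EtCech.cechHFunctor (C := C) Uf 0) := by
  have : (EtCech.cechHFunctor (C := C) Uf 0).Additive := (Tc Uf).additive 0
  refine ((Functor.preservesFiniteLimits_tfae (EtCech.cechHFunctor (C := C) Uf 0)).out 0 3).1 ?_
  intro S hS
  refine ⟨(Tc Uf).exact₂ S hS 0, ?_⟩
  have : Mono S.f := hS.mono_f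
  apply mono_homologyMap_zero ((cxF Uf).map S.f)
  rw [cx_map_f]
  apply mono_pi_map
  intro a
  exact (NatTrans.mono_iff_mono_app S.f).1 inferInstance _

end leftExact

/-- **Cech cohomology of presheaves is the right derived functor of `Ȟ^0`** -/
theorem cechH_iso_rightDerived [(EtCech.cechHFunctor (C := C) Uf 0).Additive]
    [HasInjectiveResolutions (PSh C)] (p : ℕ) :
    Nonempty (EtCech.cechHFunctor (C := C) Uf p ≅
      (EtCech.cechHFunctor (C := C) Uf 0).rightDerived p) := by
  have h1 := isUniversal_of_isEffaceable (Tc_isEffaceable Uf)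
  have h2 := isUniversal_of_isEffaceable (rder_isEffaceable (EtCech.cechHFunctor (C := C) Uf 0)
    (Horseshoe.derivedLES (EtCech.cechHFunctor (C := C) Uf 0)))
  exact DeltaFPre.natIso_of_isUniversal (Tc Uf) _ h1 h2
    ((EtCech.cechHFunctor (C := C) Uf 0).rightDerivedZeroIsoSelf).symm p

end CechRDer

end Groth.Agent.Lib.helper27
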