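import Mathlib
import Groth.Prelude.Def_EtCore
import Groth.Prelude.Def_EtLim
import Groth.Agent.Lib.Helper27.PullFunEt

set_option autoImplicit false
set_option linter.unusedSectionVars false

namespace Groth.Agent.Lib.helper27.HpullHmap

open CategoryTheory Limits Abelian Opposite AlgebraicGeometry
open Groth.Agent.Lib.helper27 Groth.Agent.Lib.helper27.PullFunEt

universe u

set_option backward.isDefEq.respectTransparency.types false

lemma pullConstIso_eq {X Y : Scheme.{u}} (f : X ⟶ Y) :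
    EtCore.pullConstIso f = pullCstIso f := by
  ext M : 3
  apply ((((cadj Y).comp (adj f)).ofNatIsoRight (pushΓIso f)).homEquiv _ _).injective
  rw [EtCore.pullConstIso, Adjunction.homEquiv_leftAdjointUniq_hom_app]
  rw [Adjunction.homEquiv_unit]
  have h1 := CategoryTheory.unit_conjugateEquiv_symm (cadj X) ((cadj Y).comp (adj f))
    (pushΓIso f).inv M
  have h2 := (pushΓIso f).hom.naturality ((pullCstIso f).hom.app M)
  rw [Adjunction.ofNatIsoRight_unit, NatTrans.comp_app, Functor.whiskerLeft_app]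
  rw [Category.assoc, ← h2]
  have h3 : (pullCstIso f).hom =
      (conjugateEquiv (cadj X) ((cadj Y).comp (adj f))).symm (pushΓIso f).inv := rfl
  rw [h3, ← Category.assoc, ← h1, Category.assoc, Iso.inv_hom_id_app]
  exact (Category.comp_id _).symm

lemma uZ_eq {X Y : Scheme.{u}} (f : X ⟶ Y) : (EtCore.pullConst f ℤ).inv = uZ f := by
  rw [uZ, ← pullConstIso_eq]
  rfl

lemma Hpull_apply {X Y : Scheme.{u}} (f : X ⟶ Y) [PreservesFiniteLimits (EtCoh.pull f)]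
    (G : EtCoh.Ab Y) (q : ℕ) (x : EtCoh.H Y G q) :
    EtCore.Hpull f G q x =
      (Ext.mk₀ (uZ f)).comp (x.mapExactFunctor (EtCoh.pull f)) (zero_add q) := by
  rw [← uZ_eq]
  rfl

lemma Hmap_eq {Y' Y : Scheme.{u}} (g : Y' ⟶ Y) {G : EtCoh.Ab Y} {G' : EtCoh.Ab Y'}
    (θ : G ⟶ (EtCoh.push g).obj G') (q : ℕ) (x : EtCoh.H Y G q) :
    Hmap g θ q x =
      (EtCore.Hpull g G q x).comp (Ext.mk₀ (((adj g).homEquiv _ _).symm θ)) (add_zero q) := by
  rw [Hpull_apply, Hmap, ExtPull.hmap_apply, Ext.mapExactFunctor_comp, Ext.mapExactFunctor_mk₀,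
    Ext.comp_assoc_of_third_deg_zero, Ext.mk₀_comp_mk₀, Ext.comp_assoc_of_third_deg_zero,
    Adjunction.homEquiv_counit]

lemma HF_map_apply {X : Scheme.{u}} {F G : EtCoh.Ab X} (φ : F ⟶ G) (q : ℕ) (x : EtCoh.H X F q) :
    ((EtCoh.HF X q).map φ).hom x = x.comp (Ext.mk₀ φ) (add_zero q) := rfl

lemma Hpull_eq_Hmap {X Y : Scheme.{u}} (f : X ⟶ Y) [PreservesFiniteLimits (EtCoh.pull f)]
    (G : EtCoh.Ab Y) (q : ℕ) (x : EtCoh.H Y G q) :
    EtCore.Hpull f G q x = Hmap f ((adj f).unit.app G) q x := by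
  rw [Hmap_eq]
  have : ((adj f).homEquiv _ _).symm ((adj f).unit.app G) = 𝟙 _ := by
    rw [Adjunction.homEquiv_counit]
    exact (adj f).left_triangle_components G
  rw [this, Ext.comp_mk₀_id]
  rfl

lemma HofPush_eq_Hmap {X Y : Scheme.{u}} (f : X ⟶ Y) [PreservesFiniteLimits (EtCoh.pull f)]
    (F : EtCoh.Ab X) (q : ℕ) (x : EtCoh.H Y ((EtCoh.push f).obj F) q) :
    EtLim.HofPush f F q x = Hmap f (𝟙 _) q x := by
  rw [Hmap_eq]
  have : ((adj f).homEquiv _ _).symm (𝟙 ((EtCoh.push f).obj F)) = (adj f).counit.app F := by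
    rw [Adjunction.homEquiv_counit]
    simp
  rw [this]
  rfl

/-- postcomposition -/
lemma Hmap_postcomp {Y' Y : Scheme.{u}} (g : Y' ⟶ Y) {G : EtCoh.Ab Y} {G' G'' : EtCoh.Ab Y'}
    (θ : G ⟶ (EtCoh.push g).obj G') (φ : G' ⟶ G'') (q : ℕ) (x : EtCoh.H Y G q) :
    (Hmap g θ q x).comp (Ext.mk₀ φ) (add_zero q) = Hmap g (θ ≫ (EtCoh.push g).map φ) q x := by
  rw [Hmap_eq, Hmap_eq, Ext.comp_assoc_of_third_deg_zero, Ext.mk₀_comp_mk₀]
  congr 2
  rw [Adjunction.homEquiv_counit, Adjunction.homEquiv_counit]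
  simp

/-- precomposition -/
lemma Hmap_precomp {Y' Y : Scheme.{u}} (g : Y' ⟶ Y) {G₀ G : EtCoh.Ab Y} {G' : EtCoh.Ab Y'}
    (ψ : G₀ ⟶ G) (θ : G ⟶ (EtCoh.push g).obj G') (q : ℕ) (x : EtCoh.H Y G₀ q) :
    Hmap g θ q (x.comp (Ext.mk₀ ψ) (add_zero q)) = Hmap g (ψ ≫ θ) q x := by
  rw [Hmap, Hmap, ExtPull.hmap_apply, ExtPull.hmap_apply, Ext.comp_assoc_of_third_deg_zero,
    Ext.mk₀_comp_mk₀]

/-- composition, for a commutative triangle -/
theorem Hmap_comp' {Y'' Y' Y : Scheme.{u}} (h : Y'' ⟶ Y') (g : Y' ⟶ Y) (a' : Y'' ⟶ Y)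
    (w : h ≫ g = a')
    {G : EtCoh.Ab Y} {G' : EtCoh.Ab Y'} {G'' : EtCoh.Ab Y''}
    (θ : G ⟶ (EtCoh.push g).obj G') (θ' : G' ⟶ (EtCoh.push h).obj G'') (q : ℕ)
    (x : EtCoh.H Y G q) :
    Hmap h θ' q (Hmap g θ q x) =
      Hmap a' ((θ ≫ (EtCoh.push g).map θ') ≫ (pushTri h g a' w).hom.app G'') q x := by
  subst w
  exact Hmap_comp h g θ θ' q x

lemma pushComp_eq {X Y Z : Scheme.{u}} (f : X ⟶ Y) (g : Z ⟶ X) :
    EtCoh.pushComp f g = pushCompIso g f := rfl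

lemma pullbackCongr_refl_hom_app {X Y : Scheme.{u}} (f : X ⟶ Y) (U : Y.Etale) :
    (MorphismProperty.Over.pullbackCongr (P := EtCoh.etaleMP) (Q := ⊤) (rfl : f = f)).hom.app U =
      𝟙 _ := by
  apply bc_hom_ext
  have := MorphismProperty.Over.pullbackCongr_hom_app_left_fst (P := EtCoh.etaleMP) (Q := ⊤)
    (rfl : f = f) U
  exact this.trans (Category.id_comp _).symm

lemma pullbackCongr_refl_inv_app {X Y : Scheme.{u}} (f : X ⟶ Y) (U : Y.Etale) :
    (MorphismProperty.Over.pullbackCongr (P := EtCoh.etaleMP) (Q := ⊤) (rfl : f = f)).inv.app U =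
      𝟙 _ := by
  rw [← cancel_epi ((MorphismProperty.Over.pullbackCongr (P := EtCoh.etaleMP) (Q := ⊤)
    (rfl : f = f)).hom.app U), Iso.hom_inv_id_app, pullbackCongr_refl_hom_app, Category.comp_id]

lemma pushCongr_refl_hom_app {X Y : Scheme.{u}} (f : X ⟶ Y) (M : EtCoh.Ab X) :
    (EtCoh.pushCongr (rfl : f = f)).hom.app M = 𝟙 _ := by
  ext U : 3
  simp [EtCoh.pushCongr]
  have h := pullbackCongr_refl_inv_app f U.unop
  exact (congrArg (fun k => M.obj.map k.op) h).trans (M.obj.map_id _)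

lemma pushComp_pushCongr {X' X Y : Scheme.{u}} (g' : X' ⟶ X) (f : X ⟶ Y) (k : X' ⟶ Y)
    (w : g' ≫ f = k) (M : EtCoh.Ab X') :
    (EtCoh.pushComp f g').hom.app M ≫ (EtCoh.pushCongr w).hom.app M =
      (pushTri g' f k w).hom.app M := by
  subst w
  rw [pushCongr_refl_hom_app, Category.comp_id]
  rfl

theorem main {X Y X' Y' : Scheme.{u}} (f : X ⟶ Y)
    (g : Y' ⟶ Y) (f' : X' ⟶ Y') (g' : X' ⟶ X) (w : g' ≫ f = f' ≫ g) (F : EtCoh.Ab X) (q : ℕ)
    [PreservesFiniteLimits (EtCoh.pull f)] [PreservesFiniteLimits (EtCoh.pull g)]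
    [PreservesFiniteLimits (EtCoh.pull f')] [PreservesFiniteLimits (EtCoh.pull g')]
    (ζ : EtCoh.H Y ((EtCoh.push f).obj F) q) :
    EtCore.Hpull g' F q (EtLim.HofPush f F q ζ) =
      EtLim.HofPush f' ((EtCoh.pull g').obj F) q
        (((EtCoh.HF Y' q).map (EtCoh.baseChange0 f g f' g' w F)).hom
          (EtCore.Hpull g ((EtCoh.push f).obj F) q ζ)) := by
  rw [Hpull_eq_Hmap, HofPush_eq_Hmap, HofPush_eq_Hmap, HF_map_apply, Hpull_eq_Hmap, Hmap_precomp,
    Hmap_comp' g' f (f' ≫ g) w, Hmap_comp' f' g (f' ≫ g) rfl]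
  congr 1
  simp only [Category.id_comp, Category.comp_id]
  have h1 : (adj g).unit.app ((EtCoh.push f).obj F) ≫
      (EtCoh.push g).map (EtCoh.baseChange0 f g f' g' w F) =
      (EtCoh.push f).map ((adj g').unit.app F) ≫ (EtCoh.pushComp f g').hom.app _ ≫
        (EtCoh.pushCongr w).hom.app _ ≫ (EtCoh.pushComp g f').inv.app _ := by
    have := ((adj g).homEquiv _ _).apply_symm_apply ((EtCoh.push f).map ((adj g').unit.app F) ≫
      (EtCoh.pushComp f g').hom.app _ ≫ (EtCoh.pushCongr w).hom.app _ ≫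
        (EtCoh.pushComp g f').inv.app _)
    rw [Adjunction.homEquiv_unit] at this
    exact this
  rw [h1]
  congr 1
  have h2 : (EtCoh.pushComp g f').inv.app ((EtCoh.pull g').obj F) ≫
      (pushTri f' g (f' ≫ g) rfl).hom.app ((EtCoh.pull g').obj F) = 𝟙 _ :=
    Iso.inv_hom_id_app (pushCompIso f' g) _
  simp only [Category.assoc]
  rw [h2, Category.comp_id, pushComp_pushCongr g' f (f' ≫ g) w]

end Groth.Agent.Lib.helper27.HpullHmap
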