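import Mathlib
import Groth.Prelude.Def_EtCore
import Groth.Prelude.Def_EtAcyc
import Groth.Agent.Lib.Helper27.HpullHmap
import Groth.Agent.Lib.Helper1.EtStalkPull
import Groth.Agent.S8525

set_option autoImplicit false
set_option linter.unusedSectionVars false

namespace Groth.Agent.Lib.helper27.AcycComp

open CategoryTheory Limits Abelian Opposite AlgebraicGeometry
open Groth.Agent.Lib.helper27 Groth.Agent.Lib.helper27.PullFunEt
  Groth.Agent.Lib.helper27.HpullHmap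

universe u

set_option backward.isDefEq.respectTransparency.types false

/-- postcomposition with an isomorphism is bijective on cohomology -/
lemma bijective_comp_mk₀_iso {X : Scheme.{u}} {G G' : EtCoh.Ab X} (e : G ≅ G') (q : ℕ) :
    Function.Bijective (fun x : EtCoh.H X G q => x.comp (Ext.mk₀ e.hom) (add_zero q)) := by
  refine Function.bijective_iff_has_inverse.2
    ⟨fun y => y.comp (Ext.mk₀ e.inv) (add_zero q), fun x => ?_, fun y => ?_⟩
  · simp [Ext.mk₀_comp_mk₀]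
  · simp [Ext.mk₀_comp_mk₀]

lemma Hpull_id_comp {Y : Scheme.{u}} (G : EtCoh.Ab Y) (q : ℕ) (x : EtCoh.H Y G q) :
    (EtCore.Hpull (𝟙 Y) G q x).comp (Ext.mk₀ ((pullIdIso Y).hom.app G)) (add_zero q) = x := by
  have h1 := CategoryTheory.unit_conjugateEquiv (Adjunction.id (C := EtCoh.Ab Y)) (adj (𝟙 Y))
    (pullIdIso Y).hom G
  rw [pullIdIso, Adjunction.conjugateEquiv_leftAdjointIdIso_hom] at h1
  have h2 := Hmap_id (𝟙 G) q x
  rw [Ext.comp_mk₀_id] at h2
  rw [Hpull_eq_Hmap, Hmap_postcomp]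
  simp only [Adjunction.id_unit, NatTrans.id_app, Functor.id_obj] at h1
  erw [Category.id_comp] at h1
  rw [Category.id_comp] at h2
  have h3 : (adj (𝟙 Y)).unit.app G ≫ (EtCoh.push (𝟙 Y)).map ((pullIdIso Y).hom.app G) =
      (pushIdIso Y).inv.app G := h1.symm
  erw [h3]
  exact h2

lemma Hpull_id_bijective {Y : Scheme.{u}} (G : EtCoh.Ab Y) (q : ℕ) :
    Function.Bijective (EtCore.Hpull (𝟙 Y) G q) := by
  have h1 := bijective_comp_mk₀_iso ((pullIdIso Y).app G) q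
  have h2 : (fun x : EtCoh.H Y ((EtCoh.pull (𝟙 Y)).obj G) q =>
      x.comp (Ext.mk₀ ((pullIdIso Y).app G).hom) (add_zero q)) ∘ (EtCore.Hpull (𝟙 Y) G q) = id := by
    funext x
    exact Hpull_id_comp G q x
  have h3 : Function.Bijective ((fun x : EtCoh.H Y ((EtCoh.pull (𝟙 Y)).obj G) q =>
      x.comp (Ext.mk₀ ((pullIdIso Y).app G).hom) (add_zero q)) ∘ (EtCore.Hpull (𝟙 Y) G q)) := by
    rw [h2]; exact Function.bijective_id
  exact (Function.Bijective.of_comp_iff' h1 _).1 h3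

lemma Hpull_comp {X W V : Scheme.{u}} (a : X ⟶ W) (b : W ⟶ V) (c : X ⟶ V) (w : a ≫ b = c)
    (F : EtCoh.Ab V) (q : ℕ) :
    ∃ e : (EtCoh.pull c).obj F ≅ (EtCoh.pull a).obj ((EtCoh.pull b).obj F),
      ∀ x : EtCoh.H V F q, EtCore.Hpull a ((EtCoh.pull b).obj F) q (EtCore.Hpull b F q x) =
        (EtCore.Hpull c F q x).comp (Ext.mk₀ e.hom) (add_zero q) := by
  subst w
  refine ⟨((pullCompIso a b).app F).symm, fun x => ?_⟩
  rw [Hpull_eq_Hmap, Hpull_eq_Hmap, Hpull_eq_Hmap, Hmap_postcomp, Hmap_comp]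
  congr 2
  have h1 := CategoryTheory.unit_conjugateEquiv ((adj b).comp (adj a)) (adj (a ≫ b))
    (pullCompIso a b).inv F
  rw [pullCompIso, Adjunction.conjugateEquiv_leftAdjointCompIso_inv, Adjunction.comp_unit_app] at h1
  exact h1

lemma isLTorsion_pull {X Y : Scheme.{u}} (f : X ⟶ Y) (L : Set ℕ) (F : EtCoh.Ab Y)
    (hF : EtAcyc.IsLTorsion L F) : EtAcyc.IsLTorsion L ((EtCoh.pull f).obj F) := by
  rw [Groth.Agent.S8525.result] at hF ⊢
  intro Ω _ _ ξ t
  let e := (Groth.Agent.H1.EtStalkPull.stalkPullIso f ξ).app F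
  obtain ⟨m, hm, h⟩ := hF Ω (ξ ≫ f) (e.hom t)
  refine ⟨m, hm, ?_⟩
  have h1 : e.hom (m • t) = 0 := by rw [map_nsmul]; exact h
  have h2 : e.inv (e.hom (m • t)) = m • t := by
    rw [← ConcreteCategory.comp_apply, e.hom_inv_id]; rfl
  rw [← h2, h1, map_zero]

lemma Hpull_comp_bijective {W V : Scheme.{u}} (a : V ⟶ W) (b : W ⟶ V) (w : a ≫ b = 𝟙 V)
    (F : EtCoh.Ab V) (q : ℕ) :
    Function.Bijective
      ((EtCore.Hpull a ((EtCoh.pull b).obj F) q) ∘ (EtCore.Hpull b F q)) := by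
  obtain ⟨e, he⟩ := Hpull_comp a b (𝟙 V) w F q
  have h : ((EtCore.Hpull a ((EtCoh.pull b).obj F) q) ∘ (EtCore.Hpull b F q) : _ → _) =
      (fun x => x.comp (Ext.mk₀ e.hom) (add_zero q)) ∘ (EtCore.Hpull (𝟙 V) F q) := by
    funext x; exact he x
  rw [h]
  exact (bijective_comp_mk₀_iso e q).comp (Hpull_id_bijective F q)

lemma Hpull_injective_of_iso {X₁ X₂ : Scheme.{u}} (i : X₁ ≅ X₂) (G : EtCoh.Ab X₂) (q : ℕ) :
    Function.Injective (EtCore.Hpull i.hom G q) :=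
  Function.Injective.of_comp (Hpull_comp_bijective i.inv i.hom i.inv_hom_id G q).1

lemma Hpull_bijective_of_iso {X₁ X₂ : Scheme.{u}} (i : X₁ ≅ X₂) (G : EtCoh.Ab X₂) (q : ℕ) :
    Function.Bijective (EtCore.Hpull i.hom G q) := by
  refine ⟨Hpull_injective_of_iso i G q, ?_⟩
  have h1 := Hpull_comp_bijective i.inv i.hom i.inv_hom_id G q
  have h2 := Hpull_injective_of_iso i.symm ((EtCoh.pull i.hom).obj G) q
  intro y
  obtain ⟨x, hx⟩ := h1.2 (EtCore.Hpull i.inv ((EtCoh.pull i.hom).obj G) q y)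
  exact ⟨x, h2 hx⟩

lemma compN_of_iso {X₁ X₂ : Scheme.{u}} (i : X₁ ≅ X₂) (L : Set ℕ) (n : ℕ) :
    EtAcyc.CompN i.hom L n := by
  intro F _ _
  exact ⟨fun q _ => Hpull_bijective_of_iso i F q, (Hpull_bijective_of_iso i F (n + 1)).1⟩

lemma compN_comp {X W V : Scheme.{u}} (a : X ⟶ W) (b : W ⟶ V) (c : X ⟶ V) (w : a ≫ b = c)
    (L : Set ℕ) (n : ℕ) (ha : EtAcyc.CompN a L n) :
    EtAcyc.CompN b L n ↔ EtAcyc.CompN c L n := by
  have key : ∀ (F : EtCoh.Ab V) (q : ℕ), ∃ φ : EtCoh.H X ((EtCoh.pull c).obj F) q →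
      EtCoh.H X ((EtCoh.pull a).obj ((EtCoh.pull b).obj F)) q, Function.Bijective φ ∧
      (EtCore.Hpull a ((EtCoh.pull b).obj F) q) ∘ (EtCore.Hpull b F q) =
        φ ∘ (EtCore.Hpull c F q) := by
    intro F q
    obtain ⟨e, he⟩ := Hpull_comp a b c w F q
    exact ⟨_, bijective_comp_mk₀_iso e q, funext he⟩
  constructor
  · intro hb F hF _
    have hbF := hb F hF
    have haF := ha ((EtCoh.pull b).obj F) (isLTorsion_pull b L F hF)
    constructor
    · intro q hq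
      obtain ⟨φ, hφ, h⟩ := key F q
      have h1 : Function.Bijective (φ ∘ (EtCore.Hpull c F q)) := by
        rw [← h]; exact (haF.1 q hq).comp (hbF.1 q hq)
      exact (Function.Bijective.of_comp_iff' hφ _).1 h1
    · obtain ⟨φ, hφ, h⟩ := key F (n + 1)
      have h1 : Function.Injective (φ ∘ (EtCore.Hpull c F (n + 1))) := by
        rw [← h]; exact haF.2.comp hbF.2
      exact Function.Injective.of_comp h1
  · intro hc F hF _
    have hcF := hc F hF
    have haF := ha ((EtCoh.pull b).obj F) (isLTorsion_pull b L F hF)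
    constructor
    · intro q hq
      obtain ⟨φ, hφ, h⟩ := key F q
      have h1 : Function.Bijective
          ((EtCore.Hpull a ((EtCoh.pull b).obj F) q) ∘ (EtCore.Hpull b F q)) := by
        rw [h]; exact hφ.comp (hcF.1 q hq)
      exact (Function.Bijective.of_comp_iff' (haF.1 q hq) _).1 h1
    · obtain ⟨φ, hφ, h⟩ := key F (n + 1)
      have h1 : Function.Injective
          ((EtCore.Hpull a ((EtCoh.pull b).obj F) (n + 1)) ∘ (EtCore.Hpull b F (n + 1))) := by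
        rw [h]; exact hφ.1.comp hcF.2
      exact Function.Injective.of_comp h1

section Geom

variable {X Y Z : Scheme.{u}} (g : X ⟶ Y) (h : Y ⟶ Z) (V : Z.Etale)

/-- the base change of `V` to `Y` -/
noncomputable abbrev W : Y.Etale := (EtCoh.bc h).obj V

/-- `X ×_Y (Y ×_Z V) ≅ X ×_Z V` -/
noncomputable def ι : pullback (W h V).hom g ≅ pullback V.hom (g ≫ h) :=
  pullbackLeftPullbackSndIso V.hom h g

lemma ι_inv_prj : (ι g h V).inv ≫ (EtAcyc.prj g (W h V) ≫ EtAcyc.prj h V) =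
    EtAcyc.prj (g ≫ h) V := by
  rw [Iso.inv_comp_eq]
  exact (pullbackLeftPullbackSndIso_hom_fst V.hom h g).symm

end Geom

theorem isAcyclicN_comp_iff {X Y Z : Scheme.{u}} (g : X ⟶ Y) (h : Y ⟶ Z) (L : Set ℕ) (n : ℕ)
    (hg : EtAcyc.IsAcyclicN g L n) :
    EtAcyc.IsAcyclicN h L n ↔ EtAcyc.IsAcyclicN (g ≫ h) L n := by
  have key : ∀ V : Z.Etale, EtAcyc.CompN (EtAcyc.prj h V) L n ↔
      EtAcyc.CompN (EtAcyc.prj (g ≫ h) V) L n := by
    intro V
    exact (compN_comp (EtAcyc.prj g (W h V)) (EtAcyc.prj h V) _ rfl L n (hg (W h V))).trans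
      (compN_comp (ι g h V).inv _ _ (ι_inv_prj g h V) L n (compN_of_iso (ι g h V).symm L n))
  exact ⟨fun H V => (key V).1 (H V), fun H V => (key V).2 (H V)⟩

section Abstract

variable {C D E : Type*} [Category C] [Category D] [Category E]

/-- the unit of an adjunction is invertible at `F` iff the unit of another adjunction with
isomorphic right adjoint is -/
lemma isIso_unit_iff_of_iso {L : C ⥤ D} {R : D ⥤ C} (adj : L ⊣ R) {L' : C ⥤ D} {R' : D ⥤ C}
    (adj' : L' ⊣ R') (e : R ≅ R') (F : C) :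
    IsIso (adj.unit.app F) ↔ IsIso (adj'.unit.app F) := by
  let τ : L' ≅ L := (conjugateIsoEquiv adj adj').symm e
  have h1 := CategoryTheory.unit_conjugateEquiv adj adj' τ.hom F
  have h2 : conjugateEquiv adj adj' τ.hom = e.hom := by
    simp [τ]
  rw [h2] at h1
  constructor
  · intro h
    have : IsIso (adj'.unit.app F ≫ R'.map (τ.hom.app F)) := by rw [← h1]; infer_instance
    exact IsIso.of_isIso_comp_right _ (R'.map (τ.hom.app F))
  · intro h
    have : IsIso (adj.unit.app F ≫ e.hom.app (L.obj F)) := by rw [h1]; infer_instance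
    exact IsIso.of_isIso_comp_right _ (e.hom.app (L.obj F))

lemma isIso_unit_comp_iff {L₁ : C ⥤ D} {R₁ : D ⥤ C} (adj₁ : L₁ ⊣ R₁) {L₂ : D ⥤ E} {R₂ : E ⥤ D}
    (adj₂ : L₂ ⊣ R₂) {L₃ : C ⥤ E} {R₃ : E ⥤ C} (adj₃ : L₃ ⊣ R₃) (e : R₂ ⋙ R₁ ≅ R₃) (F : C)
    (h2 : IsIso (adj₂.unit.app (L₁.obj F))) :
    IsIso (adj₃.unit.app F) ↔ IsIso (adj₁.unit.app F) := by
  rw [← isIso_unit_iff_of_iso (adj₁.comp adj₂) adj₃ e F, Adjunction.comp_unit_app]
  constructor
  · intro h
    exact IsIso.of_isIso_comp_right _ (R₁.map (adj₂.unit.app (L₁.obj F)))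
  · intro h
    infer_instance

end Abstract

section Sets

open EtDesc

/-- `a_* ⋙ b_* ≅ c_*` for sheaves of sets -/
noncomputable def pushTriSh {X W V : Scheme.{u}} (a : X ⟶ W) (b : W ⟶ V) (c : X ⟶ V)
    (w : a ≫ b = c) : pushSh a ⋙ pushSh b ≅ pushSh c :=
  Functor.sheafPushforwardContinuousComp' (bcTri a b c w) (Type (u + 1))
    V.smallEtaleTopology W.smallEtaleTopology X.smallEtaleTopology

/-- `(𝟙 X)_* ≅ 𝟭` for sheaves of sets -/
noncomputable def pushIdSh (X : Scheme.{u}) : pushSh (𝟙 X) ≅ 𝟭 (Sh X) :=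
  Functor.sheafPushforwardContinuousId' (bcId X) (Type (u + 1)) X.smallEtaleTopology

lemma isIso_unit_id (X : Scheme.{u}) (F : Sh X) : IsIso ((adjSh (𝟙 X)).unit.app F) := by
  rw [isIso_unit_iff_of_iso (adjSh (𝟙 X)) Adjunction.id (pushIdSh X) F]
  simp only [Adjunction.id_unit, NatTrans.id_app]
  infer_instance

lemma isIso_unit_comp_of_id {W V : Scheme.{u}} (a : V ⟶ W) (b : W ⟶ V) (w : a ≫ b = 𝟙 V)
    (F : Sh V) :
    IsIso ((adjSh b).unit.app F ≫ (pushSh b).map ((adjSh a).unit.app ((pullSh b).obj F))) := by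
  have := (isIso_unit_iff_of_iso ((adjSh b).comp (adjSh a)) (adjSh (𝟙 V))
    (pushTriSh a b (𝟙 V) w) F).2 (isIso_unit_id V F)
  rwa [Adjunction.comp_unit_app] at this

lemma isIso_unit_of_iso {X₁ X₂ : Scheme.{u}} (i : X₁ ≅ X₂) (F : Sh X₂) :
    IsIso ((adjSh i.hom).unit.app F) := by
  have h1 := isIso_unit_comp_of_id i.inv i.hom i.inv_hom_id F
  have h2 := isIso_unit_comp_of_id i.hom i.inv i.hom_inv_id ((pullSh i.hom).obj F)
  set f := (adjSh i.hom).unit.app F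
  set u := (adjSh i.inv).unit.app ((pullSh i.hom).obj F)
  set v := (pushSh i.inv).map ((adjSh i.hom).unit.app ((pullSh i.inv).obj ((pullSh i.hom).obj F)))
  have hu : IsSplitMono u := ⟨⟨⟨v ≫ inv (u ≫ v), by
    rw [← Category.assoc, IsIso.hom_inv_id]⟩⟩⟩
  have hg : IsSplitMono ((pushSh i.hom).map u) := inferInstance
  have hg' : Epi ((pushSh i.hom).map u) := epi_of_epi f _
  have : IsIso ((pushSh i.hom).map u) := isIso_of_epi_of_isSplitMono _
  exact IsIso.of_isIso_comp_right f ((pushSh i.hom).map u)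

theorem isZeroAcyclic_comp_iff {X Y Z : Scheme.{u}} (g : X ⟶ Y) (h : Y ⟶ Z)
    (hg : EtAcyc.IsZeroAcyclic g) :
    EtAcyc.IsZeroAcyclic h ↔ EtAcyc.IsZeroAcyclic (g ≫ h) := by
  have key : ∀ (V : Z.Etale) (F : Sh V.left),
      IsIso ((adjSh (EtAcyc.prj h V)).unit.app F) ↔
        IsIso ((adjSh (EtAcyc.prj (g ≫ h) V)).unit.app F) := by
    intro V F
    have h1 := isIso_unit_comp_iff (adjSh (EtAcyc.prj h V)) (adjSh (EtAcyc.prj g (W h V)))
      (adjSh (EtAcyc.prj g (W h V) ≫ EtAcyc.prj h V)) (pushTriSh _ _ _ rfl) F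
      (hg (W h V) ((pullSh (EtAcyc.prj h V)).obj F))
    have h2 := isIso_unit_comp_iff (adjSh (EtAcyc.prj g (W h V) ≫ EtAcyc.prj h V))
      (adjSh (ι g h V).inv) (adjSh (EtAcyc.prj (g ≫ h) V)) (pushTriSh _ _ _ (ι_inv_prj g h V)) F
      (isIso_unit_of_iso (ι g h V).symm _)
    exact (h2.trans h1).symm
  exact ⟨fun H V F => (key V F).1 (H V F), fun H V F => (key V F).2 (H V F)⟩

end Sets

end Groth.Agent.Lib.helper27.AcycComp
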