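import Mathlib

/-!
# Brown representability (bis) for triangulated categories with coproducts

helper27's library: the core of the proof of Brown representability following the Stacks project
(`brown_thmA`, `brown_thmB`), plus the lemma that coproducts of distinguished triangles are
distinguished (`sigma_distTriang`).
-/

set_option linter.unusedSectionVars false

namespace Groth.Agent.Lib.helper27

open CategoryTheory Limits Pretriangulated Opposite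
open CategoryTheory.Pretriangulated.Opposite

universe v u

section ev

variable {D : Type u} [Category.{v} D] (H : Dᵒᵖ ⥤ AddCommGrpCat.{v})

/-- pull back an element of `H(Z)` along `f : Y ⟶ Z`. -/
def bev {Y Z : D} (f : Y ⟶ Z) (x : H.obj (op Z)) : H.obj (op Y) := (H.map f.op) x

lemma bev_comp {W Y Z : D} (f : W ⟶ Y) (g : Y ⟶ Z) (x : H.obj (op Z)) :
    bev H (f ≫ g) x = bev H f (bev H g x) := by
  simp [bev]

lemma bev_id {Y : D} (x : H.obj (op Y)) : bev H (𝟙 Y) x = x := by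
  simp [bev]

lemma bev_add {Y Z : D} (f : Y ⟶ Z) (x y : H.obj (op Z)) :
    bev H f (x + y) = bev H f x + bev H f y := by
  simp [bev]

lemma bev_zero {Y Z : D} (f : Y ⟶ Z) : bev H f (0 : H.obj (op Z)) = 0 := by
  simp [bev]

variable [Preadditive D] [H.Additive]

lemma bev_add_hom {Y Z : D} (f g : Y ⟶ Z) (x : H.obj (op Z)) :
    bev H (f + g) x = bev H f x + bev H g x := by
  simp [bev, Functor.map_add]

lemma bev_zero_hom {Y Z : D} (x : H.obj (op Z)) : bev H (0 : Y ⟶ Z) x = 0 := by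
  simp [bev]

lemma bev_sub_hom {Y Z : D} (f g : Y ⟶ Z) (x : H.obj (op Z)) :
    bev H (f - g) x = bev H f x - bev H g x := by
  simp [bev, Functor.map_sub]

lemma bev_neg_hom {Y Z : D} (f : Y ⟶ Z) (x : H.obj (op Z)) :
    bev H (-f) x = - bev H f x := by
  simp [bev, Functor.map_neg]

end ev

section constSeq

variable {D : Type u} [Category.{v} D] [Preadditive D] (Z : D) [HasCoproduct (fun _ : ℕ => Z)]

/-- the shift map on a constant sequence -/
noncomputable def constShift : (∐ fun _ : ℕ => Z) ⟶ ∐ fun _ : ℕ => Z :=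
  Limits.Sigma.desc (fun n => Sigma.ι (fun _ : ℕ => Z) (n + 1))

lemma ι_constShift (n : ℕ) :
    Sigma.ι (fun _ : ℕ => Z) n ≫ constShift Z = Sigma.ι (fun _ : ℕ => Z) (n + 1) := by
  simp [constShift]

lemma constShift_splitMono :
    ∃ r : (∐ fun _ : ℕ => Z) ⟶ ∐ fun _ : ℕ => Z, (𝟙 _ - constShift Z) ≫ r = 𝟙 _ := by
  refine ⟨Limits.Sigma.desc (fun k => - ∑ n ∈ Finset.range k, Sigma.ι (fun _ : ℕ => Z) n), ?_⟩
  refine Sigma.hom_ext _ _ (fun m => ?_)
  rw [Preadditive.sub_comp, Preadditive.comp_sub, Category.id_comp, Category.comp_id,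
    ← Category.assoc, ι_constShift, Sigma.ι_desc, Sigma.ι_desc, Finset.sum_range_succ]
  abel

end constSeq

section prod

variable {D : Type u} [Category.{v} D] (H : Dᵒᵖ ⥤ AddCommGrpCat.{v})

lemma bev_ext_of_isColimit {κ : Type v} [PreservesLimitsOfShape (Discrete κ) H] {Y : κ → D}
    (c : Cofan Y) (hc : IsColimit c) (x y : H.obj (op c.pt))
    (h : ∀ k, bev H (c.inj k) x = bev H (c.inj k) y) : x = y := by
  have hl : IsLimit (H.mapCone c.op) := isLimitOfPreserves H (Cofan.IsColimit.op hc)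
  have hl' := isLimitOfPreserves (forget AddCommGrpCat.{v}) hl
  apply (Types.isLimitEquivSections hl').injective
  ext ⟨k⟩
  exact h k

lemma bev_exists_of_isColimit {κ : Type v} [PreservesLimitsOfShape (Discrete κ) H] {Y : κ → D}
    (c : Cofan Y) (hc : IsColimit c) (z : ∀ k, H.obj (op (Y k))) :
    ∃ x : H.obj (op c.pt), ∀ k, bev H (c.inj k) x = z k := by
  have hl : IsLimit (H.mapCone c.op) := isLimitOfPreserves H (Cofan.IsColimit.op hc)
  have hl' := isLimitOfPreserves (forget AddCommGrpCat.{v}) hl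
  refine ⟨(Types.isLimitEquivSections hl').symm ⟨fun k => z k.as, ?_⟩, fun k => ?_⟩
  · rintro ⟨j⟩ ⟨j'⟩ f
    obtain rfl : j = j' := Discrete.eq_of_hom f
    obtain rfl : f = 𝟙 _ := Subsingleton.elim _ _
    simp
  · exact Types.isLimitEquivSections_symm_apply hl' _ ⟨k⟩

/-- reindex a colimit cofan over `ℕ` to `ULift ℕ`. -/
def cofanULift {Y : ℕ → D} (c : Cofan Y) : Cofan (fun k : ULift.{v} ℕ => Y k.down) :=
  Cofan.mk c.pt (fun k => c.inj k.down)

def isColimitCofanULift {Y : ℕ → D} (c : Cofan Y) (hc : IsColimit c) :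
    IsColimit (cofanULift.{v} c) :=
  Cofan.IsColimit.mk _ (fun s => Cofan.IsColimit.desc hc (fun n => s.inj ⟨n⟩))
    (fun s j => by
      simp [cofanULift])
    (fun s m hm => by
      refine Cofan.IsColimit.hom_ext hc _ _ (fun n => ?_)
      have := hm ⟨n⟩
      rw [Cofan.IsColimit.fac]
      exact this)

variable [∀ κ : Type v, PreservesLimitsOfShape (Discrete κ) H]

lemma bev_ext_nat {Y : ℕ → D}
    (c : Cofan Y) (hc : IsColimit c) (x y : H.obj (op c.pt))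
    (h : ∀ k, bev H (c.inj k) x = bev H (c.inj k) y) : x = y :=
  bev_ext_of_isColimit H (cofanULift.{v} c) (isColimitCofanULift c hc) x y (fun k => h k.down)

lemma bev_exists_nat {Y : ℕ → D}
    (c : Cofan Y) (hc : IsColimit c) (z : ∀ k, H.obj (op (Y k))) :
    ∃ x : H.obj (op c.pt), ∀ k, bev H (c.inj k) x = z k := by
  obtain ⟨x, hx⟩ := bev_exists_of_isColimit H (cofanULift.{v} c) (isColimitCofanULift c hc)
    (fun k => z k.down)
  exact ⟨x, fun k => hx ⟨k⟩⟩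

end prod

section exact

variable {D : Type u} [Category.{v} D] [Preadditive D] [HasZeroObject D] [HasShift D ℤ]
  [∀ n : ℤ, (shiftFunctor D n).Additive] [Pretriangulated D]
  (H : Dᵒᵖ ⥤ AddCommGrpCat.{v}) [H.IsHomological]

lemma bev_exact (T : Triangle D) (hT : T ∈ distTriang D) (x : H.obj (op T.obj₂))
    (hx : bev H T.mor₁ x = 0) : ∃ z : H.obj (op T.obj₃), bev H T.mor₂ z = x := by
  have h := H.map_distinguished_op_exact T hT
  rw [ShortComplex.ab_exact_iff] at h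
  exact h x hx

lemma bev_exact' {A B C : D} (f : A ⟶ B) (g : B ⟶ C) (h : C ⟶ A⟦(1 : ℤ)⟧)
    (hT : Triangle.mk f g h ∈ distTriang D) (x : H.obj (op B))
    (hx : bev H f x = 0) : ∃ z : H.obj (op C), bev H g z = x :=
  bev_exact H _ hT x hx

instance : H.Additive := inferInstance

end exact

section sigmaTriangle

variable {D : Type u} [Category.{v} D] [Preadditive D] [HasZeroObject D] [HasShift D ℤ]
  [∀ n : ℤ, (shiftFunctor D n).Additive] [Pretriangulated D]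

/-- morphisms out of the shift of a coproduct are determined by components -/
lemma shift_sigma_hom_ext {J : Type*} (Y : J → D) [HasCoproduct Y] {A : D}
    (f g : (∐ Y)⟦(1 : ℤ)⟧ ⟶ A)
    (h : ∀ j, (Sigma.ι Y j)⟦(1 : ℤ)⟧' ≫ f = (Sigma.ι Y j)⟦(1 : ℤ)⟧' ≫ g) : f = g := by
  have hc := isColimitOfPreserves (shiftFunctor D (1 : ℤ)) (coproductIsCoproduct Y)
  refine hc.hom_ext (fun ⟨j⟩ => ?_)
  exact h j

lemma shift_sigma_desc {J : Type*} (Y : J → D) [HasCoproduct Y] {A : D}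
    (b : ∀ j, (Y j)⟦(1 : ℤ)⟧ ⟶ A) :
    ∃ f : (∐ Y)⟦(1 : ℤ)⟧ ⟶ A, ∀ j, (Sigma.ι Y j)⟦(1 : ℤ)⟧' ≫ f = b j := by
  have hc := isColimitOfPreserves (shiftFunctor D (1 : ℤ)) (coproductIsCoproduct Y)
  refine ⟨hc.desc (Cocone.mk A (Discrete.natTrans (fun ⟨j⟩ => b j))), fun j => ?_⟩
  exact hc.fac _ ⟨j⟩

end sigmaTriangle

section sigmaTriangle2

variable {D : Type u} [Category.{v} D] [Preadditive D] [HasZeroObject D] [HasShift D ℤ]
  [∀ n : ℤ, (shiftFunctor D n).Additive] [Pretriangulated D]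

lemma yoneda_exact₁' {A B C : D} (f : A ⟶ B) (g : B ⟶ C) (h : C ⟶ A⟦(1 : ℤ)⟧)
    (hT : Triangle.mk f g h ∈ distTriang D) {W : D} (u : A⟦(1 : ℤ)⟧ ⟶ W) (hu : h ≫ u = 0) :
    ∃ α : B⟦(1 : ℤ)⟧ ⟶ W, u = f⟦(1 : ℤ)⟧' ≫ α := by
  obtain ⟨α, hα⟩ : ∃ α : B⟦(1 : ℤ)⟧ ⟶ W, u = (-(f⟦(1 : ℤ)⟧')) ≫ α :=
    Triangle.yoneda_exact₂ _ (rot_of_distTriang _ (rot_of_distTriang _ hT)) u hu
  refine ⟨-α, ?_⟩
  rw [hα, Preadditive.neg_comp, Preadditive.comp_neg]

lemma sigma_distTriang {J : Type*} (A B C : J → D) (f : ∀ j, A j ⟶ B j) (g : ∀ j, B j ⟶ C j)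
    (h : ∀ j, C j ⟶ (A j)⟦(1 : ℤ)⟧)
    (hT : ∀ j, Triangle.mk (f j) (g j) (h j) ∈ distTriang D)
    [HasCoproduct A] [HasCoproduct B] [HasCoproduct C] :
    Triangle.mk (Limits.Sigma.map f) (Limits.Sigma.map g)
      (Sigma.desc (fun j => h j ≫ (Sigma.ι A j)⟦(1 : ℤ)⟧')) ∈ distTriang D := by
  obtain ⟨Z, f₂, f₃, hT'⟩ := distinguished_cocone_triangle (Limits.Sigma.map f)
  have hφ : ∀ j, ∃ c : C j ⟶ Z, g j ≫ c = Sigma.ι B j ≫ f₂ ∧
      h j ≫ (Sigma.ι A j)⟦(1 : ℤ)⟧' = c ≫ f₃ := fun j =>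
    complete_distinguished_triangle_morphism _ _ (hT j) hT' (Sigma.ι A j) (Sigma.ι B j) (by exact (Sigma.ι_map f j).symm)
  choose c hc₁ hc₂ using hφ
  let ψ : ∐ C ⟶ Z := Sigma.desc c
  have hψ : ∀ j, Sigma.ι C j ≫ ψ = c j := fun j => by simp [ψ]
  have h₁ : Limits.Sigma.map g ≫ ψ = f₂ := Sigma.hom_ext _ _ (fun j => by simp [ψ, hc₁])
  have h₂ : Sigma.desc (fun j => h j ≫ (Sigma.ι A j)⟦(1 : ℤ)⟧') = ψ ≫ f₃ :=
    Sigma.hom_ext _ _ (fun j => by simp [ψ, hc₂])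
  suffices hiso : IsIso ψ by
    let e : ∐ C ≅ Z := @CategoryTheory.asIso _ _ _ _ ψ hiso
    have he : e.hom = ψ := rfl
    refine isomorphic_distinguished _ hT' _ (Triangle.isoMk
      (Triangle.mk (Limits.Sigma.map f) (Limits.Sigma.map g)
        (Limits.Sigma.desc (fun j => h j ≫ (Sigma.ι A j)⟦(1 : ℤ)⟧')))
      (Triangle.mk (Limits.Sigma.map f) f₂ f₃) (Iso.refl _) (Iso.refl _)
      e ?_ ?_ ?_)
    · change Limits.Sigma.map f ≫ 𝟙 (∐ B) = 𝟙 (∐ A) ≫ Limits.Sigma.map f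
      rw [Category.comp_id, Category.id_comp]
    · change Limits.Sigma.map g ≫ ψ = 𝟙 (∐ B) ≫ f₂
      rw [Category.id_comp, h₁]
    · change (Limits.Sigma.desc (fun j => h j ≫ (Sigma.ι A j)⟦(1 : ℤ)⟧')) ≫ (𝟙 (∐ A))⟦(1 : ℤ)⟧' = ψ ≫ f₃
      rw [CategoryTheory.Functor.map_id, Category.comp_id, h₂]
  refine isIso_of_coyoneda_map_bijective _ (fun W => ⟨?_, ?_⟩)
  · -- injectivity
    intro x₁ x₂ hx
    dsimp at hx
    suffices hz : ∀ x : Z ⟶ W, ψ ≫ x = 0 → x = 0 by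
      have := hz (x₁ - x₂) (by rw [Preadditive.comp_sub, hx, sub_self])
      exact sub_eq_zero.mp this
    intro x hx
    have hx2 : f₂ ≫ x = 0 := by rw [← h₁, Category.assoc, hx, comp_zero]
    obtain ⟨x', hx'⟩ : ∃ x' : (∐ A)⟦(1 : ℤ)⟧ ⟶ W, x = f₃ ≫ x' :=
      Triangle.yoneda_exact₃ _ hT' x hx2
    have hj : ∀ j, h j ≫ ((Sigma.ι A j)⟦(1 : ℤ)⟧' ≫ x') = 0 := fun j => by
      rw [← Category.assoc, hc₂, Category.assoc, ← hx', ← hψ, Category.assoc, hx, comp_zero]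
    have hα := fun j => yoneda_exact₁' (f j) (g j) (h j) (hT j) _ (hj j)
    choose α hα using hα
    obtain ⟨α', hα'⟩ := shift_sigma_desc B α
    have : x' = (Limits.Sigma.map f)⟦(1 : ℤ)⟧' ≫ α' := by
      refine shift_sigma_hom_ext A _ _ (fun j => ?_)
      rw [hα j, ← Category.assoc, ← Functor.map_comp, Sigma.ι_map, Functor.map_comp,
        Category.assoc, hα']
    rw [hx', this, ← Category.assoc]
    have h0 : f₃ ≫ (Limits.Sigma.map f)⟦(1 : ℤ)⟧' = 0 := comp_distTriang_mor_zero₃₁ _ hT'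
    rw [h0, zero_comp]
  · -- surjectivity
    intro a
    have hfg : Limits.Sigma.map f ≫ Limits.Sigma.map g ≫ a = 0 := by
      refine Sigma.hom_ext _ _ (fun j => ?_)
      have h0 : f j ≫ g j = 0 := comp_distTriang_mor_zero₁₂ _ (hT j)
      rw [Sigma.ι_map_assoc, Sigma.ι_map_assoc, reassoc_of% h0, zero_comp, comp_zero]
    obtain ⟨a', ha'⟩ : ∃ a' : Z ⟶ W, Limits.Sigma.map g ≫ a = f₂ ≫ a' :=
      Triangle.yoneda_exact₂ _ hT' (Limits.Sigma.map g ≫ a) hfg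
    have hj : ∀ j, g j ≫ (Sigma.ι C j ≫ (a - ψ ≫ a')) = 0 := fun j => by
      rw [Preadditive.comp_sub, Preadditive.comp_sub, ← Sigma.ι_map_assoc, ha',
        reassoc_of% (hψ j), reassoc_of% (hc₁ j), sub_self]
    have hb : ∀ j, ∃ b : (A j)⟦(1 : ℤ)⟧ ⟶ W, Sigma.ι C j ≫ (a - ψ ≫ a') = h j ≫ b :=
      fun j => Triangle.yoneda_exact₃ _ (hT j) _ (hj j)
    choose b hb using hb
    obtain ⟨b', hb'⟩ := shift_sigma_desc A b
    have hab : a - ψ ≫ a' = ψ ≫ f₃ ≫ b' := by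
      refine Sigma.hom_ext _ _ (fun j => ?_)
      rw [hb j, reassoc_of% (hψ j), ← reassoc_of% (hc₂ j), hb']
    refine ⟨a' + f₃ ≫ b', ?_⟩
    change ψ ≫ (a' + f₃ ≫ b') = a
    rw [Preadditive.comp_add, ← hab]
    abel

end sigmaTriangle2

section tower

variable {D : Type u} [Category.{v} D] [Preadditive D] [HasZeroObject D] [HasShift D ℤ]
  [∀ n : ℤ, (shiftFunctor D n).Additive] [Pretriangulated D]
  [HasColimitsOfShape (Discrete ℕ) D]
  {ι : Type v} (E : ι → D)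
  (H : Dᵒᵖ ⥤ AddCommGrpCat.{v})

/-- A tower as in the proof of Brown representability. -/
structure BTower where
  X : ℕ → D
  K : ℕ → D
  a : ∀ n, H.obj (op (X n))
  κ : ∀ n, K n ⟶ X n
  φ : ∀ n, X n ⟶ X (n + 1)
  κφ : ∀ n, κ n ≫ φ n = 0
  ha : ∀ n, bev H (φ n) (a (n + 1)) = a n
  hlift : ∀ n i (f : E i ⟶ X n), bev H f (a n) = 0 → ∃ g : E i ⟶ K n, g ≫ κ n = f
  hsurj : ∀ i (x : H.obj (op (E i))), ∃ f : E i ⟶ X 0, bev H f (a 0) = x

namespace BTower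

variable {E H} (T : BTower E H)

/-- transition maps from the zeroth stage -/
def t : ∀ n, T.X 0 ⟶ T.X n
  | 0 => 𝟙 _
  | n + 1 => t n ≫ T.φ n

/-- transition maps from the first stage -/
def t' : ∀ n, T.X 1 ⟶ T.X (n + 1)
  | 0 => 𝟙 _
  | n + 1 => t' n ≫ T.φ (n + 1)

lemma t_succ (n : ℕ) : T.t (n + 1) = T.φ 0 ≫ T.t' n := by
  induction n with
  | zero => simp [t, t']
  | succ n ih =>
    change T.t (n + 1) ≫ T.φ (n + 1) = T.φ 0 ≫ T.t' n ≫ T.φ (n + 1)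
    rw [ih, Category.assoc]

lemma bev_t (n : ℕ) : bev H (T.t n) (T.a n) = T.a 0 := by
  induction n with
  | zero => exact bev_id H _
  | succ n ih =>
    change bev H (T.t n ≫ T.φ n) (T.a (n + 1)) = T.a 0
    rw [bev_comp, T.ha, ih]

/-- the shift map `Φ` on the coproduct of the tower -/
noncomputable def Φ : ∐ T.X ⟶ ∐ T.X := Limits.Sigma.desc (fun n => T.φ n ≫ Sigma.ι T.X (n + 1))

lemma ι_Φ (n : ℕ) : Sigma.ι T.X n ≫ T.Φ = T.φ n ≫ Sigma.ι T.X (n + 1) := by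
  simp [Φ]

noncomputable def Tm : (∐ fun _ : ℕ => T.X 0) ⟶ ∐ T.X := Limits.Sigma.map T.t

noncomputable def Km : ∐ T.K ⟶ ∐ T.X := Limits.Sigma.map T.κ

noncomputable def P0 : (∐ fun _ : ℕ => T.X 0) ⟶ ∐ fun _ : ℕ => T.X 1 :=
  Limits.Sigma.map (fun _ => T.φ 0)

noncomputable def T' : (∐ fun _ : ℕ => T.X 1) ⟶ ∐ T.X :=
  Limits.Sigma.desc (fun n => T.t' n ≫ Sigma.ι T.X (n + 1))

lemma Km_Φ : T.Km ≫ T.Φ = 0 := by
  refine Sigma.hom_ext _ _ (fun n => ?_)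
  rw [Km, Sigma.ι_map_assoc, ι_Φ, ← Category.assoc, T.κφ, zero_comp, comp_zero]

lemma Tm_Φ : T.Tm ≫ T.Φ = constShift (T.X 0) ≫ T.Tm := by
  refine Sigma.hom_ext _ _ (fun n => ?_)
  rw [Tm, Sigma.ι_map_assoc, ι_Φ, ← Category.assoc (Sigma.ι _ n), ι_constShift,
    Sigma.ι_map, ← Category.assoc]
  rfl

lemma constShift_Tm : constShift (T.X 0) ≫ T.Tm = T.P0 ≫ T.T' := by
  refine Sigma.hom_ext _ _ (fun n => ?_)
  rw [← Category.assoc (Sigma.ι _ n), ι_constShift, Tm, Sigma.ι_map, P0, Sigma.ι_map_assoc,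
    T', Sigma.ι_desc, t_succ, Category.assoc]

lemma constShift_P0 : constShift (T.X 0) ≫ T.P0 = T.P0 ≫ constShift (T.X 1) := by
  refine Sigma.hom_ext _ _ (fun n => ?_)
  rw [← Category.assoc (Sigma.ι _ n), ι_constShift, P0, Sigma.ι_map, Sigma.ι_map_assoc,
    ι_constShift]


end BTower

end tower

section tower2

variable {D : Type u} [Category.{v} D] [Preadditive D] [HasZeroObject D] [HasShift D ℤ]
  [∀ n : ℤ, (shiftFunctor D n).Additive] [Pretriangulated D]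
  [HasColimitsOfShape (Discrete ℕ) D]
  {ι : Type v} {E : ι → D}
  {H : Dᵒᵖ ⥤ AddCommGrpCat.{v}} [H.IsHomological]

/-- the factorization hypothesis (2) of Brown representability (bis) -/
def BFactor (E : ι → D) : Prop :=
  ∀ (X : ℕ → D) (i : ι) (α : E i ⟶ ∐ X), ∃ (j : ℕ → ι) (β : ∀ n, E (j n) ⟶ X n)
      (γ : E i ⟶ ∐ (fun n => E (j n))), α = γ ≫ Limits.Sigma.map β

lemma enull_sigma (h2 : BFactor E) {Y Z : ℕ → D} (f : ∀ n, Y n ⟶ Z n)
    (hf : ∀ n i (g : E i ⟶ Y n), g ≫ f n = 0) (i : ι) (α : E i ⟶ ∐ Y) :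
    α ≫ Limits.Sigma.map f = 0 := by
  obtain ⟨j, β, γ, rfl⟩ := h2 Y i α
  rw [Category.assoc]
  have : Limits.Sigma.map β ≫ Limits.Sigma.map f = 0 := by
    refine Sigma.hom_ext _ _ (fun n => ?_)
    rw [Sigma.ι_map_assoc, Sigma.ι_map, ← Category.assoc, hf, zero_comp, comp_zero]
  rw [this, comp_zero]

namespace BTower

variable (T : BTower E H)

lemma dec (h2 : BFactor E) (i : ι) (α : E i ⟶ ∐ T.X) :
    ∃ (α' : E i ⟶ ∐ fun _ : ℕ => T.X 0) (α'' : E i ⟶ ∐ T.K),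
      α = α' ≫ T.Tm + α'' ≫ T.Km := by
  obtain ⟨j, β, γ, rfl⟩ := h2 T.X i α
  have hβ : ∀ n, ∃ (β' : E (j n) ⟶ T.X 0) (β'' : E (j n) ⟶ T.K n),
      β n = β' ≫ T.t n + β'' ≫ T.κ n := fun n => by
    obtain ⟨β', hβ'⟩ := T.hsurj (j n) (bev H (β n) (T.a n))
    obtain ⟨β'', hβ''⟩ := T.hlift n (j n) (β n - β' ≫ T.t n)
      (by rw [bev_sub_hom, bev_comp, T.bev_t, hβ', sub_self])
    exact ⟨β', β'', by rw [hβ'']; abel⟩
  choose β' β'' hβ using hβ
  refine ⟨γ ≫ Limits.Sigma.map β', γ ≫ Limits.Sigma.map β'', ?_⟩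
  rw [Category.assoc, Category.assoc, ← Preadditive.comp_add]
  congr 1
  refine Sigma.hom_ext _ _ (fun n => ?_)
  rw [Sigma.ι_map, Preadditive.comp_add, Sigma.ι_map_assoc, Sigma.ι_map_assoc, Tm, Km,
    Sigma.ι_map, Sigma.ι_map, hβ n, Preadditive.add_comp, Category.assoc, Category.assoc]

lemma kerTm (h2 : BFactor E) (i : ι) (y : E i ⟶ ∐ fun _ : ℕ => T.X 0) (hy : y ≫ T.Tm = 0) :
    y ≫ T.P0 = 0 := by
  have htri := fun n => distinguished_cocone_triangle₁ (T.t n)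
  choose N u w hN using htri
  have hd := sigma_distTriang N (fun _ => T.X 0) T.X u T.t w hN
  obtain ⟨ν, hν⟩ : ∃ ν : E i ⟶ ∐ N, y = ν ≫ Limits.Sigma.map u :=
    Triangle.coyoneda_exact₂ _ hd y hy
  have h0 : ∀ n k (g : E k ⟶ N n), g ≫ (u n ≫ T.φ 0) = 0 := fun n k g => by
    have h1 : (g ≫ u n) ≫ T.t n = 0 := by
      rw [Category.assoc]
      have : u n ≫ T.t n = 0 := comp_distTriang_mor_zero₁₂ _ (hN n)
      rw [this, comp_zero]
    have h2 : bev H (g ≫ u n) (T.a 0) = 0 := by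
      rw [← T.bev_t n, ← bev_comp, h1, bev_zero_hom]
    obtain ⟨g', hg'⟩ := T.hlift 0 k (g ≫ u n) h2
    rw [← Category.assoc, ← hg', Category.assoc, T.κφ, comp_zero]
  have h3 := enull_sigma h2 (fun n => u n ≫ T.φ 0) h0 i ν
  rw [hν, Category.assoc, P0]
  have : Limits.Sigma.map u ≫ Limits.Sigma.map (fun _ : ℕ => T.φ 0) =
      Limits.Sigma.map (fun n => u n ≫ T.φ 0) := by
    refine Sigma.hom_ext _ _ (fun n => ?_)
    rw [Sigma.ι_map_assoc, Sigma.ι_map, Sigma.ι_map, Category.assoc]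
  rw [this, h3]

lemma one_sub_Φ_inj (h2 : BFactor E) (i : ι) (α : E i ⟶ ∐ T.X)
    (hα : α ≫ (𝟙 _ - T.Φ) = 0) : α = 0 := by
  have hα1 : α = α ≫ T.Φ := by
    rw [Preadditive.comp_sub, Category.comp_id, sub_eq_zero] at hα
    exact hα
  obtain ⟨α', α'', hdec⟩ := T.dec h2 i α
  have e1 : α ≫ T.Φ = α' ≫ constShift (T.X 0) ≫ T.Tm := by
    rw [hdec, Preadditive.add_comp, Category.assoc, Category.assoc, T.Km_Φ, comp_zero,
      add_zero, T.Tm_Φ]
  have e2 : α ≫ T.Φ = α' ≫ constShift (T.X 0) ≫ constShift (T.X 0) ≫ T.Tm := by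
    conv_lhs => rw [hα1, e1]
    rw [Category.assoc, Category.assoc, T.Tm_Φ]
  have e3 : (α' ≫ constShift (T.X 0) ≫ (𝟙 _ - constShift (T.X 0))) ≫ T.Tm = 0 := by
    simp only [Category.assoc, Preadditive.sub_comp, Preadditive.comp_sub, Category.id_comp]
    rw [← e1, ← e2, sub_self]
  have e4 := T.kerTm h2 i _ e3
  have e5 : (α' ≫ constShift (T.X 0) ≫ T.P0) ≫ (𝟙 _ - constShift (T.X 1)) = 0 := by
    simp only [Category.assoc, Preadditive.sub_comp, Preadditive.comp_sub,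
      Category.comp_id] at e4 ⊢
    rw [← T.constShift_P0]
    exact e4
  obtain ⟨r, hr⟩ := constShift_splitMono (T.X 1)
  have e6 : α' ≫ constShift (T.X 0) ≫ T.P0 = 0 := by
    have := e5 =≫ r
    rw [Category.assoc, hr, Category.comp_id, zero_comp] at this
    exact this
  rw [hα1, e2, T.constShift_Tm, ← Category.assoc (constShift (T.X 0)), ← Category.assoc α',
    e6, zero_comp]


end BTower

end tower2

section tower3

variable {D : Type u} [Category.{v} D] [Preadditive D] [HasZeroObject D] [HasShift D ℤ]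
  [∀ n : ℤ, (shiftFunctor D n).Additive] [Pretriangulated D]
  [HasColimitsOfShape (Discrete ℕ) D]
  {ι : Type v} {E : ι → D}
  {H : Dᵒᵖ ⥤ AddCommGrpCat.{v}} [H.IsHomological]
  [∀ κ : Type v, PreservesLimitsOfShape (Discrete κ) H]

lemma eq_zero_of_shift_neg_one {A B : D} (g : A ⟶ B⟦(1 : ℤ)⟧)
    (h : g⟦(-1 : ℤ)⟧' ≫ (shiftFunctorCompIsoId D (1 : ℤ) (-1) (by norm_num)).hom.app B = 0) :
    g = 0 := by
  apply (shiftFunctor D (-1 : ℤ)).map_injective
  rw [Functor.map_zero, ← cancel_mono ((shiftFunctorCompIsoId D (1 : ℤ) (-1)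
    (by norm_num)).hom.app B), h, zero_comp]

namespace BTower

variable (T : BTower E H)

theorem exists_hocolim (h2 : BFactor E) (hsh : ∀ i, ∃ j, Nonempty (E j ≅ (E i)⟦(-1 : ℤ)⟧)) :
    ∃ (Xh : D) (a : H.obj (op Xh)) (j₀ : T.X 0 ⟶ Xh), bev H j₀ a = T.a 0 ∧
      ∀ i, Function.Bijective (fun f : E i ⟶ Xh => bev H f a) := by
  obtain ⟨Xh, π, δ, hT⟩ := distinguished_cocone_triangle (𝟙 (∐ T.X) - T.Φ)
  -- the element `b`
  obtain ⟨b, hb⟩ := bev_exists_nat (H := H) (Cofan.mk (∐ T.X) (Sigma.ι T.X))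
    (coproductIsCoproduct T.X) T.a
  have hb' : ∀ n, bev H (Sigma.ι T.X n) b = T.a n := hb
  have hb0 : bev H (𝟙 (∐ T.X) - T.Φ) b = 0 := by
    refine bev_ext_nat (H := H) (Cofan.mk (∐ T.X) (Sigma.ι T.X)) (coproductIsCoproduct T.X) _ _
      (fun n => ?_)
    change bev H (Sigma.ι T.X n) _ = bev H (Sigma.ι T.X n) 0
    rw [bev_zero, ← bev_comp, Preadditive.comp_sub, Category.comp_id, T.ι_Φ, bev_sub_hom,
      bev_comp, hb', hb', T.ha, sub_self]
  obtain ⟨a, ha⟩ := bev_exact' (H := H) _ _ _ hT b hb0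
  -- consequences of the triangle
  have hΦπ : ∀ n, Sigma.ι T.X n ≫ π = T.φ n ≫ Sigma.ι T.X (n + 1) ≫ π := fun n => by
    have h0 : (𝟙 (∐ T.X) - T.Φ) ≫ π = 0 := comp_distTriang_mor_zero₁₂ _ hT
    have := Sigma.ι T.X n ≫= h0
    rw [comp_zero, Preadditive.sub_comp, Preadditive.comp_sub, Category.id_comp,
      ← Category.assoc, T.ι_Φ, Category.assoc, sub_eq_zero] at this
    exact this
  have htπ : ∀ n, T.t n ≫ Sigma.ι T.X n ≫ π = Sigma.ι T.X 0 ≫ π := fun n => by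
    induction n with
    | zero => exact Category.id_comp _
    | succ n ih =>
      change (T.t n ≫ T.φ n) ≫ _ = _
      rw [Category.assoc, ← hΦπ, ih]
  have hKπ : T.Km ≫ π = 0 := by
    have h0 : (𝟙 (∐ T.X) - T.Φ) ≫ π = 0 := comp_distTriang_mor_zero₁₂ _ hT
    have := T.Km ≫= h0
    rw [comp_zero, Preadditive.sub_comp, Preadditive.comp_sub, Category.id_comp,
      ← Category.assoc, T.Km_Φ, zero_comp, sub_zero] at this
    exact this
  have hTπ : T.Tm ≫ π = Limits.Sigma.desc (fun _ : ℕ => 𝟙 (T.X 0)) ≫ Sigma.ι T.X 0 ≫ π := by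
    refine Sigma.hom_ext _ _ (fun n => ?_)
    rw [Tm, Sigma.ι_map_assoc, htπ, Sigma.ι_desc_assoc, Category.id_comp]
  -- Step I: `π` is surjective on `E`-points
  have hI : ∀ i (α : E i ⟶ Xh), ∃ α' : E i ⟶ ∐ T.X, α = α' ≫ π := fun i α => by
    refine Triangle.coyoneda_exact₃ _ hT α ?_
    change α ≫ δ = 0
    apply eq_zero_of_shift_neg_one
    obtain ⟨j, ⟨e⟩⟩ := hsh i
    have h0 : δ ≫ (𝟙 (∐ T.X) - T.Φ)⟦(1 : ℤ)⟧' = 0 := comp_distTriang_mor_zero₃₁ _ hT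
    have h1 := T.one_sub_Φ_inj h2 j (e.hom ≫ (α ≫ δ)⟦(-1 : ℤ)⟧' ≫
      (shiftFunctorCompIsoId D (1 : ℤ) (-1) (by norm_num)).hom.app (∐ T.X)) (by
        have nat := (shiftFunctorCompIsoId D (1 : ℤ) (-1) (by norm_num)).hom.naturality
          (𝟙 (∐ T.X) - T.Φ)
        dsimp at nat
        rw [Category.assoc, Category.assoc, ← nat, ← Functor.map_comp_assoc, Category.assoc, h0,
          comp_zero, Functor.map_zero, zero_comp, comp_zero])
    rw [← cancel_epi e.hom, h1, comp_zero]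
  refine ⟨Xh, a, Sigma.ι T.X 0 ≫ π, ?_, fun i => ⟨?_, ?_⟩⟩
  · rw [bev_comp, ha, hb']
  · -- injectivity
    intro α₁ α₂ h12
    dsimp at h12
    suffices hz : ∀ α : E i ⟶ Xh, bev H α a = 0 → α = 0 by
      have := hz (α₁ - α₂) (by rw [bev_sub_hom, h12, sub_self])
      exact sub_eq_zero.mp this
    intro α hα
    obtain ⟨α₀, rfl⟩ := hI i α
    obtain ⟨α', α'', rfl⟩ := T.dec h2 i α₀
    rw [Preadditive.add_comp, Category.assoc, Category.assoc, hKπ, comp_zero, add_zero, hTπ] at hα ⊢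
    set x : E i ⟶ T.X 0 := α' ≫ Limits.Sigma.desc (fun _ : ℕ => 𝟙 (T.X 0)) with hx
    have hxx : α' ≫ Limits.Sigma.desc (fun _ : ℕ => 𝟙 (T.X 0)) ≫ Sigma.ι T.X 0 ≫ π =
        x ≫ Sigma.ι T.X 0 ≫ π := by rw [hx, Category.assoc]
    have hx0 : bev H x (T.a 0) = 0 := by
      rw [← hb' 0, ← ha, ← bev_comp, ← bev_comp, Category.assoc, ← hxx]
      exact hα
    obtain ⟨g, hg⟩ := T.hlift 0 i x hx0
    rw [hxx, hΦπ, ← hg, Category.assoc, ← Category.assoc (T.κ 0), T.κφ, zero_comp, comp_zero]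
  · -- surjectivity
    intro x
    obtain ⟨f, hf⟩ := T.hsurj i x
    refine ⟨f ≫ Sigma.ι T.X 0 ≫ π, ?_⟩
    dsimp
    rw [bev_comp, bev_comp, ha, hb', hf]

end BTower


end tower3

section construction

variable {D : Type u} [Category.{v} D] [Preadditive D] [HasZeroObject D] [HasShift D ℤ]
  [∀ n : ℤ, (shiftFunctor D n).Additive] [Pretriangulated D]
  [HasCoproducts.{v} D] [HasColimitsOfShape (Discrete ℕ) D]
  {ι : Type v} (E : ι → D)
  (H : Dᵒᵖ ⥤ AddCommGrpCat.{v}) [H.IsHomological]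
  [∀ κ : Type v, PreservesLimitsOfShape (Discrete κ) H]

lemma bstart_exists (Y : D) (y : H.obj (op Y)) :
    ∃ (X₀ : D) (a₀ : H.obj (op X₀)) (j : Y ⟶ X₀), bev H j a₀ = y ∧
      ∀ i (x : H.obj (op (E i))), ∃ f : E i ⟶ X₀, bev H f a₀ = x := by
  let S := Option (Σ i : ι, H.obj (op (E i)))
  let Z : S → D := fun s => Option.rec Y (fun p => E p.1) s
  let z : ∀ s : S, H.obj (op (Z s)) := fun s => Option.rec y (fun p => p.2) s
  obtain ⟨a₀, ha₀⟩ := bev_exists_of_isColimit H (Cofan.mk (∐ Z) (Sigma.ι Z))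
    (coproductIsCoproduct Z) z
  refine ⟨∐ Z, a₀, Sigma.ι Z none, ha₀ none, fun i x => ⟨Sigma.ι Z (some ⟨i, x⟩), ?_⟩⟩
  exact ha₀ (some ⟨i, x⟩)

lemma bstep_exists (X : D) (a : H.obj (op X)) :
    ∃ (K X' : D) (κ : K ⟶ X) (φ : X ⟶ X') (a' : H.obj (op X')),
      κ ≫ φ = 0 ∧ bev H φ a' = a ∧
      (∀ i (f : E i ⟶ X), bev H f a = 0 → ∃ g : E i ⟶ K, g ≫ κ = f) := by
  let S := Σ i : ι, {f : E i ⟶ X // bev H f a = 0}
  let Z : S → D := fun s => E s.1
  let κ : ∐ Z ⟶ X := Limits.Sigma.desc (fun s => s.2.1)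
  obtain ⟨X', φ, δ, hT⟩ := distinguished_cocone_triangle κ
  have hκ : bev H κ a = 0 := by
    refine bev_ext_of_isColimit H (Cofan.mk (∐ Z) (Sigma.ι Z)) (coproductIsCoproduct Z) _ _
      (fun s => ?_)
    change bev H (Sigma.ι Z s) _ = bev H (Sigma.ι Z s) 0
    rw [bev_zero, ← bev_comp, Sigma.ι_desc]
    exact s.2.2
  obtain ⟨a', ha'⟩ := bev_exact' (H := H) _ _ _ hT a hκ
  refine ⟨∐ Z, X', κ, φ, a', comp_distTriang_mor_zero₁₂ _ hT, ha', fun i f hf => ?_⟩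
  exact ⟨Sigma.ι Z ⟨i, f, hf⟩, by simp [κ]⟩

/-- a stage of the construction -/
structure BStage where
  X : D
  a : H.obj (op X)

/-- the data of one step of the construction -/
structure BStep (s : BStage H) where
  K : D
  X' : D
  κ : K ⟶ s.X
  φ : s.X ⟶ X'
  a' : H.obj (op X')
  κφ : κ ≫ φ = 0
  ha : bev H φ a' = s.a
  hlift : ∀ i (f : E i ⟶ s.X), bev H f s.a = 0 → ∃ g : E i ⟶ K, g ≫ κ = f

lemma bstep_nonempty (s : BStage H) : Nonempty (BStep E H s) := by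
  obtain ⟨K, X', κ, φ, a', h1, h2, h3⟩ := bstep_exists E H s.X s.a
  exact ⟨⟨K, X', κ, φ, a', h1, h2, h3⟩⟩

/-- a choice of step -/
noncomputable def bstep (s : BStage H) : BStep E H s := (bstep_nonempty E H s).some

/-- the sequence of stages -/
noncomputable def bseq (s₀ : BStage H) : ℕ → BStage H
  | 0 => s₀
  | n + 1 => ⟨(bstep E H (bseq s₀ n)).X', (bstep E H (bseq s₀ n)).a'⟩

/-- the tower built from a starting stage which is surjective on `E`-points -/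
noncomputable def btower (s₀ : BStage H)
    (hs₀ : ∀ i (x : H.obj (op (E i))), ∃ f : E i ⟶ s₀.X, bev H f s₀.a = x) : BTower E H where
  X n := (bseq E H s₀ n).X
  K n := (bstep E H (bseq E H s₀ n)).K
  a n := (bseq E H s₀ n).a
  κ n := (bstep E H (bseq E H s₀ n)).κ
  φ n := (bstep E H (bseq E H s₀ n)).φ
  κφ n := (bstep E H (bseq E H s₀ n)).κφ
  ha n := (bstep E H (bseq E H s₀ n)).ha
  hlift n := (bstep E H (bseq E H s₀ n)).hlift
  hsurj := hs₀

/-- Theorem A: every pair `(Y, y)` maps to a pair `(X, a)` which is bijective on `E`-points. -/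
theorem brown_thmA (h2 : BFactor E) (hsh : ∀ i, ∃ j, Nonempty (E j ≅ (E i)⟦(-1 : ℤ)⟧))
    (Y : D) (y : H.obj (op Y)) :
    ∃ (X : D) (a : H.obj (op X)) (j : Y ⟶ X), bev H j a = y ∧
      ∀ i, Function.Bijective (fun f : E i ⟶ X => bev H f a) := by
  obtain ⟨X₀, a₀, j, hj, hs₀⟩ := bstart_exists E H Y y
  obtain ⟨Xh, a, j₀, hj₀, hbij⟩ : ∃ (Xh : D) (a : H.obj (op Xh)) (j₀ : X₀ ⟶ Xh),
      bev H j₀ a = a₀ ∧ ∀ i, Function.Bijective (fun f : E i ⟶ Xh => bev H f a) :=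
    (btower E H ⟨X₀, a₀⟩ hs₀).exists_hocolim h2 hsh
  refine ⟨Xh, a, j ≫ j₀, ?_, hbij⟩
  rw [bev_comp, hj₀]
  exact hj


lemma einj_shift (hsh : ∀ i, ∃ j, Nonempty (E j ≅ (E i)⟦(-1 : ℤ)⟧)) {A B : D} (f : A ⟶ B)
    (hf : ∀ k (g : E k ⟶ A), g ≫ f = 0 → g = 0) (i : ι) (g : E i ⟶ A⟦(1 : ℤ)⟧)
    (hg : g ≫ f⟦(1 : ℤ)⟧' = 0) : g = 0 := by
  apply eq_zero_of_shift_neg_one
  obtain ⟨j, ⟨e⟩⟩ := hsh i
  have h1 := hf j (e.hom ≫ g⟦(-1 : ℤ)⟧' ≫
      (shiftFunctorCompIsoId D (1 : ℤ) (-1) (by norm_num)).hom.app A) (by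
    have nat := (shiftFunctorCompIsoId D (1 : ℤ) (-1) (by norm_num)).hom.naturality f
    dsimp at nat
    rw [Category.assoc, Category.assoc, ← nat, ← Functor.map_comp_assoc, hg,
      Functor.map_zero, zero_comp, comp_zero])
  rw [← cancel_epi e.hom, h1, comp_zero]

lemma isIso_of_ebij (h1 : ∀ X : D, ¬ IsZero X → ∃ (i : ι) (f : E i ⟶ X), f ≠ 0)
    (hsh : ∀ i, ∃ j, Nonempty (E j ≅ (E i)⟦(-1 : ℤ)⟧)) {X X' : D} (j : X ⟶ X')
    (hj : ∀ i, Function.Bijective (fun f : E i ⟶ X => f ≫ j)) : IsIso j := by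
  obtain ⟨C, p, q, hT⟩ := distinguished_cocone_triangle j
  have hC : IsZero C := by
    by_contra hC
    obtain ⟨i, g, hg⟩ := h1 C hC
    apply hg
    have hq : g ≫ q = 0 := by
      refine einj_shift E hsh j (fun k g₁ hg₁ => ?_) i (g ≫ q) ?_
      · exact (hj k).1 (by dsimp; rw [hg₁, zero_comp])
      · have h0 : q ≫ j⟦(1 : ℤ)⟧' = 0 := comp_distTriang_mor_zero₃₁ _ hT
        rw [Category.assoc, h0, comp_zero]
    obtain ⟨g', hg'⟩ : ∃ g' : E i ⟶ X', g = g' ≫ p := Triangle.coyoneda_exact₃ _ hT g hq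
    obtain ⟨g'', hg''⟩ := (hj i).2 g'
    dsimp at hg''
    have h0 : j ≫ p = 0 := comp_distTriang_mor_zero₁₂ _ hT
    rw [hg', ← hg'', Category.assoc, h0, comp_zero]
  exact (Triangle.isZero₃_iff_isIso₁ _ hT).mp hC

open ZeroObject in
/-- Theorem B: representability. -/
theorem brown_thmB (h1 : ∀ X : D, ¬ IsZero X → ∃ (i : ι) (f : E i ⟶ X), f ≠ 0)
    (h2 : BFactor E) (hsh : ∀ i, ∃ j, Nonempty (E j ≅ (E i)⟦(-1 : ℤ)⟧)) :
    (H ⋙ forget AddCommGrpCat.{v}).IsRepresentable := by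
  obtain ⟨X, a, -, -, hbij⟩ := brown_thmA E H h2 hsh (0 : D) 0
  have K1 : ∀ (X' : D) (a' : H.obj (op X')) (j : X ⟶ X'), bev H j a' = a →
      (∀ i, Function.Bijective (fun f : E i ⟶ X' => bev H f a')) → IsIso j := by
    intro X' a' j hj hbij'
    apply isIso_of_ebij E h1 hsh
    intro i
    have hcomp : (fun f : E i ⟶ X => bev H f a) =
        (fun f : E i ⟶ X' => bev H f a') ∘ (fun f : E i ⟶ X => f ≫ j) := by
      funext f
      dsimp
      rw [bev_comp, hj]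
    have := hbij i
    rw [hcomp] at this
    exact (Function.Bijective.of_comp_iff' (hbij' i) _).mp this
  have K2 : ∀ (W : D) (w : H.obj (op W)), ∃ f : W ⟶ X, bev H f a = w := by
    intro W w
    let y : H.obj (op (X ⊞ W)) := bev H biprod.fst a + bev H biprod.snd w
    have hy1 : bev H biprod.inl y = a := by
      dsimp only [y]
      rw [bev_add, ← bev_comp, ← bev_comp, biprod.inl_fst, biprod.inl_snd, bev_id,
        bev_zero_hom, add_zero]
    have hy2 : bev H biprod.inr y = w := by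
      dsimp only [y]
      rw [bev_add, ← bev_comp, ← bev_comp, biprod.inr_fst, biprod.inr_snd, bev_id,
        bev_zero_hom, zero_add]
    obtain ⟨X', a', j, hj, hbij'⟩ := brown_thmA E H h2 hsh (X ⊞ W) y
    have hj1 : bev H (biprod.inl ≫ j) a' = a := by rw [bev_comp, hj, hy1]
    have := K1 X' a' (biprod.inl ≫ j) hj1 hbij'
    have hinv : bev H (inv (biprod.inl ≫ j)) a = a' := by
      rw [← hj1, ← bev_comp, IsIso.inv_hom_id, bev_id]
    refine ⟨biprod.inr ≫ j ≫ inv (biprod.inl ≫ j), ?_⟩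
    rw [← Category.assoc, bev_comp, hinv, bev_comp, hj, hy2]
  have K3 : ∀ (W : D) (f : W ⟶ X), bev H f a = 0 → f = 0 := by
    intro W f hf
    obtain ⟨C, g, h, hT⟩ := distinguished_cocone_triangle f
    obtain ⟨c, hc⟩ := bev_exact' (H := H) _ _ _ hT a hf
    obtain ⟨c', hc'⟩ := K2 C c
    have he : bev H (g ≫ c') a = a := by rw [bev_comp, hc', hc]
    have := K1 X a (g ≫ c') he hbij
    have h0 : f ≫ g = 0 := comp_distTriang_mor_zero₁₂ _ hT
    rw [← cancel_mono (g ≫ c'), ← Category.assoc, h0, zero_comp, zero_comp]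
  refine ⟨X, ⟨{ homEquiv := fun {W} => Equiv.ofBijective (fun f : W ⟶ X => bev H f a) ⟨?_, ?_⟩
                homEquiv_comp := ?_ }⟩⟩
  · intro f₁ f₂ h12
    dsimp at h12
    have := K3 W (f₁ - f₂) (by rw [bev_sub_hom, h12, sub_self])
    exact sub_eq_zero.mp this
  · intro w
    exact K2 W w
  · intro W W' f g
    exact bev_comp H f g a

end construction

section shifted

variable {D : Type u} [Category.{v} D] [Preadditive D] [HasZeroObject D] [HasShift D ℤ]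
  [∀ n : ℤ, (shiftFunctor D n).Additive] [Pretriangulated D]
  [HasColimitsOfShape (Discrete ℕ) D]
  {ι : Type v} (E : ι → D)

/-- the family of all shifts of a family of objects -/
def shiftedFamily : ι × ℤ → D := fun p => (E p.1)⟦p.2⟧

lemma shiftedFamily_hsh (p : ι × ℤ) :
    ∃ q, Nonempty (shiftedFamily E q ≅ (shiftedFamily E p)⟦(-1 : ℤ)⟧) :=
  ⟨(p.1, p.2 + (-1)), ⟨(shiftFunctorAdd D p.2 (-1)).app (E p.1)⟩⟩

lemma shiftedFamily_factor (h2 : BFactor E) : BFactor (shiftedFamily E) := by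
  rintro X ⟨i, m⟩ α
  let t := shiftFunctor D m
  let X' : ℕ → D := fun n => (X n)⟦-m⟧
  let ε : ∀ n, (X' n)⟦m⟧ ≅ X n := fun n =>
    (shiftFunctorCompIsoId D (-m) m (by simp)).app (X n)
  let c' : (∐ fun n => (X' n)⟦m⟧) ≅ (∐ X')⟦m⟧ := (PreservesCoproduct.iso t X').symm
  let e : (∐ X')⟦m⟧ ≅ ∐ X := c'.symm ≪≫ Sigma.mapIso ε
  have hce : c'.hom ≫ e.hom = Limits.Sigma.map (fun n => (ε n).hom) := by
    simp [e, Sigma.mapIso]
    rfl
  have he : ∀ n, t.map (Sigma.ι X' n) ≫ e.hom = (ε n).hom ≫ Sigma.ι X n := fun n => by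
    have h1 : Sigma.ι (fun n => (X' n)⟦m⟧) n ≫ c'.hom = t.map (Sigma.ι X' n) := by
      dsimp only [c']
      rw [Iso.symm_hom, PreservesCoproduct.inv_hom, ι_comp_sigmaComparison]
    rw [← h1, Category.assoc, hce, Sigma.ι_map]
  let α₁ : t.obj (E i) ⟶ t.obj (∐ X') := α ≫ e.inv
  let α₀ : E i ⟶ ∐ X' := t.preimage α₁
  have hα₀ : t.map α₀ = α₁ := t.map_preimage _
  obtain ⟨j, β₀, γ₀, hfac⟩ := h2 X' i α₀
  let c : (∐ fun n => (E (j n))⟦m⟧) ≅ (∐ fun n => E (j n))⟦m⟧ :=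
    (PreservesCoproduct.iso t (fun n => E (j n))).symm
  have hc : ∀ n, Sigma.ι (fun n => (E (j n))⟦m⟧) n ≫ c.hom =
      t.map (Sigma.ι (fun n => E (j n)) n) := fun n => by
    dsimp only [c]
    rw [Iso.symm_hom, PreservesCoproduct.inv_hom, ι_comp_sigmaComparison]
  have key : t.map (Limits.Sigma.map β₀) ≫ e.hom = c.inv ≫
      (Limits.Sigma.map (fun n => t.map (β₀ n) ≫ (ε n).hom) :
        (∐ fun n => (E (j n))⟦m⟧) ⟶ ∐ X) := by
    rw [← cancel_epi c.hom, Iso.hom_inv_id_assoc]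
    refine Sigma.hom_ext _ _ (fun n => ?_)
    rw [reassoc_of% (hc n), ← Functor.map_comp_assoc, Sigma.ι_map, Functor.map_comp_assoc, he,
      Sigma.ι_map, Category.assoc]
  have h3 : α = t.map α₀ ≫ e.hom := by
    rw [hα₀]
    change α = (α ≫ e.inv) ≫ e.hom
    rw [Category.assoc, Iso.inv_hom_id, Category.comp_id]
  refine ⟨fun n => (j n, m), fun n => t.map (β₀ n) ≫ (ε n).hom, t.map γ₀ ≫ c.inv, ?_⟩
  change α = (t.map γ₀ ≫ c.inv) ≫ (Limits.Sigma.map (fun n => t.map (β₀ n) ≫ (ε n).hom) :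
        (∐ fun n => (E (j n))⟦m⟧) ⟶ ∐ X)
  rw [Category.assoc, ← key, h3, hfac, Functor.map_comp, Category.assoc]

end shifted

section main

variable {D : Type u} [Category.{v} D] [Preadditive D] [HasZeroObject D] [HasShift D ℤ]
  [∀ n : ℤ, (shiftFunctor D n).Additive] [Pretriangulated D]
  [HasCoproducts.{v} D] [HasColimitsOfShape (Discrete ℕ) D]
  {ι : Type v} (E : ι → D)

/-- Brown representability (bis), with generation allowed up to shifts. -/
theorem brown_representable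
    (h1s : ∀ X : D, ¬ IsZero X → ∃ (i : ι) (m : ℤ) (f : (E i)⟦m⟧ ⟶ X), f ≠ 0)
    (h2 : BFactor E)
    (H : Dᵒᵖ ⥤ AddCommGrpCat.{v}) [H.IsHomological]
    [∀ κ : Type v, PreservesLimitsOfShape (Discrete κ) H] :
    (H ⋙ forget AddCommGrpCat.{v}).IsRepresentable :=
  brown_thmB (shiftedFamily E) H
    (fun X hX => by
      obtain ⟨i, m, f, hf⟩ := h1s X hX
      exact ⟨(i, m), f, hf⟩)
    (shiftedFamily_factor E h2) (shiftedFamily_hsh E)

end main

end Groth.Agent.Lib.helper27
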