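import Mathlib
import Groth.Prelude.Def_CohDer
import Groth.Agent.Lib.Helper27.Brown

/-!
# Applications of Brown representability (helper27)

Compactly generated case and the adjoint functor theorem.
-/

set_option linter.unusedSectionVars false

namespace Groth.Agent.Lib.helper27

open CategoryTheory Limits Pretriangulated Opposite
open CategoryTheory.Pretriangulated.Opposite

universe v u u'

section compact

variable {D : Type u} [Category.{v} D] [Preadditive D] [HasZeroObject D] [HasShift D ℤ]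
  [∀ n : ℤ, (shiftFunctor D n).Additive] [Pretriangulated D]
  [HasCoproducts.{v} D] [HasColimitsOfShape (Discrete ℕ) D]
  {ι : Type v} (E : ι → D)

lemma homSumToHomCoprod_of (K : D) {κ : Type v} [inst : DecidableEq κ] (X : κ → D) (k : κ)
    (x : K ⟶ X k) :
    CohDer.homSumToHomCoprod K X (DirectSum.of (fun i => K ⟶ X i) k x) = x ≫ Sigma.ι X k := by
  have : inst = (fun a b => Classical.propDecidable (a = b)) := Subsingleton.elim _ _
  subst this
  classical
  unfold CohDer.homSumToHomCoprod
  rw [DirectSum.toAddMonoid_of]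
  rfl

open Classical in
lemma bfactor_of_compact (hE : ∀ i, CohDer.IsCompactObject (E i)) : BFactor E := by
  intro X i α
  let X' : ULift.{v} ℕ → D := fun k => X k.down
  let r : ∐ X' ≅ ∐ X := Sigma.reindex (Equiv.ulift : ULift.{v} ℕ ≃ ℕ) X
  have hr : ∀ k : ULift.{v} ℕ, Sigma.ι X' k ≫ r.hom = Sigma.ι X k.down := fun k =>
    Sigma.ι_reindex_hom (Equiv.ulift : ULift.{v} ℕ ≃ ℕ) X k
  obtain ⟨d, hd⟩ := (hE i (ULift.{v} ℕ) X').2 (α ≫ r.inv)
  have hd2 : α = ∑ k ∈ d.support, d k ≫ Sigma.ι X k.down := by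
    have h1 : CohDer.homSumToHomCoprod (E i) X' d = ∑ k ∈ d.support, d k ≫ Sigma.ι X' k := by
      conv_lhs => rw [← DirectSum.sum_support_of d]
      rw [map_sum]
      refine Finset.sum_congr rfl (fun k _ => ?_)
      exact homSumToHomCoprod_of (E i) X' k (d k)
    have h2 : α = (α ≫ r.inv) ≫ r.hom := by rw [Category.assoc, Iso.inv_hom_id, Category.comp_id]
    rw [h2, ← hd, h1, Preadditive.sum_comp]
    refine Finset.sum_congr rfl (fun k _ => ?_)
    rw [Category.assoc, hr]
  refine ⟨fun _ => i, fun n => d ⟨n⟩, ∑ k ∈ d.support, Sigma.ι (fun _ : ℕ => E i) k.down, ?_⟩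
  rw [Preadditive.sum_comp]
  conv_lhs => rw [hd2]
  refine Finset.sum_congr rfl (fun k _ => ?_)
  rw [Sigma.ι_map]

lemma h1s_of_generates (hgen : CohDer.Generates E) :
    ∀ X : D, ¬ IsZero X → ∃ (i : ι) (m : ℤ) (f : (E i)⟦m⟧ ⟶ X), f ≠ 0 := by
  intro X hX
  by_contra hcon
  push Not at hcon
  apply hX
  apply hgen X
  intro i n f
  have h0 := hcon i (-n) (f⟦-n⟧' ≫ (shiftFunctorCompIsoId D n (-n) (by simp)).hom.app X)
  apply (shiftFunctor D (-n)).map_injective
  rw [Functor.map_zero, ← cancel_mono ((shiftFunctorCompIsoId D n (-n) (by simp)).hom.app X), h0,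
    zero_comp]

end compact

section adjoint

variable {D : Type u} [Category.{v} D] [Preadditive D] [HasZeroObject D] [HasShift D ℤ]
  [∀ n : ℤ, (shiftFunctor D n).Additive] [Pretriangulated D]
  {D' : Type u'} [Category.{v} D'] [Preadditive D'] [HasZeroObject D'] [HasShift D' ℤ]
  [∀ n : ℤ, (shiftFunctor D' n).Additive] [Pretriangulated D']

theorem isLeftAdjoint_of_brown (F : D ⥤ D') [F.CommShift ℤ] [F.IsTriangulated]
    [∀ κ : Type v, PreservesColimitsOfShape (Discrete κ) F]
    (hrep : ∀ (H : Dᵒᵖ ⥤ AddCommGrpCat.{v}) [H.IsHomological]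
      [∀ κ : Type v, PreservesLimitsOfShape (Discrete κ) H],
      (H ⋙ forget AddCommGrpCat.{v}).IsRepresentable) : F.IsLeftAdjoint := by
  apply Functor.isLeftAdjoint_of_rightAdjointObjIsDefined_eq_top
  ext Y
  simp only [Pi.top_apply, Prop.top_eq_true, iff_true]
  rw [Functor.rightAdjointObjIsDefined_iff]
  let H : Dᵒᵖ ⥤ AddCommGrpCat.{v} := F.op ⋙ preadditiveYoneda.obj Y
  have : H.IsHomological := inferInstance
  have : ∀ κ : Type v, PreservesLimitsOfShape (Discrete κ) F.op := fun κ => by
    have : PreservesColimitsOfShape (Discrete κ)ᵒᵖ F :=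
      preservesColimitsOfShape_of_equiv (Discrete.opposite κ).symm F
    exact preservesLimitsOfShape_op (Discrete κ) F
  have : ∀ κ : Type v, PreservesLimitsOfShape (Discrete κ) H := fun κ => inferInstance
  exact hrep H

end adjoint

end Groth.Agent.Lib.helper27
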