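import Mathlib
import Groth.Prelude.Def_CohDer
import Groth.Agent.Lib.Helper27.BrownApp

set_option linter.unusedSectionVars false

namespace Groth.Agent.Lib.helper27

open CategoryTheory Limits Pretriangulated Opposite

universe w v u

section proj

variable {D : Type u} [Category.{v} D] [Preadditive D] {κ : Type w} (X : κ → D) [HasCoproduct X]

open Classical in
/-- projection of a coproduct onto the part indexed by a finset -/
noncomputable def sigmaP (s : Finset κ) : ∐ X ⟶ ∐ X :=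
  Limits.Sigma.desc (fun k => if k ∈ s then Sigma.ι X k else 0)

lemma ι_sigmaP_of_mem {s : Finset κ} {k : κ} (h : k ∈ s) :
    Sigma.ι X k ≫ sigmaP X s = Sigma.ι X k := by
  simp [sigmaP, h]

lemma ι_sigmaP_of_not_mem {s : Finset κ} {k : κ} (h : k ∉ s) :
    Sigma.ι X k ≫ sigmaP X s = 0 := by
  simp [sigmaP, h]

lemma sigmaP_comp_of_subset {s s' : Finset κ} (h : s ⊆ s') :
    sigmaP X s ≫ sigmaP X s' = sigmaP X s := by
  refine Sigma.hom_ext _ _ (fun k => ?_)
  by_cases hk : k ∈ s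
  · rw [← Category.assoc, ι_sigmaP_of_mem X hk, ι_sigmaP_of_mem X (h hk)]
  · rw [← Category.assoc, ι_sigmaP_of_not_mem X hk, zero_comp]

lemma sum_comp_sigmaP {K : D} (s : Finset κ) (β : ∀ k, K ⟶ X k) :
    (∑ k ∈ s, β k ≫ Sigma.ι X k) ≫ sigmaP X s = ∑ k ∈ s, β k ≫ Sigma.ι X k := by
  rw [Preadditive.sum_comp]
  refine Finset.sum_congr rfl (fun k hk => ?_)
  rw [Category.assoc, ι_sigmaP_of_mem X hk]

open Classical in
lemma sigmaP_eq_sum (s : Finset κ) :
    sigmaP X s = ∑ k ∈ s, Sigma.π X k ≫ Sigma.ι X k := by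
  refine Sigma.hom_ext _ _ (fun j => ?_)
  rw [Preadditive.comp_sum]
  by_cases hj : j ∈ s
  · rw [ι_sigmaP_of_mem X hj, Finset.sum_eq_single j]
    · rw [Sigma.ι_π_eq_id_assoc]
    · intro k _ hkj
      rw [Sigma.ι_π_of_ne_assoc X (Ne.symm hkj), zero_comp]
    · intro h; exact absurd hj h
  · rw [ι_sigmaP_of_not_mem X hj]
    symm
    refine Finset.sum_eq_zero (fun k hk => ?_)
    have : j ≠ k := fun h => hj (h ▸ hk)
    rw [Sigma.ι_π_of_ne_assoc X this, zero_comp]

lemma sigmaP_empty : sigmaP X (∅ : Finset κ) = 0 := by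
  refine Sigma.hom_ext _ _ (fun k => ?_)
  rw [ι_sigmaP_of_not_mem X (Finset.notMem_empty k), comp_zero]

end proj


section compactChar

variable {D : Type u} [Category.{v} D] [Preadditive D] [HasCoproducts.{v} D]

lemma homSumToHomCoprod_of' (K : D) {κ : Type v} [inst : DecidableEq κ] (X : κ → D) (k : κ)
    (x : K ⟶ X k) :
    CohDer.homSumToHomCoprod K X (DirectSum.of (fun i => K ⟶ X i) k x) = x ≫ Sigma.ι X k := by
  have : inst = (fun a b => Classical.propDecidable (a = b)) := Subsingleton.elim _ _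
  subst this
  classical
  unfold CohDer.homSumToHomCoprod
  rw [DirectSum.toAddMonoid_of]
  rfl

open Classical in
lemma homSumToHomCoprod_eq_sum (K : D) {κ : Type v} (X : κ → D)
    (d : DirectSum κ (fun i => K ⟶ X i)) :
    CohDer.homSumToHomCoprod K X d = ∑ k ∈ d.support, d k ≫ Sigma.ι X k := by
  conv_lhs => rw [← DirectSum.sum_support_of d]
  rw [map_sum]
  refine Finset.sum_congr rfl (fun k _ => ?_)
  exact homSumToHomCoprod_of' K X k (d k)

open Classical in
lemma homSumToHomCoprod_π (K : D) {κ : Type v} (X : κ → D)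
    (d : DirectSum κ (fun i => K ⟶ X i)) (j : κ) :
    CohDer.homSumToHomCoprod K X d ≫ Sigma.π X j = d j := by
  induction d using DirectSum.induction_on with
  | zero => simp
  | of k x =>
    rw [homSumToHomCoprod_of', Category.assoc]
    by_cases h : k = j
    · subst h
      rw [Sigma.ι_π_eq_id, Category.comp_id, DirectSum.of_eq_same]
    · rw [Sigma.ι_π_of_ne X h, comp_zero, DirectSum.of_eq_of_ne _ _ _ (Ne.symm h)]
  | add x y hx hy =>
    rw [map_add, Preadditive.add_comp, hx, hy]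
    rfl

/-- characterization of compact objects through finite support of maps to coproducts -/
theorem isCompactObject_iff (K : D) :
    CohDer.IsCompactObject K ↔
      ∀ (κ : Type v) (X : κ → D) (α : K ⟶ ∐ X), ∃ s : Finset κ, α ≫ sigmaP X s = α := by
  classical
  constructor
  · intro hK κ X α
    obtain ⟨d, hd⟩ := (hK κ X).2 α
    refine ⟨d.support, ?_⟩
    rw [← hd, homSumToHomCoprod_eq_sum, sum_comp_sigmaP]
  · intro h κ X
    constructor
    · rw [injective_iff_map_eq_zero]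
      intro d hd
      ext j
      rw [← homSumToHomCoprod_π K X d j, hd, zero_comp]
      rfl
    · intro α
      obtain ⟨s, hs⟩ := h κ X α
      refine ⟨∑ k ∈ s, DirectSum.of (fun i => K ⟶ X i) k (α ≫ Sigma.π X k), ?_⟩
      rw [map_sum]
      conv_rhs => rw [← hs, sigmaP_eq_sum, Preadditive.comp_sum]
      refine Finset.sum_congr rfl (fun k _ => ?_)
      rw [homSumToHomCoprod_of', Category.assoc]

end compactChar


section compactClosure

variable {D : Type u} [Category.{v} D] [Preadditive D] [HasZeroObject D] [HasShift D ℤ]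
  [∀ n : ℤ, (shiftFunctor D n).Additive] [Pretriangulated D] [HasCoproducts.{v} D]

lemma isCompactObject_of_iso {K K' : D} (e : K ≅ K') (hK : CohDer.IsCompactObject K) :
    CohDer.IsCompactObject K' := by
  rw [isCompactObject_iff] at hK ⊢
  intro κ X α
  obtain ⟨s, hs⟩ := hK κ X (e.hom ≫ α)
  refine ⟨s, ?_⟩
  rw [← cancel_epi e.hom, ← Category.assoc, hs]

lemma isCompactObject_of_isZero {K : D} (hK : IsZero K) : CohDer.IsCompactObject K := by
  rw [isCompactObject_iff]
  intro κ X α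
  exact ⟨∅, hK.eq_of_src _ _⟩

/-- the shift of a coproduct is a coproduct of shifts, with control on the injections -/
lemma exists_shift_sigma_iso (m : ℤ) {κ : Type v} (X : κ → D) :
    ∃ e : (∐ fun k => (X k)⟦-m⟧)⟦m⟧ ≅ ∐ X, ∀ k,
      (Sigma.ι (fun k => (X k)⟦-m⟧) k)⟦m⟧' ≫ e.hom =
        ((shiftFunctorCompIsoId D (-m) m (by simp)).app (X k)).hom ≫ Sigma.ι X k := by
  let t := shiftFunctor D m
  let X' : κ → D := fun n => (X n)⟦-m⟧
  let ε : ∀ n, (X' n)⟦m⟧ ≅ X n := fun n =>
    (shiftFunctorCompIsoId D (-m) m (by simp)).app (X n)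
  let c' : (∐ fun n => (X' n)⟦m⟧) ≅ (∐ X')⟦m⟧ := (PreservesCoproduct.iso t X').symm
  let e : (∐ X')⟦m⟧ ≅ ∐ X := c'.symm ≪≫ Sigma.mapIso ε
  have hce : c'.hom ≫ e.hom = Limits.Sigma.map (fun n => (ε n).hom) := by
    simp [e, Sigma.mapIso]
    rfl
  refine ⟨e, fun n => ?_⟩
  have h1 : Sigma.ι (fun n => (X' n)⟦m⟧) n ≫ c'.hom = t.map (Sigma.ι X' n) := by
    dsimp only [c']
    rw [Iso.symm_hom, PreservesCoproduct.inv_hom, ι_comp_sigmaComparison]
  change t.map (Sigma.ι X' n) ≫ e.hom = (ε n).hom ≫ Sigma.ι X n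
  rw [← h1, Category.assoc, hce, Sigma.ι_map]

/-- morphisms out of `(∐ X')⟦m⟧` are determined by their components -/
lemma shift_sigma_hom_ext' (m : ℤ) {κ : Type v} (X' : κ → D) {A : D}
    (f g : (∐ X')⟦m⟧ ⟶ A)
    (h : ∀ k, (Sigma.ι X' k)⟦m⟧' ≫ f = (Sigma.ι X' k)⟦m⟧' ≫ g) : f = g := by
  have hc := isColimitOfPreserves (shiftFunctor D m) (coproductIsCoproduct X')
  refine hc.hom_ext (fun ⟨j⟩ => ?_)
  exact h j

lemma isCompactObject_shift {K : D} (hK : CohDer.IsCompactObject K) (m : ℤ) :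
    CohDer.IsCompactObject (K⟦m⟧) := by
  rw [isCompactObject_iff] at hK ⊢
  intro κ X α
  obtain ⟨e, he⟩ := exists_shift_sigma_iso m X
  let t := shiftFunctor D m
  let α₁ : t.obj K ⟶ t.obj (∐ fun k => (X k)⟦-m⟧) := α ≫ e.inv
  obtain ⟨s, hs⟩ := hK κ _ (t.preimage α₁)
  refine ⟨s, ?_⟩
  have h1 : α = t.map (t.preimage α₁) ≫ e.hom := by
    rw [t.map_preimage]
    change α = (α ≫ e.inv) ≫ e.hom
    rw [Category.assoc, Iso.inv_hom_id, Category.comp_id]
  have h2 : e.hom ≫ sigmaP X s = t.map (sigmaP (fun k => (X k)⟦-m⟧) s) ≫ e.hom := by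
    refine shift_sigma_hom_ext' m _ _ _ (fun k => ?_)
    rw [← Category.assoc, he, ← Category.assoc, ← Functor.map_comp]
    by_cases hk : k ∈ s
    · rw [Category.assoc, ι_sigmaP_of_mem X hk, ι_sigmaP_of_mem _ hk, he]
    · rw [Category.assoc, ι_sigmaP_of_not_mem X hk, ι_sigmaP_of_not_mem _ hk, comp_zero,
        Functor.map_zero, zero_comp]
  conv_lhs => rw [h1]
  rw [Category.assoc, h2, ← Category.assoc, ← Functor.map_comp, hs, ← h1]

lemma isCompactObject_ext₂ (T : Triangle D) (hT : T ∈ distTriang D)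
    (h₁ : CohDer.IsCompactObject T.obj₁) (h₃ : CohDer.IsCompactObject T.obj₃) :
    CohDer.IsCompactObject T.obj₂ := by
  rw [isCompactObject_iff] at h₁ h₃ ⊢
  intro κ X α
  classical
  obtain ⟨s, hs⟩ := h₁ κ X (T.mor₁ ≫ α)
  have h0 : T.mor₁ ≫ (α - α ≫ sigmaP X s) = 0 := by
    rw [Preadditive.comp_sub, ← Category.assoc, hs, sub_self]
  obtain ⟨γ, hγ⟩ := Triangle.yoneda_exact₂ T hT _ h0
  obtain ⟨s', hs'⟩ := h₃ κ X γ
  refine ⟨s ∪ s', ?_⟩
  have h1 : α = α ≫ sigmaP X s + T.mor₂ ≫ γ := by rw [← hγ]; abel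
  conv_lhs => rw [h1]
  rw [Preadditive.add_comp, Category.assoc, sigmaP_comp_of_subset X Finset.subset_union_left,
    Category.assoc]
  conv_lhs => rw [← hs']
  rw [Category.assoc, sigmaP_comp_of_subset X Finset.subset_union_right, hs', ← h1]

instance isCompactObject_isClosedUnderIsomorphisms :
    ObjectProperty.IsClosedUnderIsomorphisms (fun K : D => CohDer.IsCompactObject K) where
  of_iso e h := isCompactObject_of_iso e h

open ZeroObject in
theorem isCompactObject_isTriangulated :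
    ObjectProperty.IsTriangulated (fun K : D => CohDer.IsCompactObject K) where
  exists_zero := ⟨(0 : D), isZero_zero D, isCompactObject_of_isZero (isZero_zero D)⟩
  isStableUnderShiftBy m := ⟨fun _ hK => isCompactObject_shift hK m⟩
  toIsTriangulatedClosed₂ := ObjectProperty.IsTriangulatedClosed₂.mk'
    (fun T hT h₁ h₃ => isCompactObject_ext₂ T hT h₁ h₃)

end compactClosure

end Groth.Agent.Lib.helper27
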