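import Mathlib
import Groth.Prelude.Def_CohDer
import Groth.Prelude.Def_DerLim
import Groth.Agent.Lib.Helper27.Compact

/-!
# Homotopy colimit presentations from the Brown tower (helper27)
-/

set_option linter.unusedSectionVars false

namespace Groth.Agent.Lib.helper27

open CategoryTheory Limits Pretriangulated Opposite
open CategoryTheory.Pretriangulated.Opposite

universe v u

section tower4

variable {D : Type u} [Category.{v} D] [Preadditive D] [HasZeroObject D] [HasShift D ℤ]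
  [∀ n : ℤ, (shiftFunctor D n).Additive] [Pretriangulated D]
  [HasColimitsOfShape (Discrete ℕ) D]
  {ι : Type v} {E : ι → D}
  {H : Dᵒᵖ ⥤ AddCommGrpCat.{v}} [H.IsHomological]
  [∀ κ : Type v, PreservesLimitsOfShape (Discrete κ) H]

namespace BTower

variable (T : BTower E H)

theorem exists_hocolim_triangle (h2 : BFactor E)
    (hsh : ∀ i, ∃ j, Nonempty (E j ≅ (E i)⟦(-1 : ℤ)⟧)) :
    ∃ (Xh : D) (π : ∐ T.X ⟶ Xh) (δ : Xh ⟶ (∐ T.X)⟦(1 : ℤ)⟧) (a : H.obj (op Xh)),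
      Triangle.mk (𝟙 (∐ T.X) - T.Φ) π δ ∈ distTriang D ∧
      (∀ n, bev H (Sigma.ι T.X n ≫ π) a = T.a n) ∧
      ∀ i, Function.Bijective (fun f : E i ⟶ Xh => bev H f a) := by
  obtain ⟨Xh, π, δ, hT⟩ := distinguished_cocone_triangle (𝟙 (∐ T.X) - T.Φ)
  -- the element `b`
  obtain ⟨b, hb⟩ := bev_exists_nat (H := H) (Cofan.mk (∐ T.X) (Sigma.ι T.X))
    (coproductIsCoproduct T.X) T.a
  have hb' : ∀ n, bev H (Sigma.ι T.X n) b = T.a n := hb
  have hb0 : bev H (𝟙 (∐ T.X) - T.Φ) b = 0 := by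
    refine bev_ext_nat (H := H) (Cofan.mk (∐ T.X) (Sigma.ι T.X)) (coproductIsCoproduct T.X) _ _
      (fun n => ?_)
    change bev H (Sigma.ι T.X n) _ = bev H (Sigma.ι T.X n) 0
    rw [bev_zero, ← bev_comp, Preadditive.comp_sub, Category.comp_id, T.ι_Φ, bev_sub_hom,
      bev_comp, hb', hb', T.ha, sub_self]
  obtain ⟨a, ha⟩ := bev_exact' (H := H) _ _ _ hT b hb0
  -- consequences of the triangle
  have hΦπ : ∀ n, Sigma.ι T.X n ≫ π = T.φ n ≫ Sigma.ι T.X (n + 1) ≫ π := fun n => by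
    have h0 : (𝟙 (∐ T.X) - T.Φ) ≫ π = 0 := comp_distTriang_mor_zero₁₂ _ hT
    have := Sigma.ι T.X n ≫= h0
    rw [comp_zero, Preadditive.sub_comp, Preadditive.comp_sub, Category.id_comp,
      ← Category.assoc, T.ι_Φ, Category.assoc, sub_eq_zero] at this
    exact this
  have htπ : ∀ n, T.t n ≫ Sigma.ι T.X n ≫ π = Sigma.ι T.X 0 ≫ π := fun n => by
    induction n with
    | zero => exact Category.id_comp _
    | succ n ih =>
      change (T.t n ≫ T.φ n) ≫ _ = _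
      rw [Category.assoc, ← hΦπ, ih]
  have hKπ : T.Km ≫ π = 0 := by
    have h0 : (𝟙 (∐ T.X) - T.Φ) ≫ π = 0 := comp_distTriang_mor_zero₁₂ _ hT
    have := T.Km ≫= h0
    rw [comp_zero, Preadditive.sub_comp, Preadditive.comp_sub, Category.id_comp,
      ← Category.assoc, T.Km_Φ, zero_comp, sub_zero] at this
    exact this
  have hTπ : T.Tm ≫ π = Limits.Sigma.desc (fun _ : ℕ => 𝟙 (T.X 0)) ≫ Sigma.ι T.X 0 ≫ π := by
    refine Sigma.hom_ext _ _ (fun n => ?_)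
    rw [Tm, Sigma.ι_map_assoc, htπ, Sigma.ι_desc_assoc, Category.id_comp]
  -- Step I: `π` is surjective on `E`-points
  have hI : ∀ i (α : E i ⟶ Xh), ∃ α' : E i ⟶ ∐ T.X, α = α' ≫ π := fun i α => by
    refine Triangle.coyoneda_exact₃ _ hT α ?_
    change α ≫ δ = 0
    apply eq_zero_of_shift_neg_one
    obtain ⟨j, ⟨e⟩⟩ := hsh i
    have h0 : δ ≫ (𝟙 (∐ T.X) - T.Φ)⟦(1 : ℤ)⟧' = 0 := comp_distTriang_mor_zero₃₁ _ hT
    have h1 := T.one_sub_Φ_inj h2 j (e.hom ≫ (α ≫ δ)⟦(-1 : ℤ)⟧' ≫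
      (shiftFunctorCompIsoId D (1 : ℤ) (-1) (by norm_num)).hom.app (∐ T.X)) (by
        have nat := (shiftFunctorCompIsoId D (1 : ℤ) (-1) (by norm_num)).hom.naturality
          (𝟙 (∐ T.X) - T.Φ)
        dsimp at nat
        rw [Category.assoc, Category.assoc, ← nat, ← Functor.map_comp_assoc, Category.assoc, h0,
          comp_zero, Functor.map_zero, zero_comp, comp_zero])
    rw [← cancel_epi e.hom, h1, comp_zero]
  refine ⟨Xh, π, δ, a, hT, fun n => ?_, fun i => ⟨?_, ?_⟩⟩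
  · rw [bev_comp, ha, hb']
  · -- injectivity
    intro α₁ α₂ h12
    dsimp at h12
    suffices hz : ∀ α : E i ⟶ Xh, bev H α a = 0 → α = 0 by
      have := hz (α₁ - α₂) (by rw [bev_sub_hom, h12, sub_self])
      exact sub_eq_zero.mp this
    intro α hα
    obtain ⟨α₀, rfl⟩ := hI i α
    obtain ⟨α', α'', rfl⟩ := T.dec h2 i α₀
    rw [Preadditive.add_comp, Category.assoc, Category.assoc, hKπ, comp_zero, add_zero, hTπ] at hα ⊢
    set x : E i ⟶ T.X 0 := α' ≫ Limits.Sigma.desc (fun _ : ℕ => 𝟙 (T.X 0)) with hx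
    have hxx : α' ≫ Limits.Sigma.desc (fun _ : ℕ => 𝟙 (T.X 0)) ≫ Sigma.ι T.X 0 ≫ π =
        x ≫ Sigma.ι T.X 0 ≫ π := by rw [hx, Category.assoc]
    have hx0 : bev H x (T.a 0) = 0 := by
      rw [← hb' 0, ← ha, ← bev_comp, ← bev_comp, Category.assoc, ← hxx]
      exact hα
    obtain ⟨g, hg⟩ := T.hlift 0 i x hx0
    rw [hxx, hΦπ, ← hg, Category.assoc, ← Category.assoc (T.κ 0), T.κφ, zero_comp, comp_zero]
  · -- surjectivity
    intro x
    obtain ⟨f, hf⟩ := T.hsurj i x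
    refine ⟨f ≫ Sigma.ι T.X 0 ≫ π, ?_⟩
    dsimp
    rw [bev_comp, bev_comp, ha, hb', hf]

end BTower

end tower4


section presentation

variable {D : Type u} [Category.{v} D] [Preadditive D] [HasZeroObject D] [HasShift D ℤ]
  [∀ n : ℤ, (shiftFunctor D n).Additive] [Pretriangulated D]
  [HasCoproducts.{v} D] [HasColimitsOfShape (Discrete ℕ) D]
  {ι : Type v} (E : ι → D) (X : D)

/-- the representable functor, with values in abelian groups -/
abbrev yH : Dᵒᵖ ⥤ AddCommGrpCat.{v} := preadditiveYoneda.obj X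

lemma bev_yH {Y Z : D} (f : Y ⟶ Z) (a : Z ⟶ X) : bev (yH X) f a = f ≫ a := rfl

/-- a stage of the construction of a presentation -/
structure PStage where
  Y : D
  a : Y ⟶ X

/-- the data of one step -/
structure PStep (s : PStage X) where
  κ : Type v
  idx : κ → ι
  sh : κ → ℤ
  Y' : D
  y : (∐ fun k => (E (idx k))⟦sh k⟧) ⟶ s.Y
  φ : s.Y ⟶ Y'
  z : Y' ⟶ (∐ fun k => (E (idx k))⟦sh k⟧)⟦(1 : ℤ)⟧
  a' : Y' ⟶ X
  tri : Triangle.mk y φ z ∈ distTriang D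
  ha : φ ≫ a' = s.a
  hlift : ∀ (i : ι) (m : ℤ) (f : (E i)⟦m⟧ ⟶ s.Y), f ≫ s.a = 0 →
    ∃ g : (E i)⟦m⟧ ⟶ ∐ fun k => (E (idx k))⟦sh k⟧, g ≫ y = f

lemma pstep_nonempty (s : PStage X) : Nonempty (PStep E X s) := by
  let S := Σ p : ι × ℤ, {f : (E p.1)⟦p.2⟧ ⟶ s.Y // f ≫ s.a = 0}
  let y : (∐ fun k : S => (E k.1.1)⟦k.1.2⟧) ⟶ s.Y := Limits.Sigma.desc (fun k => k.2.1)
  obtain ⟨Y', φ, z, hT⟩ := distinguished_cocone_triangle y
  have hy : y ≫ s.a = 0 := by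
    refine Sigma.hom_ext _ _ (fun k => ?_)
    rw [← Category.assoc, Sigma.ι_desc, comp_zero]
    exact k.2.2
  obtain ⟨a', ha'⟩ := Triangle.yoneda_exact₂ _ hT s.a hy
  exact ⟨⟨S, fun k => k.1.1, fun k => k.1.2, Y', y, φ, z, a', hT, ha'.symm,
    fun i m f hf => ⟨Sigma.ι (fun k : S => (E k.1.1)⟦k.1.2⟧) ⟨(i, m), f, hf⟩, by simp [y]⟩⟩⟩

/-- a choice of step -/
noncomputable def pstep (s : PStage X) : PStep E X s := (pstep_nonempty E X s).some

/-- the initial stage -/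
noncomputable def pstage₀ : PStage X :=
  ⟨∐ fun k : (Σ p : ι × ℤ, ((E p.1)⟦p.2⟧ ⟶ X)) => (E k.1.1)⟦k.1.2⟧,
    Limits.Sigma.desc (fun k => k.2)⟩

/-- the sequence of stages -/
noncomputable def pseq : ℕ → PStage X
  | 0 => pstage₀ E X
  | n + 1 => ⟨(pstep E X (pseq n)).Y', (pstep E X (pseq n)).a'⟩

/-- the tower -/
noncomputable def ptower : BTower (shiftedFamily E) (yH X) where
  X n := (pseq E X n).Y
  K n := ∐ fun k => (E ((pstep E X (pseq E X n)).idx k))⟦(pstep E X (pseq E X n)).sh k⟧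
  a n := (pseq E X n).a
  κ n := (pstep E X (pseq E X n)).y
  φ n := (pstep E X (pseq E X n)).φ
  κφ n := comp_distTriang_mor_zero₁₂ _ (pstep E X (pseq E X n)).tri
  ha n := (pstep E X (pseq E X n)).ha
  hlift n p f hf := (pstep E X (pseq E X n)).hlift p.1 p.2 f hf
  hsurj p x := ⟨Sigma.ι (fun k : (Σ p : ι × ℤ, ((E p.1)⟦p.2⟧ ⟶ X)) => (E k.1.1)⟦k.1.2⟧) ⟨p, x⟩, by
    change Sigma.ι (fun k : (Σ p : ι × ℤ, ((E p.1)⟦p.2⟧ ⟶ X)) => (E k.1.1)⟦k.1.2⟧) ⟨p, x⟩ ≫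
      Limits.Sigma.desc (fun k => k.2) = x
    rw [Sigma.ι_desc]⟩

theorem exists_hocolim_presentation (hc : ∀ i, CohDer.IsCompactObject (E i))
    (hg : CohDer.Generates E) :
    ∃ (K : ℕ → D) (f : ∀ n, K n ⟶ K (n + 1)) (i : ∀ n, K n ⟶ X),
      DerLim.IsHocolim K f X i ∧
      (∃ (κ : Type v) (a : κ → ι) (m : κ → ℤ),
        Nonempty (K 0 ≅ ∐ (fun k => (shiftFunctor D (m k)).obj (E (a k))))) ∧
      ∀ n, ∃ (κ : Type v) (a : κ → ι) (m : κ → ℤ)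
        (y : (∐ fun k => (shiftFunctor D (m k)).obj (E (a k))) ⟶ K n)
        (z : K (n + 1) ⟶ (shiftFunctor D (1 : ℤ)).obj
          (∐ fun k => (shiftFunctor D (m k)).obj (E (a k)))),
        Triangle.mk y (f n) z ∈ distTriang D := by
  let T := ptower E X
  obtain ⟨Xh, π, δ, a, hT, hιπ, hbij⟩ := T.exists_hocolim_triangle
    (shiftedFamily_factor E (bfactor_of_compact E hc)) (shiftedFamily_hsh E)
  have h1' : ∀ Y : D, ¬ IsZero Y → ∃ (p : ι × ℤ) (f : shiftedFamily E p ⟶ Y), f ≠ 0 :=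
    fun Y hY => by
      obtain ⟨i, m, f, hf⟩ := h1s_of_generates E hg Y hY
      exact ⟨(i, m), f, hf⟩
  let a' : Xh ⟶ X := a
  have hiso : IsIso a' := isIso_of_ebij (shiftedFamily E) h1' (shiftedFamily_hsh E) a' hbij
  have hπa : π ≫ a' = Limits.Sigma.desc (fun n => (T.a n : T.X n ⟶ X)) := by
    refine Sigma.hom_ext _ _ (fun n => ?_)
    rw [Sigma.ι_desc, ← Category.assoc]
    exact hιπ n
  refine ⟨T.X, T.φ, fun n => T.a n, ⟨inv a' ≫ δ, ?_⟩, ?_, fun n => ?_⟩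
  · refine isomorphic_distinguished _ hT _ (Triangle.isoMk
      (Triangle.mk (𝟙 (∐ T.X) - DerLim.shiftMap T.X T.φ)
        (Limits.Sigma.desc (fun n => (T.a n : T.X n ⟶ X))) (inv a' ≫ δ))
      (Triangle.mk (𝟙 (∐ T.X) - T.Φ) π δ) (Iso.refl _) (Iso.refl _)
      (asIso a').symm ?_ ?_ ?_)
    · change (𝟙 (∐ T.X) - DerLim.shiftMap T.X T.φ) ≫ 𝟙 _ = 𝟙 _ ≫ (𝟙 (∐ T.X) - T.Φ)
      rw [Category.comp_id, Category.id_comp]
      rfl
    · change Limits.Sigma.desc (fun n => (T.a n : T.X n ⟶ X)) ≫ inv a' = 𝟙 _ ≫ π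
      rw [Category.id_comp, ← hπa, Category.assoc, IsIso.hom_inv_id, Category.comp_id]
    · change (inv a' ≫ δ) ≫ (𝟙 (∐ T.X))⟦(1 : ℤ)⟧' = inv a' ≫ δ
      rw [CategoryTheory.Functor.map_id, Category.comp_id]
  · exact ⟨(Σ p : ι × ℤ, ((E p.1)⟦p.2⟧ ⟶ X)), fun k => k.1.1, fun k => k.1.2, ⟨Iso.refl _⟩⟩
  · exact ⟨_, (pstep E X (pseq E X n)).idx, (pstep E X (pseq E X n)).sh,
      (pstep E X (pseq E X n)).y, (pstep E X (pseq E X n)).z, (pstep E X (pseq E X n)).tri⟩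

end presentation

end Groth.Agent.Lib.helper27
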