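import Mathlib
import Groth.Prelude.Def_CohDer
import Groth.Agent.Lib.Helper27.Compact

set_option linter.unusedSectionVars false

namespace Groth.Agent.Lib.helper27

open CategoryTheory Limits Pretriangulated Opposite

universe w v u

section factor

variable {D : Type u} [Category.{v} D] [Preadditive D] [HasZeroObject D] [HasShift D ℤ]
  [∀ n : ℤ, (shiftFunctor D n).Additive] [Pretriangulated D] [HasCoproducts.{v} D]

lemma compact_shift_finSupp {C : D} (hC : CohDer.IsCompactObject C) {κ : Type v} (Z : κ → D)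
    (ψ : C ⟶ (∐ Z)⟦(1 : ℤ)⟧) : ∃ s : Finset κ, ψ ≫ (sigmaP Z s)⟦(1 : ℤ)⟧' = ψ := by
  let t := shiftFunctor D (1 : ℤ)
  let c : (∐ fun k => (Z k)⟦(1 : ℤ)⟧) ≅ (∐ Z)⟦(1 : ℤ)⟧ := (PreservesCoproduct.iso t Z).symm
  have hc : ∀ k, Sigma.ι (fun k => (Z k)⟦(1 : ℤ)⟧) k ≫ c.hom = t.map (Sigma.ι Z k) := fun k => by
    dsimp only [c]
    rw [Iso.symm_hom, PreservesCoproduct.inv_hom, ι_comp_sigmaComparison]
  obtain ⟨s, hs⟩ := (isCompactObject_iff C).1 hC κ _ (ψ ≫ c.inv)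
  refine ⟨s, ?_⟩
  have h2 : c.hom ≫ t.map (sigmaP Z s) = sigmaP (fun k => (Z k)⟦(1 : ℤ)⟧) s ≫ c.hom := by
    refine Sigma.hom_ext _ _ (fun k => ?_)
    rw [← Category.assoc, hc, ← Functor.map_comp, ← Category.assoc]
    by_cases hk : k ∈ s
    · rw [ι_sigmaP_of_mem Z hk, ι_sigmaP_of_mem _ hk, hc]
    · rw [ι_sigmaP_of_not_mem Z hk, ι_sigmaP_of_not_mem _ hk, Functor.map_zero, zero_comp]
  have h3 : ψ = (ψ ≫ c.inv) ≫ c.hom := by rw [Category.assoc, Iso.inv_hom_id, Category.comp_id]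
  conv_lhs => rw [h3]
  change ((ψ ≫ c.inv) ≫ c.hom) ≫ t.map (sigmaP Z s) = ψ
  rw [Category.assoc, h2, ← Category.assoc, hs, ← h3]

lemma finite_part (Q : ObjectProperty D) [Q.IsTriangulated] [Q.IsClosedUnderIsomorphisms]
    {κ : Type v} (Z : κ → D) (s₀ : Finset κ) (hZ : ∀ k ∈ s₀, Q (Z k)) :
    ∃ (E' : D) (ρ : ∐ Z ⟶ E') (j : E' ⟶ ∐ Z), Q E' ∧ ρ ≫ j = sigmaP Z s₀ := by
  classical
  induction s₀ using Finset.induction_on with
  | empty =>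
    obtain ⟨Z₀, hZ₀, hQ⟩ := Q.exists_prop_of_containsZero
    refine ⟨Z₀, 0, 0, hQ, ?_⟩
    rw [sigmaP_empty, zero_comp]
  | insert k s hk ih =>
    obtain ⟨E', ρ, j, hE', hρj⟩ := ih (fun l hl => hZ l (Finset.mem_insert_of_mem hl))
    refine ⟨E' ⊞ Z k, biprod.lift ρ (Sigma.π Z k), biprod.desc j (Sigma.ι Z k), ?_, ?_⟩
    · exact Q.ext_of_isTriangulatedClosed₂ _ (binaryBiproductTriangle_distinguished E' (Z k))
        hE' (hZ k (Finset.mem_insert_self k s))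
    · rw [biprod.lift_desc, hρj, sigmaP_eq_sum, sigmaP_eq_sum, Finset.sum_insert hk, add_comm]


theorem compact_factors (Q : ObjectProperty D) [Q.IsTriangulated] [Q.IsClosedUnderIsomorphisms]
    (hQc : ∀ X, Q X → CohDer.IsCompactObject X)
    (K : ℕ → D) (f : ∀ n, K n ⟶ K (n + 1))
    (h0 : ∃ (κ : Type v) (Z : κ → D), (∀ k, Q (Z k)) ∧ Nonempty (K 0 ≅ ∐ Z))
    (hstep : ∀ n, ∃ (κ : Type v) (Z : κ → D) (y : ∐ Z ⟶ K n) (z : K (n + 1) ⟶ (∐ Z)⟦(1 : ℤ)⟧),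
      (∀ k, Q (Z k)) ∧ Triangle.mk y (f n) z ∈ distTriang D) :
    ∀ (n : ℕ) (C : D), CohDer.IsCompactObject C → ∀ φ : C ⟶ K n,
      ∃ (E' : D) (g : C ⟶ E') (h : E' ⟶ K n), Q E' ∧ g ≫ h = φ := by
  intro n
  induction n with
  | zero =>
    intro C hC φ
    obtain ⟨κ, Z, hZ, ⟨e⟩⟩ := h0
    obtain ⟨s₀, hs₀⟩ := (isCompactObject_iff C).1 hC κ Z (φ ≫ e.hom)
    obtain ⟨E', ρ, j, hE', hρj⟩ := finite_part Q Z s₀ (fun k _ => hZ k)
    refine ⟨E', φ ≫ e.hom ≫ ρ, j ≫ e.inv, hE', ?_⟩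
    have h1 : (φ ≫ e.hom ≫ ρ) ≫ j ≫ e.inv = ((φ ≫ e.hom) ≫ (ρ ≫ j)) ≫ e.inv := by
      simp only [Category.assoc]
    rw [h1, hρj, hs₀, Category.assoc, Iso.hom_inv_id, Category.comp_id]
  | succ n ih =>
    intro C hC φ
    obtain ⟨κ, Z, y, z, hZ, hT⟩ := hstep n
    obtain ⟨s₀, hs₀⟩ := compact_shift_finSupp hC Z (φ ≫ z)
    obtain ⟨E', ρ, j, hE', hρj⟩ := finite_part Q Z s₀ (fun k _ => hZ k)
    let ψ' : C ⟶ E'⟦(1 : ℤ)⟧ := (φ ≫ z) ≫ ρ⟦(1 : ℤ)⟧'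
    have hψ' : ψ' ≫ j⟦(1 : ℤ)⟧' = φ ≫ z := by
      dsimp only [ψ']
      rw [Category.assoc, ← Functor.map_comp, hρj, hs₀]
    obtain ⟨C', u, w, hT'⟩ := distinguished_cocone_triangle₂ ψ'
    have hC' : CohDer.IsCompactObject C' := isCompactObject_ext₂ _ hT' (hQc E' hE') hC
    obtain ⟨θ, hθ1, hθ2⟩ : ∃ θ : C' ⟶ K n, u ≫ θ = j ≫ y ∧ w ≫ φ = θ ≫ f n :=
      complete_distinguished_triangle_morphism₂ _ _ hT' hT j φ hψ'
    obtain ⟨E'', g'', h'', hE'', hfac⟩ := ih C' hC' θ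
    obtain ⟨E₃, p, q, hT₃⟩ := distinguished_cocone_triangle (u ≫ g'')
    have hE₃ : Q E₃ := Q.ext_of_isTriangulatedClosed₃ _ hT₃ hE' hE''
    obtain ⟨r, hr1, hr2⟩ : ∃ r : C ⟶ E₃, w ≫ r = g'' ≫ p ∧
        ψ' ≫ (𝟙 E')⟦(1 : ℤ)⟧' = r ≫ q :=
      complete_distinguished_triangle_morphism _ _ hT' hT₃ (𝟙 E') g'' (by
        change u ≫ g'' = 𝟙 E' ≫ (u ≫ g'')
        rw [Category.id_comp])
    obtain ⟨t, ht1, ht2⟩ : ∃ t : E₃ ⟶ K (n + 1), p ≫ t = h'' ≫ f n ∧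
        q ≫ j⟦(1 : ℤ)⟧' = t ≫ z :=
      complete_distinguished_triangle_morphism _ _ hT₃ hT j h'' (by
        change (u ≫ g'') ≫ h'' = j ≫ y
        rw [Category.assoc, hfac, hθ1])
    have h0 : (φ - r ≫ t) ≫ z = 0 := by
      rw [Preadditive.sub_comp, Category.assoc, ← ht2, ← Category.assoc, ← hr2,
        CategoryTheory.Functor.map_id, Category.comp_id, hψ', sub_self]
    obtain ⟨φ₁, hφ₁⟩ : ∃ φ₁ : C ⟶ K n, φ - r ≫ t = φ₁ ≫ f n :=
      Triangle.coyoneda_exact₃ _ hT (φ - r ≫ t) h0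
    obtain ⟨E₄, g₁, h₁, hE₄, hfac₁⟩ := ih C hC φ₁
    refine ⟨E₃ ⊞ E₄, biprod.lift r g₁, biprod.desc t (h₁ ≫ f n), ?_, ?_⟩
    · exact Q.ext_of_isTriangulatedClosed₂ _ (binaryBiproductTriangle_distinguished E₃ E₄)
        hE₃ hE₄
    · rw [biprod.lift_desc, ← Category.assoc, hfac₁, ← hφ₁]
      abel

end factor


section envelope

variable {D : Type u} [Category.{v} D] [Preadditive D] [HasZeroObject D] [HasShift D ℤ]
  [∀ n : ℤ, (shiftFunctor D n).Additive] [Pretriangulated D] [IsTriangulated D]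
  {ι : Type v} (E : ι → D)

/-- the triangulated envelope of a finite subfamily -/
abbrev finEnv (s : Finset ι) : ObjectProperty D :=
  ObjectProperty.triangEnvelope (fun Y : D => ∃ i ∈ s, Y = E i)

lemma finEnv_mono {s s' : Finset ι} (h : s ⊆ s') : finEnv E s ≤ finEnv E s' :=
  ObjectProperty.monotone_triangEnvelope (fun _ ⟨i, hi, hY⟩ => ⟨i, h hi, hY⟩)

/-- objects lying in the envelope of some finite subfamily -/
def unionEnv : ObjectProperty D := fun X => ∃ s : Finset ι, finEnv E s X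

instance : (unionEnv E).IsClosedUnderIsomorphisms where
  of_iso := by
    rintro X Y e ⟨s, hs⟩
    exact ⟨s, (finEnv E s).prop_of_iso e hs⟩

lemma unionEnv_E (i : ι) (m : ℤ) : unionEnv E ((E i)⟦m⟧) := by
  refine ⟨{i}, ?_⟩
  have h : finEnv E {i} (E i) :=
    ObjectProperty.le_triangEnvelope _ _ ⟨i, Finset.mem_singleton_self i, rfl⟩
  exact (finEnv E {i}).le_shift m _ h

open Classical in
instance [Nonempty ι] : (unionEnv E).IsTriangulated where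
  exists_zero := by
    obtain ⟨i₀⟩ := ‹Nonempty ι›
    have : ObjectProperty.Nonempty (fun Y : D => ∃ i ∈ ({i₀} : Finset ι), Y = E i) :=
      ⟨⟨E i₀, i₀, Finset.mem_singleton_self i₀, rfl⟩⟩
    obtain ⟨Z, hZ, hQ⟩ := (finEnv E {i₀}).exists_prop_of_containsZero
    exact ⟨Z, hZ, {i₀}, hQ⟩
  isStableUnderShiftBy m := ⟨by
    rintro X ⟨s, hs⟩
    exact ⟨s, (finEnv E s).le_shift m _ hs⟩⟩
  toIsTriangulatedClosed₂ := ObjectProperty.IsTriangulatedClosed₂.mk' (by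
    rintro T hT ⟨s, hs⟩ ⟨s', hs'⟩
    exact ⟨s ∪ s', (finEnv E (s ∪ s')).ext_of_isTriangulatedClosed₂ T hT
      (finEnv_mono E Finset.subset_union_left _ hs)
      (finEnv_mono E Finset.subset_union_right _ hs')⟩)


theorem compact_map_factors_finEnv [HasCoproducts.{v} D] [Nonempty ι]
    (hc : ∀ i, CohDer.IsCompactObject (E i))
    (K : ℕ → D) (f : ∀ n, K n ⟶ K (n + 1))
    (h0 : ∃ (κ : Type v) (a : κ → ι) (m : κ → ℤ),
      Nonempty (K 0 ≅ ∐ (fun k => (shiftFunctor D (m k)).obj (E (a k)))))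
    (hstep : ∀ n, ∃ (κ : Type v) (a : κ → ι) (m : κ → ℤ)
      (y : (∐ fun k => (shiftFunctor D (m k)).obj (E (a k))) ⟶ K n)
      (z : K (n + 1) ⟶ (shiftFunctor D (1 : ℤ)).obj (∐ fun k => (shiftFunctor D (m k)).obj (E (a k)))),
      Triangle.mk y (f n) z ∈ distTriang D)
    (C : D) (hC : CohDer.IsCompactObject C) (n : ℕ) (φ : C ⟶ K n) :
    ∃ (s : Finset ι) (E' : D) (g : C ⟶ E') (h : E' ⟶ K n),
      ObjectProperty.triangEnvelope (fun Y : D => ∃ i ∈ s, Y = E i) E' ∧ g ≫ h = φ := by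
  let Q : ObjectProperty D := unionEnv E ⊓ (fun K : D => CohDer.IsCompactObject K)
  have : ObjectProperty.IsTriangulated (fun K : D => CohDer.IsCompactObject K) :=
    isCompactObject_isTriangulated
  have hQE : ∀ (i : ι) (m : ℤ), Q ((E i)⟦m⟧) := fun i m =>
    ⟨unionEnv_E E i m, isCompactObject_shift (hc i) m⟩
  obtain ⟨E', g, h, ⟨⟨s, hs⟩, -⟩, hfac⟩ := compact_factors Q (fun X hX => hX.2) K f
    (by
      obtain ⟨κ, a, m, he⟩ := h0
      exact ⟨κ, fun k => (E (a k))⟦m k⟧, fun k => hQE _ _, he⟩)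
    (fun n => by
      obtain ⟨κ, a, m, y, z, hT⟩ := hstep n
      exact ⟨κ, fun k => (E (a k))⟦m k⟧, y, z, fun k => hQE _ _, hT⟩) n C hC φ
  exact ⟨s, E', g, h, hs, hfac⟩

end envelope

end Groth.Agent.Lib.helper27
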