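import Mathlib
import Groth.Prelude.Def_CohDer
import Groth.Prelude.Def_DerLim
import Groth.Agent.Lib.Helper27.BrownTower
import Groth.Agent.Lib.Helper27.CompactFactor

set_option linter.unusedSectionVars false

namespace Groth.Agent.Lib.helper27

open CategoryTheory Limits Pretriangulated Opposite

universe v u

section hocolimCompact

variable {D : Type u} [Category.{v} D] [Preadditive D] [HasZeroObject D] [HasShift D ℤ]
  [∀ n : ℤ, (shiftFunctor D n).Additive] [Pretriangulated D]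
  [HasCoproducts.{v} D] [HasColimitsOfShape (Discrete ℕ) D]

lemma eq_zero_of_shift_inj {A B : D} (f : A ⟶ B) (W : D)
    (hf : ∀ g : W⟦(-1 : ℤ)⟧ ⟶ A, g ≫ f = 0 → g = 0) (g : W ⟶ A⟦(1 : ℤ)⟧)
    (hg : g ≫ f⟦(1 : ℤ)⟧' = 0) : g = 0 := by
  apply eq_zero_of_shift_neg_one
  apply hf
  have nat := (shiftFunctorCompIsoId D (1 : ℤ) (-1) (by norm_num)).hom.naturality f
  dsimp at nat
  rw [Category.assoc, ← nat, ← Functor.map_comp_assoc, hg, Functor.map_zero, zero_comp]

/-- finite support for maps from a compact object to a countable coproduct -/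
lemma compact_finSupp_nat {W : D} (hW : CohDer.IsCompactObject W) (K : ℕ → D) (ψ : W ⟶ ∐ K) :
    ∃ N : ℕ, ψ ≫ sigmaP K (Finset.range (N + 1)) = ψ := by
  -- pass to `ULift ℕ`
  let K' : ULift.{v} ℕ → D := fun k => K k.down
  let r : ∐ K' ≅ ∐ K := Sigma.reindex (Equiv.ulift : ULift.{v} ℕ ≃ ℕ) K
  have hr : ∀ k : ULift.{v} ℕ, Sigma.ι K' k ≫ r.hom = Sigma.ι K k.down := fun k =>
    Sigma.ι_reindex_hom (Equiv.ulift : ULift.{v} ℕ ≃ ℕ) K k
  obtain ⟨s, hs⟩ := (isCompactObject_iff W).1 hW _ K' (ψ ≫ r.inv)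
  let N := (s.image ULift.down).sup id
  refine ⟨N, ?_⟩
  have h2 : r.hom ≫ sigmaP K (Finset.range (N + 1)) =
      sigmaP K' (s ∪ (Finset.range (N + 1)).map ⟨ULift.up, ULift.up_injective⟩) ≫ r.hom := by
    refine Sigma.hom_ext _ _ (fun k => ?_)
    rw [← Category.assoc, hr, ← Category.assoc]
    by_cases hk : k.down ∈ Finset.range (N + 1)
    · have hk' : k ∈ s ∪ (Finset.range (N + 1)).map ⟨ULift.up, ULift.up_injective⟩ :=
        Finset.mem_union_right _ (Finset.mem_map.2 ⟨k.down, hk, rfl⟩)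
      rw [ι_sigmaP_of_mem K hk, ι_sigmaP_of_mem K' hk', hr]
    · have hk' : k ∉ s ∪ (Finset.range (N + 1)).map ⟨ULift.up, ULift.up_injective⟩ := by
        intro h
        rcases Finset.mem_union.1 h with h | h
        · apply hk
          rw [Finset.mem_range, Nat.lt_succ_iff]
          exact Finset.le_sup (f := id) (Finset.mem_image_of_mem ULift.down h)
        · obtain ⟨n, hn, rfl⟩ := Finset.mem_map.1 h
          exact hk hn
      rw [ι_sigmaP_of_not_mem K hk, ι_sigmaP_of_not_mem K' hk', zero_comp]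
  have h3 : ψ = (ψ ≫ r.inv) ≫ r.hom := by rw [Category.assoc, Iso.inv_hom_id, Category.comp_id]
  conv_lhs => rw [h3]
  rw [Category.assoc, h2, ← Category.assoc, ← hs, Category.assoc (ψ ≫ r.inv),
    sigmaP_comp_of_subset K' Finset.subset_union_left, hs, ← h3]


lemma sigmaP_eq_sum' {κ : Type*} [DecidableEq κ] (X : κ → D) [HasCoproduct X] (s : Finset κ) :
    sigmaP X s = ∑ k ∈ s, Sigma.π X k ≫ Sigma.ι X k := by
  refine Sigma.hom_ext _ _ (fun j => ?_)
  rw [Preadditive.comp_sum]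
  by_cases hj : j ∈ s
  · rw [ι_sigmaP_of_mem X hj, Finset.sum_eq_single j]
    · rw [Sigma.ι_π_eq_id_assoc]
    · intro k _ hkj
      rw [Sigma.ι_π_of_ne_assoc X (Ne.symm hkj), zero_comp]
    · intro h; exact absurd hj h
  · rw [ι_sigmaP_of_not_mem X hj]
    symm
    refine Finset.sum_eq_zero (fun k hk => ?_)
    have : j ≠ k := fun h => hj (h ▸ hk)
    rw [Sigma.ι_π_of_ne_assoc X this, zero_comp]

lemma shiftMap_π_zero (K : ℕ → D) (f : ∀ n, K n ⟶ K (n + 1)) :
    DerLim.shiftMap K f ≫ Sigma.π K 0 = 0 := by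
  refine Sigma.hom_ext _ _ (fun n => ?_)
  rw [DerLim.shiftMap, Sigma.ι_desc_assoc, Category.assoc,
    Sigma.ι_π_of_ne K (Nat.succ_ne_zero n), comp_zero, comp_zero]

lemma shiftMap_π_succ (K : ℕ → D) (f : ∀ n, K n ⟶ K (n + 1)) (m : ℕ) :
    DerLim.shiftMap K f ≫ Sigma.π K (m + 1) = Sigma.π K m ≫ f m := by
  refine Sigma.hom_ext _ _ (fun n => ?_)
  rw [DerLim.shiftMap, Sigma.ι_desc_assoc, Category.assoc]
  by_cases h : n = m
  · subst h
    rw [Sigma.ι_π_eq_id, Category.comp_id, Sigma.ι_π_eq_id_assoc]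
  · have h' : n + 1 ≠ m + 1 := fun h' => h (Nat.succ_injective h')
    rw [Sigma.ι_π_of_ne K h', comp_zero, Sigma.ι_π_of_ne_assoc K h, zero_comp]

lemma compact_one_sub_shift_inj (K : ℕ → D) (f : ∀ n, K n ⟶ K (n + 1)) {W : D}
    (hW : CohDer.IsCompactObject W) (ψ : W ⟶ ∐ K)
    (h : ψ ≫ (𝟙 _ - DerLim.shiftMap K f) = 0) : ψ = 0 := by
  have h1 : ψ = ψ ≫ DerLim.shiftMap K f := by
    rw [Preadditive.comp_sub, Category.comp_id, sub_eq_zero] at h
    exact h
  have hβ : ∀ m, ψ ≫ Sigma.π K m = 0 := by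
    intro m
    induction m with
    | zero =>
      rw [h1, Category.assoc, shiftMap_π_zero, comp_zero]
    | succ m ih =>
      rw [h1, Category.assoc, shiftMap_π_succ, ← Category.assoc, ih, zero_comp]
  obtain ⟨N, hN⟩ := compact_finSupp_nat hW K ψ
  rw [← hN, sigmaP_eq_sum', Preadditive.comp_sum]
  refine Finset.sum_eq_zero (fun n _ => ?_)
  rw [← Category.assoc, hβ, zero_comp]

lemma compact_factors_through_stage (K : ℕ → D) (f : ∀ n, K n ⟶ K (n + 1)) (L : D)
    (i : ∀ n, K n ⟶ L) (hL : DerLim.IsHocolim K f L i) {W : D}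
    (hW : CohDer.IsCompactObject W) (φ : W ⟶ L) :
    ∃ (n : ℕ) (φ' : W ⟶ K n), φ' ≫ i n = φ := by
  obtain ⟨c, hT⟩ := hL
  have hi : ∀ n, i n = f n ≫ i (n + 1) := fun n => by
    have h0 : (𝟙 (∐ K) - DerLim.shiftMap K f) ≫ Limits.Sigma.desc i = 0 :=
      comp_distTriang_mor_zero₁₂ _ hT
    have := Sigma.ι K n ≫= h0
    rw [comp_zero, Preadditive.sub_comp, Preadditive.comp_sub, Category.id_comp, Sigma.ι_desc,
      DerLim.shiftMap, Sigma.ι_desc_assoc, Category.assoc, Sigma.ι_desc, sub_eq_zero] at this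
    exact this
  have hφc : φ ≫ c = 0 := by
    refine eq_zero_of_shift_inj (𝟙 (∐ K) - DerLim.shiftMap K f) W (fun g hg => ?_) (φ ≫ c) ?_
    · exact compact_one_sub_shift_inj K f (isCompactObject_shift hW (-1)) g hg
    · have h0 : c ≫ (𝟙 (∐ K) - DerLim.shiftMap K f)⟦(1 : ℤ)⟧' = 0 :=
        comp_distTriang_mor_zero₃₁ _ hT
      rw [Category.assoc, h0, comp_zero]
  obtain ⟨φ₀, hφ₀⟩ : ∃ φ₀ : W ⟶ ∐ K, φ = φ₀ ≫ Limits.Sigma.desc i :=
    Triangle.coyoneda_exact₃ _ hT φ hφc
  obtain ⟨N, hN⟩ := compact_finSupp_nat hW K φ₀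
  have key : ∀ (N : ℕ) (φ₀ : W ⟶ ∐ K), φ₀ ≫ sigmaP K (Finset.range (N + 1)) = φ₀ →
      ∃ φ' : W ⟶ K N, φ' ≫ i N = φ₀ ≫ Limits.Sigma.desc i := by
    intro N
    induction N with
    | zero =>
      intro φ₀ h
      refine ⟨φ₀ ≫ Sigma.π K 0, ?_⟩
      conv_rhs => rw [← h, sigmaP_eq_sum']
      simp
    | succ N ih =>
      intro φ₀ h
      obtain ⟨φ'', hφ''⟩ := ih (φ₀ ≫ sigmaP K (Finset.range (N + 1))) (by
        rw [Category.assoc, sigmaP_comp_of_subset K (Finset.Subset.refl _)])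
      refine ⟨φ'' ≫ f N + φ₀ ≫ Sigma.π K (N + 1), ?_⟩
      rw [Preadditive.add_comp, Category.assoc, ← hi, hφ'']
      conv_rhs => rw [← h, sigmaP_eq_sum' K (Finset.range (N + 1 + 1)), Finset.sum_range_succ,
        ← sigmaP_eq_sum']
      rw [Preadditive.comp_add, Preadditive.add_comp, Category.assoc, Category.assoc,
        Category.assoc, Category.assoc, Sigma.ι_desc]
  obtain ⟨φ', hφ'⟩ := key N φ₀ hN
  exact ⟨N, φ', by rw [hφ', hφ₀]⟩

end hocolimCompact


section generators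

variable {D : Type u} [Category.{v} D] [Preadditive D] [HasZeroObject D] [HasShift D ℤ]
  [∀ n : ℤ, (shiftFunctor D n).Additive] [Pretriangulated D] [IsTriangulated D]
  [HasCoproducts.{v} D] [HasColimitsOfShape (Discrete ℕ) D]

/-- objects with no nonzero maps to any shift of `K` -/
def leftOrthShift (K : D) : ObjectProperty D := fun Y => ∀ (n : ℤ) (f : Y ⟶ K⟦n⟧), f = 0

instance (K : D) : (leftOrthShift K).IsClosedUnderIsomorphisms where
  of_iso := by
    intro X Y e hX n f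
    have := hX n (e.hom ≫ f)
    rw [← cancel_epi e.hom, this, comp_zero]

instance (K : D) : (leftOrthShift K).IsStableUnderRetracts where
  of_retract := by
    intro X Y r hY n f
    have := hY n (r.r ≫ f)
    rw [← Category.id_comp f, ← r.retract, Category.assoc, this, comp_zero]

open ZeroObject in
instance (K : D) : (leftOrthShift K).IsTriangulated where
  exists_zero := ⟨(0 : D), isZero_zero D, fun _ _ => (isZero_zero D).eq_of_src _ _⟩
  isStableUnderShiftBy m := ⟨by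
    intro Y hY n f
    apply (shiftFunctor D (-m)).map_injective
    rw [Functor.map_zero]
    have h0 := hY (n + (-m)) ((shiftFunctorCompIsoId D m (-m) (by simp)).inv.app Y ≫
      f⟦-m⟧' ≫ (shiftFunctorAdd D n (-m)).inv.app K)
    have h1 : f⟦-m⟧' = (shiftFunctorCompIsoId D m (-m) (by simp)).hom.app Y ≫
        ((shiftFunctorCompIsoId D m (-m) (by simp)).inv.app Y ≫
      f⟦-m⟧' ≫ (shiftFunctorAdd D n (-m)).inv.app K) ≫ (shiftFunctorAdd D n (-m)).hom.app K := by
      simp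
    rw [h1, h0, zero_comp, comp_zero]⟩
  toIsTriangulatedClosed₂ := ObjectProperty.IsTriangulatedClosed₂.mk' (by
    intro T hT h₁ h₃ n f
    obtain ⟨g, hg⟩ := Triangle.yoneda_exact₂ T hT f (h₁ n _)
    rw [hg, h₃ n g, comp_zero])

theorem generates_iff_classical_generator (E : D) (hE : CohDer.IsCompactObject E) :
    CohDer.Generates (fun _ : Unit => E) ↔
      (CohDer.IsCompactlyGenerated D ∧ ∀ X : D, CohDer.IsCompactObject X →
        ObjectProperty.triangEnvelope (fun Y : D => Y = E) X) := by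
  constructor
  · intro hgen
    have hg' : CohDer.Generates (fun _ : PUnit.{v + 1} => E) :=
      fun K h => hgen K (fun _ n f => h PUnit.unit n f)
    refine ⟨⟨PUnit.{v + 1}, fun _ => E, fun _ => hE, hg'⟩, fun X hX => ?_⟩
    obtain ⟨K, f, i, hL, h0, hstep⟩ :=
      exists_hocolim_presentation (fun _ : PUnit.{v + 1} => E) X (fun _ => hE) hg'
    obtain ⟨n, φ', hφ'⟩ := compact_factors_through_stage K f X i hL hX (𝟙 X)
    obtain ⟨s, E'', g, h, hEnv, hfac⟩ :=
      compact_map_factors_finEnv (fun _ : PUnit.{v + 1} => E) (fun _ => hE) K f h0 hstep X hX n φ'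
    have hEnv' : ObjectProperty.triangEnvelope (fun Y : D => Y = E) E'' :=
      ObjectProperty.monotone_triangEnvelope (fun Y ⟨_, _, hY⟩ => hY) _ hEnv
    exact ObjectProperty.prop_of_retract _
      (⟨g, h ≫ i n, by rw [← Category.assoc, hfac, hφ']⟩ : Retract X E'') hEnv'
  · rintro ⟨⟨ι, S, hSc, hSg⟩, hall⟩ K hK
    have hle : ObjectProperty.triangEnvelope (fun Y : D => Y = E) ≤ leftOrthShift K := by
      rw [ObjectProperty.triangEnvelope_le_iff]
      rintro Y rfl n f
      exact hK () n f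
    exact hSg K (fun j n f => hle _ (hall (S j) (hSc j)) n f)

end generators

end Groth.Agent.Lib.helper27
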