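import Mathlib
import Groth.Agent.Lib.Helper25.KInjMain

/-!
# The derived category of a Grothendieck abelian category is locally small

`hasDerivedCategorySmall B : HasDerivedCategory.{v} B` for `B` Grothendieck abelian with
`Category.{v} B`, using K-injective resolutions (helper25's `KInjMain`).
-/

set_option autoImplicit false

namespace Groth.Agent.Lib.helper27.DerSmall

open CategoryTheory Limits

universe v u

variable (B : Type u) [Category.{v} B] [Abelian B] [IsGrothendieckAbelian.{v} B]

attribute [local instance] HasDerivedCategory.standard in
theorem locallySmall : LocallySmall.{v} (DerivedCategory B) where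
  hom_small X Y := by
    obtain ⟨I, f, hI, hf, -, -⟩ :=
      Groth.Agent.Lib.Helper25.KInjMain.exists_kInjective_resolution (DerivedCategory.Q.objPreimage Y)
    have : IsIso (DerivedCategory.Q.map f) := by
      rw [DerivedCategory.isIso_Q_map_iff_quasiIso]; exact hf
    let eY : Y ≅ DerivedCategory.Qh.obj ((HomotopyCategory.quotient B (ComplexShape.up ℤ)).obj I) :=
      (DerivedCategory.Q.objObjPreimageIso Y).symm ≪≫ asIso (DerivedCategory.Q.map f) ≪≫
        ((DerivedCategory.quotientCompQhIso B).app I).symm
    let eX : X ≅ DerivedCategory.Qh.obj ((HomotopyCategory.quotient B (ComplexShape.up ℤ)).obj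
        (DerivedCategory.Q.objPreimage X)) :=
      (DerivedCategory.Q.objObjPreimageIso X).symm ≪≫
        ((DerivedCategory.quotientCompQhIso B).app _).symm
    have hb := CochainComplex.IsKInjective.Qh_map_bijective
      ((HomotopyCategory.quotient B (ComplexShape.up ℤ)).obj (DerivedCategory.Q.objPreimage X)) I
    exact small_map ((Iso.homCongr eX eY).trans (Equiv.ofBijective _ hb).symm)

/-- a derived category with small morphism types -/
@[instance_reducible]
noncomputable def hasDerivedCategorySmall : HasDerivedCategory.{v} B :=
  letI := HasDerivedCategory.standard B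
  haveI := locallySmall B
  { D := ShrinkHoms (DerivedCategory B)
    L := DerivedCategory.Q ⋙ (ShrinkHoms.equivalence (DerivedCategory B)).functor
    hL := inferInstance }

end Groth.Agent.Lib.helper27.DerSmall
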