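import Mathlib
import Groth.Prelude.Def_DerLim
import Groth.Agent.Lib.Helper27.TelescopeHom

set_option linter.unusedSectionVars false

namespace Groth.Agent.Lib.helper27

open CategoryTheory Limits Pretriangulated

universe w v u

section

variable {A : Type u} [Category.{v} A] [Abelian A] [HasDerivedCategory.{w} A]
    [HasColimitsOfShape ℕ A] [HasExactColimitsOfShape ℕ A]

theorem Q_colimit_isHocolim
    (L : ℕ ⥤ CochainComplex A ℤ) [HasCoproduct L.obj]
    [PreservesColimit (Discrete.functor L.obj) (DerivedCategory.Q (C := A))]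
    [HasCoproduct (fun n => DerivedCategory.Q.obj (L.obj n))] :
    DerLim.IsHocolim (fun n => DerivedCategory.Q.obj (L.obj n))
      (fun n => DerivedCategory.Q.map (L.map (homOfLE (Nat.le_succ n))))
      (DerivedCategory.Q.obj (colimit L)) (fun n => DerivedCategory.Q.map (colimit.ι L n)) := by
  obtain ⟨w, hS⟩ := telescope_shortExact L (colimit.cocone L) (colimit.isColimit L)
  have hT := DerivedCategory.triangleOfSES_distinguished hS
  let σ := sigmaComparison (DerivedCategory.Q (C := A)) L.obj
  have hσ : IsIso σ := inferInstanceAs (IsIso (sigmaComparison (DerivedCategory.Q (C := A)) L.obj))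
  have h1 := sigmaComparison_map_one_sub_shiftMap (DerivedCategory.Q (C := A)) L.obj
    (fun n => L.map (homOfLE (Nat.le_succ n)))
  have h2 := sigmaComparison_map_desc (DerivedCategory.Q (C := A)) L.obj (fun n => colimit.ι L n)
  refine ⟨DerivedCategory.triangleOfSESδ hS ≫ (inv σ)⟦(1 : ℤ)⟧', ?_⟩
  refine isomorphic_distinguished _ hT _ ?_
  let e : (∐ fun n => DerivedCategory.Q.obj (L.obj n)) ≅ DerivedCategory.Q.obj (∐ L.obj) := asIso σ
  refine Triangle.isoMk _ _ e e (Iso.refl _) ?_ ?_ ?_
  · exact h1.symm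
  · change Sigma.desc _ ≫ 𝟙 _ = σ ≫ DerivedCategory.Q.map (Sigma.desc _)
    rw [Category.comp_id]
    exact h2.symm
  · change (DerivedCategory.triangleOfSESδ hS ≫ (inv σ)⟦(1 : ℤ)⟧') ≫ σ⟦(1 : ℤ)⟧' =
      𝟙 _ ≫ DerivedCategory.triangleOfSESδ hS
    rw [Category.assoc, ← Functor.map_comp, IsIso.inv_hom_id, CategoryTheory.Functor.map_id, Category.comp_id,
      Category.id_comp]

end

end Groth.Agent.Lib.helper27
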