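import Groth.Agent.Lib.Helper27.DerivedGhost

open CategoryTheory Limits

universe w v u

namespace Groth.Agent.Lib.helper27

section

open DerivedCategory Pretriangulated

variable {A : Type u} [Category.{v} A] [Abelian A] [HasDerivedCategory.{w} A]

/-- A morphism from an object of `D^{≤ m}` to `Q L` factors through `Q (τ_{≤ m} L)`. -/
theorem factors_truncLE (X : DerivedCategory A) (m : ℤ) [X.IsLE m] (L : CochainComplex A ℤ)
    (ψ : X ⟶ Q.obj L) : ∃ φ : X ⟶ Q.obj (L.truncLE m), φ ≫ Q.map (L.ιTruncLE m) = ψ := by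
  obtain ⟨M, hM, ⟨e⟩⟩ := exists_iso_Q_obj_of_isLE X m
  obtain ⟨M', hM', s, hs, g, hg⟩ := right_fac_of_isStrictlyLE (e.inv ≫ ψ) m
  refine ⟨e.hom ≫ inv (Q.map s) ≫ Q.map (inv (M'.ιTruncLE m) ≫ CochainComplex.truncLEMap g m), ?_⟩
  rw [Category.assoc, Category.assoc, ← Functor.map_comp, Category.assoc,
    CochainComplex.ιTruncLE_naturality, IsIso.inv_hom_id_assoc, ← hg, e.hom_inv_id_assoc]

/-- A morphism from `Q L` to an object of `D^{≥ m}` factors through `Q (τ_{≥ m} L)`. -/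
theorem factors_truncGE (Y : DerivedCategory A) (m : ℤ) [Y.IsGE m] (L : CochainComplex A ℤ)
    (ψ : Q.obj L ⟶ Y) : ∃ φ : Q.obj (L.truncGE m) ⟶ Y, Q.map (L.πTruncGE m) ≫ φ = ψ := by
  obtain ⟨M, hM, ⟨e⟩⟩ := exists_iso_Q_obj_of_isGE Y m
  obtain ⟨M', hM', g, s, hs, hg⟩ := left_fac_of_isStrictlyGE (ψ ≫ e.hom) m
  refine ⟨Q.map (CochainComplex.truncGEMap g m ≫ inv (M'.πTruncGE m)) ≫ inv (Q.map s) ≫ e.inv, ?_⟩
  rw [← Category.assoc, ← Functor.map_comp, CochainComplex.πTruncGE_naturality_assoc,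
    IsIso.hom_inv_id, Category.comp_id, ← Category.assoc, ← hg, Category.assoc, e.hom_inv_id,
    Category.comp_id]

/-- A morphism from an object of `D^{≤ m}` to `Q L` which is zero on `H^m` factors through
`Q (τ_{≤ m - 1} L)`. -/
theorem factors_truncLE_of_ghost (X : DerivedCategory A) (m m' : ℤ) (hm : m' + 1 = m) [X.IsLE m]
    (L : CochainComplex A ℤ) (ψ : X ⟶ Q.obj L) (hψ : (homologyFunctor A m).map ψ = 0) :
    ∃ φ : X ⟶ Q.obj (L.truncLE m'), φ ≫ Q.map (L.ιTruncLE m') = ψ := by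
  let t := TStructure.t (C := A)
  have hT := t.triangleLEGE_distinguished m' m hm (Q.obj L)
  have h1 : ((t.truncGE m).obj (Q.obj L)).IsGE m := inferInstanceAs (t.IsGE ((t.truncGE m).obj (Q.obj L)) m)
  have h2 : ψ ≫ (t.truncGEπ m).app (Q.obj L) = 0 := by
    apply ghost_zero m
    rw [Functor.map_comp, hψ, zero_comp]
  obtain ⟨ψ', hψ'⟩ := coyoneda_clean ((t.truncLEι m').app (Q.obj L)) ((t.truncGEπ m).app (Q.obj L)) _ hT ψ h2
  have h3 : ((t.truncLE m').obj (Q.obj L)).IsLE m' :=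
    inferInstanceAs (t.IsLE ((t.truncLE m').obj (Q.obj L)) m')
  obtain ⟨w, hw⟩ := factors_truncLE _ m' L ((t.truncLEι m').app (Q.obj L))
  exact ⟨ψ' ≫ w, by rw [Category.assoc, hw, hψ']⟩

/-- A morphism from `Q L` to an object of `D^{≥ m}` which is zero on `H^m` factors through
`Q (τ_{≥ m + 1} L)`. -/
theorem factors_truncGE_of_ghost (Y : DerivedCategory A) (m m' : ℤ) (hm : m + 1 = m') [Y.IsGE m]
    (L : CochainComplex A ℤ) (ψ : Q.obj L ⟶ Y) (hψ : (homologyFunctor A m).map ψ = 0) :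
    ∃ φ : Q.obj (L.truncGE m') ⟶ Y, Q.map (L.πTruncGE m') ≫ φ = ψ := by
  let t := TStructure.t (C := A)
  have hT := t.triangleLEGE_distinguished m m' hm (Q.obj L)
  have h1 : ((t.truncLE m).obj (Q.obj L)).IsLE m := inferInstanceAs (t.IsLE ((t.truncLE m).obj (Q.obj L)) m)
  have h2 : (t.truncLEι m).app (Q.obj L) ≫ ψ = 0 := by
    apply ghost_zero m
    rw [Functor.map_comp, hψ, comp_zero]
  obtain ⟨ψ', hψ'⟩ := yoneda_clean ((t.truncLEι m).app (Q.obj L)) ((t.truncGEπ m').app (Q.obj L)) _ hT ψ h2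
  have h3 : ((t.truncGE m').obj (Q.obj L)).IsGE m' :=
    inferInstanceAs (t.IsGE ((t.truncGE m').obj (Q.obj L)) m')
  obtain ⟨w, hw⟩ := factors_truncGE _ m' L ((t.truncGEπ m').app (Q.obj L))
  exact ⟨w ≫ ψ', by rw [← Category.assoc, hw, hψ']⟩

theorem homologyFunctor_map_Q_eq_zero {K L : CochainComplex A ℤ} (g : K ⟶ L) (m : ℤ)
    (hg : HomologicalComplex.homologyMap g m = 0) : (homologyFunctor A m).map (Q.map g) = 0 := by
  have := homologyFunctorFactors_hom_naturality g m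
  refine (cancel_mono ((homologyFunctorFactors A m).hom.app L)).1 (this.trans ?_)
  rw [hg, zero_comp]
  exact comp_zero

end

end Groth.Agent.Lib.helper27
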