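import Mathlib

set_option autoImplicit false
set_option linter.unusedSectionVars false
set_option linter.unusedVariables false

namespace Groth.Agent.Lib.helper27

open CategoryTheory Limits HomologicalComplex

universe v u

namespace SESInj

variable {C : Type u} [Category.{v} C] [Abelian C] [EnoughInjectives C]

section emb

variable (B : CochainComplex C ℤ) (n : ℤ)

/-- the injective hulls of the terms -/
noncomputable abbrev J (k : ℤ) : C := Injective.under (B.X k)

/-- the coinduced complex, indexed by `ℕ` -/
noncomputable def E' : CochainComplex C ℕ :=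
  CochainComplex.of
    (fun m => J B ((ComplexShape.embeddingUpIntGE n).f m) ⊞ J B ((ComplexShape.embeddingUpIntGE n).f (m + 1)))
    (fun m => biprod.snd ≫ biprod.inl) (fun m => by simp)

/-- the coinduced complex -/
noncomputable def E : CochainComplex C ℤ := (E' B n).extend (ComplexShape.embeddingUpIntGE n)

instance : (E B n).IsStrictlyGE n := by
  dsimp [E]; infer_instance

lemma injective_E'_X (m : ℕ) : Injective ((E' B n).X m) := by
  dsimp [E', CochainComplex.of]
  infer_instance

lemma injective_E_X (k : ℤ) : Injective ((E B n).X k) := by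
  by_cases hk : ∃ m : ℕ, (ComplexShape.embeddingUpIntGE n).f m = k
  · obtain ⟨m, hm⟩ := hk
    have := injective_E'_X B n m
    exact Injective.of_iso ((E' B n).extendXIso (ComplexShape.embeddingUpIntGE n) hm).symm
      inferInstance
  · have : IsZero ((E B n).X k) :=
      isZero_extend_X _ _ _ (by simpa using hk)
    exact this.injective

/-- the map to the coinduced complex, on the restriction -/
noncomputable def φ' : B.restriction (ComplexShape.embeddingUpIntGE n) ⟶ E' B n where
  f m := biprod.lift (Injective.ι _)
    (B.d ((ComplexShape.embeddingUpIntGE n).f m) ((ComplexShape.embeddingUpIntGE n).f (m + 1)) ≫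
      Injective.ι _)
  comm' i j hij := by
    obtain rfl : i + 1 = j := hij
    dsimp [E']
    rw [CochainComplex.of_d]
    apply biprod.hom_ext
    · simp
      rfl
    · simp
      exact ((B.d_comp_d_assoc _ _ _ _).trans zero_comp).symm

variable [B.IsStrictlyGE n]

lemma hasLift_φ' : (ComplexShape.embeddingUpIntGE n).HasLift (φ' B n) := by
  intro j hj i' hi'
  have hz : IsZero (B.X i') := by
    refine B.isZero_of_isStrictlyGE n i' ?_
    have h1 : i' + 1 = n + j := hi'
    have h2 : j = 0 := (ComplexShape.boundaryGE_embeddingUpIntGE_iff n j).1 hj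
    subst h2
    simp at h1
    omega
  exact hz.eq_of_src _ _

/-- the embedding into the coinduced complex -/
noncomputable def emb : B ⟶ E B n :=
  (ComplexShape.embeddingUpIntGE n).liftExtend (φ' B n) (hasLift_φ' B n)

instance mono_emb : Mono (emb B n) := by
  apply HomologicalComplex.mono_of_mono_f
  intro k
  by_cases hk : ∃ m : ℕ, (ComplexShape.embeddingUpIntGE n).f m = k
  · obtain ⟨m, hm⟩ := hk
    refine ((ComplexShape.embeddingUpIntGE n).mono_liftExtend_f_iff (φ' B n) (hasLift_φ' B n) hm).2 ?_
    have : CategoryTheory.Mono (CategoryTheory.Injective.ι (B.X ((ComplexShape.embeddingUpIntGE n).f m))) := CategoryTheory.Injective.ι_mono _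
    have fac : (φ' B n).f m ≫ biprod.fst = Injective.ι (B.X ((ComplexShape.embeddingUpIntGE n).f m)) :=
      biprod.lift_fst _ _
    exact @mono_of_mono_fac _ _ _ _ _ _ _ _ this fac
  · have hz : IsZero (B.X k) := by
      refine B.isZero_of_isStrictlyGE n k ?_
      by_contra hlt
      exact hk ⟨(k - n).toNat, by simp only [ComplexShape.embeddingUpIntGE_f]; omega⟩
    exact ⟨fun g h _ => hz.eq_of_tgt _ _⟩

end emb

end SESInj

end Groth.Agent.Lib.helper27
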