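import Mathlib
import Groth.Agent.Lib.Helper27.SESInj1

set_option autoImplicit false
set_option linter.unusedSectionVars false
set_option linter.unusedVariables false

namespace Groth.Agent.Lib.helper27

open CategoryTheory Limits HomologicalComplex

universe v u

namespace SESInj

variable {C : Type u} [Category.{v} C] [Abelian C]

section five

open ComposableArrows

variable {S₁ S₂ : ShortComplex (CochainComplex C ℤ)} (φ : S₁ ⟶ S₂)
  (hS₁ : S₁.ShortExact) (hS₂ : S₂.ShortExact)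

include hS₁ hS₂ in
lemma quasiIso_τ₁ (h₂ : QuasiIso φ.τ₂) (h₃ : QuasiIso φ.τ₃) : QuasiIso φ.τ₁ := by
  rw [quasiIso_iff]
  intro j
  rw [quasiIsoAt_iff_isIso_homologyMap]
  have hij : (ComplexShape.up ℤ).Rel (j - 1) j := by simp
  have e2 : ∀ i, IsIso (homologyMap φ.τ₂ i) := fun i =>
    (quasiIsoAt_iff_isIso_homologyMap _ _).1 inferInstance
  have e3 : ∀ i, IsIso (homologyMap φ.τ₃ i) := fun i =>
    (quasiIsoAt_iff_isIso_homologyMap _ _).1 inferInstance
  exact Abelian.isIso_of_epi_of_isIso_of_isIso_of_mono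
    (HomologySequence.composableArrows₅_exact hS₁ (j - 1) j hij).δ₀
    (HomologySequence.composableArrows₅_exact hS₂ (j - 1) j hij).δ₀
    (δ₀Functor.map (HomologySequence.mapComposableArrows₅ φ hS₁ hS₂ (j - 1) j hij))
    (show Epi (homologyMap φ.τ₂ (j - 1)) from inferInstance)
    (show IsIso (homologyMap φ.τ₃ (j - 1)) from inferInstance)
    (show IsIso (homologyMap φ.τ₂ j) from inferInstance)
    (show Mono (homologyMap φ.τ₃ j) from inferInstance)

end five

section main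

open CochainComplex

variable [EnoughInjectives C]

lemma fst_mem (K L : CochainComplex C ℤ) (hL : ∀ k, Injective (L.X k)) :
    degreewiseEpiWithInjectiveKernel (biprod.fst : K ⊞ L ⟶ K) := by
  intro k
  rw [Abelian.epiWithInjectiveKernel_iff]
  refine ⟨L.X k, hL k, (biprod.inr : L ⟶ K ⊞ L).f k, ?_, ⟨?_⟩⟩
  · rw [← HomologicalComplex.comp_f, biprod.inr_fst, HomologicalComplex.zero_f]
  · exact
      { r := (biprod.snd : K ⊞ L ⟶ L).f k
        s := (biprod.inl : K ⟶ K ⊞ L).f k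
        f_r := by
          show (biprod.inr : L ⟶ K ⊞ L).f k ≫ (biprod.snd : K ⊞ L ⟶ L).f k = 𝟙 _
          rw [← HomologicalComplex.comp_f, biprod.inr_snd, HomologicalComplex.id_f]
        s_g := by
          show (biprod.inl : K ⟶ K ⊞ L).f k ≫ (biprod.fst : K ⊞ L ⟶ K).f k = 𝟙 _
          rw [← HomologicalComplex.comp_f, biprod.inl_fst, HomologicalComplex.id_f]
        id := by
          show (biprod.snd : K ⊞ L ⟶ L).f k ≫ (biprod.inr : L ⟶ K ⊞ L).f k +
            (biprod.fst : K ⊞ L ⟶ K).f k ≫ (biprod.inl : K ⟶ K ⊞ L).f k = 𝟙 _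
          rw [← HomologicalComplex.comp_f, ← HomologicalComplex.comp_f,
            ← HomologicalComplex.add_f_apply, add_comm, biprod.total, HomologicalComplex.id_f] }

lemma isStrictlyGE_biprod (K L : CochainComplex C ℤ) (n : ℤ) [K.IsStrictlyGE n]
    [L.IsStrictlyGE n] : (K ⊞ L).IsStrictlyGE n := by
  rw [isStrictlyGE_iff]
  intro i hi
  rw [IsZero.iff_id_eq_zero, ← HomologicalComplex.id_f, ← biprod.total,
    HomologicalComplex.add_f_apply, HomologicalComplex.comp_f, HomologicalComplex.comp_f,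
    (K.isZero_of_isStrictlyGE n i hi).eq_of_tgt ((biprod.fst : K ⊞ L ⟶ K).f i) 0,
    (L.isZero_of_isStrictlyGE n i hi).eq_of_tgt ((biprod.snd : K ⊞ L ⟶ L).f i) 0]
  simp

lemma injective_of_mem {K L : CochainComplex C ℤ} (ρ : K ⟶ L)
    (hρ : degreewiseEpiWithInjectiveKernel ρ) (hL : ∀ k, Injective (L.X k)) (k : ℤ) :
    Injective (K.X k) := by
  obtain ⟨I, hI, f, w, ⟨σ⟩⟩ := (Abelian.epiWithInjectiveKernel_iff _).1 (hρ k)
  have := hL k
  have : Injective (I ⊞ L.X k) := inferInstance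
  exact Injective.of_iso σ.isoBinaryBiproduct.symm this

theorem main (S : ShortComplex (CochainComplex C ℤ)) (hS : S.ShortExact) (n : ℤ)
    [S.X₁.IsStrictlyGE n] [S.X₂.IsStrictlyGE n] [S.X₃.IsStrictlyGE n] :
    ∃ (T : ShortComplex (CochainComplex C ℤ)) (φ : S ⟶ T), T.ShortExact ∧
      T.X₁.IsStrictlyGE n ∧ T.X₂.IsStrictlyGE n ∧ T.X₃.IsStrictlyGE n ∧
      (∀ k : ℤ, Injective (T.X₁.X k) ∧ Injective (T.X₂.X k) ∧ Injective (T.X₃.X k)) ∧
      QuasiIso φ.τ₁ ∧ QuasiIso φ.τ₂ ∧ QuasiIso φ.τ₃ := by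
  obtain ⟨I₃, c, hc, hI₃, hI₃'⟩ :=
    CochainComplex.Plus.modelCategoryQuillen.exists_quasiIso_injective S.X₃ n
  have hE : ∀ k, Injective ((E S.X₂ n).X k) := injective_E_X S.X₂ n
  let f : S.X₂ ⟶ I₃ ⊞ E S.X₂ n := biprod.lift (S.g ≫ c) (emb S.X₂ n)
  have hf : Mono f := mono_of_mono_fac (biprod.lift_snd (S.g ≫ c) (emb S.X₂ n))
  have hL : (I₃ ⊞ E S.X₂ n).IsStrictlyGE n := isStrictlyGE_biprod _ _ n
  obtain ⟨K', hK', ι, π, hι, hι', hπ, fac⟩ :=
    CochainComplex.Plus.modelCategoryQuillen.cm5a_cof f n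
  let ρ : K' ⟶ I₃ := π ≫ biprod.fst
  have hρ : degreewiseEpiWithInjectiveKernel ρ :=
    MorphismProperty.comp_mem _ _ _ hπ (fst_mem I₃ (E S.X₂ n) hE)
  have hιρ : ι ≫ ρ = S.g ≫ c := by
    show ι ≫ π ≫ biprod.fst = _
    rw [← Category.assoc, fac]
    exact biprod.lift_fst _ _
  have hρepi : Epi ρ := hρ.epi
  let T : ShortComplex (CochainComplex C ℤ) := ShortComplex.mk (kernel.ι ρ) ρ (kernel.condition ρ)
  have hT : T.ShortExact :=
    ShortComplex.ShortExact.mk' (ShortComplex.exact_of_f_is_kernel _ (kernelIsKernel ρ))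
      (inferInstanceAs (Mono (kernel.ι ρ))) hρepi
  have hz : (S.f ≫ ι) ≫ ρ = 0 := by
    rw [Category.assoc, hιρ, ← Category.assoc, S.zero, zero_comp]
  let φ : S ⟶ T :=
    { τ₁ := kernel.lift ρ (S.f ≫ ι) hz
      τ₂ := ι
      τ₃ := c
      comm₁₂ := kernel.lift_ι _ _ _
      comm₂₃ := hιρ }
  have hK'inj : ∀ k, Injective (K'.X k) := injective_of_mem ρ hρ hI₃
  have hker : (kernel ρ).IsStrictlyGE n := by
    rw [isStrictlyGE_iff]
    intro i hi
    have : Mono ((kernel.ι ρ).f i) := inferInstance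
    exact IsZero.of_mono ((kernel.ι ρ).f i) (K'.isZero_of_isStrictlyGE n i hi)
  have hkerinj : ∀ k, Injective ((kernel ρ).X k) := by
    intro k
    have h1 : Injective (kernel (ρ.f k)) := (hρ k).2
    exact Injective.of_iso (PreservesKernel.iso (HomologicalComplex.eval C _ k) ρ).symm h1
  refine ⟨T, φ, hT, hker, hK', hI₃', fun k => ⟨hkerinj k, hK'inj k, hI₃ k⟩, ?_, hι', hc⟩
  exact quasiIso_τ₁ φ hS hT hι' hc

end main

end SESInj

end Groth.Agent.Lib.helper27
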