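import Mathlib

/-!
# Ghost maps in the derived category (helper27)

* `chain_zero`: a chain map from a complex strictly `≤ n` to a complex strictly `≥ n` which is zero on `H^n` is zero.
* `ghost_zero`: a morphism `X ⟶ Y` in `D(A)` with `X ∈ D^{≤ n}`, `Y ∈ D^{≥ n}` which is zero on `H^n` is zero.
* `coyoneda_clean`, `yoneda_clean`: exactness of Hom for distinguished triangles with clean types.
-/

open CategoryTheory Limits

universe w v u

namespace Groth.Agent.Lib.helper27


open DerivedCategory Pretriangulated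

variable {A : Type u} [Category.{v} A] [Abelian A]

theorem chain_zero (K L : CochainComplex A ℤ) (n : ℤ) [K.IsStrictlyLE n] [L.IsStrictlyGE n] (g : K ⟶ L)
    (hg : HomologicalComplex.homologyMap g n = 0) : g = 0 := by
  ext i
  rcases lt_trichotomy i n with hi | rfl | hi
  · exact (L.isZero_of_isStrictlyGE n i hi).eq_of_tgt _ _
  · have h1 : IsIso (L.homologyπ i) :=
      L.isIso_homologyπ (i - 1) i (by simp) ((L.isZero_of_isStrictlyGE i (i - 1) (by lia)).eq_of_src _ _)
    have h2 : IsIso (K.iCycles i) :=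
      K.isIso_iCycles i (i + 1) (by simp) ((K.isZero_of_isStrictlyLE i (i + 1) (by lia)).eq_of_tgt _ _)
    have h3 : HomologicalComplex.cyclesMap g i = 0 := by
      rw [← cancel_mono (L.homologyπ i), zero_comp, ← HomologicalComplex.homologyπ_naturality, hg, comp_zero]
    rw [← cancel_epi (K.iCycles i), ← HomologicalComplex.cyclesMap_i, h3]
    simp
  · exact (K.isZero_of_isStrictlyLE n i hi).eq_of_src _ _

variable [HasDerivedCategory.{w} A]

theorem ghost_zero {X Y : DerivedCategory A} (n : ℤ) [X.IsLE n] [Y.IsGE n] (f : X ⟶ Y)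
    (hf : (homologyFunctor A n).map f = 0) : f = 0 := by
  obtain ⟨K, hK, ⟨eX⟩⟩ := exists_iso_Q_obj_of_isLE X n
  obtain ⟨L, hL, ⟨eY⟩⟩ := exists_iso_Q_obj_of_isGE Y n
  suffices h : eX.inv ≫ f ≫ eY.hom = 0 by
    have : f = eX.hom ≫ (eX.inv ≫ f ≫ eY.hom) ≫ eY.inv := by simp
    rw [this, h]; simp
  have hf' : (homologyFunctor A n).map (eX.inv ≫ f ≫ eY.hom) = 0 := by
    rw [Functor.map_comp, Functor.map_comp, hf]; simp
  generalize eX.inv ≫ f ≫ eY.hom = f' at hf'
  obtain ⟨K', hK', s, hs, g, rfl⟩ := right_fac_of_isStrictlyLE f' n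
  have hg : (homologyFunctor A n).map (Q.map g) = 0 := by
    have : Q.map g = Q.map s ≫ (inv (Q.map s) ≫ Q.map g) := by simp
    rw [this, Functor.map_comp, hf', comp_zero]
  have hg' : HomologicalComplex.homologyMap g n = 0 := by
    have := homologyFunctorFactors_hom_naturality g n
    rw [hg, zero_comp] at this
    exact (cancel_epi ((homologyFunctorFactors A n).hom.app K')).1 (this.symm.trans comp_zero.symm)
  rw [chain_zero K' L n g hg']
  simp


section

open DerivedCategory Pretriangulated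

variable {A : Type u} [Category.{v} A] [Abelian A] [HasDerivedCategory.{w} A]

theorem coyoneda_clean {X₁ X₂ X₃ W : DerivedCategory A} (i : X₁ ⟶ X₂) (p : X₂ ⟶ X₃) (d : X₃ ⟶ X₁⟦(1 : ℤ)⟧)
    (hT : Triangle.mk i p d ∈ distTriang _) (h : W ⟶ X₂) (hh : h ≫ p = 0) : ∃ g : W ⟶ X₁, h = g ≫ i :=
  Triangle.coyoneda_exact₂ _ hT h hh

theorem yoneda_clean {X₁ X₂ X₃ W : DerivedCategory A} (i : X₁ ⟶ X₂) (p : X₂ ⟶ X₃) (d : X₃ ⟶ X₁⟦(1 : ℤ)⟧)
    (hT : Triangle.mk i p d ∈ distTriang _) (h : X₂ ⟶ W) (hh : i ≫ h = 0) : ∃ g : X₃ ⟶ W, h = p ≫ g :=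
  Triangle.yoneda_exact₂ _ hT h hh

end

end Groth.Agent.Lib.helper27
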