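import Mathlib

/-!
# Representability transfers along a reflective localization

If `L ⊣ R` with invertible counit (i.e. `R` fully faithful) and `H : 𝒯'ᵒᵖ ⥤ Type v` is such that
`L.op ⋙ H` is representable, then `H` is representable.
-/

set_option autoImplicit false

namespace Groth.Agent.Lib.helper27.BrownTransfer

open CategoryTheory Opposite

universe v u u'

variable {T : Type u} [Category.{v} T] {T' : Type u'} [Category.{v} T']
  {L : T ⥤ T'} {R : T' ⥤ T} (adj : L ⊣ R) [IsIso adj.counit]
  (H : T'ᵒᵖ ⥤ Type v)

include adj in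
theorem isRepresentable_of_adj (h : (L.op ⋙ H).IsRepresentable) : H.IsRepresentable := by
  obtain ⟨X, ⟨θ⟩⟩ := h
  -- naturality of θ
  have hθ : ∀ {M M' : T} (f : M ⟶ M') (g : M' ⟶ X),
      θ.homEquiv (f ≫ g) = H.map (L.map f).op (θ.homEquiv g) := fun f g => θ.homEquiv_comp f g
  let u : H.obj (op (L.obj X)) := θ.homEquiv (𝟙 X)
  have hu : ∀ {M : T} (t : M ⟶ X), θ.homEquiv t = H.map (L.map t).op u := fun t => by
    have := hθ t (𝟙 X)
    rwa [Category.comp_id] at this
  let η := adj.unit.app X
  have hLη : L.map η ≫ adj.counit.app (L.obj X) = 𝟙 _ := adj.left_triangle_components X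
  have : IsIso (L.map η) := by
    have : L.map η = inv (adj.counit.app (L.obj X)) := by
      rw [← cancel_mono (adj.counit.app (L.obj X)), hLη, IsIso.inv_hom_id]
    rw [this]; infer_instance
  -- a retraction of η
  let r : R.obj (L.obj X) ⟶ X := θ.homEquiv.symm (H.map (inv (L.map η)).op u)
  have hr : η ≫ r = 𝟙 X := by
    apply θ.homEquiv.injective
    rw [hθ, Equiv.apply_symm_apply, ← Functor.map_comp_apply, ← op_comp,
      IsIso.hom_inv_id, op_id, Functor.map_id_apply]
  have hLr : L.map r = adj.counit.app (L.obj X) := by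
    have h1 : L.map η ≫ L.map r = 𝟙 _ := by rw [← L.map_comp, hr]; exact L.map_id _
    rw [← cancel_epi (L.map η), h1, hLη]
  have hr' : r ≫ η = 𝟙 _ := by
    apply (adj.homEquiv _ _).symm.injective
    rw [Adjunction.homEquiv_counit, Adjunction.homEquiv_counit, L.map_comp, Category.assoc, hLη,
      hLr]
    erw [L.map_id, Category.id_comp, Category.comp_id]
  have : IsIso η := ⟨r, hr, hr'⟩
  -- bijectivity of `L` on maps into `X`
  have hbij : ∀ W : T', Function.Bijective (fun t : R.obj W ⟶ X => L.map t) := fun W => by
    have h1 : (fun t : R.obj W ⟶ X => L.map t) =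
        (adj.homEquiv _ _).symm ∘ (fun t => t ≫ η) := by
      funext t
      simp only [Function.comp_apply, Adjunction.homEquiv_counit, L.map_comp, Category.assoc]
      erw [hLη, Category.comp_id]
    rw [h1]
    exact (adj.homEquiv _ _).symm.bijective.comp
      ⟨fun a b hab => (cancel_mono η).1 hab, fun b => ⟨b ≫ inv η, by simp⟩⟩
  have hB : ∀ W : T', Function.Bijective (fun g : W ⟶ L.obj X => H.map g.op u) := fun W => by
    -- the bijection `t ↦ inv ε_W ≫ L t`
    have hb1 : Function.Bijective (fun t : R.obj W ⟶ X => inv (adj.counit.app W) ≫ L.map t) :=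
      (show Function.Bijective (fun s : L.obj (R.obj W) ⟶ L.obj X => inv (adj.counit.app W) ≫ s) from
        ⟨fun a b hab => (cancel_epi _).1 hab,
          fun b => ⟨adj.counit.app W ≫ b, by simp⟩⟩).comp (hbij W)
    have hb2 : Function.Bijective (fun t : R.obj W ⟶ X =>
        H.map (inv (adj.counit.app W)).op (θ.homEquiv t)) :=
      (show Function.Bijective (fun y : H.obj (op (L.obj (R.obj W))) =>
          H.map (inv (adj.counit.app W)).op y) from by
        refine ⟨fun a b hab => ?_, fun b => ⟨H.map (adj.counit.app W).op b, ?_⟩⟩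
        · have := congrArg (fun y => H.map (adj.counit.app W).op y) hab
          simpa only [← Functor.map_comp_apply, ← op_comp, IsIso.hom_inv_id, op_id,
            Functor.map_id_apply] using this
        · simp only [← Functor.map_comp_apply, ← op_comp, IsIso.inv_hom_id, op_id,
            Functor.map_id_apply]).comp θ.homEquiv.bijective
    have hcomp : (fun t : R.obj W ⟶ X => H.map (inv (adj.counit.app W)).op (θ.homEquiv t)) =
        (fun g : W ⟶ L.obj X => H.map g.op u) ∘
          (fun t : R.obj W ⟶ X => inv (adj.counit.app W) ≫ L.map t) := by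
      funext t
      simp only [Function.comp_apply]
      rw [hu, op_comp, Functor.map_comp_apply]
    rw [hcomp] at hb2
    exact (Function.Bijective.of_comp_iff _ hb1).1 hb2
  exact ⟨L.obj X, ⟨{
    homEquiv := fun {W} => Equiv.ofBijective _ (hB W)
    homEquiv_comp := fun f g => by
      simp only [Equiv.ofBijective_apply]
      rw [op_comp, Functor.map_comp_apply] }⟩⟩

end Groth.Agent.Lib.helper27.BrownTransfer
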