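import Mathlib
import Groth.Agent.Lib.Helper27.Compact
import Groth.Agent.Lib.Helper23.DCoprod5

/-!
# `R` is a compact generator of `D(R-Mod)`
-/

set_option autoImplicit false
set_option linter.unusedSectionVars false

namespace Groth.Agent.Lib.helper27.ModCompact

open CategoryTheory Limits DerivedCategory CochainComplex HomComplex ZeroObject

universe w v u

section general

variable {A : Type u} [Category.{v} A] [Abelian A]

/-- the single complex -/
noncomputable abbrev S (P₀ : A) (p : ℤ) : CochainComplex A ℤ :=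
  (CochainComplex.singleFunctor A p).obj P₀

instance projective_S_X (P₀ : A) [Projective P₀] (p n : ℤ) : Projective ((S P₀ p).X n) := by
  by_cases h : n = p
  · subst h
    exact Projective.of_iso (HomologicalComplex.singleObjXSelf (ComplexShape.up ℤ) n P₀).symm
      inferInstance
  · exact (HomologicalComplex.isZero_single_obj_X (ComplexShape.up ℤ) p P₀ n h).projective

instance isKProjective_S (P₀ : A) [Projective P₀] (p : ℤ) : (S P₀ p).IsKProjective :=
  isKProjective_of_projective (S P₀ p) p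

variable [HasDerivedCategory.{w} A]

lemma exists_Q_map (P₀ : A) [Projective P₀] (p : ℤ) (M : CochainComplex A ℤ)
    (φ : Q.obj (S P₀ p) ⟶ Q.obj M) : ∃ a : S P₀ p ⟶ M, φ = Q.map a := by
  let e := quotientCompQhIso A
  obtain ⟨ψ, hψ⟩ := (IsKProjective.Qh_map_bijective (S P₀ p)
    ((HomotopyCategory.quotient A (ComplexShape.up ℤ)).obj M)).2
    (e.hom.app (S P₀ p) ≫ φ ≫ e.inv.app M)
  obtain ⟨a, rfl⟩ := (HomotopyCategory.quotient A (ComplexShape.up ℤ)).map_surjective ψ
  refine ⟨a, ?_⟩
  have h1 := e.hom.naturality a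
  simp only [Functor.comp_map] at h1
  rw [← cancel_epi (e.hom.app (S P₀ p)), ← cancel_mono (e.inv.app M)]
  rw [Category.assoc, ← hψ, ← h1, Category.assoc, Iso.hom_inv_id_app, Category.comp_id]

lemma homotopy_of_Q_map_eq_zero (P₀ : A) [Projective P₀] (p : ℤ) {M : CochainComplex A ℤ}
    (a : S P₀ p ⟶ M) (h : Q.map a = 0) : Nonempty (Homotopy a 0) := by
  let e := quotientCompQhIso A
  have h1 := e.hom.naturality a
  simp only [Functor.comp_map] at h1
  have h2 : Qh.map ((HomotopyCategory.quotient A (ComplexShape.up ℤ)).map a) =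
      Qh.map ((HomotopyCategory.quotient A (ComplexShape.up ℤ)).map 0) := by
    rw [← cancel_mono (e.hom.app M), h1, h, comp_zero, Functor.map_zero, Functor.map_zero,
      zero_comp]
  exact ⟨HomotopyCategory.homotopyOfEq _ _ ((IsKProjective.Qh_map_bijective (S P₀ p)
    ((HomotopyCategory.quotient A (ComplexShape.up ℤ)).obj M)).1 h2)⟩

lemma exists_of_homotopy (P₀ : A) (p : ℤ) {M : CochainComplex A ℤ}
    (a : S P₀ p ⟶ M) (h : Homotopy a 0) (p' : ℤ) (hp' : p' + 1 = p) :
    ∃ y : P₀ ⟶ M.X p', y ≫ M.d p' p =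
      (HomologicalComplex.singleObjXSelf (ComplexShape.up ℤ) p P₀).inv ≫ a.f p := by
  refine ⟨(HomologicalComplex.singleObjXSelf (ComplexShape.up ℤ) p P₀).inv ≫ h.hom p p', ?_⟩
  have h1 := h.comm p
  rw [prevD_eq _ (show (ComplexShape.up ℤ).Rel p' p from hp'),
    dNext_eq _ (show (ComplexShape.up ℤ).Rel p (p + 1) from rfl)] at h1
  simp only [HomologicalComplex.zero_f, add_zero] at h1
  have h0 : (S P₀ p).d p (p + 1) = 0 := by
    apply (HomologicalComplex.isZero_single_obj_X (ComplexShape.up ℤ) p P₀ (p + 1) (by omega)).eq_of_tgt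
  rw [h0, zero_comp, zero_add] at h1
  rw [Category.assoc, h1]
  rfl

end general

section compact

open Groth.Agent.Lib.helper23.DCoprod

variable {A : Type u} [Category.{v} A] [Abelian A] [HasDerivedCategory.{v} A]
  [HasCoproducts.{v} A] [∀ J : Type v, HasExactColimitsOfShape (Discrete J) A]
  [HasCoproducts.{v} (DerivedCategory A)]

open Classical in
/-- the projection of the termwise coproduct onto the part indexed by a finset -/
noncomputable def sigP {κ : Type v} (K : κ → CochainComplex A ℤ) (s : Finset κ) : sig K ⟶ sig K :=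
  sigDesc (fun j => if j ∈ s then sigι K j else 0)

lemma sigι_sigP_of_mem {κ : Type v} (K : κ → CochainComplex A ℤ) {s : Finset κ} {j : κ}
    (hj : j ∈ s) : sigι K j ≫ sigP K s = sigι K j := by
  simp [sigP, sigι_desc, hj]

lemma sigι_sigP_of_not_mem {κ : Type v} (K : κ → CochainComplex A ℤ) {s : Finset κ} {j : κ}
    (hj : j ∉ s) : sigι K j ≫ sigP K s = 0 := by
  simp [sigP, sigι_desc, hj]

lemma sigP_f {κ : Type v} (K : κ → CochainComplex A ℤ) (s : Finset κ) (n : ℤ) :
    (sigP K s).f n = sigmaP (fun j => (K j).X n) s := by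
  apply Sigma.hom_ext (f := fun j => (K j).X n)
  intro j
  by_cases hj : j ∈ s
  · exact (HomologicalComplex.congr_hom (sigι_sigP_of_mem K hj) n).trans
      (ι_sigmaP_of_mem (fun j => (K j).X n) hj).symm
  · exact (HomologicalComplex.congr_hom (sigι_sigP_of_not_mem K hj) n).trans
      (ι_sigmaP_of_not_mem (fun j => (K j).X n) hj).symm

theorem isCompactObject_single (P₀ : A) [Projective P₀]
    (hP₀ : ∀ {κ : Type v} (N : κ → A) (f : P₀ ⟶ ∐ N), ∃ s : Finset κ, f ≫ sigmaP N s = f) :
    CohDer.IsCompactObject ((DerivedCategory.singleFunctor A 0).obj P₀) := by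
  rw [isCompactObject_iff]
  intro κ X α
  let K : κ → CochainComplex A ℤ := fun j => Q.objPreimage (X j)
  let eK : ∀ j, Q.obj (K j) ≅ X j := fun j => Q.objObjPreimageIso (X j)
  let d : ∐ X ⟶ Q.obj (sig K) := Sigma.desc (fun j => (eK j).inv ≫ Q.map (sigι K j))
  let c : Q.obj (sig K) ⟶ ∐ X :=
    Cofan.IsColimit.desc (isColimitCofan K) (fun j => (eK j).hom ≫ Sigma.ι X j)
  have hc : ∀ j, Q.map (sigι K j) ≫ c = (eK j).hom ≫ Sigma.ι X j := fun j =>
    Cofan.IsColimit.fac (isColimitCofan K) _ j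
  have hdc : d ≫ c = 𝟙 _ := by
    refine Sigma.hom_ext _ _ (fun j => ?_)
    rw [Sigma.ι_desc_assoc, Category.assoc, hc, Iso.inv_hom_id_assoc, Category.comp_id]
  have : Mono d := mono_of_mono_fac hdc
  let eP : (DerivedCategory.singleFunctor A 0).obj P₀ ≅ Q.obj (S P₀ 0) :=
    (DerivedCategory.singleFunctorIsoCompQ A 0).app P₀
  obtain ⟨a, ha⟩ := exists_Q_map P₀ 0 (sig K) (eP.inv ≫ α ≫ d)
  obtain ⟨s, hs⟩ := hP₀ (fun j => (K j).X 0)
    ((HomologicalComplex.singleObjXSelf (ComplexShape.up ℤ) 0 P₀).inv ≫ a.f 0)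
  refine ⟨s, ?_⟩
  have h1 : a ≫ sigP K s = a := by
    apply HomologicalComplex.from_single_hom_ext
    rw [HomologicalComplex.comp_f, sigP_f]
    rw [← cancel_epi (HomologicalComplex.singleObjXSelf (ComplexShape.up ℤ) 0 P₀).inv]
    exact (Category.assoc _ _ _).symm.trans hs
  have h2 : d ≫ Q.map (sigP K s) = sigmaP X s ≫ d := by
    refine Sigma.hom_ext _ _ (fun j => ?_)
    rw [Sigma.ι_desc_assoc, Category.assoc, ← Q.map_comp]
    by_cases hj : j ∈ s
    · rw [sigι_sigP_of_mem K hj, ← Category.assoc (Sigma.ι X j), ι_sigmaP_of_mem X hj,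
        Sigma.ι_desc]
    · rw [sigι_sigP_of_not_mem K hj, ← Category.assoc (Sigma.ι X j), ι_sigmaP_of_not_mem X hj,
        Q.map_zero, comp_zero, zero_comp]
  rw [← cancel_mono d, Category.assoc, ← h2, ← cancel_epi eP.inv]
  have h3 : eP.inv ≫ α ≫ d ≫ Q.map (sigP K s) = (eP.inv ≫ α ≫ d) ≫ Q.map (sigP K s) := by
    simp only [Category.assoc]
  rw [h3, ha, ← Q.map_comp, h1]

end compact

section module

variable (R : Type v) [Ring R]

instance : Projective (ModuleCat.of R R) :=
  (IsProjective.iff_projective (R := R) (P := R)).1 inferInstance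

/-- `R` is a compact object of `R-Mod` -/
lemma module_compact {κ : Type v} (N : κ → ModuleCat.{v} R) (f : ModuleCat.of R R ⟶ ∐ N) :
    ∃ s : Finset κ, f ≫ sigmaP N s = f := by
  classical
  let e := ModuleCat.coprodIsoDirectSum N
  let x : DirectSum κ (fun i => N i) := e.hom (f.hom (1 : R))
  refine ⟨DFinsupp.support x, ?_⟩
  ext
  show (sigmaP N (DFinsupp.support x)).hom (f.hom (1 : R)) = f.hom (1 : R)
  have hy : f.hom (1 : R) = e.inv x := by
    show _ = e.inv (e.hom _)
    rw [← ModuleCat.comp_apply, Iso.hom_inv_id, ModuleCat.id_apply]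
  have hx : x = ∑ i ∈ DFinsupp.support x, DirectSum.lof R κ (fun i => N i) i (x i) :=
    (DirectSum.sum_support_of x).symm
  have h1 : e.inv x = ∑ i ∈ DFinsupp.support x, (Sigma.ι N i).hom (x i) := by
    conv_lhs => rw [hx]
    rw [map_sum]
    refine Finset.sum_congr rfl (fun i _ => ?_)
    exact ModuleCat.lof_coprodIsoDirectSum_inv_apply N i (x i)
  rw [hy, h1, map_sum]
  refine Finset.sum_congr rfl (fun i hi => ?_)
  rw [← ModuleCat.comp_apply, ι_sigmaP_of_mem N hi]

variable [HasDerivedCategory.{w} (ModuleCat.{v} R)]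

/-- the generator of `D(R-Mod)` -/
noncomputable abbrev gen : DerivedCategory (ModuleCat.{v} R) :=
  (DerivedCategory.singleFunctor (ModuleCat.{v} R) 0).obj (ModuleCat.of R R)

/-- `R[m]` as `Q` of a single complex -/
noncomputable def genShiftIso (m n : ℤ) (h : m + n = 0) :
    (gen R)⟦m⟧ ≅ Q.obj (S (ModuleCat.of R R) n) :=
  ((DerivedCategory.singleFunctors (ModuleCat.{v} R)).shiftIso m n 0 h).app (ModuleCat.of R R) ≪≫
    (DerivedCategory.singleFunctorIsoCompQ (ModuleCat.{v} R) n).app (ModuleCat.of R R)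

theorem isZero_of_forall_gen (X : DerivedCategory (ModuleCat.{v} R))
    (hX : ∀ (m : ℤ) (f : (gen R)⟦m⟧ ⟶ X), f = 0) : IsZero X := by
  let M := Q.objPreimage X
  let eX : Q.obj M ≅ X := Q.objObjPreimageIso X
  have hM : M.Acyclic := by
    intro n
    rw [HomologicalComplex.exactAt_iff' M (n - 1) n (n + 1) (by simp) (by simp),
      ShortComplex.moduleCat_exact_iff]
    intro (z : M.X n) (hz : M.d n (n + 1) z = 0)
    let f₀ : ModuleCat.of R R ⟶ M.X n := ModuleCat.ofHom (LinearMap.toSpanSingleton R _ z)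
    have hf₀ : f₀ ≫ M.d n (n + 1) = 0 := by
      ext
      simpa [f₀] using hz
    let a : S (ModuleCat.of R R) n ⟶ M := HomologicalComplex.mkHomFromSingle f₀ (fun k hk => by
      obtain rfl : n + 1 = k := hk
      exact hf₀)
    have ha : Q.map a = 0 := by
      have h1 := hX (-n) ((genShiftIso R (-n) n (neg_add_cancel n)).hom ≫ Q.map a ≫ eX.hom)
      rw [← cancel_epi (genShiftIso R (-n) n (neg_add_cancel n)).hom, ← cancel_mono eX.hom]
      simpa using h1
    obtain ⟨h⟩ := homotopy_of_Q_map_eq_zero (ModuleCat.of R R) n a ha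
    obtain ⟨y, hy⟩ := exists_of_homotopy (ModuleCat.of R R) n a h (n - 1) (by simp)
    refine ⟨y.hom (1 : R), ?_⟩
    have h2 : (HomologicalComplex.singleObjXSelf (ComplexShape.up ℤ) n (ModuleCat.of R R)).inv ≫
        a.f n = f₀ := by
      rw [HomologicalComplex.mkHomFromSingle_f, Iso.inv_hom_id_assoc]
    rw [h2] at hy
    have h3 : (M.d (n - 1) n).hom (y.hom (1 : R)) = z := by
      have := congrArg (fun g => g.hom (1 : R)) hy
      simpa [f₀] using this
    exact h3
  have : QuasiIso (0 : M ⟶ 0) := by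
    rw [quasiIso_iff]
    intro i
    rw [quasiIsoAt_iff_exactAt _ i (hM i)]
    apply ShortComplex.exact_of_isZero_X₂
    exact (HomologicalComplex.eval _ _ i).map_isZero (isZero_zero _)
  have : IsIso (Q.map (0 : M ⟶ 0)) := by
    rw [DerivedCategory.isIso_Q_map_iff_quasiIso]; infer_instance
  exact ((Q (C := ModuleCat.{v} R)).map_isZero (isZero_zero _)).of_iso
    (eX.symm ≪≫ asIso (Q.map (0 : M ⟶ 0)))

end module

section brown

variable (R : Type v) [Ring R] [HasDerivedCategory.{v} (ModuleCat.{v} R)]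

instance hasCoproducts_derived : HasCoproducts.{v} (DerivedCategory (ModuleCat.{v} R)) :=
  fun _ => Groth.Agent.Lib.helper23.DCoprod.hasCoproductsOfShape

open CategoryTheory.Pretriangulated.Opposite in
/-- Brown representability for `D(R-Mod)` -/
theorem brown_module (H : (DerivedCategory (ModuleCat.{v} R))ᵒᵖ ⥤ AddCommGrpCat.{v})
    [H.IsHomological] [∀ κ : Type v, PreservesLimitsOfShape (Discrete κ) H] :
    (H ⋙ forget AddCommGrpCat.{v}).IsRepresentable := by
  have : HasColimitsOfShape (Discrete ℕ) (DerivedCategory (ModuleCat.{v} R)) :=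
    has_smallest_coproducts_of_hasCoproducts.{v} ℕ
  refine brown_representable (fun _ : PUnit.{v + 1} => gen R) ?_ ?_ H
  · intro X hX
    by_contra hcon
    apply hX
    apply isZero_of_forall_gen R X
    intro m f
    by_contra hf
    exact hcon ⟨PUnit.unit, m, f, hf⟩
  · apply bfactor_of_compact
    intro _
    exact isCompactObject_single (ModuleCat.of R R) (fun N f => module_compact R N f)

end brown

end Groth.Agent.Lib.helper27.ModCompact
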