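import Mathlib
import Groth.Agent.Lib.Helper27.BrownTransfer
import Groth.Agent.Lib.Helper27.DerSmall
import Groth.Agent.Lib.Helper27.ModCompact
import Groth.Agent.Lib.Helper25.DerAdjK
import Groth.Agent.Lib.Helper25.DerBC2
import Groth.Agent.Lib.Helper25.KInjMain

/-!
# Brown representability for the derived category of a Grothendieck abelian category

Via the Gabriel-Popescu theorem: `A` is a reflective localization of a module category, hence
`D(A)` is a reflective localization of `D(R-Mod)`, which is compactly generated.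
-/

set_option autoImplicit false

namespace Groth.Agent.Lib.helper27.BrownGroth

open CategoryTheory Limits IsGrothendieckAbelian

universe v u

variable {A : Type u} [Category.{v} A] [Abelian A] [IsGrothendieckAbelian.{v} A]

theorem hKinj (K : CochainComplex A ℤ) :
    ∃ (I : CochainComplex A ℤ) (f : K ⟶ I), I.IsKInjective ∧ QuasiIso f := by
  obtain ⟨I, f, hI, hf, -, -⟩ := Groth.Agent.Lib.Helper25.KInjMain.exists_kInjective_resolution K
  exact ⟨I, f, hI, hf⟩

variable [HasDerivedCategory.{v} A]

open CategoryTheory.Pretriangulated.Opposite in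
theorem brown_grothendieck (H : (DerivedCategory A)ᵒᵖ ⥤ AddCommGrpCat.{v}) [H.IsHomological]
    [∀ (ι : Type v), PreservesLimitsOfShape (Discrete ι) H] :
    (H ⋙ forget AddCommGrpCat.{v}).IsRepresentable := by
  let G : A := separator A
  have hG : IsSeparator G := isSeparator_separator A
  let _ : HasDerivedCategory.{v} (ModuleCat.{v} (End G)ᵐᵒᵖ) :=
    DerSmall.hasDerivedCategorySmall (ModuleCat.{v} (End G)ᵐᵒᵖ)
  let T : ModuleCat.{v} (End G)ᵐᵒᵖ ⥤ A := tensorObj G
  let adj₀ : T ⊣ preadditiveCoyonedaObj G := tensorObjPreadditiveCoyonedaObjAdjunction G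
  have : PreservesFiniteLimits T := GabrielPopescu.preservesFiniteLimits G hG
  have : T.Additive := adj₀.left_adjoint_additive
  have : (preadditiveCoyonedaObj G).Full := GabrielPopescu.full G hG
  have : (preadditiveCoyonedaObj G).Faithful :=
    (isSeparator_iff_faithful_preadditiveCoyonedaObj G).1 hG
  have hc₀ : IsIso adj₀.counit := inferInstance
  have hD : ((preadditiveCoyonedaObj G).mapHomotopyCategory (ComplexShape.up ℤ) ⋙
      DerivedCategory.Qh).HasRightDerivedFunctor
      (HomotopyCategory.quasiIso A (ComplexShape.up ℤ)) :=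
    Groth.Agent.Lib.Helper25.DerBC.hasRightDerivedFunctor (hKinj (A := A)) _
  let RG := ((preadditiveCoyonedaObj G).mapHomotopyCategory (ComplexShape.up ℤ) ⋙
      DerivedCategory.Qh).totalRightDerived DerivedCategory.Qh
      (HomotopyCategory.quasiIso A (ComplexShape.up ℤ))
  let β := ((preadditiveCoyonedaObj G).mapHomotopyCategory (ComplexShape.up ℤ) ⋙
      DerivedCategory.Qh).totalRightDerivedUnit DerivedCategory.Qh
      (HomotopyCategory.quasiIso A (ComplexShape.up ℤ))
  obtain ⟨adj', hadj'⟩ := Groth.Agent.Lib.Helper25.DerAdjK.exists_adjunction (hKinj (A := A))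
    adj₀ RG β
  -- the counit is invertible
  have hcounit : ∀ I : CochainComplex A ℤ, I.IsKInjective →
      IsIso (adj'.counit.app (DerivedCategory.Qh.obj
        ((HomotopyCategory.quotient A (ComplexShape.up ℤ)).obj I))) := by
    intro I hI
    have h1 := hadj' ((HomotopyCategory.quotient A (ComplexShape.up ℤ)).obj I)
    have h2 : IsIso (β.app ((HomotopyCategory.quotient A (ComplexShape.up ℤ)).obj I)) :=
      Groth.Agent.Lib.Helper25.DerAdjK.isIso_unit_of_isKInjective (hKinj (A := A)) RG β I
    have h3 : IsIso (Groth.Agent.Lib.Helper25.DerAdjK.counitCx adj₀ (ComplexShape.up ℤ) I) := by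
      have : ∀ n, IsIso ((Groth.Agent.Lib.Helper25.DerAdjK.counitCx adj₀
          (ComplexShape.up ℤ) I).f n) := fun n => by
        dsimp [Groth.Agent.Lib.Helper25.DerAdjK.counitCx]
        exact NatIso.isIso_app_of_isIso adj₀.counit _
      exact HomologicalComplex.Hom.isIso_of_components _
    have h9 : IsIso (DerivedCategory.Qh.map
        ((Groth.Agent.Lib.Helper25.DerAdjK.adjK adj₀ (ComplexShape.up ℤ)).counit.app
          ((HomotopyCategory.quotient A (ComplexShape.up ℤ)).obj I))) := by
      rw [Groth.Agent.Lib.Helper25.DerAdjK.adjK_counit_app]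
      have h8 := @Functor.map_isIso _ _ _ _ _ _ (HomotopyCategory.quotient A (ComplexShape.up ℤ))
        _ h3
      exact @Functor.map_isIso _ _ _ _ _ _ DerivedCategory.Qh _ h8
    have h4 : IsIso (T.mapDerivedCategory.map
        (β.app ((HomotopyCategory.quotient A (ComplexShape.up ℤ)).obj I)) ≫
        adj'.counit.app (DerivedCategory.Qh.obj
          ((HomotopyCategory.quotient A (ComplexShape.up ℤ)).obj I))) := by
      rw [h1]
      exact IsIso.comp_isIso
    exact IsIso.of_isIso_comp_left (T.mapDerivedCategory.map
        (β.app ((HomotopyCategory.quotient A (ComplexShape.up ℤ)).obj I))) _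
  have : IsIso adj'.counit := by
    rw [NatTrans.isIso_iff_isIso_app]
    intro Y
    obtain ⟨I, f, hI, hf⟩ := hKinj (DerivedCategory.Q.objPreimage Y)
    have : IsIso (DerivedCategory.Q.map f) := by
      rw [DerivedCategory.isIso_Q_map_iff_quasiIso]; exact hf
    let eY : Y ≅ DerivedCategory.Qh.obj ((HomotopyCategory.quotient A (ComplexShape.up ℤ)).obj I) :=
      (DerivedCategory.Q.objObjPreimageIso Y).symm ≪≫ asIso (DerivedCategory.Q.map f) ≪≫
        ((DerivedCategory.quotientCompQhIso A).app I).symm
    have h5 := hcounit I hI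
    have h6 := adj'.counit.naturality eY.hom
    have h7 : adj'.counit.app Y = (RG ⋙ T.mapDerivedCategory).map eY.hom ≫
        adj'.counit.app _ ≫ eY.inv := by
      rw [← Category.assoc, h6]
      simp
    rw [h7]
    infer_instance
  have hL : ∀ κ : Type v, PreservesLimitsOfShape (Discrete κ) T.mapDerivedCategory.op := fun κ => by
    have := adj'.leftAdjoint_preservesColimits
    have : PreservesColimitsOfShape (Discrete κ)ᵒᵖ T.mapDerivedCategory := inferInstance
    exact preservesLimitsOfShape_op (Discrete κ) T.mapDerivedCategory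
  have : (T.mapDerivedCategory.op ⋙ H).IsHomological := inferInstance
  have : ∀ κ : Type v, PreservesLimitsOfShape (Discrete κ) (T.mapDerivedCategory.op ⋙ H) :=
    fun κ => inferInstance
  exact BrownTransfer.isRepresentable_of_adj adj' (H ⋙ forget AddCommGrpCat.{v})
    (ModCompact.brown_module (End G)ᵐᵒᵖ (T.mapDerivedCategory.op ⋙ H))

end Groth.Agent.Lib.helper27.BrownGroth
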