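import Mathlib
import Groth.Prelude.Def_RDerDelta
import Groth.Agent.Lib.Helper27.Horseshoe7
import Groth.Agent.Lib.Helper27.DeltaF

set_option linter.unusedSectionVars false
set_option linter.unusedVariables false

namespace Groth.Agent.Lib.helper27

open CategoryTheory Limits

universe v u v' u'

namespace Horseshoe

variable {C : Type u} [Category.{v} C] [Abelian C] [HasInjectiveResolutions C]
  {D : Type u'} [Category.{v'} D] [Abelian D] (F : C ⥤ D) [F.Additive]

/-- acyclicity of an adapted class -/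
theorem isZero_rightDerived_of_class (𝒮 : ObjectProperty C)
    (h_inj : ∀ X : C, 𝒮 X → ∃ (I : C) (i : X ⟶ I), Mono i ∧ Injective I ∧ 𝒮 I)
    (h_quot : ∀ S : ShortComplex C, S.ShortExact → 𝒮 S.X₂ → 𝒮 S.X₃)
    (h_epi : ∀ S : ShortComplex C, S.ShortExact → 𝒮 S.X₁ → Epi ((F.rightDerived 0).map S.g)) :
    ∀ (i : ℕ) (X : C), 𝒮 X → IsZero ((F.rightDerived (i + 1)).obj X) := by
  let Δ := derivedLES F
  intro i
  induction i with
  | zero =>
    intro X hX
    obtain ⟨I, u, hu, hI, hIS⟩ := h_inj X hX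
    have hS := cokerSES_shortExact u
    have hex := Δ.exact₁ (cokerSES u) hS 0 1 rfl
    have hepi : Epi (Δ.δ (cokerSES u) hS 0 1 rfl) :=
      hex.epi_f ((F.isZero_rightDerived_obj_injective_succ 0 I).eq_of_tgt _ _)
    have hg := h_epi (cokerSES u) hS hX
    have h0 : Δ.δ (cokerSES u) hS 0 1 rfl = 0 := by
      rw [← cancel_epi ((F.rightDerived 0).map (cokerSES u).g), comp_zero]
      exact Δ.comp_δ (cokerSES u) hS 0 1 rfl
    rw [IsZero.iff_id_eq_zero]
    change 𝟙 ((F.rightDerived 1).obj (cokerSES u).X₁) = 0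
    rw [← cancel_epi (Δ.δ (cokerSES u) hS 0 1 rfl), comp_zero, h0, zero_comp]
  | succ i ih =>
    intro X hX
    obtain ⟨I, u, hu, hI, hIS⟩ := h_inj X hX
    have hS := cokerSES_shortExact u
    have hQ : 𝒮 (cokerSES u).X₃ := h_quot (cokerSES u) hS hIS
    have hex := Δ.exact₁ (cokerSES u) hS (i + 1) (i + 1 + 1) rfl
    exact hex.isZero_of_both_zeros ((ih _ hQ).eq_of_src _ _)
      ((F.isZero_rightDerived_obj_injective_succ (i + 1) I).eq_of_tgt _ _)

/-- vanishing in degrees `≥ 2` when every object embeds into the class -/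
theorem isZero_rightDerived_of_class_two (𝒮 : ObjectProperty C)
    (h_inj : ∀ X : C, 𝒮 X → ∃ (I : C) (i : X ⟶ I), Mono i ∧ Injective I ∧ 𝒮 I)
    (h_quot : ∀ S : ShortComplex C, S.ShortExact → 𝒮 S.X₂ → 𝒮 S.X₃)
    (h_epi : ∀ S : ShortComplex C, S.ShortExact → 𝒮 S.X₁ → Epi ((F.rightDerived 0).map S.g))
    (h_emb : ∀ X : C, ∃ (B : C) (i : X ⟶ B), Mono i ∧ 𝒮 B)
    (i : ℕ) (X : C) : IsZero ((F.rightDerived (i + 2)).obj X) := by
  let Δ := derivedLES F
  have key := isZero_rightDerived_of_class F 𝒮 h_inj h_quot h_epi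
  obtain ⟨B, u, hu, hB⟩ := h_emb X
  have hS := cokerSES_shortExact u
  have hQ : 𝒮 (cokerSES u).X₃ := h_quot (cokerSES u) hS hB
  have hex := Δ.exact₁ (cokerSES u) hS (i + 1) (i + 2) rfl
  exact hex.isZero_of_both_zeros ((key i _ hQ).eq_of_src _ _) ((key (i + 1) B hB).eq_of_tgt _ _)

end Horseshoe

end Groth.Agent.Lib.helper27
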