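import Mathlib
import Groth.Prelude.Def_MoreMor

/-!
# Affine stratifications: chains of affine pieces (helper27)

`IsPiece X 𝒰 S`: `S ⊆ X` is the range of an immersion `ι` from an affine scheme such that the
preimage of every member of the family `𝒰` of opens is affine.
`Str X 𝒰 A n`: `A ⊆ X` is the union of a chain of `n` pieces, each initial union closed in `A`.
-/

set_option autoImplicit false

universe u

open AlgebraicGeometry CategoryTheory Limits TopologicalSpace

namespace Groth.Agent.Lib.helper27.AffStrat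

/-- `S ⊆ X` is an affine piece relative to a family `𝒰` of opens -/
def IsPiece (X : Scheme.{u}) (𝒰 : Set X.Opens) (S : Set X) : Prop :=
  ∃ (Z : Scheme.{u}) (ι : Z ⟶ X), IsImmersion ι ∧ IsAffine Z ∧ Set.range ι = S ∧
    ∀ U ∈ 𝒰, IsAffineOpen (ι ⁻¹ᵁ U)

/-- `A` is the union of a chain of `n` pieces, each initial union being closed in `A` -/
inductive Str (X : Scheme.{u}) (𝒰 : Set X.Opens) : Set X → ℕ → Prop
  | empty : Str X 𝒰 ∅ 0
  | cons {A B : Set X} {n : ℕ} (hBA : B ⊆ A) (hcl : ∃ F : Set X, IsClosed F ∧ B = A ∩ F)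
      (hB : Str X 𝒰 B n) (hP : IsPiece X 𝒰 (A \ B)) : Str X 𝒰 A (n + 1)

variable {X : Scheme.{u}} {𝒰 : Set X.Opens}

lemma isPiece_empty : IsPiece X 𝒰 ∅ := by
  refine ⟨(⊥ : X.Opens).toScheme, (⊥ : X.Opens).ι, inferInstance, isAffineOpen_bot X, ?_, ?_⟩
  · rw [Scheme.Opens.range_ι]; rfl
  · intro U _
    have : IsEmpty ((⊥ : X.Opens).toScheme) := by
      change IsEmpty ((⊥ : X.Opens) : Set X)
      exact Set.isEmpty_coe_sort.mpr rfl
    have h : (⊥ : X.Opens).ι ⁻¹ᵁ U = ⊥ := by
      ext x; exact (this.false x).elim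
    rw [h]
    exact isAffineOpen_bot _

lemma IsPiece.mono {𝒱 : Set X.Opens} (h : 𝒱 ⊆ 𝒰) {S : Set X} (hS : IsPiece X 𝒰 S) :
    IsPiece X 𝒱 S := by
  obtain ⟨Z, ι, h1, h2, h3, h4⟩ := hS
  exact ⟨Z, ι, h1, h2, h3, fun U hU => h4 U (h hU)⟩

/-- an affine open whose intersection with every member of `𝒰` is affine, cut by a closed set -/
lemma isPiece_of_isAffineOpen {U : X.Opens} (hU : IsAffineOpen U)
    (h : ∀ W ∈ 𝒰, IsAffineOpen (U ⊓ W)) : IsPiece X 𝒰 (U : Set X) := by
  refine ⟨U.toScheme, U.ι, inferInstance, hU, Scheme.Opens.range_ι U, ?_⟩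
  intro W hW
  rw [← U.ι.isAffineOpen_iff_of_isOpenImmersion, Scheme.Hom.image_preimage_eq_opensRange_inf,
    Scheme.Opens.opensRange_ι]
  exact h W hW

/-- cutting a piece by a closed subset -/
lemma IsPiece.inter_closed {S : Set X} (hS : IsPiece X 𝒰 S) {C : Set X} (hC : IsClosed C) :
    IsPiece X 𝒰 (S ∩ C) := by
  obtain ⟨Z, ι, h1, h2, h3, h4⟩ := hS
  let C' : Closeds Z := ⟨ι ⁻¹' C, hC.preimage ι.continuous⟩
  let I := Scheme.IdealSheafData.vanishingIdeal C'
  refine ⟨I.subscheme, I.subschemeι ≫ ι, inferInstance, ?_, ?_, ?_⟩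
  · exact isAffine_of_isAffineHom I.subschemeι
  · rw [Scheme.Hom.comp_base, TopCat.coe_comp, Set.range_comp, I.range_subschemeι,
      Scheme.IdealSheafData.coe_support_vanishingIdeal]
    change ι '' (ι ⁻¹' C) = S ∩ C
    rw [Set.image_preimage_eq_inter_range, h3, Set.inter_comm]
  · intro U hU
    rw [Scheme.Hom.comp_preimage]
    exact (h4 U hU).preimage I.subschemeι

lemma Str.pad {A : Set X} {n : ℕ} (h : Str X 𝒰 A n) : Str X 𝒰 A (n + 1) := by
  refine Str.cons (le_refl _) ⟨Set.univ, isClosed_univ, (Set.inter_univ A).symm⟩ h ?_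
  rw [Set.sdiff_self]
  exact isPiece_empty

lemma Str.mono_n {A : Set X} {n m : ℕ} (h : Str X 𝒰 A n) (hnm : n ≤ m) : Str X 𝒰 A m := by
  induction m, hnm using Nat.le_induction with
  | base => exact h
  | succ m _ ih => exact ih.pad

lemma Str.of_isPiece {S : Set X} (h : IsPiece X 𝒰 S) : Str X 𝒰 S 1 := by
  refine Str.cons (Set.empty_subset S) ⟨∅, isClosed_empty, (Set.inter_empty S).symm⟩ Str.empty ?_
  rwa [Set.sdiff_empty]

/-- concatenation of chains -/
lemma Str.concat {A' : Set X} {m : ℕ} (h' : Str X 𝒰 A' m) :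
    ∀ {A B : Set X} {n : ℕ}, A' = A \ B → B ⊆ A → (∃ F : Set X, IsClosed F ∧ B = A ∩ F) →
      Str X 𝒰 B n → Str X 𝒰 A (n + m) := by
  induction h' with
  | empty =>
    intro A B n hA' hBA _ hB
    have : A = B := Set.Subset.antisymm (Set.sdiff_eq_empty.mp hA'.symm) hBA
    rw [this]; exact hB
  | @cons A' B' m hB'A' hcl' hB' hP' ih =>
    intro A B n hA' hBA hcl hB
    obtain ⟨F, hF, hBF⟩ := hcl
    obtain ⟨F', hF', hB'F'⟩ := hcl'
    have hdisj : B' ∩ B = ∅ := by
      apply Set.eq_empty_of_forall_notMem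
      rintro x ⟨hx1, hx2⟩
      have := hB'A' hx1
      rw [hA'] at this
      exact this.2 hx2
    have hB'A : B' ⊆ A := fun x hx => by
      have := hB'A' hx; rw [hA'] at this; exact this.1
    have h1 : Str X 𝒰 (B ∪ B') (n + m) := by
      refine ih (A := B ∪ B') (B := B) ?_ Set.subset_union_left ⟨F, hF, ?_⟩ hB
      · ext x
        constructor
        · intro hx
          refine ⟨Or.inr hx, fun hxB => ?_⟩
          have : x ∈ B' ∩ B := ⟨hx, hxB⟩
          rw [hdisj] at this; exact this
        · rintro ⟨hx | hx, hx2⟩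
          · exact (hx2 hx).elim
          · exact hx
      · ext x
        constructor
        · intro hx
          refine ⟨Or.inl hx, ?_⟩
          rw [hBF] at hx; exact hx.2
        · rintro ⟨hx | hx, hxF⟩
          · exact hx
          · rw [hBF]; exact ⟨hB'A hx, hxF⟩
    rw [← Nat.add_assoc]
    refine Str.cons (A := A) (B := B ∪ B') (Set.union_subset hBA hB'A) ⟨F ∪ F', hF.union hF', ?_⟩
      h1 ?_
    · ext x
      constructor
      · rintro (hx | hx)
        · rw [hBF] at hx; exact ⟨hx.1, Or.inl hx.2⟩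
        · refine ⟨hB'A hx, Or.inr ?_⟩
          rw [hB'F'] at hx; exact hx.2
      · rintro ⟨hxA, hxF | hxF'⟩
        · left; rw [hBF]; exact ⟨hxA, hxF⟩
        · by_cases hxB : x ∈ B
          · exact Or.inl hxB
          · right
            rw [hB'F', hA']
            exact ⟨⟨hxA, hxB⟩, hxF'⟩
    · have : A \ (B ∪ B') = A' \ B' := by
        rw [hA']
        ext x
        simp only [Set.mem_sdiff, Set.mem_union, not_or]
        tauto
      rw [this]; exact hP'

/-- a chain yields a height function -/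
lemma Str.exists_height {A : Set X} {n : ℕ} (h : Str X 𝒰 A n) :
    ∃ s : X → ℕ, (∀ x ∈ A, s x < n) ∧
      (∀ i : ℕ, ∃ F : Set X, IsClosed F ∧ {x | x ∈ A ∧ s x ≤ i} = A ∩ F) ∧
      ∀ i : ℕ, i < n → IsPiece X 𝒰 {x | x ∈ A ∧ s x = i} := by
  classical
  induction h with
  | empty =>
    refine ⟨fun _ => 0, fun x hx => hx.elim, fun i => ⟨∅, isClosed_empty, ?_⟩, fun i hi => ?_⟩
    · ext x; simp
    · exact absurd hi (Nat.not_lt_zero i)
  | @cons A B n hBA hcl hB hP ih =>
    obtain ⟨s, hs1, hs2, hs3⟩ := ih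
    obtain ⟨F, hF, hBF⟩ := hcl
    refine ⟨fun x => if x ∈ B then s x else n, ?_, ?_, ?_⟩
    · intro x _
      by_cases hx : x ∈ B
      · simp only [hx, if_true]; exact Nat.lt_succ_of_lt (hs1 x hx)
      · simp only [hx, if_false]; exact Nat.lt_succ_self n
    · intro i
      by_cases hi : i < n
      · obtain ⟨G, hG, hGe⟩ := hs2 i
        refine ⟨F ∩ G, hF.inter hG, ?_⟩
        ext x
        constructor
        · rintro ⟨hxA, hx⟩
          by_cases hxB : x ∈ B
          · simp only [hxB, if_true] at hx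
            have h1 : x ∈ {x | x ∈ B ∧ s x ≤ i} := ⟨hxB, hx⟩
            rw [hGe] at h1
            rw [hBF] at hxB
            exact ⟨hxA, hxB.2, h1.2⟩
          · simp only [hxB, if_false] at hx
            omega
        · rintro ⟨hxA, hxF, hxG⟩
          have hxB : x ∈ B := by rw [hBF]; exact ⟨hxA, hxF⟩
          have h1 : x ∈ B ∩ G := ⟨hxB, hxG⟩
          rw [← hGe] at h1
          refine ⟨hxA, ?_⟩
          simp only [hxB, if_true]
          exact h1.2
      · refine ⟨Set.univ, isClosed_univ, ?_⟩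
        ext x
        constructor
        · rintro ⟨hxA, _⟩; exact ⟨hxA, trivial⟩
        · rintro ⟨hxA, _⟩
          refine ⟨hxA, ?_⟩
          by_cases hxB : x ∈ B
          · simp only [hxB, if_true]
            have := hs1 x hxB
            omega
          · simp only [hxB, if_false]
            omega
    · intro i hi
      by_cases hi' : i < n
      · have : {x | x ∈ A ∧ (if x ∈ B then s x else n) = i} = {x | x ∈ B ∧ s x = i} := by
          ext x
          constructor
          · rintro ⟨hxA, hx⟩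
            by_cases hxB : x ∈ B
            · simp only [hxB, if_true] at hx; exact ⟨hxB, hx⟩
            · simp only [hxB, if_false] at hx; omega
          · rintro ⟨hxB, hx⟩
            refine ⟨hBA hxB, ?_⟩
            simp only [hxB, if_true]; exact hx
        rw [this]; exact hs3 i hi'
      · have hin : i = n := by omega
        have : {x | x ∈ A ∧ (if x ∈ B then s x else n) = i} = A \ B := by
          ext x
          constructor
          · rintro ⟨hxA, hx⟩
            refine ⟨hxA, fun hxB => ?_⟩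
            simp only [hxB, if_true] at hx
            have := hs1 x hxB
            omega
          · rintro ⟨hxA, hxB⟩
            refine ⟨hxA, ?_⟩
            simp only [hxB, if_false]; exact hin.symm
        rw [this]; exact hP

/-- from a chain of `n + 1` pieces exhausting `X` to an affine stratification -/
theorem Str.hasAffineStratification {n : ℕ} (h𝒰 : ∀ U ∈ 𝒰, IsAffineOpen U)
    (hcov : ∀ x : X, ∃ U ∈ 𝒰, x ∈ U) (h : Str X 𝒰 Set.univ (n + 1)) :
    MoreMor.HasAffineStratification X n := by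
  obtain ⟨s, hs1, hs2, hs3⟩ := h.exists_height
  refine ⟨fun x => ⟨s x, hs1 x trivial⟩, ?_, ?_⟩
  · intro i
    obtain ⟨F, hF, hFe⟩ := hs2 i.1
    have : {x : X | (⟨s x, hs1 x trivial⟩ : Fin (n + 1)) ≤ i} = F := by
      ext x
      have h1 : x ∈ {x | x ∈ Set.univ ∧ s x ≤ i.1} ↔ x ∈ Set.univ ∩ F := by rw [hFe]
      simp only [Set.mem_ofPred_eq, Set.mem_univ, true_and, Set.univ_inter] at h1
      simpa [Fin.le_def] using h1
    rw [this]; exact hF
  · intro i
    obtain ⟨Z, ι, h1, h2, h3, h4⟩ := hs3 i.1 i.2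
    refine ⟨Z, ι, h1, h2, ?_, ?_⟩
    · apply isAffineHom_of_forall_exists_isAffineOpen
      intro x
      obtain ⟨U, hU, hxU⟩ := hcov x
      exact ⟨U, hxU, h𝒰 U hU, h4 U hU⟩
    · rw [h3]
      ext x
      simp [Fin.ext_iff]

end Groth.Agent.Lib.helper27.AffStrat
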