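import Mathlib
import Groth.Prelude.Def_MoreMor
import Groth.Agent.Lib.Helper27.AffStrat1

set_option autoImplicit false
universe u
open AlgebraicGeometry CategoryTheory Limits TopologicalSpace
namespace Groth.Agent.Lib.helper27.AffStrat

/-- a separated scheme covered by `n + 1` affine opens has an affine stratification of length `n` -/
theorem of_separated_affine_cover (X : Scheme.{u}) [X.IsSeparated] (n : ℕ) (U : Fin (n + 1) → X.Opens)
    (hU : ∀ i, IsAffineOpen (U i)) (hcov : ⨆ i, U i = ⊤) :
    MoreMor.HasAffineStratification X n := by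
  classical
  let 𝒰 : Set X.Opens := {W | IsAffineOpen W}
  let A : ℕ → Set X := fun k => {x | ∀ j : Fin (n + 1), k ≤ j.1 → x ∉ U j}
  have hAcl : ∀ k, IsClosed (A k) := by
    intro k
    have : A k = ⋂ j : Fin (n + 1), ⋂ _ : k ≤ j.1, ((U j : Set X))ᶜ := by
      ext x; simp [A]
    rw [this]
    exact isClosed_iInter fun j => isClosed_iInter fun _ => (U j).isOpen.isClosed_compl
  have key : ∀ k, k ≤ n + 1 → Str X 𝒰 (A k) k := by
    intro k
    induction k with
    | zero =>
      intro _
      have : A 0 = ∅ := by
        apply Set.eq_empty_of_forall_notMem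
        intro x hx
        have hx' : x ∈ (⨆ i, U i : X.Opens) := by rw [hcov]; trivial
        obtain ⟨i, hi⟩ := Opens.mem_iSup.mp hx'
        exact hx i (Nat.zero_le _) hi
      rw [this]; exact Str.empty
    | succ k ih =>
      intro hk
      have hk' : k < n + 1 := hk
      have hsub : A k ⊆ A (k + 1) := fun x hx j hj => hx j (by omega)
      refine Str.cons hsub ⟨((U ⟨k, hk'⟩ : Set X))ᶜ, (U ⟨k, hk'⟩).isOpen.isClosed_compl, ?_⟩
        (ih (by omega)) ?_
      · ext x
        constructor
        · intro hx
          exact ⟨hsub hx, hx ⟨k, hk'⟩ (le_refl _)⟩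
        · rintro ⟨hx1, hx2⟩ j hj
          by_cases hjk : j.1 = k
          · have : j = ⟨k, hk'⟩ := Fin.ext hjk
            rw [this]; exact hx2
          · exact hx1 j (by omega)
      · have : A (k + 1) \ A k = (U ⟨k, hk'⟩ : Set X) ∩ A (k + 1) := by
          ext x
          constructor
          · rintro ⟨hx1, hx2⟩
            refine ⟨?_, hx1⟩
            by_contra hxU
            apply hx2
            intro j hj
            by_cases hjk : j.1 = k
            · have : j = ⟨k, hk'⟩ := Fin.ext hjk
              rw [this]; exact hxU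
            · exact hx1 j (by omega)
          · rintro ⟨hx1, hx2⟩
            exact ⟨hx2, fun hx => hx ⟨k, hk'⟩ (le_refl _) hx1⟩
        rw [this]
        refine (isPiece_of_isAffineOpen (hU ⟨k, hk'⟩) ?_).inter_closed (hAcl (k + 1))
        intro W hW
        exact (hU ⟨k, hk'⟩).inf hW
  have huniv : A (n + 1) = Set.univ := by
    ext x
    simp only [A, Set.mem_ofPred_eq, Set.mem_univ, iff_true]
    intro j hj
    have := j.2
    omega
  have h := key (n + 1) (le_refl _)
  rw [huniv] at h
  refine h.hasAffineStratification (fun W hW => hW) ?_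
  intro x
  obtain ⟨_, ⟨W, hW, rfl⟩, hxW, -⟩ :=
    X.isBasis_affineOpens.exists_subset_of_mem_open (Set.mem_univ x) isOpen_univ
  exact ⟨W, hW, hxW⟩

end Groth.Agent.Lib.helper27.AffStrat
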