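import Mathlib
import Groth.Prelude.Def_MoreMor
import Groth.Agent.Lib.Helper27.AffStrat1

/-!
# Affine stratifications of Noetherian schemes of finite dimension (helper27)
-/

set_option autoImplicit false

universe u

open AlgebraicGeometry CategoryTheory Limits TopologicalSpace Topology

namespace Groth.Agent.Lib.helper27.AffStrat

section Top

variable {X : Type*} [TopologicalSpace X]

/-- a closed subset containing no irreducible component has smaller dimension -/
theorem dim_add_one_le_of_closed (Z : Set X) (hZ : IsClosed Z)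
    (h : ∀ T ∈ irreducibleComponents X, ¬ T ⊆ Z) :
    topologicalKrullDim ↥Z + 1 ≤ topologicalKrullDim X := by
  unfold topologicalKrullDim
  rcases isEmpty_or_nonempty (IrreducibleCloseds ↥Z) with hE | hN
  · rw [Order.krullDim_eq_bot, WithBot.bot_add]; exact bot_le
  · have hind : IsInducing (Subtype.val : ↥Z → X) := IsInducing.subtypeVal
    let f : IrreducibleCloseds ↥Z → IrreducibleCloseds X :=
      IrreducibleCloseds.map (Subtype.val : ↥Z → X) continuous_subtype_val
    have hf : StrictMono f := IrreducibleCloseds.map_strictMono_of_isInducing hind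
    have hfZ : ∀ a, (f a : Set X) ⊆ Z := by
      intro a
      change (IrreducibleCloseds.map (Subtype.val : ↥Z → X) continuous_subtype_val a : Set X) ⊆ Z
      rw [IrreducibleCloseds.coe_map]
      refine closure_minimal ?_ hZ
      rintro _ ⟨z, -, rfl⟩
      exact z.2
    have : Nonempty (IrreducibleCloseds X) := ⟨f hN.some⟩
    rw [Order.krullDim_eq_iSup_height_of_nonempty, Order.krullDim_eq_iSup_height_of_nonempty,
      ← WithBot.coe_one, ← WithBot.coe_add, WithBot.coe_le_coe, ENat.iSup_add]
    refine iSup_le fun a => ?_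
    obtain ⟨T, hT1, hT2, hT3⟩ := exists_preirreducible (f a : Set X) (f a).isIrreducible.isPreirreducible
    have hTirr : IsIrreducible T := ⟨(f a).isIrreducible.nonempty.mono hT2, hT1⟩
    have hTmem : T ∈ irreducibleComponents X := by
      refine ⟨hTirr, fun u hu hTu => ?_⟩
      exact (hT3 u hu.isPreirreducible hTu).le
    let T' : IrreducibleCloseds X := ⟨T, hTirr, isClosed_of_mem_irreducibleComponents T hTmem⟩
    have hlt : f a < T' := by
      refine lt_of_le_of_ne hT2 ?_
      intro heq
      apply h T hTmem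
      have : (f a : Set X) = T := congrArg (fun t : IrreducibleCloseds X => (t : Set X)) heq
      rw [← this]; exact hfZ a
    calc Order.height a + 1 ≤ Order.height (f a) + 1 :=
          add_le_add_left (Order.height_le_height_apply_of_strictMono f hf a) 1
      _ ≤ Order.height T' := Order.height_add_one_le hlt
      _ ≤ ⨆ b, Order.height b := le_iSup (fun b : IrreducibleCloseds X => Order.height b) T'

end Top

lemma withBot_enat_le_of_add_one_le (a : WithBot ℕ∞) (d : ℕ)
    (h : a + 1 ≤ ((d + 1 : ℕ) : WithBot ℕ∞)) : a ≤ (d : WithBot ℕ∞) := by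
  induction a using WithBot.recBotCoe with
  | bot => exact bot_le
  | coe e =>
    induction e using ENat.recTopCoe with
    | top =>
      exfalso
      have h' : ((⊤ : ℕ∞) : WithBot ℕ∞) + 1 ≤ (((d + 1 : ℕ) : ℕ∞) : WithBot ℕ∞) := by exact_mod_cast h
      rw [← WithBot.coe_one, ← WithBot.coe_add, WithBot.coe_le_coe] at h'
      simp at h'
    | coe n =>
      have h' : (((n + 1 : ℕ) : ℕ∞) : WithBot ℕ∞) ≤ (((d + 1 : ℕ) : ℕ∞) : WithBot ℕ∞) := by exact_mod_cast h
      rw [WithBot.coe_le_coe, Nat.cast_le] at h'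
      have : n ≤ d := Nat.le_of_succ_le_succ h'
      exact_mod_cast this

lemma not_one_le_zero' (h : (0 : WithBot ℕ∞) + 1 ≤ ((0 : ℕ) : WithBot ℕ∞)) : False := by
  have h' : (((1 : ℕ) : ℕ∞) : WithBot ℕ∞) ≤ (((0 : ℕ) : ℕ∞) : WithBot ℕ∞) := by simpa using h
  rw [WithBot.coe_le_coe, Nat.cast_le] at h'
  omega

variable {X : Scheme.{u}}

/-- in a Noetherian scheme there is an affine open containing all generic points of irreducible
components whose inclusion is an affine morphism -/
theorem exists_affineOpen_generic_affineHom (X : Scheme.{u}) [IsNoetherian X] :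
    ∃ U : X.Opens, IsAffineOpen U ∧ IsAffineHom U.ι ∧
      ∀ T ∈ irreducibleComponents X, ¬ T ⊆ ((U : Set X))ᶜ := by
  classical
  have hfin : (irreducibleComponents X).Finite := NoetherianSpace.finite_irreducibleComponents
  have : Finite ↥(irreducibleComponents X) := hfin.to_subtype
  obtain ⟨s, hs, hcov⟩ := (isCompact_iff_finite_and_eq_biUnion_affineOpens (U := (⊤ : X.Opens))).mp
    (by simpa using CompactSpace.isCompact_univ (X := X))
  -- generic points
  have hgen : ∀ T : ↥(irreducibleComponents X), ∃ η : X, closure ({η} : Set X) = T.1 := by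
    intro T
    obtain ⟨η, hη⟩ := QuasiSober.sober (T.2.1) (isClosed_of_mem_irreducibleComponents T.1 T.2)
    exact ⟨η, hη.def⟩
  choose η hη using hgen
  -- the open complement of the other components
  let W : ↥(irreducibleComponents X) → Set X := fun T =>
    (⋃₀ ((irreducibleComponents X) \ {T.1}))ᶜ
  have hWopen : ∀ T, IsOpen (W T) := by
    intro T
    rw [isOpen_compl_iff, Set.sUnion_eq_biUnion]
    exact Set.Finite.isClosed_biUnion (hfin.subset Set.sdiff_subset)
      (fun t ht => isClosed_of_mem_irreducibleComponents t ht.1)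
  have hWsub : ∀ T, W T ⊆ T.1 := by
    intro T x hx
    have hx0 : x ∈ ⋃₀ irreducibleComponents X := by rw [sUnion_irreducibleComponents]; trivial
    obtain ⟨T', hT', hxT'⟩ := hx0
    by_cases h : T' = T.1
    · rw [← h]; exact hxT'
    · exact (hx ⟨T', ⟨hT', h⟩, hxT'⟩).elim
  have hηW : ∀ T, η T ∈ W T := by
    intro T
    rintro ⟨T', ⟨hT', hne⟩, hηT'⟩
    apply hne
    have hsub : T.1 ⊆ T' := by
      rw [← hη T]
      exact (isClosed_of_mem_irreducibleComponents T' hT').closure_subset_iff.mpr
        (Set.singleton_subset_iff.mpr hηT')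
    exact (T.2.2 hT'.1 hsub).antisymm hsub
  -- the neighbourhood of `η T` inside `W T` and all members of `s` containing `η T`
  let N : ↥(irreducibleComponents X) → Set X := fun T =>
    W T ∩ ⋂ V ∈ {V : X.affineOpens | V ∈ s ∧ η T ∈ V.1}, ((V : X.affineOpens).1 : Set X)
  have hNopen : ∀ T, IsOpen (N T) := by
    intro T
    refine (hWopen T).inter ?_
    exact Set.Finite.isOpen_biInter (hs.subset fun V hV => hV.1) (fun V _ => V.1.isOpen)
  have hηN : ∀ T, η T ∈ N T := by
    intro T
    refine ⟨hηW T, ?_⟩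
    simp only [Set.mem_iInter]
    intro V hV
    exact hV.2
  have hV : ∀ T : ↥(irreducibleComponents X), ∃ V : X.Opens, IsAffineOpen V ∧ η T ∈ V ∧
      (V : Set X) ⊆ N T := by
    intro T
    obtain ⟨_, ⟨V, hV, rfl⟩, hxV, hVN⟩ :=
      X.isBasis_affineOpens.exists_subset_of_mem_open (hηN T) (hNopen T)
    exact ⟨V, hV, hxV, hVN⟩
  choose V hVaff hηV hVN using hV
  have hdisj : Pairwise (Function.onFun Disjoint V) := by
    intro T T' hne
    change Disjoint (V T) (V T')
    rw [disjoint_iff_inf_le]
    intro x ⟨hx, hx'⟩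
    have h1 : x ∈ T.1 := hWsub T (hVN T hx).1
    have h2 : x ∈ W T' := (hVN T' hx').1
    apply h2
    refine ⟨T.1, ⟨T.2, fun h => hne (Subtype.ext h)⟩, h1⟩
  refine ⟨⨆ T, V T, IsAffineOpen.iSup_of_disjoint hVaff hdisj, ?_, ?_⟩
  · apply isAffineHom_of_forall_exists_isAffineOpen
    intro x
    have hx : x ∈ (⊤ : X.Opens) := trivial
    rw [hcov] at hx
    obtain ⟨W', hW'⟩ := Opens.mem_iSup.mp hx
    obtain ⟨hW's, hxW'⟩ := Opens.mem_iSup.mp hW'
    refine ⟨W'.1, hxW', W'.2, ?_⟩
    rw [← (⨆ T, V T).ι.isAffineOpen_iff_of_isOpenImmersion,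
      Scheme.Hom.image_preimage_eq_opensRange_inf, Scheme.Opens.opensRange_ι]
    have heq : (⨆ T, V T) ⊓ W'.1 = ⨆ T ∈ {T : ↥(irreducibleComponents X) | η T ∈ W'.1}, V T := by
      apply le_antisymm
      · intro y ⟨hy1, hy2⟩
        obtain ⟨T, hyT⟩ := Opens.mem_iSup.mp hy1
        have hyT' : y ∈ T.1 := hWsub T (hVN T hyT).1
        rw [← hη T] at hyT'
        have hspec : η T ⤳ y := specializes_iff_mem_closure.mpr hyT'
        have : η T ∈ W'.1 := hspec.mem_open W'.1.isOpen hy2
        exact Opens.mem_iSup.mpr ⟨T, Opens.mem_iSup.mpr ⟨this, hyT⟩⟩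
      · refine iSup_le fun T => iSup_le fun hT => ?_
        refine le_inf (le_iSup V T) ?_
        intro y hy
        have := (hVN T hy).2
        simp only [Set.mem_iInter] at this
        exact this W' ⟨hW's, hT⟩
    rw [heq]
    refine IsAffineOpen.biSup_of_disjoint (Set.toFinite _) (fun T _ => hVaff T) ?_
    intro T _ T' _ hne
    exact hdisj hne
  · intro T hT hsub
    have h1 : η ⟨T, hT⟩ ∈ ((⨆ T, V T : X.Opens) : Set X) :=
      Opens.mem_iSup.mpr ⟨⟨T, hT⟩, hηV ⟨T, hT⟩⟩
    have h2 : η ⟨T, hT⟩ ∈ T := by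
      have h3 : closure ({η ⟨T, hT⟩} : Set X) = T := hη ⟨T, hT⟩
      have h4 : η ⟨T, hT⟩ ∈ closure ({η ⟨T, hT⟩} : Set X) := subset_closure rfl
      rw [h3] at h4
      exact h4
    exact hsub h2 h1


/-- transport of chains along a closed immersion -/
lemma Str.map_closedImmersion {X' : Scheme.{u}} (i : X' ⟶ X) [IsClosedImmersion i]
    {𝒰' : Set X'.Opens} {𝒰 : Set X.Opens} (h𝒰 : ∀ W ∈ 𝒰, i ⁻¹ᵁ W ∈ 𝒰') {A : Set X'} {n : ℕ}
    (h : Str X' 𝒰' A n) : Str X 𝒰 (i '' A) n := by
  have hinj : Function.Injective i := i.isClosedEmbedding.injective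
  induction h with
  | empty => rw [Set.image_empty]; exact Str.empty
  | @cons A B n hBA hcl hB hP ih =>
    obtain ⟨F, hF, hBF⟩ := hcl
    refine Str.cons (Set.image_mono hBA)
      ⟨i '' F, i.isClosedEmbedding.isClosedMap F hF, ?_⟩ ih ?_
    · rw [hBF, Set.image_inter hinj]
    · rw [← Set.image_sdiff hinj]
      obtain ⟨Z, ι, h1, h2, h3, h4⟩ := hP
      refine ⟨Z, ι ≫ i, inferInstance, h2, ?_, ?_⟩
      · rw [Scheme.Hom.comp_base, TopCat.coe_comp, Set.range_comp, h3]
      · intro W hW
        rw [Scheme.Hom.comp_preimage]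
        exact h4 _ (h𝒰 W hW)

/-- a Noetherian scheme of dimension `≤ d` is a chain of `d + 1` affine pieces -/
theorem str_of_noetherian (d : ℕ) : ∀ (X : Scheme.{u}) [IsNoetherian X],
    topologicalKrullDim X ≤ d → Str X {W : X.Opens | IsAffineOpen W} Set.univ (d + 1) := by
  induction d with
  | zero =>
    intro X _ hd
    obtain ⟨U, hU, hUι, hgen⟩ := exists_affineOpen_generic_affineHom X
    have hdim := dim_add_one_le_of_closed ((U : Set X))ᶜ U.isOpen.isClosed_compl hgen
    have hempty : ((U : Set X))ᶜ = ∅ := by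
      by_contra hne
      have hne' : Nonempty ↥(((U : Set X))ᶜ) := Set.nonempty_iff_ne_empty'.mpr hne
      have h0 : (0 : WithBot ℕ∞) ≤ topologicalKrullDim ↥(((U : Set X))ᶜ) := by
        unfold topologicalKrullDim
        rw [Order.krullDim_nonneg_iff]
        obtain ⟨x⟩ := hne'
        exact ⟨⟨closure {x}, isIrreducible_singleton.closure, isClosed_closure⟩⟩
      have h1 : (0 : WithBot ℕ∞) + 1 ≤ ((0 : ℕ) : WithBot ℕ∞) :=
        (add_le_add_left h0 1).trans (hdim.trans hd)
      exact not_one_le_zero' h1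
    have hUuniv : (U : Set X) = Set.univ := by
      rw [← compl_compl (U : Set X), hempty, Set.compl_empty]
    rw [← hUuniv]
    refine Str.of_isPiece (isPiece_of_isAffineOpen hU ?_)
    intro W hW
    have := hW.preimage U.ι
    rwa [← U.ι.isAffineOpen_iff_of_isOpenImmersion, Scheme.Hom.image_preimage_eq_opensRange_inf,
      Scheme.Opens.opensRange_ι] at this
  | succ d ih =>
    intro X _ hd
    obtain ⟨U, hU, hUι, hgen⟩ := exists_affineOpen_generic_affineHom X
    have hdim := dim_add_one_le_of_closed ((U : Set X))ᶜ U.isOpen.isClosed_compl hgen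
    let C : Closeds X := ⟨((U : Set X))ᶜ, U.isOpen.isClosed_compl⟩
    let I := Scheme.IdealSheafData.vanishingIdeal C
    have hrange : Set.range I.subschemeι = ((U : Set X))ᶜ := by
      rw [I.range_subschemeι, Scheme.IdealSheafData.coe_support_vanishingIdeal]
      rfl
    have : IsNoetherian I.subscheme :=
      { __ := LocallyOfFiniteType.isLocallyNoetherian I.subschemeι
        __ := QuasiCompact.compactSpace_of_compactSpace I.subschemeι }
    have hdim' : topologicalKrullDim I.subscheme ≤ d := by
      have h1 : topologicalKrullDim I.subscheme ≤ topologicalKrullDim ↥(((U : Set X))ᶜ) := by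
        let g : I.subscheme → ↥(((U : Set X))ᶜ) := fun x =>
          ⟨I.subschemeι x, by rw [← hrange]; exact ⟨x, rfl⟩⟩
        have hg : IsInducing g := by
          refine IsInducing.of_comp ?_ continuous_subtype_val ?_
          · exact I.subschemeι.continuous.subtype_mk _
          · exact I.subschemeι.isEmbedding.toIsInducing
        exact hg.topologicalKrullDim_le
      exact h1.trans (withBot_enat_le_of_add_one_le _ d (hdim.trans hd))
    have hstr := ih I.subscheme hdim'
    have hstr' : Str X {W : X.Opens | IsAffineOpen W} (I.subschemeι '' Set.univ) (d + 1) :=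
      hstr.map_closedImmersion I.subschemeι (fun W hW => hW.preimage I.subschemeι)
    rw [Set.image_univ, hrange] at hstr'
    refine Str.cons (Set.subset_univ _) ⟨((U : Set X))ᶜ, U.isOpen.isClosed_compl,
      (Set.univ_inter _).symm⟩ hstr' ?_
    have : Set.univ \ ((U : Set X))ᶜ = (U : Set X) := by
      rw [Set.sdiff_eq, compl_compl, Set.univ_inter]
    rw [this]
    refine isPiece_of_isAffineOpen hU ?_
    intro W hW
    have := hW.preimage U.ι
    rwa [← U.ι.isAffineOpen_iff_of_isOpenImmersion, Scheme.Hom.image_preimage_eq_opensRange_inf,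
      Scheme.Opens.opensRange_ι] at this

/-- a Noetherian scheme of dimension `d` has an affine stratification of length `d` -/
theorem of_noetherian_dim (X : Scheme.{u}) [IsNoetherian X] (d : ℕ)
    (hd : topologicalKrullDim X = d) : MoreMor.HasAffineStratification X d := by
  refine (str_of_noetherian d X hd.le).hasAffineStratification (fun W hW => hW) ?_
  intro x
  obtain ⟨_, ⟨W, hW, rfl⟩, hxW, -⟩ :=
    X.isBasis_affineOpens.exists_subset_of_mem_open (Set.mem_univ x) isOpen_univ
  exact ⟨W, hW, hxW⟩

end Groth.Agent.Lib.helper27.AffStrat
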