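import Mathlib
import Groth.Prelude.Def_MoreMor
import Groth.Agent.Lib.Helper27.AffStrat1

/-!
# A scheme has a finite affine stratification iff it is quasi-compact and quasi-separated (helper27)
-/

set_option autoImplicit false

universe u

open AlgebraicGeometry CategoryTheory Limits TopologicalSpace Topology

namespace Groth.Agent.Lib.helper27.AffStrat

variable {X : Scheme.{u}} {𝒰 : Set X.Opens}

/-- an affine immersion datum whose range is contained in or disjoint from every member of `𝒰` -/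
lemma isPiece_of_range {Z : Scheme.{u}} (ι : Z ⟶ X) [IsImmersion ι] [IsAffine Z]
    (h : ∀ U ∈ 𝒰, Set.range ι ⊆ (U : Set X) ∨ Disjoint (Set.range ι) (U : Set X)) :
    IsPiece X 𝒰 (Set.range ι) := by
  refine ⟨Z, ι, inferInstance, inferInstance, rfl, ?_⟩
  intro U hU
  rcases h U hU with h1 | h1
  · have : ι ⁻¹ᵁ U = ⊤ := by
      ext x
      simp only [Opens.coe_top, Set.mem_univ, iff_true]
      exact h1 ⟨x, rfl⟩
    rw [this]; exact isAffineOpen_top Z
  · have : ι ⁻¹ᵁ U = ⊥ := by
      ext x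
      simp only [Opens.coe_bot, Set.mem_empty_iff_false, iff_false]
      intro hx
      exact Set.disjoint_left.mp h1 ⟨x, rfl⟩ hx
    rw [this]; exact isAffineOpen_bot Z

/-- refining an affine piece with respect to one more open whose preimage is a finite union of
basic opens -/
lemma exists_str_range (U₀ : X.Opens) (k : ℕ) :
    ∀ (Z : Scheme.{u}) (ι : Z ⟶ X) [IsImmersion ι] [IsAffine Z] (f : Fin k → Γ(Z, ⊤)),
      ι ⁻¹ᵁ U₀ = ⨆ j, Z.basicOpen (f j) → (∀ U ∈ 𝒰, IsAffineOpen (ι ⁻¹ᵁ U)) →
      ∃ n, Str X (insert U₀ 𝒰) (Set.range ι) n := by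
  induction k with
  | zero =>
    intro Z ι _ _ f hf h𝒰
    refine ⟨1, Str.of_isPiece ⟨Z, ι, inferInstance, inferInstance, rfl, ?_⟩⟩
    intro U hU
    rcases hU with rfl | hU
    · rw [hf]
      have : (⨆ j : Fin 0, Z.basicOpen (f j)) = ⊥ := by
        rw [iSup_eq_bot]; intro j; exact j.elim0
      rw [this]; exact isAffineOpen_bot Z
    · exact h𝒰 U hU
  | succ k ih =>
    intro Z ι _ _ f hf h𝒰
    -- the closed part `V(f 0)`
    let C : Closeds Z := ⟨((Z.basicOpen (f 0) : Set Z))ᶜ, (Z.basicOpen (f 0)).isOpen.isClosed_compl⟩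
    let I := Scheme.IdealSheafData.vanishingIdeal C
    have hrange : Set.range I.subschemeι = ((Z.basicOpen (f 0) : Set Z))ᶜ := by
      rw [I.range_subschemeι, Scheme.IdealSheafData.coe_support_vanishingIdeal]
      rfl
    have : IsAffine I.subscheme := isAffine_of_isAffineHom I.subschemeι
    have h0 : I.subschemeι ⁻¹ᵁ (Z.basicOpen (f 0)) = ⊥ := by
      ext x
      simp only [Opens.coe_bot, Set.mem_empty_iff_false, iff_false]
      intro hx
      have : I.subschemeι x ∈ Set.range I.subschemeι := ⟨x, rfl⟩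
      rw [hrange] at this
      exact this hx
    obtain ⟨n₁, hn₁⟩ := ih I.subscheme (I.subschemeι ≫ ι)
      (fun j => I.subschemeι.appTop (f j.succ)) (by
        rw [Scheme.Hom.comp_preimage, hf, Scheme.Hom.preimage_iSup]
        apply le_antisymm
        · refine iSup_le fun j => ?_
          refine Fin.cases ?_ (fun j => ?_) j
          · rw [h0]; exact bot_le
          · rw [Scheme.preimage_basicOpen_top]
            exact le_iSup (fun j : Fin k => I.subscheme.basicOpen (I.subschemeι.appTop (f j.succ))) j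
        · refine iSup_le fun j => ?_
          rw [← Scheme.preimage_basicOpen_top]
          exact le_iSup (fun j : Fin (k + 1) => I.subschemeι ⁻¹ᵁ Z.basicOpen (f j)) j.succ)
      (by
        intro U hU
        rw [Scheme.Hom.comp_preimage]
        exact (h𝒰 U hU).preimage I.subschemeι)
    -- the open part `D(f 0)`
    have hD : IsAffine (Z.basicOpen (f 0)).toScheme := (isAffineOpen_top Z).basicOpen (f 0)
    have hle : Z.basicOpen (f 0) ≤ ι ⁻¹ᵁ U₀ := by
      rw [hf]; exact le_iSup (fun j => Z.basicOpen (f j)) 0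
    have hP : IsPiece X (insert U₀ 𝒰) (Set.range ((Z.basicOpen (f 0)).ι ≫ ι)) := by
      refine ⟨_, (Z.basicOpen (f 0)).ι ≫ ι, inferInstance, hD, rfl, ?_⟩
      intro U hU
      rw [Scheme.Hom.comp_preimage]
      rcases hU with rfl | hU
      · have : (Z.basicOpen (f 0)).ι ⁻¹ᵁ (ι ⁻¹ᵁ U) = ⊤ := by
          ext x
          simp only [Opens.coe_top, Set.mem_univ, iff_true]
          exact hle x.2
        rw [this]; exact isAffineOpen_top _
      · exact (h𝒰 U hU).preimage (Z.basicOpen (f 0)).ι
    have hr1 : Set.range (I.subschemeι ≫ ι) = ι '' ((Z.basicOpen (f 0) : Set Z))ᶜ := by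
      rw [Scheme.Hom.comp_base, TopCat.coe_comp, Set.range_comp, hrange]
    have hr2 : Set.range ((Z.basicOpen (f 0)).ι ≫ ι) = ι '' (Z.basicOpen (f 0) : Set Z) := by
      rw [Scheme.Hom.comp_base, TopCat.coe_comp, Set.range_comp, Scheme.Opens.range_ι]
    have hinj : Function.Injective ι := ι.isEmbedding.injective
    refine ⟨n₁ + 1, Str.cons (A := Set.range ι) (B := Set.range (I.subschemeι ≫ ι)) ?_ ?_ hn₁ ?_⟩
    · rw [hr1]; exact Set.image_subset_range _ _
    · obtain ⟨F, hF, hFe⟩ := ι.isEmbedding.toIsInducing.isClosed_iff.mp C.isClosed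
      refine ⟨F, hF, ?_⟩
      rw [hr1]
      change ι '' (C : Set Z) = _
      rw [← hFe, Set.image_preimage_eq_inter_range, Set.inter_comm]
    · have : Set.range ι \ Set.range (I.subschemeι ≫ ι) = Set.range ((Z.basicOpen (f 0)).ι ≫ ι) := by
        rw [hr1, hr2, ← Set.image_univ, ← Set.image_sdiff hinj, Set.sdiff_eq, compl_compl,
          Set.univ_inter]
      rw [this]; exact hP

/-- refining a chain with respect to one more quasi-compact open -/
lemma Str.refine [QuasiSeparatedSpace X] {U₀ : X.Opens} (hU₀ : IsCompact (U₀ : Set X))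
    {A : Set X} {n : ℕ} (h : Str X 𝒰 A n) : ∃ n', Str X (insert U₀ 𝒰) A n' := by
  induction h with
  | empty => exact ⟨0, Str.empty⟩
  | @cons A B n hBA hcl hB hP ih =>
    obtain ⟨n₁, hn₁⟩ := ih
    obtain ⟨Z, ι, h1, h2, h3, h4⟩ := hP
    have hc : IsCompact ((ι ⁻¹ᵁ U₀ : Z.Opens) : Set Z) :=
      QuasiCompact.isCompact_preimage (f := ι) _ U₀.isOpen hU₀
    obtain ⟨s, hs, hse⟩ :=
      (isCompact_and_isOpen_iff_finite_and_eq_biUnion_basicOpen (X := Z)).mp ⟨hc, (ι ⁻¹ᵁ U₀).isOpen⟩
    obtain ⟨k, f, -, hf⟩ := hs.fin_param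
    have hpre : ι ⁻¹ᵁ U₀ = ⨆ j, Z.basicOpen (f j) := by
      apply Opens.ext
      rw [hse, ← hf, Set.biUnion_range, Opens.coe_iSup]
    obtain ⟨n₂, hn₂⟩ := exists_str_range (𝒰 := 𝒰) U₀ k Z ι f hpre h4
    rw [h3] at hn₂
    exact ⟨n₁ + n₂, hn₂.concat rfl hBA hcl hn₁⟩

/-- a finite union of affine opens in a quasi-separated scheme is a chain of affine pieces -/
theorem exists_str_of_finset [QuasiSeparatedSpace X] (t : Finset X.Opens)
    (ht : ∀ U ∈ t, IsAffineOpen U) :
    ∃ n, Str X (↑t : Set X.Opens) (⋃ U ∈ t, (U : Set X)) n := by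
  classical
  induction t using Finset.induction_on with
  | empty => exact ⟨0, by simpa using Str.empty⟩
  | @insert U₀ t hU₀t ih =>
    obtain ⟨n, hn⟩ := ih (fun U hU => ht U (Finset.mem_insert_of_mem hU))
    have hU₀ : IsAffineOpen U₀ := ht U₀ (Finset.mem_insert_self U₀ t)
    obtain ⟨n', hn'⟩ := hn.refine hU₀.isCompact
    set V : Set X := ⋃ U ∈ t, (U : Set X) with hV
    have hVopen : IsOpen V := isOpen_biUnion fun U _ => U.isOpen
    have hunion : (⋃ U ∈ insert U₀ t, (U : Set X)) = (U₀ : Set X) ∪ V := by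
      rw [Finset.set_biUnion_insert]
    rw [hunion, Finset.coe_insert]
    -- the closed first piece `U₀ \ V`
    let C : Closeds U₀.toScheme := ⟨U₀.ι ⁻¹' Vᶜ, hVopen.isClosed_compl.preimage U₀.ι.continuous⟩
    let I := Scheme.IdealSheafData.vanishingIdeal C
    have hrange : Set.range I.subschemeι = U₀.ι ⁻¹' Vᶜ := by
      rw [I.range_subschemeι, Scheme.IdealSheafData.coe_support_vanishingIdeal]
      rfl
    have : IsAffine U₀.toScheme := hU₀
    have : IsAffine I.subscheme := isAffine_of_isAffineHom I.subschemeι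
    have hr : Set.range (I.subschemeι ≫ U₀.ι) = (U₀ : Set X) \ V := by
      rw [Scheme.Hom.comp_base, TopCat.coe_comp, Set.range_comp, hrange,
        Set.image_preimage_eq_inter_range, Scheme.Opens.range_ι, Set.inter_comm, Set.sdiff_eq]
    have hP : IsPiece X (insert U₀ (↑t : Set X.Opens)) ((U₀ : Set X) \ V) := by
      rw [← hr]
      refine isPiece_of_range _ ?_
      intro U hU
      rw [hr]
      rcases hU with rfl | hU
      · exact Or.inl Set.sdiff_subset
      · right
        rw [Set.disjoint_left]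
        rintro x ⟨_, hx2⟩ hxU
        exact hx2 (Set.mem_biUnion hU hxU)
    have hB : Str X (insert U₀ (↑t : Set X.Opens)) ((U₀ : Set X) \ V) 1 := Str.of_isPiece hP
    refine ⟨1 + n', hn'.concat (A := (U₀ : Set X) ∪ V) (B := (U₀ : Set X) \ V) ?_ ?_ ?_ hB⟩
    · ext x
      simp only [Set.mem_sdiff, Set.mem_union]
      tauto
    · intro x hx; exact Or.inl hx.1
    · refine ⟨Vᶜ, hVopen.isClosed_compl, ?_⟩
      ext x
      simp only [Set.mem_sdiff, Set.mem_union, Set.mem_inter_iff, Set.mem_compl_iff]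
      tauto

/-- a quasi-compact quasi-separated scheme has a finite affine stratification -/
theorem exists_of_qcqs (X : Scheme.{u}) [CompactSpace X] [QuasiSeparatedSpace X] :
    ∃ n : ℕ, MoreMor.HasAffineStratification X n := by
  classical
  obtain ⟨s, hs, hcov⟩ := (isCompact_iff_finite_and_eq_biUnion_affineOpens (U := (⊤ : X.Opens))).mp
    (by simpa using CompactSpace.isCompact_univ (X := X))
  let t : Finset X.Opens := hs.toFinset.image Subtype.val
  have ht : ∀ U ∈ t, IsAffineOpen U := by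
    intro U hU
    obtain ⟨W, -, rfl⟩ := Finset.mem_image.mp hU
    exact W.2
  have hcov' : ∀ x : X, ∃ U ∈ (↑t : Set X.Opens), x ∈ U := by
    intro x
    have hx : x ∈ (⊤ : X.Opens) := trivial
    rw [hcov] at hx
    obtain ⟨W, hW⟩ := Opens.mem_iSup.mp hx
    obtain ⟨hWs, hxW⟩ := Opens.mem_iSup.mp hW
    refine ⟨W.1, ?_, hxW⟩
    exact Finset.mem_coe.mpr (Finset.mem_image.mpr ⟨W, hs.mem_toFinset.mpr hWs, rfl⟩)
  obtain ⟨n, hn⟩ := exists_str_of_finset t ht
  have huniv : (⋃ U ∈ t, (U : Set X)) = Set.univ := by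
    apply Set.eq_univ_of_forall
    intro x
    obtain ⟨U, hU, hxU⟩ := hcov' x
    exact Set.mem_biUnion (Finset.mem_coe.mp hU) hxU
  rw [huniv] at hn
  exact ⟨n, hn.pad.hasAffineStratification (fun U hU => ht U (Finset.mem_coe.mp hU)) hcov'⟩

/-- a scheme with a finite affine stratification is quasi-compact and quasi-separated -/
theorem qcqs_of_hasAffineStratification (X : Scheme.{u}) (n : ℕ)
    (h : MoreMor.HasAffineStratification X n) : CompactSpace X ∧ QuasiSeparatedSpace X := by
  obtain ⟨s, -, hs⟩ := h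
  choose Z ι h1 h2 h3 h4 using hs
  have hcov : ∀ x : X, x ∈ Set.range (ι (s x)) := by
    intro x; rw [h4]; rfl
  constructor
  · constructor
    have : (Set.univ : Set X) = ⋃ i, Set.range (ι i) := by
      symm; apply Set.eq_univ_of_forall
      intro x; exact Set.mem_iUnion.mpr ⟨s x, hcov x⟩
    rw [this]
    refine isCompact_iUnion fun i => ?_
    have := h2 i
    exact isCompact_range (ι i).continuous
  · constructor
    intro U V hU hUc hV hVc
    have : U ∩ V = ⋃ i, ι i '' ((ι i) ⁻¹' U ∩ (ι i) ⁻¹' V) := by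
      ext x
      constructor
      · rintro ⟨hxU, hxV⟩
        obtain ⟨z, hz⟩ := hcov x
        refine Set.mem_iUnion.mpr ⟨s x, z, ⟨?_, ?_⟩, hz⟩
        · change ι (s x) z ∈ U
          rw [hz]; exact hxU
        · change ι (s x) z ∈ V
          rw [hz]; exact hxV
      · intro hx
        obtain ⟨i, z, ⟨hzU, hzV⟩, rfl⟩ := Set.mem_iUnion.mp hx
        exact ⟨hzU, hzV⟩
    rw [this]
    refine isCompact_iUnion fun i => ?_
    have := h2 i
    have := h3 i
    refine IsCompact.image ?_ (ι i).continuous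
    exact QuasiSeparatedSpace.inter_isCompact _ _ (hU.preimage (ι i).continuous)
      (QuasiCompact.isCompact_preimage (f := ι i) U hU hUc) (hV.preimage (ι i).continuous)
      (QuasiCompact.isCompact_preimage (f := ι i) V hV hVc)

end Groth.Agent.Lib.helper27.AffStrat
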