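import Mathlib
import Groth.Prelude.Def_MoreMor
import Groth.Prelude.Def_Coh
import Groth.Agent.Lib.Helper27.AffStratVan1
import Groth.Agent.Lib.Helper27.AffStratVan5
import Groth.Agent.Lib.Helper27.AffStrat4

/-!
# Vanishing above the affine stratification number, part 6: the theorem (helper27)

`subsingleton_HH_of_hasAffineStratification`: if `X` has an affine stratification indexed by
`0, …, n`, then `H^p(X, F) = 0` for quasi-coherent `F` and `p > n` (Stacks 0F2X).  Induction on `n`
peeling off the open top stratum `U₀` (affine, with affine inclusion `j`): `F → j_* j^* F` has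
kernel and cokernel vanishing on `U₀`; modules vanishing on `U₀` are handled by dimension shifting
(`AffStratVan5`) from finite type ones, which live on thickenings of the complement
(`AffStratVan4`), to which the stratification restricts (`AffStratVan1`).
-/

set_option autoImplicit false
set_option backward.isDefEq.respectTransparency false

universe u

open AlgebraicGeometry CategoryTheory Limits TopologicalSpace

namespace Groth.Agent.Lib.helper27.AffStratVan

open Scheme.Modules Groth.Agent.Lib.helper7

/-- **Cohomology of quasi-coherent modules vanishes above the affine stratification number.** -/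
theorem subsingleton_HH_of_hasAffineStratification (n : ℕ) :
    ∀ (X : Scheme.{u}), MoreMor.HasAffineStratification X n → ∀ (F : X.Modules),
      F.IsQuasicoherent → ∀ p : ℕ, n < p → Subsingleton (Coh.HH X F p) := by
  induction n with
  | zero =>
    intro X hX F hF p hp
    obtain ⟨s, -, hst⟩ := hX
    obtain ⟨T, ι, h1, h2, h3, h4⟩ := hst 0
    have hr : Set.range ι = Set.univ := by
      rw [h4]
      apply Set.eq_univ_of_forall
      intro x
      change s x = 0
      apply Fin.ext
      have := (s x).isLt
      simp only [Fin.val_zero]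
      omega
    have htop : IsAffineOpen (⊤ : X.Opens) := by
      apply isAffineOpen_of_immersion ι
      · rw [hr]; exact Set.subset_univ _
      · exact isAffineOpen_top T
    have : IsAffine X := by
      have h5 : IsAffine (⊤ : X.Opens).toScheme := htop
      exact .of_isIso (Scheme.topIso X).inv
    exact Groth.Agent.S0007.result X F p hp
  | succ n ih =>
    intro X hX F hF p hp
    obtain ⟨hc, hqs⟩ := AffStrat.qcqs_of_hasAffineStratification X (n + 1) hX
    obtain ⟨s, hcl, hst⟩ := hX
    -- the open top stratum
    have hopen : IsOpen {x : X | s x = Fin.last (n + 1)} := by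
      have : {x : X | s x = Fin.last (n + 1)} = {x : X | s x ≤ (⟨n, by omega⟩ : Fin (n + 2))}ᶜ := by
        ext x
        have h2 := (s x).isLt
        simp only [Set.mem_ofPred_eq, Set.mem_compl_iff, Fin.le_def, Fin.ext_iff, Fin.val_last]
        omega
      rw [this]
      exact (hcl _).isOpen_compl
    let U₀ : X.Opens := ⟨{x : X | s x = Fin.last (n + 1)}, hopen⟩
    obtain ⟨T, ι, h1, h2, h3, h4⟩ := hst (Fin.last (n + 1))
    obtain ⟨hU₀aff, hU₀hom⟩ := isAffineOpen_and_isAffineHom_of_range ι U₀ h4
    have hU₀aff' : IsAffine U₀.toScheme := hU₀aff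
    obtain ⟨J, hJft, hJ⟩ := exists_ft_ideal U₀ hU₀aff.isCompact
    -- vanishing for modules supported on the complement
    have hvan : ∀ (G : X.Modules), G.IsQuasicoherent → VanOn U₀ G → ∀ q : ℕ, n < q →
        Subsingleton (Coh.HH X G q) := by
      refine subsingleton_HH_of_vanOn U₀ n ?_
      intro G hGq hGft hG q hq
      refine subsingleton_HH_of_ft U₀ J hJft hJ q ?_ G hGft hG
      intro k M hM
      refine ih _ ?_ M hM q hq
      refine hasAffineStratification_of_isAffineHom (J ^ (k + 1)).subschemeι n s hcl hst ?_
      intro y hy
      have hy1 : (J ^ (k + 1)).subschemeι y ∈ Set.range (J ^ (k + 1)).subschemeι := ⟨y, rfl⟩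
      rw [(J ^ (k + 1)).range_subschemeι, Scheme.IdealSheafData.support_pow_succ, hJ] at hy1
      exact hy1 hy
    -- the unit
    let η := unitOpen U₀ F
    have hqr : ((restrictFunctor U₀.ι).obj F).IsQuasicoherent := inferInstance
    have hqA : ((pushforward U₀.ι).obj ((restrictFunctor U₀.ι).obj F)).IsQuasicoherent :=
      QCohPushQC.isQuasicoherent_pushforward U₀.ι _
    have hA : ∀ q : ℕ, 0 < q → Subsingleton
        (Coh.HH X ((pushforward U₀.ι).obj ((restrictFunctor U₀.ι).obj F)) q) := by
      intro q hq
      obtain ⟨e⟩ := Groth.Agent.S0012.result U₀.ι ((restrictFunctor U₀.ι).obj F) q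
      have := Groth.Agent.S0007.result U₀.toScheme ((restrictFunctor U₀.ι).obj F) q hq
      exact e.symm.toEquiv.subsingleton
    have hKq : (kernel η).IsQuasicoherent := CohKer.isQuasicoherent_kernel η
    have hQq : (cokernel η).IsQuasicoherent := CohKer.isQuasicoherent_cokernel η
    obtain ⟨q, rfl⟩ : ∃ q, p = q + 1 := ⟨p - 1, by omega⟩
    -- second sequence: image, push-pull, cokernel
    let S2 : ShortComplex X.Modules :=
      ShortComplex.mk (kernel.ι (cokernel.π η)) (cokernel.π η) (kernel.condition _)
    have hS2 : S2.ShortExact :=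
      { exact := ShortComplex.exact_of_f_is_kernel _ (kernelIsKernel (cokernel.π η))
        mono_f := inferInstanceAs (Mono (kernel.ι (cokernel.π η)))
        epi_g := inferInstanceAs (Epi (cokernel.π η)) }
    have himage : Subsingleton (Coh.HH X (Abelian.image η) (q + 1)) :=
      Groth.Agent.Lib.Helper18.HH.subsingleton_X₁_succ hS2 q
        (hvan (cokernel η) hQq (vanOn_cokernel_unitOpen U₀ F) q (by omega))
        (hA (q + 1) (by omega))
    -- first sequence: kernel, F, coimage
    let S1 : ShortComplex X.Modules :=
      ShortComplex.mk (kernel.ι η) (cokernel.π (kernel.ι η)) (cokernel.condition _)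
    have hS1 : S1.ShortExact :=
      { exact := ShortComplex.exact_of_g_is_cokernel _ (cokernelIsCokernel (kernel.ι η))
        mono_f := inferInstanceAs (Mono (kernel.ι η))
        epi_g := inferInstanceAs (Epi (cokernel.π (kernel.ι η))) }
    have hcoim : Subsingleton (Coh.HH X (Abelian.coimage η) (q + 1)) :=
      ThickAff.subsingleton_HH_of_iso (Abelian.coimageIsoImage η) (q + 1) himage
    exact Groth.Agent.Lib.Helper18.HH.subsingleton_X₂ hS1 (q + 1)
      (hvan (kernel η) hKq (vanOn_kernel_unitOpen U₀ F) (q + 1) (by omega)) hcoim

end Groth.Agent.Lib.helper27.AffStratVan
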