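import Mathlib

open CategoryTheory Limits TensorProduct

universe u

namespace Groth.Agent.Lib.helper27.Amitsur

variable (R A : Type u) [CommRing R] [CommRing A] [Algebra R A]

abbrev arr : Arrow CommRingCat.{u} := Arrow.mk (CommRingCat.ofHom (algebraMap R A))

noncomputable abbrev X : CosimplicialObject CommRingCat.{u} := (arr R A).cechConerve

/-- the `n`-th term of the Čech conerve -/
abbrev W (n : ℕ) : Type u := ((X R A).obj (SimplexCategory.mk n) : CommRingCat.{u})

noncomputable def head (n : ℕ) : CommRingCat.of R ⟶ (X R A).obj (SimplexCategory.mk n) :=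
  WidePushout.head _

noncomputable def ι (n : ℕ) (j : Fin (n + 1)) :
    CommRingCat.of A ⟶ (X R A).obj (SimplexCategory.mk n) :=
  WidePushout.ι (fun _ : Fin (n + 1) => (arr R A).hom) j

lemma arrow_ι (n : ℕ) (j : Fin (n + 1)) :
    CommRingCat.ofHom (algebraMap R A) ≫ ι R A n j = head R A n :=
  WidePushout.arrow_ι (fun _ : Fin (n + 1) => (arr R A).hom) j

lemma head_δ (n : ℕ) (i : Fin (n + 2)) : head R A n ≫ (X R A).δ i = head R A (n + 1) :=
  WidePushout.head_desc _ _ _ _

lemma ι_δ (n : ℕ) (i : Fin (n + 2)) (j : Fin (n + 1)) :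
    ι R A n j ≫ (X R A).δ i = ι R A (n + 1) (i.succAbove j) :=
  WidePushout.ι_desc _ _ _ _ _

lemma hom_ext {n : ℕ} {Y : CommRingCat.{u}} (g1 g2 : (X R A).obj (SimplexCategory.mk n) ⟶ Y)
    (h1 : ∀ j, ι R A n j ≫ g1 = ι R A n j ≫ g2) (h2 : head R A n ≫ g1 = head R A n ≫ g2) :
    g1 = g2 :=
  WidePushout.hom_ext _ _ _ h1 h2

noncomputable instance (n : ℕ) : Algebra R (W R A n) := (head R A n).hom.toAlgebra

lemma algebraMap_W (n : ℕ) : algebraMap R (W R A n) = (head R A n).hom := rfl

/-- cofaces as algebra maps -/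
noncomputable def δa (n : ℕ) (i : Fin (n + 2)) : W R A n →ₐ[R] W R A (n + 1) :=
  { ((X R A).δ i).hom with
    commutes' := fun r => by
      have := congrArg (fun f => f.hom r) (head_δ R A n i)
      exact this }


/-- the base-changed terms -/
abbrev T (n : ℕ) : Type u := A ⊗[R] W R A n

/-- the ring map `W (n+1) ⟶ A ⊗ W n` multiplying the zeroth factor into `A` -/
noncomputable def σc (n : ℕ) : (X R A).obj (SimplexCategory.mk (n + 1)) ⟶ CommRingCat.of (T R A n) :=
  WidePushout.desc (CommRingCat.ofHom (algebraMap R (T R A n)))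
    (fun j => Fin.cases
      (CommRingCat.ofHom (Algebra.TensorProduct.includeLeftRingHom : A →+* T R A n))
      (fun j' => ι R A n j' ≫ CommRingCat.ofHom
        ((Algebra.TensorProduct.includeRight : W R A n →ₐ[R] T R A n) : W R A n →+* T R A n)) j)
    (fun j => by
      induction j using Fin.cases with
      | zero =>
        ext r
        exact (Algebra.TensorProduct.includeLeft : A →ₐ[R] T R A n).commutes r
      | succ j' =>
        ext r
        have h1 := congrArg (fun f => f.hom r) (arrow_ι R A n j')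
        simp only [Fin.cases_succ]
        change (Algebra.TensorProduct.includeRight : W R A n →ₐ[R] T R A n)
          ((ι R A n j').hom (algebraMap R A r)) = _
        change (ι R A n j').hom (algebraMap R A r) = (head R A n).hom r at h1
        rw [h1]
        exact (Algebra.TensorProduct.includeRight : W R A n →ₐ[R] T R A n).commutes r)

lemma head_σc (n : ℕ) : head R A (n + 1) ≫ σc R A n = CommRingCat.ofHom (algebraMap R (T R A n)) :=
  WidePushout.head_desc _ _ _ _

lemma ι_zero_σc (n : ℕ) : ι R A (n + 1) 0 ≫ σc R A n =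
    CommRingCat.ofHom (Algebra.TensorProduct.includeLeftRingHom : A →+* T R A n) :=
  WidePushout.ι_desc _ _ _ _ _

lemma ι_succ_σc (n : ℕ) (j : Fin (n + 1)) : ι R A (n + 1) j.succ ≫ σc R A n =
    ι R A n j ≫ CommRingCat.ofHom
        ((Algebra.TensorProduct.includeRight : W R A n →ₐ[R] T R A n) : W R A n →+* T R A n) :=
  WidePushout.ι_desc _ _ _ _ _

noncomputable def σa (n : ℕ) : W R A (n + 1) →ₐ[R] T R A n :=
  { (σc R A n).hom with
    commutes' := fun r => by
      have := congrArg (fun f => f.hom r) (head_σc R A n)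
      exact this }

/-- the extra codegeneracy after base change -/
noncomputable def s (n : ℕ) : T R A (n + 1) →ₐ[R] T R A n :=
  Algebra.TensorProduct.lift (Algebra.TensorProduct.includeLeft : A →ₐ[R] T R A n) (σa R A n)
    (fun _ _ => Commute.all _ _)


lemma algHom_ext_cat {n : ℕ} {S : Type u} [CommRing S] [Algebra R S] (f g : W R A n →ₐ[R] S)
    (h : (CommRingCat.ofHom (f : W R A n →+* S) : (X R A).obj (SimplexCategory.mk n) ⟶ CommRingCat.of S) =
      CommRingCat.ofHom (g : W R A n →+* S)) : f = g := by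
  ext x
  exact congrArg (fun φ => φ.hom x) h

lemma σa_comp_δa_zero (n : ℕ) :
    (σa R A n).comp (δa R A n 0) = Algebra.TensorProduct.includeRight := by
  apply algHom_ext_cat
  change (X R A).δ 0 ≫ σc R A n = CommRingCat.ofHom
        ((Algebra.TensorProduct.includeRight : W R A n →ₐ[R] T R A n) : W R A n →+* T R A n)
  apply hom_ext
  · intro j
    rw [← Category.assoc, ι_δ, Fin.succAbove_zero, ι_succ_σc]
    rfl
  · rw [← Category.assoc, head_δ, head_σc]
    ext r
    exact ((Algebra.TensorProduct.includeRight : W R A n →ₐ[R] T R A n).commutes r).symm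

lemma s_comp_map_zero (n : ℕ) :
    (s R A n).comp (Algebra.TensorProduct.map (AlgHom.id R A) (δa R A n 0)) = AlgHom.id R _ := by
  apply Algebra.TensorProduct.ext
  · ext a
    simp [s]
  · ext w
    have := congrArg (fun f => f w) (σa_comp_δa_zero R A n)
    simp only [AlgHom.coe_comp, Function.comp_apply, Algebra.TensorProduct.includeRight_apply] at this
    simp [s, this, ← Algebra.TensorProduct.one_def]


/-- `1 ⊗ δ_i` as a ring map in `CommRingCat` -/
noncomputable def mδc (n : ℕ) (i : Fin (n + 2)) :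
    CommRingCat.of (T R A n) ⟶ CommRingCat.of (T R A (n + 1)) :=
  CommRingCat.ofHom
    ((Algebra.TensorProduct.map (AlgHom.id R A) (δa R A n i) : T R A n →ₐ[R] T R A (n + 1)) :
      T R A n →+* T R A (n + 1))

lemma σa_comp_δa_succ (n : ℕ) (i : Fin (n + 2)) :
    (σa R A (n + 1)).comp (δa R A (n + 1) i.succ) =
      (Algebra.TensorProduct.map (AlgHom.id R A) (δa R A n i)).comp (σa R A n) := by
  apply algHom_ext_cat
  change (X R A).δ i.succ ≫ σc R A (n + 1) = σc R A n ≫ mδc R A n i
  apply hom_ext
  · intro j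
    induction j using Fin.cases with
    | zero =>
      rw [← Category.assoc, ι_δ, Fin.succ_succAbove_zero, ι_zero_σc, ← Category.assoc, ι_zero_σc]
      ext a
      change (a ⊗ₜ[R] (1 : W R A (n + 1)) : T R A (n + 1)) =
        (Algebra.TensorProduct.map (AlgHom.id R A) (δa R A n i)) (a ⊗ₜ[R] (1 : W R A n))
      simp
    | succ j' =>
      rw [← Category.assoc, ι_δ, Fin.succ_succAbove_succ, ι_succ_σc, ← Category.assoc, ι_succ_σc,
        ← ι_δ, Category.assoc, Category.assoc]
      congr 1
  · rw [← Category.assoc, head_δ, head_σc, ← Category.assoc, head_σc]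
    ext r
    exact ((Algebra.TensorProduct.map (AlgHom.id R A) (δa R A n i)).commutes r).symm

lemma s_comp_map_succ (n : ℕ) (i : Fin (n + 2)) :
    (s R A (n + 1)).comp (Algebra.TensorProduct.map (AlgHom.id R A) (δa R A (n + 1) i.succ)) =
      (Algebra.TensorProduct.map (AlgHom.id R A) (δa R A n i)).comp (s R A n) := by
  apply Algebra.TensorProduct.ext
  · ext a
    simp [s]
  · ext w
    have := congrArg (fun f => f w) (σa_comp_δa_succ R A n i)
    simp only [AlgHom.coe_comp, Function.comp_apply] at this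
    simp [s, this, ← Algebra.TensorProduct.one_def]


/-- the alternating sum of cofaces as a linear map -/
noncomputable def Dl (n : ℕ) : W R A n →ₗ[R] W R A (n + 1) :=
  ∑ i : Fin (n + 2), (-1 : ℤ) ^ (i : ℕ) • (δa R A n i).toLinearMap

/-- the base change of `Dl` -/
noncomputable def lD (n : ℕ) : T R A n →ₗ[R] T R A (n + 1) := (Dl R A n).lTensor A

lemma map_eq_lTensor (n : ℕ) (i : Fin (n + 2)) :
    (Algebra.TensorProduct.map (AlgHom.id R A) (δa R A n i)).toLinearMap =
      (δa R A n i).toLinearMap.lTensor A := by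
  apply TensorProduct.ext'
  intro a w
  simp

lemma lD_eq (n : ℕ) : lD R A n =
    ∑ i : Fin (n + 2), (-1 : ℤ) ^ (i : ℕ) •
      (Algebra.TensorProduct.map (AlgHom.id R A) (δa R A n i)).toLinearMap := by
  simp only [map_eq_lTensor]
  rw [lD, Dl, ← LinearMap.coe_lTensorHom, map_sum]
  refine Finset.sum_congr rfl (fun i _ => ?_)
  rw [map_zsmul]

lemma homotopy (n : ℕ) (x : T R A (n + 1)) :
    s R A (n + 1) (lD R A (n + 1) x) + lD R A n (s R A n x) = x := by
  rw [lD_eq, lD_eq, LinearMap.sum_apply, LinearMap.sum_apply, map_sum, Fin.sum_univ_succ]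
  have h0 : s R A (n + 1) (((-1 : ℤ) ^ ((0 : Fin (n + 3)) : ℕ) •
        (Algebra.TensorProduct.map (AlgHom.id R A) (δa R A (n + 1) 0)).toLinearMap) x) = x := by
    have := congrArg (fun f => f x) (s_comp_map_zero R A (n + 1))
    simp only [AlgHom.coe_comp, Function.comp_apply, AlgHom.coe_id, id_eq] at this
    simp only [Fin.val_zero, pow_zero, one_smul, AlgHom.toLinearMap_apply, this]
  rw [h0, add_assoc, ← Finset.sum_add_distrib]
  rw [Finset.sum_eq_zero, add_zero]
  intro i _
  have := congrArg (fun f => f x) (s_comp_map_succ R A n i)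
  simp only [AlgHom.coe_comp, Function.comp_apply] at this
  simp only [LinearMap.smul_apply, AlgHom.toLinearMap_apply, map_zsmul, this, Fin.val_succ, pow_succ]
  simp


lemma hom_sum_apply {M N : AddCommGrpCat.{u}} {κ : Type} (t : Finset κ) (f : κ → (M ⟶ N)) (x : M) :
    (∑ i ∈ t, f i).hom x = ∑ i ∈ t, (f i).hom x := by
  classical
  induction t using Finset.induction_on with
  | empty => simp
  | insert a t ha ih => rw [Finset.sum_insert ha, Finset.sum_insert ha, ← ih]; rfl

/-- the Amitsur complex -/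
noncomputable abbrev K : CochainComplex AddCommGrpCat.{u} ℕ :=
  AlgebraicTopology.AlternatingCofaceMapComplex.obj
    ((X R A) ⋙ forget₂ CommRingCat RingCat ⋙ forget₂ RingCat AddCommGrpCat)

lemma Kd_apply (n : ℕ) (x : W R A n) :
    ((K R A).d n (n + 1)).hom x = Dl R A n x := by
  have h : (K R A).d n (n + 1) = AlgebraicTopology.AlternatingCofaceMapComplex.objD
      ((X R A) ⋙ forget₂ CommRingCat RingCat ⋙ forget₂ RingCat AddCommGrpCat) n :=
    by apply CochainComplex.of_d
  rw [h]
  simp only [AlgebraicTopology.AlternatingCofaceMapComplex.objD, Dl]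
  rw [LinearMap.sum_apply]
  refine (hom_sum_apply _ _ _).trans ?_
  refine Finset.sum_congr rfl (fun i _ => ?_)
  rfl


lemma Dl_comp (n : ℕ) : Dl R A (n + 1) ∘ₗ Dl R A n = 0 := by
  ext x
  rw [LinearMap.comp_apply, ← Kd_apply, ← Kd_apply]
  have := congrArg (fun f => f.hom x) ((K R A).d_comp_d n (n + 1) (n + 2))
  exact this

lemma lD_exact (m : ℕ) : Function.Exact (lD R A m) (lD R A (m + 1)) := by
  intro y
  constructor
  · intro hy
    refine ⟨s R A m y, ?_⟩
    have := homotopy R A m y
    rw [hy, map_zero, zero_add] at this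
    exact this
  · rintro ⟨z, rfl⟩
    rw [lD, lD, ← LinearMap.comp_apply, ← LinearMap.lTensor_comp, Dl_comp, LinearMap.lTensor_zero,
      LinearMap.zero_apply]

theorem main [Module.FaithfullyFlat R A] (n : ℕ) (hn : 0 < n) : (K R A).ExactAt n := by
  obtain ⟨m, rfl⟩ : ∃ m, n = m + 1 := ⟨n - 1, by omega⟩
  rw [HomologicalComplex.exactAt_iff' (K R A) m (m + 1) (m + 2) (by simp) (by simp),
    ShortComplex.ab_exact_iff]
  intro x hx
  have hex := Module.FaithfullyFlat.lTensor_reflects_exact R A (Dl R A m) (Dl R A (m + 1))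
    (lD_exact R A m)
  have hx' : Dl R A (m + 1) x = 0 := by
    rw [← Kd_apply]
    exact hx
  obtain ⟨y, hy⟩ := (hex x).1 hx'
  refine ⟨y, ?_⟩
  rw [← hy, ← Kd_apply]
  rfl

end Groth.Agent.Lib.helper27.Amitsur
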