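import Mathlib
import Groth.Agent.Lib.Helper11.ExpLog

/-!
# Helper library (helper27): majorants for the coefficients of the formal exponential; absolute
convergence and non-vanishing of the resulting power series in a disc.
-/

set_option autoImplicit false
set_option linter.style.haveILetI false
set_option linter.unusedSectionVars false

namespace Groth.Agent.Lib.helper27.ZetaDir1

open PowerSeries Groth.Agent.Lib.helper11

/-- the recursion for the coefficients of `exp g`. -/
theorem coeff_E_succ {g : ℚ⟦X⟧} (hg : constantCoeff g = 0) (d : ℕ) :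
    coeff (d + 1) (E g) * ((d : ℚ) + 1) =
      ∑ p ∈ Finset.HasAntidiagonal.antidiagonal d, (coeff (p.1 + 1) g * ((p.1 : ℚ) + 1)) * coeff p.2 (E g) := by
  have h := congrArg (coeff d) (derivative_E hg)
  rw [coeff_derivative, coeff_mul] at h
  rw [h]
  refine Finset.sum_congr rfl fun p _ => ?_
  rw [coeff_derivative]

/-- majorant principle for `exp`. -/
theorem abs_coeff_E_le {g G : ℚ⟦X⟧} (hg : constantCoeff g = 0) (hG : constantCoeff G = 0)
    (h : ∀ m, |coeff (m + 1) g| ≤ coeff (m + 1) G) (d : ℕ) :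
    |coeff d (E g)| ≤ coeff d (E G) := by
  induction d using Nat.strong_induction_on with
  | _ d ih =>
    cases d with
    | zero =>
      rw [coeff_zero_eq_constantCoeff_apply, coeff_zero_eq_constantCoeff_apply,
        constantCoeff_E hg, constantCoeff_E hG, abs_one]
    | succ d =>
      have h1 := coeff_E_succ hg d
      have h2 := coeff_E_succ hG d
      have hpos : (0 : ℚ) < (d : ℚ) + 1 := by positivity
      have key : |coeff (d + 1) (E g)| * ((d : ℚ) + 1) ≤ coeff (d + 1) (E G) * ((d : ℚ) + 1) := by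
        rw [h2]
        calc |coeff (d + 1) (E g)| * ((d : ℚ) + 1)
            = |coeff (d + 1) (E g) * ((d : ℚ) + 1)| := by
              rw [abs_mul, abs_of_pos hpos]
          _ = |∑ p ∈ Finset.HasAntidiagonal.antidiagonal d,
                (coeff (p.1 + 1) g * ((p.1 : ℚ) + 1)) * coeff p.2 (E g)| := by rw [h1]
          _ ≤ ∑ p ∈ Finset.HasAntidiagonal.antidiagonal d,
                |(coeff (p.1 + 1) g * ((p.1 : ℚ) + 1)) * coeff p.2 (E g)| :=
              Finset.abs_sum_le_sum_abs _ _
          _ ≤ ∑ p ∈ Finset.HasAntidiagonal.antidiagonal d,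
                (coeff (p.1 + 1) G * ((p.1 : ℚ) + 1)) * coeff p.2 (E G) := by
              refine Finset.sum_le_sum fun p hp => ?_
              have hp' : p.1 + p.2 = d := Finset.HasAntidiagonal.mem_antidiagonal.mp hp
              have hlt : p.2 < d + 1 := by omega
              have hpos' : (0 : ℚ) < (p.1 : ℚ) + 1 := by positivity
              rw [abs_mul, abs_mul, abs_of_pos hpos']
              have hG0 : 0 ≤ coeff (p.1 + 1) G := le_trans (abs_nonneg _) (h p.1)
              exact mul_le_mul (mul_le_mul_of_nonneg_right (h p.1) hpos'.le) (ih p.2 hlt)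
                (abs_nonneg _) (mul_nonneg hG0 hpos'.le)
      exact le_of_mul_le_mul_right key hpos

/-- the coefficients of `1 / (1 - Q X)`. -/
theorem coeff_E_Lc (Q : ℚ) (d : ℕ) : coeff d (E (Lc Q)) = Q ^ d := by
  induction d with
  | zero =>
    rw [coeff_zero_eq_constantCoeff_apply, constantCoeff_E (constantCoeff_Lc Q), pow_zero]
  | succ d ih =>
    have h := congrArg (coeff (d + 1)) (E_Lc_mul Q)
    rw [mul_sub, mul_one, map_sub, ← mul_assoc, coeff_succ_mul_X, mul_comm, coeff_C_mul, ih,
      coeff_one, if_neg (Nat.succ_ne_zero d)] at h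
    rw [pow_succ, mul_comm]
    exact sub_eq_zero.mp h

/-- polynomial-times-geometric bound on the coefficients of `(1 / (1 - Q X)) ^ c`. -/
theorem coeff_E_Lc_pow_le (Q : ℚ) (hQ : 0 ≤ Q) (c d : ℕ) :
    coeff d (E (Lc Q) ^ c) ≤ ((d : ℚ) + 1) ^ c * Q ^ d := by
  induction c generalizing d with
  | zero =>
    rw [pow_zero, pow_zero, one_mul, coeff_one]
    split_ifs with hd
    · rw [hd, pow_zero]
    · exact pow_nonneg hQ d
  | succ c ih =>
    rw [pow_succ, coeff_mul]
    calc ∑ p ∈ Finset.HasAntidiagonal.antidiagonal d, coeff p.1 (E (Lc Q) ^ c) * coeff p.2 (E (Lc Q))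
        ≤ ∑ p ∈ Finset.HasAntidiagonal.antidiagonal d, ((d : ℚ) + 1) ^ c * Q ^ d := by
          refine Finset.sum_le_sum fun p hp => ?_
          have hp' : p.1 + p.2 = d := Finset.HasAntidiagonal.mem_antidiagonal.mp hp
          rw [coeff_E_Lc]
          have h1 : coeff p.1 (E (Lc Q) ^ c) * Q ^ p.2 ≤ (((p.1 : ℚ) + 1) ^ c * Q ^ p.1) * Q ^ p.2 :=
            mul_le_mul_of_nonneg_right (ih p.1) (pow_nonneg hQ _)
          refine h1.trans ?_
          rw [mul_assoc, ← pow_add, hp']
          refine mul_le_mul_of_nonneg_right ?_ (pow_nonneg hQ _)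
          have : (p.1 : ℚ) ≤ d := by exact_mod_cast (by omega : p.1 ≤ d)
          exact pow_le_pow_left₀ (by positivity) (by linarith) c
      _ = ((d : ℚ) + 1) ^ (c + 1) * Q ^ d := by
          rw [Finset.sum_const, Finset.Nat.card_antidiagonal, nsmul_eq_mul, pow_succ]
          push_cast
          ring

/-- the main coefficient bound: if `|m g_m| ≤ c Q^m` then `|exp(g)_d| ≤ (d+1)^c Q^d`. -/
theorem abs_coeff_E_le_pow {g : ℚ⟦X⟧} (hg : constantCoeff g = 0) (c : ℕ) (Q : ℚ) (hQ : 0 ≤ Q)
    (h : ∀ m : ℕ, 1 ≤ m → |coeff m g * m| ≤ c * Q ^ m) (d : ℕ) :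
    |coeff d (E g)| ≤ ((d : ℚ) + 1) ^ c * Q ^ d := by
  have hG : constantCoeff (c • Lc Q) = 0 := by
    rw [map_nsmul, constantCoeff_Lc, smul_zero]
  have h1 : ∀ m, |coeff (m + 1) g| ≤ coeff (m + 1) (c • Lc Q) := by
    intro m
    have hm := h (m + 1) (Nat.succ_pos m)
    have hpos : (0 : ℚ) < ((m + 1 : ℕ) : ℚ) := by positivity
    rw [abs_mul, abs_of_pos hpos] at hm
    rw [map_nsmul, Lc, coeff_mk, nsmul_eq_mul, ← mul_div_assoc, le_div_iff₀ hpos]
    exact hm
  refine (abs_coeff_E_le hg hG h1 d).trans ?_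
  rw [E_nsmul (constantCoeff_Lc Q)]
  exact coeff_E_Lc_pow_le Q hQ c d

end Groth.Agent.Lib.helper27.ZetaDir1
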