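import Mathlib
import Groth.Agent.Lib.Helper27.ZetaDir1

/-!
# Helper library (helper27): absolute convergence and non-vanishing of power series with
polynomial-times-geometric coefficient bounds; Dirichlet series supported on the powers of `q`.
-/

set_option autoImplicit false
set_option linter.style.haveILetI false
set_option linter.unusedSectionVars false

namespace Groth.Agent.Lib.helper27.ZetaDir2

theorem summable_poly_geom (c : ℕ) (ρ : ℝ) (h0 : 0 ≤ ρ) (h1 : ρ < 1) :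
    Summable (fun d : ℕ => ((d : ℝ) + 1) ^ c * ρ ^ d) := by
  rcases eq_or_lt_of_le h0 with h | h
  · refine summable_of_ne_finset_zero (s := {0}) fun d hd => ?_
    have hd' : d ≠ 0 := by simpa using hd
    rw [← h, zero_pow hd', mul_zero]
  · have hs := summable_pow_mul_geometric_of_norm_lt_one c (r := ρ)
      (by rwa [Real.norm_of_nonneg h0])
    have hs' := ((summable_nat_add_iff 1).mpr hs).mul_right ρ⁻¹
    refine hs'.congr fun d => ?_
    push_cast
    rw [pow_succ]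
    field_simp

theorem summable_norm_of_bound (A : ℕ → ℂ) (c : ℕ) (Q : ℝ) (hQ : 0 ≤ Q)
    (hA : ∀ d, ‖A d‖ ≤ ((d : ℝ) + 1) ^ c * Q ^ d) (t : ℂ) (ht : Q * ‖t‖ < 1) :
    Summable (fun d => ‖A d * t ^ d‖) := by
  refine Summable.of_nonneg_of_le (fun d => norm_nonneg _) (fun d => ?_)
    (summable_poly_geom c (Q * ‖t‖) (mul_nonneg hQ (norm_nonneg _)) ht)
  rw [norm_mul, norm_pow, mul_pow, ← mul_assoc]
  exact mul_le_mul_of_nonneg_right (hA d) (pow_nonneg (norm_nonneg _) _)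

theorem tsum_ne_zero (A B : ℕ → ℂ)
    (hAB : ∀ n, ∑ p ∈ Finset.HasAntidiagonal.antidiagonal n, A p.1 * B p.2 = if n = 0 then 1 else 0)
    (c : ℕ) (Q : ℝ) (hQ : 0 ≤ Q)
    (hA : ∀ d, ‖A d‖ ≤ ((d : ℝ) + 1) ^ c * Q ^ d) (hB : ∀ d, ‖B d‖ ≤ ((d : ℝ) + 1) ^ c * Q ^ d)
    (t : ℂ) (ht : Q * ‖t‖ < 1) : ∑' d, A d * t ^ d ≠ 0 := by
  have h := tsum_mul_tsum_eq_tsum_sum_antidiagonal_of_summable_norm
    (summable_norm_of_bound A c Q hQ hA t ht) (summable_norm_of_bound B c Q hQ hB t ht)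
  have h2 : ∀ n, ∑ kl ∈ Finset.HasAntidiagonal.antidiagonal n,
      (A kl.1 * t ^ kl.1) * (B kl.2 * t ^ kl.2) = if n = 0 then 1 else 0 := by
    intro n
    have : ∀ kl ∈ Finset.HasAntidiagonal.antidiagonal n,
        (A kl.1 * t ^ kl.1) * (B kl.2 * t ^ kl.2) = (A kl.1 * B kl.2) * t ^ n := by
      intro kl hkl
      rw [← Finset.HasAntidiagonal.mem_antidiagonal.mp hkl, pow_add]
      ring
    rw [Finset.sum_congr rfl this, ← Finset.sum_mul, hAB]
    split_ifs with hn
    · rw [hn, pow_zero, one_mul]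
    · rw [zero_mul]
  have h3 : (∑' n, ∑ kl ∈ Finset.HasAntidiagonal.antidiagonal n,
      (A kl.1 * t ^ kl.1) * (B kl.2 * t ^ kl.2)) = 1 := by
    rw [tsum_congr h2, tsum_ite_eq]
  intro h0
  rw [h0, zero_mul, h3] at h
  exact zero_ne_one h

section dirichlet

variable (a : ℕ → ℂ) (q : ℕ) (hq : 2 ≤ q) (A : ℕ → ℂ) (ha : ∀ d, a (q ^ d) = A d)
  (ha0 : ∀ n, (∀ d, n ≠ q ^ d) → a n = 0) (s : ℂ)

include hq ha in
theorem term_pow (d : ℕ) : LSeries.term a s (q ^ d) = A d * (((q : ℂ) ^ s)⁻¹) ^ d := by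
  have hq0 : q ≠ 0 := by omega
  rw [LSeries.term_of_ne_zero (pow_ne_zero d hq0), ha, Nat.cast_pow,
    ← Complex.natCast_cpow_natCast_mul, Complex.cpow_nat_mul, inv_pow, div_eq_mul_inv]

include ha0 in
theorem term_eq_zero (n : ℕ) (hn : n ∉ Set.range (fun d : ℕ => q ^ d)) :
    LSeries.term a s n = 0 := by
  have : a n = 0 := ha0 n (fun d hd => hn ⟨d, hd.symm⟩)
  rw [LSeries.term_def, this, zero_div, ite_self]

include hq ha ha0 in
theorem lseriesSummable_iff :
    LSeriesSummable a s ↔ Summable (fun d => A d * (((q : ℂ) ^ s)⁻¹) ^ d) := by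
  have hi : Function.Injective (fun d : ℕ => q ^ d) := Nat.pow_right_injective hq
  rw [LSeriesSummable, ← hi.summable_iff (term_eq_zero a q ha0 s)]
  refine summable_congr fun d => ?_
  exact term_pow a q hq A ha s d

include hq ha ha0 in
theorem lseries_eq : LSeries a s = ∑' d, A d * (((q : ℂ) ^ s)⁻¹) ^ d := by
  have hi : Function.Injective (fun d : ℕ => q ^ d) := Nat.pow_right_injective hq
  have hsupp : Function.support (LSeries.term a s) ⊆ Set.range (fun d : ℕ => q ^ d) := by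
    intro n hn
    by_contra h
    exact hn (term_eq_zero a q ha0 s n h)
  rw [LSeries, ← hi.tsum_eq hsupp]
  exact tsum_congr fun d => term_pow a q hq A ha s d

include hq in
theorem norm_inv_cpow_lt (r : ℕ) (hs : (r : ℝ) < s.re) :
    (q : ℝ) ^ r * ‖((q : ℂ) ^ s)⁻¹‖ < 1 := by
  have hq0 : 0 < q := by omega
  have hq1 : (1 : ℝ) < q := by exact_mod_cast hq
  rw [norm_inv, Complex.norm_natCast_cpow_of_pos hq0, ← div_eq_mul_inv,
    div_lt_one (Real.rpow_pos_of_pos (by positivity) _), ← Real.rpow_natCast]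
  exact Real.rpow_lt_rpow_of_exponent_lt hq1 hs

end dirichlet

end Groth.Agent.Lib.helper27.ZetaDir2
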