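import Mathlib
import Groth.Agent.Lib.Helper27.ZetaDir2

/-!
# Helper library (helper27): Euler products: summability of a nonnegative multiplicative function from
the local sums, and non-vanishing of an absolutely convergent Euler product.
-/

set_option autoImplicit false
set_option linter.style.haveILetI false
set_option linter.unusedSectionVars false

namespace Groth.Agent.Lib.helper27.ArithZ1

open Finset

/-- summability of a nonnegative multiplicative function from the local sums. -/
theorem summable_of_multiplicative (g : ℕ → ℝ) (hg : ∀ n, 0 ≤ g n) (hg0 : g 0 = 0) (hg1 : g 1 = 1)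
    (hmul : ∀ {m n}, Nat.Coprime m n → g (m * n) = g m * g n)
    (hloc : ∀ {p : ℕ}, p.Prime → Summable (fun d => g (p ^ d)))
    (hprimes : Summable (fun p : ℕ => if p.Prime then ∑' d, g (p ^ (d + 1)) else 0)) :
    Summable g := by
  let u : ℕ → ℝ := fun p => if p.Prime then ∑' d, g (p ^ (d + 1)) else 0
  have hu : ∀ p, 0 ≤ u p := by
    intro p
    change 0 ≤ (if p.Prime then ∑' d, g (p ^ (d + 1)) else 0)
    split_ifs
    · exact tsum_nonneg fun d => hg _
    · exact le_rfl
  refine summable_of_sum_le (c := Real.exp (∑' p, u p)) (fun n => hg n) fun t => ?_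
  let N := t.sup id + 1
  have hnorm : ∀ {p : ℕ}, p.Prime → Summable (fun n : ℕ => ‖g (p ^ n)‖) := by
    intro p hp
    refine (hloc hp).congr fun n => ?_
    rw [Real.norm_of_nonneg (hg _)]
  have H := EulerProduct.summable_and_hasSum_smoothNumbers_prod_primesBelow_tsum hg1 hmul hnorm N
  have H2 := (hasSum_subtype_iff_indicator).mp H.2
  have hle : ∀ x ∈ t, g x ≤ Set.indicator (N.smoothNumbers) g x := by
    intro x hx
    rcases Nat.eq_zero_or_pos x with h0 | hpos
    · rw [h0, hg0]
      exact Set.indicator_nonneg (fun n _ => hg n) _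
    · have hxN : x < N := Nat.lt_succ_of_le (Finset.le_sup (f := id) hx)
      rw [Set.indicator_of_mem (Nat.mem_smoothNumbers_of_lt hpos hxN)]
  calc ∑ x ∈ t, g x ≤ ∑ x ∈ t, Set.indicator (N.smoothNumbers) g x := Finset.sum_le_sum hle
    _ ≤ ∏ p ∈ N.primesBelow, ∑' n : ℕ, g (p ^ n) :=
        sum_le_hasSum t (fun i _ => Set.indicator_nonneg (fun n _ => hg n) _) H2
    _ = ∏ p ∈ N.primesBelow, (1 + u p) := by
        refine Finset.prod_congr rfl fun p hp => ?_
        have hpp : p.Prime := Nat.prime_of_mem_primesBelow hp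
        rw [(hloc hpp).tsum_eq_zero_add, pow_zero, hg1]
        change _ = 1 + (if p.Prime then ∑' d, g (p ^ (d + 1)) else 0)
        rw [if_pos hpp]
    _ ≤ ∏ p ∈ N.primesBelow, Real.exp (u p) := by
        refine Finset.prod_le_prod (fun p _ => by linarith [hu p]) fun p _ => ?_
        rw [add_comm]
        exact Real.add_one_le_exp _
    _ = Real.exp (∑ p ∈ N.primesBelow, u p) := (Real.exp_sum _ _).symm
    _ ≤ Real.exp (∑' p, u p) := by
        apply Real.exp_le_exp.mpr
        exact hprimes.sum_le_tsum _ (fun p _ => hu p)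

/-- non-vanishing of an absolutely convergent Euler product with non-vanishing factors. -/
theorem tsum_ne_zero_of_eulerProduct (f : ℕ → ℂ) (hf0 : f 0 = 0) (hf1 : f 1 = 1)
    (hmul : ∀ {m n}, Nat.Coprime m n → f (m * n) = f m * f n) (hsum : Summable (‖f ·‖))
    (hne : ∀ p : Nat.Primes, ∑' d, f ((p : ℕ) ^ d) ≠ 0)
    (hs : Summable (fun p : Nat.Primes => ∑' d, f ((p : ℕ) ^ d) - 1)) : ∑' n, f n ≠ 0 := by
  have hprod := EulerProduct.eulerProduct_hasProd hf1 hmul hsum hf0
  have hlog : Summable (fun p : Nat.Primes => Complex.log (∑' d, f ((p : ℕ) ^ d))) := by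
    have := Complex.summable_log_one_add_of_summable hs
    refine this.congr fun p => ?_
    congr 1
    ring
  have h2 := Complex.hasProd_of_hasSum_log hne hlog.hasSum
  rw [hprod.unique h2]
  exact Complex.exp_ne_zero _

end Groth.Agent.Lib.helper27.ArithZ1
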