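import Mathlib
import Groth.Agent.Lib.Helper27.ArithZ1

/-!
# Helper library (helper27): absolute convergence and non-vanishing of a Dirichlet series with
multiplicative coefficients from uniform bounds on the local factors.
-/

set_option autoImplicit false
set_option linter.style.haveILetI false
set_option linter.unusedSectionVars false

namespace Groth.Agent.Lib.helper27.ArithZ2

open Finset

theorem term_mul (a : ℕ → ℂ) (ha : ∀ {m n : ℕ}, Nat.Coprime m n → a (m * n) = a m * a n) (s : ℂ)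
    {m n : ℕ} (h : Nat.Coprime m n) :
    LSeries.term a s (m * n) = LSeries.term a s m * LSeries.term a s n := by
  rcases Nat.eq_zero_or_pos m with rfl | hm
  · simp
  rcases Nat.eq_zero_or_pos n with rfl | hn
  · simp
  rw [LSeries.term_of_ne_zero (Nat.mul_ne_zero hm.ne' hn.ne'), LSeries.term_of_ne_zero hm.ne',
    LSeries.term_of_ne_zero hn.ne', ha h, Nat.cast_mul, Complex.natCast_mul_natCast_cpow,
    mul_div_mul_comm]

theorem lseries_summable_and_ne_zero (a : ℕ → ℂ) (ha1 : a 1 = 1)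
    (hmul : ∀ {m n : ℕ}, Nat.Coprime m n → a (m * n) = a m * a n)
    (c p₀ r : ℕ) (A B : ℕ → ℕ → ℂ)
    (hA : ∀ p, p.Prime → ∀ d, a (p ^ d) = A p d)
    (hAB : ∀ p, p.Prime → ∀ n, ∑ q ∈ Finset.HasAntidiagonal.antidiagonal n, A p q.1 * B p q.2 =
      if n = 0 then 1 else 0)
    (Q : ℕ → ℝ) (hQ0 : ∀ p, 0 ≤ Q p)
    (hQ1 : ∀ p, p.Prime → Q p ≤ (p : ℝ) ^ r)
    (hQ2 : ∀ p, p.Prime → p₀ ≤ p → Q p * p ≤ (p : ℝ) ^ r)
    (hbA : ∀ p, p.Prime → ∀ d, ‖A p d‖ ≤ ((d : ℝ) + 1) ^ c * (Q p) ^ d)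
    (hbB : ∀ p, p.Prime → ∀ d, ‖B p d‖ ≤ ((d : ℝ) + 1) ^ c * (Q p) ^ d)
    (s : ℂ) (hs : (r : ℝ) < s.re) : LSeriesSummable a s ∧ LSeries a s ≠ 0 := by
  have hε : 0 < s.re - r := by linarith
  let t : ℕ → ℂ := fun p => ((p : ℂ) ^ s)⁻¹
  let f : ℕ → ℂ := LSeries.term a s
  have hf0 : f 0 = 0 := LSeries.term_zero a s
  have hf1 : f 1 = 1 := by
    change LSeries.term a s 1 = 1
    rw [LSeries.term_of_ne_zero one_ne_zero, ha1, Nat.cast_one, Complex.one_cpow, div_one]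
  have hfmul : ∀ {m n : ℕ}, Nat.Coprime m n → f (m * n) = f m * f n := fun h => term_mul a hmul s h
  have hfp : ∀ p, p.Prime → ∀ d, f (p ^ d) = A p d * (t p) ^ d := fun p hp d =>
    ZetaDir2.term_pow a p hp.two_le (A p) (hA p hp) s d
  have hnt : ∀ p, p.Prime → ‖t p‖ = ((p : ℝ) ^ s.re)⁻¹ := by
    intro p hp
    change ‖((p : ℂ) ^ s)⁻¹‖ = _
    rw [norm_inv, Complex.norm_natCast_cpow_of_pos hp.pos]
  have hρ1 : ∀ p, p.Prime → Q p * ‖t p‖ < 1 := by
    intro p hp
    exact lt_of_le_of_lt (mul_le_mul_of_nonneg_right (hQ1 p hp) (norm_nonneg _))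
      (ZetaDir2.norm_inv_cpow_lt p hp.two_le s r hs)
  have hloc : ∀ {p : ℕ}, p.Prime → Summable (fun d => ‖f (p ^ d)‖) := by
    intro p hp
    refine (ZetaDir2.summable_norm_of_bound (A p) c (Q p) (hQ0 p) (hbA p hp) (t p)
      (hρ1 p hp)).congr fun d => ?_
    rw [hfp p hp d]
  have hne : ∀ p, p.Prime → ∑' d, f (p ^ d) ≠ 0 := by
    intro p hp
    rw [tsum_congr (hfp p hp)]
    exact ZetaDir2.tsum_ne_zero (A p) (B p) (hAB p hp) c (Q p) (hQ0 p) (hbA p hp) (hbB p hp)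
      (t p) (hρ1 p hp)
  -- the tail sums
  let u : ℕ → ℝ := fun p => ∑' d, ‖f (p ^ (d + 1))‖
  have hu0 : ∀ p, 0 ≤ u p := fun p => tsum_nonneg fun d => norm_nonneg _
  have hK' : Summable (fun d : ℕ => ((d : ℝ) + 1) ^ c * ((1 : ℝ) / 2) ^ d) :=
    ZetaDir2.summable_poly_geom c (1 / 2) (by norm_num) (by norm_num)
  let K' : ℝ := ∑' d : ℕ, ((d : ℝ) + 1) ^ c * ((1 : ℝ) / 2) ^ d
  have hK'0 : 0 ≤ K' := tsum_nonneg fun d => by positivity
  let Kc : ℝ := 2 ^ c * K'
  have hKc0 : 0 ≤ Kc := by positivity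
  have hubound : ∀ p, p.Prime → p₀ ≤ p → u p ≤ Kc * (p : ℝ) ^ (-(1 + (s.re - r))) := by
    intro p hp hp0
    have hp2 : (2 : ℝ) ≤ p := by exact_mod_cast hp.two_le
    have hppos : (0 : ℝ) < p := by linarith
    let ρ : ℝ := Q p * ‖t p‖
    have hρ0 : 0 ≤ ρ := mul_nonneg (hQ0 p) (norm_nonneg _)
    have hρle : ρ ≤ (p : ℝ) ^ (-(1 + (s.re - r))) := by
      have h1 : (p : ℝ) ^ (-(1 + (s.re - r))) = (p : ℝ) ^ r / (p * (p : ℝ) ^ s.re) := by
        have : -(1 + (s.re - r)) = (r : ℝ) - (1 + s.re) := by ring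
        rw [this, Real.rpow_sub hppos, Real.rpow_add hppos, Real.rpow_one, Real.rpow_natCast]
      rw [h1, le_div_iff₀ (by positivity)]
      change Q p * ‖t p‖ * (p * (p : ℝ) ^ s.re) ≤ _
      rw [hnt p hp]
      have hpos : (0 : ℝ) < (p : ℝ) ^ s.re := Real.rpow_pos_of_pos hppos _
      calc Q p * ((p : ℝ) ^ s.re)⁻¹ * (p * (p : ℝ) ^ s.re)
          = Q p * p * (((p : ℝ) ^ s.re)⁻¹ * (p : ℝ) ^ s.re) := by ring
        _ = Q p * p := by rw [inv_mul_cancel₀ hpos.ne', mul_one]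
        _ ≤ (p : ℝ) ^ r := hQ2 p hp hp0
    have hρhalf : ρ ≤ 1 / 2 := by
      refine hρle.trans ?_
      have h1 : (p : ℝ) ^ (-(1 + (s.re - r))) ≤ (p : ℝ) ^ (-1 : ℝ) :=
        Real.rpow_le_rpow_of_exponent_le (by linarith) (by linarith)
      refine h1.trans ?_
      rw [Real.rpow_neg_one, one_div]
      exact inv_anti₀ (by norm_num) hp2
    have hterm : ∀ d : ℕ, ‖f (p ^ (d + 1))‖ ≤
        ρ * (2 ^ c * (((d : ℝ) + 1) ^ c * ((1 : ℝ) / 2) ^ d)) := by
      intro d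
      rw [hfp p hp, norm_mul, norm_pow]
      have h1 := hbA p hp (d + 1)
      have h2 : ((((d + 1 : ℕ) : ℝ)) + 1) ^ c ≤ 2 ^ c * ((d : ℝ) + 1) ^ c := by
        rw [← mul_pow]
        apply pow_le_pow_left₀ (by positivity)
        push_cast
        linarith [Nat.cast_nonneg (α := ℝ) d]
      calc ‖A p (d + 1)‖ * ‖t p‖ ^ (d + 1)
          ≤ (((((d + 1 : ℕ) : ℝ)) + 1) ^ c * (Q p) ^ (d + 1)) * ‖t p‖ ^ (d + 1) :=
            mul_le_mul_of_nonneg_right h1 (pow_nonneg (norm_nonneg _) _)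
        _ = ((((d + 1 : ℕ) : ℝ)) + 1) ^ c * ρ ^ (d + 1) := by
            rw [mul_assoc, ← mul_pow]
        _ ≤ (2 ^ c * ((d : ℝ) + 1) ^ c) * (ρ * ((1 : ℝ) / 2) ^ d) := by
            apply mul_le_mul h2 _ (pow_nonneg hρ0 _) (by positivity)
            rw [pow_succ, mul_comm]
            exact mul_le_mul_of_nonneg_left (pow_le_pow_left₀ hρ0 hρhalf d) hρ0
        _ = ρ * (2 ^ c * (((d : ℝ) + 1) ^ c * ((1 : ℝ) / 2) ^ d)) := by ring
    have hsummaj : Summable (fun d : ℕ => ρ * (2 ^ c * (((d : ℝ) + 1) ^ c * ((1 : ℝ) / 2) ^ d))) :=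
      (hK'.mul_left _).mul_left _
    have hsumf : Summable (fun d : ℕ => ‖f (p ^ (d + 1))‖) :=
      (summable_nat_add_iff 1).mpr (hloc hp)
    calc u p ≤ ∑' d : ℕ, ρ * (2 ^ c * (((d : ℝ) + 1) ^ c * ((1 : ℝ) / 2) ^ d)) :=
          hsumf.tsum_le_tsum hterm hsummaj
      _ = ρ * Kc := by rw [tsum_mul_left, tsum_mul_left]
      _ ≤ Kc * (p : ℝ) ^ (-(1 + (s.re - r))) := by
          rw [mul_comm]
          exact mul_le_mul_of_nonneg_left hρle hKc0
  have hprimes : Summable (fun p : ℕ => if p.Prime then u p else 0) := by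
    let v : ℕ → ℝ := fun p => (if p < p₀ then (if p.Prime then u p else 0) else 0) +
      Kc * (p : ℝ) ^ (-(1 + (s.re - r)))
    have hv : Summable v := by
      apply Summable.add
      · apply summable_of_hasFiniteSupport
        refine (Finset.range p₀).finite_toSet.subset ?_
        intro p hp
        rw [Function.mem_support] at hp
        by_contra hcon
        apply hp
        rw [if_neg]
        intro hlt
        exact hcon (Finset.mem_coe.mpr (Finset.mem_range.mpr hlt))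
      · exact (Real.summable_nat_rpow.mpr (by linarith)).mul_left Kc
    refine Summable.of_nonneg_of_le (fun p => ?_) (fun p => ?_) hv
    · split_ifs
      · exact hu0 p
      · exact le_rfl
    · have h2 : 0 ≤ Kc * (p : ℝ) ^ (-(1 + (s.re - r))) :=
        mul_nonneg hKc0 (Real.rpow_nonneg (Nat.cast_nonneg p) _)
      change _ ≤ (if p < p₀ then (if p.Prime then u p else 0) else 0) +
        Kc * (p : ℝ) ^ (-(1 + (s.re - r)))
      by_cases hpp : p.Prime
      · rw [if_pos hpp]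
        by_cases hlt : p < p₀
        · rw [if_pos hlt]
          linarith
        · rw [if_neg hlt, zero_add]
          exact hubound p hpp (not_lt.mp hlt)
      · rw [if_neg hpp]
        by_cases hlt : p < p₀
        · rw [if_pos hlt]
          linarith
        · rw [if_neg hlt]
          linarith
  have hsum : Summable (fun n => ‖f n‖) := by
    refine ArithZ1.summable_of_multiplicative (fun n => ‖f n‖) (fun n => norm_nonneg _)
      (by rw [hf0, norm_zero]) (by rw [hf1, norm_one]) (fun h => by rw [hfmul h, norm_mul])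
      (fun hp => hloc hp) hprimes
  refine ⟨hsum.of_norm, ?_⟩
  change ∑' n, f n ≠ 0
  refine ArithZ1.tsum_ne_zero_of_eulerProduct f hf0 hf1 hfmul hsum (fun p => hne p.1 p.2) ?_
  have hsub : Summable (fun p : Nat.Primes => u p.1) := by
    have := hprimes.subtype {p : ℕ | p.Prime}
    refine this.congr fun p => ?_
    exact if_pos p.2
  refine Summable.of_norm_bounded hsub fun p => ?_
  have hsumf : Summable (fun d : ℕ => f ((p : ℕ) ^ (d + 1))) :=
    ((summable_nat_add_iff 1).mpr (hloc p.2)).of_norm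
  have h1 : ∑' d, f ((p : ℕ) ^ d) - 1 = ∑' d, f ((p : ℕ) ^ (d + 1)) := by
    rw [(hloc p.2).of_norm.tsum_eq_zero_add, pow_zero, hf1]
    ring
  rw [h1]
  exact norm_tsum_le_tsum_norm ((summable_nat_add_iff 1).mpr (hloc p.2))

end Groth.Agent.Lib.helper27.ArithZ2
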