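import Mathlib

/-!
# Helper library (helper27): counting weighted multisets by a product of geometric series.
-/

set_option autoImplicit false
set_option linter.style.haveILetI false
set_option linter.unusedSectionVars false

namespace Groth.Agent.Lib.helper27.ZetaDir3

open PowerSeries

/-- the geometric series `1 / (1 - X^r)`. -/
noncomputable def geom (r : ℕ) : ℚ⟦X⟧ := PowerSeries.mk fun j => if r ∣ j then 1 else 0

theorem geom_mul (r : ℕ) (hr : 1 ≤ r) : geom r * (1 - X ^ r) = 1 := by
  ext n
  rw [mul_sub, mul_one, map_sub, coeff_mul_X_pow', coeff_one, geom, coeff_mk]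
  by_cases h : r ∣ n
  · rw [if_pos h]
    by_cases hrn : r ≤ n
    · rw [if_pos hrn, coeff_mk, if_pos (Nat.dvd_sub h (dvd_refl r)), sub_self,
        if_neg (by omega)]
    · rw [if_neg hrn, sub_zero]
      have : n = 0 := Nat.eq_zero_of_dvd_of_lt h (by omega)
      rw [if_pos this]
  · rw [if_neg h]
    have hn : n ≠ 0 := by
      rintro rfl
      exact h (dvd_zero r)
    rw [if_neg hn]
    by_cases hrn : r ≤ n
    · rw [if_pos hrn, coeff_mk, if_neg, sub_self]
      intro h'
      apply h
      have := Nat.dvd_add h' (dvd_refl r)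
      rwa [Nat.sub_add_cancel hrn] at this
    · rw [if_neg hrn, sub_self]

section count

variable {ι : Type*} (w : ι → ℕ) (C : Set ι) (hw : ∀ x ∈ C, 1 ≤ w x) (d : ℕ) (s : Finset ι)
  (hs : ∀ x, x ∈ s ↔ x ∈ C ∧ w x ≤ d)

/-- `α ↦ (x ↦ α x * w x)`. -/
noncomputable def lmap (α : ι →₀ ℕ) : ι →₀ ℕ :=
  Finsupp.onFinset α.support (fun x => α x * w x)
    (fun _ hx => Finsupp.mem_support_iff.mpr (left_ne_zero_of_mul hx))

/-- `l ↦ (x ↦ l x / w x)`. -/
noncomputable def amap (l : ι →₀ ℕ) : ι →₀ ℕ :=
  Finsupp.onFinset l.support (fun x => l x / w x)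
    (fun x hx => Finsupp.mem_support_iff.mpr (fun h0 => hx (by rw [h0, Nat.zero_div])))

theorem lmap_apply (α : ι →₀ ℕ) (x : ι) : lmap w α x = α x * w x := rfl

theorem amap_apply (l : ι →₀ ℕ) (x : ι) : amap w l x = l x / w x := rfl

include hw hs in
theorem support_subset (α : ι →₀ ℕ) (h1 : ∀ x ∈ α.support, x ∈ C)
    (h2 : α.sum (fun x m => m * w x) = d) : α.support ⊆ s := by
  intro x hx
  have hxC := h1 x hx
  refine (hs x).mpr ⟨hxC, ?_⟩
  have hle : α x * w x ≤ α.sum (fun x m => m * w x) :=
    Finset.single_le_sum (f := fun x => α x * w x) (fun _ _ => Nat.zero_le _) hx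
  rw [h2] at hle
  have hax : 1 ≤ α x := Nat.one_le_iff_ne_zero.mpr (Finsupp.mem_support_iff.mp hx)
  calc w x = 1 * w x := (one_mul _).symm
    _ ≤ α x * w x := Nat.mul_le_mul_right _ hax
    _ ≤ d := hle

include hw hs in
theorem card_weighted [DecidableEq ι] :
    (Nat.card {α : ι →₀ ℕ // (∀ x ∈ α.support, x ∈ C) ∧ α.sum (fun x m => m * w x) = d} : ℚ) =
      coeff d (∏ x ∈ s, geom (w x)) := by
  rw [coeff_prod]
  have h1 : ∀ l ∈ s.finsuppAntidiag d, ∏ x ∈ s, coeff (l x) (geom (w x)) =
      if ∀ x ∈ s, w x ∣ l x then (1 : ℚ) else 0 := by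
    intro l _
    simp only [geom, coeff_mk]
    rw [Finset.prod_ite_zero, Finset.prod_const_one]
  rw [Finset.sum_congr rfl h1, Finset.sum_boole]
  congr 1
  let F := (s.finsuppAntidiag d).filter (fun l => ∀ x ∈ s, w x ∣ l x)
  have hF : ∀ l, l ∈ F ↔ (s.sum l = d ∧ l.support ⊆ s) ∧ ∀ x ∈ s, w x ∣ l x := by
    intro l
    rw [Finset.mem_filter, Finset.mem_finsuppAntidiag]
  let e : {α : ι →₀ ℕ // (∀ x ∈ α.support, x ∈ C) ∧ α.sum (fun x m => m * w x) = d} ≃
      {l // l ∈ F} :=
    { toFun := fun α => ⟨lmap w α.1, by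
        rw [hF]
        have hsub := support_subset w C hw d s hs α.1 α.2.1 α.2.2
        refine ⟨⟨?_, ?_⟩, fun x _ => ?_⟩
        · have := α.2.2
          rw [Finsupp.sum_of_support_subset α.1 hsub (fun x m => m * w x) (fun _ _ => Nat.zero_mul _)] at this
          exact this
        · intro x hx
          apply hsub
          rw [Finsupp.mem_support_iff] at hx ⊢
          exact left_ne_zero_of_mul hx
        · exact Dvd.intro_left _ rfl⟩
      invFun := fun l => ⟨amap w l.1, by
        obtain ⟨⟨hl1, hl2⟩, hl3⟩ := (hF l.1).mp l.2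
        have hsub : (amap w l.1).support ⊆ s := by
          intro x hx
          apply hl2
          rw [Finsupp.mem_support_iff] at hx ⊢
          intro h0
          apply hx
          rw [amap_apply, h0, Nat.zero_div]
        refine ⟨fun x hx => ((hs x).mp (hsub hx)).1, ?_⟩
        rw [Finsupp.sum_of_support_subset _ hsub (fun x m => m * w x) (fun _ _ => Nat.zero_mul _), ← hl1]
        refine Finset.sum_congr rfl fun x hx => ?_
        rw [amap_apply]
        exact Nat.div_mul_cancel (hl3 x hx)⟩
      left_inv := fun α => by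
        apply Subtype.ext
        ext x
        change (α.1 x * w x) / w x = α.1 x
        by_cases h0 : α.1 x = 0
        · rw [h0, Nat.zero_mul, Nat.zero_div]
        · have hxC := α.2.1 x (Finsupp.mem_support_iff.mpr h0)
          exact Nat.mul_div_cancel _ (hw x hxC)
      right_inv := fun l => by
        obtain ⟨⟨hl1, hl2⟩, hl3⟩ := (hF l.1).mp l.2
        apply Subtype.ext
        ext x
        change (l.1 x / w x) * w x = l.1 x
        by_cases hx : x ∈ s
        · exact Nat.div_mul_cancel (hl3 x hx)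
        · have h0 : l.1 x = 0 := by
            by_contra h
            exact hx (hl2 (Finsupp.mem_support_iff.mpr h))
          rw [h0, Nat.zero_div, Nat.zero_mul] }
  rw [Nat.card_congr e, Nat.card_eq_fintype_card, Fintype.card_coe]

end count

end Groth.Agent.Lib.helper27.ZetaDir3
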