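import Mathlib
import Groth.Agent.Lib.Helper11.ExpLog
import Groth.Agent.Lib.Helper27.ZetaDir3

/-!
# Helper library (helper27): the formal Euler product `exp(Σ N_m T^m / m) = ∏ (1 - T^e)^{-b_e}` for an
arbitrary sequence `b`, `N_m = Σ_{e ∣ m} e b_e`, and the identification of its coefficients with
numbers of weighted multisets.
-/

set_option autoImplicit false
set_option linter.style.haveILetI false
set_option linter.unusedSectionVars false

namespace Groth.Agent.Lib.helper27.ArithZ3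

open PowerSeries Groth.Agent.Lib.helper11 Groth.Agent.Lib.helper27.ZetaDir3

variable (b : ℕ → ℕ)

/-- `N_m = Σ_{e ∣ m} e b_e`. -/
def Npts (m : ℕ) : ℕ := ∑ e ∈ m.divisors, e * b e

/-- `Σ_{m ≥ 1} N_m T^m / m`. -/
noncomputable def logZ : ℚ⟦X⟧ := PowerSeries.mk fun m => (Npts b m : ℚ) / m

theorem constantCoeff_logZ : constantCoeff (logZ b) = 0 := by
  rw [← coeff_zero_eq_constantCoeff_apply, logZ, coeff_mk]
  simp

theorem core (n : ℕ) :
    ∃ F : ℚ⟦X⟧, (∀ m ≤ n, coeff m F = 0) ∧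
      E (logZ b) * ∏ r ∈ Finset.Icc 1 n, (1 - X ^ r) ^ b r = E F := by
  classical
  set S : ℚ⟦X⟧ := ∑ r ∈ Finset.Icc 1 n, (b r) • Lr (K := ℚ) r with hS
  have hS0 : constantCoeff S = 0 := by
    rw [hS, map_sum]
    refine Finset.sum_eq_zero fun r _ => ?_
    rw [map_nsmul, constantCoeff_Lr, smul_zero]
  refine ⟨logZ b - S, ?_, ?_⟩
  · intro m hm
    rw [map_sub, logZ, coeff_mk, hS, map_sum, sub_eq_zero]
    simp only [map_nsmul]
    simp only [Lr, coeff_mk, nsmul_eq_mul]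
    rcases Nat.eq_zero_or_pos m with rfl | hm0
    · simp
    · have hdiv : m.divisors = (Finset.Icc 1 n).filter (· ∣ m) := by
        ext e
        simp only [Nat.mem_divisors, Finset.mem_filter, Finset.mem_Icc]
        constructor
        · rintro ⟨hd, _⟩
          have := Nat.le_of_dvd hm0 hd
          have := Nat.pos_of_dvd_of_pos hd hm0
          exact ⟨⟨by omega, by omega⟩, hd⟩
        · rintro ⟨_, hd⟩
          exact ⟨hd, by omega⟩
      rw [Npts, hdiv, Finset.sum_filter]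
      push_cast
      rw [Finset.sum_div]
      refine Finset.sum_congr rfl fun r _ => ?_
      split_ifs
      · ring
      · simp
  · have hF0 : constantCoeff (logZ b - S) = 0 := by
      rw [map_sub, hS0, sub_zero, constantCoeff_logZ]
    have hsplit : logZ b = (logZ b - S) + S := by ring
    conv_lhs => rw [hsplit]
    rw [E_add hF0 hS0, hS, E_sum, mul_assoc, ← Finset.prod_mul_distrib]
    · have : ∏ r ∈ Finset.Icc 1 n, E (b r • Lr (K := ℚ) r) * (1 - X ^ r) ^ b r = 1 := by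
        refine Finset.prod_eq_one fun r hr => ?_
        have hr1 : 1 ≤ r := (Finset.mem_Icc.mp hr).1
        rw [E_nsmul (constantCoeff_Lr r), ← mul_pow, E_Lr_mul r hr1, one_pow]
      rw [this, mul_one]
    · intro r _
      rw [map_nsmul, constantCoeff_Lr, smul_zero]

theorem coeff_low (n i : ℕ) (hi : i ≤ n) :
    coeff i (E (logZ b) * ∏ r ∈ Finset.Icc 1 n, (1 - X ^ r) ^ b r) = if i = 0 then 1 else 0 := by
  obtain ⟨F, hF, hEq⟩ := core b n
  rw [hEq]
  have hF0 : constantCoeff F = 0 := by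
    rw [← coeff_zero_eq_constantCoeff_apply]
    exact hF 0 (Nat.zero_le n)
  by_cases h0 : i = 0
  · subst h0
    rw [if_pos rfl, coeff_zero_eq_constantCoeff_apply, constantCoeff_E hF0]
  · rw [if_neg h0]
    exact coeff_E_eq_zero n hF i (by omega) hi

theorem coeff_E_logZ {ι : Type*} (w : ι → ℕ) (C : Set ι) (hw : ∀ x ∈ C, 1 ≤ w x)
    (hfin : ∀ e, 1 ≤ e → {x | x ∈ C ∧ w x = e}.Finite)
    (hb : ∀ e, 1 ≤ e → b e = Nat.card {x // x ∈ C ∧ w x = e}) (d : ℕ) :
    coeff d (E (logZ b)) =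
      (Nat.card {α : ι →₀ ℕ // (∀ x ∈ α.support, x ∈ C) ∧
        (α.sum fun x m => m * w x) = d} : ℚ) := by
  classical
  have hfinle : {x | x ∈ C ∧ w x ≤ d}.Finite := by
    have h1 : (⋃ e ∈ Finset.Icc 1 d, {x | x ∈ C ∧ w x = e}).Finite :=
      Set.Finite.biUnion (Finset.finite_toSet _) fun e he => hfin e (Finset.mem_Icc.mp he).1
    refine h1.subset ?_
    rintro x ⟨hx, hd⟩
    simp only [Set.mem_iUnion, Set.mem_ofPred_eq, exists_prop]
    exact ⟨_, Finset.mem_Icc.mpr ⟨hw x hx, hd⟩, hx, rfl⟩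
  let s : Finset ι := hfinle.toFinset
  have hs : ∀ x, x ∈ s ↔ x ∈ C ∧ w x ≤ d := by
    intro x
    rw [Set.Finite.mem_toFinset]
    rfl
  rw [card_weighted w C hw d s hs]
  have hQ : ∏ r ∈ Finset.Icc 1 d, ((1 : ℚ⟦X⟧) - X ^ r) ^ b r =
      ∏ x ∈ s, ((1 : ℚ⟦X⟧) - X ^ w x) := by
    have hmaps : ∀ x ∈ s, w x ∈ Finset.Icc 1 d := fun x hx =>
      Finset.mem_Icc.mpr ⟨hw x ((hs x).mp hx).1, ((hs x).mp hx).2⟩
    rw [← Finset.prod_fiberwise_of_maps_to hmaps]
    refine Finset.prod_congr rfl fun r hr => ?_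
    have h1 : ∀ x ∈ s.filter (fun x => w x = r), ((1 : ℚ⟦X⟧) - X ^ w x) = 1 - X ^ r := by
      intro x hx
      rw [(Finset.mem_filter.mp hx).2]
    rw [Finset.prod_congr rfl h1, Finset.prod_const]
    congr 1
    rw [hb r (Finset.mem_Icc.mp hr).1]
    have e : {x // x ∈ C ∧ w x = r} ≃ {x // x ∈ s.filter (fun x => w x = r)} :=
      Equiv.subtypeEquivRight fun x => by
        rw [Finset.mem_filter, hs]
        constructor
        · rintro ⟨h1, h2⟩
          exact ⟨⟨h1, by rw [h2]; exact (Finset.mem_Icc.mp hr).2⟩, h2⟩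
        · rintro ⟨⟨h1, _⟩, h2⟩
          exact ⟨h1, h2⟩
    rw [Nat.card_congr e, Nat.card_eq_fintype_card, Fintype.card_coe]
  have hGQ : (∏ x ∈ s, geom (w x)) * ∏ x ∈ s, ((1 : ℚ⟦X⟧) - X ^ w x) = 1 := by
    rw [← Finset.prod_mul_distrib]
    refine Finset.prod_eq_one fun x hx => ?_
    exact geom_mul (w x) (hw x ((hs x).mp hx).1)
  have hlow : ∀ i, i ≤ d → coeff i (E (logZ b) * ∏ x ∈ s, ((1 : ℚ⟦X⟧) - X ^ w x)) =
      if i = 0 then 1 else 0 := by
    intro i hi
    rw [← hQ]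
    exact coeff_low b d i hi
  have hZ : E (logZ b) = (E (logZ b) * ∏ x ∈ s, ((1 : ℚ⟦X⟧) - X ^ w x)) *
      ∏ x ∈ s, geom (w x) := by
    rw [mul_assoc, mul_comm (∏ x ∈ s, ((1 : ℚ⟦X⟧) - X ^ w x)), hGQ, mul_one]
  conv_lhs => rw [hZ]
  rw [coeff_mul]
  rw [Finset.sum_eq_single (0, d)]
  · rw [hlow 0 (Nat.zero_le d), if_pos rfl, one_mul]
  · intro p hp hne
    have hp' : p.1 + p.2 = d := Finset.HasAntidiagonal.mem_antidiagonal.mp hp
    have h1 : p.1 ≠ 0 := by
      intro h0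
      apply hne
      ext
      · exact h0
      · simp only
        omega
    rw [hlow p.1 (by omega), if_neg h1, zero_mul]
  · intro h
    exact absurd (Finset.HasAntidiagonal.mem_antidiagonal.mpr (by simp)) h

end Groth.Agent.Lib.helper27.ArithZ3
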