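import Mathlib

/-!
# Helper library (helper27): combinatorics of norms of effective 0-cycles: prime power norms and
multiplicativity of the number of cycles of given norm.
-/

set_option autoImplicit false
set_option linter.style.haveILetI false
set_option linter.unusedSectionVars false

namespace Groth.Agent.Lib.helper27.ArithZ4

variable {ι : Type*} (N : ι → ℕ) (C₀ : Set ι) (hN : ∀ x ∈ C₀, IsPrimePow (N x))

/-- the norm of a cycle. -/
noncomputable def nrm (α : ι →₀ ℕ) : ℕ := α.prod fun x k => N x ^ k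

theorem nrm_add (α β : ι →₀ ℕ) : nrm N (α + β) = nrm N α * nrm N β :=
  Finsupp.prod_add_index' (fun _ => pow_zero _) (fun _ _ _ => pow_add _ _ _)

theorem dvd_nrm (α : ι →₀ ℕ) (x : ι) (hx : x ∈ α.support) : N x ∣ nrm N α := by
  have h1 : N x ^ α x ∣ nrm N α := Finset.dvd_prod_of_mem (fun x => N x ^ α x) hx
  exact (dvd_pow_self (N x) (Finsupp.mem_support_iff.mp hx)).trans h1

theorem mem_support_of_mem_filter (γ : ι →₀ ℕ) (P : ι → Prop) [DecidablePred P] (x : ι)
    (hx : x ∈ (γ.filter P).support) : x ∈ γ.support := by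
  rw [Finsupp.support_filter] at hx
  exact (Finset.mem_filter.mp hx).1

section primepow

variable (p : ℕ) (hp : p.Prime)

/-- points whose norm is a positive power of `p`. -/
def Cp : Set ι := {x | x ∈ C₀ ∧ ∃ e, 1 ≤ e ∧ N x = p ^ e}

/-- the exponent. -/
noncomputable def wp (x : ι) : ℕ := Nat.log p (N x)

include hp in
theorem N_eq_pow_wp (x : ι) (hx : x ∈ Cp N C₀ p) : N x = p ^ wp N p x ∧ 1 ≤ wp N p x := by
  obtain ⟨_, e, he, hxe⟩ := hx
  have : wp N p x = e := by
    rw [wp, hxe]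
    exact Nat.log_pow hp.one_lt e
  rw [this]
  exact ⟨hxe, he⟩

include hp in
theorem nrm_eq_pow (α : ι →₀ ℕ) (h : ∀ x ∈ α.support, x ∈ Cp N C₀ p) :
    nrm N α = p ^ (α.sum fun x k => k * wp N p x) := by
  rw [nrm, Finsupp.prod, Finsupp.sum, ← Finset.prod_pow_eq_pow_sum]
  refine Finset.prod_congr rfl fun x hx => ?_
  conv_lhs => rw [(N_eq_pow_wp N C₀ p hp x (h x hx)).1]
  rw [← pow_mul, mul_comm]

include hN hp in
theorem mem_Cp_of_nrm (α : ι →₀ ℕ) (h : ∀ x ∈ α.support, x ∈ C₀) (d : ℕ)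
    (hd : nrm N α = p ^ d) : ∀ x ∈ α.support, x ∈ Cp N C₀ p := by
  intro x hx
  have h1 : N x ∣ p ^ d := hd ▸ dvd_nrm N α x hx
  obtain ⟨e, _, he⟩ := (Nat.dvd_prime_pow hp).mp h1
  refine ⟨h x hx, e, ?_, he⟩
  by_contra h0
  have he0 : e = 0 := by omega
  rw [he0, pow_zero] at he
  exact (hN x (h x hx)).ne_one he

include hN hp in
theorem card_nrm_pow (d : ℕ) :
    Nat.card {α : ι →₀ ℕ // (∀ x ∈ α.support, x ∈ C₀) ∧ nrm N α = p ^ d} =
      Nat.card {α : ι →₀ ℕ // (∀ x ∈ α.support, x ∈ Cp N C₀ p) ∧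
        (α.sum fun x k => k * wp N p x) = d} := by
  refine Nat.card_congr (Equiv.subtypeEquivRight fun α => ?_)
  constructor
  · rintro ⟨h1, h2⟩
    have h3 := mem_Cp_of_nrm N C₀ hN p hp α h1 d h2
    refine ⟨h3, ?_⟩
    rw [nrm_eq_pow N C₀ p hp α h3] at h2
    exact Nat.pow_right_injective hp.two_le h2
  · rintro ⟨h1, h2⟩
    refine ⟨fun x hx => (h1 x hx).1, ?_⟩
    rw [nrm_eq_pow N C₀ p hp α h1, h2]

end primepow

section mult

include hN in
theorem card_nrm_mul {m n : ℕ} (hm : 0 < m) (hn : 0 < n) (h : Nat.Coprime m n) :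
    Nat.card {α : ι →₀ ℕ // (∀ x ∈ α.support, x ∈ C₀) ∧ nrm N α = m * n} =
      Nat.card {α : ι →₀ ℕ // (∀ x ∈ α.support, x ∈ C₀) ∧ nrm N α = m} *
        Nat.card {α : ι →₀ ℕ // (∀ x ∈ α.support, x ∈ C₀) ∧ nrm N α = n} := by
  classical
  rw [← Nat.card_prod]
  symm
  have hsplit : ∀ γ : ι →₀ ℕ, (∀ x ∈ γ.support, x ∈ C₀) → nrm N γ = m * n →
      nrm N (γ.filter fun x => N x ∣ m) = m ∧ nrm N (γ.filter fun x => ¬ N x ∣ m) = n := by
    intro γ hγ hγn
    have hdec : γ.filter (fun x => N x ∣ m) + γ.filter (fun x => ¬ N x ∣ m) = γ :=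
      Finsupp.filter_add_filter_not γ _
    have hab : nrm N (γ.filter fun x => N x ∣ m) * nrm N (γ.filter fun x => ¬ N x ∣ m) = m * n := by
      rw [← nrm_add, hdec, hγn]
    have hcop1 : Nat.Coprime (nrm N (γ.filter fun x => N x ∣ m)) n := by
      apply Nat.Coprime.prod_left
      intro x hx
      have hx' := (Finsupp.mem_support_iff.mp hx)
      rw [Finsupp.filter_apply] at hx'
      have hdvd : N x ∣ m := by
        by_contra hcon
        exact hx' (if_neg hcon)
      exact (Nat.Coprime.coprime_dvd_left hdvd h).pow_left _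
    have hcop2 : Nat.Coprime (nrm N (γ.filter fun x => ¬ N x ∣ m)) m := by
      apply Nat.Coprime.prod_left
      intro x hx
      have hx' := (Finsupp.mem_support_iff.mp hx)
      rw [Finsupp.filter_apply] at hx'
      have hndvd : ¬ N x ∣ m := by
        by_contra hcon
        exact hx' (if_neg (not_not.mpr hcon))
      have hxs : x ∈ γ.support := mem_support_of_mem_filter _ _ x hx
      obtain ⟨q, e, hq, he, hqe⟩ := hN x (hγ x hxs)
      have hqp : q.Prime := Nat.prime_iff.mpr hq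
      have hdvdmn : N x ∣ m * n := hγn ▸ dvd_nrm N γ x hxs
      apply Nat.Coprime.pow_left
      rw [← hqe]
      apply Nat.Coprime.pow_left
      rw [Nat.Prime.coprime_iff_not_dvd hqp]
      intro hqm
      apply hndvd
      have hqn : Nat.Coprime (q ^ e) n :=
        Nat.Coprime.pow_left _ ((Nat.Coprime.coprime_dvd_left hqm h))
      rw [← hqe] at hdvdmn ⊢
      exact hqn.dvd_of_dvd_mul_right hdvdmn
    have hmn : 0 < m * n := Nat.mul_pos hm hn
    have ha_dvd : nrm N (γ.filter fun x => N x ∣ m) ∣ m :=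
      hcop1.dvd_of_dvd_mul_right (hab ▸ dvd_mul_right _ _)
    have hb_dvd : nrm N (γ.filter fun x => ¬ N x ∣ m) ∣ n :=
      hcop2.dvd_of_dvd_mul_left (hab ▸ dvd_mul_left _ _)
    have ha_le := Nat.le_of_dvd hm ha_dvd
    have hb_le := Nat.le_of_dvd hn hb_dvd
    have ha_eq : nrm N (γ.filter fun x => N x ∣ m) = m := by
      by_contra hne
      have hlt : nrm N (γ.filter fun x => N x ∣ m) < m := lt_of_le_of_ne ha_le hne
      have hbpos : 0 < nrm N (γ.filter fun x => ¬ N x ∣ m) := by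
        rcases Nat.eq_zero_or_pos (nrm N (γ.filter fun x => ¬ N x ∣ m)) with h0 | h0
        · rw [h0, mul_zero] at hab
          omega
        · exact h0
      have : nrm N (γ.filter fun x => N x ∣ m) * nrm N (γ.filter fun x => ¬ N x ∣ m) < m * n :=
        calc _ < m * nrm N (γ.filter fun x => ¬ N x ∣ m) := Nat.mul_lt_mul_of_pos_right hlt hbpos
          _ ≤ m * n := Nat.mul_le_mul_left _ hb_le
      omega
    refine ⟨ha_eq, ?_⟩
    rw [ha_eq] at hab
    exact Nat.eq_of_mul_eq_mul_left hm hab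
  refine Nat.card_congr
    { toFun := fun αβ => ⟨αβ.1.1 + αβ.2.1, ?_, ?_⟩
      invFun := fun γ => (⟨γ.1.filter fun x => N x ∣ m, ?_, ?_⟩,
        ⟨γ.1.filter fun x => ¬ N x ∣ m, ?_, ?_⟩)
      left_inv := ?_
      right_inv := ?_ }
  · intro x hx
    rcases Finset.mem_union.mp (Finsupp.support_add hx) with h1 | h1
    · exact αβ.1.2.1 x h1
    · exact αβ.2.2.1 x h1
  · rw [nrm_add, αβ.1.2.2, αβ.2.2.2]
  · intro x hx
    exact γ.2.1 x (mem_support_of_mem_filter _ _ x hx)
  · exact (hsplit γ.1 γ.2.1 γ.2.2).1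
  · intro x hx
    exact γ.2.1 x (mem_support_of_mem_filter _ _ x hx)
  · exact (hsplit γ.1 γ.2.1 γ.2.2).2
  · rintro ⟨⟨α, hα1, hα2⟩, ⟨β, hβ1, hβ2⟩⟩
    have hα : α.filter (fun x => N x ∣ m) = α := by
      rw [Finsupp.filter_eq_self_iff]
      intro x hx
      exact hα2 ▸ dvd_nrm N α x (Finsupp.mem_support_iff.mpr hx)
    have hβ : β.filter (fun x => N x ∣ m) = 0 := by
      rw [Finsupp.filter_eq_zero_iff]
      intro x hxm
      by_contra hx
      have hxs : x ∈ β.support := Finsupp.mem_support_iff.mpr hx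
      have hxn : N x ∣ n := hβ2 ▸ dvd_nrm N β x hxs
      have h1 : N x ∣ Nat.gcd m n := Nat.dvd_gcd hxm hxn
      rw [h] at h1
      exact (hN x (hβ1 x hxs)).ne_one (Nat.dvd_one.mp h1)
    have hα' : α.filter (fun x => ¬ N x ∣ m) = 0 := by
      rw [Finsupp.filter_eq_zero_iff]
      intro x hxm
      by_contra hx
      exact hxm (hα2 ▸ dvd_nrm N α x (Finsupp.mem_support_iff.mpr hx))
    have hβ' : β.filter (fun x => ¬ N x ∣ m) = β := by
      rw [Finsupp.filter_eq_self_iff]
      intro x hx hxm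
      have hxs : x ∈ β.support := Finsupp.mem_support_iff.mpr hx
      have hxn : N x ∣ n := hβ2 ▸ dvd_nrm N β x hxs
      have h1 : N x ∣ Nat.gcd m n := Nat.dvd_gcd hxm hxn
      rw [h] at h1
      exact (hN x (hβ1 x hxs)).ne_one (Nat.dvd_one.mp h1)
    apply Prod.ext
    · apply Subtype.ext
      change (α + β).filter (fun x => N x ∣ m) = α
      rw [Finsupp.filter_add, hα, hβ, add_zero]
    · apply Subtype.ext
      change (α + β).filter (fun x => ¬ N x ∣ m) = β
      rw [Finsupp.filter_add, hα', hβ', zero_add]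
  · rintro ⟨γ, hγ1, hγ2⟩
    apply Subtype.ext
    exact Finsupp.filter_add_filter_not γ _

end mult

end Groth.Agent.Lib.helper27.ArithZ4
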