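import Mathlib
import Groth.Agent.Lib.Helper4.GenFinite

/-!
# Helper library (helper27): generic Noether normalization for a finitely generated domain of
characteristic zero over `ℤ` (first part: the rational normalization with integral variables).
-/

set_option autoImplicit false
set_option linter.style.haveILetI false
set_option linter.unusedSectionVars false
universe u

namespace Groth.Agent.Lib.helper27.IntNN1

open MvPolynomial

section rational

variable (A : Type u) [CommRing A] [IsDomain A] [CharZero A]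

/-- the `ℚ`-subalgebra of the fraction field generated by `A`. -/
noncomputable def AQ : Subalgebra ℚ (FractionRing A) :=
  Algebra.adjoin ℚ (Set.range (algebraMap A (FractionRing A)))

instance : CharZero (FractionRing A) :=
  charZero_of_injective_algebraMap (IsFractionRing.injective A (FractionRing A))

theorem exists_denominator (b : FractionRing A) (hb : b ∈ AQ A) :
    ∃ (n : ℕ) (a : A), n ≠ 0 ∧ (n : FractionRing A) * b = algebraMap A (FractionRing A) a := by
  induction hb using Algebra.adjoin_induction with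
  | mem x hx =>
    obtain ⟨a, rfl⟩ := hx
    exact ⟨1, a, one_ne_zero, by rw [Nat.cast_one, one_mul]⟩
  | algebraMap q =>
    refine ⟨q.den, (q.num : A), q.den_ne_zero, ?_⟩
    rw [eq_ratCast, map_intCast]
    have := Rat.den_mul_eq_num q
    exact_mod_cast congrArg (fun x : ℚ => (x : FractionRing A)) this
  | add x y _ _ hx hy =>
    obtain ⟨n, a, hn, h1⟩ := hx
    obtain ⟨m, a', hm, h2⟩ := hy
    refine ⟨n * m, (m : A) * a + (n : A) * a', Nat.mul_ne_zero hn hm, ?_⟩
    rw [map_add, map_mul, map_mul, ← h1, ← h2, map_natCast, map_natCast]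
    push_cast
    ring
  | mul x y _ _ hx hy =>
    obtain ⟨n, a, hn, h1⟩ := hx
    obtain ⟨m, a', hm, h2⟩ := hy
    refine ⟨n * m, a * a', Nat.mul_ne_zero hn hm, ?_⟩
    rw [map_mul, ← h1, ← h2]
    push_cast
    ring


variable [Algebra.FiniteType ℤ A]

theorem finiteType_AQ : Algebra.FiniteType ℚ (AQ A) := by
  classical
  obtain ⟨T, hT⟩ := (Algebra.FiniteType.out : (⊤ : Subalgebra ℤ A).FG)
  rw [← Subalgebra.fg_iff_finiteType]
  refine ⟨T.image (algebraMap A (FractionRing A)), ?_⟩
  apply le_antisymm
  · apply Algebra.adjoin_mono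
    intro x hx
    rw [Finset.coe_image] at hx
    obtain ⟨a, _, rfl⟩ := hx
    exact ⟨a, rfl⟩
  · apply Algebra.adjoin_le
    rintro _ ⟨a, rfl⟩
    have ha : a ∈ Algebra.adjoin ℤ (T : Set A) := by
      rw [hT]
      trivial
    induction ha using Algebra.adjoin_induction with
    | mem x hx =>
      apply Algebra.subset_adjoin
      rw [Finset.coe_image]
      exact ⟨x, hx, rfl⟩
    | algebraMap z =>
      rw [eq_intCast, map_intCast]
      exact intCast_mem _ z
    | add x y _ _ hx hy =>
      rw [map_add]
      exact add_mem hx hy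
    | mul x y _ _ hx hy =>
      rw [map_mul]
      exact mul_mem hx hy

theorem exists_normalization :
    ∃ (d : ℕ) (a : Fin d → A) (g : MvPolynomial (Fin d) ℚ →ₐ[ℚ] AQ A),
      Function.Injective g ∧ g.toRingHom.Finite ∧
        ∀ i, ((g (X i) : AQ A) : FractionRing A) = algebraMap A (FractionRing A) (a i) := by
  haveI := finiteType_AQ A
  obtain ⟨d, g₀, hinj, hfin⟩ := exists_finite_inj_algHom_of_fg ℚ (AQ A)
  choose n a hn h using fun i => exists_denominator A (g₀ (X i)).1 (g₀ (X i)).2
  let σ : MvPolynomial (Fin d) ℚ →ₐ[ℚ] MvPolynomial (Fin d) ℚ :=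
    aeval (fun i => C (n i : ℚ) * X i)
  let τ : MvPolynomial (Fin d) ℚ →ₐ[ℚ] MvPolynomial (Fin d) ℚ :=
    aeval (fun i => C ((n i : ℚ)⁻¹) * X i)
  have hn' : ∀ i, (n i : ℚ) ≠ 0 := fun i => by exact_mod_cast hn i
  have hτσ : τ.comp σ = AlgHom.id ℚ _ := by
    apply MvPolynomial.algHom_ext
    intro i
    change τ (σ (X i)) = X i
    simp only [σ, τ, aeval_X, map_mul, algHom_C, algebraMap_eq]
    rw [← mul_assoc, ← C_mul, mul_inv_cancel₀ (hn' i), C_1, one_mul]
  have hστ : σ.comp τ = AlgHom.id ℚ _ := by
    apply MvPolynomial.algHom_ext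
    intro i
    change σ (τ (X i)) = X i
    simp only [σ, τ, aeval_X, map_mul, algHom_C, algebraMap_eq]
    rw [← mul_assoc, ← C_mul, inv_mul_cancel₀ (hn' i), C_1, one_mul]
  have hσinj : Function.Injective σ := by
    intro x y hxy
    have := congrArg τ hxy
    change (τ.comp σ) x = (τ.comp σ) y at this
    rwa [hτσ] at this
  have hσsurj : Function.Surjective σ := by
    intro y
    refine ⟨τ y, ?_⟩
    change (σ.comp τ) y = y
    rw [hστ]
    rfl
  refine ⟨d, a, g₀.comp σ, hinj.comp hσinj, ?_, fun i => ?_⟩
  · exact RingHom.Finite.comp hfin (RingHom.Finite.of_surjective σ.toRingHom hσsurj)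
  · change ((g₀ (σ (X i)) : AQ A) : FractionRing A) = _
    simp only [σ, aeval_X, map_mul, algHom_C, algebraMap_eq]
    rw [← h i]
    simp

end rational

end Groth.Agent.Lib.helper27.IntNN1
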