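import Mathlib
import Groth.Agent.Lib.Helper4.GenFinite
import Groth.Agent.Lib.Helper27.IntNN1

/-!
# Helper library (helper27): generic Noether normalization for a finitely generated domain of
characteristic zero over `ℤ`: after inverting an integer `N`, `A[1/N]` is integral over an injective
polynomial subring `ℤ[1/N][x₁, …, x_d]`.
-/

set_option autoImplicit false
set_option linter.style.haveILetI false
set_option linter.unusedSectionVars false
universe u

namespace Groth.Agent.Lib.helper27.IntNN2

open MvPolynomial Groth.Agent.Lib.helper27.IntNN1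

section clear

attribute [local instance] MvPolynomial.algebraMvPolynomial

theorem exists_integer_poly {σ : Type*} (P : Polynomial (MvPolynomial σ ℚ)) :
    ∃ (m : ℤ) (Q : Polynomial (MvPolynomial σ ℤ)), m ≠ 0 ∧
      Q.map (MvPolynomial.map (Int.castRingHom ℚ)) =
        Polynomial.C (MvPolynomial.C (m : ℚ)) * P := by
  haveI : IsLocalization ((nonZeroDivisors ℤ).map (C (σ := σ))) (MvPolynomial σ ℚ) :=
    MvPolynomial.isLocalization (nonZeroDivisors ℤ) ℚ
  obtain ⟨b, hb, h⟩ := IsLocalization.integerNormalization_spec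
    ((nonZeroDivisors ℤ).map (C (σ := σ))) P
  obtain ⟨m, hm, rfl⟩ := hb
  refine ⟨m, IsLocalization.integerNormalization ((nonZeroDivisors ℤ).map (C (σ := σ))) P,
    nonZeroDivisors.ne_zero hm, ?_⟩
  have h1 : algebraMap (MvPolynomial σ ℤ) (MvPolynomial σ ℚ) =
      MvPolynomial.map (Int.castRingHom ℚ) := by
    rw [MvPolynomial.algebraMap_def]
    rfl
  rw [h1] at h
  rw [h, Algebra.smul_def, Polynomial.algebraMap_apply, h1]
  simp

end clear

section main

variable (A : Type u) [CommRing A] (N : ℤ) (ZN : Type) [CommRing ZN] [Algebra ℤ ZN]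
  [IsLocalization.Away N ZN] (AN : Type u) [CommRing AN] [Algebra A AN]
  [IsLocalization.Away ((N : ℤ) : A) AN]

/-- `ℤ[1/N] → A[1/N]`. -/
noncomputable def liftZ : ZN →+* AN :=
  IsLocalization.Away.lift N (g := (algebraMap A AN).comp (Int.castRingHom A))
    (IsLocalization.Away.algebraMap_isUnit ((N : ℤ) : A))

/-- `ℤ[1/N][x₁, …, x_d] → A[1/N]`. -/
noncomputable def psi (d : ℕ) (a : Fin d → A) : MvPolynomial (Fin d) ZN →+* AN :=
  MvPolynomial.eval₂Hom (liftZ A N ZN AN) (fun i => algebraMap A AN (a i))

end main

section main2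

variable (A : Type u) [CommRing A] [IsDomain A] [CharZero A] [Algebra.FiniteType ℤ A]

theorem exists_integral_data :
    ∃ (d : ℕ) (a : Fin d → A) (N : ℤ), N ≠ 0 ∧
      ∀ (ZN : Type) [CommRing ZN] [Algebra ℤ ZN] [IsLocalization.Away N ZN] (AN : Type u)
        [CommRing AN] [Algebra A AN] [IsLocalization.Away ((N : ℤ) : A) AN],
        RingHom.IsIntegral (psi A N ZN AN d a) ∧ Function.Injective (psi A N ZN AN d a) := by
  classical
  obtain ⟨d, a, g, hinj, hfin, hg⟩ := exists_normalization A
  let K := FractionRing A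
  let ι : A →+* K := algebraMap A K
  have hι : Function.Injective ι := IsFractionRing.injective A K
  let φ : MvPolynomial (Fin d) ℤ →+* A := MvPolynomial.eval₂Hom (Int.castRingHom A) a
  let vg : MvPolynomial (Fin d) ℚ →+* K := (AQ A).val.toRingHom.comp g.toRingHom
  have hcompat : ι.comp φ = vg.comp (MvPolynomial.map (Int.castRingHom ℚ)) := by
    apply MvPolynomial.ringHom_ext
    · intro z
      simp [φ, vg, ι]
    · intro i
      simp only [RingHom.comp_apply, φ, vg, eval₂Hom_X', map_X]
      exact (hg i).symm
  obtain ⟨T, hT⟩ := (Algebra.FiniteType.out : (⊤ : Subalgebra ℤ A).FG)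
  have hex : ∀ t : A, ∃ (m : ℤ) (Q : Polynomial (MvPolynomial (Fin d) ℤ)), m ≠ 0 ∧
      Polynomial.eval₂ φ t Q = 0 ∧ Q.leadingCoeff = C m := by
    intro t
    let b : AQ A := ⟨ι t, Algebra.subset_adjoin ⟨t, rfl⟩⟩
    obtain ⟨P, hP, hP0⟩ := hfin.to_isIntegral b
    obtain ⟨m, Q, hm, hQ⟩ := exists_integer_poly P
    refine ⟨m, Q, hm, ?_, ?_⟩
    · apply hι
      rw [map_zero, Polynomial.hom_eval₂, hcompat, ← Polynomial.eval₂_map, hQ,
        Polynomial.eval₂_mul]
      have : Polynomial.eval₂ vg (ι t) P = 0 := by
        have h1 := congrArg (AQ A).val.toRingHom hP0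
        rw [Polynomial.hom_eval₂, map_zero] at h1
        exact h1
      rw [this, mul_zero]
    · have hmapinj : Function.Injective (MvPolynomial.map (σ := Fin d) (Int.castRingHom ℚ)) :=
        MvPolynomial.map_injective _ Int.cast_injective
      apply hmapinj
      rw [← Polynomial.leadingCoeff_map_of_injective hmapinj, hQ, Polynomial.leadingCoeff_mul,
        Polynomial.leadingCoeff_C, hP.leadingCoeff, mul_one, map_C]
      rfl
  choose m Q hm hQ0 hQl using hex
  let N : ℤ := ∏ t ∈ T, m t
  have hN : N ≠ 0 := Finset.prod_ne_zero_iff.mpr fun t _ => hm t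
  refine ⟨d, a, N, hN, ?_⟩
  intro ZN _ _ _ AN _ _ _
  constructor
  · refine Groth.Agent.Lib.Helper4.GenFinite.isIntegral_of_localization_data φ
      (MvPolynomial.map (algebraMap ℤ ZN))
      (algebraMap A AN) (psi A N ZN AN d a) ?_ (C N) ?_ ?_ (T : Set A) ?_ ?_
    · apply MvPolynomial.ringHom_ext
      · intro z
        simp only [RingHom.comp_apply, map_C, psi, eval₂Hom_C, liftZ, φ]
        rw [IsLocalization.Away.lift_eq]
        rfl
      · intro i
        simp only [RingHom.comp_apply, map_X, psi, eval₂Hom_X', φ]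
    · rw [map_C]
      exact (IsLocalization.Away.algebraMap_isUnit N).map C
    · intro x
      obtain ⟨⟨s, mm⟩, h⟩ := IsLocalization.surj (Submonoid.powers ((N : ℤ) : A)) x
      obtain ⟨n, hn⟩ := mm.2
      refine ⟨s, n, ?_⟩
      have hφN : φ (C N) = ((N : ℤ) : A) := by simp [φ]
      have hn' : ((N : ℤ) : A) ^ n = ↑mm := hn
      rw [hφN, ← map_pow, hn']
      exact h
    · have h1 : Subring.closure (T : Set A) = ⊤ := by
        rw [eq_top_iff]
        intro x _
        have hx : x ∈ Algebra.adjoin ℤ (T : Set A) := by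
          rw [hT]
          trivial
        rw [Algebra.adjoin_int] at hx
        exact hx
      rw [eq_top_iff, ← h1]
      exact Subring.closure_mono Set.subset_union_right
    · intro t ht
      refine ⟨Q t, hQ0 t, ?_⟩
      rw [hQl, map_C]
      apply IsUnit.map C
      have hdvd : m t ∣ N := Finset.dvd_prod_of_mem m ht
      exact isUnit_of_dvd_unit (map_dvd (algebraMap ℤ ZN) hdvd)
        (IsLocalization.Away.algebraMap_isUnit N)
  · -- injectivity
    have hNK : IsUnit (ι ((N : ℤ) : A)) := by
      rw [isUnit_iff_ne_zero]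
      intro h0
      rw [map_intCast] at h0
      exact hN (by exact_mod_cast h0)
    let lam : AN →+* K := IsLocalization.Away.lift ((N : ℤ) : A) (g := ι) hNK
    have hNQ : IsUnit (Int.castRingHom ℚ N) := by
      rw [isUnit_iff_ne_zero, eq_intCast]
      exact_mod_cast hN
    let zeta : ZN →+* ℚ := IsLocalization.Away.lift N (g := Int.castRingHom ℚ) hNQ
    have hzeta : Function.Injective zeta := by
      rw [injective_iff_map_eq_zero]
      intro x hx
      obtain ⟨⟨z, mm⟩, h⟩ := IsLocalization.surj (Submonoid.powers N) x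
      have h1 := congrArg zeta h
      rw [map_mul, hx, zero_mul, IsLocalization.Away.lift_eq, eq_intCast] at h1
      have hz : z = 0 := by exact_mod_cast h1.symm
      change x * algebraMap ℤ ZN ↑mm = algebraMap ℤ ZN z at h
      rw [hz, map_zero] at h
      have hu : IsUnit (algebraMap ℤ ZN ↑mm) := IsLocalization.map_units ZN mm
      exact (hu.mul_left_eq_zero).mp h
    have hcomp : lam.comp (psi A N ZN AN d a) = vg.comp (MvPolynomial.map zeta) := by
      apply MvPolynomial.ringHom_ext
      · intro z
        have : (lam.comp (psi A N ZN AN d a)).comp (C (σ := Fin d)) =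
            (vg.comp (MvPolynomial.map zeta)).comp (C (σ := Fin d)) := by
          apply IsLocalization.ringHom_ext (Submonoid.powers N)
          exact RingHom.ext_int _ _
        exact congrArg (fun F : ZN →+* K => F z) this
      · intro i
        simp only [RingHom.comp_apply, psi, eval₂Hom_X', map_X, lam]
        rw [IsLocalization.Away.lift_eq]
        exact (hg i).symm
    have hinj2 : Function.Injective (vg.comp (MvPolynomial.map zeta)) := by
      have h1 : Function.Injective vg := Subtype.val_injective.comp hinj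
      exact h1.comp (MvPolynomial.map_injective _ hzeta)
    rw [← hcomp, RingHom.coe_comp] at hinj2
    exact Function.Injective.of_comp hinj2

end main2

end Groth.Agent.Lib.helper27.IntNN2
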