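import Mathlib
import Groth.Agent.Lib.Helper24.RegUnram1

/-!
# Helper library (helper27): a bound `#Hom_k(A, k') ≤ N q^{r[k':k]}` for a finitely generated algebra
`A` of dimension `≤ r` over a finite field `k` with `q` elements, uniform in the finite extension
`k'`.
-/

set_option autoImplicit false
set_option linter.style.haveILetI false
set_option linter.unusedSectionVars false
universe u
open TensorProduct

namespace Groth.Agent.Lib.helper27.PtsBound1

/-- a map with fibres of size at most `N`. -/
theorem card_le_mul_card_of_fibres {α β : Type*} [Finite α] [Finite β] (ρ : α → β) (N : ℕ)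
    (h : ∀ b, Nat.card {a // ρ a = b} ≤ N) : Nat.card α ≤ N * Nat.card β := by
  classical
  haveI := Fintype.ofFinite α
  haveI := Fintype.ofFinite β
  rw [Nat.card_eq_fintype_card, Nat.card_eq_fintype_card]
  have h1 : Fintype.card α = ∑ b : β, Fintype.card {a // ρ a = b} := by
    rw [← Fintype.card_sigma]
    exact Fintype.card_congr (Equiv.sigmaFiberEquiv ρ).symm
  rw [h1]
  calc ∑ b : β, Fintype.card {a // ρ a = b} ≤ ∑ _b : β, N := by
        refine Finset.sum_le_sum (fun b _ => ?_)
        rw [← Nat.card_eq_fintype_card]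
        exact h b
    _ = N * Fintype.card β := by
        rw [Finset.sum_const, Finset.card_univ, smul_eq_mul, mul_comm]

section fibre

variable (B A K : Type*) [CommRing B] [CommRing A] [Field K] [Algebra B A] [Algebra B K]
  [Module.Finite B A]

/-- the number of `B`-algebra homomorphisms from a finite `B`-algebra generated by `N` elements to a
field is at most `N`. -/
theorem card_algHom_le (N : ℕ) (p : (Fin N → B) →ₗ[B] A) (hp : Function.Surjective p) :
    Nat.card (A →ₐ[B] K) ≤ N := by
  rw [Nat.card_congr (Algebra.TensorProduct.liftEquivRight B K A K)]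
  haveI : Module.Finite K (K ⊗[B] A) := inferInstance
  refine (card_algHom_le_finrank K (K ⊗[B] A) K).trans ?_
  have hsurj : Function.Surjective (LinearMap.baseChange K p) :=
    LinearMap.lTensor_surjective K hp
  haveI : Nontrivial B := (algebraMap B K).domain_nontrivial
  have h1 := LinearMap.finrank_le_finrank_of_surjective hsurj
  have h2 : Module.finrank K (K ⊗[B] (Fin N → B)) = N := by
    rw [Module.finrank_baseChange, Module.finrank_fin_fun]
  rw [h2] at h1
  exact h1

end fibre

section main

variable (k₀ : Type u) [Field k₀] [Finite k₀] (A : Type u) [CommRing A] [Algebra k₀ A]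
  [Algebra.FiniteType k₀ A]

theorem exists_bound_algHom (r : ℕ) (hr : ringKrullDim A ≤ r) :
    ∃ N : ℕ, ∀ (k' : Type u) [Field k'] [Algebra k₀ k'] [Finite k'],
      Nat.card (A →ₐ[k₀] k') ≤ N * Nat.card k₀ ^ (r * Module.finrank k₀ k') := by
  rcases subsingleton_or_nontrivial A with hs | hn
  · refine ⟨0, fun k' _ _ _ => ?_⟩
    haveI : IsEmpty (A →ₐ[k₀] k') := ⟨fun ψ => by
      have h1 : ψ 1 = 1 := map_one ψ
      have h2 : ψ 1 = ψ 0 := congrArg ψ (Subsingleton.elim 1 0)
      rw [h1, map_zero] at h2
      exact one_ne_zero h2⟩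
    simp
  · obtain ⟨s, g, hinj, hfin⟩ := exists_finite_inj_algHom_of_fg k₀ A
    have hs : s ≤ r := by
      have h1 : ringKrullDim (MvPolynomial (Fin s) k₀) = s := by
        rw [MvPolynomial.ringKrullDim_of_isNoetherianRing, ringKrullDim_eq_zero_of_field]
        simp
      have h2 := Groth.Agent.Lib.Helper24.RegUnram.ringKrullDim_le_of_isIntegral_of_injective
        g.toRingHom hfin.to_isIntegral hinj
      rw [h1] at h2
      exact_mod_cast h2.trans hr
    letI : Algebra (MvPolynomial (Fin s) k₀) A := g.toRingHom.toAlgebra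
    haveI : Module.Finite (MvPolynomial (Fin s) k₀) A := hfin
    obtain ⟨N, p, hp⟩ := Module.Finite.exists_fin' (MvPolynomial (Fin s) k₀) A
    refine ⟨N, fun k' _ _ _ => ?_⟩
    haveI : Finite (A →ₐ[k₀] k') := by
      obtain ⟨t, ht⟩ := (Algebra.FiniteType.out : (⊤ : Subalgebra k₀ A).FG)
      let F : (A →ₐ[k₀] k') → (↥(t : Set A) → k') := fun φ a => φ a.1
      have hF : Function.Injective F := by
        intro φ ψ h
        apply AlgHom.ext_of_adjoin_eq_top ht
        intro a ha
        exact congrFun h ⟨a, ha⟩
      exact Finite.of_injective F hF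
    let e : (MvPolynomial (Fin s) k₀ →ₐ[k₀] k') ≃ (Fin s → k') :=
      { toFun := fun φ i => φ (MvPolynomial.X i)
        invFun := fun v => MvPolynomial.aeval v
        left_inv := fun φ => (MvPolynomial.aeval_unique φ).symm
        right_inv := fun v => by
          funext i
          exact MvPolynomial.aeval_X v i }
    haveI : Finite (MvPolynomial (Fin s) k₀ →ₐ[k₀] k') := Finite.of_equiv _ e.symm
    have hcardB : Nat.card (MvPolynomial (Fin s) k₀ →ₐ[k₀] k') =
        Nat.card k₀ ^ (s * Module.finrank k₀ k') := by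
      haveI := Fintype.ofFinite k₀
      haveI := Fintype.ofFinite k'
      rw [Nat.card_congr e, Nat.card_fun, Nat.card_eq_fintype_card (α := Fin s), Fintype.card_fin,
        Nat.card_eq_fintype_card, Nat.card_eq_fintype_card,
        Module.card_eq_pow_finrank (K := k₀) (V := k'), ← pow_mul, mul_comm]
    have hfib : ∀ φ : MvPolynomial (Fin s) k₀ →ₐ[k₀] k',
        Nat.card {ψ : A →ₐ[k₀] k' // ψ.comp g = φ} ≤ N := by
      intro φ
      letI : Algebra (MvPolynomial (Fin s) k₀) k' := φ.toRingHom.toAlgebra
      let ι : {ψ : A →ₐ[k₀] k' // ψ.comp g = φ} → (A →ₐ[MvPolynomial (Fin s) k₀] k') :=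
        fun ψ => { ψ.1.toRingHom with
          commutes' := fun b => congrArg (fun χ : MvPolynomial (Fin s) k₀ →ₐ[k₀] k' => χ b) ψ.2 }
      have hι : Function.Injective ι := by
        intro ψ₁ ψ₂ h
        apply Subtype.ext
        apply AlgHom.ext
        intro a
        exact congrArg (fun χ : A →ₐ[MvPolynomial (Fin s) k₀] k' => χ a) h
      exact (Nat.card_le_card_of_injective ι hι).trans
        (card_algHom_le (MvPolynomial (Fin s) k₀) A k' N p hp)
    have hq : 0 < Nat.card k₀ := Nat.card_pos
    calc Nat.card (A →ₐ[k₀] k')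
        ≤ N * Nat.card (MvPolynomial (Fin s) k₀ →ₐ[k₀] k') :=
          card_le_mul_card_of_fibres (fun ψ : A →ₐ[k₀] k' => ψ.comp g) N hfib
      _ = N * Nat.card k₀ ^ (s * Module.finrank k₀ k') := by rw [hcardB]
      _ ≤ N * Nat.card k₀ ^ (r * Module.finrank k₀ k') :=
          Nat.mul_le_mul_left _ (Nat.pow_le_pow_right hq (Nat.mul_le_mul_right _ hs))

end main

end Groth.Agent.Lib.helper27.PtsBound1
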