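import Mathlib
import Groth.Agent.Lib.Helper27.IntNN2
import Groth.Agent.Lib.Helper27.PtsBound1
import Groth.Agent.Lib.Helper4.FiniteTypeZ

/-!
# Helper library (helper27): consequences of the generic Noether normalization over `ℤ`: the
dimension inequality and the uniform bound for the number of points in finite fields.
-/

set_option autoImplicit false
set_option linter.style.haveILetI false
set_option linter.unusedSectionVars false
universe u v

namespace Groth.Agent.Lib.helper27.IntNN3

open MvPolynomial Groth.Agent.Lib.helper27.IntNN2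

theorem ringKrullDim_le_of_isLocalization {R S : Type*} [CommRing R] [CommRing S] [Algebra R S]
    (M : Submonoid R) [IsLocalization M S] : ringKrullDim S ≤ ringKrullDim R := by
  refine Order.krullDim_le_of_strictMono
    (fun P : PrimeSpectrum S => PrimeSpectrum.comap (algebraMap R S) P) ?_
  apply Monotone.strictMono_of_injective
  · intro P Q h
    exact Ideal.comap_mono h
  · exact PrimeSpectrum.localization_comap_injective S M

theorem one_le_ringKrullDim_away (N : ℤ) (hN : N ≠ 0) (ZN : Type) [CommRing ZN] [Algebra ℤ ZN]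
    [IsLocalization.Away N ZN] : 1 ≤ ringKrullDim ZN := by
  haveI : IsDomain ZN := IsLocalization.isDomain_of_le_nonZeroDivisors (R := ℤ) (S := ZN)
    (M := Submonoid.powers N) (powers_le_nonZeroDivisors_of_noZeroDivisors hN)
  by_contra h
  have h' : ringKrullDim ZN < 1 := not_le.mp h
  have h'' : ringKrullDim ZN ≤ 0 := Order.le_of_lt_succ h'
  rw [← Nat.cast_zero, ← Ring.krullDimLE_iff] at h''
  have hf : IsField ZN := Ring.KrullDimLE.isField_of_isDomain
  obtain ⟨p, hp1, hp⟩ := Nat.exists_infinite_primes (N.natAbs + 1)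
  haveI := Fact.mk hp
  have hpN : ¬ ((p : ℤ) ∣ N) := by
    intro hd
    have h1 : p ∣ N.natAbs := by
      have := Int.natAbs_dvd_natAbs.mpr hd
      simpa using this
    have h2 := Nat.le_of_dvd (Int.natAbs_pos.mpr hN) h1
    omega
  have hNp : IsUnit (Int.castRingHom (ZMod p) N) := by
    rw [isUnit_iff_ne_zero, eq_intCast]
    intro h0
    exact hpN ((ZMod.intCast_zmod_eq_zero_iff_dvd N p).mp h0)
  let χ : ZN →+* ZMod p := IsLocalization.Away.lift N hNp
  have hinj : Function.Injective (algebraMap ℤ ZN) :=
    IsLocalization.injective ZN (powers_le_nonZeroDivisors_of_noZeroDivisors hN)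
  have hp0 : algebraMap ℤ ZN (p : ℤ) ≠ 0 := by
    intro h0
    rw [← map_zero (algebraMap ℤ ZN)] at h0
    have := hinj h0
    have hp' := hp.pos
    omega
  obtain ⟨y, hy⟩ := hf.mul_inv_cancel hp0
  have h1 := congrArg χ hy
  rw [map_mul, map_one, IsLocalization.Away.lift_eq, eq_intCast, Int.cast_natCast,
    ZMod.natCast_self, zero_mul] at h1
  exact zero_ne_one h1

section abstract

variable (A : Type u) [CommRing A] [Algebra.FiniteType ℤ A] (N : ℤ) (hN : N ≠ 0)
  (ZN : Type) [CommRing ZN] [Algebra ℤ ZN] [IsLocalization.Away N ZN]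
  (AN : Type u) [CommRing AN] [Algebra A AN] [IsLocalization.Away ((N : ℤ) : A) AN]
  (d : ℕ) (a : Fin d → A)
  (hint : RingHom.IsIntegral (psi A N ZN AN d a)) (hinj : Function.Injective (psi A N ZN AN d a))

include hN hint hinj in
theorem dim_ge : (d : WithBot ℕ∞) + 1 ≤ ringKrullDim A := by
  have h1 : ringKrullDim (MvPolynomial (Fin d) ZN) ≤ ringKrullDim AN :=
    Groth.Agent.Lib.Helper24.RegUnram.ringKrullDim_le_of_isIntegral_of_injective _ hint hinj
  have h2 : ringKrullDim AN ≤ ringKrullDim A :=
    ringKrullDim_le_of_isLocalization (Submonoid.powers ((N : ℤ) : A))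
  haveI : IsNoetherianRing ZN :=
    IsLocalization.isNoetherianRing (Submonoid.powers N) ZN inferInstance
  have h3 : ringKrullDim (MvPolynomial (Fin d) ZN) = ringKrullDim ZN + d := by
    rw [MvPolynomial.ringKrullDim_of_isNoetherianRing]
    simp
  have h4 := one_le_ringKrullDim_away N hN ZN
  calc (d : WithBot ℕ∞) + 1 = 1 + d := add_comm _ _
    _ ≤ ringKrullDim ZN + d := by gcongr
    _ = ringKrullDim (MvPolynomial (Fin d) ZN) := h3.symm
    _ ≤ ringKrullDim A := h1.trans h2

include hint in
theorem exists_card_bound :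
    ∃ n : ℕ, ∀ (F : Type v) [Field F] [Finite F], ((N : ℤ) : F) ≠ 0 →
      Nat.card (A →+* F) ≤ n * Nat.card F ^ d := by
  classical
  letI : Algebra (MvPolynomial (Fin d) ZN) AN := (psi A N ZN AN d a).toAlgebra
  haveI : Algebra.FinitePresentation A AN :=
    IsLocalization.Away.finitePresentation ((N : ℤ) : A)
  haveI : Algebra.FiniteType A AN := inferInstance
  haveI : Algebra.FiniteType ℤ AN := Algebra.FiniteType.trans (S := A) inferInstance inferInstance
  have hft : (psi A N ZN AN d a).FiniteType := by
    refine RingHom.FiniteType.of_comp_finiteType (f := Int.castRingHom (MvPolynomial (Fin d) ZN)) ?_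
    have : (psi A N ZN AN d a).comp (Int.castRingHom (MvPolynomial (Fin d) ZN)) =
        algebraMap ℤ AN := RingHom.ext_int _ _
    rw [this]
    exact RingHom.finiteType_algebraMap.mpr inferInstance
  haveI : Module.Finite (MvPolynomial (Fin d) ZN) AN := hint.to_finite hft
  obtain ⟨n, p, hp⟩ := Module.Finite.exists_fin' (MvPolynomial (Fin d) ZN) AN
  refine ⟨n, fun F _ _ hNF => ?_⟩
  haveI : Finite (A →+* F) := Groth.Agent.Lib.helper4.FiniteTypeZ.finite_ringHom_of_finiteType A F
  haveI : Finite (AN →+* F) := by
    refine Finite.of_injective (fun θ : AN →+* F => θ.comp (algebraMap A AN)) ?_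
    intro θ θ' h
    exact IsLocalization.ringHom_ext (Submonoid.powers ((N : ℤ) : A)) h
  -- homs from the polynomial ring
  let e : (MvPolynomial (Fin d) ZN →+* F) → (Fin d → F) := fun χ i => χ (X i)
  have he : Function.Injective e := by
    intro χ χ' h
    apply MvPolynomial.ringHom_ext
    · intro z
      have : χ.comp (C (σ := Fin d)) = χ'.comp (C (σ := Fin d)) := by
        apply IsLocalization.ringHom_ext (Submonoid.powers N)
        exact RingHom.ext_int _ _
      exact congrArg (fun G : ZN →+* F => G z) this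
    · intro i
      exact congrFun h i
  haveI : Finite (MvPolynomial (Fin d) ZN →+* F) := Finite.of_injective e he
  have hcardB : Nat.card (MvPolynomial (Fin d) ZN →+* F) ≤ Nat.card F ^ d := by
    refine (Nat.card_le_card_of_injective e he).trans ?_
    rw [Nat.card_fun, Nat.card_eq_fintype_card (α := Fin d), Fintype.card_fin]
  have hfib : ∀ χ : MvPolynomial (Fin d) ZN →+* F,
      Nat.card {θ : AN →+* F // θ.comp (psi A N ZN AN d a) = χ} ≤ n := by
    intro χ
    letI : Algebra (MvPolynomial (Fin d) ZN) F := χ.toAlgebra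
    let ι : {θ : AN →+* F // θ.comp (psi A N ZN AN d a) = χ} →
        (AN →ₐ[MvPolynomial (Fin d) ZN] F) :=
      fun θ => { θ.1 with
        commutes' := fun b => congrArg (fun G : MvPolynomial (Fin d) ZN →+* F => G b) θ.2 }
    have hι : Function.Injective ι := by
      intro θ₁ θ₂ h
      apply Subtype.ext
      ext x
      exact congrArg (fun G : AN →ₐ[MvPolynomial (Fin d) ZN] F => G x) h
    exact (Nat.card_le_card_of_injective ι hι).trans
      (PtsBound1.card_algHom_le (MvPolynomial (Fin d) ZN) AN F n p hp)
  -- from `A` to `A[1/N]`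
  have hunit : ∀ θ : A →+* F, IsUnit (θ ((N : ℤ) : A)) := by
    intro θ
    rw [isUnit_iff_ne_zero, map_intCast]
    exact hNF
  let L : (A →+* F) → (AN →+* F) := fun θ => IsLocalization.Away.lift ((N : ℤ) : A) (hunit θ)
  have hL : Function.Injective L := by
    intro θ θ' h
    have h1 : (L θ).comp (algebraMap A AN) = θ := IsLocalization.Away.lift_comp _ _
    have h2 : (L θ').comp (algebraMap A AN) = θ' := IsLocalization.Away.lift_comp _ _
    rw [← h1, ← h2, h]
  calc Nat.card (A →+* F) ≤ Nat.card (AN →+* F) := Nat.card_le_card_of_injective L hL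
    _ ≤ n * Nat.card (MvPolynomial (Fin d) ZN →+* F) :=
        PtsBound1.card_le_mul_card_of_fibres
          (fun θ : AN →+* F => θ.comp (psi A N ZN AN d a)) n hfib
    _ ≤ n * Nat.card F ^ d := Nat.mul_le_mul_left _ hcardB

end abstract

end Groth.Agent.Lib.helper27.IntNN3
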