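import Mathlib
import Groth.Agent.Lib.Helper27.IntNN3

/-!
# Helper library (helper27): uniform bound for the number of points of a finitely generated
`ℤ`-algebra in finite fields, by induction on the dimension.
-/

set_option autoImplicit false
set_option linter.style.haveILetI false
set_option linter.unusedSectionVars false
universe u v w

namespace Groth.Agent.Lib.helper27.IntNN4

open Groth.Agent.Lib.helper27.IntNN2 Groth.Agent.Lib.helper27.IntNN3

/-- universe-polymorphic version of `PtsBound1.exists_bound_algHom`. -/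
theorem exists_bound_algHom' (k₀ : Type w) [Field k₀] [Finite k₀] (A : Type u) [CommRing A]
    [Algebra k₀ A] [Algebra.FiniteType k₀ A] (r : ℕ) (hr : ringKrullDim A ≤ r) :
    ∃ N : ℕ, ∀ (k' : Type v) [Field k'] [Algebra k₀ k'] [Finite k'],
      Nat.card (A →ₐ[k₀] k') ≤ N * Nat.card k₀ ^ (r * Module.finrank k₀ k') := by
  rcases subsingleton_or_nontrivial A with hs | hn
  · refine ⟨0, fun k' _ _ _ => ?_⟩
    haveI : IsEmpty (A →ₐ[k₀] k') := ⟨fun ψ => by
      have h1 : ψ 1 = 1 := map_one ψ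
      have h2 : ψ 1 = ψ 0 := congrArg ψ (Subsingleton.elim 1 0)
      rw [h1, map_zero] at h2
      exact one_ne_zero h2⟩
    simp
  · obtain ⟨s, g, hinj, hfin⟩ := exists_finite_inj_algHom_of_fg k₀ A
    have hs : s ≤ r := by
      have h1 : ringKrullDim (MvPolynomial (Fin s) k₀) = s := by
        rw [MvPolynomial.ringKrullDim_of_isNoetherianRing, ringKrullDim_eq_zero_of_field]
        simp
      have h2 := Groth.Agent.Lib.Helper24.RegUnram.ringKrullDim_le_of_isIntegral_of_injective
        g.toRingHom hfin.to_isIntegral hinj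
      rw [h1] at h2
      exact_mod_cast h2.trans hr
    letI : Algebra (MvPolynomial (Fin s) k₀) A := g.toRingHom.toAlgebra
    haveI : Module.Finite (MvPolynomial (Fin s) k₀) A := hfin
    obtain ⟨N, p, hp⟩ := Module.Finite.exists_fin' (MvPolynomial (Fin s) k₀) A
    refine ⟨N, fun k' _ _ _ => ?_⟩
    haveI : Finite (A →ₐ[k₀] k') := by
      obtain ⟨t, ht⟩ := (Algebra.FiniteType.out : (⊤ : Subalgebra k₀ A).FG)
      let F : (A →ₐ[k₀] k') → (↥(t : Set A) → k') := fun φ a => φ a.1
      have hF : Function.Injective F := by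
        intro φ ψ h
        apply AlgHom.ext_of_adjoin_eq_top ht
        intro a ha
        exact congrFun h ⟨a, ha⟩
      exact Finite.of_injective F hF
    let e : (MvPolynomial (Fin s) k₀ →ₐ[k₀] k') ≃ (Fin s → k') :=
      { toFun := fun φ i => φ (MvPolynomial.X i)
        invFun := fun v => MvPolynomial.aeval v
        left_inv := fun φ => (MvPolynomial.aeval_unique φ).symm
        right_inv := fun v => by
          funext i
          exact MvPolynomial.aeval_X v i }
    haveI : Finite (MvPolynomial (Fin s) k₀ →ₐ[k₀] k') := Finite.of_equiv _ e.symm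
    have hcardB : Nat.card (MvPolynomial (Fin s) k₀ →ₐ[k₀] k') =
        Nat.card k₀ ^ (s * Module.finrank k₀ k') := by
      rw [Nat.card_congr e, Nat.card_fun, Nat.card_eq_fintype_card (α := Fin s), Fintype.card_fin,
        Module.natCard_eq_pow_finrank (K := k₀) (V := k'), ← pow_mul, mul_comm]
    have hfib : ∀ φ : MvPolynomial (Fin s) k₀ →ₐ[k₀] k',
        Nat.card {ψ : A →ₐ[k₀] k' // ψ.comp g = φ} ≤ N := by
      intro φ
      letI : Algebra (MvPolynomial (Fin s) k₀) k' := φ.toRingHom.toAlgebra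
      let ι : {ψ : A →ₐ[k₀] k' // ψ.comp g = φ} → (A →ₐ[MvPolynomial (Fin s) k₀] k') :=
        fun ψ => { ψ.1.toRingHom with
          commutes' := fun b => congrArg (fun χ : MvPolynomial (Fin s) k₀ →ₐ[k₀] k' => χ b) ψ.2 }
      have hι : Function.Injective ι := by
        intro ψ₁ ψ₂ h
        apply Subtype.ext
        apply AlgHom.ext
        intro a
        exact congrArg (fun χ : A →ₐ[MvPolynomial (Fin s) k₀] k' => χ a) h
      exact (Nat.card_le_card_of_injective ι hι).trans
        (PtsBound1.card_algHom_le (MvPolynomial (Fin s) k₀) A k' N p hp)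
    have hq : 0 < Nat.card k₀ := Nat.card_pos
    calc Nat.card (A →ₐ[k₀] k')
        ≤ N * Nat.card (MvPolynomial (Fin s) k₀ →ₐ[k₀] k') :=
          PtsBound1.card_le_mul_card_of_fibres (fun ψ : A →ₐ[k₀] k' => ψ.comp g) N hfib
      _ = N * Nat.card k₀ ^ (s * Module.finrank k₀ k') := by rw [hcardB]
      _ ≤ N * Nat.card k₀ ^ (r * Module.finrank k₀ k') :=
          Nat.mul_le_mul_left _ (Nat.pow_le_pow_right hq (Nat.mul_le_mul_right _ hs))


theorem exists_bound_charZero (A : Type u) [CommRing A] [IsDomain A] [CharZero A]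
    [Algebra.FiniteType ℤ A] :
    ∃ (d n : ℕ) (N : ℤ), N ≠ 0 ∧ (d : WithBot ℕ∞) + 1 ≤ ringKrullDim A ∧
      ∀ (F : Type v) [Field F] [Finite F], ((N : ℤ) : F) ≠ 0 →
        Nat.card (A →+* F) ≤ n * Nat.card F ^ d := by
  obtain ⟨d, a, N, hN, h⟩ := exists_integral_data A
  obtain ⟨hint, hinj⟩ := h (Localization.Away N) (Localization.Away ((N : ℤ) : A))
  obtain ⟨n, hn⟩ := exists_card_bound.{u, v} A N (Localization.Away N)
    (Localization.Away ((N : ℤ) : A)) d a hint
  exact ⟨d, n, N, hN, dim_ge A N hN (Localization.Away N) (Localization.Away ((N : ℤ) : A)) d a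
    hint hinj, hn⟩

theorem finiteType_int_of_surjective {A B : Type*} [CommRing A] [CommRing B]
    [Algebra.FiniteType ℤ A] (f : A →+* B) (hf : Function.Surjective f) :
    Algebra.FiniteType ℤ B :=
  Algebra.FiniteType.of_surjective f.toIntAlgHom hf

theorem le_pred_of_add_one_le (x : WithBot ℕ∞) (r : ℕ) (h : x + 1 ≤ (r : WithBot ℕ∞)) :
    x ≤ ((r - 1 : ℕ) : WithBot ℕ∞) := by
  induction x using WithBot.recBotCoe with
  | bot => exact bot_le
  | coe y =>
    induction y using ENat.recTopCoe with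
    | top =>
      exfalso
      have : ((⊤ : ℕ∞) : WithBot ℕ∞) + 1 = ((⊤ : ℕ∞) : WithBot ℕ∞) := rfl
      rw [this] at h
      have h' : (⊤ : ℕ∞) ≤ (r : ℕ∞) := by exact_mod_cast h
      exact absurd h' (by simp)
    | coe m =>
      have h' : m + 1 ≤ r := by exact_mod_cast h
      have : m ≤ r - 1 := by omega
      have e : (((r - 1 : ℕ) : ℕ∞) : WithBot ℕ∞) = ((r - 1 : ℕ) : WithBot ℕ∞) := rfl
      rw [← e]
      exact WithBot.coe_le_coe.mpr (by exact_mod_cast this)

theorem card_le_sum_of_fibres {α ι : Type*} [Finite α] [Fintype ι] (ρ : α → ι) (g : ι → ℕ)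
    (h : ∀ i, Nat.card {a // ρ a = i} ≤ g i) : Nat.card α ≤ ∑ i, g i := by
  rw [← Nat.card_congr (Equiv.sigmaFiberEquiv ρ), Nat.card_sigma]
  exact Finset.sum_le_sum fun i _ => h i

/-- the uniform bound. -/
def Good (A : Type u) [CommRing A] (r : ℕ) : Prop :=
  ∃ c p₀ : ℕ, ∀ (F : Type u) [Field F] [Finite F],
    Nat.card (A →+* F) ≤ c * Nat.card F ^ r ∧
    (p₀ ≤ ringChar F → Nat.card (A →+* F) * Nat.card F ≤ c * Nat.card F ^ r)

theorem good_of_charP (B : Type u) [CommRing B] [IsDomain B] [Algebra.FiniteType ℤ B] (p : ℕ)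
    [hp : Fact p.Prime] [CharP B p] (r : ℕ) (hr : ringKrullDim B ≤ r) : Good B r := by
  letI : Algebra (ZMod p) B := ZMod.algebra B p
  haveI : Algebra.FiniteType (ZMod p) B := Algebra.FiniteType.of_restrictScalars_finiteType ℤ _ _
  obtain ⟨c, hc⟩ := exists_bound_algHom'.{u, u, 0} (ZMod p) B r hr
  have hempty : ∀ (F : Type u) [Field F] [Finite F], ringChar F ≠ p → IsEmpty (B →+* F) := by
    intro F _ _ hne
    refine ⟨fun θ => hne ?_⟩
    have h0 : ((p : ℕ) : F) = 0 := by
      have : ((p : ℕ) : B) = 0 := CharP.cast_eq_zero B p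
      rw [← map_natCast θ, this, map_zero]
    have hdvd : ringChar F ∣ p := (ringChar.spec F p).mp h0
    rcases (Nat.dvd_prime hp.out).mp hdvd with h1 | h1
    · exfalso
      haveI := ringChar.charP F
      rw [h1] at this
      exact CharP.ringChar_ne_one (R := F) h1
    · exact h1
  refine ⟨c, p + 1, fun F _ _ => ?_⟩
  by_cases hF : ringChar F = p
  · haveI : CharP F p := hF ▸ ringChar.charP F
    letI : Algebra (ZMod p) F := ZMod.algebra F p
    have hcard : Nat.card F ^ r = Nat.card (ZMod p) ^ (r * Module.finrank (ZMod p) F) := by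
      rw [Module.natCard_eq_pow_finrank (K := ZMod p) (V := F), ← pow_mul, mul_comm]
    have hinj : Function.Injective (fun θ : B →ₐ[ZMod p] F => (θ : B →+* F)) := by
      intro θ θ' h
      ext x
      exact congrArg (fun G : B →+* F => G x) h
    have hsurj : Function.Surjective (fun θ : B →ₐ[ZMod p] F => (θ : B →+* F)) := by
      intro θ
      refine ⟨{ θ with commutes' := fun z => ?_ }, rfl⟩
      have : θ.comp (algebraMap (ZMod p) B) = algebraMap (ZMod p) F := Subsingleton.elim _ _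
      exact congrArg (fun G : ZMod p →+* F => G z) this
    haveI : Finite (B →+* F) :=
      Groth.Agent.Lib.helper4.FiniteTypeZ.finite_ringHom_of_finiteType B F
    haveI : Finite (B →ₐ[ZMod p] F) := Finite.of_injective _ hinj
    have hle : Nat.card (B →+* F) ≤ c * Nat.card F ^ r := by
      rw [hcard]
      exact (Nat.card_le_card_of_surjective _ hsurj).trans (hc F)
    refine ⟨hle, fun h => ?_⟩
    rw [hF] at h
    omega
  · haveI := hempty F hF
    refine ⟨by simp, fun _ => by simp⟩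


theorem good_of_charZero (B : Type u) [CommRing B] [IsDomain B] [CharZero B]
    [Algebra.FiniteType ℤ B] (r : ℕ) (hr : ringKrullDim B ≤ r)
    (IH : ∀ r' < r, ∀ (A : Type u) [CommRing A] [Algebra.FiniteType ℤ A],
      ringKrullDim A ≤ r' → Good A r') : Good B r := by
  obtain ⟨d, n, N, hN, hd, hn⟩ := exists_bound_charZero.{u, u} B
  have hdr : d + 1 ≤ r := by
    have h := hd.trans hr
    exact_mod_cast h
  let I : Ideal B := Ideal.span {((N : ℤ) : B)}
  have hNB0 : ((N : ℤ) : B) ≠ 0 := by exact_mod_cast hN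
  have hNB : ((N : ℤ) : B) ∈ nonZeroDivisors B := mem_nonZeroDivisors_of_ne_zero hNB0
  have hdim : ringKrullDim (B ⧸ I) ≤ ((r - 1 : ℕ) : WithBot ℕ∞) :=
    le_pred_of_add_one_le _ r ((ringKrullDim_quotient_succ_le_of_nonZeroDivisor hNB).trans hr)
  haveI := finiteType_int_of_surjective (Ideal.Quotient.mk I) Ideal.Quotient.mk_surjective
  obtain ⟨c', _, hc'⟩ := IH (r - 1) (by omega) (B ⧸ I) hdim
  refine ⟨n + c', 0, fun F _ _ => ?_⟩
  have hq : 1 ≤ Nat.card F := Nat.card_pos
  have key : Nat.card (B →+* F) ≤ (n + c') * Nat.card F ^ (r - 1) := by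
    by_cases hNF : ((N : ℤ) : F) = 0
    · haveI : Finite (B ⧸ I →+* F) :=
        Groth.Agent.Lib.helper4.FiniteTypeZ.finite_ringHom_of_finiteType _ _
      let L : (B →+* F) → (B ⧸ I →+* F) := fun θ => Ideal.Quotient.lift I θ (by
        intro a ha
        obtain ⟨b, rfl⟩ := Ideal.mem_span_singleton'.mp ha
        rw [map_mul, map_intCast, hNF, mul_zero])
      have hL : Function.Injective L := by
        intro θ θ' h
        ext x
        have := congrArg (fun G : B ⧸ I →+* F => G (Ideal.Quotient.mk I x)) h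
        simpa [L] using this
      calc Nat.card (B →+* F) ≤ Nat.card (B ⧸ I →+* F) := Nat.card_le_card_of_injective L hL
        _ ≤ c' * Nat.card F ^ (r - 1) := (hc' F).1
        _ ≤ (n + c') * Nat.card F ^ (r - 1) := Nat.mul_le_mul_right _ (Nat.le_add_left _ _)
    · calc Nat.card (B →+* F) ≤ n * Nat.card F ^ d := hn F hNF
        _ ≤ n * Nat.card F ^ (r - 1) :=
          Nat.mul_le_mul_left _ (Nat.pow_le_pow_right hq (by omega))
        _ ≤ (n + c') * Nat.card F ^ (r - 1) := Nat.mul_le_mul_right _ (Nat.le_add_right _ _)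
  have hr1 : r = (r - 1) + 1 := by omega
  constructor
  · calc Nat.card (B →+* F) ≤ (n + c') * Nat.card F ^ (r - 1) := key
      _ ≤ (n + c') * Nat.card F ^ r :=
        Nat.mul_le_mul_left _ (Nat.pow_le_pow_right hq (by omega))
  · intro _
    calc Nat.card (B →+* F) * Nat.card F
        ≤ ((n + c') * Nat.card F ^ (r - 1)) * Nat.card F := Nat.mul_le_mul_right _ key
      _ = (n + c') * Nat.card F ^ r := by
        rw [mul_assoc, ← pow_succ, ← hr1]

theorem good (r : ℕ) : ∀ (A : Type u) [CommRing A] [Algebra.FiniteType ℤ A],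
    ringKrullDim A ≤ r → Good A r := by
  induction r using Nat.strong_induction_on with
  | _ r IH =>
    intro A _ _ hr
    classical
    haveI : IsNoetherianRing A := Algebra.FiniteType.isNoetherianRing ℤ A
    have hfin : (minimalPrimes A).Finite := minimalPrimes.finite_of_isNoetherianRing A
    haveI : Fintype (minimalPrimes A) := hfin.fintype
    have hdom : ∀ 𝔭 : minimalPrimes A, Good (A ⧸ 𝔭.1) r := by
      intro 𝔭
      haveI : 𝔭.1.IsPrime := 𝔭.2.1.1
      haveI := finiteType_int_of_surjective (Ideal.Quotient.mk 𝔭.1) Ideal.Quotient.mk_surjective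
      have hdim : ringKrullDim (A ⧸ 𝔭.1) ≤ r := (ringKrullDim_quotient_le _).trans hr
      obtain ⟨p, hp⟩ := CharP.exists (A ⧸ 𝔭.1)
      rcases CharP.char_is_prime_or_zero (A ⧸ 𝔭.1) p with hp' | hp'
      · haveI := Fact.mk hp'
        exact good_of_charP _ p r hdim
      · subst hp'
        haveI : CharZero (A ⧸ 𝔭.1) := CharP.charP_to_charZero _
        exact good_of_charZero _ r hdim (fun r' hr' A' _ _ h => IH r' hr' A' h)
    choose c p₀ hc using hdom
    refine ⟨∑ 𝔭, c 𝔭, Finset.univ.sup p₀, fun F _ _ => ?_⟩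
    haveI : Finite (A →+* F) :=
      Groth.Agent.Lib.helper4.FiniteTypeZ.finite_ringHom_of_finiteType A F
    have hex : ∀ θ : A →+* F, ∃ 𝔭 : minimalPrimes A, 𝔭.1 ≤ RingHom.ker θ := by
      intro θ
      haveI : (RingHom.ker θ).IsPrime := RingHom.ker_isPrime θ
      obtain ⟨𝔭, h𝔭, hle⟩ :=
        Ideal.exists_minimalPrimes_le (bot_le : (⊥ : Ideal A) ≤ RingHom.ker θ)
      exact ⟨⟨𝔭, h𝔭⟩, hle⟩
    choose ρ hρ using hex
    have hfib : ∀ 𝔭 : minimalPrimes A,
        Nat.card {θ : A →+* F // ρ θ = 𝔭} ≤ Nat.card (A ⧸ 𝔭.1 →+* F) := by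
      intro 𝔭
      haveI := finiteType_int_of_surjective (Ideal.Quotient.mk 𝔭.1) Ideal.Quotient.mk_surjective
      haveI : Finite (A ⧸ 𝔭.1 →+* F) :=
        Groth.Agent.Lib.helper4.FiniteTypeZ.finite_ringHom_of_finiteType _ _
      let L : {θ : A →+* F // ρ θ = 𝔭} → (A ⧸ 𝔭.1 →+* F) := fun θ =>
        Ideal.Quotient.lift 𝔭.1 θ.1 (fun a ha => by
          have h1 := hρ θ.1
          rw [θ.2] at h1
          exact (RingHom.mem_ker).mp (h1 ha))
      have hL : Function.Injective L := by
        intro θ θ' h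
        apply Subtype.ext
        ext x
        have := congrArg (fun G : A ⧸ 𝔭.1 →+* F => G (Ideal.Quotient.mk 𝔭.1 x)) h
        simpa [L] using this
      exact Nat.card_le_card_of_injective L hL
    have hsum : Nat.card (A →+* F) ≤ ∑ 𝔭 : minimalPrimes A, Nat.card (A ⧸ 𝔭.1 →+* F) :=
      card_le_sum_of_fibres ρ _ hfib
    constructor
    · calc Nat.card (A →+* F) ≤ ∑ 𝔭 : minimalPrimes A, Nat.card (A ⧸ 𝔭.1 →+* F) := hsum
        _ ≤ ∑ 𝔭, c 𝔭 * Nat.card F ^ r := Finset.sum_le_sum fun 𝔭 _ => (hc 𝔭 F).1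
        _ = (∑ 𝔭, c 𝔭) * Nat.card F ^ r := by rw [Finset.sum_mul]
    · intro hp
      calc Nat.card (A →+* F) * Nat.card F
          ≤ (∑ 𝔭 : minimalPrimes A, Nat.card (A ⧸ 𝔭.1 →+* F)) * Nat.card F :=
            Nat.mul_le_mul_right _ hsum
        _ = ∑ 𝔭 : minimalPrimes A, Nat.card (A ⧸ 𝔭.1 →+* F) * Nat.card F := Finset.sum_mul _ _ _
        _ ≤ ∑ 𝔭, c 𝔭 * Nat.card F ^ r := Finset.sum_le_sum fun 𝔭 _ =>
            (hc 𝔭 F).2 ((Finset.le_sup (Finset.mem_univ 𝔭)).trans hp)
        _ = (∑ 𝔭, c 𝔭) * Nat.card F ^ r := by rw [Finset.sum_mul]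

end Groth.Agent.Lib.helper27.IntNN4
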