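import Mathlib

/-!
# Helper library (helper27): the degree of the Frobenius endomorphism of a finitely generated
field extension of a perfect field.

* `rdeg f` : the degree of a ring homomorphism (the `finrank` of the target over the source);
* `rdeg_comp`, `rdeg_of_bijective`, `rdeg_algebraMap`, `rdeg_fraction`;
* `fd p E` : the degree of the Frobenius endomorphism of `E`;
* `fd_ratFunc` : `fd (E(X)) = fd E * p`;
* `fd_of_essFiniteType` : `fd M = p ^ trdeg_k M` for `M` finitely generated over a perfect field `k`;
* `rdeg_iterateFrobenius`.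
-/

set_option autoImplicit false
set_option linter.style.haveILetI false
open Polynomial

namespace Groth.Agent.Lib.helper27.Frob1

/-- the degree of a ring homomorphism: the `finrank` of the target over the source. -/
noncomputable def rdeg {A B : Type*} [CommRing A] [CommRing B] (f : A →+* B) : ℕ :=
  @Module.finrank A B _ _ f.toAlgebra.toModule

section general

variable {A B C : Type*} [CommRing A] [CommRing B] [CommRing C]

theorem rdeg_comp [IsDomain C] (f : A →+* B) (g : B →+* C) (hg : Function.Injective g) :
    rdeg (g.comp f) = rdeg f * rdeg g := by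
  letI := f.toAlgebra
  letI := g.toAlgebra
  letI := (g.comp f).toAlgebra
  haveI : IsScalarTower A B C := IsScalarTower.of_algebraMap_eq (fun x => rfl)
  haveI : FaithfulSMul B C := (faithfulSMul_iff_algebraMap_injective B C).mpr hg
  exact (Module.finrank_mul_finrank' (R := A) (S := B) C).symm

theorem rdeg_of_bijective [Nontrivial A] (f : A →+* B) (hf : Function.Bijective f) : rdeg f = 1 := by
  letI := f.toAlgebra
  let e : A ≃ₗ[A] B := LinearEquiv.ofBijective (Algebra.linearMap A B) hf
  change Module.finrank A B = 1
  rw [← e.finrank_eq]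
  exact Module.finrank_self A

theorem rdeg_algebraMap [Algebra A B] : rdeg (algebraMap A B) = Module.finrank A B := by
  have h : (algebraMap A B).toAlgebra = (inferInstance : Algebra A B) :=
    Algebra.algebra_ext _ _ (fun r => rfl)
  unfold rdeg
  rw [h]

theorem rdeg_fraction {A K B L : Type*} [CommRing A] [CommRing K] [CommRing B] [CommRing L]
    [Algebra A K] [IsFractionRing A K] [Algebra B L] [IsFractionRing B L]
    (f : A →+* B) (g : K →+* L) (h : g.comp (algebraMap A K) = (algebraMap B L).comp f) :
    rdeg g = rdeg f := by
  letI := f.toAlgebra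
  letI := g.toAlgebra
  letI : Algebra A L := ((algebraMap B L).comp f).toAlgebra
  haveI : IsScalarTower A K L := IsScalarTower.of_algebraMap_eq (fun x => by
    have := congrArg (fun φ => φ x) h
    exact this.symm)
  haveI : IsScalarTower A B L := IsScalarTower.of_algebraMap_eq (fun x => rfl)
  exact IsFractionRing.finrank_eq A K B L

theorem rdeg_mapRingHom {R S : Type*} [CommRing R] [CommRing S] [NoZeroDivisors R] (f : R →+* S) :
    rdeg (Polynomial.mapRingHom f) = rdeg f := by
  letI := f.toAlgebra
  letI := Polynomial.algebra (R := R) (A := S)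
  change Module.finrank R[X] S[X] = Module.finrank R S
  unfold Module.finrank
  rw [rank_polynomial_polynomial]

end general

section frob

variable (p : ℕ)

/-- the degree of the Frobenius endomorphism. -/
noncomputable def fd (E : Type*) [CommRing E] [ExpChar E p] : ℕ := rdeg (frobenius E p)

theorem fd_eq_of_ringEquiv {E E' : Type*} [Field E] [Field E'] [ExpChar E p] [ExpChar E' p]
    (e : E ≃+* E') : fd p E = fd p E' := by
  have h : (e : E →+* E').comp (frobenius E p) = (frobenius E' p).comp (e : E →+* E') := by
    ext x
    simp [frobenius_def]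
  have h1 := rdeg_comp (frobenius E p) (e : E →+* E') e.injective
  have h2 := rdeg_comp (e : E →+* E') (frobenius E' p) (frobenius E' p).injective
  rw [h, h2, rdeg_of_bijective (e : E →+* E') e.bijective] at h1
  unfold fd
  omega

theorem fd_of_perfect (E : Type*) [Field E] [ExpChar E p] [PerfectRing E p] : fd p E = 1 :=
  rdeg_of_bijective _ (bijective_frobenius E p)

theorem fd_of_finite (E L : Type*) [Field E] [Field L] [Algebra E L] [FiniteDimensional E L]
    [ExpChar E p] [ExpChar L p] : fd p L = fd p E := by
  have h : (algebraMap E L).comp (frobenius E p) = (frobenius L p).comp (algebraMap E L) := by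
    ext x
    simp [frobenius_def]
  have h1 := rdeg_comp (frobenius E p) (algebraMap E L) (algebraMap E L).injective
  have h2 := rdeg_comp (algebraMap E L) (frobenius L p) (frobenius L p).injective
  rw [h, h2, rdeg_algebraMap] at h1
  have hpos : 0 < Module.finrank E L := Module.finrank_pos
  unfold fd
  have h3 : Module.finrank E L * rdeg (frobenius L p) = Module.finrank E L * rdeg (frobenius E p) := by
    rw [h1, mul_comm]
  exact Nat.eq_of_mul_eq_mul_left hpos h3

end frob

theorem rdeg_expand (E : Type*) [Field E] {p : ℕ} (hp : 0 < p) :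
    rdeg ((expand E p : E[X] →ₐ[E] E[X]) : E[X] →+* E[X]) = p := by
  have ht : Transcendental E ((RatFunc.X : RatFunc E) ^ p) := RatFunc.transcendental_X.pow hp
  let e := RatFunc.algEquivOfTranscendental ((RatFunc.X : RatFunc E) ^ p) ht
  let e' : RatFunc E →+* IntermediateField.adjoin E {(RatFunc.X : RatFunc E) ^ p} :=
    e.toRingEquiv.toRingHom
  have he : rdeg e' = 1 := rdeg_of_bijective e' e.bijective
  let ψ : RatFunc E →+* RatFunc E :=
    (algebraMap (IntermediateField.adjoin E {(RatFunc.X : RatFunc E) ^ p}) (RatFunc E)).comp e'
  have hψ : ψ.comp (algebraMap E[X] (RatFunc E)) =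
      (algebraMap E[X] (RatFunc E)).comp ((expand E p : E[X] →ₐ[E] E[X]) : E[X] →+* E[X]) := by
    ext a
    · have := e.commutes a
      simp only [ψ, RingHom.comp_apply]
      change algebraMap _ (RatFunc E) (e (algebraMap E[X] (RatFunc E) (C a))) = _
      rw [← Polynomial.algebraMap_eq, ← IsScalarTower.algebraMap_apply, this,
        ← IsScalarTower.algebraMap_apply]
      simp [Polynomial.algebraMap_eq]
    · simp only [ψ, RingHom.comp_apply]
      change algebraMap _ (RatFunc E) (e (algebraMap E[X] (RatFunc E) X)) = _
      simp [e, RatFunc.algEquivOfTranscendental_X]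
  rw [← rdeg_fraction _ ψ hψ]
  rw [rdeg_comp _ _ (RingHom.injective _), he, one_mul, rdeg_algebraMap,
    RatFunc.finrank_eq_max_natDegree]
  have h1 : ((RatFunc.X : RatFunc E) ^ p) = algebraMap E[X] (RatFunc E) (X ^ p) := by
    simp
  rw [h1, RatFunc.num_algebraMap, RatFunc.denom_algebraMap]
  simp

theorem fd_ratFunc (p : ℕ) (E : Type*) [Field E] [ExpChar E p] [ExpChar (RatFunc E) p]
    (hp : 0 < p) : fd p (RatFunc E) = p * fd p E := by
  have h1 : fd p (RatFunc E) = rdeg (frobenius E[X] p) :=
    rdeg_fraction (frobenius E[X] p) (frobenius (RatFunc E) p) (by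
      ext x <;> simp [frobenius_def])
  have h2 : frobenius E[X] p = (mapRingHom (frobenius E p)).comp
      ((expand E p : E[X] →ₐ[E] E[X]) : E[X] →+* E[X]) :=
    RingHom.ext fun f => (map_frobenius_expand p f).symm
  rw [h1, h2, rdeg_comp _ _ (map_injective _ (frobenius E p).injective), rdeg_expand E hp,
    rdeg_mapRingHom]
  rfl

/-- two intermediate fields (over possibly different base fields) with the same carrier. -/
noncomputable def equivOfCarrierEq {F₁ F₂ M : Type*} [Field F₁] [Field F₂] [Field M] [Algebra F₁ M]
    [Algebra F₂ M] (K₁ : IntermediateField F₁ M) (K₂ : IntermediateField F₂ M)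
    (h : (K₁ : Set M) = (K₂ : Set M)) : K₁ ≃+* K₂ where
  toFun x := ⟨x.1, by have := x.2; rwa [← SetLike.mem_coe, h] at this⟩
  invFun x := ⟨x.1, by have := x.2; rwa [← SetLike.mem_coe, ← h] at this⟩
  left_inv x := rfl
  right_inv x := rfl
  map_mul' x y := rfl
  map_add' x y := rfl

theorem fd_adjoin_finset (p : ℕ) (hp : 0 < p) {k M : Type*} [Field k] [Field M] [Algebra k M]
    [ExpChar k p] [ExpChar M p] (S : Finset M) (hS : AlgebraicIndepOn k id (S : Set M)) :
    fd p (IntermediateField.adjoin k (S : Set M)) = p ^ S.card * fd p k := by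
  classical
  induction S using Finset.induction_on with
  | empty =>
    have h : ((IntermediateField.adjoin k ((∅ : Finset M) : Set M)) : Set M) =
        ((⊥ : IntermediateField k M) : Set M) := by
      rw [Finset.coe_empty, IntermediateField.adjoin_empty]
    rw [fd_eq_of_ringEquiv p (equivOfCarrierEq _ _ h),
      fd_eq_of_ringEquiv p (IntermediateField.botEquiv k M).toRingEquiv]
    simp
  | insert a S ha ih =>
    have hS2 : AlgebraicIndepOn k id (insert a (S : Set M)) := by
      rwa [Finset.coe_insert] at hS
    obtain ⟨hS', hta⟩ := (AlgebraicIndepOn.insert_iff (by simpa using ha)).mp hS2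
    have hta' : Transcendental (IntermediateField.adjoin k (S : Set M)) a :=
      IntermediateField.transcendental_adjoin_iff.mpr (by
        rw [Set.image_id] at hta
        exact hta)
    have e1 := RatFunc.algEquivOfTranscendental a hta'
    have h2 : ((IntermediateField.adjoin k ((insert a S : Finset M) : Set M)) : Set M) =
        ((IntermediateField.adjoin (IntermediateField.adjoin k (S : Set M)) {a}) : Set M) := by
      have := IntermediateField.adjoin_adjoin_left k (S : Set M) ({a} : Set M)
      rw [Finset.coe_insert, ← Set.union_singleton, ← this]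
      rfl
    rw [fd_eq_of_ringEquiv p (equivOfCarrierEq _ _ h2), ← fd_eq_of_ringEquiv p e1.toRingEquiv,
      fd_ratFunc p _ hp, ih hS', Finset.card_insert_of_notMem ha, pow_succ]
    ring

theorem fd_of_essFiniteType (p : ℕ) (hp : 0 < p) (k M : Type*) [Field k] [Field M] [Algebra k M]
    [ExpChar k p] [ExpChar M p] [PerfectRing k p] [Algebra.EssFiniteType k M] (n : ℕ)
    (hn : Algebra.trdeg k M = n) : fd p M = p ^ n := by
  classical
  obtain ⟨s, hs⟩ := IntermediateField.fg_top k M
  have : Algebra.IsAlgebraic (Algebra.adjoin k (s : Set M)) M := by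
    rw [← IntermediateField.isAlgebraic_adjoin_iff_top, hs, Algebra.isAlgebraic_iff_isIntegral]
    exact Algebra.isIntegral_of_surjective IntermediateField.topEquiv.surjective
  obtain ⟨t, hts, ht⟩ := exists_isTranscendenceBasis_subset (R := k) (s : Set M)
  lift t to Finset M using s.finite_toSet.subset hts
  have hcard : t.card = n := by
    have h1 := ht.cardinalMk_eq_trdeg
    rw [hn] at h1
    have h2 : Cardinal.mk (↥(t : Set M)) = (t.card : Cardinal) := by
      simp
    rw [h2] at h1
    exact_mod_cast h1
  haveI : Algebra.IsAlgebraic (IntermediateField.adjoin k (t : Set M)) M := by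
    have := ht.isAlgebraic_field
    rwa [Subtype.range_coe] at this
  haveI : Algebra.EssFiniteType (IntermediateField.adjoin k (t : Set M)) M :=
    Algebra.EssFiniteType.of_comp k _ M
  haveI : Module.Finite (IntermediateField.adjoin k (t : Set M)) M :=
    Algebra.finite_of_essFiniteType_of_isAlgebraic
  rw [fd_of_finite p (IntermediateField.adjoin k (t : Set M)) M, fd_adjoin_finset p hp t ht.1,
    fd_of_perfect, hcard, mul_one]

theorem rdeg_iterateFrobenius (p : ℕ) (E : Type*) [Field E] [ExpChar E p] (e : ℕ) :
    rdeg (iterateFrobenius E p e) = fd p E ^ e := by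
  induction e with
  | zero =>
    rw [iterateFrobenius_zero, pow_zero]
    exact rdeg_of_bijective _ Function.bijective_id
  | succ e ih =>
    rw [iterateFrobenius_add, iterateFrobenius_one, rdeg_comp _ _ (RingHom.injective _), ih,
      pow_succ]
    exact mul_comm _ _

end Groth.Agent.Lib.helper27.Frob1
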