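import Mathlib
import Groth.Prelude.Def_W4c1zetahwZeta
import Groth.Prelude.Def_SgaExt
import Groth.Agent.Lib.Helper27.Frob1

/-!
# Helper library (helper27): points of a scheme over a field `k₀` with values in a field extension,
as pairs (point, embedding of the residue field).
-/

set_option autoImplicit false
set_option linter.style.haveILetI false
set_option linter.unusedSectionVars false
universe u
open AlgebraicGeometry CategoryTheory Opposite TopologicalSpace

namespace Groth.Agent.Lib.helper27.Pts1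

open Groth.Agent.Lib.helper27.Frob1

variable {k₀ : Type u} [Field k₀] {X : Scheme.{u}} (f : X ⟶ Spec (CommRingCat.of k₀))

/-- the structure map `k₀ → κ(x)`. -/
noncomputable def cmap (x : X) : CommRingCat.of k₀ ⟶ X.residueField x :=
  Spec.preimage (X.fromSpecResidueField x ≫ f)

theorem Spec_map_cmap (x : X) : Spec.map (cmap f x) = X.fromSpecResidueField x ≫ f :=
  Spec.map_preimage _

/-- the canonical map from a field to the residue field of its spectrum at a point. -/
noncomputable def tmap (y : Spec (CommRingCat.of k₀)) :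
    CommRingCat.of k₀ ⟶ (Spec (CommRingCat.of k₀)).residueField y :=
  Spec.preimage ((Spec (CommRingCat.of k₀)).fromSpecResidueField y)

theorem Spec_map_tmap (y : Spec (CommRingCat.of k₀)) :
    Spec.map (tmap y) = (Spec (CommRingCat.of k₀)).fromSpecResidueField y :=
  Spec.map_preimage _

theorem tmap_bijective (y : Spec (CommRingCat.of k₀)) : Function.Bijective (tmap y).hom := by
  refine ⟨(tmap y).hom.injective, ?_⟩
  have h1 : tmap y = CommRingCat.ofHom (algebraMap (CommRingCat.of k₀) y.asIdeal.ResidueField) ≫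
      (Scheme.Spec.residueFieldIso (CommRingCat.of k₀) y).inv := by
    apply Spec.map_injective
    rw [Spec_map_tmap, Spec.map_comp, Scheme.Spec.map_residueFieldIso_inv_eq_fromSpecResidueField]
  haveI : y.asIdeal.IsMaximal := by
    have : y.asIdeal = ⊥ := Ideal.eq_bot_of_prime y.asIdeal
    rw [this]
    exact Ideal.bot_isMaximal
  rw [h1]
  intro z
  obtain ⟨a, ha⟩ := Ideal.algebraMap_residueField_surjective y.asIdeal
    ((Scheme.Spec.residueFieldIso (CommRingCat.of k₀) y).hom.hom z)
  refine ⟨a, ?_⟩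
  change (Scheme.Spec.residueFieldIso (CommRingCat.of k₀) y).inv.hom
    (algebraMap (CommRingCat.of k₀) y.asIdeal.ResidueField a) = z
  rw [ha]
  exact congrArg (fun φ => φ.hom z) (Scheme.Spec.residueFieldIso (CommRingCat.of k₀) y).hom_inv_id

theorem cmap_eq (x : X) : cmap f x = tmap (f x) ≫ f.residueFieldMap x := by
  apply Spec.map_injective
  rw [Spec_map_cmap, Spec.map_comp, Spec_map_tmap,
    Scheme.Hom.SpecMap_residueFieldMap_fromSpecResidueField]

theorem residueDegree_eq (x : X) : EGA4loc.residueDegree f x = rdeg (cmap f x).hom := by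
  have h1 : EGA4loc.residueDegree f x = rdeg (f.residueFieldMap x).hom := rfl
  have h2 : (cmap f x).hom = (f.residueFieldMap x).hom.comp (tmap (f x)).hom := by
    rw [cmap_eq]
    rfl
  rw [h1, h2, rdeg_comp _ _ (RingHom.injective _), rdeg_of_bijective _ (tmap_bijective (f x)),
    one_mul]


/-- a subtype of a sigma type is the sigma type of the subtypes. -/
def sigmaSubtype {ι : Type*} {β : ι → Type*} (Q : (Σ i, β i) → Prop) :
    {σ : Σ i, β i // Q σ} ≃ Σ i, {b : β i // Q ⟨i, b⟩} where
  toFun σ := ⟨σ.1.1, σ.1.2, σ.2⟩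
  invFun s := ⟨⟨s.1, s.2.1⟩, s.2.2⟩
  left_inv _ := rfl
  right_inv _ := rfl

/-- transport a subtype along an equivalence with a sigma type. -/
def subtypeSigmaEquiv {A : Type*} {ι : Type*} {β : ι → Type*} (e : A ≃ Σ i, β i) (P : A → Prop) :
    {a // P a} ≃ Σ i, {b : β i // P (e.symm ⟨i, b⟩)} :=
  (Equiv.subtypeEquiv e (fun a => by simp)).trans (sigmaSubtype (fun σ => P (e.symm σ)))

theorem subtypeSigmaEquiv_symm_apply {A : Type*} {ι : Type*} {β : ι → Type*} (e : A ≃ Σ i, β i)
    (P : A → Prop) (i : ι) (b : {b : β i // P (e.symm ⟨i, b⟩)}) :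
    ((subtypeSigmaEquiv e P).symm ⟨i, b⟩).1 = e.symm ⟨i, b.1⟩ := rfl

section pts

variable (L : Type u) [Field L] [Algebra k₀ L]

theorem comp_eq_iff (x : X) (ι : X.residueField x ⟶ CommRingCat.of L) :
    (Spec.map ι ≫ X.fromSpecResidueField x) ≫ f =
        Spec.map (CommRingCat.ofHom (algebraMap k₀ L)) ↔
      cmap f x ≫ ι = CommRingCat.ofHom (algebraMap k₀ L) := by
  rw [Category.assoc, ← Spec_map_cmap, ← Spec.map_comp]
  exact Spec.map_injective.eq_iff

/-- the `L`-valued points of `X` over `k₀`. -/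
def Pts : Type u :=
  {g : Spec (CommRingCat.of L) ⟶ X // g ≫ f = Spec.map (CommRingCat.ofHom (algebraMap k₀ L))}

/-- the `k₀`-embeddings of `κ(x)` in `L`. -/
def Emb (x : X) : Type u :=
  {ι : X.residueField x ⟶ CommRingCat.of L // cmap f x ≫ ι = CommRingCat.ofHom (algebraMap k₀ L)}

noncomputable def ptsEquiv : Pts f L ≃ Σ x : X, Emb f L x :=
  (subtypeSigmaEquiv (Scheme.SpecToEquivOfField L X)
    (fun g => g ≫ f = Spec.map (CommRingCat.ofHom (algebraMap k₀ L)))).trans
    (Equiv.sigmaCongrRight fun x => Equiv.subtypeEquivRight fun ι => comp_eq_iff f L x ι)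

theorem ptsEquiv_symm_apply (x : X) (ι : Emb f L x) :
    ((ptsEquiv f L).symm ⟨x, ι⟩).1 = Spec.map ι.1 ≫ X.fromSpecResidueField x := rfl

theorem pointCount_eq : SgaExt.pointCount f L = Nat.card (Σ x : X, Emb f L x) :=
  Nat.card_congr (ptsEquiv f L)

end pts

end Groth.Agent.Lib.helper27.Pts1
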