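import Mathlib

/-!
# Helper library (helper27): embeddings of an extension of a finite field into a finite field.
-/

set_option autoImplicit false
set_option linter.style.haveILetI false
set_option linter.unusedSectionVars false
open Polynomial

namespace Groth.Agent.Lib.helper27.Pts2

section field

variable (k₀ κ k' : Type*) [Field k₀] [Field κ] [Field k'] [Finite k₀] [Finite k']
  [Algebra k₀ κ] [Algebra k₀ k']

theorem finrank_pos' : 0 < Module.finrank k₀ k' := Module.finrank_pos

variable {k₀ κ k'} in
theorem finite_and_dvd_of_algHom (φ : κ →ₐ[k₀] k') :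
    FiniteDimensional k₀ κ ∧ Module.finrank k₀ κ ∣ Module.finrank k₀ k' := by
  haveI : FiniteDimensional k₀ κ :=
    FiniteDimensional.of_injective φ.toLinearMap φ.injective
  refine ⟨inferInstance, ?_⟩
  letI : Algebra κ k' := φ.toRingHom.toAlgebra
  haveI : IsScalarTower k₀ κ k' := IsScalarTower.of_algebraMap_eq (fun x => (φ.commutes x).symm)
  exact ⟨Module.finrank κ k', (Module.finrank_mul_finrank k₀ κ k').symm⟩

theorem card_algHom_of_dvd [FiniteDimensional k₀ κ]
    (h : Module.finrank k₀ κ ∣ Module.finrank k₀ k') :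
    Nat.card (κ →ₐ[k₀] k') = Module.finrank k₀ κ := by
  haveI := Fintype.ofFinite k₀
  haveI := Fintype.ofFinite k'
  haveI : Finite κ := Module.finite_of_finite k₀
  haveI := Fintype.ofFinite κ
  haveI : Algebra.IsSeparable k₀ κ := Algebra.IsAlgebraic.isSeparable_of_perfectField
  refine AlgHom.natCard_of_splits k₀ κ k' ?_
  intro x
  obtain ⟨s, hs⟩ := h
  have hcκ : Fintype.card κ = Fintype.card k₀ ^ Module.finrank k₀ κ := Module.card_eq_pow_finrank
  have hck' : Fintype.card k' = Fintype.card k₀ ^ Module.finrank k₀ k' :=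
    Module.card_eq_pow_finrank
  have hx : x ^ Fintype.card k' = x := by
    rw [hck', hs, pow_mul, ← hcκ]
    exact FiniteField.pow_card_pow s x
  have hdvd : minpoly k₀ x ∣ (X ^ Fintype.card k' - X : k₀[X]) := by
    apply minpoly.dvd
    simp [hx]
  have hsplit : ((X ^ Fintype.card k' - X : k₀[X]).map (algebraMap k₀ k')).Splits := by
    have h1 : (X ^ Fintype.card k' - X : k₀[X]).map (algebraMap k₀ k') =
        (X ^ Fintype.card k' - X : k'[X]) := by simp
    rw [h1]
    have hlt : 1 < Fintype.card k' := Fintype.one_lt_card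
    rw [Polynomial.splits_iff_card_roots, FiniteField.roots_X_pow_card_sub_X,
      FiniteField.X_pow_card_sub_X_natDegree_eq k' hlt]
    simp
  exact hsplit.of_dvd (Polynomial.map_ne_zero (FiniteField.X_pow_card_sub_X_ne_zero k₀
    Fintype.one_lt_card)) (Polynomial.map_dvd _ hdvd)

theorem card_algHom :
    Nat.card (κ →ₐ[k₀] k') =
      if Module.finrank k₀ κ ∣ Module.finrank k₀ k' then Module.finrank k₀ κ else 0 := by
  have hr : 0 < Module.finrank k₀ k' := Module.finrank_pos
  split_ifs with h
  · have he : 0 < Module.finrank k₀ κ := by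
      rcases Nat.eq_zero_or_pos (Module.finrank k₀ κ) with h0 | h0
      · rw [h0, zero_dvd_iff] at h
        omega
      · exact h0
    haveI : FiniteDimensional k₀ κ := Module.finite_of_finrank_pos he
    exact card_algHom_of_dvd k₀ κ k' h
  · haveI : IsEmpty (κ →ₐ[k₀] k') := ⟨fun φ => h (finite_and_dvd_of_algHom φ).2⟩
    exact Nat.card_of_isEmpty

theorem finite_algHom : Finite (κ →ₐ[k₀] k') := by
  by_cases hne : Nonempty (κ →ₐ[k₀] k')
  · obtain ⟨φ⟩ := hne
    haveI := (finite_and_dvd_of_algHom φ).1
    infer_instance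
  · rw [not_nonempty_iff] at hne
    infer_instance

end field

/-- algebra homomorphisms from a finitely generated algebra to a finite ring are finite in number.-/
theorem finite_algHom_of_finiteType (R A B : Type*) [CommRing R] [CommRing A] [CommRing B]
    [Algebra R A] [Algebra R B] [Algebra.FiniteType R A] [Finite B] : Finite (A →ₐ[R] B) := by
  obtain ⟨s, hs⟩ := (Algebra.FiniteType.out : (⊤ : Subalgebra R A).FG)
  let F : (A →ₐ[R] B) → (↥(s : Set A) → B) := fun φ a => φ a.1
  have hF : Function.Injective F := by
    intro φ ψ h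
    apply AlgHom.ext_of_adjoin_eq_top hs
    intro a ha
    exact congrFun h ⟨a, ha⟩
  exact Finite.of_injective F hF

end Groth.Agent.Lib.helper27.Pts2
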