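import Mathlib
import Groth.Prelude.Def_W4c1zetahwZeta
import Groth.Prelude.Def_SgaExt
import Groth.Agent.Lib.Helper27.Pts1
import Groth.Agent.Lib.Helper27.Pts2
import Groth.Agent.Lib.Helper3.FTField
import Groth.Agent.Lib.Helper3.ResMap

/-!
# Helper library (helper27): counting the points of a scheme of finite type over a finite field
with values in a finite extension.
-/

set_option autoImplicit false
set_option linter.style.haveILetI false
set_option linter.unusedSectionVars false
universe u
open AlgebraicGeometry CategoryTheory Opposite TopologicalSpace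

namespace Groth.Agent.Lib.helper27.Pts3

open Groth.Agent.Lib.helper27.Frob1 Groth.Agent.Lib.helper27.Pts1 Groth.Agent.Lib.helper27.Pts2

variable {k₀ : Type u} [Field k₀] {X : Scheme.{u}} (f : X ⟶ Spec (CommRingCat.of k₀))

theorem cmap_eq_resMap (x : X) :
    (cmap f x).hom = @Curv2.resMap k₀ _ X ⟨f⟩ x := by
  letI : X.Over (Spec (CommRingCat.of k₀)) := ⟨f⟩
  have h := Groth.Agent.Lib.helper3.ResMap.specMap_resMap k₀ X x
  have h2 : cmap f x = CommRingCat.ofHom (Curv2.resMap k₀ X x) := by
    apply Spec.map_injective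
    rw [Spec_map_cmap, h]
    rfl
  rw [h2]
  rfl

theorem cmap_eq_eval_sec (U : X.Opens) (x : X) (hx : x ∈ U) :
    (cmap f x).hom = (X.evaluation U x hx).hom.comp
      (@Groth.Agent.Lib.helper3.FTField.sec k₀ _ X ⟨f⟩ U) := by
  letI : X.Over (Spec (CommRingCat.of k₀)) := ⟨f⟩
  rw [cmap_eq_resMap]
  exact Groth.Agent.Lib.helper3.FTField.resMap_eq k₀ X U x hx

section emb

variable (L : Type u) [Field L] [Algebra k₀ L]

/-- embeddings over `k₀` as algebra homomorphisms. -/
noncomputable def embEquiv (x : X) :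
    Emb f L x ≃ @AlgHom k₀ (X.residueField x) L _ _ _ (cmap f x).hom.toAlgebra _ :=
  letI := (cmap f x).hom.toAlgebra
  { toFun := fun ι => { ι.1.hom with
      commutes' := fun a => by
        have := congrArg (fun φ => φ.hom a) ι.2
        exact this }
    invFun := fun φ => ⟨CommRingCat.ofHom φ.toRingHom, by
      ext a
      exact φ.commutes a⟩
    left_inv := fun ι => rfl
    right_inv := fun φ => rfl }

end emb

section finite

variable [Finite k₀] (k' : Type u) [Field k'] [Algebra k₀ k'] [Finite k']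

theorem card_emb (x : X) :
    Nat.card (Emb f k' x) =
      if EGA4loc.residueDegree f x ∣ Module.finrank k₀ k' then EGA4loc.residueDegree f x
      else 0 := by
  letI := (cmap f x).hom.toAlgebra
  rw [Nat.card_congr (embEquiv f k' x), residueDegree_eq]
  exact card_algHom k₀ (X.residueField x) k'

theorem finite_emb (x : X) : Finite (Emb f k' x) := by
  letI := (cmap f x).hom.toAlgebra
  haveI := finite_algHom k₀ (X.residueField x) k'
  exact Finite.of_equiv _ (embEquiv f k' x).symm

theorem nonempty_emb_iff (x : X) :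
    Nonempty (Emb f k' x) ↔ EGA4loc.residueDegree f x ∣ Module.finrank k₀ k' := by
  haveI := finite_emb f k' x
  have hr : 0 < Module.finrank k₀ k' := Module.finrank_pos
  rw [← Finite.card_pos_iff, card_emb]
  split_ifs with h
  · simp only [h, iff_true]
    rcases Nat.eq_zero_or_pos (EGA4loc.residueDegree f x) with h0 | h0
    · rw [h0, zero_dvd_iff] at h
      omega
    · exact h0
  · simp [h]

end finite

section closed

variable [LocallyOfFiniteType f]

theorem isClosed_of_residueDegree_pos (x : X) (h : 0 < EGA4loc.residueDegree f x) :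
    IsClosed ({x} : Set X) := by
  haveI : JacobsonSpace X := LocallyOfFiniteType.jacobsonSpace f
  rw [isClosed_singleton_iff_locallyOfFiniteType]
  rw [residueDegree_eq] at h
  have hfin : (cmap f x).hom.Finite := by
    letI := (cmap f x).hom.toAlgebra
    exact Module.finite_of_finrank_pos h
  have h2 : LocallyOfFiniteType (Spec.map (cmap f x)) := by
    rw [HasRingHomProperty.Spec_iff (P := @LocallyOfFiniteType)]
    exact hfin.finiteType
  rw [Spec_map_cmap] at h2
  exact locallyOfFiniteType_of_comp (X.fromSpecResidueField x) f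

end closed


section support

theorem ker_evaluation {U : X.Opens} (hU : IsAffineOpen U) (x : X) (hx : x ∈ U) :
    RingHom.ker (X.evaluation U x hx).hom = (hU.primeIdealOf ⟨x, hx⟩).asIdeal := by
  rw [hU.primeIdealOf_eq_map_closedPoint ⟨x, hx⟩]
  ext s
  rw [RingHom.mem_ker]
  change (X.residue x).hom ((X.presheaf.germ U x hx).hom s) = 0 ↔
    (X.presheaf.germ U x hx).hom s ∈ IsLocalRing.maximalIdeal (X.presheaf.stalk x)
  exact IsLocalRing.residue_eq_zero_iff _

variable [Finite k₀] (k' : Type u) [Field k'] [Algebra k₀ k'] [Finite k'] [LocallyOfFiniteType f]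

theorem finite_support_affine {U : X.Opens} (hU : IsAffineOpen U) :
    {x : X | x ∈ U ∧ Nonempty (Emb f k' x)}.Finite := by
  letI : X.Over (Spec (CommRingCat.of k₀)) := ⟨f⟩
  haveI : LocallyOfFiniteType (X ↘ Spec (CommRingCat.of k₀)) := ‹LocallyOfFiniteType f›
  letI : Algebra k₀ Γ(X, U) := (Groth.Agent.Lib.helper3.FTField.sec k₀ X U).toAlgebra
  haveI : Algebra.FiniteType k₀ Γ(X, U) := Groth.Agent.Lib.helper3.FTField.sec_finiteType k₀ X hU
  haveI : Finite (Γ(X, U) →ₐ[k₀] k') := finite_algHom_of_finiteType k₀ Γ(X, U) k'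
  let T : Set (Ideal Γ(X, U)) := Set.range (fun φ : Γ(X, U) →ₐ[k₀] k' => RingHom.ker φ.toRingHom)
  have hT : T.Finite := Set.finite_range _
  let g : U → Ideal Γ(X, U) := fun x => (hU.primeIdealOf x).asIdeal
  have hg : Function.Injective g := by
    intro x y hxy
    have h1 : hU.primeIdealOf x = hU.primeIdealOf y := PrimeSpectrum.ext hxy
    have h2 := hU.fromSpec_primeIdealOf x
    rw [h1, hU.fromSpec_primeIdealOf y] at h2
    exact Subtype.ext h2.symm
  have hS' : (g ⁻¹' T).Finite := hT.preimage hg.injOn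
  refine (hS'.image Subtype.val).subset ?_
  rintro x ⟨hx, ⟨ι⟩⟩
  refine ⟨⟨x, hx⟩, ?_, rfl⟩
  have hcomm : ∀ a : k₀, (ι.1.hom.comp (X.evaluation U x hx).hom) (algebraMap k₀ Γ(X, U) a) =
      algebraMap k₀ k' a := by
    intro a
    have h1 := congrArg (fun φ => φ.hom a) ι.2
    have h2 := congrArg (fun φ => φ a) (cmap_eq_eval_sec f U x hx)
    change ι.1.hom ((cmap f x).hom a) = algebraMap k₀ k' a at h1
    rw [← h1]
    change ι.1.hom ((X.evaluation U x hx).hom (Groth.Agent.Lib.helper3.FTField.sec k₀ X U a)) = _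
    rw [h2]
    rfl
  let φ : Γ(X, U) →ₐ[k₀] k' := { ι.1.hom.comp (X.evaluation U x hx).hom with commutes' := hcomm }
  refine ⟨φ, ?_⟩
  change RingHom.ker (ι.1.hom.comp (X.evaluation U x hx).hom) = (hU.primeIdealOf ⟨x, hx⟩).asIdeal
  rw [← ker_evaluation hU x hx, ← RingHom.comap_ker, (RingHom.injective_iff_ker_eq_bot _).mp
    ι.1.hom.injective, RingHom.ker_eq_comap_bot]

theorem finite_support [QuasiCompact f] : {x : X | Nonempty (Emb f k' x)}.Finite := by
  haveI : CompactSpace X := QuasiCompact.compactSpace_of_compactSpace f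
  have hc : IsCompact ((⊤ : X.Opens) : Set X) := by
    rw [Opens.coe_top]
    exact isCompact_univ
  obtain ⟨s, hs, hU⟩ := (isCompact_iff_finite_and_eq_biUnion_affineOpens (U := (⊤ : X.Opens))).mp hc
  have hsub : {x : X | Nonempty (Emb f k' x)} ⊆
      ⋃ i ∈ s, {x : X | x ∈ (i : X.Opens) ∧ Nonempty (Emb f k' x)} := by
    intro x hx
    have hxt : x ∈ (⊤ : X.Opens) := trivial
    rw [hU] at hxt
    simp only [Opens.mem_iSup] at hxt
    obtain ⟨i, hi, hxi⟩ := hxt
    simp only [Set.mem_iUnion]
    exact ⟨i, hi, hxi, hx⟩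
  exact (hs.biUnion (fun i _ => finite_support_affine f k' i.2)).subset hsub

end support

end Groth.Agent.Lib.helper27.Pts3
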