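import Mathlib
import Groth.Prelude.Def_SgaExt
import Groth.Agent.Lib.Helper27.Pts3
import Groth.Agent.Lib.Helper27.PtsBound1
import Groth.Agent.Lib.Helper18.RegPoint

/-!
# Helper library (helper27): `#X(F_{q^e}) ≤ c q^{re}` for a scheme of finite type of dimension `≤ r`
over a finite field.
-/

set_option autoImplicit false
set_option linter.style.haveILetI false
set_option linter.unusedSectionVars false
universe u
open AlgebraicGeometry CategoryTheory Opposite TopologicalSpace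

namespace Groth.Agent.Lib.helper27.PtsBound2

open Groth.Agent.Lib.helper27.Pts1 Groth.Agent.Lib.helper27.Pts2 Groth.Agent.Lib.helper27.Pts3

variable {k₀ : Type u} [Field k₀] [Finite k₀] {X : Scheme.{u}} (f : X ⟶ Spec (CommRingCat.of k₀))
  [LocallyOfFiniteType f]

/-- the evaluation map at a point of an affine open is an epimorphism of rings. -/
theorem evaluation_epi {U : X.Opens} (hU : IsAffineOpen U) (x : X) (hx : x ∈ U) {R : Type*}
    [CommRing R] (j j' : X.residueField x →+* R)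
    (h : j.comp (X.evaluation U x hx).hom = j'.comp (X.evaluation U x hx).hom) : j = j' := by
  letI : Algebra Γ(X, U) (X.presheaf.stalk x) :=
    TopCat.Presheaf.algebra_section_stalk X.presheaf ⟨x, hx⟩
  haveI := hU.isLocalization_stalk ⟨x, hx⟩
  have h1 : (j.comp (X.residue x).hom).comp (algebraMap Γ(X, U) (X.presheaf.stalk x)) =
      (j'.comp (X.residue x).hom).comp (algebraMap Γ(X, U) (X.presheaf.stalk x)) := h
  have h2 := IsLocalization.ringHom_ext (hU.primeIdealOf ⟨x, hx⟩).asIdeal.primeCompl h1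
  exact RingHom.cancel_right (X.residue_surjective x) |>.mp h2

theorem exists_bound_affine {U : X.Opens} (hU : IsAffineOpen U) (r : ℕ)
    (hr : topologicalKrullDim X ≤ r) :
    ∃ N : ℕ, ∀ (k' : Type u) [Field k'] [Algebra k₀ k'] [Finite k'],
      Finite (Σ x : {x : X // x ∈ U}, Emb f k' x.1) ∧
      Nat.card (Σ x : {x : X // x ∈ U}, Emb f k' x.1) ≤
        N * Nat.card k₀ ^ (r * Module.finrank k₀ k') := by
  letI : X.Over (Spec (CommRingCat.of k₀)) := ⟨f⟩
  haveI : LocallyOfFiniteType (X ↘ Spec (CommRingCat.of k₀)) := ‹LocallyOfFiniteType f›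
  letI : Algebra k₀ Γ(X, U) := (Groth.Agent.Lib.helper3.FTField.sec k₀ X U).toAlgebra
  haveI : Algebra.FiniteType k₀ Γ(X, U) := Groth.Agent.Lib.helper3.FTField.sec_finiteType k₀ X hU
  obtain ⟨N, hN⟩ := PtsBound1.exists_bound_algHom k₀ Γ(X, U) r
    ((Groth.Agent.Lib.Helper18.RegPoint.ringKrullDim_sections_le hU).trans hr)
  refine ⟨N, fun k' _ _ _ => ?_⟩
  haveI : Finite (Γ(X, U) →ₐ[k₀] k') := finite_algHom_of_finiteType k₀ Γ(X, U) k'
  have hcomm : ∀ (x : X) (hx : x ∈ U) (ι : Emb f k' x) (a : k₀),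
      (ι.1.hom.comp (X.evaluation U x hx).hom) (algebraMap k₀ Γ(X, U) a) = algebraMap k₀ k' a := by
    intro x hx ι a
    have h1 := congrArg (fun φ => φ.hom a) ι.2
    have h2 := congrArg (fun φ => φ a) (cmap_eq_eval_sec f U x hx)
    change ι.1.hom ((cmap f x).hom a) = algebraMap k₀ k' a at h1
    rw [← h1]
    change ι.1.hom ((X.evaluation U x hx).hom (Groth.Agent.Lib.helper3.FTField.sec k₀ X U a)) = _
    rw [h2]
    rfl
  let Φ : (Σ x : {x : X // x ∈ U}, Emb f k' x.1) → (Γ(X, U) →ₐ[k₀] k') := fun s =>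
    { s.2.1.hom.comp (X.evaluation U s.1.1 s.1.2).hom with commutes' := hcomm s.1.1 s.1.2 s.2 }
  have hΦ : Function.Injective Φ := by
    rintro ⟨⟨x, hx⟩, ι⟩ ⟨⟨x', hx'⟩, ι'⟩ h
    have hr : ι.1.hom.comp (X.evaluation U x hx).hom =
        ι'.1.hom.comp (X.evaluation U x' hx').hom := congrArg (fun ψ : Γ(X, U) →ₐ[k₀] k' =>
          ψ.toRingHom) h
    have hker : (hU.primeIdealOf ⟨x, hx⟩).asIdeal = (hU.primeIdealOf ⟨x', hx'⟩).asIdeal := by
      rw [← ker_evaluation hU x hx, ← ker_evaluation hU x' hx']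
      have e1 : RingHom.ker (ι.1.hom.comp (X.evaluation U x hx).hom) =
          RingHom.ker (X.evaluation U x hx).hom := by
        rw [← RingHom.comap_ker, (RingHom.injective_iff_ker_eq_bot _).mp ι.1.hom.injective,
          RingHom.ker_eq_comap_bot]
      have e2 : RingHom.ker (ι'.1.hom.comp (X.evaluation U x' hx').hom) =
          RingHom.ker (X.evaluation U x' hx').hom := by
        rw [← RingHom.comap_ker, (RingHom.injective_iff_ker_eq_bot _).mp ι'.1.hom.injective,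
          RingHom.ker_eq_comap_bot]
      rw [← e1, ← e2, hr]
    have hxx' : x = x' := by
      have h1 : hU.primeIdealOf ⟨x, hx⟩ = hU.primeIdealOf ⟨x', hx'⟩ := PrimeSpectrum.ext hker
      have h2 := hU.fromSpec_primeIdealOf ⟨x, hx⟩
      rw [h1, hU.fromSpec_primeIdealOf ⟨x', hx'⟩] at h2
      exact h2.symm
    subst hxx'
    have hι : ι.1.hom = ι'.1.hom := evaluation_epi hU x hx _ _ hr
    have hι' : ι = ι' := Subtype.ext (CommRingCat.hom_ext hι)
    rw [hι']
  exact ⟨Finite.of_injective Φ hΦ, (Nat.card_le_card_of_injective Φ hΦ).trans (hN k')⟩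

theorem exists_bound [QuasiCompact f] (r : ℕ) (hr : topologicalKrullDim X ≤ r) :
    ∃ c : ℕ, ∀ (k' : Type u) [Field k'] [Algebra k₀ k'] [Finite k'],
      SgaExt.pointCount f k' ≤ c * Nat.card k₀ ^ (r * Module.finrank k₀ k') := by
  classical
  haveI : CompactSpace X := QuasiCompact.compactSpace_of_compactSpace f
  have hc : IsCompact ((⊤ : X.Opens) : Set X) := by
    rw [Opens.coe_top]
    exact isCompact_univ
  obtain ⟨s, hs, hU⟩ := (isCompact_iff_finite_and_eq_biUnion_affineOpens (U := (⊤ : X.Opens))).mp hc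
  haveI : Fintype s := hs.fintype
  have hex : ∀ i : s, ∃ N : ℕ, ∀ (k' : Type u) [Field k'] [Algebra k₀ k'] [Finite k'],
      Finite (Σ x : {x : X // x ∈ (i.1 : X.Opens)}, Emb f k' x.1) ∧
      Nat.card (Σ x : {x : X // x ∈ (i.1 : X.Opens)}, Emb f k' x.1) ≤
        N * Nat.card k₀ ^ (r * Module.finrank k₀ k') :=
    fun i => exists_bound_affine f i.1.2 r hr
  choose N hN using hex
  refine ⟨∑ i : s, N i, fun k' _ _ _ => ?_⟩
  have hcov : ∀ x : X, ∃ i : s, x ∈ (i.1 : X.Opens) := by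
    intro x
    have hxt : x ∈ (⊤ : X.Opens) := trivial
    rw [hU] at hxt
    simp only [Opens.mem_iSup] at hxt
    obtain ⟨i, hi, hxi⟩ := hxt
    exact ⟨⟨i, hi⟩, hxi⟩
  choose idx hidx using hcov
  haveI : ∀ i : s, Finite (Σ x : {x : X // x ∈ (i.1 : X.Opens)}, Emb f k' x.1) :=
    fun i => (hN i k').1
  let Ψ : (Σ x : X, Emb f k' x) →
      Σ i : s, Σ x : {x : X // x ∈ (i.1 : X.Opens)}, Emb f k' x.1 :=
    fun σ => ⟨idx σ.1, ⟨σ.1, hidx σ.1⟩, σ.2⟩
  have hΨ : Function.Injective Ψ := by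
    rintro ⟨x, ι⟩ ⟨x', ι'⟩ h
    have h1 : x = x' := by
      have := congrArg (fun τ : (Σ i : s, Σ x : {x : X // x ∈ (i.1 : X.Opens)}, Emb f k' x.1) =>
        τ.2.1.1) h
      exact this
    subst h1
    have h2 : HEq (Ψ ⟨x, ι⟩).2 (Ψ ⟨x, ι'⟩).2 := (Sigma.mk.inj h).2
    have h3 : (Ψ ⟨x, ι⟩).2 = (Ψ ⟨x, ι'⟩).2 := eq_of_heq h2
    have h4 : HEq ι ι' := (Sigma.mk.inj h3).2
    rw [eq_of_heq h4]
  rw [pointCount_eq]
  calc Nat.card (Σ x : X, Emb f k' x)
      ≤ Nat.card (Σ i : s, Σ x : {x : X // x ∈ (i.1 : X.Opens)}, Emb f k' x.1) :=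
        Nat.card_le_card_of_injective Ψ hΨ
    _ = ∑ i : s, Nat.card (Σ x : {x : X // x ∈ (i.1 : X.Opens)}, Emb f k' x.1) :=
        Nat.card_sigma
    _ ≤ ∑ i : s, N i * Nat.card k₀ ^ (r * Module.finrank k₀ k') :=
        Finset.sum_le_sum (fun i _ => (hN i k').2)
    _ = (∑ i : s, N i) * Nat.card k₀ ^ (r * Module.finrank k₀ k') := by
        rw [Finset.sum_mul]

end Groth.Agent.Lib.helper27.PtsBound2
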