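import Mathlib
import Groth.Agent.Lib.Helper27.IntNN4
import Groth.Agent.Lib.Helper27.PtsBound2
import Groth.Agent.Lib.Helper18.RegPoint

/-!
# Helper library (helper27): uniform bound for the number of points of an arithmetic scheme in
finite fields.
-/

set_option autoImplicit false
set_option linter.style.haveILetI false
set_option linter.unusedSectionVars false
universe u
open AlgebraicGeometry CategoryTheory Opposite TopologicalSpace Limits

namespace Groth.Agent.Lib.helper27.IntNN5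

open Groth.Agent.Lib.helper27.IntNN4 Groth.Agent.Lib.helper27.Pts3

variable {X : Scheme.{u}}

/-- points of an affine open with values in a field inject into the ring homomorphisms from the
ring of sections. -/
theorem card_affine_le {U : X.Opens} (hU : IsAffineOpen U) (F : Type u) [Field F]
    [Finite (Γ(X, U) →+* F)] :
    Finite (Σ x : {x : X // x ∈ U}, (X.residueField x.1 ⟶ CommRingCat.of F)) ∧
    Nat.card (Σ x : {x : X // x ∈ U}, (X.residueField x.1 ⟶ CommRingCat.of F)) ≤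
      Nat.card (Γ(X, U) →+* F) := by
  let Φ : (Σ x : {x : X // x ∈ U}, (X.residueField x.1 ⟶ CommRingCat.of F)) → (Γ(X, U) →+* F) :=
    fun s => s.2.hom.comp (X.evaluation U s.1.1 s.1.2).hom
  have hΦ : Function.Injective Φ := by
    rintro ⟨⟨x, hx⟩, ι⟩ ⟨⟨x', hx'⟩, ι'⟩ h
    have hr : ι.hom.comp (X.evaluation U x hx).hom =
        ι'.hom.comp (X.evaluation U x' hx').hom := h
    have hker : (hU.primeIdealOf ⟨x, hx⟩).asIdeal = (hU.primeIdealOf ⟨x', hx'⟩).asIdeal := by
      rw [← ker_evaluation hU x hx, ← ker_evaluation hU x' hx']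
      have e1 : RingHom.ker (ι.hom.comp (X.evaluation U x hx).hom) =
          RingHom.ker (X.evaluation U x hx).hom := by
        rw [← RingHom.comap_ker, (RingHom.injective_iff_ker_eq_bot _).mp ι.hom.injective,
          RingHom.ker_eq_comap_bot]
      have e2 : RingHom.ker (ι'.hom.comp (X.evaluation U x' hx').hom) =
          RingHom.ker (X.evaluation U x' hx').hom := by
        rw [← RingHom.comap_ker, (RingHom.injective_iff_ker_eq_bot _).mp ι'.hom.injective,
          RingHom.ker_eq_comap_bot]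
      rw [← e1, ← e2, hr]
    have hxx' : x = x' := by
      have h1 : hU.primeIdealOf ⟨x, hx⟩ = hU.primeIdealOf ⟨x', hx'⟩ := PrimeSpectrum.ext hker
      have h2 := hU.fromSpec_primeIdealOf ⟨x, hx⟩
      rw [h1, hU.fromSpec_primeIdealOf ⟨x', hx'⟩] at h2
      exact h2.symm
    subst hxx'
    have hι : ι.hom = ι'.hom := PtsBound2.evaluation_epi hU x hx _ _ hr
    have hι' : ι = ι' := CommRingCat.hom_ext hι
    rw [hι']
  exact ⟨Finite.of_injective Φ hΦ, Nat.card_le_card_of_injective Φ hΦ⟩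

theorem exists_bound (f : X ⟶ Spec (CommRingCat.of (ULift.{u} ℤ))) [LocallyOfFiniteType f]
    [QuasiCompact f] (r : ℕ) (hr : topologicalKrullDim X ≤ r) :
    ∃ c p₀ : ℕ, ∀ (F : Type u) [Field F] [Finite F],
      Nat.card (Spec (CommRingCat.of F) ⟶ X) ≤ c * Nat.card F ^ r ∧
      (p₀ ≤ ringChar F →
        Nat.card (Spec (CommRingCat.of F) ⟶ X) * Nat.card F ≤ c * Nat.card F ^ r) := by
  classical
  haveI : LocallyOfFiniteType (IsTerminal.from specULiftZIsTerminal X) := by
    have : IsTerminal.from specULiftZIsTerminal X = f := specULiftZIsTerminal.hom_ext _ _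
    rw [this]
    infer_instance
  haveI : CompactSpace X := QuasiCompact.compactSpace_of_compactSpace f
  have hc : IsCompact ((⊤ : X.Opens) : Set X) := by
    rw [Opens.coe_top]
    exact isCompact_univ
  obtain ⟨s, hs, hU⟩ := (isCompact_iff_finite_and_eq_biUnion_affineOpens (U := (⊤ : X.Opens))).mp hc
  haveI : Fintype s := hs.fintype
  haveI hft : ∀ i : s, Algebra.FiniteType ℤ Γ(X, (i.1 : X.Opens)) := fun i =>
    Groth.Agent.Lib.helper4.FiniteTypeZ.finiteType_int_of_isAffineOpen X i.1.2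
  have hgood : ∀ i : s, Good Γ(X, (i.1 : X.Opens)) r := fun i =>
    good r _ ((Groth.Agent.Lib.Helper18.RegPoint.ringKrullDim_sections_le i.1.2).trans hr)
  choose c p₀ hcp using hgood
  refine ⟨∑ i : s, c i, Finset.univ.sup p₀, fun F _ _ => ?_⟩
  haveI : ∀ i : s, Finite (Γ(X, (i.1 : X.Opens)) →+* F) := fun i =>
    Groth.Agent.Lib.helper4.FiniteTypeZ.finite_ringHom_of_finiteType _ _
  have hcov : ∀ x : X, ∃ i : s, x ∈ (i.1 : X.Opens) := by
    intro x
    have hxt : x ∈ (⊤ : X.Opens) := trivial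
    rw [hU] at hxt
    simp only [Opens.mem_iSup] at hxt
    obtain ⟨i, hi, hxi⟩ := hxt
    exact ⟨⟨i, hi⟩, hxi⟩
  choose idx hidx using hcov
  haveI : ∀ i : s, Finite (Σ x : {x : X // x ∈ (i.1 : X.Opens)},
      (X.residueField x.1 ⟶ CommRingCat.of F)) := fun i => (card_affine_le i.1.2 F).1
  let Ψ : (Σ x : X, (X.residueField x ⟶ CommRingCat.of F)) →
      Σ i : s, Σ x : {x : X // x ∈ (i.1 : X.Opens)}, (X.residueField x.1 ⟶ CommRingCat.of F) :=
    fun σ => ⟨idx σ.1, ⟨σ.1, hidx σ.1⟩, σ.2⟩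
  have hΨ : Function.Injective Ψ := by
    rintro ⟨x, ι⟩ ⟨x', ι'⟩ h
    have h1 : x = x' := by
      have := congrArg (fun τ : (Σ i : s, Σ x : {x : X // x ∈ (i.1 : X.Opens)},
        (X.residueField x.1 ⟶ CommRingCat.of F)) => τ.2.1.1) h
      exact this
    subst h1
    have h2 : HEq (Ψ ⟨x, ι⟩).2 (Ψ ⟨x, ι'⟩).2 := (Sigma.mk.inj h).2
    have h3 : (Ψ ⟨x, ι⟩).2 = (Ψ ⟨x, ι'⟩).2 := eq_of_heq h2
    have h4 : HEq ι ι' := (Sigma.mk.inj h3).2
    rw [eq_of_heq h4]
  have hsum : Nat.card (Spec (CommRingCat.of F) ⟶ X) ≤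
      ∑ i : s, Nat.card (Γ(X, (i.1 : X.Opens)) →+* F) := by
    rw [Nat.card_congr (Scheme.SpecToEquivOfField F X)]
    calc Nat.card (Σ x : X, (X.residueField x ⟶ CommRingCat.of F))
        ≤ Nat.card (Σ i : s, Σ x : {x : X // x ∈ (i.1 : X.Opens)},
            (X.residueField x.1 ⟶ CommRingCat.of F)) := Nat.card_le_card_of_injective Ψ hΨ
      _ = ∑ i : s, Nat.card (Σ x : {x : X // x ∈ (i.1 : X.Opens)},
            (X.residueField x.1 ⟶ CommRingCat.of F)) := Nat.card_sigma
      _ ≤ ∑ i : s, Nat.card (Γ(X, (i.1 : X.Opens)) →+* F) :=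
          Finset.sum_le_sum fun i _ => (card_affine_le i.1.2 F).2
  constructor
  · calc Nat.card (Spec (CommRingCat.of F) ⟶ X)
        ≤ ∑ i : s, Nat.card (Γ(X, (i.1 : X.Opens)) →+* F) := hsum
      _ ≤ ∑ i : s, c i * Nat.card F ^ r := Finset.sum_le_sum fun i _ => (hcp i F).1
      _ = (∑ i : s, c i) * Nat.card F ^ r := by rw [Finset.sum_mul]
  · intro hp
    calc Nat.card (Spec (CommRingCat.of F) ⟶ X) * Nat.card F
        ≤ (∑ i : s, Nat.card (Γ(X, (i.1 : X.Opens)) →+* F)) * Nat.card F :=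
          Nat.mul_le_mul_right _ hsum
      _ = ∑ i : s, Nat.card (Γ(X, (i.1 : X.Opens)) →+* F) * Nat.card F := Finset.sum_mul _ _ _
      _ ≤ ∑ i : s, c i * Nat.card F ^ r := Finset.sum_le_sum fun i _ =>
          (hcp i F).2 ((Finset.le_sup (Finset.mem_univ i)).trans hp)
      _ = (∑ i : s, c i) * Nat.card F ^ r := by rw [Finset.sum_mul]

end Groth.Agent.Lib.helper27.IntNN5
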