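import Mathlib
import Groth.Agent.Lib.Helper27.IntNN5

/-!
# Helper library (helper27): the trivial Lang–Weil bound for arithmetic schemes, in the form of the
statement `Zeta.exists_card_points_le_of_finiteType_int`.
-/

set_option autoImplicit false
set_option linter.style.haveILetI false
set_option linter.unusedSectionVars false
universe u
open AlgebraicGeometry CategoryTheory Opposite TopologicalSpace Limits

namespace Groth.Agent.Lib.helper27.IntNN6

theorem ringChar_eq_of_card (F : Type u) [Field F] [Finite F] (p m : ℕ) (hp : p.Prime)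
    (hm : 1 ≤ m) (hF : Nat.card F = p ^ m) : ringChar F = p := by
  haveI := Fintype.ofFinite F
  haveI := ringChar.charP F
  obtain ⟨n, hq, hn⟩ := FiniteField.card F (ringChar F)
  rw [← Nat.card_eq_fintype_card, hF] at hn
  have h1 : p ∣ ringChar F ^ (n : ℕ) := hn ▸ dvd_pow_self p (by omega)
  exact ((Nat.prime_dvd_prime_iff_eq hp hq).mp (hp.dvd_of_dvd_pow h1)).symm

theorem main {X : Scheme.{u}} (f : X ⟶ Spec (CommRingCat.of (ULift.{u} ℤ)))
    [LocallyOfFiniteType f] [QuasiCompact f] (r : ℕ) (hr : topologicalKrullDim X ≤ r) :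
    ∃ (c : ℝ) (p₀ : ℕ), 0 < c ∧ ∀ (p m : ℕ), p.Prime → 1 ≤ m →
      ∀ (F : Type u) [Field F], Nat.card F = p ^ m →
        (p₀ ≤ p → (Nat.card (Spec (CommRingCat.of F) ⟶ X) : ℝ) ≤
            c * (p : ℝ) ^ ((m : ℝ) * ((r : ℝ) - 1))) ∧
        (p < p₀ → (Nat.card (Spec (CommRingCat.of F) ⟶ X) : ℝ) ≤ c * (p : ℝ) ^ ((m : ℝ) * r)) := by
  obtain ⟨c, p₀, h⟩ := IntNN5.exists_bound f r hr
  refine ⟨(c : ℝ) + 1, p₀, by positivity, fun p m hp hm F _ hF => ?_⟩
  haveI : Finite F := Nat.finite_of_card_ne_zero (by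
    rw [hF]
    exact pow_ne_zero _ hp.ne_zero)
  have hchar : ringChar F = p := ringChar_eq_of_card F p m hp hm hF
  obtain ⟨h1, h2⟩ := h F
  have hpos : (0 : ℝ) < p := by exact_mod_cast hp.pos
  have hpow : (p : ℝ) ^ ((m : ℝ) * r) = ((p : ℝ) ^ m) ^ r := by
    rw [Real.rpow_mul hpos.le, Real.rpow_natCast, Real.rpow_natCast]
  have hc1 : (c : ℝ) ≤ (c : ℝ) + 1 := by linarith
  have hnn : (0 : ℝ) ≤ ((p : ℝ) ^ m) ^ r := by positivity
  constructor
  · intro hp0
    have h2' := h2 (hchar ▸ hp0)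
    rw [hF] at h2'
    have h3 : (Nat.card (Spec (CommRingCat.of F) ⟶ X) : ℝ) * (p : ℝ) ^ m ≤
        c * ((p : ℝ) ^ m) ^ r := by exact_mod_cast h2'
    have e : (p : ℝ) ^ ((m : ℝ) * ((r : ℝ) - 1)) = ((p : ℝ) ^ m) ^ r / (p : ℝ) ^ m := by
      rw [mul_sub, mul_one, Real.rpow_sub hpos, hpow, Real.rpow_natCast]
    rw [e, ← mul_div_assoc, le_div_iff₀ (by positivity)]
    exact h3.trans (mul_le_mul_of_nonneg_right hc1 hnn)
  · intro _
    rw [hpow]
    rw [hF] at h1
    have h3 : (Nat.card (Spec (CommRingCat.of F) ⟶ X) : ℝ) ≤ c * ((p : ℝ) ^ m) ^ r := by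
      exact_mod_cast h1
    exact h3.trans (mul_le_mul_of_nonneg_right hc1 hnn)

end Groth.Agent.Lib.helper27.IntNN6
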