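import Mathlib
import Groth.Prelude.Def_W4c1zetahwZeta
import Groth.Agent.Lib.Helper27.ArithZ3
import Groth.Agent.Lib.Helper27.ArithZ4
import Groth.Agent.Lib.Helper27.IntNN6
import Groth.Agent.Lib.Helper27.Pts2
import Groth.Agent.Lib.Helper4.FiniteTypeZ

/-!
# Helper library (helper27): closed points of an arithmetic scheme, their norms, and the count of
points with values in a finite field.
-/

set_option autoImplicit false
set_option linter.style.haveILetI false
set_option linter.unusedSectionVars false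
universe u
open AlgebraicGeometry CategoryTheory Opposite TopologicalSpace Limits

namespace Groth.Agent.Lib.helper27.ArithZ5

open Groth.Agent.Lib.helper27 Groth.Agent.Lib.helper4.FiniteTypeZ

/-- the number of ring homomorphisms between finite fields of the same characteristic. -/
theorem card_ringHom_of_card (κ F : Type u) [Field κ] [Field F] [Finite κ] [Finite F]
    (p e m : ℕ) (hp : p.Prime) (he : 1 ≤ e) (hm : 1 ≤ m) (hκ : Nat.card κ = p ^ e)
    (hF : Nat.card F = p ^ m) (hem : e ∣ m) : Nat.card (κ →+* F) = e := by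
  haveI : Fact p.Prime := ⟨hp⟩
  haveI : CharP κ p := ringChar.of_eq (IntNN6.ringChar_eq_of_card κ p e hp he hκ)
  haveI : CharP F p := ringChar.of_eq (IntNN6.ringChar_eq_of_card F p m hp hm hF)
  letI : Algebra (ZMod p) κ := ZMod.algebra _ _
  letI : Algebra (ZMod p) F := ZMod.algebra _ _
  have h1 : Module.finrank (ZMod p) κ = e :=
    Nat.pow_right_injective hp.two_le (by
      change p ^ Module.finrank (ZMod p) κ = p ^ e
      rw [FiniteField.pow_finrank_eq_natCard, hκ])
  have h2 : Module.finrank (ZMod p) F = m :=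
    Nat.pow_right_injective hp.two_le (by
      change p ^ Module.finrank (ZMod p) F = p ^ m
      rw [FiniteField.pow_finrank_eq_natCard, hF])
  haveI : FiniteDimensional (ZMod p) κ := Module.Finite.of_finite
  let E : (κ →+* F) ≃ (κ →ₐ[ZMod p] F) :=
    { toFun := fun φ => { φ with
        commutes' := fun a => RingHom.congr_fun
          (Subsingleton.elim (φ.comp (algebraMap (ZMod p) κ)) (algebraMap (ZMod p) F)) a }
      invFun := fun ψ => ψ.toRingHom
      left_inv := fun φ => rfl
      right_inv := fun ψ => rfl }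
  rw [Nat.card_congr E, Pts2.card_algHom_of_dvd (ZMod p) κ F (by rw [h1, h2]; exact hem), h1]

variable (X : Scheme.{u})

/-- the norm of a point. -/
noncomputable def Nm (x : X) : ℕ := Nat.card (X.residueField x)

/-- the set of closed points. -/
def Cl : Set X := {x | IsClosed ({x} : Set X)}

theorem cycleNormCount_eq (n : ℕ) :
    Zeta.cycleNormCount X n =
      Nat.card {α : X →₀ ℕ // (∀ x ∈ α.support, x ∈ Cl X) ∧ ArithZ4.nrm (Nm X) α = n} := rfl

/-- the number of closed points of norm `p ^ e`. -/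
noncomputable def bp (p e : ℕ) : ℕ :=
  Nat.card {x : X // x ∈ ArithZ4.Cp (Nm X) (Cl X) p ∧ ArithZ4.wp (Nm X) p x = e}

variable [LocallyOfFiniteType (IsTerminal.from specULiftZIsTerminal X)]

theorem finite_of_mem_Cl (x : X) (hx : x ∈ Cl X) : Finite (X.residueField x) :=
  (isClosed_singleton_iff_finite_residueField X x).mp hx

theorem isPrimePow_Nm (x : X) (hx : x ∈ Cl X) : IsPrimePow (Nm X x) := by
  haveI : Finite (X.residueField x) := finite_of_mem_Cl X x hx
  haveI := Fintype.ofFinite (X.residueField x)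
  rw [Nm, Nat.card_eq_fintype_card]
  exact Fintype.isPrimePow_card_of_field

variable [CompactSpace X]

theorem finite_level (p : ℕ) (hp : p.Prime) (e : ℕ) (he : 1 ≤ e) :
    {x | x ∈ ArithZ4.Cp (Nm X) (Cl X) p ∧ ArithZ4.wp (Nm X) p x = e}.Finite := by
  haveI : Fact p.Prime := ⟨hp⟩
  refine (finite_setOf_hom_finite_field X (GaloisField p e)).subset ?_
  rintro x ⟨hx, hwx⟩
  obtain ⟨hN, _⟩ := ArithZ4.N_eq_pow_wp (Nm X) (Cl X) p hp x hx
  haveI : Finite (X.residueField x) := finite_of_mem_Cl X x hx.1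
  haveI := Fintype.ofFinite (X.residueField x)
  haveI := Fintype.ofFinite (GaloisField p e)
  have hcard : Fintype.card (X.residueField x) = Fintype.card (GaloisField p e) := by
    rw [← Nat.card_eq_fintype_card, ← Nat.card_eq_fintype_card, GaloisField.card p e (by omega),
      ← hwx]
    exact hN
  exact ⟨(FiniteField.ringEquivOfCardEq hcard).toRingHom⟩

theorem finite_pts (F : Type u) [Field F] [Finite F] :
    Finite (Σ x : X, (X.residueField x ⟶ CommRingCat.of F)) := by
  have hS := finite_setOf_hom_finite_field X F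
  haveI : Finite {y : X // Nonempty (X.residueField y →+* F)} := hS.to_subtype
  haveI : ∀ y : {y : X // Nonempty (X.residueField y →+* F)},
      Finite (X.residueField y.1 ⟶ CommRingCat.of F) := by
    intro y
    obtain ⟨φ⟩ := y.2
    haveI : Finite (X.residueField y.1) := Finite.of_injective φ φ.injective
    refine Finite.of_injective (fun ψ => (ψ.hom : X.residueField y.1 → F)) ?_
    intro a b h
    ext x
    exact congrFun h x
  refine Finite.of_injective
    (β := Σ y : {y : X // Nonempty (X.residueField y →+* F)},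
      (X.residueField y.1 ⟶ CommRingCat.of F))
    (fun t => ⟨⟨t.1, ⟨t.2.hom⟩⟩, t.2⟩) ?_
  rintro ⟨x, φ⟩ ⟨x', φ'⟩ h
  have h1 : x = x' := congrArg (fun τ : (Σ y : {y : X // Nonempty (X.residueField y →+* F)},
      (X.residueField y.1 ⟶ CommRingCat.of F)) => τ.1.1) h
  subst h1
  have h2 : HEq φ φ' := (Sigma.mk.inj h).2
  rw [eq_of_heq h2]

theorem card_hom (p : ℕ) (hp : p.Prime) (m : ℕ) (hm : 1 ≤ m) (F : Type u) [Field F] [Finite F]
    (hF : Nat.card F = p ^ m) (x : X) (hx : x ∈ ArithZ4.Cp (Nm X) (Cl X) p)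
    (hxm : ArithZ4.wp (Nm X) p x ∣ m) :
    Nat.card (X.residueField x ⟶ CommRingCat.of F) = ArithZ4.wp (Nm X) p x := by
  obtain ⟨hN, hw⟩ := ArithZ4.N_eq_pow_wp (Nm X) (Cl X) p hp x hx
  haveI : Finite (X.residueField x) := finite_of_mem_Cl X x hx.1
  have e : (X.residueField x ⟶ CommRingCat.of F) ≃ (X.residueField x →+* F) :=
    ⟨fun φ => φ.hom, fun g => CommRingCat.ofHom g, fun _ => rfl, fun _ => rfl⟩
  rw [Nat.card_congr e]
  exact card_ringHom_of_card (X.residueField x) F p _ m hp hw hm hN hF hxm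

theorem Npts_le (p : ℕ) (hp : p.Prime) (m : ℕ) (hm : 1 ≤ m) (F : Type u) [Field F] [Finite F]
    (hF : Nat.card F = p ^ m) :
    ArithZ3.Npts (bp X p) m ≤ Nat.card (Spec (CommRingCat.of F) ⟶ X) := by
  classical
  rw [Nat.card_congr (Scheme.SpecToEquivOfField F X)]
  haveI := finite_pts X F
  have hpos : ∀ e : {e // e ∈ m.divisors}, 1 ≤ e.1 := fun e =>
    Nat.pos_of_mem_divisors e.2
  have hdvd : ∀ e : {e // e ∈ m.divisors}, e.1 ∣ m := fun e => Nat.dvd_of_mem_divisors e.2
  haveI hLfin : ∀ e : {e // e ∈ m.divisors},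
      Finite {x : X // x ∈ ArithZ4.Cp (Nm X) (Cl X) p ∧ ArithZ4.wp (Nm X) p x = e.1} := fun e =>
    (finite_level X p hp e.1 (hpos e)).to_subtype
  have hHom : ∀ (e : {e // e ∈ m.divisors})
      (x : {x : X // x ∈ ArithZ4.Cp (Nm X) (Cl X) p ∧ ArithZ4.wp (Nm X) p x = e.1}),
      Nat.card (X.residueField x.1 ⟶ CommRingCat.of F) = e.1 := by
    intro e x
    rw [card_hom X p hp m hm F hF x.1 x.2.1 (by rw [x.2.2]; exact hdvd e), x.2.2]
  haveI hHomfin : ∀ (e : {e // e ∈ m.divisors})
      (x : {x : X // x ∈ ArithZ4.Cp (Nm X) (Cl X) p ∧ ArithZ4.wp (Nm X) p x = e.1}),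
      Finite (X.residueField x.1 ⟶ CommRingCat.of F) := by
    intro e x
    refine Nat.finite_of_card_ne_zero ?_
    rw [hHom e x]
    have := hpos e
    omega
  let Ψ : (Σ e : {e // e ∈ m.divisors},
      Σ x : {x : X // x ∈ ArithZ4.Cp (Nm X) (Cl X) p ∧ ArithZ4.wp (Nm X) p x = e.1},
        (X.residueField x.1 ⟶ CommRingCat.of F)) →
      Σ x : X, (X.residueField x ⟶ CommRingCat.of F) := fun t => ⟨t.2.1.1, t.2.2⟩
  have hΨ : Function.Injective Ψ := by
    rintro ⟨e, ⟨x, hx⟩, φ⟩ ⟨e', ⟨x', hx'⟩, φ'⟩ h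
    have h1 : x = x' := congrArg (fun τ : (Σ x : X, (X.residueField x ⟶ CommRingCat.of F)) =>
      τ.1) h
    subst h1
    have h2 : e = e' := Subtype.ext (hx.2.symm.trans hx'.2)
    subst h2
    have h3 : HEq φ φ' := (Sigma.mk.inj h).2
    rw [eq_of_heq h3]
  calc ArithZ3.Npts (bp X p) m
      = ∑ e : {e // e ∈ m.divisors}, e.1 * bp X p e.1 := by
        rw [ArithZ3.Npts, ← Finset.sum_coe_sort m.divisors (fun e => e * bp X p e)]
    _ = ∑ e : {e // e ∈ m.divisors}, Nat.card
          (Σ x : {x : X // x ∈ ArithZ4.Cp (Nm X) (Cl X) p ∧ ArithZ4.wp (Nm X) p x = e.1},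
            (X.residueField x.1 ⟶ CommRingCat.of F)) := by
        refine Finset.sum_congr rfl fun e _ => ?_
        haveI := Fintype.ofFinite
          {x : X // x ∈ ArithZ4.Cp (Nm X) (Cl X) p ∧ ArithZ4.wp (Nm X) p x = e.1}
        rw [Nat.card_sigma, Finset.sum_congr rfl (fun x _ => hHom e x), Finset.sum_const,
          Finset.card_univ, smul_eq_mul, bp, Nat.card_eq_fintype_card, mul_comm]
    _ = Nat.card (Σ e : {e // e ∈ m.divisors},
          Σ x : {x : X // x ∈ ArithZ4.Cp (Nm X) (Cl X) p ∧ ArithZ4.wp (Nm X) p x = e.1},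
            (X.residueField x.1 ⟶ CommRingCat.of F)) := Nat.card_sigma.symm
    _ ≤ _ := Nat.card_le_card_of_injective Ψ hΨ

end Groth.Agent.Lib.helper27.ArithZ5
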