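import Mathlib
import Groth.Prelude.Def_W4c1zetahwZeta
import Groth.Agent.Lib.Helper27.ArithZ2
import Groth.Agent.Lib.Helper27.ArithZ5
import Groth.Agent.Lib.Helper27.IntNN5
import Groth.Agent.Lib.Helper27.ZetaDir1

/-!
# Helper library (helper27): the Dirichlet series of an arithmetic scheme converges absolutely and
does not vanish for `Re s > dim`.
-/

set_option autoImplicit false
set_option linter.style.haveILetI false
set_option linter.unusedSectionVars false
universe u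
open AlgebraicGeometry CategoryTheory Opposite TopologicalSpace Limits

namespace Groth.Agent.Lib.helper27.ArithZ6

open Groth.Agent.Lib.helper27 Groth.Agent.Lib.helper11 PowerSeries ArithZ5

theorem main {X : Scheme.{u}} (f : X ⟶ Spec (CommRingCat.of (ULift.{u} ℤ)))
    [LocallyOfFiniteType f] [QuasiCompact f] (r : ℕ) (hr : topologicalKrullDim X ≤ r) :
    LSeries.abscissaOfAbsConv (Zeta.arithCoeff X) ≤ (r : ℝ) ∧
      ∀ s : ℂ, (r : ℝ) < s.re → LSeries (Zeta.arithCoeff X) s ≠ 0 := by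
  classical
  haveI : LocallyOfFiniteType (IsTerminal.from specULiftZIsTerminal X) := by
    have : IsTerminal.from specULiftZIsTerminal X = f := specULiftZIsTerminal.hom_ext _ _
    rw [this]
    infer_instance
  haveI : CompactSpace X := QuasiCompact.compactSpace_of_compactSpace f
  obtain ⟨c, p₀, hc⟩ := IntNN5.exists_bound f r hr
  have hNP : ∀ x ∈ Cl X, IsPrimePow (Nm X x) := isPrimePow_Nm X
  -- bound for the number of points
  have hN1 : ∀ p, p.Prime → ∀ m, 1 ≤ m → ArithZ3.Npts (bp X p) m ≤ c * (p ^ m) ^ r ∧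
      (p₀ ≤ p → ArithZ3.Npts (bp X p) m * p ^ m ≤ c * (p ^ m) ^ r) := by
    intro p hp m hm
    haveI : Fact p.Prime := ⟨hp⟩
    have hcard : Nat.card (ULift.{u} (GaloisField p m)) = p ^ m := by
      rw [Nat.card_congr Equiv.ulift, GaloisField.card p m (by omega)]
    have hle := Npts_le X p hp m hm (ULift.{u} (GaloisField p m)) hcard
    obtain ⟨h1, h2⟩ := hc (ULift.{u} (GaloisField p m))
    rw [hcard] at h1 h2
    refine ⟨hle.trans h1, fun hp0 => ?_⟩
    rw [IntNN6.ringChar_eq_of_card _ p m hp hm hcard] at h2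
    exact (Nat.mul_le_mul_right _ hle).trans (h2 hp0)
  let Qq : ℕ → ℚ := fun p => if p₀ ≤ p then (p : ℚ) ^ r / p else (p : ℚ) ^ r
  have hQq0 : ∀ p, 0 ≤ Qq p := by
    intro p
    simp only [Qq]
    split_ifs <;> positivity
  have hg0 : ∀ p, constantCoeff (ArithZ3.logZ (bp X p)) = 0 := fun p =>
    ArithZ3.constantCoeff_logZ _
  have hg0' : ∀ p, constantCoeff (-ArithZ3.logZ (bp X p)) = 0 := by
    intro p
    rw [map_neg, hg0, neg_zero]
  have hbound : ∀ p, p.Prime → ∀ m : ℕ, 1 ≤ m →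
      |coeff m (ArithZ3.logZ (bp X p)) * m| ≤ c * (Qq p) ^ m := by
    intro p hp m hm
    have hm0 : (m : ℚ) ≠ 0 := by
      have : m ≠ 0 := by omega
      exact_mod_cast this
    rw [ArithZ3.logZ, coeff_mk, div_mul_cancel₀ _ hm0, abs_of_nonneg (by positivity)]
    obtain ⟨h1, h2⟩ := hN1 p hp m hm
    have hpq : (0 : ℚ) < (p : ℚ) := by exact_mod_cast hp.pos
    have hpow : ((p : ℚ) ^ r) ^ m = ((p : ℚ) ^ m) ^ r := by
      rw [← pow_mul, mul_comm r m, pow_mul]
    simp only [Qq]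
    split_ifs with hp0
    · have h2' := h2 hp0
      rw [div_pow, ← mul_div_assoc, le_div_iff₀ (by positivity), hpow]
      have : ((ArithZ3.Npts (bp X p) m * p ^ m : ℕ) : ℚ) ≤ ((c * (p ^ m) ^ r : ℕ) : ℚ) := by
        exact_mod_cast h2'
      push_cast at this
      exact this
    · rw [hpow]
      have : ((ArithZ3.Npts (bp X p) m : ℕ) : ℚ) ≤ ((c * (p ^ m) ^ r : ℕ) : ℚ) := by
        exact_mod_cast h1
      push_cast at this
      exact this
  have hbound' : ∀ p, p.Prime → ∀ m : ℕ, 1 ≤ m →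
      |coeff m (-ArithZ3.logZ (bp X p)) * m| ≤ c * (Qq p) ^ m := by
    intro p hp m hm
    rw [map_neg, neg_mul, abs_neg]
    exact hbound p hp m hm
  have hZb := fun p (hp : p.Prime) =>
    ZetaDir1.abs_coeff_E_le_pow (hg0 p) c (Qq p) (hQq0 p) (hbound p hp)
  have hWb := fun p (hp : p.Prime) =>
    ZetaDir1.abs_coeff_E_le_pow (hg0' p) c (Qq p) (hQq0 p) (hbound' p hp)
  let A : ℕ → ℕ → ℂ := fun p d => ((coeff d (E (ArithZ3.logZ (bp X p))) : ℚ) : ℂ)
  let B : ℕ → ℕ → ℂ := fun p d => ((coeff d (E (-ArithZ3.logZ (bp X p))) : ℚ) : ℂ)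
  let Q : ℕ → ℝ := fun p => ((Qq p : ℚ) : ℝ)
  have hQ0 : ∀ p, 0 ≤ Q p := by
    intro p
    change (0 : ℝ) ≤ ((Qq p : ℚ) : ℝ)
    exact_mod_cast hQq0 p
  have hQ1 : ∀ p, p.Prime → Q p ≤ (p : ℝ) ^ r := by
    intro p hp
    have h : Qq p ≤ (p : ℚ) ^ r := by
      simp only [Qq]
      split_ifs with hp0
      · exact div_le_self (by positivity) (by exact_mod_cast hp.one_lt.le)
      · exact le_rfl
    change ((Qq p : ℚ) : ℝ) ≤ _
    have : ((Qq p : ℚ) : ℝ) ≤ (((p : ℚ) ^ r : ℚ) : ℝ) := by exact_mod_cast h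
    push_cast at this
    exact this
  have hQ2 : ∀ p, p.Prime → p₀ ≤ p → Q p * p ≤ (p : ℝ) ^ r := by
    intro p hp hp0
    have hpq : (p : ℚ) ≠ 0 := by exact_mod_cast hp.ne_zero
    have h : Qq p * p = (p : ℚ) ^ r := by
      simp only [Qq]
      rw [if_pos hp0, div_mul_cancel₀ _ hpq]
    change ((Qq p : ℚ) : ℝ) * p ≤ _
    have : ((Qq p * p : ℚ) : ℝ) = (((p : ℚ) ^ r : ℚ) : ℝ) := by rw [h]
    push_cast at this
    rw [this]
  have hbA : ∀ p, p.Prime → ∀ d, ‖A p d‖ ≤ ((d : ℝ) + 1) ^ c * (Q p) ^ d := by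
    intro p hp d
    change ‖((coeff d (E (ArithZ3.logZ (bp X p))) : ℚ) : ℂ)‖ ≤ _ * (((Qq p : ℚ) : ℝ)) ^ d
    rw [Complex.norm_ratCast]
    have := hZb p hp d
    exact_mod_cast this
  have hbB : ∀ p, p.Prime → ∀ d, ‖B p d‖ ≤ ((d : ℝ) + 1) ^ c * (Q p) ^ d := by
    intro p hp d
    change ‖((coeff d (E (-ArithZ3.logZ (bp X p))) : ℚ) : ℂ)‖ ≤ _ * (((Qq p : ℚ) : ℝ)) ^ d
    rw [Complex.norm_ratCast]
    have := hWb p hp d
    exact_mod_cast this
  have hAB : ∀ p, p.Prime → ∀ n,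
      ∑ q ∈ Finset.HasAntidiagonal.antidiagonal n, A p q.1 * B p q.2 =
        if n = 0 then 1 else 0 := by
    intro p _ n
    have hZW : E (ArithZ3.logZ (bp X p)) * E (-ArithZ3.logZ (bp X p)) = 1 := by
      rw [mul_comm]
      exact E_neg_mul (hg0 p)
    have := congrArg (fun x : ℚ => (x : ℂ)) (congrArg (coeff n) hZW)
    simp only [coeff_mul, coeff_one] at this
    push_cast at this
    rw [this]
    split_ifs <;> simp
  have hcoeff : ∀ p, p.Prime → ∀ d,
      coeff d (E (ArithZ3.logZ (bp X p))) = (Zeta.cycleNormCount X (p ^ d) : ℚ) := by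
    intro p hp d
    rw [ArithZ3.coeff_E_logZ (bp X p) (ArithZ4.wp (Nm X) p) (ArithZ4.Cp (Nm X) (Cl X) p)
      (fun x hx => (ArithZ4.N_eq_pow_wp (Nm X) (Cl X) p hp x hx).2) (finite_level X p hp)
      (fun e _ => rfl) d, cycleNormCount_eq, ArithZ4.card_nrm_pow (Nm X) (Cl X) hNP p hp d]
  have hA : ∀ p, p.Prime → ∀ d, Zeta.arithCoeff X (p ^ d) = A p d := by
    intro p hp d
    change ((Zeta.cycleNormCount X (p ^ d) : ℕ) : ℂ) =
      ((coeff d (E (ArithZ3.logZ (bp X p))) : ℚ) : ℂ)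
    rw [hcoeff p hp d, Rat.cast_natCast]
  have ha1 : Zeta.arithCoeff X 1 = 1 := by
    have h := hcoeff 2 Nat.prime_two 0
    rw [pow_zero, coeff_zero_eq_constantCoeff_apply, constantCoeff_E (hg0 2)] at h
    change ((Zeta.cycleNormCount X 1 : ℕ) : ℂ) = 1
    have h' : Zeta.cycleNormCount X 1 = 1 := by exact_mod_cast h.symm
    rw [h', Nat.cast_one]
  have hmul : ∀ {m n : ℕ}, Nat.Coprime m n →
      Zeta.arithCoeff X (m * n) = Zeta.arithCoeff X m * Zeta.arithCoeff X n := by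
    intro m n h
    rcases Nat.eq_zero_or_pos m with rfl | hm
    · have hn : n = 1 := (Nat.coprime_zero_left n).mp h
      subst hn
      rw [ha1, mul_one, mul_one]
    rcases Nat.eq_zero_or_pos n with rfl | hn
    · have hm1 : m = 1 := (Nat.coprime_zero_right m).mp h
      subst hm1
      rw [ha1, one_mul, one_mul]
    change ((Zeta.cycleNormCount X (m * n) : ℕ) : ℂ) =
      ((Zeta.cycleNormCount X m : ℕ) : ℂ) * ((Zeta.cycleNormCount X n : ℕ) : ℂ)
    rw [cycleNormCount_eq, cycleNormCount_eq, cycleNormCount_eq,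
      ArithZ4.card_nrm_mul (Nm X) (Cl X) hNP hm hn h, Nat.cast_mul]
  have key := fun (s : ℂ) (hs : (r : ℝ) < s.re) =>
    ArithZ2.lseries_summable_and_ne_zero (Zeta.arithCoeff X) ha1 hmul c p₀ r A B hA hAB Q hQ0 hQ1
      hQ2 hbA hbB s hs
  constructor
  · refine LSeries.abscissaOfAbsConv_le_of_forall_lt_LSeriesSummable fun y hy => ?_
    exact (key (y : ℂ) (by rwa [Complex.ofReal_re])).1
  · exact fun s hs => (key s hs).2

end Groth.Agent.Lib.helper27.ArithZ6
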