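import Mathlib
import Groth.Prelude.Def_CohTop
import Groth.Agent.Lib.Helper27.ExtPull
import Groth.Agent.Lib.Helper27.PullConst

set_option autoImplicit false
set_option linter.unusedSectionVars false

namespace Groth.Agent.Lib.helper27

open CategoryTheory Limits Abelian Opposite TopologicalSpace

universe u

namespace PullFunTop

open PullConst

/-- the constant sheaf functor -/
noncomputable abbrev cst (Y : TopCat.{u}) : AddCommGrpCat.{u} ⥤ CohTop.Ab Y :=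
  constantSheaf (Opens.grothendieckTopology Y) AddCommGrpCat.{u}

/-- the constant sheaf `ℤ` -/
noncomputable abbrev Z (Y : TopCat.{u}) : CohTop.Ab Y :=
  (cst Y).obj (AddCommGrpCat.of (ULift ℤ))

/-- global sections -/
noncomputable abbrev Γ (Y : TopCat.{u}) : CohTop.Ab Y ⥤ AddCommGrpCat.{u} :=
  (sheafSections (Opens.grothendieckTopology Y) AddCommGrpCat.{u}).obj (op (⊤ : Opens Y))

/-- the adjunction `const ⊣ Γ` -/
noncomputable abbrev cadj (Y : TopCat.{u}) : cst Y ⊣ Γ Y :=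
  constantSheafAdj (Opens.grothendieckTopology Y) AddCommGrpCat.{u} isTerminalTop

/-- `g_* ⋙ Γ_Y = Γ_{Y'}` -/
noncomputable abbrev pushΓIso {Y' Y : TopCat.{u}} (g : Y' ⟶ Y) : CohTop.push g ⋙ Γ Y ≅ Γ Y' :=
  Iso.refl _

/-- `h_* ⋙ g_* = (h ≫ g)_*` -/
noncomputable abbrev pushCompIso {Y'' Y' Y : TopCat.{u}} (h : Y'' ⟶ Y') (g : Y' ⟶ Y) :
    CohTop.push h ⋙ CohTop.push g ≅ CohTop.push (h ≫ g) :=
  Iso.refl _

/-- `(𝟙 Y)_* = 𝟭` -/
noncomputable abbrev pushIdIso (Y : TopCat.{u}) : CohTop.push (𝟙 Y) ≅ 𝟭 (CohTop.Ab Y) :=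
  Iso.refl _

/-- the pullback of the constant sheaf is the constant sheaf -/
noncomputable def pullCstIso {Y' Y : TopCat.{u}} (g : Y' ⟶ Y) : cst Y ⋙ CohTop.pull g ≅ cst Y' :=
  Adjunction.leftAdjointCompIso (cadj Y) (pbAdj g) (cadj Y') (pushΓIso g)

/-- pullbacks compose -/
noncomputable def pullCompIso {Y'' Y' Y : TopCat.{u}} (h : Y'' ⟶ Y') (g : Y' ⟶ Y) :
    CohTop.pull g ⋙ CohTop.pull h ≅ CohTop.pull (h ≫ g) :=
  Adjunction.leftAdjointCompIso (pbAdj g) (pbAdj h) (pbAdj (h ≫ g)) (pushCompIso h g)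

/-- pullback along the identity -/
noncomputable def pullIdIso (Y : TopCat.{u}) : CohTop.pull (𝟙 Y) ≅ 𝟭 (CohTop.Ab Y) :=
  Adjunction.leftAdjointIdIso (pbAdj (𝟙 Y)) (pushIdIso Y)

/-- the canonical map `ℤ_{Y'} ⟶ g⁻¹ ℤ_Y` -/
noncomputable def uZ {Y' Y : TopCat.{u}} (g : Y' ⟶ Y) : Z Y' ⟶ (CohTop.pull g).obj (Z Y) :=
  (pullCstIso g).inv.app (AddCommGrpCat.of (ULift ℤ))

lemma pullCstIso_assoc {Y'' Y' Y : TopCat.{u}} (h : Y'' ⟶ Y') (g : Y' ⟶ Y) :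
    Functor.isoWhiskerLeft (cst Y) (pullCompIso h g) ≪≫ pullCstIso (h ≫ g) =
      (Functor.associator _ _ _).symm ≪≫
        Functor.isoWhiskerRight (pullCstIso g) (CohTop.pull h) ≪≫ pullCstIso h := by
  apply Adjunction.leftAdjointCompIso_assoc
  ext M
  rfl

lemma uZ_comp {Y'' Y' Y : TopCat.{u}} (h : Y'' ⟶ Y') (g : Y' ⟶ Y) :
    uZ (h ≫ g) ≫ (pullCompIso h g).inv.app (Z Y) = uZ h ≫ (CohTop.pull h).map (uZ g) := by
  have := congrArg (fun e => e.inv.app (AddCommGrpCat.of (ULift ℤ))) (pullCstIso_assoc h g)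
  simpa [uZ] using this

lemma pullCstIso_id (Y : TopCat.{u}) :
    pullCstIso (𝟙 Y) =
      Functor.isoWhiskerLeft (cst Y) (pullIdIso Y) ≪≫ Functor.rightUnitor (cst Y) := by
  apply Adjunction.leftAdjointCompIso_comp_id
  ext M
  rfl

lemma uZ_id (Y : TopCat.{u}) : uZ (𝟙 Y) ≫ (pullIdIso Y).hom.app (Z Y) = 𝟙 _ := by
  have := congrArg (fun e => e.inv.app (AddCommGrpCat.of (ULift ℤ))) (pullCstIso_id Y)
  dsimp at this
  rw [uZ, this]
  simp

/-- the pullback map on cohomology attached to `g : Y' ⟶ Y` and `θ : G ⟶ g_* G'` -/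
noncomputable def Hmap {Y' Y : TopCat.{u}} (g : Y' ⟶ Y) {G : CohTop.Ab Y} {G' : CohTop.Ab Y'}
    (θ : G ⟶ (CohTop.push g).obj G') (q : ℕ) : CohTop.H G q →+ CohTop.H G' q :=
  ExtPull.hmap (pbAdj g) (uZ g) θ q

lemma τ_comp_eq {Y'' Y' Y : TopCat.{u}} (h : Y'' ⟶ Y') (g : Y' ⟶ Y) :
    (conjugateEquiv ((pbAdj g).comp (pbAdj h)) (pbAdj (h ≫ g))).symm (pushCompIso h g).hom =
      (pullCompIso h g).inv := by
  rw [Equiv.symm_apply_eq]
  exact (Adjunction.conjugateEquiv_leftAdjointCompIso_inv _ _ _ _).symm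

theorem Hmap_comp {Y'' Y' Y : TopCat.{u}} (h : Y'' ⟶ Y') (g : Y' ⟶ Y)
    {G : CohTop.Ab Y} {G' : CohTop.Ab Y'} {G'' : CohTop.Ab Y''}
    (θ : G ⟶ (CohTop.push g).obj G') (θ' : G' ⟶ (CohTop.push h).obj G'') (q : ℕ)
    (x : CohTop.H G q) :
    Hmap h θ' q (Hmap g θ q x) =
      Hmap (h ≫ g) (show G ⟶ (CohTop.push (h ≫ g)).obj G'' from θ ≫ (CohTop.push g).map θ') q x := by
  have h1 := ExtPull.hmap_comp (pbAdj g) (pbAdj h) (uZ g) (uZ h) θ θ' q x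
  have h2 := ExtPull.hmap_change ((pbAdj g).comp (pbAdj h)) (pbAdj (h ≫ g)) (pushCompIso h g).hom
    (uZ (h ≫ g)) (θ ≫ (CohTop.push g).map θ') q x
  rw [τ_comp_eq, uZ_comp] at h2
  rw [Hmap, Hmap, h1, ← h2, Hmap]
  congr 2

lemma τ_id_eq (Y : TopCat.{u}) :
    (conjugateEquiv (Adjunction.id (C := CohTop.Ab Y)) (pbAdj (𝟙 Y))).symm (pushIdIso Y).inv =
      (pullIdIso Y).hom := by
  rw [Equiv.symm_apply_eq]
  exact (Adjunction.conjugateEquiv_leftAdjointIdIso_hom _ _).symm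

theorem Hmap_id {Y : TopCat.{u}} {G G' : CohTop.Ab Y} (θ : G ⟶ G') (q : ℕ) (x : CohTop.H G q) :
    Hmap (𝟙 Y) (show G ⟶ (CohTop.push (𝟙 Y)).obj G' from θ) q x =
      x.comp (Ext.mk₀ θ) (add_zero q) := by
  have h2 := ExtPull.hmap_change (Adjunction.id (C := CohTop.Ab Y)) (pbAdj (𝟙 Y))
    (pushIdIso Y).inv (uZ (𝟙 Y)) θ q x
  rw [τ_id_eq, uZ_id, ExtPull.hmap_id] at h2
  rw [Hmap, ← h2]
  congr 2

section Over

variable {S : TopCat.{u}} (F : CohTop.Ab S)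

lemma push_obj_eq {Y' Y : TopCat.{u}} (g : Y' ⟶ Y) (a : Y ⟶ S) (a' : Y' ⟶ S) (w : g ≫ a = a')
    (M : CohTop.Ab Y') :
    (CohTop.push a').obj M = (CohTop.push a).obj ((CohTop.push g).obj M) := by
  subst w
  rfl

/-- the transition map `a⁻¹F ⟶ g_* a'⁻¹F` for `g ≫ a = a'` -/
noncomputable def θ {Y' Y : TopCat.{u}} (g : Y' ⟶ Y) (a : Y ⟶ S) (a' : Y' ⟶ S) (w : g ≫ a = a') :
    (CohTop.pull a).obj F ⟶ (CohTop.push g).obj ((CohTop.pull a').obj F) :=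
  ((pbAdj a).homEquiv F _).symm ((pbAdj a').unit.app F ≫ eqToHom (push_obj_eq g a a' w _))

lemma homEquiv_θ {Y' Y : TopCat.{u}} (g : Y' ⟶ Y) (a : Y ⟶ S) (a' : Y' ⟶ S) (w : g ≫ a = a') :
    (pbAdj a).unit.app F ≫ (CohTop.push a).map (θ F g a a' w) =
      (pbAdj a').unit.app F ≫ eqToHom (push_obj_eq g a a' w _) := by
  have := ((pbAdj a).homEquiv F _).apply_symm_apply
    ((pbAdj a').unit.app F ≫ eqToHom (push_obj_eq g a a' w _))
  rw [Adjunction.homEquiv_unit] at this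
  exact this

lemma homEquiv_θ_rfl {Y' Y : TopCat.{u}} (g : Y' ⟶ Y) (a : Y ⟶ S) :
    (pbAdj a).unit.app F ≫ (CohTop.push a).map (θ F g a (g ≫ a) rfl) =
      (pbAdj (g ≫ a)).unit.app F := by
  rw [homEquiv_θ]
  exact Category.comp_id _

lemma θ_id {Y : TopCat.{u}} (a : Y ⟶ S) (w : 𝟙 Y ≫ a = a) : θ F (𝟙 Y) a a w = 𝟙 _ := by
  apply ((pbAdj a).homEquiv F _).injective
  rw [Adjunction.homEquiv_unit, homEquiv_θ, Adjunction.homEquiv_unit]
  rfl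

lemma θ_comp {Y'' Y' Y : TopCat.{u}} (h : Y'' ⟶ Y') (g : Y' ⟶ Y) (a : Y ⟶ S) (a' : Y' ⟶ S)
    (a'' : Y'' ⟶ S) (w : g ≫ a = a') (w' : h ≫ a' = a'') (w'' : (h ≫ g) ≫ a = a'') :
    θ F (h ≫ g) a a'' w'' = θ F g a a' w ≫ (CohTop.push g).map (θ F h a' a'' w') := by
  subst w
  subst w'
  apply ((pbAdj a).homEquiv F _).injective
  rw [Adjunction.homEquiv_unit, Adjunction.homEquiv_unit]
  have e1 : (pbAdj a).unit.app F ≫ (CohTop.push a).map (θ F (h ≫ g) a (h ≫ g ≫ a) w'') =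
      (pbAdj (h ≫ g ≫ a)).unit.app F := by
    rw [homEquiv_θ]
    exact Category.comp_id _
  have e2 : (pbAdj a).unit.app F ≫ (CohTop.push a).map
      (θ F g a (g ≫ a) rfl ≫ (CohTop.push g).map (θ F h (g ≫ a) (h ≫ g ≫ a) rfl)) =
      (pbAdj (h ≫ g ≫ a)).unit.app F := by
    rw [Functor.map_comp]
    exact (Category.assoc _ _ _).symm.trans ((congrArg (· ≫ (CohTop.push a).map
      ((CohTop.push g).map (θ F h (g ≫ a) (h ≫ g ≫ a) rfl))) (homEquiv_θ_rfl F g a)).trans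
        (homEquiv_θ_rfl F h (g ≫ a)))
  exact e1.trans e2.symm

/-- the functor `(a : Y → S) ↦ H^q(Y, a⁻¹F)` on spaces over `S` -/
noncomputable def Φ (q : ℕ) : (Over S)ᵒᵖ ⥤ AddCommGrpCat.{u} where
  obj A := AddCommGrpCat.of (CohTop.H ((CohTop.pull A.unop.hom).obj F) q)
  map {A A'} φ := AddCommGrpCat.ofHom
    (Hmap φ.unop.left (θ F φ.unop.left A.unop.hom A'.unop.hom (Over.w φ.unop)) q)
  map_id A := by
    ext x
    have h1 := θ_id F A.unop.hom (Category.id_comp _)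
    have h2 := Hmap_id (𝟙 ((CohTop.pull A.unop.hom).obj F)) q x
    rw [Ext.comp_mk₀_id] at h2
    show Hmap (𝟙 A.unop.left) (θ F (𝟙 A.unop.left) A.unop.hom A.unop.hom _) q x = x
    rw [h1]
    exact h2
  map_comp {A A' A''} φ ψ := by
    ext x
    have h1 := θ_comp F ψ.unop.left φ.unop.left A.unop.hom A'.unop.hom A''.unop.hom
      (Over.w φ.unop) (Over.w ψ.unop) (Over.w (ψ.unop ≫ φ.unop))
    have h2 := Hmap_comp ψ.unop.left φ.unop.left
      (θ F φ.unop.left A.unop.hom A'.unop.hom (Over.w φ.unop))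
      (θ F ψ.unop.left A'.unop.hom A''.unop.hom (Over.w ψ.unop)) q x
    show Hmap (ψ.unop.left ≫ φ.unop.left) (θ F (ψ.unop.left ≫ φ.unop.left) A.unop.hom
      A''.unop.hom _) q x = _
    rw [h1]
    exact h2.symm

end Over

end PullFunTop

end Groth.Agent.Lib.helper27
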