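import Mathlib
import Groth.Prelude.Def_CohTop
import Groth.Agent.Lib.Helper27.PullFunTop

set_option autoImplicit false
set_option linter.unusedSectionVars false
set_option linter.unusedVariables false

namespace Groth.Agent.Lib.helper27

open CategoryTheory Limits Opposite TopologicalSpace

universe u

namespace BigSec

open PullFunTop PullConst

variable {S : TopCat.{u}}

/-- the unit of `a⁻¹ ⊣ a_*` on sections -/
noncomputable abbrev ρ {Z : TopCat.{u}} (a : Z ⟶ S) (G : CohTop.Ab S) (V : Opens S) :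
    G.obj.obj (op V) ⟶ ((CohTop.pull a).obj G).obj.obj (op ((Opens.map a).obj V)) :=
  ((pbAdj a).unit.app G).hom.app (op V)

lemma ρ_naturality {Z : TopCat.{u}} (a : Z ⟶ S) {G G' : CohTop.Ab S} (φ : G ⟶ G') (V : Opens S) :
    ρ a G V ≫ ((CohTop.pull a).map φ).hom.app (op ((Opens.map a).obj V)) =
      φ.hom.app (op V) ≫ ρ a G' V := by
  have := congrArg (fun m => m.hom.app (op V)) ((pbAdj a).unit.naturality φ)
  exact this.symm

lemma ρ_res {Z : TopCat.{u}} (a : Z ⟶ S) (G : CohTop.Ab S) {V V' : Opens S} (i : V' ⟶ V) :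
    G.obj.map i.op ≫ ρ a G V' =
      ρ a G V ≫ ((CohTop.pull a).obj G).obj.map ((Opens.map a).map i).op :=
  ((pbAdj a).unit.app G).hom.naturality i.op

/-- two maps out of a pullback agree iff they agree on the image of the unit -/
lemma pull_hom_ext {Z : TopCat.{u}} (a : Z ⟶ S) (G : CohTop.Ab S) (M : CohTop.Ab Z)
    (ψ₁ ψ₂ : (CohTop.pull a).obj G ⟶ M)
    (h : ∀ V : Opens S, ρ a G V ≫ ψ₁.hom.app (op ((Opens.map a).obj V)) =
      ρ a G V ≫ ψ₂.hom.app (op ((Opens.map a).obj V))) : ψ₁ = ψ₂ := by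
  apply ((pbAdj a).homEquiv G M).injective
  rw [Adjunction.homEquiv_unit, Adjunction.homEquiv_unit]
  apply Sheaf.hom_ext
  apply NatTrans.ext
  funext V
  exact h V.unop

/-- sections-level characterisation of `θ` -/
lemma ρ_θ {Z' Z : TopCat.{u}} (g : Z' ⟶ Z) (a : Z ⟶ S) (a' : Z' ⟶ S) (w : g ≫ a = a')
    (G : CohTop.Ab S) (V : Opens S)
    (hle : (Opens.map g).obj ((Opens.map a).obj V) ≤ (Opens.map a').obj V) :
    ρ a G V ≫ (θ G g a a' w).hom.app (op ((Opens.map a).obj V)) =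
      ρ a' G V ≫ ((CohTop.pull a').obj G).obj.map (homOfLE hle).op := by
  subst w
  have h1 := congrArg (fun m => m.hom.app (op V)) (homEquiv_θ_rfl G g a)
  have h2 : ((CohTop.pull (g ≫ a)).obj G).obj.map (homOfLE hle).op = 𝟙 _ :=
    CategoryTheory.Functor.map_id _ _
  rw [h2]
  exact h1.trans (Category.comp_id _).symm

lemma θ_naturality {Z' Z : TopCat.{u}} (g : Z' ⟶ Z) (a : Z ⟶ S) (a' : Z' ⟶ S) (w : g ≫ a = a')
    {G G' : CohTop.Ab S} (φ : G ⟶ G') :
    (CohTop.pull a).map φ ≫ θ G' g a a' w =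
      θ G g a a' w ≫ (CohTop.push g).map ((CohTop.pull a').map φ) := by
  subst w
  apply ((pbAdj a).homEquiv _ _).injective
  rw [Adjunction.homEquiv_unit, Adjunction.homEquiv_unit, Functor.map_comp, Functor.map_comp,
    ← Category.assoc, ← Category.assoc, homEquiv_θ_rfl]
  have h1 := (pbAdj a).unit.naturality φ
  have h2 := (pbAdj (g ≫ a)).unit.naturality φ
  dsimp at h1 h2
  rw [← h1, Category.assoc, homEquiv_θ_rfl]
  exact h2

/-- `θ` on sections -/
noncomputable def θsec (G : CohTop.Ab S) {Z' Z : TopCat.{u}} (g : Z' ⟶ Z) (a : Z ⟶ S) (a' : Z' ⟶ S)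
    (w : g ≫ a = a') (W : Opens Z) :
    ((CohTop.pull a).obj G).obj.obj (op W) ⟶
      ((CohTop.pull a').obj G).obj.obj (op ((Opens.map g).obj W)) :=
  (θ G g a a' w).hom.app (op W)

lemma θsec_naturality (G : CohTop.Ab S) {Z' Z : TopCat.{u}} (g : Z' ⟶ Z) (a : Z ⟶ S) (a' : Z' ⟶ S)
    (w : g ≫ a = a') {W W' : Opens Z} (i : W' ⟶ W) :
    ((CohTop.pull a).obj G).obj.map i.op ≫ θsec G g a a' w W' =
      θsec G g a a' w W ≫ ((CohTop.pull a').obj G).obj.map ((Opens.map g).map i).op :=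
  (θ G g a a' w).hom.naturality i.op

lemma θsec_id (G : CohTop.Ab S) {Z : TopCat.{u}} (a : Z ⟶ S) (w : 𝟙 Z ≫ a = a) (W : Opens Z) :
    θsec G (𝟙 Z) a a w W = 𝟙 _ := by
  unfold θsec
  rw [θ_id]
  rfl

lemma θsec_comp (G : CohTop.Ab S) {Z'' Z' Z : TopCat.{u}} (h : Z'' ⟶ Z') (g : Z' ⟶ Z) (a : Z ⟶ S)
    (a' : Z' ⟶ S) (a'' : Z'' ⟶ S) (w : g ≫ a = a') (w' : h ≫ a' = a'') (w'' : (h ≫ g) ≫ a = a'')
    (W : Opens Z) :
    θsec G (h ≫ g) a a'' w'' W = θsec G g a a' w W ≫ θsec G h a' a'' w' ((Opens.map g).obj W) := by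
  unfold θsec
  rw [θ_comp G h g a a' a'' w w' w'']
  rfl

lemma θsec_natural (G G' : CohTop.Ab S) (φ : G ⟶ G') {Z' Z : TopCat.{u}} (g : Z' ⟶ Z) (a : Z ⟶ S)
    (a' : Z' ⟶ S) (w : g ≫ a = a') (W : Opens Z) :
    ((CohTop.pull a).map φ).hom.app (op W) ≫ θsec G' g a a' w W =
      θsec G g a a' w W ≫ ((CohTop.pull a').map φ).hom.app (op ((Opens.map g).obj W)) := by
  have := congrArg (fun m => m.hom.app (op W)) (θ_naturality g a a' w φ)
  exact this

lemma ρ_θsec (G : CohTop.Ab S) {Z' Z : TopCat.{u}} (g : Z' ⟶ Z) (a : Z ⟶ S) (a' : Z' ⟶ S)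
    (w : g ≫ a = a') (V : Opens S)
    (hle : (Opens.map g).obj ((Opens.map a).obj V) ≤ (Opens.map a').obj V) :
    ρ a G V ≫ θsec G g a a' w ((Opens.map a).obj V) =
      ρ a' G V ≫ ((CohTop.pull a').obj G).obj.map (homOfLE hle).op :=
  ρ_θ g a a' w G V hle

/-- objects of the big site over `S`: a space over `S` with an open subset -/
structure BigOb (S : TopCat.{u}) where
  A : Over S
  W : Opens A.left

/-- morphisms of the big site -/
@[ext]
structure BigHom (P Q : BigOb S) where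
  g : P.A ⟶ Q.A
  hle : P.W ≤ (Opens.map g.left).obj Q.W

instance : Category (BigOb S) where
  Hom P Q := BigHom P Q
  id P := ⟨𝟙 _, le_rfl⟩
  comp f g := ⟨f.g ≫ g.g, fun x hx => g.hle (f.hle hx)⟩

/-- the underlying map of spaces over `S` -/
def gOf {P Q : BigOb S} (f : P ⟶ Q) : P.A ⟶ Q.A := BigHom.g f

lemma leOf {P Q : BigOb S} (f : P ⟶ Q) : P.W ≤ (Opens.map (gOf f).left).obj Q.W := BigHom.hle f

lemma hom_ext {P Q : BigOb S} (f f' : P ⟶ Q) (h : gOf f = gOf f') : f = f' := BigHom.ext h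

@[simp] lemma id_g (P : BigOb S) : gOf (𝟙 P) = 𝟙 _ := rfl
@[simp] lemma comp_g {P Q R : BigOb S} (f : P ⟶ Q) (g : Q ⟶ R) : gOf (f ≫ g) = gOf f ≫ gOf g := rfl

/-- constructor for morphisms -/
def mkHom {P Q : BigOb S} (g : P.A ⟶ Q.A) (h : P.W ≤ (Opens.map g.left).obj Q.W) : P ⟶ Q :=
  BigHom.mk g h

variable (G : CohTop.Ab S)

/-- the action of a morphism of the big site on sections of the pullbacks -/
noncomputable def secMap {P Q : BigOb S} (f : P ⟶ Q) :
    ((CohTop.pull Q.A.hom).obj G).obj.obj (op Q.W) ⟶ ((CohTop.pull P.A.hom).obj G).obj.obj (op P.W) :=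
  θsec G (gOf f).left Q.A.hom P.A.hom (Over.w (gOf f)) Q.W ≫
    ((CohTop.pull P.A.hom).obj G).obj.map (homOfLE (leOf f)).op

lemma secMap_id (P : BigOb S) : secMap G (𝟙 P) = 𝟙 _ := by
  unfold secMap
  have h2 : θsec G (gOf (𝟙 P)).left P.A.hom P.A.hom (Over.w (gOf (𝟙 P))) P.W = 𝟙 _ :=
    θsec_id G P.A.hom (Category.id_comp _) P.W
  have h3 : ((CohTop.pull P.A.hom).obj G).obj.map (homOfLE (leOf (𝟙 P))).op = 𝟙 _ :=
    CategoryTheory.Functor.map_id _ _
  rw [h3]
  exact (Category.comp_id _).trans h2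

lemma secMap_comp {P Q R : BigOb S} (f : P ⟶ Q) (g : Q ⟶ R) :
    secMap G (f ≫ g) = secMap G g ≫ secMap G f := by
  unfold secMap
  have h2 : θsec G (gOf (f ≫ g)).left R.A.hom P.A.hom (Over.w (gOf (f ≫ g))) R.W =
      θsec G (gOf g).left R.A.hom Q.A.hom (Over.w (gOf g)) R.W ≫
        θsec G (gOf f).left Q.A.hom P.A.hom (Over.w (gOf f)) ((Opens.map (gOf g).left).obj R.W) :=
    θsec_comp G (gOf f).left (gOf g).left R.A.hom Q.A.hom P.A.hom (Over.w (gOf g))
      (Over.w (gOf f)) (Over.w (gOf (f ≫ g))) R.W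
  have h3 := θsec_naturality G (gOf f).left Q.A.hom P.A.hom (Over.w (gOf f)) (homOfLE (leOf g))
  let Tg := θsec G (gOf g).left R.A.hom Q.A.hom (Over.w (gOf g)) R.W
  let Tf' := θsec G (gOf f).left Q.A.hom P.A.hom (Over.w (gOf f)) ((Opens.map (gOf g).left).obj R.W)
  let Tf := θsec G (gOf f).left Q.A.hom P.A.hom (Over.w (gOf f)) Q.W
  let rQ := ((CohTop.pull Q.A.hom).obj G).obj.map (homOfLE (leOf g)).op
  let rP := ((CohTop.pull P.A.hom).obj G).obj.map (homOfLE (leOf f)).op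
  let rP' := ((CohTop.pull P.A.hom).obj G).obj.map
    ((Opens.map (gOf f).left).map (homOfLE (leOf g))).op
  have hle : P.W ≤ (Opens.map (gOf f).left).obj ((Opens.map (gOf g).left).obj R.W) := leOf (f ≫ g)
  let rP'' := ((CohTop.pull P.A.hom).obj G).obj.map (homOfLE hle).op
  have e1 : rQ ≫ Tf = Tf' ≫ rP' := h3
  have e2 : rP' ≫ rP = rP'' :=
    (((CohTop.pull P.A.hom).obj G).obj.map_comp
      ((Opens.map (gOf f).left).map (homOfLE (leOf g))).op (homOfLE (leOf f)).op).symm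
  have e3 : (Tg ≫ Tf') ≫ rP'' = (Tg ≫ rQ) ≫ (Tf ≫ rP) := by
    rw [Category.assoc, Category.assoc, ← Category.assoc rQ, e1, Category.assoc, e2]
  exact (congrArg (fun t => t ≫ rP'') h2).trans e3

/-- the presheaf of sections of the pullbacks of `G` on the big site -/
noncomputable def OvSec : (BigOb S)ᵒᵖ ⥤ AddCommGrpCat.{u} where
  obj P := ((CohTop.pull P.unop.A.hom).obj G).obj.obj (op P.unop.W)
  map f := secMap G f.unop
  map_id P := secMap_id G P.unop
  map_comp f g := secMap_comp G g.unop f.unop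

variable {G}

lemma secMap_natural {G' : CohTop.Ab S} (φ : G ⟶ G') {P Q : BigOb S} (f : P ⟶ Q) :
    ((CohTop.pull Q.A.hom).map φ).hom.app (op Q.W) ≫ secMap G' f =
      secMap G f ≫ ((CohTop.pull P.A.hom).map φ).hom.app (op P.W) := by
  unfold secMap
  have h1 := θsec_natural G G' φ (gOf f).left Q.A.hom P.A.hom (Over.w (gOf f)) Q.W
  have h2 := ((CohTop.pull P.A.hom).map φ).hom.naturality (homOfLE (leOf f)).op
  rw [← Category.assoc, h1, Category.assoc, Category.assoc]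
  refine congrArg (θsec G (gOf f).left Q.A.hom P.A.hom (Over.w (gOf f)) Q.W ≫ ·) ?_
  exact h2.symm

/-- functoriality of `OvSec` in the sheaf -/
noncomputable def OvSecMap {G' : CohTop.Ab S} (φ : G ⟶ G') : OvSec G ⟶ OvSec G' where
  app P := ((CohTop.pull P.unop.A.hom).map φ).hom.app (op P.unop.W)
  naturality P Q f := (secMap_natural φ f.unop).symm

variable (S) in
/-- `OvSec` as a functor -/
noncomputable def OvSecFun : CohTop.Ab S ⥤ ((BigOb S)ᵒᵖ ⥤ AddCommGrpCat.{u}) where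
  obj G := OvSec G
  map φ := OvSecMap φ
  map_id G := by
    apply NatTrans.ext
    funext P
    show ((CohTop.pull P.unop.A.hom).map (𝟙 G)).hom.app (op P.unop.W) = 𝟙 _
    rw [CategoryTheory.Functor.map_id]
    rfl
  map_comp φ ψ := by
    apply NatTrans.ext
    funext P
    show ((CohTop.pull P.unop.A.hom).map (φ ≫ ψ)).hom.app (op P.unop.W) = _
    rw [CategoryTheory.Functor.map_comp]
    rfl

end BigSec

end Groth.Agent.Lib.helper27
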