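import Mathlib
import Groth.Prelude.Def_FibSite

set_option autoImplicit false
set_option linter.unusedSectionVars false
set_option linter.unusedVariables false

namespace Groth.Agent.Lib.helper27

open CategoryTheory Limits Opposite Pseudofunctor Pseudofunctor.CoGrothendieck

universe v₂ u₂ v₁ u₁

namespace TotCov

variable {𝒮 : Type u₁} [Category.{v₁} 𝒮] (F : Pseudofunctor (LocallyDiscrete 𝒮ᵒᵖ) Cat.{v₂, u₂})
  (J : FibSite.Topologies F) [hthin : ∀ s : 𝒮, Quiver.IsThin (F.obj ⟨op s⟩)]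

/-- equality of morphisms in the total category of a thin-fibred pseudofunctor -/
lemma hom_ext' {X Y : ∫ᶜ F} (f g : X ⟶ Y) (h : f.base = g.base) : f = g :=
  Hom.ext f g h (Subsingleton.elim _ _)

/-- the sieves containing the image of a covering sieve of the fibre -/
def IsLoc (X : ∫ᶜ F) (R : Sieve X) : Prop :=
  ∃ R₀ : Sieve X.fiber, R₀ ∈ J X.base X.fiber ∧
    ∀ ⦃V : F.obj ⟨op X.base⟩⦄ (v : V ⟶ X.fiber), R₀ v → R ((ι F X.base).map v)

variable (hcov : ∀ ⦃R S : 𝒮⦄ (f : R ⟶ S) (U : F.obj ⟨op S⟩) (R₀ : Sieve U), R₀ ∈ J S U →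
  R₀.functorPushforward (FibSite.invImage F f) ∈ J R ((FibSite.invImage F f).obj U))

include hcov in
lemma isLoc_pullback {X Y : ∫ᶜ F} (R : Sieve X) (hR : IsLoc F J X R) (g : Y ⟶ X) :
    IsLoc F J Y (R.pullback g) := by
  obtain ⟨R₀, hR₀, h⟩ := hR
  refine ⟨(R₀.functorPushforward (FibSite.invImage F g.base)).pullback g.fiber,
    (J Y.base).pullback_stable g.fiber (hcov g.base X.fiber R₀ hR₀), ?_⟩
  intro V' v' hv'
  obtain ⟨V, v, w, hv, e⟩ := hv'
  have hRv := h v hv
  let t : (ι F Y.base).obj V' ⟶ (ι F X.base).obj V := ⟨g.base, w⟩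
  have : (ι F Y.base).map v' ≫ g = t ≫ (ι F X.base).map v := by
    apply hom_ext'
    exact (Category.id_comp g.base).trans (Category.comp_id g.base).symm
  show R ((ι F Y.base).map v' ≫ g)
  rw [this]
  exact R.downward_closed hRv t

lemma isLoc_transitive {X : ∫ᶜ F} (S : Sieve X) (hS : IsLoc F J X S) (R : Sieve X)
    (h : ∀ ⦃Y : ∫ᶜ F⦄ ⦃f : Y ⟶ X⦄, S f → IsLoc F J Y (R.pullback f)) : IsLoc F J X R := by
  obtain ⟨S₀, hS₀, hS'⟩ := hS
  have hex : ∀ ⦃V : F.obj ⟨op X.base⟩⦄ (v : V ⟶ X.fiber) (hv : S₀ v),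
      ∃ R₀ : Sieve V, R₀ ∈ J X.base V ∧
        ∀ ⦃W : F.obj ⟨op X.base⟩⦄ (w : W ⟶ V), R₀ w →
          R ((ι F X.base).map w ≫ (ι F X.base).map v) := by
    intro V v hv
    obtain ⟨R₀, hR₀, h'⟩ := h (hS' v hv)
    exact ⟨R₀, hR₀, fun W w hw => h' w hw⟩
  choose T hT hT' using hex
  refine ⟨Sieve.bind S₀ (fun V v hv => T v hv),
    (J X.base).bind_covering hS₀ (fun V v hv => hT v hv), ?_⟩
  intro U u hu
  obtain ⟨V, w, v, hv, hw, rfl⟩ := hu
  rw [Functor.map_comp]
  exact hT' v hv w hw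

/-- the topology of locally fibre-covering sieves -/
def K : GrothendieckTopology (∫ᶜ F) where
  sieves X := {R | IsLoc F J X R}
  top_mem' X := ⟨⊤, (J X.base).top_mem _, fun _ _ _ => trivial⟩
  pullback_stable' X Y R g hR := isLoc_pullback F J hcov R hR g
  transitive' X S hS R h := isLoc_transitive F J S hS R h

include hcov in
theorem isLoc_of_mem {X : ∫ᶜ F} {R : Sieve X} (hR : R ∈ FibSite.totalTopology F J X) :
    IsLoc F J X R := by
  have hle : FibSite.totalTopology F J ≤ K F J hcov := by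
    apply FibSite.totalTopology_le
    intro S U R₀ hR₀
    exact ⟨R₀, hR₀, fun V v hv => Sieve.image_mem_functorPushforward _ _ hv⟩
  exact hle X hR

theorem mem_of_isLoc {X : ∫ᶜ F} {R : Sieve X} (hR : IsLoc F J X R) :
    R ∈ FibSite.totalTopology F J X := by
  obtain ⟨R₀, hR₀, h⟩ := hR
  have h1 : R₀.functorPushforward (ι F X.base) ∈
      FibSite.totalTopology F J ((ι F X.base).obj X.fiber) :=
    FibSite.functorPushforward_mem_totalTopology hR₀
  refine (FibSite.totalTopology F J).superset_covering ?_ h1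
  rintro Y f ⟨V, v, w, hv, rfl⟩
  exact R.downward_closed (h v hv) w

end TotCov

end Groth.Agent.Lib.helper27
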