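import Mathlib
import Groth.Prelude.Def_FibSite
import Groth.Agent.Lib.Helper27.TotCov

set_option autoImplicit false
set_option linter.unusedSectionVars false
set_option linter.unusedVariables false
set_option backward.isDefEq.respectTransparency false
set_option backward.isDefEq.respectTransparency.types false

namespace Groth.Agent.Lib.helper27

open CategoryTheory Limits Opposite Pseudofunctor Pseudofunctor.CoGrothendieck

universe v₂ u₂ v₁ u₁ w v₃ u₃

namespace TotSheaf

variable {𝒮 : Type u₁} [Category.{v₁} 𝒮] (F : Pseudofunctor (LocallyDiscrete 𝒮ᵒᵖ) Cat.{v₂, u₂})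
  (J : FibSite.Topologies F) [hthin : ∀ s : 𝒮, Quiver.IsThin (F.obj ⟨op s⟩)]
  (hcov : ∀ ⦃R S : 𝒮⦄ (f : R ⟶ S) (U : F.obj ⟨op S⟩) (R₀ : Sieve U), R₀ ∈ J S U →
    R₀.functorPushforward (FibSite.invImage F f) ∈ J R ((FibSite.invImage F f).obj U))

include hcov in
/-- a presheaf of types which is a sheaf on each fibre is a sheaf for the total topology -/
theorem isSheaf_types (P : (∫ᶜ F)ᵒᵖ ⥤ Type w)
    (hP : ∀ s : 𝒮, Presieve.IsSheaf (J s) ((ι F s).op ⋙ P)) :
    Presieve.IsSheaf (FibSite.totalTopology F J) P := by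
  intro X R hR
  obtain ⟨R₀, hR₀, h⟩ := TotCov.isLoc_of_mem F J hcov hR
  intro x hx
  -- the restricted family
  let x₀ : Presieve.FamilyOfElements ((ι F X.base).op ⋙ P) R₀.arrows :=
    fun V v hv => x ((ι F X.base).map v) (h v hv)
  have hx₀ : x₀.Compatible := by
    intro V₁ V₂ W g₁ g₂ v₁ v₂ hv₁ hv₂ e
    exact hx ((ι F X.base).map g₁) ((ι F X.base).map g₂) (h v₁ hv₁) (h v₂ hv₂)
      (by rw [← Functor.map_comp, ← Functor.map_comp, e])
  have hsh := hP X.base R₀ hR₀
  let y : P.obj (op X) := hsh.amalgamate x₀ hx₀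
  have hy : ∀ ⦃V⦄ (v : V ⟶ X.fiber) (hv : R₀ v),
      P.map ((ι F X.base).map v).op y = x ((ι F X.base).map v) (h v hv) :=
    fun V v hv => hsh.valid_glue hx₀ v hv
  have key : ∀ (y' : P.obj (op X)),
      (∀ ⦃V⦄ (v : V ⟶ X.fiber) (hv : R₀ v),
        P.map ((ι F X.base).map v).op y' = x ((ι F X.base).map v) (h v hv)) →
      x.IsAmalgamation y' := by
    intro y' hy' Z g hg
    -- the covering sieve of `Z.fiber`
    have hT : (R₀.functorPushforward (FibSite.invImage F g.base)).pullback g.fiber ∈
        J Z.base Z.fiber :=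
      (J Z.base).pullback_stable g.fiber (hcov g.base X.fiber R₀ hR₀)
    apply (hP Z.base _ hT).isSeparatedFor.ext
    intro V' w hw
    obtain ⟨V, v, k, hv, e⟩ := hw
    let t : (ι F Z.base).obj V' ⟶ (ι F X.base).obj V := ⟨g.base, k⟩
    have e' : (ι F Z.base).map w ≫ g = t ≫ (ι F X.base).map v := by
      apply TotCov.hom_ext'
      exact (Category.id_comp g.base).trans (Category.comp_id g.base).symm
    show P.map ((ι F Z.base).map w).op (P.map g.op y') = P.map ((ι F Z.base).map w).op (x g hg)
    have h1 : P.map ((ι F Z.base).map w).op (P.map g.op y') =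
        P.map t.op (P.map ((ι F X.base).map v).op y') := by
      have a1 := Functor.map_comp_apply P g.op ((ι F Z.base).map w).op y'
      have a2 := Functor.map_comp_apply P ((ι F X.base).map v).op t.op y'
      have a3 : g.op ≫ ((ι F Z.base).map w).op = ((ι F X.base).map v).op ≫ t.op := by
        rw [← op_comp, ← op_comp, e']
      rw [a3] at a1
      exact a1.symm.trans a2
    rw [h1, hy' v hv]
    have hsc := (Presieve.compatible_iff_sieveCompatible x).1 hx
    have b1 := hsc ((ι F X.base).map v) t (h v hv)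
    have b2 := hsc g ((ι F Z.base).map w) hg
    refine b1.symm.trans (Eq.trans ?_ b2)
    congr 1
    exact e'.symm
  refine ⟨y, key y hy, ?_⟩
  intro y' hy'
  apply hsh.isSeparatedFor.ext
  intro V v hv
  show P.map ((ι F X.base).map v).op y' = P.map ((ι F X.base).map v).op y
  rw [hy v hv]
  exact hy' ((ι F X.base).map v) (h v hv)

include hcov in
/-- a presheaf which is a sheaf on each fibre is a sheaf for the total topology -/
theorem isSheaf {A : Type u₃} [Category.{v₃} A] (P : (∫ᶜ F)ᵒᵖ ⥤ A)
    (hP : ∀ s : 𝒮, Presheaf.IsSheaf (J s) ((ι F s).op ⋙ P)) :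
    Presheaf.IsSheaf (FibSite.totalTopology F J) P := by
  intro E
  apply isSheaf_types F J hcov
  intro s
  exact hP s E

end TotSheaf

end Groth.Agent.Lib.helper27
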