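import Mathlib
import Groth.Prelude.Def_FibDesc
import Groth.Agent.Lib.Helper27.TotCov

set_option autoImplicit false
set_option linter.unusedSectionVars false
set_option linter.unusedVariables false

namespace Groth.Agent.Lib.helper27

open CategoryTheory Limits Opposite TopologicalSpace Pseudofunctor Pseudofunctor.CoGrothendieck
open FibDesc

universe u

namespace TotApi

variable {D : Type} [SmallCategory D] (Y : (WithInitial D)ᵒᵖ ⥤ TopCat.{u})

instance thinAug (s : (WithInitial D)ᵒᵖ) : Quiver.IsThin ((topAug Y).obj ⟨op s⟩) :=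
  inferInstanceAs (Quiver.IsThin (Opens (Y.obj s)))

instance thinPart (s : Dᵒᵖ) : Quiver.IsThin ((part (topAug Y)).obj ⟨op s⟩) :=
  inferInstanceAs (Quiver.IsThin (Opens (Y.obj ((toAug D).obj s))))

/-- preimages of covering sieves generate covering sieves -/
lemma functorPushforward_map_mem {X' X : TopCat.{u}} (g : X' ⟶ X) (U : Opens X) (R₀ : Sieve U)
    (h : R₀ ∈ Opens.grothendieckTopology X U) :
    R₀.functorPushforward (Opens.map g) ∈ Opens.grothendieckTopology X' ((Opens.map g).obj U) := by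
  intro x' hx'
  obtain ⟨V, v, hv, hxV⟩ := h (g x') hx'
  exact ⟨(Opens.map g).obj V, (Opens.map g).map v, Sieve.image_mem_functorPushforward _ _ hv, hxV⟩

lemma hcovAug ⦃R S : (WithInitial D)ᵒᵖ⦄ (f : R ⟶ S) (U : (topAug Y).obj ⟨op S⟩) (R₀ : Sieve U)
    (h : R₀ ∈ topAugTop Y S U) :
    R₀.functorPushforward (FibSite.invImage (topAug Y) f) ∈
      topAugTop Y R ((FibSite.invImage (topAug Y) f).obj U) :=
  functorPushforward_map_mem (Y.map f) U R₀ h

lemma hcovPart ⦃R S : Dᵒᵖ⦄ (f : R ⟶ S) (U : (part (topAug Y)).obj ⟨op S⟩) (R₀ : Sieve U)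
    (h : R₀ ∈ partTop (topAug Y) (topAugTop Y) S U) :
    R₀.functorPushforward (FibSite.invImage (part (topAug Y)) f) ∈
      partTop (topAug Y) (topAugTop Y) R ((FibSite.invImage (part (topAug Y)) f).obj U) :=
  functorPushforward_map_mem (Y.map ((toAug D).map f)) U R₀ h

end TotApi

end Groth.Agent.Lib.helper27
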