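import Mathlib
import Groth.Prelude.Def_FibDesc
import Groth.Agent.Lib.Helper27.TotCov
import Groth.Agent.Lib.Helper27.TotApi

set_option autoImplicit false
set_option linter.unusedSectionVars false
set_option linter.unusedVariables false
set_option linter.style.haveILetI false
set_option backward.isDefEq.respectTransparency false
set_option backward.isDefEq.respectTransparency.types false

namespace Groth.Agent.Lib.helper27

open CategoryTheory Limits Opposite Pseudofunctor Pseudofunctor.CoGrothendieck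

universe v₂ u₂ v₁ u₁ w

namespace TotSide

section generic

variable {𝒮 : Type u₁} [Category.{v₁} 𝒮] (F : Pseudofunctor (LocallyDiscrete 𝒮ᵒᵖ) Cat.{v₂, u₂})
  (J : FibSite.Topologies F) [hthin : ∀ s : 𝒮, Quiver.IsThin (F.obj ⟨op s⟩)]

lemma coverPreserving_ι (S : 𝒮) : CoverPreserving (J S) (FibSite.totalTopology F J) (ι F S) :=
  ⟨fun hR => FibSite.functorPushforward_mem_totalTopology hR⟩

/-- fibres have "meets" compatible with inverse images -/
def HasMeets : Prop :=
  ∀ (s : 𝒮) (a b : F.obj ⟨op s⟩), ∃ (c : F.obj ⟨op s⟩) (p : c ⟶ a) (q : c ⟶ b),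
    ∀ ⦃r : 𝒮⦄ (θ : r ⟶ s) (x : F.obj ⟨op r⟩), (x ⟶ (FibSite.invImage F θ).obj a) →
      (x ⟶ (FibSite.invImage F θ).obj b) → Nonempty (x ⟶ (FibSite.invImage F θ).obj c)

variable (hmeet : HasMeets F)

include hmeet in
lemma compatiblePreserving_ι (S : 𝒮) :
    CompatiblePreserving.{w} (FibSite.totalTopology F J) (ι F S) := by
  constructor
  intro ℱ Z T x hx Y₁ Y₂ X f₁ f₂ g₁ g₂ hg₁ hg₂ e
  obtain ⟨c, p, q, hc⟩ := hmeet S Y₁ Y₂
  have hb : @Eq (X.base ⟶ S) f₁.base f₂.base := by
    have := congrArg Hom.base e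
    simp only [categoryStruct_comp_base, ι_map_base] at this
    exact (Category.comp_id (Y := S) f₁.base).symm.trans (this.trans (Category.comp_id (Y := S) f₂.base))
  obtain ⟨θ, φ₁⟩ := f₁
  obtain ⟨θ', φ₂⟩ := f₂
  dsimp at hb
  subst hb
  obtain ⟨k⟩ := hc θ X.fiber φ₁ φ₂
  let f₀ : X ⟶ (ι F S).obj c := ⟨θ, k⟩
  have e1 : (⟨θ, φ₁⟩ : X ⟶ (ι F S).obj Y₁) = f₀ ≫ (ι F S).map p := by
    apply TotCov.hom_ext'
    exact (Category.comp_id θ).symm
  have e2 : (⟨θ, φ₂⟩ : X ⟶ (ι F S).obj Y₂) = f₀ ≫ (ι F S).map q := by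
    apply TotCov.hom_ext'
    exact (Category.comp_id θ).symm
  rw [e1, e2, op_comp, op_comp, Functor.map_comp, Functor.map_comp]
  have := hx p q hg₁ hg₂ (Subsingleton.elim _ _)
  dsimp at this ⊢
  rw [this]

include hmeet in
lemma isContinuous_ι (S : 𝒮) : (ι F S).IsContinuous (J S) (FibSite.totalTopology F J) :=
  Functor.isContinuous_of_coverPreserving (compatiblePreserving_ι F J hmeet S)
    (coverPreserving_ι F J S)

variable (hcov : ∀ ⦃R S : 𝒮⦄ (f : R ⟶ S) (U : F.obj ⟨op S⟩) (R₀ : Sieve U), R₀ ∈ J S U →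
  R₀.functorPushforward (FibSite.invImage F f) ∈ J R ((FibSite.invImage F f).obj U))

include hcov in
lemma isCocontinuous_ι (S : 𝒮) : (ι F S).IsCocontinuous (J S) (FibSite.totalTopology F J) where
  cover_lift {U} R hR := by
    obtain ⟨R₀, hR₀, h⟩ := TotCov.isLoc_of_mem F J hcov hR
    refine (J S).superset_covering ?_ hR₀
    intro V v hv
    exact h v hv

end generic

section top

open FibDesc TopologicalSpace

universe u

variable {D : Type} [SmallCategory D] (Y : (WithInitial D)ᵒᵖ ⥤ TopCat.{u})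

/-- the unique map to the base point -/
def toBot (s : (WithInitial D)ᵒᵖ) : s ⟶ bot D := (WithInitial.starInitial.to s.unop).op

lemma toBot_ext {s : (WithInitial D)ᵒᵖ} (f g : s ⟶ bot D) : f = g :=
  Quiver.Hom.unop_inj (WithInitial.starInitial.hom_ext _ _)

lemma hasMeets_aug : HasMeets (topAug Y) := by
  intro s a b
  let a' : Opens (Y.obj s) := a
  let b' : Opens (Y.obj s) := b
  let c' : Opens (Y.obj s) := a' ⊓ b'
  let p : c' ⟶ a' := homOfLE inf_le_left
  let q : c' ⟶ b' := homOfLE inf_le_right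
  refine ⟨c', p, q, ?_⟩
  intro r θ x h1 h2
  let x' : Opens (Y.obj r) := x
  have h1' : x' ≤ (Opens.map (Y.map θ)).obj a' :=
    leOfHom (show x' ⟶ (Opens.map (Y.map θ)).obj a' from h1)
  have h2' : x' ≤ (Opens.map (Y.map θ)).obj b' :=
    leOfHom (show x' ⟶ (Opens.map (Y.map θ)).obj b' from h2)
  have h3 : x' ≤ (Opens.map (Y.map θ)).obj c' := fun y hy => ⟨h1' hy, h2' hy⟩
  exact ⟨show x' ⟶ (Opens.map (Y.map θ)).obj c' from homOfLE h3⟩

lemma hasMeets_part : HasMeets (part (topAug Y)) := by
  intro s a b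
  let a' : Opens (Y.obj ((toAug D).obj s)) := a
  let b' : Opens (Y.obj ((toAug D).obj s)) := b
  let c' : Opens (Y.obj ((toAug D).obj s)) := a' ⊓ b'
  let p : c' ⟶ a' := homOfLE inf_le_left
  let q : c' ⟶ b' := homOfLE inf_le_right
  refine ⟨c', p, q, ?_⟩
  intro r θ x h1 h2
  let x' : Opens (Y.obj ((toAug D).obj r)) := x
  have h1' : x' ≤ (Opens.map (Y.map ((toAug D).map θ))).obj a' :=
    leOfHom (show x' ⟶ (Opens.map (Y.map ((toAug D).map θ))).obj a' from h1)
  have h2' : x' ≤ (Opens.map (Y.map ((toAug D).map θ))).obj b' :=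
    leOfHom (show x' ⟶ (Opens.map (Y.map ((toAug D).map θ))).obj b' from h2)
  have h3 : x' ≤ (Opens.map (Y.map ((toAug D).map θ))).obj c' := fun y hy => ⟨h1' hy, h2' hy⟩
  exact ⟨show x' ⟶ (Opens.map (Y.map ((toAug D).map θ))).obj c' from homOfLE h3⟩

instance isContinuous_ι_aug (s : (WithInitial D)ᵒᵖ) :
    (ι (topAug Y) s).IsContinuous (topAugTop Y s) (totAug (topAug Y) (topAugTop Y)) :=
  isContinuous_ι (topAug Y) (topAugTop Y) (hasMeets_aug Y) s

instance isCocontinuous_ι_aug (s : (WithInitial D)ᵒᵖ) :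
    (ι (topAug Y) s).IsCocontinuous (topAugTop Y s) (totAug (topAug Y) (topAugTop Y)) :=
  isCocontinuous_ι (topAug Y) (topAugTop Y) (TotApi.hcovAug Y) s

instance isContinuous_ι_part (s : Dᵒᵖ) :
    (ι (part (topAug Y)) s).IsContinuous (partTop (topAug Y) (topAugTop Y) s)
      (totPart (topAug Y) (topAugTop Y)) :=
  isContinuous_ι (part (topAug Y)) (partTop (topAug Y) (topAugTop Y)) (hasMeets_part Y) s

instance isCocontinuous_ι_part (s : Dᵒᵖ) :
    (ι (part (topAug Y)) s).IsCocontinuous (partTop (topAug Y) (topAugTop Y) s)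
      (totPart (topAug Y) (topAugTop Y)) :=
  isCocontinuous_ι (part (topAug Y)) (partTop (topAug Y) (topAugTop Y)) (TotApi.hcovPart Y) s

instance isContinuous_eps :
    (eps (topAug Y)).IsContinuous (topAugTop Y (bot D)) (totAug (topAug Y) (topAugTop Y)) :=
  isContinuous_ι_aug Y (bot D)

instance faithful_incl : (incl (topAug Y)).Faithful where
  map_injective {X X'} f g h := by
    apply TotCov.hom_ext'
    have := congrArg Hom.base h
    exact (toAug D).map_injective this

instance full_incl : (incl (topAug Y)).Full where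
  map_surjective {X X'} h := by
    let W : Opens (Y.obj ((toAug D).obj X.base)) := X.fiber
    let W' : Opens (Y.obj ((toAug D).obj X'.base)) := X'.fiber
    have h1 : W ≤ (Opens.map (Y.map h.base)).obj W' :=
      leOfHom (show W ⟶ (Opens.map (Y.map h.base)).obj W' from h.fiber)
    have h2 : W ≤ (Opens.map (Y.map ((toAug D).map ((toAug D).preimage h.base)))).obj W' := by
      rw [Functor.map_preimage]
      exact h1
    let k : X ⟶ X' := ⟨(toAug D).preimage h.base,
      show W ⟶ (Opens.map (Y.map ((toAug D).map ((toAug D).preimage h.base)))).obj W' from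
        homOfLE h2⟩
    refine ⟨k, ?_⟩
    apply TotCov.hom_ext'
    exact Functor.map_preimage (toAug D) h.base

/-- objects over an object of the part come from the part -/
noncomputable def downwardsClosed {c : ∫ᶜ (part (topAug Y))} {d : ∫ᶜ (topAug Y)}
    (f : d ⟶ (incl (topAug Y)).obj c) : Σ c', (incl (topAug Y)).obj c' ≅ d :=
  match d, f with
  | ⟨op (WithInitial.of x), W⟩, _ => ⟨⟨op x, W⟩, Iso.refl _⟩
  | ⟨op WithInitial.star, W⟩, f => (f.base.unop : PEmpty).elim

lemma coverPreserving_incl :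
    CoverPreserving (totPart (topAug Y) (topAugTop Y)) (totAug (topAug Y) (topAugTop Y))
      (incl (topAug Y)) := by
  constructor
  intro X R hR
  obtain ⟨R₀, hR₀, h⟩ := TotCov.isLoc_of_mem (part (topAug Y)) (partTop (topAug Y) (topAugTop Y))
    (TotApi.hcovPart Y) hR
  have h1 : R₀.functorPushforward (ι (topAug Y) ((toAug D).obj X.base)) ∈
      totAug (topAug Y) (topAugTop Y) ((ι (topAug Y) ((toAug D).obj X.base)).obj X.fiber) :=
    FibSite.functorPushforward_mem_totalTopology hR₀
  refine (totAug (topAug Y) (topAugTop Y)).superset_covering ?_ h1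
  rintro Z f ⟨V, v, w, hv, rfl⟩
  refine ⟨(ι (part (topAug Y)) X.base).obj V, (ι (part (topAug Y)) X.base).map v, w, h v hv, ?_⟩
  congr 1

instance isContinuous_incl :
    (incl (topAug Y)).IsContinuous (totPart (topAug Y) (topAugTop Y))
      (totAug (topAug Y) (topAugTop Y)) :=
  Functor.isContinuous_of_coverPreserving
    (compatiblePreservingOfDownwardsClosed (K := totAug (topAug Y) (topAugTop Y)) (incl (topAug Y))
      (fun f => downwardsClosed Y f))
    (coverPreserving_incl Y)

instance isCocontinuous_incl :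
    (incl (topAug Y)).IsCocontinuous (totPart (topAug Y) (topAugTop Y))
      (totAug (topAug Y) (topAugTop Y)) where
  cover_lift {U} R hR := by
    obtain ⟨R₀, hR₀, h⟩ := TotCov.isLoc_of_mem (topAug Y) (topAugTop Y) (TotApi.hcovAug Y) hR
    apply TotCov.mem_of_isLoc
    refine ⟨R₀, hR₀, ?_⟩
    intro V v hv
    show R ((incl (topAug Y)).map ((ι (part (topAug Y)) U.base).map v))
    have : (incl (topAug Y)).map ((ι (part (topAug Y)) U.base).map v) =
        (ι (topAug Y) ((toAug D).obj U.base)).map v := by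
      apply TotCov.hom_ext'
      exact (toAug D).map_id _
    rw [this]
    exact h v hv

/-- the structured arrow of an open containing the image -/
noncomputable def saMk (X : ∫ᶜ (topAug Y)) (V : Opens (Y.obj (bot D)))
    (h : (show Opens (Y.obj X.base) from X.fiber) ≤ (Opens.map (Y.map (toBot X.base))).obj V) :
    StructuredArrow X (eps (topAug Y)) :=
  StructuredArrow.mk (Y := (show (topAug Y).obj ⟨op (bot D)⟩ from V))
    (⟨toBot X.base, show (show Opens (Y.obj X.base) from X.fiber) ⟶
      (Opens.map (Y.map (toBot X.base))).obj V from homOfLE h⟩ : X ⟶ (eps (topAug Y)).obj V)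

lemma sa_le (X : ∫ᶜ (topAug Y)) (A : StructuredArrow X (eps (topAug Y))) :
    (show Opens (Y.obj X.base) from X.fiber) ≤
      (Opens.map (Y.map (toBot X.base))).obj (show Opens (Y.obj (bot D)) from A.right) := by
  have h1 : (show Opens (Y.obj X.base) from X.fiber) ≤
      (Opens.map (Y.map A.hom.base)).obj (show Opens (Y.obj (bot D)) from A.right) :=
    leOfHom (show (show Opens (Y.obj X.base) from X.fiber) ⟶
      (Opens.map (Y.map A.hom.base)).obj (show Opens (Y.obj (bot D)) from A.right) from A.hom.fiber)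
  have : A.hom.base = toBot X.base := toBot_ext _ _
  rw [this] at h1
  exact h1

lemma sa_hom_ext (X : ∫ᶜ (topAug Y)) {A B : StructuredArrow X (eps (topAug Y))} (f g : A ⟶ B) :
    f = g := by
  apply StructuredArrow.ext
  exact Subsingleton.elim (α := (show Opens (Y.obj (bot D)) from A.right) ⟶
    (show Opens (Y.obj (bot D)) from B.right)) _ _

noncomputable def saHom (X : ∫ᶜ (topAug Y)) (A B : StructuredArrow X (eps (topAug Y)))
    (h : (show Opens (Y.obj (bot D)) from A.right) ≤ (show Opens (Y.obj (bot D)) from B.right)) :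
    A ⟶ B :=
  StructuredArrow.homMk (show (show Opens (Y.obj (bot D)) from A.right) ⟶
    (show Opens (Y.obj (bot D)) from B.right) from homOfLE h) (by
      apply TotCov.hom_ext'
      exact toBot_ext _ _)

instance representablyFlat_eps : RepresentablyFlat (eps (topAug Y)) where
  cofiltered X :=
    { nonempty := ⟨saMk Y X ⊤ (fun _ _ => trivial)⟩
      cone_objs := fun A B => by
        let C := saMk Y X ((show Opens (Y.obj (bot D)) from A.right) ⊓
          (show Opens (Y.obj (bot D)) from B.right))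
          (fun y hy => ⟨sa_le Y X A hy, sa_le Y X B hy⟩)
        exact ⟨C, saHom Y X C A inf_le_left, saHom Y X C B inf_le_right, trivial⟩
      cone_maps := fun A B f g => ⟨A, 𝟙 A, sa_hom_ext Y X _ _⟩ }

instance preservesFiniteLimits_pull :
    PreservesFiniteLimits (pull (topAug Y) (topAugTop Y) AddCommGrpCat.{u}) := by
  haveI : PreservesFiniteLimits (FibSite.extend (topAug Y) (topAugTop Y) AddCommGrpCat.{u} (bot D)) :=
    Functor.sheafPullbackConstruction.preservesFiniteLimits _ _ _ _
  haveI : PreservesFiniteLimits ((incl (topAug Y)).sheafPushforwardContinuous AddCommGrpCat.{u}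
      (totPart (topAug Y) (topAugTop Y)) (totAug (topAug Y) (topAugTop Y))) := inferInstance
  exact comp_preservesFiniteLimits _ _

end top

end TotSide

end Groth.Agent.Lib.helper27
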