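import Mathlib
import Groth.Prelude.Def_FibDesc
import Groth.Agent.Lib.Helper27.TotSide
import Groth.Agent.Lib.Helper27.TotSheaf
import Groth.Agent.Lib.Helper27.BigSec

set_option autoImplicit false
set_option linter.unusedSectionVars false
set_option linter.unusedVariables false
set_option linter.style.haveILetI false
set_option backward.isDefEq.respectTransparency false
set_option backward.isDefEq.respectTransparency.types false

namespace Groth.Agent.Lib.helper27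

open CategoryTheory Limits Opposite Pseudofunctor Pseudofunctor.CoGrothendieck
open FibDesc TopologicalSpace

universe u

namespace TAug

open BigSec TotSide

variable {D : Type} [SmallCategory D] (Y : (WithInitial D)ᵒᵖ ⥤ TopCat.{u})

/-- the augmentation maps -/
abbrev aMap (s : (WithInitial D)ᵒᵖ) : Y.obj s ⟶ Y.obj (bot D) := Y.map (toBot s)

lemma aMap_comp {s t : (WithInitial D)ᵒᵖ} (θ : s ⟶ t) : Y.map θ ≫ aMap Y t = aMap Y s := by
  rw [aMap, aMap, ← Y.map_comp]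
  congr 1

/-- the fibre component as an open subset -/
abbrev fibA (X : ∫ᶜ (topAug Y)) : Opens (Y.obj X.base) := X.fiber

lemma fib_le {X X' : ∫ᶜ (topAug Y)} (f : X ⟶ X') :
    fibA Y X ≤ (Opens.map (Y.map f.base)).obj (fibA Y X') :=
  leOfHom (show fibA Y X ⟶ (Opens.map (Y.map f.base)).obj (fibA Y X') from f.fiber)

/-- objects of the total category -/
abbrev taOb (s : (WithInitial D)ᵒᵖ) (W : Opens (Y.obj s)) : ∫ᶜ (topAug Y) := ⟨s, W⟩

/-- morphisms of the total category -/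
abbrev taHom {s s' : (WithInitial D)ᵒᵖ} (θ : s' ⟶ s) {W : Opens (Y.obj s)} {W' : Opens (Y.obj s')}
    (h : W' ≤ (Opens.map (Y.map θ)).obj W) : taOb Y s' W' ⟶ taOb Y s W :=
  ⟨θ, show W' ⟶ (Opens.map (Y.map θ)).obj W from homOfLE h⟩

/-- the functor to the big site of the base -/
noncomputable def ta : ∫ᶜ (topAug Y) ⥤ BigOb (Y.obj (bot D)) where
  obj X := ⟨Over.mk (aMap Y X.base), fibA Y X⟩
  map {X X'} f := mkHom (P := ⟨Over.mk (aMap Y X.base), fibA Y X⟩)
    (Q := ⟨Over.mk (aMap Y X'.base), fibA Y X'⟩)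
    (Over.homMk (Y.map f.base) (aMap_comp Y f.base)) (fib_le Y f)
  map_id X := by
    apply BigSec.hom_ext
    apply Over.OverMorphism.ext
    exact Y.map_id _
  map_comp f g := by
    apply BigSec.hom_ext
    apply Over.OverMorphism.ext
    exact Y.map_comp _ _

variable (G : CohTop.Ab (Y.obj (bot D)))

/-- the presheaf of the family of pullbacks -/
noncomputable def Tpre : (∫ᶜ (topAug Y))ᵒᵖ ⥤ AddCommGrpCat.{u} := (ta Y).op ⋙ OvSec G

lemma θsec_of_eq_id {S Z : TopCat.{u}} (G : CohTop.Ab S) (g : Z ⟶ Z) (hg : g = 𝟙 Z) (a : Z ⟶ S)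
    (w : g ≫ a = a) {W W' : Opens Z} (h : W' ≤ (Opens.map g).obj W) (h' : W' ≤ W) :
    θsec G g a a w W ≫ ((CohTop.pull a).obj G).obj.map (homOfLE h).op =
      ((CohTop.pull a).obj G).obj.map (homOfLE h').op := by
  subst hg
  rw [θsec_id]
  exact Category.id_comp _

/-- the restriction of `Tpre` to a fibre -/
noncomputable def fibIso (s : (WithInitial D)ᵒᵖ) :
    (ι (topAug Y) s).op ⋙ Tpre Y G ≅ ((CohTop.pull (aMap Y s)).obj G).obj :=
  NatIso.ofComponents (fun W => Iso.refl _) (by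
    intro W W' i
    have h1 : ((ι (topAug Y) s).op ⋙ Tpre Y G).map i =
        ((CohTop.pull (aMap Y s)).obj G).obj.map i :=
      θsec_of_eq_id G (Y.map (𝟙 s)) (Y.map_id s) (aMap Y s) _ _
        (leOfHom (show (W'.unop : Opens (Y.obj s)) ⟶ (W.unop : Opens (Y.obj s)) from i.unop))
    rw [h1]
    exact (Category.comp_id _).trans (Category.id_comp _).symm)

lemma isSheaf_Tpre : Presheaf.IsSheaf (totAug (topAug Y) (topAugTop Y)) (Tpre Y G) := by
  apply TotSheaf.isSheaf (topAug Y) (topAugTop Y) (TotApi.hcovAug Y)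
  intro s
  exact (Presheaf.isSheaf_of_iso_iff (fibIso Y G s)).2 ((CohTop.pull (aMap Y s)).obj G).property

/-- the sheaf of the family of pullbacks on the total site -/
noncomputable def Taug : Sheaf (totAug (topAug Y) (topAugTop Y)) AddCommGrpCat.{u} :=
  ⟨Tpre Y G, isSheaf_Tpre Y G⟩

section universal

/-- restriction to a fibre, as a sheaf on the space -/
noncomputable abbrev restrS (s : (WithInitial D)ᵒᵖ)
    (N : Sheaf (totAug (topAug Y) (topAugTop Y)) AddCommGrpCat.{u}) : CohTop.Ab (Y.obj s) :=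
  (FibSite.restr (topAug Y) (topAugTop Y) AddCommGrpCat.{u} s).obj N

lemma hbot : aMap Y (bot D) = 𝟙 _ := by
  rw [aMap, toBot_ext (toBot (bot D)) (𝟙 _), Y.map_id]

lemma le_bot (V : Opens (Y.obj (bot D))) : V ≤ (Opens.map (aMap Y (bot D))).obj V := by
  rw [hbot]
  exact le_rfl

/-- the cartesian morphism over the map to the base point -/
abbrev cartB (s : (WithInitial D)ᵒᵖ) (V : Opens (Y.obj (bot D))) :
    taOb Y s ((Opens.map (aMap Y s)).obj V) ⟶ taOb Y (bot D) V :=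
  taHom Y (toBot s) le_rfl

lemma map_comp_op (N : Sheaf (totAug (topAug Y) (topAugTop Y)) AddCommGrpCat.{u})
    {X₁ X₂ X₃ : ∫ᶜ (topAug Y)} (f : X₁ ⟶ X₂) (g : X₂ ⟶ X₃) (h : X₁ ⟶ X₃)
    (hb : f.base ≫ g.base = h.base) :
    N.obj.map g.op ≫ N.obj.map f.op = N.obj.map h.op := by
  rw [← Functor.map_comp, ← op_comp]
  congr 2
  exact TotCov.hom_ext' _ _ _ hb

/-- the unit of the universal property -/
noncomputable def uG : G ⟶ restrS Y (bot D) (Taug Y G) where
  hom :=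
    { app := fun V => ρ (aMap Y (bot D)) G V.unop ≫
        ((CohTop.pull (aMap Y (bot D))).obj G).obj.map (homOfLE (le_bot Y V.unop)).op
      naturality := by
        intro V V' i
        have h1 : (restrS Y (bot D) (Taug Y G)).obj.map i =
            ((CohTop.pull (aMap Y (bot D))).obj G).obj.map i :=
          θsec_of_eq_id G (Y.map (𝟙 (bot D))) (Y.map_id _) (aMap Y (bot D)) _ _
            (leOfHom i.unop)
        rw [h1]
        have h2 := ρ_res (aMap Y (bot D)) G i.unop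
        rw [← Category.assoc]
        erw [h2]
        rw [Category.assoc, Category.assoc, ← Functor.map_comp, ← Functor.map_comp]
        rfl }

lemma Tpre_map_ι (s : (WithInitial D)ᵒᵖ) {W W' : (Opens (Y.obj s))ᵒᵖ} (i : W ⟶ W') :
    (Tpre Y G).map ((ι (topAug Y) s).map i.unop).op =
      ((CohTop.pull (aMap Y s)).obj G).obj.map i :=
  θsec_of_eq_id G (Y.map (𝟙 s)) (Y.map_id s) (aMap Y s) _ _ (leOfHom i.unop)

lemma Tpre_map (X X' : ∫ᶜ (topAug Y)) (f : X' ⟶ X) :
    (Tpre Y G).map f.op =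
      θsec G (Y.map f.base) (aMap Y X.base) (aMap Y X'.base) (aMap_comp Y f.base) (fibA Y X) ≫
        ((CohTop.pull (aMap Y X'.base)).obj G).obj.map (homOfLE (fib_le Y f)).op := rfl

variable (N : Sheaf (totAug (topAug Y) (topAugTop Y)) AddCommGrpCat.{u})

/-- the restriction of a morphism to a fibre -/
noncomputable def fibHom (β : Taug Y G ⟶ N) (s : (WithInitial D)ᵒᵖ) :
    (CohTop.pull (aMap Y s)).obj G ⟶ restrS Y s N where
  hom :=
    { app := fun W => β.hom.app (op (taOb Y s W.unop))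
      naturality := by
        intro W W' i
        have := β.hom.naturality ((ι (topAug Y) s).map i.unop).op
        have h1 := Tpre_map_ι Y G s i
        rw [← h1]
        exact this }

/-- the key identity -/
lemma key (β : Taug Y G ⟶ N) (s : (WithInitial D)ᵒᵖ) (V : Opens (Y.obj (bot D))) :
    ρ (aMap Y s) G V ≫ β.hom.app (op (taOb Y s ((Opens.map (aMap Y s)).obj V))) =
      (uG Y G ≫ (FibSite.restr (topAug Y) (topAugTop Y) AddCommGrpCat.{u} (bot D)).map β).hom.app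
        (op V) ≫ N.obj.map (cartB Y s V).op := by
  let F₀ := ((CohTop.pull (aMap Y (bot D))).obj G).obj
  let F := ((CohTop.pull (aMap Y s)).obj G).obj
  let V₀ : Opens (Y.obj (bot D)) := (Opens.map (aMap Y (bot D))).obj V
  let W : Opens (Y.obj s) := (Opens.map (aMap Y s)).obj V
  let W₀ : Opens (Y.obj s) := (Opens.map (aMap Y s)).obj V₀
  have hle : W₀ ≤ W := by
    intro y hy
    have : (aMap Y (bot D)) ((aMap Y s) y) ∈ V := hy
    rw [hbot] at this
    exact this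
  let ρ₀ : G.obj.obj (op V) ⟶ F₀.obj (op V₀) := ρ (aMap Y (bot D)) G V
  let ρ₁ : G.obj.obj (op V) ⟶ F.obj (op W) := ρ (aMap Y s) G V
  let r₀ : F₀.obj (op V₀) ⟶ F₀.obj (op V) := F₀.map (homOfLE (le_bot Y V)).op
  let T : F₀.obj (op V) ⟶ F.obj (op W) :=
    θsec G (aMap Y s) (aMap Y (bot D)) (aMap Y s) (aMap_comp Y (toBot s)) V
  let T' : F₀.obj (op V₀) ⟶ F.obj (op W₀) :=
    θsec G (aMap Y s) (aMap Y (bot D)) (aMap Y s) (aMap_comp Y (toBot s)) V₀
  let r₁ : F.obj (op W₀) ⟶ F.obj (op W) :=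
    F.map ((Opens.map (aMap Y s)).map (homOfLE (le_bot Y V))).op
  let r₂ : F.obj (op W) ⟶ F.obj (op W₀) := F.map (homOfLE hle).op
  let r₃ : F.obj (op W) ⟶ F.obj (op W) :=
    F.map (homOfLE (fib_le Y (cartB Y s V))).op
  let b₀ : F₀.obj (op V) ⟶ N.obj.obj (op (taOb Y (bot D) V)) := β.hom.app (op (taOb Y (bot D) V))
  let b : F.obj (op W) ⟶ N.obj.obj (op (taOb Y s W)) := β.hom.app (op (taOb Y s W))
  let Nc : N.obj.obj (op (taOb Y (bot D) V)) ⟶ N.obj.obj (op (taOb Y s W)) :=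
    N.obj.map (cartB Y s V).op
  have e1 : r₀ ≫ T = T' ≫ r₁ :=
    θsec_naturality G (aMap Y s) (aMap Y (bot D)) (aMap Y s)
      (aMap_comp Y (toBot s)) (homOfLE (le_bot Y V))
  have e2 : ρ₀ ≫ T' = ρ₁ ≫ r₂ :=
    ρ_θsec G (aMap Y s) (aMap Y (bot D)) (aMap Y s) (aMap_comp Y (toBot s)) V hle
  have e3 : (T ≫ r₃) ≫ b = b₀ ≫ Nc := β.hom.naturality (cartB Y s V).op
  have e4 : r₂ ≫ r₁ ≫ r₃ = 𝟙 _ := by
    show F.map _ ≫ F.map _ ≫ F.map _ = 𝟙 _
    rw [← Functor.map_comp, ← Functor.map_comp]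
    exact CategoryTheory.Functor.map_id _ _
  have : ((ρ₀ ≫ r₀) ≫ b₀) ≫ Nc = ρ₁ ≫ b := by
    calc ((ρ₀ ≫ r₀) ≫ b₀) ≫ Nc = (ρ₀ ≫ r₀) ≫ (b₀ ≫ Nc) := Category.assoc _ _ _
      _ = (ρ₀ ≫ r₀) ≫ ((T ≫ r₃) ≫ b) := by rw [e3]
      _ = ρ₀ ≫ (r₀ ≫ T) ≫ r₃ ≫ b := by simp only [Category.assoc]
      _ = ρ₀ ≫ (T' ≫ r₁) ≫ r₃ ≫ b := by rw [e1]
      _ = (ρ₀ ≫ T') ≫ r₁ ≫ r₃ ≫ b := by simp only [Category.assoc]
      _ = (ρ₁ ≫ r₂) ≫ r₁ ≫ r₃ ≫ b := by rw [e2]
      _ = ρ₁ ≫ (r₂ ≫ r₁ ≫ r₃) ≫ b := by simp only [Category.assoc]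
      _ = ρ₁ ≫ b := by rw [e4, Category.id_comp]
  exact this.symm

/-- the map of the universal property -/
noncomputable def ΦN (β : Taug Y G ⟶ N) : G ⟶ restrS Y (bot D) N :=
  uG Y G ≫ (FibSite.restr (topAug Y) (topAugTop Y) AddCommGrpCat.{u} (bot D)).map β

lemma ΦN_injective : Function.Injective (ΦN Y G N) := by
  intro β β' h
  have hfib : ∀ s, fibHom Y G N β s = fibHom Y G N β' s := by
    intro s
    apply pull_hom_ext
    intro V
    have k1 := key Y G N β s V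
    have k2 := key Y G N β' s V
    have h' : (uG Y G ≫ (FibSite.restr (topAug Y) (topAugTop Y) AddCommGrpCat.{u}
        (bot D)).map β) = (uG Y G ≫ (FibSite.restr (topAug Y) (topAugTop Y) AddCommGrpCat.{u}
        (bot D)).map β') := h
    rw [h'] at k1
    exact k1.trans k2.symm
  apply Sheaf.hom_ext
  apply NatTrans.ext
  funext X
  have := congrArg (fun m => m.hom.app (op (fibA Y X.unop))) (hfib X.unop.base)
  exact this

/-- the transition maps of a sheaf on the total site towards the base point -/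
noncomputable def νs (s : (WithInitial D)ᵒᵖ) :
    restrS Y (bot D) N ⟶ (CohTop.push (aMap Y s)).obj (restrS Y s N) where
  hom :=
    { app := fun V => N.obj.map (cartB Y s V.unop).op
      naturality := by
        intro V V' i
        show N.obj.map ((ι (topAug Y) (bot D)).map i.unop).op ≫ N.obj.map (cartB Y s V'.unop).op =
          N.obj.map (cartB Y s V.unop).op ≫
            N.obj.map ((ι (topAug Y) s).map ((Opens.map (aMap Y s)).map i.unop)).op
        rw [map_comp_op Y N (cartB Y s V'.unop) ((ι (topAug Y) (bot D)).map i.unop)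
          (taHom Y (toBot s) (fun y hy => leOfHom i.unop hy)) (toBot_ext _ _),
          map_comp_op Y N ((ι (topAug Y) s).map ((Opens.map (aMap Y s)).map i.unop))
          (cartB Y s V.unop) (taHom Y (toBot s) (fun y hy => leOfHom i.unop hy)) (toBot_ext _ _)] }

variable (φ : G ⟶ restrS Y (bot D) N)

/-- the components of the morphism attached to `φ` -/
noncomputable def ψs (s : (WithInitial D)ᵒᵖ) : (CohTop.pull (aMap Y s)).obj G ⟶ restrS Y s N :=
  ((PullConst.pbAdj (aMap Y s)).homEquiv G _).symm (φ ≫ νs Y N s)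

lemma ρ_ψs (s : (WithInitial D)ᵒᵖ) (V : Opens (Y.obj (bot D))) :
    ρ (aMap Y s) G V ≫ (ψs Y G N φ s).hom.app (op ((Opens.map (aMap Y s)).obj V)) =
      φ.hom.app (op V) ≫ N.obj.map (cartB Y s V).op := by
  have h1 := ((PullConst.pbAdj (aMap Y s)).homEquiv G _).apply_symm_apply (φ ≫ νs Y N s)
  rw [Adjunction.homEquiv_unit] at h1
  exact congrArg (fun m => m.hom.app (op V)) h1

/-- vertical morphisms -/
noncomputable abbrev vert (s : (WithInitial D)ᵒᵖ) {W W' : Opens (Y.obj s)} (h : W' ≤ W) :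
    taOb Y s W' ⟶ taOb Y s W :=
  (ι (topAug Y) s).map (show (W' : Opens (Y.obj s)) ⟶ W from homOfLE h)

/-- the cartesian morphism over `θ` -/
abbrev cartθ {s s' : (WithInitial D)ᵒᵖ} (θ : s' ⟶ s) (W : Opens (Y.obj s)) :
    taOb Y s' ((Opens.map (Y.map θ)).obj W) ⟶ taOb Y s W :=
  taHom Y θ le_rfl

/-- the transition maps of a sheaf on the total site -/
noncomputable def μθ {s s' : (WithInitial D)ᵒᵖ} (θ : s' ⟶ s) :
    restrS Y s N ⟶ (CohTop.push (Y.map θ)).obj (restrS Y s' N) where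
  hom :=
    { app := fun W => N.obj.map (cartθ Y θ W.unop).op
      naturality := by
        intro W W' i
        show N.obj.map ((ι (topAug Y) s).map i.unop).op ≫ N.obj.map (cartθ Y θ W'.unop).op =
          N.obj.map (cartθ Y θ W.unop).op ≫
            N.obj.map ((ι (topAug Y) s').map ((Opens.map (Y.map θ)).map i.unop)).op
        rw [map_comp_op Y N (cartθ Y θ W'.unop) ((ι (topAug Y) s).map i.unop)
          (taHom Y θ (fun y hy => leOfHom i.unop hy)) (Category.comp_id _),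
          map_comp_op Y N ((ι (topAug Y) s').map ((Opens.map (Y.map θ)).map i.unop))
          (cartθ Y θ W.unop) (taHom Y θ (fun y hy => leOfHom i.unop hy)) (Category.id_comp _)] }

lemma L_eq {s s' : (WithInitial D)ᵒᵖ} (θ : s' ⟶ s) :
    PullFunTop.θ G (Y.map θ) (aMap Y s) (aMap Y s') (aMap_comp Y θ) ≫
        (CohTop.push (Y.map θ)).map (ψs Y G N φ s') =
      ψs Y G N φ s ≫ μθ Y N θ := by
  apply pull_hom_ext
  intro V
  let Fs := ((CohTop.pull (aMap Y s)).obj G).obj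
  let Fs' := ((CohTop.pull (aMap Y s')).obj G).obj
  let W : Opens (Y.obj s) := (Opens.map (aMap Y s)).obj V
  let W' : Opens (Y.obj s') := (Opens.map (Y.map θ)).obj W
  let W'' : Opens (Y.obj s') := (Opens.map (aMap Y s')).obj V
  have hle : W' ≤ W'' := by
    intro y hy
    have h1 : (aMap Y s) ((Y.map θ) y) ∈ V := hy
    have h2 : (Y.map θ ≫ aMap Y s) y ∈ V := h1
    rw [aMap_comp] at h2
    exact h2
  let ρs : G.obj.obj (op V) ⟶ Fs.obj (op W) := ρ (aMap Y s) G V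
  let ρs' : G.obj.obj (op V) ⟶ Fs'.obj (op W'') := ρ (aMap Y s') G V
  let T : Fs.obj (op W) ⟶ Fs'.obj (op W') :=
    θsec G (Y.map θ) (aMap Y s) (aMap Y s') (aMap_comp Y θ) W
  let r : Fs'.obj (op W'') ⟶ Fs'.obj (op W') := Fs'.map (homOfLE hle).op
  let p' : Fs'.obj (op W') ⟶ N.obj.obj (op (taOb Y s' W')) := (ψs Y G N φ s').hom.app (op W')
  let p'' : Fs'.obj (op W'') ⟶ N.obj.obj (op (taOb Y s' W'')) := (ψs Y G N φ s').hom.app (op W'')
  let p : Fs.obj (op W) ⟶ N.obj.obj (op (taOb Y s W)) := (ψs Y G N φ s).hom.app (op W)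
  let n1 : N.obj.obj (op (taOb Y s' W'')) ⟶ N.obj.obj (op (taOb Y s' W')) :=
    N.obj.map (vert Y s' hle).op
  let c' : N.obj.obj (op (taOb Y (bot D) V)) ⟶ N.obj.obj (op (taOb Y s' W'')) :=
    N.obj.map (cartB Y s' V).op
  let c : N.obj.obj (op (taOb Y (bot D) V)) ⟶ N.obj.obj (op (taOb Y s W)) :=
    N.obj.map (cartB Y s V).op
  let cθ : N.obj.obj (op (taOb Y s W)) ⟶ N.obj.obj (op (taOb Y s' W')) :=
    N.obj.map (cartθ Y θ W).op
  let f : G.obj.obj (op V) ⟶ N.obj.obj (op (taOb Y (bot D) V)) := φ.hom.app (op V)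
  have e1 : ρs ≫ T = ρs' ≫ r := ρ_θsec G (Y.map θ) (aMap Y s) (aMap Y s') (aMap_comp Y θ) V hle
  have e2 : r ≫ p' = p'' ≫ n1 := (ψs Y G N φ s').hom.naturality (homOfLE hle).op
  have e3 : ρs' ≫ p'' = f ≫ c' := ρ_ψs Y G N φ s' V
  have e4 : ρs ≫ p = f ≫ c := ρ_ψs Y G N φ s V
  have e5 : c' ≫ n1 = c ≫ cθ := by
    show N.obj.map _ ≫ N.obj.map _ = N.obj.map _ ≫ N.obj.map _
    rw [map_comp_op Y N (vert Y s' hle) (cartB Y s' V)
      (taHom Y (toBot s') hle) (toBot_ext _ _),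
      map_comp_op Y N (cartθ Y θ W) (cartB Y s V) (taHom Y (toBot s') hle) (toBot_ext _ _)]
  have : ρs ≫ (T ≫ p') = ρs ≫ (p ≫ cθ) := by
    calc ρs ≫ (T ≫ p') = (ρs ≫ T) ≫ p' := (Category.assoc _ _ _).symm
      _ = (ρs' ≫ r) ≫ p' := by rw [e1]
      _ = ρs' ≫ (r ≫ p') := Category.assoc _ _ _
      _ = ρs' ≫ (p'' ≫ n1) := by rw [e2]
      _ = (ρs' ≫ p'') ≫ n1 := (Category.assoc _ _ _).symm
      _ = (f ≫ c') ≫ n1 := by rw [e3]
      _ = f ≫ (c' ≫ n1) := Category.assoc _ _ _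
      _ = f ≫ (c ≫ cθ) := by rw [e5]
      _ = (f ≫ c) ≫ cθ := (Category.assoc _ _ _).symm
      _ = (ρs ≫ p) ≫ cθ := by rw [e4]
      _ = ρs ≫ (p ≫ cθ) := Category.assoc _ _ _
  exact this

/-- the morphism attached to `φ` -/
noncomputable def βof : Taug Y G ⟶ N where
  hom :=
    { app := fun X => (ψs Y G N φ X.unop.base).hom.app (op (fibA Y X.unop))
      naturality := by
        intro X X' f
        let s := X.unop.base
        let s' := X'.unop.base
        let θ : s' ⟶ s := f.unop.base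
        let W : Opens (Y.obj s) := fibA Y X.unop
        let W' : Opens (Y.obj s') := fibA Y X'.unop
        let W₁ : Opens (Y.obj s') := (Opens.map (Y.map θ)).obj W
        let Fs := ((CohTop.pull (aMap Y s)).obj G).obj
        let Fs' := ((CohTop.pull (aMap Y s')).obj G).obj
        let T : Fs.obj (op W) ⟶ Fs'.obj (op W₁) :=
          θsec G (Y.map θ) (aMap Y s) (aMap Y s') (aMap_comp Y θ) W
        let r : Fs'.obj (op W₁) ⟶ Fs'.obj (op W') := Fs'.map (homOfLE (fib_le Y f.unop)).op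
        let p : Fs.obj (op W) ⟶ N.obj.obj (op (taOb Y s W)) := (ψs Y G N φ s).hom.app (op W)
        let p' : Fs'.obj (op W') ⟶ N.obj.obj (op (taOb Y s' W')) := (ψs Y G N φ s').hom.app (op W')
        let p₁ : Fs'.obj (op W₁) ⟶ N.obj.obj (op (taOb Y s' W₁)) := (ψs Y G N φ s').hom.app (op W₁)
        let cθ : N.obj.obj (op (taOb Y s W)) ⟶ N.obj.obj (op (taOb Y s' W₁)) :=
          N.obj.map (cartθ Y θ W).op
        let n : N.obj.obj (op (taOb Y s' W₁)) ⟶ N.obj.obj (op (taOb Y s' W')) :=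
          N.obj.map (vert Y s' (fib_le Y f.unop)).op
        let Nf : N.obj.obj (op (taOb Y s W)) ⟶ N.obj.obj (op (taOb Y s' W')) := N.obj.map f
        have e2 : r ≫ p' = p₁ ≫ n := (ψs Y G N φ s').hom.naturality (homOfLE (fib_le Y f.unop)).op
        have e3 : T ≫ p₁ = p ≫ cθ := congrArg (fun m => m.hom.app (op W)) (L_eq Y G N φ θ)
        have e4 : cθ ≫ n = Nf :=
          map_comp_op Y N (vert Y s' (fib_le Y f.unop)) (cartθ Y θ W) f.unop
            (Category.id_comp _)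
        have : (T ≫ r) ≫ p' = p ≫ Nf := by
          calc (T ≫ r) ≫ p' = T ≫ (r ≫ p') := Category.assoc _ _ _
            _ = T ≫ (p₁ ≫ n) := by rw [e2]
            _ = (T ≫ p₁) ≫ n := (Category.assoc _ _ _).symm
            _ = (p ≫ cθ) ≫ n := by rw [e3]
            _ = p ≫ (cθ ≫ n) := Category.assoc _ _ _
            _ = p ≫ Nf := by rw [e4]
        exact this }

lemma ΦN_βof : ΦN Y G N (βof Y G N φ) = φ := by
  apply Sheaf.hom_ext
  apply NatTrans.ext
  funext V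
  let F₀ := ((CohTop.pull (aMap Y (bot D))).obj G).obj
  let V₀ : Opens (Y.obj (bot D)) := (Opens.map (aMap Y (bot D))).obj V.unop
  let ρ₀ : G.obj.obj (op V.unop) ⟶ F₀.obj (op V₀) := ρ (aMap Y (bot D)) G V.unop
  let r₀ : F₀.obj (op V₀) ⟶ F₀.obj (op V.unop) := F₀.map (homOfLE (le_bot Y V.unop)).op
  let p : F₀.obj (op V.unop) ⟶ N.obj.obj (op (taOb Y (bot D) V.unop)) :=
    (ψs Y G N φ (bot D)).hom.app (op V.unop)
  let p₀ : F₀.obj (op V₀) ⟶ N.obj.obj (op (taOb Y (bot D) V₀)) :=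
    (ψs Y G N φ (bot D)).hom.app (op V₀)
  let n : N.obj.obj (op (taOb Y (bot D) V₀)) ⟶ N.obj.obj (op (taOb Y (bot D) V.unop)) :=
    N.obj.map (vert Y (bot D) (le_bot Y V.unop)).op
  let c : N.obj.obj (op (taOb Y (bot D) V.unop)) ⟶ N.obj.obj (op (taOb Y (bot D) V₀)) :=
    N.obj.map (cartB Y (bot D) V.unop).op
  let f : G.obj.obj (op V.unop) ⟶ N.obj.obj (op (taOb Y (bot D) V.unop)) := φ.hom.app (op V.unop)
  have e1 : r₀ ≫ p = p₀ ≫ n := (ψs Y G N φ (bot D)).hom.naturality (homOfLE (le_bot Y V.unop)).op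
  have e2 : ρ₀ ≫ p₀ = f ≫ c := ρ_ψs Y G N φ (bot D) V.unop
  have e3 : c ≫ n = 𝟙 _ := by
    show N.obj.map _ ≫ N.obj.map _ = 𝟙 _
    rw [map_comp_op Y N (vert Y (bot D) (le_bot Y V.unop))
      (cartB Y (bot D) V.unop) (𝟙 _) (toBot_ext _ _)]
    exact CategoryTheory.Functor.map_id _ _
  have : (ρ₀ ≫ r₀) ≫ p = f := by
    calc (ρ₀ ≫ r₀) ≫ p = ρ₀ ≫ (r₀ ≫ p) := Category.assoc _ _ _
      _ = ρ₀ ≫ (p₀ ≫ n) := by rw [e1]
      _ = (ρ₀ ≫ p₀) ≫ n := (Category.assoc _ _ _).symm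
      _ = (f ≫ c) ≫ n := by rw [e2]
      _ = f ≫ (c ≫ n) := Category.assoc _ _ _
      _ = f := by rw [e3, Category.comp_id]
  exact this

theorem ΦN_bijective : Function.Bijective (ΦN Y G N) :=
  ⟨ΦN_injective Y G N, fun φ => ⟨βof Y G N φ, ΦN_βof Y G N φ⟩⟩

end universal

end TAug

end Groth.Agent.Lib.helper27
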