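import Mathlib
import Groth.Prelude.Def_FibDesc
import Groth.Agent.Lib.Helper27.TAug

set_option autoImplicit false
set_option linter.unusedSectionVars false
set_option linter.unusedVariables false
set_option linter.style.haveILetI false
set_option backward.isDefEq.respectTransparency false
set_option backward.isDefEq.respectTransparency.types false

namespace Groth.Agent.Lib.helper27

open CategoryTheory Limits Opposite Pseudofunctor Pseudofunctor.CoGrothendieck
open FibDesc TopologicalSpace

universe u v₁ u₁ v₂ u₂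

namespace UnivIso

variable {C : Type u₁} [Category.{v₁} C] {E : Type u₂} [Category.{v₂} E]
  {L : C ⥤ E} {R : E ⥤ C} (adj : L ⊣ R) (G : C) (T : E) (u : G ⟶ R.obj T)
  (hu : ∀ N : E, Function.Bijective (fun β : T ⟶ N => u ≫ R.map β))

include hu in
/-- an object with the universal property of `L.obj G` is isomorphic to it -/
theorem exists_iso : ∃ e : L.obj G ≅ T, adj.unit.app G ≫ R.map e.hom = u := by
  let h : L.obj G ⟶ T := (adj.homEquiv G T).symm u
  have hh : adj.unit.app G ≫ R.map h = u := by
    have := (adj.homEquiv G T).apply_symm_apply u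
    rwa [Adjunction.homEquiv_unit] at this
  obtain ⟨k, hk⟩ := (hu (L.obj G)).2 (adj.unit.app G)
  dsimp only at hk
  have h1 : k ≫ h = 𝟙 T := by
    apply (hu T).1
    dsimp only
    rw [Functor.map_comp, ← Category.assoc, hk, hh, CategoryTheory.Functor.map_id, Category.comp_id]
  have h2 : h ≫ k = 𝟙 _ := by
    apply (adj.homEquiv G _).injective
    rw [Adjunction.homEquiv_unit, Adjunction.homEquiv_unit, Functor.map_comp, ← Category.assoc, hh,
      hk, CategoryTheory.Functor.map_id]
    exact (Category.comp_id _).symm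
  exact ⟨⟨h, k, h2, h1⟩, hh⟩

end UnivIso

namespace TAug

open BigSec TotSide

variable {D : Type} [SmallCategory D] (Y : (WithInitial D)ᵒᵖ ⥤ TopCat.{u})
  (G : CohTop.Ab (Y.obj (bot D)))

/-- the base sheaf category -/
abbrev BSh := BaseSh (topAug Y) (topAugTop Y) AddCommGrpCat.{u}

/-- `G` as an object of the base sheaf category -/
abbrev toB (G : CohTop.Ab (Y.obj (bot D))) : BSh Y := G

/-- the extension of `G` to the total site is the family of pullbacks -/
theorem exists_extendIso :
    ∃ e : (FibSite.extend (topAug Y) (topAugTop Y) AddCommGrpCat.{u} (bot D)).obj (toB Y G) ≅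
        Taug Y G,
      ((eps (topAug Y)).sheafAdjunctionContinuous AddCommGrpCat.{u} (topAugTop Y (bot D))
        (totAug (topAug Y) (topAugTop Y))).unit.app (toB Y G) ≫
        (FibSite.restr (topAug Y) (topAugTop Y) AddCommGrpCat.{u} (bot D)).map e.hom = uG Y G :=
  UnivIso.exists_iso
    ((eps (topAug Y)).sheafAdjunctionContinuous AddCommGrpCat.{u} (topAugTop Y (bot D))
      (totAug (topAug Y) (topAugTop Y))) (toB Y G) (Taug Y G) (uG Y G)
    (fun N => ΦN_bijective Y G N)

/-- sheaves on the total site of the part -/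
abbrev DShY := DSh (topAug Y) (topAugTop Y) AddCommGrpCat.{u}

/-- restriction along `incl` -/
noncomputable abbrev inclRes :
    Sheaf (totAug (topAug Y) (topAugTop Y)) AddCommGrpCat.{u} ⥤ DShY Y :=
  (incl (topAug Y)).sheafPushforwardContinuous AddCommGrpCat.{u}
    (totPart (topAug Y) (topAugTop Y)) (totAug (topAug Y) (topAugTop Y))

/-- right Kan extension along `incl` -/
noncomputable abbrev inclRan :
    DShY Y ⥤ Sheaf (totAug (topAug Y) (topAugTop Y)) AddCommGrpCat.{u} :=
  (incl (topAug Y)).sheafPushforwardCocontinuous AddCommGrpCat.{u}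
    (totPart (topAug Y) (topAugTop Y)) (totAug (topAug Y) (topAugTop Y))

/-- the adjunction between them -/
noncomputable abbrev inclAdj : inclRes Y ⊣ inclRan Y :=
  (incl (topAug Y)).sheafAdjunctionCocontinuous AddCommGrpCat.{u}
    (totPart (topAug Y) (topAugTop Y)) (totAug (topAug Y) (topAugTop Y))

/-- the family of pullbacks as a sheaf on the total site of the part -/
noncomputable def Tp : DShY Y := (inclRes Y).obj (Taug Y G)

theorem exists_pullIso :
    Nonempty ((pull (topAug Y) (topAugTop Y) AddCommGrpCat.{u}).obj (toB Y G) ≅ Tp Y G) := by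
  obtain ⟨e, -⟩ := exists_extendIso Y G
  exact ⟨(inclRes Y).mapIso e⟩

lemma isIso_ρ_of_eq_id {S : TopCat.{u}} (a : S ⟶ S) (ha : a = 𝟙 S) (G : CohTop.Ab S)
    (V : Opens S) : IsIso (ρ a G V) := by
  subst ha
  haveI : (CohTop.pull (𝟙 S)).Full := Functor.Full.of_iso (PullFunTop.pullIdIso S).symm
  haveI : (CohTop.pull (𝟙 S)).Faithful := Functor.Faithful.of_iso (PullFunTop.pullIdIso S).symm
  haveI : IsIso ((PullConst.pbAdj (𝟙 S)).unit.app G) := inferInstance
  haveI : IsIso ((PullConst.pbAdj (𝟙 S)).unit.app G).hom :=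
    (sheafToPresheaf _ _).map_isIso ((PullConst.pbAdj (𝟙 S)).unit.app G)
  exact inferInstanceAs (IsIso (((PullConst.pbAdj (𝟙 S)).unit.app G).hom.app (op V)))

instance isIso_uG : IsIso (uG Y G) := by
  haveI : IsIso (uG Y G).hom := by
    apply (config := { allowSynthFailures := true }) NatIso.isIso_of_isIso_app
    intro V
    haveI := isIso_ρ_of_eq_id (aMap Y (bot D)) (hbot Y) G V.unop
    have hle : (Opens.map (aMap Y (bot D))).obj V.unop ≤ V.unop := by
      rw [hbot]
      exact le_rfl
    haveI : IsIso (((CohTop.pull (aMap Y (bot D))).obj G).obj.map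
        (homOfLE (le_bot Y V.unop)).op) :=
      ⟨⟨((CohTop.pull (aMap Y (bot D))).obj G).obj.map (homOfLE hle).op, by
        rw [← Functor.map_comp]
        exact CategoryTheory.Functor.map_id _ _, by
        rw [← Functor.map_comp]
        exact CategoryTheory.Functor.map_id _ _⟩⟩
    exact inferInstanceAs (IsIso (ρ (aMap Y (bot D)) G V.unop ≫
      ((CohTop.pull (aMap Y (bot D))).obj G).obj.map (homOfLE (le_bot Y V.unop)).op))
  haveI : IsIso ((sheafToPresheaf (Opens.grothendieckTopology (Y.obj (bot D)))
      AddCommGrpCat.{u}).map (uG Y G)) := ‹IsIso (uG Y G).hom›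
  exact isIso_of_reflects_iso (uG Y G) (sheafToPresheaf _ _)

theorem isIso_unit_iff :
    IsIso ((adj (topAug Y) (topAugTop Y) AddCommGrpCat.{u}).unit.app (toB Y G)) ↔
      IsIso ((FibSite.restr (topAug Y) (topAugTop Y) AddCommGrpCat.{u} (bot D)).map
        ((inclAdj Y).unit.app (Taug Y G))) := by
  obtain ⟨e, he⟩ := exists_extendIso Y G
  let R := FibSite.restr (topAug Y) (topAugTop Y) AddCommGrpCat.{u} (bot D)
  let A := (adj (topAug Y) (topAugTop Y) AddCommGrpCat.{u}).unit.app (toB Y G)
  let E := R.map ((inclRes Y ⋙ inclRan Y).map e.hom)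
  haveI : IsIso E := inferInstance
  have hA : A ≫ E = uG Y G ≫ R.map ((inclAdj Y).unit.app (Taug Y G)) := by
    have h1 : A = ((eps (topAug Y)).sheafAdjunctionContinuous AddCommGrpCat.{u}
        (topAugTop Y (bot D)) (totAug (topAug Y) (topAugTop Y))).unit.app (toB Y G) ≫
        R.map ((inclAdj Y).unit.app
          ((FibSite.extend (topAug Y) (topAugTop Y) AddCommGrpCat.{u} (bot D)).obj (toB Y G))) :=
      rfl
    have h2 := (inclAdj Y).unit.naturality e.hom
    rw [h1, Category.assoc, ← Functor.map_comp]
    erw [← h2]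
    rw [Functor.map_comp, ← Category.assoc]
    erw [he]
  constructor
  · intro h
    haveI : IsIso A := h
    haveI : IsIso (uG Y G ≫ R.map ((inclAdj Y).unit.app (Taug Y G))) := by
      rw [← hA]
      infer_instance
    haveI := isIso_uG Y G
    exact IsIso.of_isIso_comp_left (uG Y G) _
  · intro h
    haveI : IsIso (R.map ((inclAdj Y).unit.app (Taug Y G))) := h
    haveI : IsIso (A ≫ E) := by
      rw [hA]
      haveI := isIso_uG Y G
      exact IsIso.comp_isIso
    exact IsIso.of_isIso_comp_right A E

end TAug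

end Groth.Agent.Lib.helper27
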