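import Mathlib
import Groth.Prelude.Def_FibDesc
import Groth.Agent.Lib.Helper27.TAug2

set_option autoImplicit false
set_option linter.unusedSectionVars false
set_option linter.unusedVariables false
set_option linter.style.haveILetI false
set_option backward.isDefEq.respectTransparency false
set_option backward.isDefEq.respectTransparency.types false

namespace Groth.Agent.Lib.helper27

open CategoryTheory Limits Opposite Pseudofunctor Pseudofunctor.CoGrothendieck
open FibDesc TopologicalSpace

universe u

namespace RanV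

open BigSec TotSide TAug

variable {D : Type} [SmallCategory D] (Y : (WithInitial D)ᵒᵖ ⥤ TopCat.{u})

/-- the spaces of the part -/
abbrev Xs (s : Dᵒᵖ) : TopCat.{u} := Y.obj ((toAug D).obj s)

/-- the augmentation maps of the part -/
abbrev aP (s : Dᵒᵖ) : Xs Y s ⟶ Y.obj (bot D) := aMap Y ((toAug D).obj s)

/-- the transition maps of the part -/
abbrev Ym {s s' : Dᵒᵖ} (θ : s' ⟶ s) : Xs Y s' ⟶ Xs Y s := Y.map ((toAug D).map θ)

lemma Ym_aP {s s' : Dᵒᵖ} (θ : s' ⟶ s) : Ym Y θ ≫ aP Y s = aP Y s' := aMap_comp Y _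

/-- objects of the total category of the part -/
abbrev tpOb (s : Dᵒᵖ) (W : Opens (Xs Y s)) : ∫ᶜ (part (topAug Y)) := ⟨s, W⟩

/-- morphisms of the total category of the part -/
abbrev tpHom {s s' : Dᵒᵖ} (θ : s' ⟶ s) {W : Opens (Xs Y s)} {W' : Opens (Xs Y s')}
    (h : W' ≤ (Opens.map (Ym Y θ)).obj W) : tpOb Y s' W' ⟶ tpOb Y s W :=
  ⟨θ, show W' ⟶ (Opens.map (Ym Y θ)).obj W from homOfLE h⟩

/-- the fibre component as an open subset -/
abbrev fibP (X : ∫ᶜ (part (topAug Y))) : Opens (Xs Y X.base) := X.fiber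

lemma fibP_le {X X' : ∫ᶜ (part (topAug Y))} (f : X ⟶ X') :
    fibP Y X ≤ (Opens.map (Ym Y f.base)).obj (fibP Y X') :=
  leOfHom (show fibP Y X ⟶ (Opens.map (Ym Y f.base)).obj (fibP Y X') from f.fiber)

lemma tp_hom_ext {X X' : ∫ᶜ (part (topAug Y))} (f g : X ⟶ X') (h : f.base = g.base) : f = g :=
  TotCov.hom_ext' _ f g h

lemma ta_hom_ext {X X' : ∫ᶜ (topAug Y)} (f g : X ⟶ X') (h : f.base = g.base) : f = g :=
  TotCov.hom_ext' _ f g h

variable (V : Opens (Y.obj (bot D)))

/-- the preimages of `V` -/
abbrev WV (s : Dᵒᵖ) : Opens (Xs Y s) := (Opens.map (aP Y s)).obj V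

lemma WV_le {s s' : Dᵒᵖ} (θ : s' ⟶ s) : WV Y V s' ≤ (Opens.map (Ym Y θ)).obj (WV Y V s) := by
  intro y hy
  have h1 : (aP Y s') y ∈ V := hy
  rw [← Ym_aP Y θ] at h1
  exact h1

/-- the section of the total category of the part given by the preimages of `V` -/
noncomputable def σV : Dᵒᵖ ⥤ ∫ᶜ (part (topAug Y)) where
  obj s := tpOb Y s (WV Y V s)
  map θ := tpHom Y θ (WV_le Y V θ)
  map_id s := tp_hom_ext Y _ _ rfl
  map_comp f g := tp_hom_ext Y _ _ rfl

/-- sections over the preimages of `V`, as a diagram -/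
noncomputable def KV : DShY Y ⥤ (Dᵒᵖᵒᵖ ⥤ AddCommGrpCat.{u}) :=
  sheafToPresheaf _ _ ⋙ (Functor.whiskeringLeft _ _ _).obj (σV Y V).op

/-- the base object -/
abbrev B₀ : (∫ᶜ (topAug Y))ᵒᵖ := op (taOb Y (bot D) V)

/-- the cartesian morphisms to the base object -/
noncomputable abbrev cartP (s : Dᵒᵖ) : (incl (topAug Y)).obj ((σV Y V).obj s) ⟶ taOb Y (bot D) V :=
  cartB Y ((toAug D).obj s) V

/-- the comparison functor to the structured arrows -/
noncomputable def wV : Dᵒᵖᵒᵖ ⥤ StructuredArrow (B₀ Y V) (incl (topAug Y)).op where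
  obj s := StructuredArrow.mk (Y := op ((σV Y V).obj s.unop)) (cartP Y V s.unop).op
  map {s s'} f := StructuredArrow.homMk ((σV Y V).map f.unop).op (by
    apply Quiver.Hom.unop_inj
    apply ta_hom_ext
    exact toBot_ext _ _)
  map_id s := by
    apply StructuredArrow.hom_ext
    show ((σV Y V).map (𝟙 s.unop)).op = 𝟙 _
    rw [CategoryTheory.Functor.map_id]
    rfl
  map_comp f g := by
    apply StructuredArrow.hom_ext
    show ((σV Y V).map (g.unop ≫ f.unop)).op = _
    rw [CategoryTheory.Functor.map_comp]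
    rfl

section initial

variable (A : StructuredArrow (B₀ Y V) (incl (topAug Y)).op)

lemma le_WV_of_sa : fibP Y A.right.unop ≤ WV Y V A.right.unop.base := by
  have h1 := fib_le Y A.hom.unop
  have h2 : A.hom.unop.base = toBot _ := toBot_ext _ _
  rw [h2] at h1
  exact h1

/-- the canonical morphism to the section -/
noncomputable def gA : A.right.unop ⟶ (σV Y V).obj A.right.unop.base :=
  ⟨𝟙 _, show fibP Y A.right.unop ⟶ (Opens.map (Ym Y (𝟙 _))).obj (WV Y V A.right.unop.base) from
    homOfLE (by
      intro y hy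
      have h1 := le_WV_of_sa Y V A hy
      show (Ym Y (𝟙 A.right.unop.base)) y ∈ WV Y V A.right.unop.base
      have h2 : Ym Y (𝟙 A.right.unop.base) = 𝟙 _ := by
        show Y.map ((toAug D).map (𝟙 _)) = 𝟙 _
        rw [CategoryTheory.Functor.map_id, CategoryTheory.Functor.map_id]
      rw [h2]
      exact h1)⟩

/-- the terminal object of the costructured arrow category -/
noncomputable def TA : CostructuredArrow (wV Y V) A :=
  CostructuredArrow.mk (Y := op A.right.unop.base)
    (StructuredArrow.homMk (gA Y V A).op (by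
      apply Quiver.Hom.unop_inj
      apply ta_hom_ext
      exact toBot_ext _ _) : (wV Y V).obj (op A.right.unop.base) ⟶ A)

/-- the base component of an object of the costructured arrow category -/
noncomputable def θB (B : CostructuredArrow (wV Y V) A) : A.right.unop.base ⟶ B.left.unop :=
  B.hom.right.unop.base

noncomputable def isTerminalTA : IsTerminal (TA Y V A) :=
  IsTerminal.ofUniqueHom
    (fun B => CostructuredArrow.homMk (θB Y V A B).op (by
      apply StructuredArrow.hom_ext
      apply Quiver.Hom.unop_inj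
      apply tp_hom_ext
      exact Category.id_comp _))
    (fun B m => by
      apply CostructuredArrow.hom_ext
      have h1 := congrArg (fun k => k.right.unop.base) (CostructuredArrow.w m)
      apply Quiver.Hom.unop_inj
      have h2 : (𝟙 A.right.unop.base) ≫ m.left.unop = θB Y V A B := h1
      rw [Category.id_comp] at h2
      exact h2)

end initial

instance initial_wV : (wV Y V).Initial where
  out A := isConnected_of_isTerminal _ (isTerminalTA Y V A)

section cone

lemma wV_proj : wV Y V ⋙ StructuredArrow.proj (B₀ Y V) (incl (topAug Y)).op = (σV Y V).op := rfl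

variable (P : (∫ᶜ (part (topAug Y)))ᵒᵖ ⥤ AddCommGrpCat.{u})

/-- the right Kan extension as a right extension -/
noncomputable def ext : Functor.RightExtension (incl (topAug Y)).op P :=
  Functor.RightExtension.mk _ ((incl (topAug Y)).op.ranCounit.app P)

/-- the pointwise limit cone at the base object -/
noncomputable def isLimitBig : IsLimit ((ext Y P).coneAt (B₀ Y V)) :=
  (incl (topAug Y)).op.isPointwiseRightKanExtensionRanCounit P (B₀ Y V)

/-- the cone over the sections over the preimages of `V` -/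
noncomputable def coneV : Cone ((σV Y V).op ⋙ P) :=
  ((ext Y P).coneAt (B₀ Y V)).whisker (wV Y V)

lemma coneV_pt : (coneV Y V P).pt = ((incl (topAug Y)).op.ran.obj P).obj (B₀ Y V) := rfl

lemma coneV_π (s : Dᵒᵖᵒᵖ) : (coneV Y V P).π.app s =
    ((incl (topAug Y)).op.ran.obj P).map (cartP Y V s.unop).op ≫
      ((incl (topAug Y)).op.ranCounit.app P).app (op ((σV Y V).obj s.unop)) := rfl

/-- it is a limit cone -/
noncomputable def isLimitConeV : IsLimit (coneV Y V P) :=
  (Functor.Initial.isLimitWhiskerEquiv (wV Y V) ((ext Y P).coneAt (B₀ Y V))).symm (isLimitBig Y V P)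

end cone

section unit

variable (N : Sheaf (totAug (topAug Y) (topAugTop Y)) AddCommGrpCat.{u})

/-- the cone of restrictions to the preimages of `V` -/
noncomputable def coneN : Cone ((σV Y V).op ⋙ ((inclRes Y).obj N).obj) where
  pt := N.obj.obj (B₀ Y V)
  π :=
    { app := fun s => N.obj.map (cartP Y V s.unop).op
      naturality := by
        intro s s' f
        have h1 := map_comp_op Y N ((incl (topAug Y)).map ((σV Y V).map f.unop)) (cartP Y V s.unop)
          (cartP Y V s'.unop) (toBot_ext _ _)
        exact (Category.id_comp _).trans h1.symm }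

lemma unit_comp_π (s : Dᵒᵖᵒᵖ) :
    ((inclAdj Y).unit.app N).hom.app (B₀ Y V) ≫
        (coneV Y V ((inclRes Y).obj N).obj).π.app s = (coneN Y V N).π.app s := by
  have h0 : ((inclAdj Y).unit.app N).hom =
      ((incl (topAug Y)).op.ranAdjunction AddCommGrpCat.{u}).unit.app N.obj :=
    Functor.sheafAdjunctionCocontinuous_unit_app_hom _ _ _ _ N
  rw [h0, coneV_π]
  have h1 := (((incl (topAug Y)).op.ranAdjunction AddCommGrpCat.{u}).unit.app N.obj).naturality
    (cartP Y V s.unop).op
  have h2 := (incl (topAug Y)).op.ranCounit_app_app_ranAdjunction_unit_app_app N.obj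
    (op ((σV Y V).obj s.unop))
  rw [← Category.assoc]
  erw [← h1]
  rw [Category.assoc]
  erw [h2]
  exact Category.comp_id _

theorem isIso_unit_app (hN : IsLimit (coneN Y V N)) :
    IsIso (((inclAdj Y).unit.app N).hom.app (B₀ Y V)) := by
  let e := IsLimit.conePointUniqueUpToIso hN (isLimitConeV Y V ((inclRes Y).obj N).obj)
  have : ((inclAdj Y).unit.app N).hom.app (B₀ Y V) = e.hom := by
    apply (isLimitConeV Y V ((inclRes Y).obj N).obj).hom_ext
    intro s
    rw [unit_comp_π]
    exact (IsLimit.conePointUniqueUpToIso_hom_comp hN _ s).symm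
  rw [this]
  infer_instance

end unit

theorem isIso_restr_unit (N : Sheaf (totAug (topAug Y) (topAugTop Y)) AddCommGrpCat.{u})
    (hN : ∀ V : Opens (Y.obj (bot D)), Nonempty (IsLimit (coneN Y V N))) :
    IsIso ((FibSite.restr (topAug Y) (topAugTop Y) AddCommGrpCat.{u} (bot D)).map
      ((inclAdj Y).unit.app N)) := by
  let φ := (FibSite.restr (topAug Y) (topAugTop Y) AddCommGrpCat.{u} (bot D)).map
      ((inclAdj Y).unit.app N)
  haveI : IsIso φ.hom := by
    apply (config := { allowSynthFailures := true }) NatIso.isIso_of_isIso_app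
    intro V
    exact isIso_unit_app Y (show Opens (Y.obj (bot D)) from V.unop) N (hN _).some
  haveI : IsIso ((sheafToPresheaf (topAugTop Y (bot D)) AddCommGrpCat.{u}).map φ) :=
    ‹IsIso φ.hom›
  exact isIso_of_reflects_iso φ (sheafToPresheaf _ _)

section natural

/-- sections over `V` of a sheaf on the base -/
noncomputable abbrev ΓV : BSh Y ⥤ AddCommGrpCat.{u} :=
  (sheafSections (topAugTop Y (bot D)) AddCommGrpCat.{u}).obj (op V)

lemma coneV_π_natural {M M' : DShY Y} (φ : M ⟶ M') (s : Dᵒᵖᵒᵖ) :
    ((incl (topAug Y)).op.ran.map φ.hom).app (B₀ Y V) ≫ (coneV Y V M'.obj).π.app s =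
      (coneV Y V M.obj).π.app s ≫ φ.hom.app (op ((σV Y V).obj s.unop)) := by
  rw [coneV_π, coneV_π]
  have h1 := ((incl (topAug Y)).op.ran.map φ.hom).naturality (cartP Y V s.unop).op
  have h2 := congrArg (fun t => t.app (op ((σV Y V).obj s.unop)))
    ((incl (topAug Y)).op.ranCounit.naturality φ.hom)
  dsimp at h2
  rw [← Category.assoc, ← h1, Category.assoc, Category.assoc]
  congr 1

/-- sections over `V` of the direct image are the limit of the sections over the preimages -/
noncomputable def pushΓIso :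
    push (topAug Y) (topAugTop Y) AddCommGrpCat.{u} ⋙ ΓV Y V ≅
      KV Y V ⋙ (lim : (Dᵒᵖᵒᵖ ⥤ AddCommGrpCat.{u}) ⥤ AddCommGrpCat.{u}) :=
  NatIso.ofComponents
    (fun M => IsLimit.conePointUniqueUpToIso (isLimitConeV Y V M.obj)
      (limit.isLimit ((KV Y V).obj M)))
    (by
      intro M M' φ
      apply limit.hom_ext
      intro s
      let a : (coneV Y V M.obj).pt ⟶ (coneV Y V M'.obj).pt :=
        ((incl (topAug Y)).op.ran.map φ.hom).app (B₀ Y V)
      let e' := (IsLimit.conePointUniqueUpToIso (isLimitConeV Y V M'.obj)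
        (limit.isLimit ((KV Y V).obj M'))).hom
      let e := (IsLimit.conePointUniqueUpToIso (isLimitConeV Y V M.obj)
        (limit.isLimit ((KV Y V).obj M))).hom
      let p' := limit.π ((KV Y V).obj M') s
      let p := limit.π ((KV Y V).obj M) s
      let lm : limit ((KV Y V).obj M) ⟶ limit ((KV Y V).obj M') := limMap ((KV Y V).map φ)
      let k : ((KV Y V).obj M).obj s ⟶ ((KV Y V).obj M').obj s := ((KV Y V).map φ).app s
      have h1 : e' ≫ p' = (coneV Y V M'.obj).π.app s :=
        IsLimit.conePointUniqueUpToIso_hom_comp (isLimitConeV Y V M'.obj)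
          (limit.isLimit ((KV Y V).obj M')) s
      have h2 : e ≫ p = (coneV Y V M.obj).π.app s :=
        IsLimit.conePointUniqueUpToIso_hom_comp (isLimitConeV Y V M.obj)
          (limit.isLimit ((KV Y V).obj M)) s
      have h3 : a ≫ (coneV Y V M'.obj).π.app s = (coneV Y V M.obj).π.app s ≫ k :=
        coneV_π_natural Y V φ s
      have h4 : lm ≫ p' = p ≫ k := limMap_π _ _
      have : (a ≫ e') ≫ p' = (e ≫ lm) ≫ p' := by
        calc (a ≫ e') ≫ p' = a ≫ (e' ≫ p') := Category.assoc _ _ _
          _ = a ≫ (coneV Y V M'.obj).π.app s := by rw [h1]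
          _ = (coneV Y V M.obj).π.app s ≫ k := h3
          _ = (e ≫ p) ≫ k := by rw [h2]
          _ = e ≫ (p ≫ k) := Category.assoc _ _ _
          _ = e ≫ (lm ≫ p') := by rw [h4]
          _ = (e ≫ lm) ≫ p' := (Category.assoc _ _ _).symm
      exact this)

end natural

end RanV

end Groth.Agent.Lib.helper27
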