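import Mathlib
import Groth.Prelude.Def_CohTop
import Groth.Agent.Lib.Helper27.BigSec

set_option autoImplicit false
set_option linter.unusedSectionVars false
set_option linter.unusedVariables false
set_option linter.style.haveILetI false

namespace Groth.Agent.Lib.helper27

open CategoryTheory Limits Opposite TopologicalSpace

universe u

namespace SqSec

open PullFunTop PullConst BigSec

/-- the `eqToHom` between pushforwards along equal maps is a restriction map -/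
lemma eqToHom_push_app {A' Z : TopCat.{u}} (b b' : A' ⟶ Z) (h : b = b') (X : CohTop.Ab A')
    (U : Opens Z) (e : (CohTop.push b).obj X = (CohTop.push b').obj X)
    (hle : (Opens.map b').obj U ≤ (Opens.map b).obj U) :
    (eqToHom e).hom.app (op U) = X.obj.map (homOfLE hle).op := by
  subst h
  have h1 : eqToHom e = 𝟙 _ := rfl
  rw [h1]
  exact (CategoryTheory.Functor.map_id X.obj _).symm

variable {Z Z' A A' : TopCat.{u}}

lemma push_sq_eq (t : Z' ⟶ Z) (a : A ⟶ Z) (a' : A' ⟶ Z') (g : A' ⟶ A) (w : g ≫ a = a' ≫ t)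
    (M : CohTop.Ab A') :
    (CohTop.push t).obj ((CohTop.push a').obj M) = (CohTop.push a).obj ((CohTop.push g).obj M) := by
  have h1 : (CohTop.push t).obj ((CohTop.push a').obj M) = (CohTop.push (a' ≫ t)).obj M := rfl
  have h2 : (CohTop.push a).obj ((CohTop.push g).obj M) = (CohTop.push (g ≫ a)).obj M := rfl
  rw [h1, h2, w]

lemma sq_le (t : Z' ⟶ Z) (a : A ⟶ Z) (a' : A' ⟶ Z') (g : A' ⟶ A) (w : g ≫ a = a' ≫ t)
    (U : Opens Z) :
    (Opens.map g).obj ((Opens.map a).obj U) ≤ (Opens.map a').obj ((Opens.map t).obj U) := by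
  intro x hx
  have : (g ≫ a) x ∈ U := hx
  rw [w] at this
  exact this

/-- the transition map of pullbacks along a commutative square with a map of sheaves over the
bottom arrow -/
noncomputable def Θ (t : Z' ⟶ Z) {G : CohTop.Ab Z} {G' : CohTop.Ab Z'}
    (φ : G ⟶ (CohTop.push t).obj G') (g : A' ⟶ A) (a : A ⟶ Z) (a' : A' ⟶ Z')
    (w : g ≫ a = a' ≫ t) :
    (CohTop.pull a).obj G ⟶ (CohTop.push g).obj ((CohTop.pull a').obj G') :=
  ((pbAdj a).homEquiv G _).symm
    (φ ≫ (CohTop.push t).map ((pbAdj a').unit.app G') ≫ eqToHom (push_sq_eq t a a' g w _))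

lemma homEquiv_Θ (t : Z' ⟶ Z) {G : CohTop.Ab Z} {G' : CohTop.Ab Z'}
    (φ : G ⟶ (CohTop.push t).obj G') (g : A' ⟶ A) (a : A ⟶ Z) (a' : A' ⟶ Z')
    (w : g ≫ a = a' ≫ t) :
    (pbAdj a).unit.app G ≫ (CohTop.push a).map (Θ t φ g a a' w) =
      φ ≫ (CohTop.push t).map ((pbAdj a').unit.app G') ≫ eqToHom (push_sq_eq t a a' g w _) := by
  have := ((pbAdj a).homEquiv G _).apply_symm_apply
    (φ ≫ (CohTop.push t).map ((pbAdj a').unit.app G') ≫ eqToHom (push_sq_eq t a a' g w _))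
  rw [Adjunction.homEquiv_unit] at this
  exact this

/-- `Θ` on sections -/
noncomputable def Θsec (t : Z' ⟶ Z) {G : CohTop.Ab Z} {G' : CohTop.Ab Z'}
    (φ : G ⟶ (CohTop.push t).obj G') (g : A' ⟶ A) (a : A ⟶ Z) (a' : A' ⟶ Z')
    (w : g ≫ a = a' ≫ t) (W : Opens A) :
    ((CohTop.pull a).obj G).obj.obj (op W) ⟶
      ((CohTop.pull a').obj G').obj.obj (op ((Opens.map g).obj W)) :=
  (Θ t φ g a a' w).hom.app (op W)

lemma Θsec_res (t : Z' ⟶ Z) {G : CohTop.Ab Z} {G' : CohTop.Ab Z'}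
    (φ : G ⟶ (CohTop.push t).obj G') (g : A' ⟶ A) (a : A ⟶ Z) (a' : A' ⟶ Z')
    (w : g ≫ a = a' ≫ t) {W W' : Opens A} (i : W' ⟶ W) :
    ((CohTop.pull a).obj G).obj.map i.op ≫ Θsec t φ g a a' w W' =
      Θsec t φ g a a' w W ≫ ((CohTop.pull a').obj G').obj.map ((Opens.map g).map i).op :=
  (Θ t φ g a a' w).hom.naturality i.op

/-- the characterisation of `Θ` on sections -/
lemma ρ_Θsec (t : Z' ⟶ Z) {G : CohTop.Ab Z} {G' : CohTop.Ab Z'}
    (φ : G ⟶ (CohTop.push t).obj G') (g : A' ⟶ A) (a : A ⟶ Z) (a' : A' ⟶ Z')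
    (w : g ≫ a = a' ≫ t) (U : Opens Z)
    (hle : (Opens.map g).obj ((Opens.map a).obj U) ≤ (Opens.map a').obj ((Opens.map t).obj U))
    (x : G.obj.obj (op U)) :
    Θsec t φ g a a' w ((Opens.map a).obj U) (ρ a G U x) =
      ((CohTop.pull a').obj G').obj.map (homOfLE hle).op
        (ρ a' G' ((Opens.map t).obj U) (φ.hom.app (op U) x)) := by
  have h1 := congrArg (fun m => m.hom.app (op U)) (homEquiv_Θ t φ g a a' w)
  have h2 := eqToHom_push_app (a' ≫ t) (g ≫ a) w.symm ((CohTop.pull a').obj G') U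
    (push_sq_eq t a a' g w _) hle
  have h3 := ConcreteCategory.congr_hom h1 x
  have h4 := ConcreteCategory.congr_hom h2 (ρ a' G' ((Opens.map t).obj U) (φ.hom.app (op U) x))
  exact h3.trans h4

lemma Θsec_res_apply (t : Z' ⟶ Z) {G : CohTop.Ab Z} {G' : CohTop.Ab Z'}
    (φ : G ⟶ (CohTop.push t).obj G') (g : A' ⟶ A) (a : A ⟶ Z) (a' : A' ⟶ Z')
    (w : g ≫ a = a' ≫ t) {W W' : Opens A} (i : W' ⟶ W)
    (x : ((CohTop.pull a).obj G).obj.obj (op W)) :
    Θsec t φ g a a' w W' (((CohTop.pull a).obj G).obj.map i.op x) =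
      ((CohTop.pull a').obj G').obj.map ((Opens.map g).map i).op (Θsec t φ g a a' w W x) :=
  ConcreteCategory.congr_hom (Θsec_res t φ g a a' w i) x

/-- two maps out of a pullback agree iff they agree on the image of the unit (elementwise) -/
lemma pull_hom_ext' {Z A : TopCat.{u}} (a : A ⟶ Z) (G : CohTop.Ab Z) (M : CohTop.Ab A)
    (ψ₁ ψ₂ : (CohTop.pull a).obj G ⟶ M)
    (h : ∀ (V : Opens Z) (x : G.obj.obj (op V)),
      ψ₁.hom.app (op ((Opens.map a).obj V)) (ρ a G V x) =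
        ψ₂.hom.app (op ((Opens.map a).obj V)) (ρ a G V x)) : ψ₁ = ψ₂ := by
  apply pull_hom_ext
  intro V
  ext x
  exact h V x

lemma map_map_apply {X : TopCat.{u}} (P : (Opens X)ᵒᵖ ⥤ AddCommGrpCat.{u}) {U V W : Opens X}
    (h1 : V ≤ U) (h2 : W ≤ V) (h3 : W ≤ U) (x : P.obj (op U)) :
    P.map (homOfLE h2).op (P.map (homOfLE h1).op x) = P.map (homOfLE h3).op x := by
  have : P.map (homOfLE h1).op ≫ P.map (homOfLE h2).op = P.map (homOfLE h3).op := by
    rw [← Functor.map_comp]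
    rfl
  exact ConcreteCategory.congr_hom this x

/-- composition of squares -/
lemma Θsec_comp {Z'' A'' : TopCat.{u}} (t : Z' ⟶ Z) (t' : Z'' ⟶ Z') {G : CohTop.Ab Z}
    {G' : CohTop.Ab Z'} {G'' : CohTop.Ab Z''} (φ : G ⟶ (CohTop.push t).obj G')
    (φ' : G' ⟶ (CohTop.push t').obj G'') (g : A' ⟶ A) (g' : A'' ⟶ A') (a : A ⟶ Z) (a' : A' ⟶ Z')
    (a'' : A'' ⟶ Z'') (w : g ≫ a = a' ≫ t) (w' : g' ≫ a' = a'' ≫ t')
    (w'' : (g' ≫ g) ≫ a = a'' ≫ (t' ≫ t)) (W : Opens A)
    (x : ((CohTop.pull a).obj G).obj.obj (op W)) :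
    Θsec (t' ≫ t) (show G ⟶ (CohTop.push (t' ≫ t)).obj G'' from φ ≫ (CohTop.push t).map φ')
        (g' ≫ g) a a'' w'' W x =
      Θsec t' φ' g' a' a'' w' ((Opens.map g).obj W) (Θsec t φ g a a' w W x) := by
  let φ'' : G ⟶ (CohTop.push (t' ≫ t)).obj G'' := φ ≫ (CohTop.push t).map φ'
  let Ψ₁ : (CohTop.pull a).obj G ⟶ (CohTop.push (g' ≫ g)).obj ((CohTop.pull a'').obj G'') :=
    Θ (t' ≫ t) φ'' (g' ≫ g) a a'' w''
  let Ψ₂ : (CohTop.pull a).obj G ⟶ (CohTop.push (g' ≫ g)).obj ((CohTop.pull a'').obj G'') :=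
    Θ t φ g a a' w ≫ (CohTop.push g).map (Θ t' φ' g' a' a'' w')
  have key : Ψ₁ = Ψ₂ := by
    apply pull_hom_ext'
    intro U y
    have hle'' := sq_le (t' ≫ t) a a'' (g' ≫ g) w'' U
    have hle := sq_le t a a' g w U
    have hle' := sq_le t' a' a'' g' w' ((Opens.map t).obj U)
    have e1 := ρ_Θsec (t' ≫ t) φ'' (g' ≫ g) a a'' w'' U hle'' y
    have e2 := ρ_Θsec t φ g a a' w U hle y
    have e3 := ρ_Θsec t' φ' g' a' a'' w' ((Opens.map t).obj U) hle' (φ.hom.app (op U) y)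
    have e4 := Θsec_res_apply t' φ' g' a' a'' w' (homOfLE hle)
      (ρ a' G' ((Opens.map t).obj U) (φ.hom.app (op U) y))
    show Θsec (t' ≫ t) φ'' (g' ≫ g) a a'' w'' ((Opens.map a).obj U) (ρ a G U y) =
      Θsec t' φ' g' a' a'' w' ((Opens.map g).obj ((Opens.map a).obj U))
        (Θsec t φ g a a' w ((Opens.map a).obj U) (ρ a G U y))
    rw [e1, e2, e4, e3]
    exact (map_map_apply ((CohTop.pull a'').obj G'').obj hle' _ hle'' _).symm
  exact ConcreteCategory.congr_hom (congrArg (fun m => m.hom.app (op W)) key) x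

/-- naturality in the sheaves -/
lemma Θsec_natural (t : Z' ⟶ Z) {G G₁ : CohTop.Ab Z} {G' G₁' : CohTop.Ab Z'}
    (φ : G ⟶ (CohTop.push t).obj G') (φ₁ : G₁ ⟶ (CohTop.push t).obj G₁') (κ : G ⟶ G₁)
    (κ' : G' ⟶ G₁') (hκ : φ ≫ (CohTop.push t).map κ' = κ ≫ φ₁) (g : A' ⟶ A) (a : A ⟶ Z)
    (a' : A' ⟶ Z') (w : g ≫ a = a' ≫ t) (W : Opens A)
    (x : ((CohTop.pull a).obj G).obj.obj (op W)) :
    Θsec t φ₁ g a a' w W (((CohTop.pull a).map κ).hom.app (op W) x) =
      ((CohTop.pull a').map κ').hom.app (op ((Opens.map g).obj W)) (Θsec t φ g a a' w W x) := by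
  let Ψ₁ : (CohTop.pull a).obj G ⟶ (CohTop.push g).obj ((CohTop.pull a').obj G₁') :=
    (CohTop.pull a).map κ ≫ Θ t φ₁ g a a' w
  let Ψ₂ : (CohTop.pull a).obj G ⟶ (CohTop.push g).obj ((CohTop.pull a').obj G₁') :=
    Θ t φ g a a' w ≫ (CohTop.push g).map ((CohTop.pull a').map κ')
  have key : Ψ₁ = Ψ₂ := by
    apply pull_hom_ext'
    intro U y
    have hle := sq_le t a a' g w U
    have e3 := ConcreteCategory.congr_hom (ρ_naturality a κ U) y
    have e4 := ρ_Θsec t φ₁ g a a' w U hle (κ.hom.app (op U) y)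
    have e5 := ρ_Θsec t φ g a a' w U hle y
    have e6 := ConcreteCategory.congr_hom (ρ_naturality a' κ' ((Opens.map t).obj U))
      (φ.hom.app (op U) y)
    have e7 := ConcreteCategory.congr_hom
      (((CohTop.pull a').map κ').hom.naturality (homOfLE hle).op)
      (ρ a' G' ((Opens.map t).obj U) (φ.hom.app (op U) y))
    have e8 := ConcreteCategory.congr_hom (congrArg (fun m => m.hom.app (op U)) hκ) y
    show Θsec t φ₁ g a a' w ((Opens.map a).obj U)
        (((CohTop.pull a).map κ).hom.app (op ((Opens.map a).obj U)) (ρ a G U y)) =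
      ((CohTop.pull a').map κ').hom.app (op ((Opens.map g).obj ((Opens.map a).obj U)))
        (Θsec t φ g a a' w ((Opens.map a).obj U) (ρ a G U y))
    have e3' : ((CohTop.pull a).map κ).hom.app (op ((Opens.map a).obj U)) (ρ a G U y) =
        ρ a G₁ U (κ.hom.app (op U) y) := e3
    have e6' : ((CohTop.pull a').map κ').hom.app (op ((Opens.map a').obj ((Opens.map t).obj U)))
        (ρ a' G' ((Opens.map t).obj U) (φ.hom.app (op U) y)) =
        ρ a' G₁' ((Opens.map t).obj U) (κ'.hom.app (op ((Opens.map t).obj U))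
          (φ.hom.app (op U) y)) := e6
    have e7' : ((CohTop.pull a').map κ').hom.app (op ((Opens.map g).obj ((Opens.map a).obj U)))
        (((CohTop.pull a').obj G').obj.map (homOfLE hle).op
          (ρ a' G' ((Opens.map t).obj U) (φ.hom.app (op U) y))) =
        ((CohTop.pull a').obj G₁').obj.map (homOfLE hle).op
          (((CohTop.pull a').map κ').hom.app (op ((Opens.map a').obj ((Opens.map t).obj U)))
            (ρ a' G' ((Opens.map t).obj U) (φ.hom.app (op U) y))) := e7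
    have e8' : κ'.hom.app (op ((Opens.map t).obj U)) (φ.hom.app (op U) y) =
        φ₁.hom.app (op U) (κ.hom.app (op U) y) := e8
    rw [e3', e4, e5, e7', e6', e8']
  exact ConcreteCategory.congr_hom (congrArg (fun m => m.hom.app (op W)) key) x

/-- a square over identities with the identity map of sheaves acts by restriction -/
lemma Θsec_of_eq_id (t : Z ⟶ Z) (ht : t = 𝟙 Z) {G : CohTop.Ab Z}
    (φ : G ⟶ (CohTop.push t).obj G)
    (hφ : ∀ (U : Opens Z) (hU : (Opens.map t).obj U ≤ U),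
      φ.hom.app (op U) = G.obj.map (homOfLE hU).op)
    (g : A ⟶ A) (hg : g = 𝟙 A) (a : A ⟶ Z) (w : g ≫ a = a ≫ t) {W W' : Opens A}
    (h : W' ≤ (Opens.map g).obj W) (h' : W' ≤ W) (x : ((CohTop.pull a).obj G).obj.obj (op W)) :
    ((CohTop.pull a).obj G).obj.map (homOfLE h).op (Θsec t φ g a a w W x) =
      ((CohTop.pull a).obj G).obj.map (homOfLE h').op x := by
  subst ht
  subst hg
  have hφ' : φ = 𝟙 G := by
    apply Sheaf.hom_ext
    apply NatTrans.ext
    funext U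
    have := hφ U.unop le_rfl
    exact this.trans (CategoryTheory.Functor.map_id G.obj _)
  subst hφ'
  have key : Θ (𝟙 Z) (𝟙 G) (𝟙 A) a a w = 𝟙 _ := by
    apply pull_hom_ext'
    intro U y
    have e1 := ρ_Θsec (𝟙 Z) (𝟙 G) (𝟙 A) a a w U (sq_le (𝟙 Z) a a (𝟙 A) w U) y
    have e2 : ((CohTop.pull a).obj G).obj.map
        (homOfLE (sq_le (𝟙 Z) a a (𝟙 A) w U)).op = 𝟙 _ :=
      CategoryTheory.Functor.map_id _ _
    have e2' := ConcreteCategory.congr_hom e2
      (ρ a G ((Opens.map (𝟙 Z)).obj U) ((𝟙 G : G ⟶ G).hom.app (op U) y))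
    exact e1.trans e2'
  have e3 : Θsec (𝟙 Z) (𝟙 G) (𝟙 A) a a w W x = x := by
    unfold Θsec
    rw [key]
    rfl
  rw [e3]
  rfl

end SqSec

end Groth.Agent.Lib.helper27
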