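import Mathlib
import Groth.Prelude.Def_FibDesc
import Groth.Agent.Lib.Helper27.RanV
import Groth.Agent.Lib.Helper27.SqSec
import Groth.Agent.Lib.Helper27.TotSheaf

set_option autoImplicit false
set_option linter.unusedSectionVars false
set_option linter.unusedVariables false
set_option linter.style.haveILetI false
set_option backward.isDefEq.respectTransparency false
set_option backward.isDefEq.respectTransparency.types false

namespace Groth.Agent.Lib.helper27

open CategoryTheory Limits Opposite Pseudofunctor Pseudofunctor.CoGrothendieck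
open FibDesc TopologicalSpace

universe u

namespace DecDef

open BigSec TotSide TAug RanV SqSec PullConst

variable {D : Type} [SmallCategory D] (Y : (WithInitial D)ᵒᵖ ⥤ TopCat.{u})

/-- restriction to a level -/
noncomputable abbrev restrP (s : Dᵒᵖ) : DShY Y ⥤ CohTop.Ab (Xs Y s) :=
  FibSite.restr (part (topAug Y)) (partTop (topAug Y) (topAugTop Y)) AddCommGrpCat.{u} s

lemma Ym_comp {s s' s'' : Dᵒᵖ} (θ : s'' ⟶ s') (g : s' ⟶ s) :
    Ym Y (θ ≫ g) = Ym Y θ ≫ Ym Y g := by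
  show Y.map ((toAug D).map (θ ≫ g)) = _
  rw [CategoryTheory.Functor.map_comp, CategoryTheory.Functor.map_comp]

lemma Ym_id (s : Dᵒᵖ) : Ym Y (𝟙 s) = 𝟙 _ := by
  show Y.map ((toAug D).map (𝟙 s)) = _
  rw [CategoryTheory.Functor.map_id, CategoryTheory.Functor.map_id]

lemma mapP_comp (M : DShY Y) {X₁ X₂ X₃ : ∫ᶜ (part (topAug Y))} (f : X₁ ⟶ X₂) (g : X₂ ⟶ X₃)
    (h : X₁ ⟶ X₃) (hb : f.base ≫ g.base = h.base) :
    M.obj.map g.op ≫ M.obj.map f.op = M.obj.map h.op := by
  rw [← Functor.map_comp, ← op_comp]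
  congr 2
  exact tp_hom_ext Y _ _ hb

lemma mapP_comp_apply (M : DShY Y) {X₁ X₂ X₃ : ∫ᶜ (part (topAug Y))} (f : X₁ ⟶ X₂) (g : X₂ ⟶ X₃)
    (h : X₁ ⟶ X₃) (hb : f.base ≫ g.base = h.base) (x : M.obj.obj (op X₃)) :
    M.obj.map f.op (M.obj.map g.op x) = M.obj.map h.op x :=
  ConcreteCategory.congr_hom (mapP_comp Y M f g h hb) x

lemma mapP_congr (M : DShY Y) {X₁ X₂ : ∫ᶜ (part (topAug Y))} (f g : X₁ ⟶ X₂)
    (hb : f.base = g.base) : M.obj.map f.op = M.obj.map g.op := by
  rw [tp_hom_ext Y f g hb]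

/-- the structure maps of a sheaf on the total site -/
noncomputable def strM (M : DShY Y) {n n' : Dᵒᵖ} (θ : n' ⟶ n) :
    (restrP Y n).obj M ⟶ (CohTop.push (Ym Y θ)).obj ((restrP Y n').obj M) where
  hom :=
    { app := fun U => M.obj.map (tpHom Y θ (le_refl ((Opens.map (Ym Y θ)).obj U.unop))).op
      naturality := by
        intro U U' i
        have hi : U'.unop ≤ U.unop := leOfHom i.unop
        let f₁ : tpOb Y n U'.unop ⟶ tpOb Y n U.unop := tpHom Y (𝟙 n) (by
          rw [Ym_id]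
          exact hi)
        let f₂ : tpOb Y n' ((Opens.map (Ym Y θ)).obj U'.unop) ⟶
            tpOb Y n' ((Opens.map (Ym Y θ)).obj U.unop) := tpHom Y (𝟙 n') (by
          rw [Ym_id]
          exact (Opens.map (Ym Y θ)).monotone hi)
        have e1 : ((restrP Y n).obj M).obj.map i = M.obj.map f₁.op := by
          apply mapP_congr
          rfl
        have e2 : ((CohTop.push (Ym Y θ)).obj ((restrP Y n').obj M)).obj.map i =
            M.obj.map f₂.op := by
          apply mapP_congr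
          rfl
        rw [e1, e2]
        let h : tpOb Y n' ((Opens.map (Ym Y θ)).obj U'.unop) ⟶ tpOb Y n U.unop :=
          tpHom Y θ ((Opens.map (Ym Y θ)).monotone hi)
        have e3 := mapP_comp Y M (tpHom Y θ (le_refl ((Opens.map (Ym Y θ)).obj U'.unop))) f₁ h
          (Category.comp_id _)
        have e4 := mapP_comp Y M f₂ (tpHom Y θ (le_refl ((Opens.map (Ym Y θ)).obj U.unop))) h
          (Category.id_comp _)
        exact e3.trans e4.symm }

lemma strM_app (M : DShY Y) {n n' : Dᵒᵖ} (θ : n' ⟶ n) (U : Opens (Xs Y n)) :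
    (strM Y M θ).hom.app (op U) =
      M.obj.map (tpHom Y θ (le_refl ((Opens.map (Ym Y θ)).obj U))).op := rfl

lemma strM_natural {M M' : DShY Y} (φ : M ⟶ M') {n n' : Dᵒᵖ} (θ : n' ⟶ n) :
    strM Y M θ ≫ (CohTop.push (Ym Y θ)).map ((restrP Y n').map φ) =
      (restrP Y n).map φ ≫ strM Y M' θ := by
  apply Sheaf.hom_ext
  apply NatTrans.ext
  funext U
  exact φ.hom.naturality (tpHom Y θ (le_refl ((Opens.map (Ym Y θ)).obj U.unop))).op

/-- congruence for `Θsec` -/
lemma Θsec_congr {Z Z' A A' : TopCat.{u}} {G : CohTop.Ab Z} {G' : CohTop.Ab Z'}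
    (t₁ t₂ : Z' ⟶ Z) (ht : t₁ = t₂) (g₁ g₂ : A' ⟶ A) (hg : g₁ = g₂)
    (φ₁ : G ⟶ (CohTop.push t₁).obj G') (φ₂ : G ⟶ (CohTop.push t₂).obj G')
    (hφ : ∀ (U : Opens Z) (hU : (Opens.map t₁).obj U ≤ (Opens.map t₂).obj U)
      (x : G.obj.obj (op U)),
        φ₁.hom.app (op U) x = G'.obj.map (homOfLE hU).op (φ₂.hom.app (op U) x))
    (a : A ⟶ Z) (a' : A' ⟶ Z') (w₁ : g₁ ≫ a = a' ≫ t₁) (w₂ : g₂ ≫ a = a' ≫ t₂)
    {W : Opens A} {W' : Opens A'} (h₁ : W' ≤ (Opens.map g₁).obj W)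
    (h₂ : W' ≤ (Opens.map g₂).obj W) (x : ((CohTop.pull a).obj G).obj.obj (op W)) :
    ((CohTop.pull a').obj G').obj.map (homOfLE h₁).op (Θsec t₁ φ₁ g₁ a a' w₁ W x) =
      ((CohTop.pull a').obj G').obj.map (homOfLE h₂).op (Θsec t₂ φ₂ g₂ a a' w₂ W x) := by
  subst ht
  subst hg
  have : φ₁ = φ₂ := by
    apply Sheaf.hom_ext
    apply NatTrans.ext
    funext U
    ext y
    have h1 := hφ U.unop le_rfl y
    have h2 : G'.obj.map (homOfLE (le_refl ((Opens.map t₁).obj U.unop))).op = 𝟙 _ :=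
      CategoryTheory.Functor.map_id _ _
    have h3 := ConcreteCategory.congr_hom h2 (φ₂.hom.app (op U.unop) y)
    exact h1.trans h3
  subst this
  rfl

/-- contraction data for an augmented diagram of spaces -/
structure Contr where
  sh : Dᵒᵖ ⥤ Dᵒᵖ
  d : sh ⟶ 𝟭 _
  z : Dᵒᵖ
  v : ∀ n, sh.obj n ⟶ z
  v_nat : ∀ {n' n : Dᵒᵖ} (θ : n' ⟶ n), sh.map θ ≫ v n = v n'
  e : ∀ n, Xs Y n ⟶ Xs Y (sh.obj n)
  e_nat : ∀ {n' n : Dᵒᵖ} (θ : n' ⟶ n), Ym Y θ ≫ e n = e n' ≫ Ym Y (sh.map θ)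
  e_d : ∀ n, e n ≫ Ym Y (d.app n) = 𝟙 _
  s : Y.obj (bot D) ⟶ Xs Y z
  s_a : s ≫ aP Y z = 𝟙 _
  e_v : ∀ n, e n ≫ Ym Y (v n) = aP Y n ≫ s

variable {Y} (c : Contr Y) (M : DShY Y)

/-- the levels of the decalage -/
noncomputable abbrev DecOb (n : Dᵒᵖ) : CohTop.Ab (Xs Y n) :=
  (CohTop.pull (c.e n)).obj ((restrP Y (c.sh.obj n)).obj M)

/-- the transition maps of the decalage -/
noncomputable def decT {n n' : Dᵒᵖ} (θ : n' ⟶ n) (W : Opens (Xs Y n)) (W' : Opens (Xs Y n'))
    (h : W' ≤ (Opens.map (Ym Y θ)).obj W) :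
    (DecOb c M n).obj.obj (op W) ⟶ (DecOb c M n').obj.obj (op W') :=
  Θsec (Ym Y (c.sh.map θ)) (strM Y M (c.sh.map θ)) (Ym Y θ) (c.e n) (c.e n') (c.e_nat θ) W ≫
    (DecOb c M n').obj.map (homOfLE h).op

lemma decT_apply {n n' : Dᵒᵖ} (θ : n' ⟶ n) (W : Opens (Xs Y n)) (W' : Opens (Xs Y n'))
    (h : W' ≤ (Opens.map (Ym Y θ)).obj W) (x : (DecOb c M n).obj.obj (op W)) :
    decT c M θ W W' h x = (DecOb c M n').obj.map (homOfLE h).op
      (Θsec (Ym Y (c.sh.map θ)) (strM Y M (c.sh.map θ)) (Ym Y θ) (c.e n) (c.e n') (c.e_nat θ)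
        W x) := rfl

lemma restrP_map_eq (n : Dᵒᵖ) {U U' : Opens (Xs Y n)} (hU : U' ≤ U)
    (h' : U' ≤ (Opens.map (Ym Y (𝟙 n))).obj U) :
    ((restrP Y n).obj M).obj.map (homOfLE hU).op = M.obj.map (tpHom Y (𝟙 n) h').op := by
  apply mapP_congr
  rfl

lemma decT_id (n : Dᵒᵖ) (W W' : Opens (Xs Y n)) (h : W' ≤ (Opens.map (Ym Y (𝟙 n))).obj W)
    (h' : W' ≤ W) (x : (DecOb c M n).obj.obj (op W)) :
    decT c M (𝟙 n) W W' h x = (DecOb c M n).obj.map (homOfLE h').op x := by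
  rw [decT_apply]
  refine Θsec_of_eq_id (Ym Y (c.sh.map (𝟙 n))) ?_ (strM Y M (c.sh.map (𝟙 n))) ?_ (Ym Y (𝟙 n))
    (Ym_id Y n) (c.e n) (c.e_nat (𝟙 n)) h h' x
  · rw [c.sh.map_id, Ym_id]
  · intro U hU
    rw [strM_app]
    have h1 : U ≤ (Opens.map (Ym Y (𝟙 (c.sh.obj n)))).obj U := by
      rw [Ym_id]
      exact le_rfl
    have h2 : (Opens.map (Ym Y (c.sh.map (𝟙 n)))).obj U ≤
        (Opens.map (Ym Y (𝟙 (c.sh.obj n)))).obj U := by
      rw [c.sh.map_id]
    rw [restrP_map_eq M (c.sh.obj n) hU h2]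
    apply mapP_congr
    exact c.sh.map_id n

lemma decT_comp {n n' n'' : Dᵒᵖ} (θ : n' ⟶ n) (θ' : n'' ⟶ n') (W : Opens (Xs Y n))
    (W' : Opens (Xs Y n')) (W'' : Opens (Xs Y n'')) (h : W' ≤ (Opens.map (Ym Y θ)).obj W)
    (h' : W'' ≤ (Opens.map (Ym Y θ')).obj W') (h'' : W'' ≤ (Opens.map (Ym Y (θ' ≫ θ))).obj W)
    (x : (DecOb c M n).obj.obj (op W)) :
    decT c M (θ' ≫ θ) W W'' h'' x = decT c M θ' W' W'' h' (decT c M θ W W' h x) := by
  rw [decT_apply, decT_apply, decT_apply]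
  have w'' : (Ym Y θ' ≫ Ym Y θ) ≫ c.e n =
      c.e n'' ≫ (Ym Y (c.sh.map θ') ≫ Ym Y (c.sh.map θ)) := by
    rw [Category.assoc, c.e_nat θ, ← Category.assoc, c.e_nat θ', Category.assoc]
  have hW : W'' ≤ (Opens.map (Ym Y θ' ≫ Ym Y θ)).obj W := by
    rw [← Ym_comp]
    exact h''
  -- right-hand side
  have e1 := Θsec_res_apply (Ym Y (c.sh.map θ')) (strM Y M (c.sh.map θ')) (Ym Y θ') (c.e n')
    (c.e n'') (c.e_nat θ') (homOfLE h)
    (Θsec (Ym Y (c.sh.map θ)) (strM Y M (c.sh.map θ)) (Ym Y θ) (c.e n) (c.e n') (c.e_nat θ) W x)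
  rw [e1]
  have e2 := Θsec_comp (Ym Y (c.sh.map θ)) (Ym Y (c.sh.map θ')) (strM Y M (c.sh.map θ))
    (strM Y M (c.sh.map θ')) (Ym Y θ) (Ym Y θ') (c.e n) (c.e n') (c.e n'') (c.e_nat θ)
    (c.e_nat θ') w'' W x
  rw [← e2]
  have e3 := Θsec_congr (Ym Y (c.sh.map (θ' ≫ θ))) (Ym Y (c.sh.map θ') ≫ Ym Y (c.sh.map θ))
    (by rw [c.sh.map_comp, Ym_comp]) (Ym Y (θ' ≫ θ)) (Ym Y θ' ≫ Ym Y θ) (Ym_comp Y θ' θ)
    (strM Y M (c.sh.map (θ' ≫ θ)))
    (show (restrP Y (c.sh.obj n)).obj M ⟶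
      (CohTop.push (Ym Y (c.sh.map θ') ≫ Ym Y (c.sh.map θ))).obj
        ((restrP Y (c.sh.obj n'')).obj M) from
      strM Y M (c.sh.map θ) ≫ (CohTop.push (Ym Y (c.sh.map θ))).map (strM Y M (c.sh.map θ')))
    (by
      intro U hU y
      have hU' : (Opens.map (Ym Y (c.sh.map (θ' ≫ θ)))).obj U ≤
          (Opens.map (Ym Y (𝟙 (c.sh.obj n'')))).obj
            ((Opens.map (Ym Y (c.sh.map θ') ≫ Ym Y (c.sh.map θ))).obj U) := by
        rw [Ym_id]
        exact hU
      rw [restrP_map_eq M (c.sh.obj n'') hU hU']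
      let U₁ : Opens (Xs Y (c.sh.obj n')) := (Opens.map (Ym Y (c.sh.map θ))).obj U
      let U₂ : Opens (Xs Y (c.sh.obj n'')) := (Opens.map (Ym Y (c.sh.map θ'))).obj U₁
      let U₃ : Opens (Xs Y (c.sh.obj n'')) := (Opens.map (Ym Y (c.sh.map (θ' ≫ θ)))).obj U
      let fa : tpOb Y (c.sh.obj n'') U₃ ⟶ tpOb Y (c.sh.obj n) U :=
        tpHom Y (c.sh.map (θ' ≫ θ)) le_rfl
      let fb : tpOb Y (c.sh.obj n'') U₃ ⟶ tpOb Y (c.sh.obj n'') U₂ :=
        tpHom Y (𝟙 (c.sh.obj n'')) hU'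
      let fc : tpOb Y (c.sh.obj n'') U₂ ⟶ tpOb Y (c.sh.obj n') U₁ := tpHom Y (c.sh.map θ') le_rfl
      let fd : tpOb Y (c.sh.obj n') U₁ ⟶ tpOb Y (c.sh.obj n) U := tpHom Y (c.sh.map θ) le_rfl
      let fk : tpOb Y (c.sh.obj n'') U₂ ⟶ tpOb Y (c.sh.obj n) U :=
        tpHom Y (c.sh.map θ' ≫ c.sh.map θ) (by
          rw [Ym_comp]
          exact le_rfl)
      have s1 : M.obj.map fc.op (M.obj.map fd.op y) = M.obj.map fk.op y :=
        mapP_comp_apply Y M fc fd fk rfl y
      have s2 : M.obj.map fb.op (M.obj.map fk.op y) = M.obj.map fa.op y :=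
        mapP_comp_apply Y M fb fk fa (by
          show 𝟙 _ ≫ (c.sh.map θ' ≫ c.sh.map θ) = c.sh.map (θ' ≫ θ)
          rw [Category.id_comp, c.sh.map_comp]) y
      exact ((congrArg (fun z => M.obj.map fb.op z) s1).trans s2).symm)
    (c.e n) (c.e n'') (c.e_nat (θ' ≫ θ)) w'' h'' hW x
  refine e3.trans ?_
  exact (map_map_apply (DecOb c M n'').obj ((Opens.map (Ym Y θ')).monotone h) h' hW _).symm

lemma decT_natural {M M' : DShY Y} (φ : M ⟶ M') {n n' : Dᵒᵖ} (θ : n' ⟶ n)
    (W : Opens (Xs Y n)) (W' : Opens (Xs Y n')) (h : W' ≤ (Opens.map (Ym Y θ)).obj W)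
    (x : (DecOb c M n).obj.obj (op W)) :
    decT c M' θ W W' h
        (((CohTop.pull (c.e n)).map ((restrP Y (c.sh.obj n)).map φ)).hom.app (op W) x) =
      ((CohTop.pull (c.e n')).map ((restrP Y (c.sh.obj n')).map φ)).hom.app (op W')
        (decT c M θ W W' h x) := by
  rw [decT_apply, decT_apply]
  have e1 := Θsec_natural (Ym Y (c.sh.map θ)) (strM Y M (c.sh.map θ)) (strM Y M' (c.sh.map θ))
    ((restrP Y (c.sh.obj n)).map φ) ((restrP Y (c.sh.obj n')).map φ)
    (strM_natural Y φ (c.sh.map θ)) (Ym Y θ) (c.e n) (c.e n') (c.e_nat θ) W x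
  rw [e1]
  exact (ConcreteCategory.congr_hom
    (((CohTop.pull (c.e n')).map ((restrP Y (c.sh.obj n')).map φ)).hom.naturality
      (homOfLE h).op) _).symm

/-- the presheaf of the decalage -/
noncomputable def DecPre : (∫ᶜ (part (topAug Y)))ᵒᵖ ⥤ AddCommGrpCat.{u} where
  obj X := (DecOb c M X.unop.base).obj.obj (op (fibP Y X.unop))
  map f := decT c M f.unop.base (fibP Y _) (fibP Y _) (fibP_le Y f.unop)
  map_id X := by
    ext x
    have h1 := decT_id c M X.unop.base (fibP Y X.unop) (fibP Y X.unop)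
      (fibP_le Y (𝟙 X.unop)) le_rfl x
    have h2 : (DecOb c M X.unop.base).obj.map (homOfLE (le_refl (fibP Y X.unop))).op = 𝟙 _ :=
      CategoryTheory.Functor.map_id _ _
    exact h1.trans (ConcreteCategory.congr_hom h2 x)
  map_comp {X₁ X₂ X₃} f g := by
    ext x
    exact decT_comp c M f.unop.base g.unop.base (fibP Y X₁.unop) (fibP Y X₂.unop)
      (fibP Y X₃.unop) (fibP_le Y f.unop) (fibP_le Y g.unop) (fibP_le Y (g.unop ≫ f.unop)) x

/-- the restriction of the decalage to a fibre -/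
noncomputable def decFibIso (s : Dᵒᵖ) :
    (ι (part (topAug Y)) s).op ⋙ DecPre c M ≅ (DecOb c M s).obj :=
  NatIso.ofComponents (fun W => Iso.refl _) (by
    intro W W' i
    have h1 : ((ι (part (topAug Y)) s).op ⋙ DecPre c M).map i = (DecOb c M s).obj.map i := by
      ext x
      exact decT_id c M s _ _ _
        (leOfHom (show (W'.unop : Opens (Xs Y s)) ⟶ (W.unop : Opens (Xs Y s)) from i.unop)) x
    rw [h1]
    exact (Category.comp_id _).trans (Category.id_comp _).symm)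

lemma isSheaf_DecPre :
    Presheaf.IsSheaf (totPart (topAug Y) (topAugTop Y)) (DecPre c M) := by
  apply TotSheaf.isSheaf (part (topAug Y)) (partTop (topAug Y) (topAugTop Y)) (TotApi.hcovPart Y)
  intro s
  exact (Presheaf.isSheaf_of_iso_iff (decFibIso c M s)).2 (DecOb c M s).property

/-- the decalage of a sheaf -/
noncomputable def DecObj : DShY Y := ⟨DecPre c M, isSheaf_DecPre c M⟩

variable {M}

/-- the decalage on morphisms -/
noncomputable def DecMap {M M' : DShY Y} (φ : M ⟶ M') : DecObj c M ⟶ DecObj c M' where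
  hom :=
    { app := fun X => ((CohTop.pull (c.e X.unop.base)).map
        ((restrP Y (c.sh.obj X.unop.base)).map φ)).hom.app (op (fibP Y X.unop))
      naturality := by
        intro X X' f
        ext x
        exact (decT_natural c φ f.unop.base (fibP Y X.unop) (fibP Y X'.unop)
          (fibP_le Y f.unop) x).symm }

/-- the decalage functor -/
noncomputable def Dec : DShY Y ⥤ DShY Y where
  obj M := DecObj c M
  map φ := DecMap c φ
  map_id M := by
    apply Sheaf.hom_ext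
    apply NatTrans.ext
    funext X
    show ((CohTop.pull (c.e X.unop.base)).map
      ((restrP Y (c.sh.obj X.unop.base)).map (𝟙 M))).hom.app (op (fibP Y X.unop)) = 𝟙 _
    rw [CategoryTheory.Functor.map_id, CategoryTheory.Functor.map_id]
    rfl
  map_comp φ ψ := by
    apply Sheaf.hom_ext
    apply NatTrans.ext
    funext X
    show ((CohTop.pull (c.e X.unop.base)).map
      ((restrP Y (c.sh.obj X.unop.base)).map (φ ≫ ψ))).hom.app (op (fibP Y X.unop)) = _
    rw [CategoryTheory.Functor.map_comp, CategoryTheory.Functor.map_comp]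
    rfl

/-- levelwise description of the decalage -/
noncomputable def decLevel (s : Dᵒᵖ) :
    Dec c ⋙ restrP Y s ≅ restrP Y (c.sh.obj s) ⋙ CohTop.pull (c.e s) :=
  NatIso.ofComponents
    (fun M =>
      { hom := ⟨(decFibIso c M s).hom⟩
        inv := ⟨(decFibIso c M s).inv⟩
        hom_inv_id := by
          apply Sheaf.hom_ext
          exact (decFibIso c M s).hom_inv_id
        inv_hom_id := by
          apply Sheaf.hom_ext
          exact (decFibIso c M s).inv_hom_id })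
    (by
      intro M M' φ
      apply Sheaf.hom_ext
      apply NatTrans.ext
      funext W
      show ((CohTop.pull (c.e s)).map ((restrP Y (c.sh.obj s)).map φ)).hom.app W ≫ 𝟙 _ =
        𝟙 _ ≫ ((CohTop.pull (c.e s)).map ((restrP Y (c.sh.obj s)).map φ)).hom.app W
      rw [Category.comp_id, Category.id_comp])

section exactness

variable (Y)

instance additive_restrP (s : Dᵒᵖ) : (restrP Y s).Additive where

instance preservesFiniteLimits_restrP (s : Dᵒᵖ) : PreservesFiniteLimits (restrP Y s) :=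
  inferInstance

instance preservesFiniteColimits_restrP (s : Dᵒᵖ) : PreservesFiniteColimits (restrP Y s) := by
  have adj := (ι (part (topAug Y)) s).sheafAdjunctionCocontinuous AddCommGrpCat.{u}
    (partTop (topAug Y) (topAugTop Y) s) (totPart (topAug Y) (topAugTop Y))
  have : PreservesColimitsOfSize.{0, 0} (restrP Y s) := adj.leftAdjoint_preservesColimits
  exact PreservesColimitsOfSize.preservesFiniteColimits _

lemma isZero_of_levels (N : DShY Y) (h : ∀ s, IsZero ((restrP Y s).obj N)) : IsZero N := by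
  apply (IsZero.iff_id_eq_zero N).2
  apply Sheaf.hom_ext
  apply NatTrans.ext
  funext X
  have h1 : IsZero (((sheafSections (Opens.grothendieckTopology (Xs Y X.unop.base))
      AddCommGrpCat.{u}).obj (op (fibP Y X.unop))).obj ((restrP Y X.unop.base).obj N)) :=
    Functor.map_isZero _ (h X.unop.base)
  have h2 : IsZero (N.obj.obj X) := h1
  exact h2.eq_of_src _ _

lemma exact_of_levels (S : ShortComplex (DShY Y)) (h : ∀ s, (S.map (restrP Y s)).Exact) :
    S.Exact := by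
  rw [ShortComplex.exact_iff_isZero_homology]
  apply isZero_of_levels
  intro s
  have h1 := h s
  rw [ShortComplex.exact_iff_isZero_homology] at h1
  exact IsZero.of_iso h1 (S.mapHomologyIso (restrP Y s)).symm

end exactness

instance additive_Dec : (Dec c).Additive where
  map_add {M M' φ ψ} := by
    apply Sheaf.hom_ext
    apply NatTrans.ext
    funext X
    show ((CohTop.pull (c.e X.unop.base)).map
      ((restrP Y (c.sh.obj X.unop.base)).map (φ + ψ))).hom.app (op (fibP Y X.unop)) = _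
    rw [Functor.map_add, Functor.map_add]
    rfl

instance pfl_levels (s : Dᵒᵖ) :
    PreservesFiniteLimits (restrP Y (c.sh.obj s) ⋙ CohTop.pull (c.e s)) := by
  haveI : PreservesFiniteLimits (CohTop.pull (c.e s)) := pull_preservesFiniteLimits _
  exact comp_preservesFiniteLimits _ _

instance pfc_levels (s : Dᵒᵖ) :
    PreservesFiniteColimits (restrP Y (c.sh.obj s) ⋙ CohTop.pull (c.e s)) := by
  haveI : PreservesFiniteColimits (CohTop.pull (c.e s)) := by
    have : PreservesColimitsOfSize.{0, 0} (CohTop.pull (c.e s)) :=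
      (pbAdj (c.e s)).leftAdjoint_preservesColimits
    exact PreservesColimitsOfSize.preservesFiniteColimits _
  exact comp_preservesFiniteColimits _ _

lemma exact_Dec (S : ShortComplex (DShY Y)) (hS : S.Exact) : (S.map (Dec c)).Exact := by
  apply exact_of_levels
  intro s
  have t := (Functor.exact_tfae (restrP Y (c.sh.obj s) ⋙ CohTop.pull (c.e s))).out 3 1
  have h1 : (S.map (restrP Y (c.sh.obj s) ⋙ CohTop.pull (c.e s))).Exact :=
    t.1 ⟨inferInstance, inferInstance⟩ S hS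
  have e : S.map (Dec c ⋙ restrP Y s) ≅ S.map (restrP Y (c.sh.obj s) ⋙ CohTop.pull (c.e s)) :=
    S.mapNatIso (decLevel c s)
  exact (ShortComplex.exact_iff_of_iso e).2 h1

lemma exact_Dec' : PreservesFiniteLimits (Dec c) ∧ PreservesFiniteColimits (Dec c) := by
  have t := (Functor.exact_tfae (Dec c)).out 1 3
  exact t.1 (exact_Dec c)

instance preservesFiniteLimits_Dec : PreservesFiniteLimits (Dec c) := (exact_Dec' c).1

instance preservesFiniteColimits_Dec : PreservesFiniteColimits (Dec c) := (exact_Dec' c).2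

end DecDef

end Groth.Agent.Lib.helper27
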