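import Mathlib
import Groth.Prelude.Def_FibDesc
import Groth.Agent.Lib.Helper27.TAug2

set_option autoImplicit false
set_option linter.unusedSectionVars false
set_option linter.unusedVariables false
set_option linter.style.haveILetI false
set_option backward.isDefEq.respectTransparency false
set_option backward.isDefEq.respectTransparency.types false

namespace Groth.Agent.Lib.helper27

open CategoryTheory Limits Opposite Pseudofunctor Pseudofunctor.CoGrothendieck
open FibDesc TopologicalSpace

universe u

namespace TpFun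

open BigSec TotSide TAug

variable {D : Type} [SmallCategory D] (Y : (WithInitial D)ᵒᵖ ⥤ TopCat.{u})

/-- the family of pullbacks as a functor to sheaves on the augmented total site -/
noncomputable def TaugF :
    CohTop.Ab (Y.obj (bot D)) ⥤ Sheaf (totAug (topAug Y) (topAugTop Y)) AddCommGrpCat.{u} where
  obj G := Taug Y G
  map φ := ⟨Functor.whiskerLeft (ta Y).op ((OvSecFun (Y.obj (bot D))).map φ)⟩
  map_id G := by
    apply Sheaf.hom_ext
    show Functor.whiskerLeft (ta Y).op ((OvSecFun (Y.obj (bot D))).map (𝟙 G)) = 𝟙 _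
    rw [CategoryTheory.Functor.map_id]
    rfl
  map_comp φ ψ := by
    apply Sheaf.hom_ext
    show Functor.whiskerLeft (ta Y).op ((OvSecFun (Y.obj (bot D))).map (φ ≫ ψ)) = _
    rw [CategoryTheory.Functor.map_comp]
    rfl

lemma TaugF_map_app {G G' : CohTop.Ab (Y.obj (bot D))} (φ : G ⟶ G') (X : (∫ᶜ (topAug Y))ᵒᵖ) :
    ((TaugF Y).map φ).hom.app X =
      ((CohTop.pull (aMap Y X.unop.base)).map φ).hom.app (op (fibA Y X.unop)) := rfl

lemma uG_natural {G G' : CohTop.Ab (Y.obj (bot D))} (φ : G ⟶ G') :
    uG Y G ≫ (FibSite.restr (topAug Y) (topAugTop Y) AddCommGrpCat.{u} (bot D)).map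
      ((TaugF Y).map φ) = (show toB Y G ⟶ toB Y G' from φ) ≫ uG Y G' := by
  apply Sheaf.hom_ext
  apply NatTrans.ext
  funext V
  ext x
  have h1 : ((CohTop.pull (aMap Y (bot D))).map φ).hom.app
      (op ((Opens.map (aMap Y (bot D))).obj V.unop)) (ρ (aMap Y (bot D)) G V.unop x) =
      ρ (aMap Y (bot D)) G' V.unop (φ.hom.app V x) :=
    ConcreteCategory.congr_hom (ρ_naturality (aMap Y (bot D)) φ V.unop) x
  have h2 : ((CohTop.pull (aMap Y (bot D))).map φ).hom.app (op V.unop)
      (((CohTop.pull (aMap Y (bot D))).obj G).obj.map (homOfLE (le_bot Y V.unop)).op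
        (ρ (aMap Y (bot D)) G V.unop x)) =
      ((CohTop.pull (aMap Y (bot D))).obj G').obj.map (homOfLE (le_bot Y V.unop)).op
        (((CohTop.pull (aMap Y (bot D))).map φ).hom.app
          (op ((Opens.map (aMap Y (bot D))).obj V.unop)) (ρ (aMap Y (bot D)) G V.unop x)) :=
    ConcreteCategory.congr_hom
      (((CohTop.pull (aMap Y (bot D))).map φ).hom.naturality (homOfLE (le_bot Y V.unop)).op)
      (ρ (aMap Y (bot D)) G V.unop x)
  show ((CohTop.pull (aMap Y (bot D))).map φ).hom.app (op V.unop)
      (((CohTop.pull (aMap Y (bot D))).obj G).obj.map (homOfLE (le_bot Y V.unop)).op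
        (ρ (aMap Y (bot D)) G V.unop x)) =
    ((CohTop.pull (aMap Y (bot D))).obj G').obj.map (homOfLE (le_bot Y V.unop)).op
      (ρ (aMap Y (bot D)) G' V.unop (φ.hom.app V x))
  rw [h2, h1]

/-- the chosen isomorphism -/
noncomputable def extIso (G : CohTop.Ab (Y.obj (bot D))) :
    (FibSite.extend (topAug Y) (topAugTop Y) AddCommGrpCat.{u} (bot D)).obj (toB Y G) ≅
      Taug Y G := Classical.choose (exists_extendIso Y G)

lemma extIso_spec (G : CohTop.Ab (Y.obj (bot D))) :
    ((eps (topAug Y)).sheafAdjunctionContinuous AddCommGrpCat.{u} (topAugTop Y (bot D))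
        (totAug (topAug Y) (topAugTop Y))).unit.app (toB Y G) ≫
      (FibSite.restr (topAug Y) (topAugTop Y) AddCommGrpCat.{u} (bot D)).map (extIso Y G).hom =
      uG Y G := Classical.choose_spec (exists_extendIso Y G)

/-- the extension is naturally the family of pullbacks -/
noncomputable def extNatIso :
    FibSite.extend (topAug Y) (topAugTop Y) AddCommGrpCat.{u} (bot D) ≅ TaugF Y :=
  NatIso.ofComponents (fun G => extIso Y G) (by
    intro G G' φ
    let A := (eps (topAug Y)).sheafAdjunctionContinuous AddCommGrpCat.{u} (topAugTop Y (bot D))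
      (totAug (topAug Y) (topAugTop Y))
    let R := FibSite.restr (topAug Y) (topAugTop Y) AddCommGrpCat.{u} (bot D)
    let L := FibSite.extend (topAug Y) (topAugTop Y) AddCommGrpCat.{u} (bot D)
    let φ' : toB Y G ⟶ toB Y G' := φ
    apply (A.homEquiv _ _).injective
    have h1 : A.unit.app (toB Y G) ≫ R.map (L.map φ') = φ' ≫ A.unit.app (toB Y G') :=
      (A.unit.naturality φ').symm
    have h2 : A.unit.app (toB Y G) ≫ R.map (extIso Y G).hom = uG Y G := extIso_spec Y G
    have h3 : A.unit.app (toB Y G') ≫ R.map (extIso Y G').hom = uG Y G' := extIso_spec Y G'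
    have h4 : uG Y G ≫ R.map ((TaugF Y).map φ) = φ' ≫ uG Y G' := uG_natural Y φ
    have s1 : A.unit.app (toB Y G) ≫ R.map (L.map φ' ≫ (extIso Y G').hom) = φ' ≫ uG Y G' := by
      rw [Functor.map_comp]
      exact (Category.assoc _ _ _).symm.trans ((congrArg (fun t => t ≫ R.map (extIso Y G').hom)
        h1).trans ((Category.assoc _ _ _).trans (congrArg (fun t => φ' ≫ t) h3)))
    have s2 : A.unit.app (toB Y G) ≫ R.map ((extIso Y G).hom ≫ (TaugF Y).map φ) =
        φ' ≫ uG Y G' := by
      rw [Functor.map_comp]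
      exact (Category.assoc _ _ _).symm.trans ((congrArg (fun t => t ≫ R.map ((TaugF Y).map φ))
        h2).trans h4)
    rw [Adjunction.homEquiv_unit, Adjunction.homEquiv_unit]
    exact s1.trans s2.symm)

/-- the family of pullbacks as a functor to sheaves on the total site of the part -/
noncomputable def TpF : CohTop.Ab (Y.obj (bot D)) ⥤ DShY Y := TaugF Y ⋙ inclRes Y

/-- the inverse image is naturally the family of pullbacks -/
noncomputable def pullIso : pull (topAug Y) (topAugTop Y) AddCommGrpCat.{u} ≅ TpF Y :=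
  Functor.isoWhiskerRight (extNatIso Y) (inclRes Y)

end TpFun

end Groth.Agent.Lib.helper27
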