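import Mathlib
import Groth.Prelude.Def_FibDesc
import Groth.Agent.Lib.Helper27.DecDef
import Groth.Agent.Lib.Helper27.TpFun

set_option autoImplicit false
set_option linter.unusedSectionVars false
set_option linter.unusedVariables false
set_option linter.style.haveILetI false
set_option backward.isDefEq.respectTransparency false
set_option backward.isDefEq.respectTransparency.types false

namespace Groth.Agent.Lib.helper27

open CategoryTheory Limits Opposite Pseudofunctor Pseudofunctor.CoGrothendieck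
open FibDesc TopologicalSpace

universe u

namespace DecNat

open BigSec TotSide TAug RanV SqSec PullConst DecDef TpFun

variable {D : Type} [SmallCategory D] {Y : (WithInitial D)ᵒᵖ ⥤ TopCat.{u}}

section Tp

variable (K : CohTop.Ab (Y.obj (bot D)))

lemma Tp_obj (n : Dᵒᵖ) (W : Opens (Xs Y n)) :
    ((TpF Y).obj K).obj.obj (op (tpOb Y n W)) =
      ((CohTop.pull (aP Y n)).obj K).obj.obj (op W) := rfl

lemma Tp_map {X X' : ∫ᶜ (part (topAug Y))} (f : X' ⟶ X)
    (x : ((CohTop.pull (aP Y X.base)).obj K).obj.obj (op (fibP Y X))) :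
    ((TpF Y).obj K).obj.map f.op x =
      ((CohTop.pull (aP Y X'.base)).obj K).obj.map (homOfLE (fibP_le Y f)).op
        (θsec K (Ym Y f.base) (aP Y X.base) (aP Y X'.base) (Ym_aP Y f.base) (fibP Y X) x) := rfl

lemma TpF_map_app {K K' : CohTop.Ab (Y.obj (bot D))} (φ : K ⟶ K') (X : (∫ᶜ (part (topAug Y)))ᵒᵖ) :
    ((TpF Y).map φ).hom.app X =
      ((CohTop.pull (aP Y X.unop.base)).map φ).hom.app (op (fibP Y X.unop)) := rfl

end Tp

/-- restrictions of images of the unit -/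
lemma ρ_res_eq {Z A : TopCat.{u}} (a : A ⟶ Z) (G : CohTop.Ab Z) {U₁ U₃ : Opens Z} (h₃₁ : U₃ ≤ U₁)
    (y₁ : G.obj.obj (op U₁)) {W' : Opens A} (h₁ : W' ≤ (Opens.map a).obj U₁)
    (h₃ : W' ≤ (Opens.map a).obj U₃) :
    ((CohTop.pull a).obj G).obj.map (homOfLE h₁).op (ρ a G U₁ y₁) =
      ((CohTop.pull a).obj G).obj.map (homOfLE h₃).op
        (ρ a G U₃ (G.obj.map (homOfLE h₃₁).op y₁)) := by
  have e1 : ρ a G U₃ (G.obj.map (homOfLE h₃₁).op y₁) =
      ((CohTop.pull a).obj G).obj.map ((Opens.map a).map (homOfLE h₃₁)).op (ρ a G U₁ y₁) :=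
    ConcreteCategory.congr_hom (ρ_res a G (homOfLE h₃₁)) y₁
  rw [e1]
  exact (map_map_apply ((CohTop.pull a).obj G).obj ((Opens.map a).monotone h₃₁) h₃ h₁ _).symm

lemma map_map_hom {X : TopCat.{u}} (P : (Opens X)ᵒᵖ ⥤ AddCommGrpCat.{u}) {U V W : Opens X}
    (i : V ⟶ U) (j : W ⟶ V) (k : W ⟶ U) (x : P.obj (op U)) :
    P.map j.op (P.map i.op x) = P.map k.op x := by
  have : P.map i.op ≫ P.map j.op = P.map k.op := by
    rw [← Functor.map_comp]
    congr 1
  exact ConcreteCategory.congr_hom this x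

variable (c : Contr Y)

/-- the component of `d` as a morphism to `n` -/
abbrev dm (n : Dᵒᵖ) : c.sh.obj n ⟶ n := c.d.app n

lemma dm_nat {n' n : Dᵒᵖ} (θ : n' ⟶ n) : c.sh.map θ ≫ dm c n = dm c n' ≫ θ :=
  c.d.naturality θ

lemma hd (n : Dᵒᵖ) (W : Opens (Xs Y n)) :
    W ≤ (Opens.map (c.e n)).obj ((Opens.map (Ym Y (dm c n))).obj W) := by
  intro x hx
  show (c.e n ≫ Ym Y (dm c n)) x ∈ W
  rw [c.e_d]
  exact hx

variable (M : DShY Y)

/-- the components of `β` -/
noncomputable def βsec (n : Dᵒᵖ) (W : Opens (Xs Y n)) :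
    M.obj.obj (op (tpOb Y n W)) ⟶ (DecOb c M n).obj.obj (op W) :=
  (strM Y M (dm c n)).hom.app (op W) ≫
    ρ (c.e n) ((restrP Y (c.sh.obj n)).obj M) ((Opens.map (Ym Y (dm c n))).obj W) ≫
      (DecOb c M n).obj.map (homOfLE (hd c n W)).op

lemma βsec_apply (n : Dᵒᵖ) (W : Opens (Xs Y n)) (x : M.obj.obj (op (tpOb Y n W))) :
    βsec c M n W x = (DecOb c M n).obj.map (homOfLE (hd c n W)).op
      (ρ (c.e n) ((restrP Y (c.sh.obj n)).obj M) ((Opens.map (Ym Y (dm c n))).obj W)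
        (M.obj.map (tpHom Y (dm c n) (le_refl ((Opens.map (Ym Y (dm c n))).obj W))).op x)) := rfl

lemma βsec_natural {n n' : Dᵒᵖ} (θ : n' ⟶ n) (W : Opens (Xs Y n)) (W' : Opens (Xs Y n'))
    (h : W' ≤ (Opens.map (Ym Y θ)).obj W) (x : M.obj.obj (op (tpOb Y n W))) :
    decT c M θ W W' h (βsec c M n W x) = βsec c M n' W' (M.obj.map (tpHom Y θ h).op x) := by
  rw [decT_apply, βsec_apply, βsec_apply]
  let G := (restrP Y (c.sh.obj n)).obj M
  let G' := (restrP Y (c.sh.obj n')).obj M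
  let U : Opens (Xs Y (c.sh.obj n)) := (Opens.map (Ym Y (dm c n))).obj W
  let U₂ : Opens (Xs Y (c.sh.obj n')) := (Opens.map (Ym Y (c.sh.map θ))).obj U
  let U' : Opens (Xs Y (c.sh.obj n')) := (Opens.map (Ym Y (dm c n'))).obj W'
  let y : G.obj.obj (op U) := M.obj.map (tpHom Y (dm c n) (le_refl U)).op x
  let y₂ : G'.obj.obj (op U₂) := M.obj.map (tpHom Y (c.sh.map θ) (le_refl U₂)).op y
  have hsq := sq_le (Ym Y (c.sh.map θ)) (c.e n) (c.e n') (Ym Y θ) (c.e_nat θ) U
  -- step 1: move the restriction through `Θsec`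
  have e1 := Θsec_res_apply (Ym Y (c.sh.map θ)) (strM Y M (c.sh.map θ)) (Ym Y θ) (c.e n) (c.e n')
    (c.e_nat θ) (homOfLE (hd c n W)) (ρ (c.e n) G U y)
  -- step 2: the characterisation of `Θsec`
  have e2 : Θsec (Ym Y (c.sh.map θ)) (strM Y M (c.sh.map θ)) (Ym Y θ) (c.e n) (c.e n') (c.e_nat θ)
      ((Opens.map (c.e n)).obj U) (ρ (c.e n) G U y) =
      ((CohTop.pull (c.e n')).obj G').obj.map (homOfLE hsq).op (ρ (c.e n') G' U₂ y₂) :=
    ρ_Θsec (Ym Y (c.sh.map θ)) (strM Y M (c.sh.map θ)) (Ym Y θ) (c.e n) (c.e n') (c.e_nat θ) U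
      hsq y
  have hU : U' ≤ U₂ := by
    intro p hp
    have h1 : (Ym Y (dm c n')) p ∈ W' := hp
    have h2 : (Ym Y θ) ((Ym Y (dm c n')) p) ∈ W := h h1
    have h3 : (Ym Y (dm c n') ≫ Ym Y θ) p ∈ W := h2
    rw [← Ym_comp, ← dm_nat, Ym_comp] at h3
    exact h3
  have hW₂ : W' ≤ (Opens.map (c.e n')).obj U₂ := fun p hp => hU (hd c n' W' hp)
  -- the left-hand side is a restriction of `ρ y₂`
  have L : (DecOb c M n').obj.map (homOfLE h).op
      (Θsec (Ym Y (c.sh.map θ)) (strM Y M (c.sh.map θ)) (Ym Y θ) (c.e n) (c.e n') (c.e_nat θ) W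
        ((DecOb c M n).obj.map (homOfLE (hd c n W)).op (ρ (c.e n) G U y))) =
      (DecOb c M n').obj.map (homOfLE hW₂).op (ρ (c.e n') G' U₂ y₂) := by
    rw [e1, e2]
    have hmid : (Opens.map (Ym Y θ)).obj W ≤ (Opens.map (c.e n')).obj U₂ :=
      le_trans ((Opens.map (Ym Y θ)).monotone (hd c n W)) hsq
    have m1 := map_map_hom (DecOb c M n').obj (homOfLE hsq)
      ((Opens.map (Ym Y θ)).map (homOfLE (hd c n W))) (homOfLE hmid) (ρ (c.e n') G' U₂ y₂)
    have m2 := map_map_hom (DecOb c M n').obj (homOfLE hmid) (homOfLE h) (homOfLE hW₂)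
      (ρ (c.e n') G' U₂ y₂)
    exact (congrArg (fun t => (DecOb c M n').obj.map (homOfLE h).op t) m1).trans m2
  refine L.trans ?_
  -- the right-hand side
  have e3 := ρ_res_eq (c.e n') G' hU y₂ hW₂ (hd c n' W')
  refine e3.trans ?_
  congr 2
  -- equality of sections of `M`
  have hU'' : U' ≤ (Opens.map (Ym Y (𝟙 (c.sh.obj n')))).obj U₂ := by
    rw [Ym_id]
    exact hU
  rw [restrP_map_eq M (c.sh.obj n') hU hU'']
  let k₁ : tpOb Y (c.sh.obj n') U₂ ⟶ tpOb Y n W := tpHom Y (c.sh.map θ ≫ dm c n) (by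
    rw [Ym_comp]
    exact le_rfl)
  let k₂ : tpOb Y (c.sh.obj n') U' ⟶ tpOb Y n W := tpHom Y (dm c n' ≫ θ) (by
    rw [Ym_comp]
    exact (Opens.map (Ym Y (dm c n'))).monotone h)
  have s1 : y₂ = M.obj.map k₁.op x :=
    mapP_comp_apply Y M (tpHom Y (c.sh.map θ) (le_refl U₂)) (tpHom Y (dm c n) (le_refl U)) k₁ rfl x
  have s2 : M.obj.map (tpHom Y (𝟙 (c.sh.obj n')) hU'').op (M.obj.map k₁.op x) =
      M.obj.map k₂.op x :=
    mapP_comp_apply Y M (tpHom Y (𝟙 (c.sh.obj n')) hU'') k₁ k₂ (by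
      show 𝟙 _ ≫ (c.sh.map θ ≫ dm c n) = dm c n' ≫ θ
      rw [Category.id_comp, dm_nat]) x
  have s3 : M.obj.map (tpHom Y (dm c n') (le_refl U')).op (M.obj.map (tpHom Y θ h).op x) =
      M.obj.map k₂.op x :=
    mapP_comp_apply Y M (tpHom Y (dm c n') (le_refl U')) (tpHom Y θ h) k₂ rfl x
  rw [s1]
  exact s2.trans s3.symm

/-- the morphism `M ⟶ Dec M` -/
noncomputable def βM : M ⟶ (Dec c).obj M where
  hom :=
    { app := fun X => βsec c M X.unop.base (fibP Y X.unop)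
      naturality := by
        intro X X' f
        ext x
        exact (βsec_natural c M f.unop.base (fibP Y X.unop) (fibP Y X'.unop)
          (fibP_le Y f.unop) x).symm }

variable {M}

lemma βsec_natural_M {M M' : DShY Y} (φ : M ⟶ M') (n : Dᵒᵖ) (W : Opens (Xs Y n))
    (x : M.obj.obj (op (tpOb Y n W))) :
    βsec c M' n W (φ.hom.app (op (tpOb Y n W)) x) =
      ((CohTop.pull (c.e n)).map ((restrP Y (c.sh.obj n)).map φ)).hom.app (op W)
        (βsec c M n W x) := by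
  rw [βsec_apply, βsec_apply]
  let κ := (restrP Y (c.sh.obj n)).map φ
  let U : Opens (Xs Y (c.sh.obj n)) := (Opens.map (Ym Y (dm c n))).obj W
  let y := M.obj.map (tpHom Y (dm c n) (le_refl U)).op x
  have e1 : ((CohTop.pull (c.e n)).map κ).hom.app (op W)
      ((DecOb c M n).obj.map (homOfLE (hd c n W)).op
        (ρ (c.e n) ((restrP Y (c.sh.obj n)).obj M) U y)) =
      (DecOb c M' n).obj.map (homOfLE (hd c n W)).op
        (((CohTop.pull (c.e n)).map κ).hom.app (op ((Opens.map (c.e n)).obj U))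
          (ρ (c.e n) ((restrP Y (c.sh.obj n)).obj M) U y)) :=
    ConcreteCategory.congr_hom
      (((CohTop.pull (c.e n)).map κ).hom.naturality (homOfLE (hd c n W)).op) _
  have e2 : ((CohTop.pull (c.e n)).map κ).hom.app (op ((Opens.map (c.e n)).obj U))
      (ρ (c.e n) ((restrP Y (c.sh.obj n)).obj M) U y) =
      ρ (c.e n) ((restrP Y (c.sh.obj n)).obj M') U (κ.hom.app (op U) y) :=
    ConcreteCategory.congr_hom (ρ_naturality (c.e n) κ U) y
  have e3 : κ.hom.app (op U) y =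
      M'.obj.map (tpHom Y (dm c n) (le_refl U)).op (φ.hom.app (op (tpOb Y n W)) x) :=
    ConcreteCategory.congr_hom
      (φ.hom.naturality (tpHom Y (dm c n) (le_refl U)).op) x
  rw [e1, e2, e3]

/-- the natural transformation `𝟭 ⟶ Dec` -/
noncomputable def β : 𝟭 (DShY Y) ⟶ Dec c where
  app M := βM c M
  naturality {M M'} φ := by
    apply Sheaf.hom_ext
    apply NatTrans.ext
    funext X
    ext x
    exact βsec_natural_M c φ X.unop.base (fibP Y X.unop) x

end DecNat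

end Groth.Agent.Lib.helper27
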