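import Mathlib
import Groth.Prelude.Def_FibDesc
import Groth.Agent.Lib.Helper27.DecDef

set_option autoImplicit false
set_option linter.unusedSectionVars false
set_option linter.unusedVariables false
set_option linter.style.haveILetI false
set_option backward.isDefEq.respectTransparency false
set_option backward.isDefEq.respectTransparency.types false

namespace Groth.Agent.Lib.helper27

open CategoryTheory Limits Opposite Pseudofunctor Pseudofunctor.CoGrothendieck
open FibDesc TopologicalSpace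

universe u

namespace GPull

open BigSec TotSide TAug RanV SqSec PullConst DecDef

variable {D D' : Type} [SmallCategory D] [SmallCategory D']
  (Y : (WithInitial D)ᵒᵖ ⥤ TopCat.{u}) (Y' : (WithInitial D')ᵒᵖ ⥤ TopCat.{u})

/-- a morphism of diagrams of spaces over a functor of index categories (non-augmented part) -/
structure PData where
  sh : D'ᵒᵖ ⥤ Dᵒᵖ
  e : ∀ n, Xs Y' n ⟶ Xs Y (sh.obj n)
  e_nat : ∀ {n' n : D'ᵒᵖ} (θ : n' ⟶ n), Ym Y' θ ≫ e n = e n' ≫ Ym Y (sh.map θ)

variable {Y Y'} (c : PData Y Y') (M : DShY Y)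

/-- the levels of the pullback -/
noncomputable abbrev POb (n : D'ᵒᵖ) : CohTop.Ab (Xs Y' n) :=
  (CohTop.pull (c.e n)).obj ((restrP Y (c.sh.obj n)).obj M)

/-- the transition maps of the pullback -/
noncomputable def pT {n n' : D'ᵒᵖ} (θ : n' ⟶ n) (W : Opens (Xs Y' n)) (W' : Opens (Xs Y' n'))
    (h : W' ≤ (Opens.map (Ym Y' θ)).obj W) :
    (POb c M n).obj.obj (op W) ⟶ (POb c M n').obj.obj (op W') :=
  Θsec (Ym Y (c.sh.map θ)) (strM Y M (c.sh.map θ)) (Ym Y' θ) (c.e n) (c.e n') (c.e_nat θ) W ≫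
    (POb c M n').obj.map (homOfLE h).op

lemma pT_apply {n n' : D'ᵒᵖ} (θ : n' ⟶ n) (W : Opens (Xs Y' n)) (W' : Opens (Xs Y' n'))
    (h : W' ≤ (Opens.map (Ym Y' θ)).obj W) (x : (POb c M n).obj.obj (op W)) :
    pT c M θ W W' h x = (POb c M n').obj.map (homOfLE h).op
      (Θsec (Ym Y (c.sh.map θ)) (strM Y M (c.sh.map θ)) (Ym Y' θ) (c.e n) (c.e n') (c.e_nat θ)
        W x) := rfl

lemma pT_id (n : D'ᵒᵖ) (W W' : Opens (Xs Y' n)) (h : W' ≤ (Opens.map (Ym Y' (𝟙 n))).obj W)
    (h' : W' ≤ W) (x : (POb c M n).obj.obj (op W)) :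
    pT c M (𝟙 n) W W' h x = (POb c M n).obj.map (homOfLE h').op x := by
  rw [pT_apply]
  refine Θsec_of_eq_id (Ym Y (c.sh.map (𝟙 n))) ?_ (strM Y M (c.sh.map (𝟙 n))) ?_ (Ym Y' (𝟙 n))
    (Ym_id Y' n) (c.e n) (c.e_nat (𝟙 n)) h h' x
  · rw [c.sh.map_id, Ym_id]
  · intro U hU
    rw [strM_app]
    have h1 : U ≤ (Opens.map (Ym Y (𝟙 (c.sh.obj n)))).obj U := by
      rw [Ym_id]
      exact le_rfl
    have h2 : (Opens.map (Ym Y (c.sh.map (𝟙 n)))).obj U ≤
        (Opens.map (Ym Y (𝟙 (c.sh.obj n)))).obj U := by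
      rw [c.sh.map_id]
    rw [restrP_map_eq M (c.sh.obj n) hU h2]
    apply mapP_congr
    exact c.sh.map_id n

lemma pT_comp {n n' n'' : D'ᵒᵖ} (θ : n' ⟶ n) (θ' : n'' ⟶ n') (W : Opens (Xs Y' n))
    (W' : Opens (Xs Y' n')) (W'' : Opens (Xs Y' n'')) (h : W' ≤ (Opens.map (Ym Y' θ)).obj W)
    (h' : W'' ≤ (Opens.map (Ym Y' θ')).obj W') (h'' : W'' ≤ (Opens.map (Ym Y' (θ' ≫ θ))).obj W)
    (x : (POb c M n).obj.obj (op W)) :
    pT c M (θ' ≫ θ) W W'' h'' x = pT c M θ' W' W'' h' (pT c M θ W W' h x) := by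
  rw [pT_apply, pT_apply, pT_apply]
  have w'' : (Ym Y' θ' ≫ Ym Y' θ) ≫ c.e n =
      c.e n'' ≫ (Ym Y (c.sh.map θ') ≫ Ym Y (c.sh.map θ)) := by
    rw [Category.assoc, c.e_nat θ, ← Category.assoc, c.e_nat θ', Category.assoc]
  have hW : W'' ≤ (Opens.map (Ym Y' θ' ≫ Ym Y' θ)).obj W := by
    rw [← Ym_comp]
    exact h''
  -- right-hand side
  have e1 := Θsec_res_apply (Ym Y (c.sh.map θ')) (strM Y M (c.sh.map θ')) (Ym Y' θ') (c.e n')
    (c.e n'') (c.e_nat θ') (homOfLE h)
    (Θsec (Ym Y (c.sh.map θ)) (strM Y M (c.sh.map θ)) (Ym Y' θ) (c.e n) (c.e n') (c.e_nat θ) W x)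
  rw [e1]
  have e2 := Θsec_comp (Ym Y (c.sh.map θ)) (Ym Y (c.sh.map θ')) (strM Y M (c.sh.map θ))
    (strM Y M (c.sh.map θ')) (Ym Y' θ) (Ym Y' θ') (c.e n) (c.e n') (c.e n'') (c.e_nat θ)
    (c.e_nat θ') w'' W x
  rw [← e2]
  have e3 := Θsec_congr (Ym Y (c.sh.map (θ' ≫ θ))) (Ym Y (c.sh.map θ') ≫ Ym Y (c.sh.map θ))
    (by rw [c.sh.map_comp, Ym_comp]) (Ym Y' (θ' ≫ θ)) (Ym Y' θ' ≫ Ym Y' θ) (Ym_comp Y' θ' θ)
    (strM Y M (c.sh.map (θ' ≫ θ)))
    (show (restrP Y (c.sh.obj n)).obj M ⟶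
      (CohTop.push (Ym Y (c.sh.map θ') ≫ Ym Y (c.sh.map θ))).obj
        ((restrP Y (c.sh.obj n'')).obj M) from
      strM Y M (c.sh.map θ) ≫ (CohTop.push (Ym Y (c.sh.map θ))).map (strM Y M (c.sh.map θ')))
    (by
      intro U hU y
      have hU' : (Opens.map (Ym Y (c.sh.map (θ' ≫ θ)))).obj U ≤
          (Opens.map (Ym Y (𝟙 (c.sh.obj n'')))).obj
            ((Opens.map (Ym Y (c.sh.map θ') ≫ Ym Y (c.sh.map θ))).obj U) := by
        rw [Ym_id]
        exact hU
      rw [restrP_map_eq M (c.sh.obj n'') hU hU']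
      let U₁ : Opens (Xs Y (c.sh.obj n')) := (Opens.map (Ym Y (c.sh.map θ))).obj U
      let U₂ : Opens (Xs Y (c.sh.obj n'')) := (Opens.map (Ym Y (c.sh.map θ'))).obj U₁
      let U₃ : Opens (Xs Y (c.sh.obj n'')) := (Opens.map (Ym Y (c.sh.map (θ' ≫ θ)))).obj U
      let fa : tpOb Y (c.sh.obj n'') U₃ ⟶ tpOb Y (c.sh.obj n) U :=
        tpHom Y (c.sh.map (θ' ≫ θ)) le_rfl
      let fb : tpOb Y (c.sh.obj n'') U₃ ⟶ tpOb Y (c.sh.obj n'') U₂ :=
        tpHom Y (𝟙 (c.sh.obj n'')) hU'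
      let fc : tpOb Y (c.sh.obj n'') U₂ ⟶ tpOb Y (c.sh.obj n') U₁ := tpHom Y (c.sh.map θ') le_rfl
      let fd : tpOb Y (c.sh.obj n') U₁ ⟶ tpOb Y (c.sh.obj n) U := tpHom Y (c.sh.map θ) le_rfl
      let fk : tpOb Y (c.sh.obj n'') U₂ ⟶ tpOb Y (c.sh.obj n) U :=
        tpHom Y (c.sh.map θ' ≫ c.sh.map θ) (by
          rw [Ym_comp]
          exact le_rfl)
      have s1 : M.obj.map fc.op (M.obj.map fd.op y) = M.obj.map fk.op y :=
        mapP_comp_apply Y M fc fd fk rfl y
      have s2 : M.obj.map fb.op (M.obj.map fk.op y) = M.obj.map fa.op y :=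
        mapP_comp_apply Y M fb fk fa (by
          show 𝟙 _ ≫ (c.sh.map θ' ≫ c.sh.map θ) = c.sh.map (θ' ≫ θ)
          rw [Category.id_comp, c.sh.map_comp]) y
      exact ((congrArg (fun z => M.obj.map fb.op z) s1).trans s2).symm)
    (c.e n) (c.e n'') (c.e_nat (θ' ≫ θ)) w'' h'' hW x
  refine e3.trans ?_
  exact (map_map_apply (POb c M n'').obj ((Opens.map (Ym Y' θ')).monotone h) h' hW _).symm

lemma pT_natural {M M' : DShY Y} (φ : M ⟶ M') {n n' : D'ᵒᵖ} (θ : n' ⟶ n)
    (W : Opens (Xs Y' n)) (W' : Opens (Xs Y' n')) (h : W' ≤ (Opens.map (Ym Y' θ)).obj W)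
    (x : (POb c M n).obj.obj (op W)) :
    pT c M' θ W W' h
        (((CohTop.pull (c.e n)).map ((restrP Y (c.sh.obj n)).map φ)).hom.app (op W) x) =
      ((CohTop.pull (c.e n')).map ((restrP Y (c.sh.obj n')).map φ)).hom.app (op W')
        (pT c M θ W W' h x) := by
  rw [pT_apply, pT_apply]
  have e1 := Θsec_natural (Ym Y (c.sh.map θ)) (strM Y M (c.sh.map θ)) (strM Y M' (c.sh.map θ))
    ((restrP Y (c.sh.obj n)).map φ) ((restrP Y (c.sh.obj n')).map φ)
    (strM_natural Y φ (c.sh.map θ)) (Ym Y' θ) (c.e n) (c.e n') (c.e_nat θ) W x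
  rw [e1]
  exact (ConcreteCategory.congr_hom
    (((CohTop.pull (c.e n')).map ((restrP Y (c.sh.obj n')).map φ)).hom.naturality
      (homOfLE h).op) _).symm

/-- the presheaf of the pullback -/
noncomputable def PPre : (∫ᶜ (part (topAug Y')))ᵒᵖ ⥤ AddCommGrpCat.{u} where
  obj X := (POb c M X.unop.base).obj.obj (op (fibP Y' X.unop))
  map f := pT c M f.unop.base (fibP Y' _) (fibP Y' _) (fibP_le Y' f.unop)
  map_id X := by
    ext x
    have h1 := pT_id c M X.unop.base (fibP Y' X.unop) (fibP Y' X.unop)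
      (fibP_le Y' (𝟙 X.unop)) le_rfl x
    have h2 : (POb c M X.unop.base).obj.map (homOfLE (le_refl (fibP Y' X.unop))).op = 𝟙 _ :=
      CategoryTheory.Functor.map_id _ _
    exact h1.trans (ConcreteCategory.congr_hom h2 x)
  map_comp {X₁ X₂ X₃} f g := by
    ext x
    exact pT_comp c M f.unop.base g.unop.base (fibP Y' X₁.unop) (fibP Y' X₂.unop)
      (fibP Y' X₃.unop) (fibP_le Y' f.unop) (fibP_le Y' g.unop) (fibP_le Y' (g.unop ≫ f.unop)) x

/-- the restriction of the pullback to a fibre -/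
noncomputable def pFibIso (s : D'ᵒᵖ) :
    (ι (part (topAug Y')) s).op ⋙ PPre c M ≅ (POb c M s).obj :=
  NatIso.ofComponents (fun W => Iso.refl _) (by
    intro W W' i
    have h1 : ((ι (part (topAug Y')) s).op ⋙ PPre c M).map i = (POb c M s).obj.map i := by
      ext x
      exact pT_id c M s _ _ _
        (leOfHom (show (W'.unop : Opens (Xs Y' s)) ⟶ (W.unop : Opens (Xs Y' s)) from i.unop)) x
    rw [h1]
    exact (Category.comp_id _).trans (Category.id_comp _).symm)

lemma isSheaf_PPre :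
    Presheaf.IsSheaf (totPart (topAug Y') (topAugTop Y')) (PPre c M) := by
  apply TotSheaf.isSheaf (part (topAug Y')) (partTop (topAug Y') (topAugTop Y'))
    (TotApi.hcovPart Y')
  intro s
  exact (Presheaf.isSheaf_of_iso_iff (pFibIso c M s)).2 (POb c M s).property

/-- the pullback of a sheaf -/
noncomputable def PObj : DShY Y' := ⟨PPre c M, isSheaf_PPre c M⟩

variable {M}

/-- the pullback on morphisms -/
noncomputable def PMap {M M' : DShY Y} (φ : M ⟶ M') : PObj c M ⟶ PObj c M' where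
  hom :=
    { app := fun X => ((CohTop.pull (c.e X.unop.base)).map
        ((restrP Y (c.sh.obj X.unop.base)).map φ)).hom.app (op (fibP Y' X.unop))
      naturality := by
        intro X X' f
        ext x
        exact (pT_natural c φ f.unop.base (fibP Y' X.unop) (fibP Y' X'.unop)
          (fibP_le Y' f.unop) x).symm }

/-- the pullback functor -/
noncomputable def Pull : DShY Y ⥤ DShY Y' where
  obj M := PObj c M
  map φ := PMap c φ
  map_id M := by
    apply Sheaf.hom_ext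
    apply NatTrans.ext
    funext X
    show ((CohTop.pull (c.e X.unop.base)).map
      ((restrP Y (c.sh.obj X.unop.base)).map (𝟙 M))).hom.app (op (fibP Y' X.unop)) = 𝟙 _
    rw [CategoryTheory.Functor.map_id, CategoryTheory.Functor.map_id]
    rfl
  map_comp φ ψ := by
    apply Sheaf.hom_ext
    apply NatTrans.ext
    funext X
    show ((CohTop.pull (c.e X.unop.base)).map
      ((restrP Y (c.sh.obj X.unop.base)).map (φ ≫ ψ))).hom.app (op (fibP Y' X.unop)) = _
    rw [CategoryTheory.Functor.map_comp, CategoryTheory.Functor.map_comp]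
    rfl

/-- levelwise description of the pullback -/
noncomputable def levelIso (s : D'ᵒᵖ) :
    Pull c ⋙ restrP Y' s ≅ restrP Y (c.sh.obj s) ⋙ CohTop.pull (c.e s) :=
  NatIso.ofComponents
    (fun M =>
      { hom := ⟨(pFibIso c M s).hom⟩
        inv := ⟨(pFibIso c M s).inv⟩
        hom_inv_id := by
          apply Sheaf.hom_ext
          exact (pFibIso c M s).hom_inv_id
        inv_hom_id := by
          apply Sheaf.hom_ext
          exact (pFibIso c M s).inv_hom_id })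
    (by
      intro M M' φ
      apply Sheaf.hom_ext
      apply NatTrans.ext
      funext W
      show ((CohTop.pull (c.e s)).map ((restrP Y (c.sh.obj s)).map φ)).hom.app W ≫ 𝟙 _ =
        𝟙 _ ≫ ((CohTop.pull (c.e s)).map ((restrP Y (c.sh.obj s)).map φ)).hom.app W
      rw [Category.comp_id, Category.id_comp])

instance additive_Pull : (Pull c).Additive where
  map_add {M M' φ ψ} := by
    apply Sheaf.hom_ext
    apply NatTrans.ext
    funext X
    show ((CohTop.pull (c.e X.unop.base)).map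
      ((restrP Y (c.sh.obj X.unop.base)).map (φ + ψ))).hom.app (op (fibP Y' X.unop)) = _
    rw [Functor.map_add, Functor.map_add]
    rfl

instance pfl_levels (s : D'ᵒᵖ) :
    PreservesFiniteLimits (restrP Y (c.sh.obj s) ⋙ CohTop.pull (c.e s)) := by
  haveI : PreservesFiniteLimits (CohTop.pull (c.e s)) := pull_preservesFiniteLimits _
  exact comp_preservesFiniteLimits _ _

instance pfc_levels (s : D'ᵒᵖ) :
    PreservesFiniteColimits (restrP Y (c.sh.obj s) ⋙ CohTop.pull (c.e s)) := by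
  haveI : PreservesFiniteColimits (CohTop.pull (c.e s)) := by
    have : PreservesColimitsOfSize.{0, 0} (CohTop.pull (c.e s)) :=
      (pbAdj (c.e s)).leftAdjoint_preservesColimits
    exact PreservesColimitsOfSize.preservesFiniteColimits _
  exact comp_preservesFiniteColimits _ _

lemma exact_Pull (S : ShortComplex (DShY Y)) (hS : S.Exact) : (S.map (Pull c)).Exact := by
  apply exact_of_levels
  intro s
  have t := (Functor.exact_tfae (restrP Y (c.sh.obj s) ⋙ CohTop.pull (c.e s))).out 3 1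
  have h1 : (S.map (restrP Y (c.sh.obj s) ⋙ CohTop.pull (c.e s))).Exact :=
    t.1 ⟨inferInstance, inferInstance⟩ S hS
  have e : S.map (Pull c ⋙ restrP Y' s) ≅ S.map (restrP Y (c.sh.obj s) ⋙ CohTop.pull (c.e s)) :=
    S.mapNatIso (levelIso c s)
  exact (ShortComplex.exact_iff_of_iso e).2 h1

lemma exact_Pull' : PreservesFiniteLimits (Pull c) ∧ PreservesFiniteColimits (Pull c) := by
  have t := (Functor.exact_tfae (Pull c)).out 1 3
  exact t.1 (exact_Pull c)

instance preservesFiniteLimits_Pull : PreservesFiniteLimits (Pull c) := (exact_Pull' c).1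

instance preservesFiniteColimits_Pull : PreservesFiniteColimits (Pull c) := (exact_Pull' c).2

end GPull

end Groth.Agent.Lib.helper27
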