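import Mathlib
import Groth.Prelude.Def_FibDesc
import Groth.Agent.Lib.Helper27.GPull
import Groth.Agent.Lib.Helper27.DecNat

set_option autoImplicit false
set_option linter.unusedSectionVars false
set_option linter.unusedVariables false
set_option linter.style.haveILetI false
set_option backward.isDefEq.respectTransparency false
set_option backward.isDefEq.respectTransparency.types false

namespace Groth.Agent.Lib.helper27

open CategoryTheory Limits Opposite Pseudofunctor Pseudofunctor.CoGrothendieck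
open FibDesc TopologicalSpace

universe u

namespace GPullK

open BigSec TotSide TAug RanV SqSec PullConst DecDef GPull DecNat

variable {D D' : Type} [SmallCategory D] [SmallCategory D']
  {Y : (WithInitial D)ᵒᵖ ⥤ TopCat.{u}} {Y' : (WithInitial D')ᵒᵖ ⥤ TopCat.{u}}
  (c : PData Y Y') (M : DShY Y)

/-- pulling back sections -/
noncomputable def γsec (n : D'ᵒᵖ) (U : Opens (Xs Y (c.sh.obj n))) (W' : Opens (Xs Y' n))
    (h : W' ≤ (Opens.map (c.e n)).obj U) :
    M.obj.obj (op (tpOb Y (c.sh.obj n) U)) ⟶ (POb c M n).obj.obj (op W') :=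
  ρ (c.e n) ((restrP Y (c.sh.obj n)).obj M) U ≫ (POb c M n).obj.map (homOfLE h).op

lemma γsec_apply (n : D'ᵒᵖ) (U : Opens (Xs Y (c.sh.obj n))) (W' : Opens (Xs Y' n))
    (h : W' ≤ (Opens.map (c.e n)).obj U) (x : M.obj.obj (op (tpOb Y (c.sh.obj n) U))) :
    γsec c M n U W' h x = (POb c M n).obj.map (homOfLE h).op
      (ρ (c.e n) ((restrP Y (c.sh.obj n)).obj M) U x) := rfl

/-- compatibility of `γsec` with the transition maps -/
lemma γsec_natural {n n' : D'ᵒᵖ} (θ : n' ⟶ n) (U : Opens (Xs Y (c.sh.obj n)))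
    (W' : Opens (Xs Y' n)) (h : W' ≤ (Opens.map (c.e n)).obj U)
    (U₁ : Opens (Xs Y (c.sh.obj n'))) (W₁' : Opens (Xs Y' n'))
    (h₁ : W₁' ≤ (Opens.map (c.e n')).obj U₁)
    (hU : U₁ ≤ (Opens.map (Ym Y (c.sh.map θ))).obj U)
    (hW : W₁' ≤ (Opens.map (Ym Y' θ)).obj W')
    (x : M.obj.obj (op (tpOb Y (c.sh.obj n) U))) :
    pT c M θ W' W₁' hW (γsec c M n U W' h x) =
      γsec c M n' U₁ W₁' h₁ (M.obj.map (tpHom Y (c.sh.map θ) hU).op x) := by
  rw [pT_apply, γsec_apply, γsec_apply]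
  let G := (restrP Y (c.sh.obj n)).obj M
  let G' := (restrP Y (c.sh.obj n')).obj M
  let U₂ : Opens (Xs Y (c.sh.obj n')) := (Opens.map (Ym Y (c.sh.map θ))).obj U
  let y₂ : G'.obj.obj (op U₂) := M.obj.map (tpHom Y (c.sh.map θ) (le_refl U₂)).op x
  have hsq := sq_le (Ym Y (c.sh.map θ)) (c.e n) (c.e n') (Ym Y' θ) (c.e_nat θ) U
  have e1 := Θsec_res_apply (Ym Y (c.sh.map θ)) (strM Y M (c.sh.map θ)) (Ym Y' θ) (c.e n) (c.e n')
    (c.e_nat θ) (homOfLE h) (ρ (c.e n) G U x)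
  have e2 : Θsec (Ym Y (c.sh.map θ)) (strM Y M (c.sh.map θ)) (Ym Y' θ) (c.e n) (c.e n') (c.e_nat θ)
      ((Opens.map (c.e n)).obj U) (ρ (c.e n) G U x) =
      ((CohTop.pull (c.e n')).obj G').obj.map (homOfLE hsq).op (ρ (c.e n') G' U₂ y₂) :=
    ρ_Θsec (Ym Y (c.sh.map θ)) (strM Y M (c.sh.map θ)) (Ym Y' θ) (c.e n) (c.e n') (c.e_nat θ) U
      hsq x
  have hW₂ : W₁' ≤ (Opens.map (c.e n')).obj U₂ := fun p hp => hU (h₁ hp)
  have L : (POb c M n').obj.map (homOfLE hW).op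
      (Θsec (Ym Y (c.sh.map θ)) (strM Y M (c.sh.map θ)) (Ym Y' θ) (c.e n) (c.e n') (c.e_nat θ) W'
        ((POb c M n).obj.map (homOfLE h).op (ρ (c.e n) G U x))) =
      (POb c M n').obj.map (homOfLE hW₂).op (ρ (c.e n') G' U₂ y₂) := by
    rw [e1, e2]
    have hmid : (Opens.map (Ym Y' θ)).obj W' ≤ (Opens.map (c.e n')).obj U₂ :=
      le_trans ((Opens.map (Ym Y' θ)).monotone h) hsq
    have m1 := map_map_hom (POb c M n').obj (homOfLE hsq)
      ((Opens.map (Ym Y' θ)).map (homOfLE h)) (homOfLE hmid) (ρ (c.e n') G' U₂ y₂)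
    have m2 := map_map_hom (POb c M n').obj (homOfLE hmid) (homOfLE hW) (homOfLE hW₂)
      (ρ (c.e n') G' U₂ y₂)
    exact (congrArg (fun t => (POb c M n').obj.map (homOfLE hW).op t) m1).trans m2
  refine L.trans ?_
  have e3 := ρ_res_eq (c.e n') G' hU y₂ hW₂ h₁
  refine e3.trans ?_
  congr 2
  have hU'' : U₁ ≤ (Opens.map (Ym Y (𝟙 (c.sh.obj n')))).obj U₂ := by
    rw [Ym_id]
    exact hU
  rw [restrP_map_eq M (c.sh.obj n') hU hU'']
  exact mapP_comp_apply Y M (tpHom Y (𝟙 (c.sh.obj n')) hU'') (tpHom Y (c.sh.map θ) (le_refl U₂))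
    (tpHom Y (c.sh.map θ) hU) (Category.id_comp _) x

variable {M}

/-- naturality of `γsec` in the sheaf -/
lemma γsec_natural_M {M M' : DShY Y} (φ : M ⟶ M') (n : D'ᵒᵖ) (U : Opens (Xs Y (c.sh.obj n)))
    (W' : Opens (Xs Y' n)) (h : W' ≤ (Opens.map (c.e n)).obj U)
    (x : M.obj.obj (op (tpOb Y (c.sh.obj n) U))) :
    γsec c M' n U W' h (φ.hom.app (op (tpOb Y (c.sh.obj n) U)) x) =
      ((CohTop.pull (c.e n)).map ((restrP Y (c.sh.obj n)).map φ)).hom.app (op W')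
        (γsec c M n U W' h x) := by
  rw [γsec_apply, γsec_apply]
  let κ := (restrP Y (c.sh.obj n)).map φ
  have e1 : ((CohTop.pull (c.e n)).map κ).hom.app (op W')
      ((POb c M n).obj.map (homOfLE h).op
        (ρ (c.e n) ((restrP Y (c.sh.obj n)).obj M) U x)) =
      (POb c M' n).obj.map (homOfLE h).op
        (((CohTop.pull (c.e n)).map κ).hom.app (op ((Opens.map (c.e n)).obj U))
          (ρ (c.e n) ((restrP Y (c.sh.obj n)).obj M) U x)) :=
    ConcreteCategory.congr_hom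
      (((CohTop.pull (c.e n)).map κ).hom.naturality (homOfLE h).op) _
  have e2 : ((CohTop.pull (c.e n)).map κ).hom.app (op ((Opens.map (c.e n)).obj U))
      (ρ (c.e n) ((restrP Y (c.sh.obj n)).obj M) U x) =
      ρ (c.e n) ((restrP Y (c.sh.obj n)).obj M') U (κ.hom.app (op U) x) :=
    ConcreteCategory.congr_hom (ρ_naturality (c.e n) κ U) x
  rw [e1, e2]
  rfl

end GPullK

end Groth.Agent.Lib.helper27
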