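import Mathlib

set_option linter.unusedSectionVars false
set_option linter.unusedVariables false

namespace Groth.Agent.Lib.helper27

open CategoryTheory Limits

namespace HomotopyAdj

variable {A B : Type*} [Category A] [Category B] [Preadditive A] [Preadditive B]
  {L : A ⥤ B} {R : B ⥤ A} (adj : L ⊣ R) [L.Additive] [R.Additive]
  {ι : Type*} (c : ComplexShape ι)

/-- the unit on complexes -/
def unitC (K : HomologicalComplex A c) :
    K ⟶ (R.mapHomologicalComplex c).obj ((L.mapHomologicalComplex c).obj K) where
  f i := adj.unit.app (K.X i)
  comm' i j _ := (adj.unit.naturality (K.d i j)).symm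

/-- the counit on complexes -/
def counitC (M : HomologicalComplex B c) :
    (L.mapHomologicalComplex c).obj ((R.mapHomologicalComplex c).obj M) ⟶ M where
  f i := adj.counit.app (M.X i)
  comm' i j _ := (adj.counit.naturality (M.d i j)).symm

lemma unitC_naturality {K K' : HomologicalComplex A c} (f : K ⟶ K') :
    f ≫ unitC adj c K' =
      unitC adj c K ≫ (R.mapHomologicalComplex c).map ((L.mapHomologicalComplex c).map f) := by
  ext i
  exact adj.unit.naturality (f.f i)

lemma counitC_naturality {M M' : HomologicalComplex B c} (f : M ⟶ M') :
    (L.mapHomologicalComplex c).map ((R.mapHomologicalComplex c).map f) ≫ counitC adj c M' =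
      counitC adj c M ≫ f := by
  ext i
  exact adj.counit.naturality (f.f i)

lemma left_triangleC (K : HomologicalComplex A c) :
    (L.mapHomologicalComplex c).map (unitC adj c K) ≫
      counitC adj c ((L.mapHomologicalComplex c).obj K) = 𝟙 _ := by
  ext i
  exact adj.left_triangle_components (K.X i)

lemma right_triangleC (M : HomologicalComplex B c) :
    unitC adj c ((R.mapHomologicalComplex c).obj M) ≫
      (R.mapHomologicalComplex c).map (counitC adj c M) = 𝟙 _ := by
  ext i
  exact adj.right_triangle_components (M.X i)

/-- the adjunction on homotopy categories -/
def homotopyAdj : L.mapHomotopyCategory c ⊣ R.mapHomotopyCategory c :=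
    { unit :=
        { app := fun X => (HomotopyCategory.quotient A c).map (unitC adj c X.as)
          naturality := by
            rintro ⟨K⟩ ⟨K'⟩ ⟨f : K ⟶ K'⟩
            change (HomotopyCategory.quotient A c).map f ≫ (HomotopyCategory.quotient A c).map _ =
              (HomotopyCategory.quotient A c).map _ ≫ (HomotopyCategory.quotient A c).map
                ((R.mapHomologicalComplex c).map ((L.mapHomologicalComplex c).map f))
            rw [← Functor.map_comp, ← Functor.map_comp, unitC_naturality] }
      counit :=
        { app := fun X => (HomotopyCategory.quotient B c).map (counitC adj c X.as)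
          naturality := by
            rintro ⟨M⟩ ⟨M'⟩ ⟨f : M ⟶ M'⟩
            change (HomotopyCategory.quotient B c).map
                ((L.mapHomologicalComplex c).map ((R.mapHomologicalComplex c).map f)) ≫
                (HomotopyCategory.quotient B c).map _ =
              (HomotopyCategory.quotient B c).map _ ≫ (HomotopyCategory.quotient B c).map f
            rw [← Functor.map_comp, ← Functor.map_comp, counitC_naturality] }
      left_triangle_components := by
        rintro ⟨K⟩
        change (HomotopyCategory.quotient B c).map ((L.mapHomologicalComplex c).map (unitC adj c K)) ≫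
          (HomotopyCategory.quotient B c).map (counitC adj c ((L.mapHomologicalComplex c).obj K)) = 𝟙 _
        rw [← Functor.map_comp, left_triangleC]
        exact CategoryTheory.Functor.map_id _ _
      right_triangle_components := by
        rintro ⟨M⟩
        change (HomotopyCategory.quotient A c).map (unitC adj c ((R.mapHomologicalComplex c).obj M)) ≫
          (HomotopyCategory.quotient A c).map ((R.mapHomologicalComplex c).map (counitC adj c M)) = 𝟙 _
        rw [← Functor.map_comp, right_triangleC]
        exact CategoryTheory.Functor.map_id _ _ }

/-- the adjunction on bounded below homotopy categories -/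
noncomputable def homotopyAdjPlus : L.mapHomotopyCategoryPlus ⊣ R.mapHomotopyCategoryPlus :=
  (homotopyAdj adj (ComplexShape.up ℤ)).restrictFullyFaithful
    (HomotopyCategory.Plus.fullyFaithfulι A) (HomotopyCategory.Plus.fullyFaithfulι B)
    (Iso.refl _) (Iso.refl _)

end HomotopyAdj

end Groth.Agent.Lib.helper27
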