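import Mathlib
import Groth.Agent.Lib.Helper27.HomotopyAdj
import Groth.Agent.Lib.Helper27.Leray3

set_option autoImplicit false
set_option linter.unusedSectionVars false
set_option linter.unusedVariables false

namespace Groth.Agent.Lib.helper27

open CategoryTheory Limits

universe w w' v u v' u'

namespace FFThm

section Abstract

variable {KA DA KB DB : Type*} [Category KA] [Category DA] [Category KB] [Category DB]
  (QA : KA ⥤ DA) (QB : KB ⥤ DB) (Th : KA ⥤ KB) (TD : DA ⥤ DB) (e : QA ⋙ TD ≅ Th ⋙ QB)

include e in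
/-- abstract transfer of bijectivity through localizations -/
lemma bijective_of_square (kK kI : KA) (kJ : KB) (jh : Th.obj kI ⟶ kJ) [IsIso (QB.map jh)]
    (h1 : Function.Bijective (QA.map : (kK ⟶ kI) → _))
    (h2 : Function.Bijective (QB.map : (Th.obj kK ⟶ kJ) → _))
    (h3 : Function.Bijective (fun φ : kK ⟶ kI => Th.map φ ≫ jh)) :
    Function.Bijective (TD.map : (QA.obj kK ⟶ QA.obj kI) → _) := by
  let Φ : (QA.obj kK ⟶ QA.obj kI) → (QB.obj (Th.obj kK) ⟶ QB.obj kJ) :=
    fun g => e.inv.app kK ≫ TD.map g ≫ e.hom.app kI ≫ QB.map jh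
  have hΦ : Φ ∘ (QA.map : (kK ⟶ kI) → _) = (QB.map : (Th.obj kK ⟶ kJ) → _) ∘
      (fun φ : kK ⟶ kI => Th.map φ ≫ jh) := by
    funext φ
    have := e.hom.naturality φ
    dsimp at this
    dsimp [Φ]
    rw [← Category.assoc (TD.map _), this]
    simp
  have hΦb : Function.Bijective Φ := by
    have : Function.Bijective (Φ ∘ (QA.map : (kK ⟶ kI) → _)) := by
      rw [hΦ]
      exact h2.comp h3
    exact (Function.Bijective.of_comp_iff Φ h1).1 this
  -- `Φ` is `TD.map` followed by a bijection
  let Ξ : (TD.obj (QA.obj kK) ⟶ TD.obj (QA.obj kI)) → (QB.obj (Th.obj kK) ⟶ QB.obj kJ) :=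
    fun g => e.inv.app kK ≫ g ≫ e.hom.app kI ≫ QB.map jh
  have hΞ : Function.Bijective Ξ := by
    constructor
    · intro g g' h
      dsimp [Ξ] at h
      have h' := (cancel_epi (e.inv.app kK)).1 h
      have : IsIso (e.hom.app kI ≫ QB.map jh) := inferInstance
      exact (cancel_mono (e.hom.app kI ≫ QB.map jh)).1 h'
    · intro g
      refine ⟨e.hom.app kK ≫ g ≫ inv (QB.map jh) ≫ e.inv.app kI, ?_⟩
      dsimp [Ξ]
      simp
  have : Ξ ∘ (TD.map : (QA.obj kK ⟶ QA.obj kI) → _) = Φ := rfl
  exact (Function.Bijective.of_comp_iff' hΞ _).1 (this ▸ hΦb)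

end Abstract

section Main

open HomotopyAdj

variable {A : Type u} [Category.{v} A] [Abelian A] {B : Type u'} [Category.{v'} B] [Abelian B]
  {T : A ⥤ B} {U : B ⥤ A} (adj : T ⊣ U) [T.Additive] [U.Additive]

lemma bijective_psi (kK kI : HomotopyCategory A (ComplexShape.up ℤ))
    (kJ : HomotopyCategory B (ComplexShape.up ℤ))
    (jh : (T.mapHomotopyCategory _).obj kI ⟶ kJ)
    (hc : IsIso ((homotopyAdj adj (ComplexShape.up ℤ)).unit.app kI ≫
      (U.mapHomotopyCategory _).map jh)) :
    Function.Bijective (fun φ : kK ⟶ kI => (T.mapHomotopyCategory _).map φ ≫ jh) := by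
  let E := (homotopyAdj adj (ComplexShape.up ℤ)).homEquiv kK kJ
  have h : ∀ φ : kK ⟶ kI, E ((T.mapHomotopyCategory _).map φ ≫ jh) =
      φ ≫ ((homotopyAdj adj (ComplexShape.up ℤ)).unit.app kI ≫
        (U.mapHomotopyCategory _).map jh) := by
    intro φ
    dsimp [E]
    rw [Adjunction.homEquiv_unit, Functor.map_comp, ← Category.assoc, ← Category.assoc]
    congr 1
    exact ((homotopyAdj adj (ComplexShape.up ℤ)).unit.naturality φ).symm
  have hb : Function.Bijective (fun φ : kK ⟶ kI => φ ≫
      ((homotopyAdj adj (ComplexShape.up ℤ)).unit.app kI ≫ (U.mapHomotopyCategory _).map jh)) := by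
    constructor
    · intro a b hab
      exact (cancel_mono _).1 hab
    · intro g
      exact ⟨g ≫ inv ((homotopyAdj adj (ComplexShape.up ℤ)).unit.app kI ≫
        (U.mapHomotopyCategory _).map jh), by simp⟩
  have : E ∘ (fun φ : kK ⟶ kI => (T.mapHomotopyCategory _).map φ ≫ jh) = _ := funext h
  exact (Function.Bijective.of_comp_iff' E.bijective _).1 (this ▸ hb)

lemma bijective_map_of_iso {C D : Type*} [Category C] [Category D] (F : C ⥤ D) {X X' Y Y' : C}
    (a : X ≅ X') (b : Y ≅ Y')
    (h : Function.Bijective (F.map : (X' ⟶ Y') → _)) :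
    Function.Bijective (F.map : (X ⟶ Y) → _) := by
  constructor
  · intro g g' hg
    have : F.map (a.inv ≫ g ≫ b.hom) = F.map (a.inv ≫ g' ≫ b.hom) := by
      simp only [Functor.map_comp]
      rw [show F.map g = F.map g' from hg]
    have := h.1 this
    simpa using this
  · intro g
    obtain ⟨g₀, hg₀⟩ := h.2 (F.map a.inv ≫ g ≫ F.map b.hom)
    refine ⟨a.hom ≫ g₀ ≫ b.inv, ?_⟩
    simp only [Functor.map_comp, hg₀]
    simp [← Functor.map_comp_assoc, ← Functor.map_comp]

end Main

section Thm

open HomotopyAdj DerivedCategory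

variable {A : Type u} [Category.{v} A] [Abelian A] {B : Type u'} [Category.{v'} B] [Abelian B]
  [HasDerivedCategory.{w} A] [HasDerivedCategory.{w'} B]
  {T : A ⥤ B} {U : B ⥤ A} (adj : T ⊣ U) [T.Additive] [U.Additive]
  [PreservesFiniteLimits T] [PreservesFiniteColimits T]
  [EnoughInjectives A] [EnoughInjectives B]

include adj in
lemma injective_U_obj (J : B) [Injective J] : Injective (U.obj J) :=
  Injective.injective_of_adjoint adj J

lemma isIso_quotient_map_of_quasiIso {K L : CochainComplex A ℤ} [K.IsKInjective] [L.IsKInjective]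
    (f : K ⟶ L) [QuasiIso f] : IsIso ((HomotopyCategory.quotient A (ComplexShape.up ℤ)).map f) := by
  have h := (CochainComplex.IsKInjective.quasiIso_iff f).1 inferInstance
  rw [← HomotopyCategory.inverseImage_quotient_isomorphisms,
    MorphismProperty.inverseImage_iff, MorphismProperty.isomorphisms.iff] at h
  exact h

include adj in
theorem main_aux (hunit : ∀ I : A, Injective I → IsIso (adj.unit.app I))
    (hacyc : ∀ I : A, Injective I → ∀ q : ℕ, 0 < q → IsZero ((U.rightDerived q).obj (T.obj I)))
    (K' I' : CochainComplex A ℤ) (n : ℤ) [I'.IsStrictlyGE n] (hI' : ∀ m, Injective (I'.X m)) :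
    Function.Bijective (T.mapDerivedCategory.map :
      (Qh.obj ((HomotopyCategory.quotient A _).obj K') ⟶
        Qh.obj ((HomotopyCategory.quotient A _).obj I')) → _) := by
  have : PreservesLimits U := adj.rightAdjoint_preservesLimits
  have : I'.IsKInjective := CochainComplex.isKInjective_of_injective I' n
  -- the injective resolution of `T I'`
  let M' : CochainComplex B ℤ := (T.mapHomologicalComplex (ComplexShape.up ℤ)).obj I'
  have : M'.IsStrictlyGE n := by dsimp [M']; infer_instance
  obtain ⟨J', j, hj, hJ', hJ'n⟩ :=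
    CochainComplex.Plus.modelCategoryQuillen.exists_quasiIso_injective M' n
  have : J'.IsKInjective := CochainComplex.isKInjective_of_injective J' n
  let UJ : CochainComplex A ℤ := (U.mapHomologicalComplex (ComplexShape.up ℤ)).obj J'
  have : UJ.IsStrictlyGE n := by dsimp [UJ]; infer_instance
  have hUJ : ∀ m, Injective (UJ.X m) := fun m => injective_U_obj adj (J'.X m)
  have : UJ.IsKInjective := CochainComplex.isKInjective_of_injective UJ n
  -- the comparison map
  let c : I' ⟶ UJ := unitC adj _ I' ≫ (U.mapHomologicalComplex (ComplexShape.up ℤ)).map j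
  have hu : IsIso (unitC adj (ComplexShape.up ℤ) I') := by
    have : ∀ m, IsIso ((unitC adj (ComplexShape.up ℤ) I').f m) := fun m => hunit _ (hI' m)
    exact HomologicalComplex.Hom.isIso_of_components _
  have hUj : QuasiIso ((U.mapHomologicalComplex (ComplexShape.up ℤ)).map j) :=
    Leray.quasiIso_map_of_acyc U j n n
      (fun m i hi => hacyc _ (hI' m) i hi)
      (fun m => Leray.acyc_of_injective U (J'.X m))
  have hc : QuasiIso c := by dsimp [c]; infer_instance
  have hci : IsIso ((HomotopyCategory.quotient A (ComplexShape.up ℤ)).map c) :=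
    isIso_quotient_map_of_quasiIso c
  -- apply the abstract square lemma
  let kK := (HomotopyCategory.quotient A (ComplexShape.up ℤ)).obj K'
  let kI := (HomotopyCategory.quotient A (ComplexShape.up ℤ)).obj I'
  let kJ := (HomotopyCategory.quotient B (ComplexShape.up ℤ)).obj J'
  let jh : (T.mapHomotopyCategory _).obj kI ⟶ kJ :=
    (HomotopyCategory.quotient B (ComplexShape.up ℤ)).map j
  have hjh : IsIso (Qh.map jh) := by
    have : IsIso (Q.map j) := inferInstance
    have e := (quotientCompQhIso B).hom.naturality j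
    dsimp at e
    have h3 : IsIso (Qh.map jh ≫ (quotientCompQhIso B).hom.app J') := by
      have e' : Qh.map jh ≫ (quotientCompQhIso B).hom.app J' =
          (quotientCompQhIso B).hom.app M' ≫ Q.map j := e
      rw [e']
      have i1 : IsIso (Q.map j) := inferInstance
      have i2 : IsIso ((quotientCompQhIso B).hom.app M') :=
        ((quotientCompQhIso B).app M').isIso_hom
      exact @IsIso.comp_isIso _ _ _ _ _ _ _ i2 i1
    exact IsIso.of_isIso_comp_right _ ((quotientCompQhIso B).hom.app J')
  refine bijective_of_square Qh Qh (T.mapHomotopyCategory _) T.mapDerivedCategory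
    T.mapDerivedCategoryFactorsh kK kI kJ jh
    (CochainComplex.IsKInjective.Qh_map_bijective _ _)
    (CochainComplex.IsKInjective.Qh_map_bijective _ _) ?_
  refine bijective_psi adj kK kI kJ jh ?_
  have : (homotopyAdj adj (ComplexShape.up ℤ)).unit.app kI ≫ (U.mapHomotopyCategory _).map jh =
      (HomotopyCategory.quotient A (ComplexShape.up ℤ)).map c := by
    dsimp [c]
    rw [Functor.map_comp]
    rfl
  rw [this]
  exact hci

include adj in
/-- **Full faithfulness criterion on `D⁺`**: if `T ⊣ U` with `T` exact, the unit is an isomorphism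
on injectives and `T I` is `U`-acyclic for `I` injective, then `T.mapDerivedCategory` is bijective
on `Hom(K, L)` for `L` bounded below. -/
theorem main (hunit : ∀ I : A, Injective I → IsIso (adj.unit.app I))
    (hacyc : ∀ I : A, Injective I → ∀ q : ℕ, 0 < q → IsZero ((U.rightDerived q).obj (T.obj I)))
    (K L : DerivedCategory A) (n : ℤ) [L.IsGE n] :
    Function.Bijective (T.mapDerivedCategory.map : (K ⟶ L) → _) := by
  obtain ⟨L₀, hL₀, ⟨eL⟩⟩ := exists_iso_Q_obj_of_isGE L n
  obtain ⟨I', i, hi, hI', hI'n⟩ :=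
    CochainComplex.Plus.modelCategoryQuillen.exists_quasiIso_injective L₀ n
  let K' := Q.objPreimage K
  let eK : Q.obj K' ≅ K := Q.objObjPreimageIso K
  have i1 : IsIso (Q.map i) := inferInstance
  let a : K ≅ Qh.obj ((HomotopyCategory.quotient A _).obj K') :=
    eK.symm ≪≫ ((quotientCompQhIso A).app K').symm
  let b : L ≅ Qh.obj ((HomotopyCategory.quotient A _).obj I') :=
    eL ≪≫ asIso (Q.map i) ≪≫ ((quotientCompQhIso A).app I').symm
  exact bijective_map_of_iso T.mapDerivedCategory a b (main_aux adj hunit hacyc K' I' n hI')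

end Thm

end FFThm

end Groth.Agent.Lib.helper27
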