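import Mathlib
import Groth.Agent.Lib.Helper27.ExtPsh

set_option autoImplicit false
set_option linter.unusedSectionVars false
set_option linter.unusedVariables false
set_option linter.style.haveILetI false

namespace Groth.Agent.Lib.helper27

open CategoryTheory Limits Opposite

universe u v' u'

namespace LemU

variable {C : Type u} [SmallCategory C] (J : GrothendieckTopology C)

/-- a short complex of abelian sheaves which is exact on all sections is exact -/
theorem exact_of_sections (S : ShortComplex (Sheaf J AddCommGrpCat.{u}))
    (h : ∀ V : Cᵒᵖ, (S.map ((sheafSections J AddCommGrpCat.{u}).obj V)).Exact) : S.Exact := by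
  let S' : ShortComplex (Cᵒᵖ ⥤ AddCommGrpCat.{u}) := S.map (sheafToPresheaf J AddCommGrpCat.{u})
  have hS' : S'.Exact := ExtPsh.exact_of_evaluation S' (fun V => h V)
  have h2 : (S'.map (presheafToSheaf J AddCommGrpCat.{u})).Exact :=
    hS'.map (presheafToSheaf J AddCommGrpCat.{u})
  let e : S'.map (presheafToSheaf J AddCommGrpCat.{u}) ≅ S :=
    ShortComplex.isoMk
      ((asIso (sheafificationAdjunction J AddCommGrpCat.{u}).counit).app S.X₁)
      ((asIso (sheafificationAdjunction J AddCommGrpCat.{u}).counit).app S.X₂)
      ((asIso (sheafificationAdjunction J AddCommGrpCat.{u}).counit).app S.X₃)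
      ((sheafificationAdjunction J AddCommGrpCat.{u}).counit.naturality S.f).symm
      ((sheafificationAdjunction J AddCommGrpCat.{u}).counit.naturality S.g).symm
  exact ShortComplex.exact_of_iso e h2

instance additive_sheafSections (V : Cᵒᵖ) :
    ((sheafSections J AddCommGrpCat.{u}).obj V).Additive where
  map_add := rfl

variable {ℬ : Type u'} [Category.{v'} ℬ] [Abelian ℬ] [EnoughInjectives ℬ]
  (U : ℬ ⥤ Sheaf J AddCommGrpCat.{u}) [U.Additive]

/-- if the derived functors of all `U ⋙ Γ(V, -)` vanish on `M` in degree `q`, so does the derived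
functor of `U` -/
theorem isZero_rightDerived (M : ℬ) (q : ℕ)
    (h : ∀ V : Cᵒᵖ, IsZero (((U ⋙ (sheafSections J AddCommGrpCat.{u}).obj V).rightDerived q).obj M)) :
    IsZero ((U.rightDerived q).obj M) := by
  let I : InjectiveResolution M := Classical.choice (HasInjectiveResolution.out (Z := M))
  refine IsZero.of_iso ?_ (I.isoRightDerivedObj U q)
  let K := (U.mapHomologicalComplex (ComplexShape.up ℕ)).obj I.cocomplex
  show IsZero (K.homology q)
  rw [← HomologicalComplex.exactAt_iff_isZero_homology]
  apply exact_of_sections
  intro V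
  have h1 := (h V).of_iso (I.isoRightDerivedObj (U ⋙ (sheafSections J AddCommGrpCat.{u}).obj V) q).symm
  let K' := ((U ⋙ (sheafSections J AddCommGrpCat.{u}).obj V).mapHomologicalComplex
    (ComplexShape.up ℕ)).obj I.cocomplex
  have h2 : IsZero (K'.homology q) := h1
  rw [← HomologicalComplex.exactAt_iff_isZero_homology] at h2
  exact h2

end LemU

end Groth.Agent.Lib.helper27
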