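import Mathlib
import Groth.Prelude.Def_FibDesc
import Groth.Agent.Lib.Helper27.RanV
import Groth.Agent.Lib.Helper27.LemU
import Groth.Agent.Lib.Helper27.FFThm

set_option autoImplicit false
set_option linter.unusedSectionVars false
set_option linter.unusedVariables false
set_option linter.style.haveILetI false
set_option backward.isDefEq.respectTransparency false
set_option backward.isDefEq.respectTransparency.types false

namespace Groth.Agent.Lib.helper27

open CategoryTheory Limits Opposite Pseudofunctor Pseudofunctor.CoGrothendieck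
open FibDesc TopologicalSpace

universe u v u' v'

namespace DescCrit

open BigSec TotSide TAug RanV

/-- isomorphic functors have isomorphic right derived functors -/
noncomputable def rdIso {C : Type u} [Category.{v} C] {E : Type u'} [Category.{v'} E]
    [Abelian C] [HasInjectiveResolutions C] [Abelian E] {F G : C ⥤ E} [F.Additive] [G.Additive]
    (e : F ≅ G) (n : ℕ) : F.rightDerived n ≅ G.rightDerived n where
  hom := NatTrans.rightDerived e.hom n
  inv := NatTrans.rightDerived e.inv n
  hom_inv_id := by rw [← NatTrans.rightDerived_comp, e.hom_inv_id, NatTrans.rightDerived_id]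
  inv_hom_id := by rw [← NatTrans.rightDerived_comp, e.inv_hom_id, NatTrans.rightDerived_id]

attribute [local instance] HasDerivedCategory.standard

variable {D : Type} [SmallCategory D] (Y : (WithInitial D)ᵒᵖ ⥤ TopCat.{u})

instance : EnoughInjectives (DShY Y) := inferInstance
instance : EnoughInjectives (BSh Y) := inferInstance

instance additive_KV_lim (V : Opens (Y.obj (bot D))) :
    (KV Y V ⋙ (lim : (Dᵒᵖᵒᵖ ⥤ AddCommGrpCat.{u}) ⥤ AddCommGrpCat.{u})).Additive := by
  have e := pushΓIso Y V
  haveI : (push (topAug Y) (topAugTop Y) AddCommGrpCat.{u} ⋙ ΓV Y V).Additive := by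
    haveI : (ΓV Y V).Additive := LemU.additive_sheafSections _ _
    infer_instance
  exact Functor.additive_of_iso e

/-- the criterion for cohomological descent -/
theorem isCohDescentTop_of
    (h1 : ∀ (I : CohTop.Ab (Y.obj (bot D))), Injective I → ∀ V : Opens (Y.obj (bot D)),
      Nonempty (IsLimit (coneN Y V (Taug Y I))))
    (h2 : ∀ (I : CohTop.Ab (Y.obj (bot D))), Injective I → ∀ (V : Opens (Y.obj (bot D))) (q : ℕ),
      0 < q → IsZero (((KV Y V ⋙ (lim : (Dᵒᵖᵒᵖ ⥤ AddCommGrpCat.{u}) ⥤
        AddCommGrpCat.{u})).rightDerived q).obj (Tp Y I))) :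
    IsCohDescentTop Y := by
  refine ⟨inferInstance, inferInstance, inferInstance, inferInstance, inferInstance,
    inferInstance, ?_⟩
  intro K L
  obtain ⟨n, hn⟩ := L.property
  haveI : L.obj.IsGE n := hn
  refine FFThm.main (adj (topAug Y) (topAugTop Y) AddCommGrpCat.{u}) ?_ ?_ K.obj L.obj n
  · intro I hI
    exact (isIso_unit_iff Y I).2 (isIso_restr_unit Y (Taug Y I) (h1 I hI))
  · intro I hI q hq
    obtain ⟨e⟩ := exists_pullIso Y I
    refine IsZero.of_iso ?_
      (((push (topAug Y) (topAugTop Y) AddCommGrpCat.{u}).rightDerived q).mapIso e)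
    apply LemU.isZero_rightDerived
    intro V
    exact IsZero.of_iso (h2 I hI V.unop q hq) ((rdIso (pushΓIso Y V.unop) q).app (Tp Y I))

end DescCrit

end Groth.Agent.Lib.helper27
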