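import Mathlib

set_option autoImplicit false
set_option linter.unusedSectionVars false
set_option linter.unusedVariables false
set_option linter.style.haveILetI false

namespace Groth.Agent.Lib.helper27

namespace ExtZero

open CategoryTheory Limits Opposite

universe u

section lan

variable {C₁ D₁ : Type u} [SmallCategory C₁] [SmallCategory D₁] (L : C₁ ⥤ D₁)

/-- every comma category of `L` has a terminal object or is empty -/
def SieveLike : Prop := ∀ X : D₁,
  (∃ t : CostructuredArrow L X, Nonempty (IsTerminal t)) ∨ IsEmpty (CostructuredArrow L X)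

/-- the comparison iso, typed at `lan` -/
noncomputable def lanIso (P : C₁ ⥤ AddCommGrpCat.{u}) (X : D₁) :
    (L.lan.obj P).obj X ≅ colimit (CostructuredArrow.proj L X ⋙ P) :=
  L.leftKanExtensionObjIsoColimit P X

lemma ι_lanIso_inv (P : C₁ ⥤ AddCommGrpCat.{u}) (X : D₁) (f : CostructuredArrow L X) :
    colimit.ι _ f ≫ (lanIso L P X).inv =
      (L.lanUnit.app P).app f.left ≫ (L.lan.obj P).map f.hom :=
  L.ι_leftKanExtensionObjIsoColimit_inv P X f

lemma lan_map_app {P Q : C₁ ⥤ AddCommGrpCat.{u}} (α : P ⟶ Q) (X : D₁) :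
    (L.lan.map α).app X = (lanIso L P X).hom ≫
      colimMap (Functor.whiskerLeft (CostructuredArrow.proj L X) α) ≫
      (lanIso L Q X).inv := by
  rw [← Iso.inv_comp_eq]
  apply colimit.hom_ext
  intro f
  have h1 : (L.lan.obj P).map f.hom ≫ (L.lan.map α).app X =
      (L.lan.map α).app (L.obj f.left) ≫ (L.lan.obj Q).map f.hom :=
    (L.lan.map α).naturality f.hom
  have h2 : α ≫ L.lanUnit.app Q =
      L.lanUnit.app P ≫ Functor.whiskerLeft L (L.lan.map α) :=
    L.lanUnit.naturality α
  have h3 : α.app f.left ≫ (L.lanUnit.app Q).app f.left =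
      (L.lanUnit.app P).app f.left ≫ (L.lan.map α).app (L.obj f.left) :=
    congrArg (fun β => β.app f.left) h2
  ext x
  have e1 := ConcreteCategory.congr_hom (ι_lanIso_inv L P X f) x
  have e2 := ConcreteCategory.congr_hom (ι_lanIso_inv L Q X f) (α.app f.left x)
  have e3 := ConcreteCategory.congr_hom h1 ((L.lanUnit.app P).app f.left x)
  have e4 := ConcreteCategory.congr_hom h3 x
  have e5 := ConcreteCategory.congr_hom
    (ι_colimMap (Functor.whiskerLeft (CostructuredArrow.proj L X) α) f) x
  show (L.lan.map α).app X ((lanIso L P X).inv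
      (colimit.ι (CostructuredArrow.proj L X ⋙ P) f x)) =
    (lanIso L Q X).inv (colimMap (Functor.whiskerLeft (CostructuredArrow.proj L X) α)
      (colimit.ι (CostructuredArrow.proj L X ⋙ P) f x))
  refine (congrArg ((L.lan.map α).app X) e1).trans ?_
  refine e3.trans ?_
  refine (congrArg ((L.lan.obj Q).map f.hom) e4.symm).trans ?_
  refine e2.symm.trans ?_
  exact congrArg (lanIso L Q X).inv e5.symm

theorem lan_mono (hL : SieveLike L) {P Q : C₁ ⥤ AddCommGrpCat.{u}} (α : P ⟶ Q) [Mono α] :
    Mono (L.lan.map α) := by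
  haveI : ∀ Y, Mono (α.app Y) := fun Y => inferInstance
  suffices h : ∀ X, Mono ((L.lan.map α).app X) from NatTrans.mono_of_mono_app _
  intro X
  rw [lan_map_app]
  suffices h : Mono (colimMap (Functor.whiskerLeft (CostructuredArrow.proj L X) α)) by
    haveI := h
    haveI : Mono (colimMap (Functor.whiskerLeft (CostructuredArrow.proj L X) α) ≫
      (lanIso L Q X).inv) := mono_comp _ _
    exact mono_comp _ _
  rcases hL X with ⟨t, ⟨ht⟩⟩ | hE
  · let ιP : P.obj t.left ⟶ colimit (CostructuredArrow.proj L X ⋙ P) :=
      colimit.ι (CostructuredArrow.proj L X ⋙ P) t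
    let ιQ : Q.obj t.left ⟶ colimit (CostructuredArrow.proj L X ⋙ Q) :=
      colimit.ι (CostructuredArrow.proj L X ⋙ Q) t
    haveI h1 : IsIso ιP := isIso_ι_of_isTerminal ht _
    haveI h2 : IsIso ιQ := isIso_ι_of_isTerminal ht _
    have : colimMap (Functor.whiskerLeft (CostructuredArrow.proj L X) α) =
        inv ιP ≫ α.app t.left ≫ ιQ := by
      rw [IsIso.eq_inv_comp]
      exact ι_colimMap (Functor.whiskerLeft (CostructuredArrow.proj L X) α) t
    rw [this]
    haveI : Mono (α.app t.left ≫ ιQ) := mono_comp _ _
    exact mono_comp _ _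
  · have hi : IsInitial (colimit (CostructuredArrow.proj L X ⋙ P)) :=
      isColimitEquivIsInitialOfIsEmpty _ _ (colimit.isColimit _)
    have hz : IsZero (colimit (CostructuredArrow.proj L X ⋙ P)) :=
      IsZero.of_iso (isZero_zero _) (hi.uniqueUpToIso (isZero_zero _).isInitial)
    exact hz.mono _

end lan

section sheaf

variable {C' C : Type u} [SmallCategory C'] [SmallCategory C] (k : C' ⥤ C)
  (J' : GrothendieckTopology C') (J : GrothendieckTopology C) [k.IsContinuous J' J]

/-- restriction along a continuous sieve-like functor preserves injective abelian sheaves -/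
theorem injective_restrict (hk : SieveLike k.op) (I : Sheaf J AddCommGrpCat.{u}) [Injective I] :
    Injective ((k.sheafPushforwardContinuous AddCommGrpCat.{u} J' J).obj I) := by
  let adj := Functor.sheafPullbackConstruction.sheafAdjunctionContinuous k AddCommGrpCat.{u} J' J
  haveI : (Functor.sheafPullbackConstruction.sheafPullback k AddCommGrpCat.{u} J' J).PreservesMonomorphisms := by
    constructor
    intro X Y f hf
    show Mono ((presheafToSheaf J AddCommGrpCat.{u}).map (k.op.lan.map
      ((sheafToPresheaf J' AddCommGrpCat.{u}).map f)))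
    haveI : Mono ((sheafToPresheaf J' AddCommGrpCat.{u}).map f) := inferInstance
    haveI := lan_mono k.op hk ((sheafToPresheaf J' AddCommGrpCat.{u}).map f)
    infer_instance
  exact Injective.injective_of_adjoint adj I

end sheaf

end ExtZero

end Groth.Agent.Lib.helper27
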