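import Mathlib
import Groth.Prelude.Def_FibDesc
import Groth.Agent.Lib.Helper27.RanV
import Groth.Agent.Lib.Helper27.ExtZero

set_option autoImplicit false
set_option linter.unusedSectionVars false
set_option linter.unusedVariables false
set_option linter.style.haveILetI false
set_option backward.isDefEq.respectTransparency false
set_option backward.isDefEq.respectTransparency.types false

namespace Groth.Agent.Lib.helper27

open CategoryTheory Limits Opposite Pseudofunctor Pseudofunctor.CoGrothendieck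
open FibDesc TopologicalSpace

universe u

namespace ResGeo

open BigSec TotSide TAug RanV

variable {D : Type} [SmallCategory D] {Y' Y : (WithInitial D)ᵒᵖ ⥤ TopCat.{u}}

/-- a morphism of augmented indexed spaces which is levelwise an open embedding, cartesian over
the base -/
structure OpenCart (φ : Y' ⟶ Y) : Prop where
  emb : ∀ s, Topology.IsOpenEmbedding (φ.app s)
  cart : ∀ s, Set.range (φ.app s) = (aMap Y s) ⁻¹' (Set.range (φ.app (bot D)))

variable {φ : Y' ⟶ Y} (h : OpenCart φ)

lemma nat_apply {s s' : (WithInitial D)ᵒᵖ} (θ : s' ⟶ s) (x : Y'.obj s') :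
    (Y.map θ) ((φ.app s') x) = (φ.app s) ((Y'.map θ) x) :=
  (ConcreteCategory.congr_hom (φ.naturality θ) x).symm

/-- the image functor on opens -/
noncomputable abbrev img (s : (WithInitial D)ᵒᵖ) : Opens (Y'.obj s) ⥤ Opens (Y.obj s) :=
  (h.emb s).isOpenMap.functor

lemma mem_img {s : (WithInitial D)ᵒᵖ} (W' : Opens (Y'.obj s)) (y : Y.obj s) :
    y ∈ (img h s).obj W' ↔ ∃ x ∈ W', (φ.app s) x = y := Iff.rfl

lemma img_le_map {s s' : (WithInitial D)ᵒᵖ} (θ : s' ⟶ s) {W : Opens (Y'.obj s)}
    {W' : Opens (Y'.obj s')} (hW : W' ≤ (Opens.map (Y'.map θ)).obj W) :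
    (img h s').obj W' ≤ (Opens.map (Y.map θ)).obj ((img h s).obj W) := by
  rintro y ⟨x, hx, rfl⟩
  refine ⟨(Y'.map θ) x, hW hx, ?_⟩
  exact (nat_apply θ x).symm

lemma pre_le_map {s s' : (WithInitial D)ᵒᵖ} (θ : s' ⟶ s) {W : Opens (Y.obj s)}
    {W' : Opens (Y.obj s')} (hW : W' ≤ (Opens.map (Y.map θ)).obj W) :
    (Opens.map (φ.app s')).obj W' ≤
      (Opens.map (Y'.map θ)).obj ((Opens.map (φ.app s)).obj W) := by
  intro x hx
  have h1 : (Y.map θ) ((φ.app s') x) ∈ W := hW hx
  rw [nat_apply] at h1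
  exact h1

/-- the image functor on the augmented total categories -/
noncomputable def kA : ∫ᶜ (topAug Y') ⥤ ∫ᶜ (topAug Y) where
  obj X := taOb Y X.base ((img h X.base).obj (fibA Y' X))
  map {X X'} f := taHom Y f.base (img_le_map h f.base (fib_le Y' f))
  map_id X := ta_hom_ext Y _ _ rfl
  map_comp f g := ta_hom_ext Y _ _ rfl

/-- the preimage functor on the augmented total categories -/
noncomputable def qA (φ : Y' ⟶ Y) : ∫ᶜ (topAug Y) ⥤ ∫ᶜ (topAug Y') where
  obj X := taOb Y' X.base ((Opens.map (φ.app X.base)).obj (fibA Y X))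
  map {X X'} f := taHom Y' f.base (pre_le_map f.base (fib_le Y f))
  map_id X := ta_hom_ext Y' _ _ rfl
  map_comp f g := ta_hom_ext Y' _ _ rfl

lemma img_le_iff {s : (WithInitial D)ᵒᵖ} (W' : Opens (Y'.obj s)) (W : Opens (Y.obj s)) :
    (img h s).obj W' ≤ W ↔ W' ≤ (Opens.map (φ.app s)).obj W := by
  constructor
  · intro hW x hx
    exact hW ⟨x, hx, rfl⟩
  · rintro hW y ⟨x, hx, rfl⟩
    exact hW hx

lemma adj_le₁ {s s' : (WithInitial D)ᵒᵖ} (θ : s' ⟶ s) {W : Opens (Y.obj s)}
    {W' : Opens (Y'.obj s')} (hW : (img h s').obj W' ≤ (Opens.map (Y.map θ)).obj W) :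
    W' ≤ (Opens.map (Y'.map θ)).obj ((Opens.map (φ.app s)).obj W) := by
  intro x hx
  have h2 : (φ.app s') x ∈ (img h s').obj W' := ⟨x, hx, rfl⟩
  have h3 : (Y.map θ) ((φ.app s') x) ∈ W := hW h2
  rw [nat_apply] at h3
  exact h3

lemma adj_le₂ {s s' : (WithInitial D)ᵒᵖ} (θ : s' ⟶ s) {W : Opens (Y.obj s)}
    {W' : Opens (Y'.obj s')}
    (hW : W' ≤ (Opens.map (Y'.map θ)).obj ((Opens.map (φ.app s)).obj W)) :
    (img h s').obj W' ≤ (Opens.map (Y.map θ)).obj W := by
  rintro y ⟨x, hx, rfl⟩
  have h2 : (φ.app s) ((Y'.map θ) x) ∈ W := hW hx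
  rw [← nat_apply] at h2
  exact h2

/-- the adjunction between image and preimage -/
noncomputable def adjA : kA h ⊣ qA φ :=
  Adjunction.mkOfHomEquiv
    { homEquiv := fun X' X =>
        { toFun := fun f => taHom Y' f.base (adj_le₁ h f.base (fib_le Y f))
          invFun := fun g => taHom Y g.base (adj_le₂ h g.base (fib_le Y' g))
          left_inv := fun f => ta_hom_ext Y _ _ rfl
          right_inv := fun g => ta_hom_ext Y' _ _ rfl }
      homEquiv_naturality_left_symm := fun f g => ta_hom_ext Y _ _ rfl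
      homEquiv_naturality_right := fun f g => ta_hom_ext Y' _ _ rfl }

/-- the image functor on the total categories of the parts -/
noncomputable def kP : ∫ᶜ (part (topAug Y')) ⥤ ∫ᶜ (part (topAug Y)) where
  obj X := tpOb Y X.base ((img h ((toAug D).obj X.base)).obj (fibP Y' X))
  map {X X'} f := tpHom Y f.base (img_le_map h ((toAug D).map f.base) (fibP_le Y' f))
  map_id X := tp_hom_ext Y _ _ rfl
  map_comp f g := tp_hom_ext Y _ _ rfl

/-- compatibility with the inclusions of the parts -/
noncomputable def inclComm : incl (topAug Y') ⋙ kA h ≅ kP h ⋙ incl (topAug Y) :=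
  NatIso.ofComponents (fun X => Iso.refl _) (by
    intro X X' f
    apply ta_hom_ext
    show ((incl (topAug Y') ⋙ kA h).map f).base ≫ 𝟙 _ =
      𝟙 _ ≫ ((kP h ⋙ incl (topAug Y)).map f).base
    rw [Category.comp_id, Category.id_comp]
    rfl)

/-- the fibre functors, typed on the fibre categories -/
noncomputable abbrev imgF (s : (WithInitial D)ᵒᵖ) :
    ↑((topAug Y').obj ⟨op s⟩) ⥤ ↑((topAug Y).obj ⟨op s⟩) := img h s

noncomputable def ιComm (s : (WithInitial D)ᵒᵖ) :
    imgF h s ⋙ ι (topAug Y) s ≅ ι (topAug Y') s ⋙ kA h :=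
  NatIso.ofComponents (fun W => Iso.refl _) (by
    intro W W' f
    apply ta_hom_ext
    show ((imgF h s ⋙ ι (topAug Y) s).map f).base ≫ 𝟙 _ =
      𝟙 _ ≫ ((ι (topAug Y') s ⋙ kA h).map f).base
    rw [Category.comp_id, Category.id_comp]
    rfl)

instance isContinuous_imgF (s : (WithInitial D)ᵒᵖ) :
    (imgF h s).IsContinuous (topAugTop Y' s) (topAugTop Y s) :=
  (h.emb s).functor_isContinuous

instance isContinuous_kA :
    (kA h).IsContinuous (totAug (topAug Y') (topAugTop Y')) (totAug (topAug Y) (topAugTop Y)) where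
  op_comp_isSheaf_of_types G := by
    apply TotSheaf.isSheaf_types (topAug Y') (topAugTop Y') (TotApi.hcovAug Y')
    intro s
    haveI : (ι (topAug Y') s ⋙ kA h).IsContinuous (topAugTop Y' s)
        (totAug (topAug Y) (topAugTop Y)) :=
      Functor.isContinuous_comp' (ιComm h s) (topAugTop Y' s) (topAugTop Y s)
        (totAug (topAug Y) (topAugTop Y))
    exact (ι (topAug Y') s ⋙ kA h).op_comp_isSheaf_of_types (topAugTop Y' s)
      (totAug (topAug Y) (topAugTop Y)) G

/-- the preimage functors on the fibres -/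
noncomputable abbrev preF (φ : Y' ⟶ Y) (s : (WithInitial D)ᵒᵖ) :
    ↑((topAug Y).obj ⟨op s⟩) ⥤ ↑((topAug Y').obj ⟨op s⟩) := Opens.map (φ.app s)

noncomputable def ιCommQ (φ : Y' ⟶ Y) (s : (WithInitial D)ᵒᵖ) :
    preF φ s ⋙ ι (topAug Y') s ≅ ι (topAug Y) s ⋙ qA φ :=
  NatIso.ofComponents (fun W => Iso.refl _) (by
    intro W W' f
    apply ta_hom_ext
    show ((preF φ s ⋙ ι (topAug Y') s).map f).base ≫ 𝟙 _ =
      𝟙 _ ≫ ((ι (topAug Y) s ⋙ qA φ).map f).base
    rw [Category.comp_id, Category.id_comp]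
    rfl)

instance isContinuous_preF (φ : Y' ⟶ Y) (s : (WithInitial D)ᵒᵖ) :
    (preF φ s).IsContinuous (topAugTop Y s) (topAugTop Y' s) :=
  inferInstanceAs ((Opens.map (φ.app s)).IsContinuous (Opens.grothendieckTopology (Y.obj s))
    (Opens.grothendieckTopology (Y'.obj s)))

instance isContinuous_qA (φ : Y' ⟶ Y) :
    (qA φ).IsContinuous (totAug (topAug Y) (topAugTop Y)) (totAug (topAug Y') (topAugTop Y')) where
  op_comp_isSheaf_of_types G := by
    apply TotSheaf.isSheaf_types (topAug Y) (topAugTop Y) (TotApi.hcovAug Y)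
    intro s
    haveI : (ι (topAug Y) s ⋙ qA φ).IsContinuous (topAugTop Y s)
        (totAug (topAug Y') (topAugTop Y')) :=
      Functor.isContinuous_comp' (ιCommQ φ s) (topAugTop Y s) (topAugTop Y' s)
        (totAug (topAug Y') (topAugTop Y'))
    exact (ι (topAug Y) s ⋙ qA φ).op_comp_isSheaf_of_types (topAugTop Y s)
      (totAug (topAug Y') (topAugTop Y')) G

/-- the fibre functors of the parts -/
noncomputable abbrev imgP (s : Dᵒᵖ) :
    ↑((part (topAug Y')).obj ⟨op s⟩) ⥤ ↑((part (topAug Y)).obj ⟨op s⟩) :=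
  img h ((toAug D).obj s)

noncomputable def ιCommP (s : Dᵒᵖ) :
    imgP h s ⋙ ι (part (topAug Y)) s ≅ ι (part (topAug Y')) s ⋙ kP h :=
  NatIso.ofComponents (fun W => Iso.refl _) (by
    intro W W' f
    apply tp_hom_ext
    show ((imgP h s ⋙ ι (part (topAug Y)) s).map f).base ≫ 𝟙 _ =
      𝟙 _ ≫ ((ι (part (topAug Y')) s ⋙ kP h).map f).base
    rw [Category.comp_id, Category.id_comp]
    rfl)

instance isContinuous_imgP (s : Dᵒᵖ) :
    (imgP h s).IsContinuous (partTop (topAug Y') (topAugTop Y') s)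
      (partTop (topAug Y) (topAugTop Y) s) :=
  (h.emb ((toAug D).obj s)).functor_isContinuous

instance isContinuous_kP :
    (kP h).IsContinuous (totPart (topAug Y') (topAugTop Y'))
      (totPart (topAug Y) (topAugTop Y)) where
  op_comp_isSheaf_of_types G := by
    apply TotSheaf.isSheaf_types (part (topAug Y')) (partTop (topAug Y') (topAugTop Y'))
      (TotApi.hcovPart Y')
    intro s
    haveI : (ι (part (topAug Y')) s ⋙ kP h).IsContinuous
        (partTop (topAug Y') (topAugTop Y') s) (totPart (topAug Y) (topAugTop Y)) :=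
      Functor.isContinuous_comp' (ιCommP h s) (partTop (topAug Y') (topAugTop Y') s)
        (partTop (topAug Y) (topAugTop Y) s) (totPart (topAug Y) (topAugTop Y))
    exact (ι (part (topAug Y')) s ⋙ kP h).op_comp_isSheaf_of_types
      (partTop (topAug Y') (topAugTop Y') s) (totPart (topAug Y) (topAugTop Y)) G

include h in
lemma mem_range_of_map {s s' : (WithInitial D)ᵒᵖ} (θ : s ⟶ s') (y : Y.obj s)
    (hy : (Y.map θ) y ∈ Set.range (φ.app s')) : y ∈ Set.range (φ.app s) := by
  rw [h.cart s]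
  obtain ⟨x, hx⟩ := hy
  show (aMap Y s) y ∈ Set.range (φ.app (bot D))
  have h1 : (aMap Y s) y = (aMap Y s') ((Y.map θ) y) :=
    (ConcreteCategory.congr_hom (aMap_comp Y θ) y).symm
  rw [h1, ← hx]
  refine ⟨(aMap Y' s') x, ?_⟩
  exact (nat_apply (toBot s') x).symm

lemma sieveLike_kP : ExtZero.SieveLike (kP h).op := by
  intro X
  by_cases hX : (fibP Y X.unop : Set (Xs Y X.unop.base)) ⊆
      Set.range (φ.app ((toAug D).obj X.unop.base))
  · left
    let x0 : ∫ᶜ (part (topAug Y')) := tpOb Y' X.unop.base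
      ((Opens.map (φ.app ((toAug D).obj X.unop.base))).obj (fibP Y X.unop))
    have hle : fibP Y X.unop ≤ (Opens.map (Ym Y (𝟙 X.unop.base))).obj (fibP Y ((kP h).obj x0)) := by
      have hid : Ym Y (𝟙 X.unop.base) = 𝟙 _ := by
        show Y.map ((toAug D).map (𝟙 _)) = 𝟙 _
        rw [(toAug D).map_id, Y.map_id]
      rw [hid]
      intro y hy
      obtain ⟨x, rfl⟩ := hX hy
      exact ⟨x, hy, rfl⟩
    let f0 : X.unop ⟶ (kP h).obj x0 := tpHom Y (𝟙 X.unop.base) hle
    let t : CostructuredArrow (kP h).op X := CostructuredArrow.mk (Y := op x0) f0.op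
    have key : ∀ A : CostructuredArrow (kP h).op X,
        fibP Y' x0 ≤ (Opens.map (Ym Y' A.hom.unop.base)).obj (fibP Y' A.left.unop) := by
      intro A x hx
      have h1 := fibP_le Y A.hom.unop
      have h2 : (φ.app ((toAug D).obj X.unop.base)) x ∈ fibP Y X.unop := hx
      obtain ⟨x', hx', hxx⟩ := h1 h2
      have h3 : (φ.app _) x' = (φ.app _) ((Ym Y' A.hom.unop.base) x) :=
        hxx.trans (nat_apply ((toAug D).map A.hom.unop.base) x)
      have h4 := (h.emb _).injective h3
      show (Ym Y' A.hom.unop.base) x ∈ fibP Y' A.left.unop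
      rw [← h4]
      exact hx'
    refine ⟨t, ⟨IsTerminal.ofUniqueHom (fun A => CostructuredArrow.homMk
      (tpHom Y' A.hom.unop.base (key A)).op ?_) (fun A m => ?_)⟩⟩
    · apply Quiver.Hom.unop_inj
      apply tp_hom_ext
      show 𝟙 _ ≫ A.hom.unop.base = A.hom.unop.base
      exact Category.id_comp _
    · apply CostructuredArrow.hom_ext
      apply Quiver.Hom.unop_inj
      apply tp_hom_ext
      have hw := CostructuredArrow.w m
      have hw2 : ((kP h).op.map m.left ≫ t.hom).unop.base = A.hom.unop.base := by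
        rw [hw]
      have hw3 : ((kP h).op.map m.left ≫ t.hom).unop.base = 𝟙 _ ≫ m.left.unop.base := rfl
      rw [hw3, Category.id_comp] at hw2
      exact hw2
  · right
    constructor
    intro A
    apply hX
    intro y hy
    have h1 := fibP_le Y A.hom.unop
    obtain ⟨x', hx', hxx⟩ := h1 hy
    exact mem_range_of_map h ((toAug D).map A.hom.unop.base) y ⟨x', hxx⟩

/-- the preimage functor on the total categories of the parts -/
noncomputable def qP (φ : Y' ⟶ Y) : ∫ᶜ (part (topAug Y)) ⥤ ∫ᶜ (part (topAug Y')) where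
  obj X := tpOb Y' X.base ((Opens.map (φ.app ((toAug D).obj X.base))).obj (fibP Y X))
  map {X X'} f := tpHom Y' f.base (pre_le_map ((toAug D).map f.base) (fibP_le Y f))
  map_id X := tp_hom_ext Y' _ _ rfl
  map_comp f g := tp_hom_ext Y' _ _ rfl

/-- the adjunction between image and preimage on the parts -/
noncomputable def adjP : kP h ⊣ qP φ :=
  Adjunction.mkOfHomEquiv
    { homEquiv := fun X' X =>
        { toFun := fun f => tpHom Y' f.base (adj_le₁ h ((toAug D).map f.base) (fibP_le Y f))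
          invFun := fun g => tpHom Y g.base (adj_le₂ h ((toAug D).map g.base) (fibP_le Y' g))
          left_inv := fun f => tp_hom_ext Y _ _ rfl
          right_inv := fun g => tp_hom_ext Y' _ _ rfl }
      homEquiv_naturality_left_symm := fun f g => tp_hom_ext Y _ _ rfl
      homEquiv_naturality_right := fun f g => tp_hom_ext Y' _ _ rfl }

noncomputable abbrev prePF (φ : Y' ⟶ Y) (s : Dᵒᵖ) :
    ↑((part (topAug Y)).obj ⟨op s⟩) ⥤ ↑((part (topAug Y')).obj ⟨op s⟩) :=
  Opens.map (φ.app ((toAug D).obj s))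

noncomputable def ιCommQP (φ : Y' ⟶ Y) (s : Dᵒᵖ) :
    prePF φ s ⋙ ι (part (topAug Y')) s ≅ ι (part (topAug Y)) s ⋙ qP φ :=
  NatIso.ofComponents (fun W => Iso.refl _) (by
    intro W W' f
    apply tp_hom_ext
    show ((prePF φ s ⋙ ι (part (topAug Y')) s).map f).base ≫ 𝟙 _ =
      𝟙 _ ≫ ((ι (part (topAug Y)) s ⋙ qP φ).map f).base
    rw [Category.comp_id, Category.id_comp]
    rfl)

instance isContinuous_prePF (φ : Y' ⟶ Y) (s : Dᵒᵖ) :
    (prePF φ s).IsContinuous (partTop (topAug Y) (topAugTop Y) s)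
      (partTop (topAug Y') (topAugTop Y') s) :=
  inferInstanceAs ((Opens.map (φ.app ((toAug D).obj s))).IsContinuous
    (Opens.grothendieckTopology (Y.obj ((toAug D).obj s)))
    (Opens.grothendieckTopology (Y'.obj ((toAug D).obj s))))

instance isContinuous_qP (φ : Y' ⟶ Y) :
    (qP φ).IsContinuous (totPart (topAug Y) (topAugTop Y))
      (totPart (topAug Y') (topAugTop Y')) where
  op_comp_isSheaf_of_types G := by
    apply TotSheaf.isSheaf_types (part (topAug Y)) (partTop (topAug Y) (topAugTop Y))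
      (TotApi.hcovPart Y)
    intro s
    haveI : (ι (part (topAug Y)) s ⋙ qP φ).IsContinuous
        (partTop (topAug Y) (topAugTop Y) s) (totPart (topAug Y') (topAugTop Y')) :=
      Functor.isContinuous_comp' (ιCommQP φ s) (partTop (topAug Y) (topAugTop Y) s)
        (partTop (topAug Y') (topAugTop Y') s) (totPart (topAug Y') (topAugTop Y'))
    exact (ι (part (topAug Y)) s ⋙ qP φ).op_comp_isSheaf_of_types
      (partTop (topAug Y) (topAugTop Y) s) (totPart (topAug Y') (topAugTop Y')) G

end ResGeo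

end Groth.Agent.Lib.helper27
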