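import Mathlib
import Groth.Prelude.Def_FibDesc
import Groth.Agent.Lib.Helper27.ResGeo
import Groth.Agent.Lib.Helper27.TpFun
import Groth.Agent.Lib.Helper27.PullConst

set_option autoImplicit false
set_option linter.unusedSectionVars false
set_option linter.unusedVariables false
set_option linter.style.haveILetI false
set_option backward.isDefEq.respectTransparency false
set_option backward.isDefEq.respectTransparency.types false

namespace Groth.Agent.Lib.helper27

open CategoryTheory Limits Opposite Pseudofunctor Pseudofunctor.CoGrothendieck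
open FibDesc TopologicalSpace

universe u

namespace ResTau

section general

universe v₁ u₁ v₂ u₂ v₃ u₃ v₄ u₄ w w'

variable {C : Type u₁} [Category.{v₁} C] {D₁ : Type u₂} [Category.{v₂} D₁]
  {D₂ : Type u₃} [Category.{v₃} D₂] {E : Type u₄} [Category.{v₄} E]
  (A : Type w) [Category.{w'} A]

/-- isomorphic composites of continuous functors induce isomorphic composites of restriction
functors -/
noncomputable def sqIso {F₁ : C ⥤ D₁} {G₁ : D₁ ⥤ E} {F₂ : C ⥤ D₂} {G₂ : D₂ ⥤ E}
    (e : F₁ ⋙ G₁ ≅ F₂ ⋙ G₂) (J : GrothendieckTopology C) (K₁ : GrothendieckTopology D₁)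
    (K₂ : GrothendieckTopology D₂) (L : GrothendieckTopology E)
    [F₁.IsContinuous J K₁] [G₁.IsContinuous K₁ L] [F₂.IsContinuous J K₂] [G₂.IsContinuous K₂ L] :
    G₁.sheafPushforwardContinuous A K₁ L ⋙ F₁.sheafPushforwardContinuous A J K₁ ≅
      G₂.sheafPushforwardContinuous A K₂ L ⋙ F₂.sheafPushforwardContinuous A J K₂ :=
  NatIso.ofComponents
    (fun N => (fullyFaithfulSheafToPresheaf J A).preimageIso
      (Functor.isoWhiskerRight (NatIso.op e.symm) N.obj))
    (by
      intro N N' f
      apply (fullyFaithfulSheafToPresheaf J A).map_injective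
      rw [Functor.map_comp, Functor.map_comp, Functor.FullyFaithful.preimageIso_hom,
        Functor.FullyFaithful.preimageIso_hom, Functor.FullyFaithful.map_preimage,
        Functor.FullyFaithful.map_preimage]
      ext X
      exact (f.hom.naturality ((NatIso.op e.symm).hom.app X)).symm)

/-- the adjunction between restriction functors induced by an adjunction of continuous functors -/
noncomputable def sheafAdj {C' : Type u₂} [Category.{v₂} C'] {F : C' ⥤ C} {G : C ⥤ C'}
    (adj : F ⊣ G) (J' : GrothendieckTopology C') (J : GrothendieckTopology C)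
    [F.IsContinuous J' J] [G.IsContinuous J J'] :
    F.sheafPushforwardContinuous A J' J ⊣ G.sheafPushforwardContinuous A J J' :=
  (Adjunction.whiskerLeft A adj.op).restrictFullyFaithful
    (fullyFaithfulSheafToPresheaf J A) (fullyFaithfulSheafToPresheaf J' A)
    (Iso.refl _) (Iso.refl _)

end general

open BigSec TotSide TAug RanV ResGeo TpFun

variable {D : Type} [SmallCategory D] {Y' Y : (WithInitial D)ᵒᵖ ⥤ TopCat.{u}} {φ : Y' ⟶ Y}
  (h : OpenCart φ)

/-- sheaves on the augmented total site -/
abbrev ShA (Y : (WithInitial D)ᵒᵖ ⥤ TopCat.{u}) :=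
  Sheaf (totAug (topAug Y) (topAugTop Y)) AddCommGrpCat.{u}

/-- restriction of sheaves on the augmented total sites -/
noncomputable abbrev rA : ShA Y ⥤ ShA Y' :=
  (kA h).sheafPushforwardContinuous AddCommGrpCat.{u} (totAug (topAug Y') (topAugTop Y'))
    (totAug (topAug Y) (topAugTop Y))

/-- direct image of sheaves on the augmented total sites -/
noncomputable abbrev qAs (φ : Y' ⟶ Y) : ShA Y' ⥤ ShA Y :=
  (qA φ).sheafPushforwardContinuous AddCommGrpCat.{u} (totAug (topAug Y) (topAugTop Y))
    (totAug (topAug Y') (topAugTop Y'))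

noncomputable def adjRA : rA h ⊣ qAs φ :=
  sheafAdj AddCommGrpCat.{u} (adjA h) _ _

/-- restriction of sheaves on the total sites of the parts -/
noncomputable abbrev rP : DShY Y ⥤ DShY Y' :=
  (kP h).sheafPushforwardContinuous AddCommGrpCat.{u} (totPart (topAug Y') (topAugTop Y'))
    (totPart (topAug Y) (topAugTop Y))

/-- the map of base spaces -/
abbrev jB (φ : Y' ⟶ Y) : Y'.obj (bot D) ⟶ Y.obj (bot D) := φ.app (bot D)

/-- restriction to the base fibre -/
noncomputable abbrev resB (Y : (WithInitial D)ᵒᵖ ⥤ TopCat.{u}) : ShA Y ⥤ CohTop.Ab (Y.obj (bot D)) :=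
  FibSite.restr (topAug Y) (topAugTop Y) AddCommGrpCat.{u} (bot D)

/-- extension from the base fibre -/
noncomputable abbrev extB (Y : (WithInitial D)ᵒᵖ ⥤ TopCat.{u}) : CohTop.Ab (Y.obj (bot D)) ⥤ ShA Y :=
  FibSite.extend (topAug Y) (topAugTop Y) AddCommGrpCat.{u} (bot D)

noncomputable abbrev adjE (Y : (WithInitial D)ᵒᵖ ⥤ TopCat.{u}) : extB Y ⊣ resB Y :=
  (eps (topAug Y)).sheafAdjunctionContinuous AddCommGrpCat.{u} (topAugTop Y (bot D))
    (totAug (topAug Y) (topAugTop Y))

/-- the right adjoints commute -/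
noncomputable def ρiso (φ : Y' ⟶ Y) : resB Y' ⋙ CohTop.push (jB φ) ≅ qAs φ ⋙ resB Y :=
  sqIso AddCommGrpCat.{u} (ιCommQ φ (bot D)) (topAugTop Y (bot D)) (topAugTop Y' (bot D))
    (totAug (topAug Y) (topAugTop Y)) (totAug (topAug Y') (topAugTop Y'))

/-- extension from the base commutes with restriction -/
noncomputable def τA : extB Y ⋙ rA h ≅ CohTop.pull (jB φ) ⋙ extB Y' :=
  ((adjE Y).comp (adjRA h)).leftAdjointUniq
    (((PullConst.pbAdj (jB φ)).comp (adjE Y')).ofNatIsoRight (ρiso φ))

/-- restriction to the part commutes with restriction along `φ` -/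
noncomputable def inclResComm : rA h ⋙ inclRes Y' ≅ inclRes Y ⋙ rP h :=
  sqIso AddCommGrpCat.{u} (inclComm h) (totPart (topAug Y') (topAugTop Y'))
    (totAug (topAug Y') (topAugTop Y')) (totPart (topAug Y) (topAugTop Y))
    (totAug (topAug Y) (topAugTop Y))

/-- the inverse image of the augmentation commutes with restriction -/
noncomputable def τP :
    pull (topAug Y) (topAugTop Y) AddCommGrpCat.{u} ⋙ rP h ≅
      CohTop.pull (jB φ) ⋙ pull (topAug Y') (topAugTop Y') AddCommGrpCat.{u} :=
  Functor.associator _ _ _ ≪≫ Functor.isoWhiskerLeft (extB Y) (inclResComm h).symm ≪≫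
    (Functor.associator _ _ _).symm ≪≫ Functor.isoWhiskerRight (τA h) (inclRes Y') ≪≫
    Functor.associator _ _ _

/-- direct image on the parts -/
noncomputable abbrev qPs (φ : Y' ⟶ Y) : DShY Y' ⥤ DShY Y :=
  (qP φ).sheafPushforwardContinuous AddCommGrpCat.{u} (totPart (topAug Y) (topAugTop Y))
    (totPart (topAug Y') (topAugTop Y'))

noncomputable def adjRP : rP h ⊣ qPs φ :=
  sheafAdj AddCommGrpCat.{u} (adjP h) _ _

instance additive_rP : (rP h).Additive where

instance preservesFiniteLimits_rP : PreservesFiniteLimits (rP h) := by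
  haveI : (rP h).IsRightAdjoint := inferInstance
  infer_instance

instance preservesFiniteColimits_rP : PreservesFiniteColimits (rP h) := by
  haveI : (rP h).IsLeftAdjoint := (adjRP h).isLeftAdjoint
  infer_instance

theorem injective_rP (I : DShY Y) [Injective I] : Injective ((rP h).obj I) :=
  ExtZero.injective_restrict (kP h) _ _ (sieveLike_kP h) I

end ResTau

end Groth.Agent.Lib.helper27
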