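import Mathlib
import Groth.Prelude.Def_FibDesc
import Groth.Agent.Lib.Helper27.ResTau
import Groth.Agent.Lib.Helper27.DescCrit
import Groth.Agent.Lib.Helper27.CompAcyc
import Groth.Agent.Lib.Helper27.DeltaFPre

set_option autoImplicit false
set_option linter.unusedSectionVars false
set_option linter.unusedVariables false
set_option linter.style.haveILetI false
set_option backward.isDefEq.respectTransparency false
set_option backward.isDefEq.respectTransparency.types false

namespace Groth.Agent.Lib.helper27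

open CategoryTheory Limits Opposite Pseudofunctor Pseudofunctor.CoGrothendieck
open FibDesc TopologicalSpace

universe u

namespace ResTr

open BigSec TotSide TAug RanV ResGeo TpFun ResTau

variable {D : Type} [SmallCategory D] {Y' Y : (WithInitial D)ᵒᵖ ⥤ TopCat.{u}} {φ : Y' ⟶ Y}
  (h : OpenCart φ)

/-- the limit property of the cone of restrictions -/
def LimP (Y : (WithInitial D)ᵒᵖ ⥤ TopCat.{u}) (V : Opens (Y.obj (bot D))) (N : ShA Y) : Prop :=
  Nonempty (IsLimit (coneN Y V N))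

lemma limP_of_iso (V : Opens (Y.obj (bot D))) {N N₁ : ShA Y} (e : N ≅ N₁) (hN : LimP Y V N) :
    LimP Y V N₁ := by
  obtain ⟨hl⟩ := hN
  let α : (σV Y V).op ⋙ ((inclRes Y).obj N).obj ≅ (σV Y V).op ⋙ ((inclRes Y).obj N₁).obj :=
    Functor.isoWhiskerLeft (σV Y V).op
      ((sheafToPresheaf _ _).mapIso ((inclRes Y).mapIso e))
  refine ⟨IsLimit.equivOfNatIsoOfIso α (coneN Y V N) (coneN Y V N₁) ?_ hl⟩
  refine Cone.ext ((sheafToPresheaf _ _).mapIso e |>.app (B₀ Y V)) ?_
  intro s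
  exact e.hom.hom.naturality (cartP Y V s.unop).op

/-- the image of an open of the base -/
noncomputable abbrev kS (V' : Opens (Y'.obj (bot D))) : Opens (Y.obj (bot D)) :=
  (img h (bot D)).obj V'

lemma aMap_nat (s : (WithInitial D)ᵒᵖ) (x : Y'.obj s) :
    (aMap Y s) ((φ.app s) x) = (φ.app (bot D)) ((aMap Y' s) x) :=
  nat_apply (toBot s) x

lemma img_WV (V' : Opens (Y'.obj (bot D))) (s : (WithInitial D)ᵒᵖ) :
    (img h s).obj ((Opens.map (aMap Y' s)).obj V') = (Opens.map (aMap Y s)).obj (kS h V') := by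
  apply le_antisymm
  · rintro y ⟨x, hx, rfl⟩
    show (aMap Y s) ((φ.app s) x) ∈ kS h V'
    rw [aMap_nat]
    exact ⟨_, hx, rfl⟩
  · intro y hy
    have hy' : (aMap Y s) y ∈ kS h V' := hy
    obtain ⟨v, hv, hvy⟩ := hy'
    have hr : y ∈ Set.range (φ.app s) := by
      rw [h.cart s]
      exact ⟨v, hvy⟩
    obtain ⟨x, rfl⟩ := hr
    refine ⟨x, ?_, rfl⟩
    show (aMap Y' s) x ∈ V'
    rw [aMap_nat] at hvy
    rw [← (h.emb (bot D)).injective hvy]
    exact hv

/-- the comparison morphisms between the two descriptions of the preimages of an open of the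
base -/
noncomputable abbrev uHom (V' : Opens (Y'.obj (bot D))) (s : Dᵒᵖ) :
    taOb Y ((toAug D).obj s) (WV Y (kS h V') s) ⟶
      taOb Y ((toAug D).obj s) ((img h ((toAug D).obj s)).obj (WV Y' V' s)) :=
  vert Y ((toAug D).obj s) (img_WV h V' ((toAug D).obj s)).ge

noncomputable abbrev vHom (V' : Opens (Y'.obj (bot D))) (s : Dᵒᵖ) :
    taOb Y ((toAug D).obj s) ((img h ((toAug D).obj s)).obj (WV Y' V' s)) ⟶
      taOb Y ((toAug D).obj s) (WV Y (kS h V') s) :=
  vert Y ((toAug D).obj s) (img_WV h V' ((toAug D).obj s)).le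

lemma map_self (N : ShA Y) {X : ∫ᶜ (topAug Y)} (f : X ⟶ X) (hf : f.base = 𝟙 _) :
    N.obj.map f.op = 𝟙 _ := by
  have : f = 𝟙 X := ta_hom_ext Y _ _ hf
  rw [this, op_id, N.obj.map_id]

/-- the diagrams of the two cones are isomorphic -/
noncomputable def diagIso (N : ShA Y) (V' : Opens (Y'.obj (bot D))) :
    (σV Y' V').op ⋙ ((inclRes Y').obj ((rA h).obj N)).obj ≅
      (σV Y (kS h V')).op ⋙ ((inclRes Y).obj N).obj :=
  NatIso.ofComponents
    (fun s =>
      { hom := N.obj.map (uHom h V' s.unop).op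
        inv := N.obj.map (vHom h V' s.unop).op
        hom_inv_id := by
          rw [← N.obj.map_comp, ← op_comp]
          exact map_self N _ (Category.id_comp _)
        inv_hom_id := by
          rw [← N.obj.map_comp, ← op_comp]
          exact map_self N _ (Category.id_comp _) })
    (by
      intro s s' f
      show N.obj.map _ ≫ N.obj.map _ = N.obj.map _ ≫ N.obj.map _
      rw [← N.obj.map_comp, ← N.obj.map_comp]
      congr 1
      apply Quiver.Hom.unop_inj
      apply ta_hom_ext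
      show 𝟙 _ ≫ (toAug D).map f.unop = (toAug D).map f.unop ≫ 𝟙 _
      rw [Category.id_comp, Category.comp_id])

theorem limP_of_rA (N : ShA Y) (V' : Opens (Y'.obj (bot D)))
    (hN : LimP Y' V' ((rA h).obj N)) : LimP Y (kS h V') N := by
  obtain ⟨hl⟩ := hN
  refine ⟨IsLimit.equivOfNatIsoOfIso (diagIso h N V') (coneN Y' V' ((rA h).obj N))
    (coneN Y (kS h V') N) ?_ hl⟩
  refine Cone.ext (Iso.refl _) ?_
  intro s
  show N.obj.map _ ≫ N.obj.map _ = 𝟙 _ ≫ N.obj.map _
  rw [Category.id_comp, ← N.obj.map_comp]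
  congr 1

/-- vertical morphisms of the total category of the part -/
noncomputable abbrev vertP (Y : (WithInitial D)ᵒᵖ ⥤ TopCat.{u}) (s : Dᵒᵖ) {W W' : Opens (Xs Y s)}
    (hW : W' ≤ W) : tpOb Y s W' ⟶ tpOb Y s W :=
  tpHom Y (𝟙 s) (by
    intro y hy
    have h1 : Ym Y (𝟙 s) = 𝟙 _ := by
      show Y.map ((toAug D).map (𝟙 s)) = 𝟙 _
      rw [(toAug D).map_id, Y.map_id]
    show (Ym Y (𝟙 s)) y ∈ W
    rw [h1]
    exact hW hy)

/-- the two sections of the total category agree -/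
noncomputable def σIso (V' : Opens (Y'.obj (bot D))) :
    σV Y' V' ⋙ kP h ≅ σV Y (kS h V') :=
  NatIso.ofComponents
    (fun s =>
      { hom := vertP Y s (img_WV h V' ((toAug D).obj s)).le
        inv := vertP Y s (img_WV h V' ((toAug D).obj s)).ge
        hom_inv_id := tp_hom_ext Y _ _ (Category.id_comp _)
        inv_hom_id := tp_hom_ext Y _ _ (Category.id_comp _) })
    (by
      intro s s' f
      apply tp_hom_ext
      show f ≫ 𝟙 _ = 𝟙 _ ≫ f
      rw [Category.id_comp, Category.comp_id])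

/-- sections over the preimages of the image of `V'` are sections of the restriction over the
preimages of `V'` -/
noncomputable def KVIso (V' : Opens (Y'.obj (bot D))) :
    KV Y (kS h V') ≅ rP h ⋙ KV Y' V' :=
  NatIso.ofComponents
    (fun M => Functor.isoWhiskerRight (NatIso.op (σIso h V')) M.obj)
    (by
      intro M M' f
      apply NatTrans.ext
      funext s
      exact (f.hom.naturality ((σIso h V').hom.app s.unop).op).symm)

instance preservesFiniteLimits_KV_lim (Y : (WithInitial D)ᵒᵖ ⥤ TopCat.{u})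
    (V : Opens (Y.obj (bot D))) :
    PreservesFiniteLimits
      (KV Y V ⋙ (lim : (Dᵒᵖᵒᵖ ⥤ AddCommGrpCat.{u}) ⥤ AddCommGrpCat.{u})) := by
  unfold KV
  infer_instance

/-- the restriction of the pulled back sheaf -/
noncomputable def rPTp (I : CohTop.Ab (Y.obj (bot D))) :
    (rP h).obj (Tp Y I) ≅ Tp Y' ((CohTop.pull (jB φ)).obj I) :=
  (rP h).mapIso ((pullIso Y).app I).symm ≪≫ (τP h).app I ≪≫
    (pullIso Y').app ((CohTop.pull (jB φ)).obj I)

/-- transfer of the vanishing of the derived functors of the sections over the preimages -/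
theorem isZero_transfer (I : CohTop.Ab (Y.obj (bot D))) (V' : Opens (Y'.obj (bot D))) (q : ℕ)
    (hz : IsZero (((KV Y' V' ⋙ (lim : (Dᵒᵖᵒᵖ ⥤ AddCommGrpCat.{u}) ⥤
      AddCommGrpCat.{u})).rightDerived q).obj (Tp Y' ((CohTop.pull (jB φ)).obj I)))) :
    IsZero (((KV Y (kS h V') ⋙ (lim : (Dᵒᵖᵒᵖ ⥤ AddCommGrpCat.{u}) ⥤
      AddCommGrpCat.{u})).rightDerived q).obj (Tp Y I)) := by
  have e1 := (DescCrit.rdIso (F := KV Y (kS h V') ⋙ (lim : (Dᵒᵖᵒᵖ ⥤ AddCommGrpCat.{u}) ⥤
      AddCommGrpCat.{u})) (G := rP h ⋙ (KV Y' V' ⋙ (lim : (Dᵒᵖᵒᵖ ⥤ AddCommGrpCat.{u}) ⥤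
      AddCommGrpCat.{u})))
    (Functor.isoWhiskerRight (KVIso h V') lim ≪≫ Functor.associator _ _ _) q).app (Tp Y I)
  obtain ⟨e2⟩ := DeltaFPre.rightDerived_comp_exact_iso (rP h)
    (KV Y' V' ⋙ (lim : (Dᵒᵖᵒᵖ ⥤ AddCommGrpCat.{u}) ⥤ AddCommGrpCat.{u}))
    (fun J hJ n => by
      haveI := hJ
      haveI := injective_rP h J
      exact Functor.isZero_rightDerived_obj_injective_succ _ n _) q
  have e3 : ((KV Y' V' ⋙ (lim : (Dᵒᵖᵒᵖ ⥤ AddCommGrpCat.{u}) ⥤
      AddCommGrpCat.{u})).rightDerived q).obj ((rP h).obj (Tp Y I)) ≅ _ :=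
    ((KV Y' V' ⋙ (lim : (Dᵒᵖᵒᵖ ⥤ AddCommGrpCat.{u}) ⥤
      AddCommGrpCat.{u})).rightDerived q).mapIso (rPTp h I)
  exact IsZero.of_iso hz (e1 ≪≫ e2.app _ ≪≫ e3)

/-- the restriction of the extended sheaf -/
noncomputable def rATaug (I : CohTop.Ab (Y.obj (bot D))) :
    (rA h).obj (Taug Y I) ≅ Taug Y' ((CohTop.pull (jB φ)).obj I) :=
  (rA h).mapIso (extIso Y I).symm ≪≫ (τA h).app I ≪≫ extIso Y' ((CohTop.pull (jB φ)).obj I)

/-- transfer of the limit property -/
theorem limP_transfer (I : CohTop.Ab (Y.obj (bot D))) (V' : Opens (Y'.obj (bot D)))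
    (hl : LimP Y' V' (Taug Y' ((CohTop.pull (jB φ)).obj I))) :
    LimP Y (kS h V') (Taug Y I) :=
  limP_of_rA h _ V' (limP_of_iso V' (rATaug h I).symm hl)

end ResTr

end Groth.Agent.Lib.helper27
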