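import Mathlib
import Groth.Prelude.Def_FibDesc
import Groth.Agent.Lib.Helper27.RanV
import Groth.Agent.Lib.Helper27.ResTr

set_option autoImplicit false
set_option linter.unusedSectionVars false
set_option linter.unusedVariables false
set_option linter.style.haveILetI false
set_option backward.isDefEq.respectTransparency false
set_option backward.isDefEq.respectTransparency.types false

namespace Groth.Agent.Lib.helper27

open CategoryTheory Limits Opposite Pseudofunctor Pseudofunctor.CoGrothendieck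
open FibDesc TopologicalSpace

universe u

namespace PushSec

open BigSec TotSide TAug RanV ResTr

variable {D : Type} [SmallCategory D] (Y : (WithInitial D)ᵒᵖ ⥤ TopCat.{u})

/-- the direct image to the base -/
noncomputable abbrev pushY : DShY Y ⥤ BSh Y := push (topAug Y) (topAugTop Y) AddCommGrpCat.{u}

variable (M : DShY Y) (V : Opens (Y.obj (bot D)))

/-- sections of the direct image over `V` -/
noncomputable abbrev PS : AddCommGrpCat.{u} := (coneV Y V M.obj).pt

lemma push_obj : ((pushY Y).obj M).obj.obj (op V) = PS Y M V := rfl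

/-- the components of a section of the direct image -/
noncomputable abbrev πs (s : Dᵒᵖ) : PS Y M V ⟶ M.obj.obj (op (tpOb Y s (WV Y V s))) :=
  (coneV Y V M.obj).π.app (op s)

lemma πs_compat {s s' : Dᵒᵖ} (θ : s' ⟶ s) (x : PS Y M V) :
    M.obj.map (tpHom Y θ (WV_le Y V θ)).op (πs Y M V s x) = πs Y M V s' x := by
  have h := (coneV Y V M.obj).w (show (op s : Dᵒᵖᵒᵖ) ⟶ op s' from θ.op)
  exact ConcreteCategory.congr_hom h x

lemma PS_ext (x y : PS Y M V) (h : ∀ s, πs Y M V s x = πs Y M V s y) : x = y := by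
  apply Concrete.isLimit_ext _ (isLimitConeV Y V M.obj)
  intro s
  exact h s.unop

lemma PS_mk (t : ∀ s : Dᵒᵖ, M.obj.obj (op (tpOb Y s (WV Y V s))))
    (ht : ∀ {s s' : Dᵒᵖ} (θ : s' ⟶ s), M.obj.map (tpHom Y θ (WV_le Y V θ)).op (t s) = t s') :
    ∃ x : PS Y M V, ∀ s, πs Y M V s x = t s := by
  let hl := isLimitOfPreserves (forget AddCommGrpCat.{u}) (isLimitConeV Y V M.obj)
  let e := Types.isLimitEquivSections hl
  refine ⟨e.symm ⟨fun s => t s.unop, ?_⟩, fun s => ?_⟩
  · intro s s' θ
    exact ht θ.unop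
  · exact Types.isLimitEquivSections_symm_apply hl _ (op s)

/-- restriction of sections of the direct image -/
noncomputable abbrev resPS {V' : Opens (Y.obj (bot D))} (h : V' ≤ V) : PS Y M V ⟶ PS Y M V' :=
  ((pushY Y).obj M).obj.map (homOfLE h).op

lemma WV_mono {V' : Opens (Y.obj (bot D))} (h : V' ≤ V) (s : Dᵒᵖ) : WV Y V' s ≤ WV Y V s :=
  fun _ hy => h hy

lemma πs_res {V' : Opens (Y.obj (bot D))} (h : V' ≤ V) (s : Dᵒᵖ) (x : PS Y M V) :
    πs Y M V' s (resPS Y M V h x) = M.obj.map (vertP Y s (WV_mono Y V h s)).op (πs Y M V s x) := by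
  let R := (incl (topAug Y)).op.ran.obj M.obj
  let cu := (incl (topAug Y)).op.ranCounit.app M.obj
  let j : V' ⟶ V := homOfLE h
  let i : taOb Y (bot D) V' ⟶ taOb Y (bot D) V := (ι (topAug Y) (bot D)).map j
  have h1 : cartP Y V' s ≫ i =
      (incl (topAug Y)).map (vertP Y s (WV_mono Y V h s)) ≫ cartP Y V s :=
    ta_hom_ext Y _ _ (toBot_ext _ _)
  have h2 : R.map i.op ≫ R.map (cartP Y V' s).op =
      R.map (cartP Y V s).op ≫ R.map ((incl (topAug Y)).map (vertP Y s (WV_mono Y V h s))).op := by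
    rw [← R.map_comp, ← R.map_comp, ← op_comp, ← op_comp, h1]
  have h3 : R.map ((incl (topAug Y)).map (vertP Y s (WV_mono Y V h s))).op ≫
      cu.app (op ((σV Y V').obj s)) =
      cu.app (op ((σV Y V).obj s)) ≫ M.obj.map (vertP Y s (WV_mono Y V h s)).op :=
    cu.naturality (vertP Y s (WV_mono Y V h s)).op
  have h4 : R.map i.op ≫ (coneV Y V' M.obj).π.app (op s) =
      (coneV Y V M.obj).π.app (op s) ≫ M.obj.map (vertP Y s (WV_mono Y V h s)).op := by
    rw [coneV_π, coneV_π]
    calc R.map i.op ≫ R.map (cartP Y V' s).op ≫ cu.app (op ((σV Y V').obj s))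
        = (R.map i.op ≫ R.map (cartP Y V' s).op) ≫ cu.app (op ((σV Y V').obj s)) :=
          (Category.assoc _ _ _).symm
      _ = (R.map (cartP Y V s).op ≫
            R.map ((incl (topAug Y)).map (vertP Y s (WV_mono Y V h s))).op) ≫
            cu.app (op ((σV Y V').obj s)) := by rw [h2]
      _ = R.map (cartP Y V s).op ≫
            (R.map ((incl (topAug Y)).map (vertP Y s (WV_mono Y V h s))).op ≫
            cu.app (op ((σV Y V').obj s))) := Category.assoc _ _ _
      _ = R.map (cartP Y V s).op ≫ (cu.app (op ((σV Y V).obj s)) ≫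
            M.obj.map (vertP Y s (WV_mono Y V h s)).op) := by rw [h3]
      _ = (R.map (cartP Y V s).op ≫ cu.app (op ((σV Y V).obj s))) ≫
            M.obj.map (vertP Y s (WV_mono Y V h s)).op := (Category.assoc _ _ _).symm
  exact ConcreteCategory.congr_hom h4 x

lemma πs_natural {M M' : DShY Y} (φ : M ⟶ M') (s : Dᵒᵖ) (x : PS Y M V) :
    πs Y M' V s (((pushY Y).map φ).hom.app (op V) x) =
      φ.hom.app (op (tpOb Y s (WV Y V s))) (πs Y M V s x) :=
  ConcreteCategory.congr_hom (coneV_π_natural Y V φ (op s)) x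

end PushSec

end Groth.Agent.Lib.helper27
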