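import Mathlib
import Groth.Prelude.Def_FibDesc
import Groth.Agent.Lib.Helper27.GPullK
import Groth.Agent.Lib.Helper27.PushSec

set_option autoImplicit false
set_option linter.unusedSectionVars false
set_option linter.unusedVariables false
set_option linter.style.haveILetI false
set_option backward.isDefEq.respectTransparency false
set_option backward.isDefEq.respectTransparency.types false

namespace Groth.Agent.Lib.helper27

open CategoryTheory Limits Opposite Pseudofunctor Pseudofunctor.CoGrothendieck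
open FibDesc TopologicalSpace

universe u

namespace BaseCh

open BigSec TotSide TAug RanV SqSec PullConst DecDef GPull DecNat GPullK PushSec ResTr

variable {D D' : Type} [SmallCategory D] [SmallCategory D']
  (Y : (WithInitial D)ᵒᵖ ⥤ TopCat.{u}) (Y' : (WithInitial D')ᵒᵖ ⥤ TopCat.{u})

/-- a morphism of augmented diagrams of spaces over a functor of index categories -/
structure AData extends PData Y Y' where
  j : Y'.obj (bot D') ⟶ Y.obj (bot D)
  e_aug : ∀ n, aP Y' n ≫ j = e n ≫ aP Y (sh.obj n)

variable {Y Y'} (c : AData Y Y') (M : DShY Y) (V : Opens (Y.obj (bot D)))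

/-- the preimage of `V` in the base of `Y'` -/
abbrev jV : Opens (Y'.obj (bot D')) := (Opens.map c.j).obj V

lemma WV_le_e (n : D'ᵒᵖ) :
    WV Y' (jV c V) n ≤ (Opens.map (c.e n)).obj (WV Y V (c.sh.obj n)) := by
  intro y hy
  have h1 : c.j ((aP Y' n) y) ∈ V := hy
  have h2 : c.j ((aP Y' n) y) = (aP Y (c.sh.obj n)) ((c.e n) y) :=
    ConcreteCategory.congr_hom (c.e_aug n) y
  rw [h2] at h1
  exact h1

/-- the components of the base change map on sections -/
noncomputable abbrev cflComp (n : D'ᵒᵖ) :
    PS Y M V ⟶ (POb c.toPData M n).obj.obj (op (WV Y' (jV c V) n)) :=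
  πs Y M V (c.sh.obj n) ≫ γsec c.toPData M n (WV Y V (c.sh.obj n)) (WV Y' (jV c V) n) (WV_le_e c V n)

/-- the cone defining the base change map -/
noncomputable def cflCone : Cone ((σV Y' (jV c V)).op ⋙ ((Pull c.toPData).obj M).obj) where
  pt := PS Y M V
  π :=
    { app := fun s => cflComp c M V s.unop
      naturality := by
        intro s s' θ
        ext x
        have h1 := γsec_natural c.toPData M θ.unop (WV Y V (c.sh.obj s.unop))
          (WV Y' (jV c V) s.unop) (WV_le_e c V s.unop) (WV Y V (c.sh.obj s'.unop))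
          (WV Y' (jV c V) s'.unop) (WV_le_e c V s'.unop) (WV_le Y V (c.sh.map θ.unop))
          (WV_le Y' (jV c V) θ.unop) (πs Y M V (c.sh.obj s.unop) x)
        have h2 := πs_compat Y M V (c.sh.map θ.unop) x
        rw [h2] at h1
        exact h1.symm }

/-- the base change map on sections -/
noncomputable def cfl : PS Y M V ⟶ PS Y' ((Pull c.toPData).obj M) (jV c V) :=
  (isLimitConeV Y' (jV c V) ((Pull c.toPData).obj M).obj).lift (cflCone c M V)

lemma πs_cfl (n : D'ᵒᵖ) (x : PS Y M V) :
    πs Y' ((Pull c.toPData).obj M) (jV c V) n (cfl c M V x) =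
      γsec c.toPData M n (WV Y V (c.sh.obj n)) (WV Y' (jV c V) n) (WV_le_e c V n)
        (πs Y M V (c.sh.obj n) x) :=
  ConcreteCategory.congr_hom
    ((isLimitConeV Y' (jV c V) ((Pull c.toPData).obj M).obj).fac (cflCone c M V) (op n)) x

/-- compatibility of `γsec` with restrictions -/
lemma γsec_res (n : D'ᵒᵖ) (U U₁ : Opens (Xs Y (c.sh.obj n))) (W' W₁' : Opens (Xs Y' n))
    (h : W' ≤ (Opens.map (c.e n)).obj U) (h₁ : W₁' ≤ (Opens.map (c.e n)).obj U₁)
    (hU : U₁ ≤ U) (hW : W₁' ≤ W') (x : M.obj.obj (op (tpOb Y (c.sh.obj n) U))) :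
    (POb c.toPData M n).obj.map (homOfLE hW).op (γsec c.toPData M n U W' h x) =
      γsec c.toPData M n U₁ W₁' h₁ (M.obj.map (vertP Y (c.sh.obj n) hU).op x) := by
  rw [γsec_apply, γsec_apply]
  have h3 : W₁' ≤ (Opens.map (c.e n)).obj U := le_trans hW h
  have e1 := map_map_apply (POb c.toPData M n).obj h hW h3
    (ρ (c.e n) ((restrP Y (c.sh.obj n)).obj M) U x)
  have e2 := ρ_res_eq (c.e n) ((restrP Y (c.sh.obj n)).obj M) hU x h3 h₁
  have e3 : ((restrP Y (c.sh.obj n)).obj M).obj.map (homOfLE hU).op =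
      M.obj.map (vertP Y (c.sh.obj n) hU).op :=
    restrP_map_eq M (c.sh.obj n) hU _
  rw [e3] at e2
  exact e1.trans e2

variable {V} in
lemma jV_mono {V₁ : Opens (Y.obj (bot D))} (h : V₁ ≤ V) : jV c V₁ ≤ jV c V :=
  fun _ hy => h hy

/-- the base change map on sections is compatible with restrictions -/
lemma cfl_res {V₁ : Opens (Y.obj (bot D))} (h : V₁ ≤ V) (x : PS Y M V) :
    cfl c M V₁ (resPS Y M V h x) =
      resPS Y' ((Pull c.toPData).obj M) (jV c V) (jV_mono c h) (cfl c M V x) := by
  apply PS_ext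
  intro n
  rw [πs_cfl, πs_res, πs_res, πs_cfl]
  have e1 := γsec_res c M n (WV Y V (c.sh.obj n)) (WV Y V₁ (c.sh.obj n)) (WV Y' (jV c V) n)
    (WV Y' (jV c V₁) n) (WV_le_e c V n) (WV_le_e c V₁ n) (WV_mono Y V h (c.sh.obj n))
    (WV_mono Y' (jV c V) (jV_mono c h) n) (πs Y M V (c.sh.obj n) x)
  refine e1.symm.trans ?_
  exact (pT_id c.toPData M n _ _ _ _ _).symm

/-- the base change map on sections is natural in the sheaf -/
lemma cfl_natural {M M' : DShY Y} (φ : M ⟶ M') (x : PS Y M V) :
    cfl c M' V (((pushY Y).map φ).hom.app (op V) x) =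
      ((pushY Y').map ((Pull c.toPData).map φ)).hom.app (op (jV c V)) (cfl c M V x) := by
  apply PS_ext
  intro n
  rw [πs_cfl, πs_natural, πs_natural, πs_cfl]
  exact γsec_natural_M c.toPData φ n (WV Y V (c.sh.obj n)) (WV Y' (jV c V) n) (WV_le_e c V n)
    (πs Y M V (c.sh.obj n) x)

/-- the base change map to the direct image -/
noncomputable def cflat :
    (pushY Y).obj M ⟶ (CohTop.push c.j).obj ((pushY Y').obj ((Pull c.toPData).obj M)) where
  hom :=
    { app := fun V => cfl c M V.unop
      naturality := by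
        intro V V₁ i
        ext x
        exact cfl_res c M V.unop (leOfHom i.unop) x }

lemma cflat_app (V : Opens (Y.obj (bot D))) : (cflat c M).hom.app (op V) = cfl c M V := rfl

lemma cflat_natural {M M' : DShY Y} (φ : M ⟶ M') :
    (pushY Y).map φ ≫ cflat c M' =
      cflat c M ≫ (CohTop.push c.j).map ((pushY Y').map ((Pull c.toPData).map φ)) := by
  apply Sheaf.hom_ext
  apply NatTrans.ext
  funext V
  ext x
  exact cfl_natural c V.unop φ x

/-- the base change map -/
noncomputable def bc : (CohTop.pull c.j).obj ((pushY Y).obj M) ⟶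
    (pushY Y').obj ((Pull c.toPData).obj M) :=
  ((pbAdj c.j).homEquiv _ _).symm (cflat c M)

lemma unit_bc : (pbAdj c.j).unit.app ((pushY Y).obj M) ≫ (CohTop.push c.j).map (bc c M) =
    cflat c M := by
  have h := ((pbAdj c.j).homEquiv _ _).apply_symm_apply (cflat c M)
  rw [Adjunction.homEquiv_unit] at h
  exact h

lemma bc_natural {M M' : DShY Y} (φ : M ⟶ M') :
    (CohTop.pull c.j).map ((pushY Y).map φ) ≫ bc c M' =
      bc c M ≫ (pushY Y').map ((Pull c.toPData).map φ) := by
  apply ((pbAdj c.j).homEquiv _ _).injective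
  rw [Adjunction.homEquiv_unit, Adjunction.homEquiv_unit]
  let a := (pushY Y).map φ
  let u := (pbAdj c.j).unit.app ((pushY Y).obj M)
  let u' := (pbAdj c.j).unit.app ((pushY Y).obj M')
  let b := (pushY Y').map ((Pull c.toPData).map φ)
  have h1 : u ≫ (CohTop.push c.j).map ((CohTop.pull c.j).map a) = a ≫ u' :=
    ((pbAdj c.j).unit.naturality a).symm
  calc u ≫ (CohTop.push c.j).map ((CohTop.pull c.j).map a ≫ bc c M')
      = (u ≫ (CohTop.push c.j).map ((CohTop.pull c.j).map a)) ≫
          (CohTop.push c.j).map (bc c M') := by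
        rw [Functor.map_comp, Category.assoc]
    _ = a ≫ (u' ≫ (CohTop.push c.j).map (bc c M')) := by rw [h1, Category.assoc]
    _ = a ≫ cflat c M' := by rw [unit_bc]
    _ = cflat c M ≫ (CohTop.push c.j).map b := cflat_natural c φ
    _ = (u ≫ (CohTop.push c.j).map (bc c M)) ≫ (CohTop.push c.j).map b := by rw [unit_bc]
    _ = u ≫ (CohTop.push c.j).map (bc c M ≫ b) := by
        rw [Functor.map_comp, Category.assoc]

lemma bc_ρ (x : PS Y M V) :
    (bc c M).hom.app (op (jV c V)) (ρ c.j ((pushY Y).obj M) V x) = cfl c M V x := by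
  have h := congrArg (fun m => m.hom.app (op V)) (unit_bc c M)
  exact ConcreteCategory.congr_hom h x

end BaseCh

end Groth.Agent.Lib.helper27
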