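import Mathlib
import Groth.Prelude.Def_CohTop
import Groth.Agent.Lib.Helper27.PBC0
import Groth.Agent.Lib.Helper27.SqSec

set_option autoImplicit false
set_option backward.isDefEq.respectTransparency false
set_option linter.unusedVariables false
set_option linter.unusedSectionVars false

namespace Groth.Agent.Lib.helper27

open CategoryTheory Limits Opposite TopologicalSpace Topology

universe u

namespace PBCEl

open PBC0 BigSec SqSec

section transport

variable {X' Y : TopCat.{u}}

lemma κ_app {h₁ h₂ : X' ⟶ Y} (e : h₁ = h₂) (G : CohTop.Ab X') (V : Opens Y)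
    (h : (Opens.map h₂).obj V ≤ (Opens.map h₁).obj V)
    (t : G.obj.obj (op ((Opens.map h₁).obj V))) :
    (κ e G).hom.app (op V) t = G.obj.map (homOfLE h).op t := by
  subst e
  have h1 : κ (rfl : h₁ = h₁) G = 𝟙 _ := rfl
  have h2 : G.obj.map (homOfLE h).op = 𝟙 _ := by
    have : homOfLE h = 𝟙 _ := Subsingleton.elim _ _
    rw [this, op_id, G.obj.map_id]
  rw [h1, h2]
  rfl

end transport

variable {X Y X' Y' : TopCat.{u}} {f : X ⟶ Y} {g : Y' ⟶ Y} {f' : X' ⟶ Y'} {g' : X' ⟶ X}
  (hsq : IsPullback g' f' f g) (hf : IsProperMap f)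
  (hs : ∀ x x' : X, f x = f x' → x ≠ x' →
    ∃ U V : Set X, IsOpen U ∧ IsOpen V ∧ x ∈ U ∧ x' ∈ V ∧ Disjoint U V)

include hsq in
lemma le_sq (V : Opens Y) :
    (Opens.map f').obj ((Opens.map g).obj V) ≤ (Opens.map g').obj ((Opens.map f).obj V) := by
  intro z hz
  have h1 : g (f' z) ∈ V := hz
  have h2 : f (g' z) = g (f' z) := ConcreteCategory.congr_hom hsq.w z
  show f (g' z) ∈ V
  rw [h2]
  exact h1

include hsq hf in
/-- injectivity of base change, elementwise -/
theorem inj (F : CohTop.Ab X) (V : Opens Y) (t : F.obj.obj (op ((Opens.map f).obj V)))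
    (y' : Y') (hy : g y' ∈ V) (W' : Opens Y') (hyW : y' ∈ W') (hW : W' ≤ (Opens.map g).obj V)
    (h0 : ((CohTop.pull g').obj F).obj.map
      (homOfLE (((Opens.map f').monotone hW).trans (le_sq hsq V))).op
      (ρ g' F ((Opens.map f).obj V) t) = 0) :
    ∃ (V₁ : Opens Y) (hV₁ : V₁ ≤ V), g y' ∈ V₁ ∧
      F.obj.map (homOfLE ((Opens.map f).monotone hV₁)).op t = 0 := by
  let a := TopCat.Presheaf.germ ((CohTop.push f).obj F).obj V (g y') hy t
  have ha : σβ f g f' g' hsq F y' (PullGerm.Φ g ((CohTop.push f).obj F) y' a) = 0 := by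
    rw [PullGerm.germ_unit_apply, TopCat.Presheaf.stalkFunctor_map_germ_apply]
    have hβ : (β f g f' g' hsq.w F).hom.app (op ((Opens.map g).obj V))
        (PullGerm.ρ g ((CohTop.push f).obj F) V t) =
        (κ (h₁ := g' ≫ f) (h₂ := f' ≫ g) hsq.w ((CohTop.pull g').obj F)).hom.app (op V)
          (ρ g' F ((Opens.map f).obj V) t) := β_ρ f g f' g' hsq.w F V t
    rw [hβ, κ_app hsq.w ((CohTop.pull g').obj F) V (le_sq hsq V)]
    have e1 := TopCat.Presheaf.germ_res_apply ((CohTop.push f').obj ((CohTop.pull g').obj F)).obj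
      (homOfLE hW) y' hyW
      (((CohTop.pull g').obj F).obj.map (homOfLE (le_sq hsq V)).op
        (ρ g' F ((Opens.map f).obj V) t))
    have e2 : ((CohTop.push f').obj ((CohTop.pull g').obj F)).obj.map (homOfLE hW).op
        (((CohTop.pull g').obj F).obj.map (homOfLE (le_sq hsq V)).op
          (ρ g' F ((Opens.map f).obj V) t)) = 0 := by
      refine (map_map_apply ((CohTop.pull g').obj F).obj (le_sq hsq V)
        ((Opens.map f').monotone hW) _ _).trans h0
    rw [e2, map_zero] at e1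
    exact e1.symm
  have ha0 : a = 0 := by
    have h1 := σβ_injective f g f' g' hsq hf F y'
      (ha.trans (map_zero _).symm)
    exact (PullGerm.Φ_bijective g ((CohTop.push f).obj F) y').1 (h1.trans (map_zero _).symm)
  have h0' : TopCat.Presheaf.germ ((CohTop.push f).obj F).obj V (g y') hy t =
      TopCat.Presheaf.germ ((CohTop.push f).obj F).obj V (g y') hy 0 := by
    rw [map_zero]
    exact ha0
  obtain ⟨V₁, hyV₁, iU, iV, e⟩ := TopCat.Presheaf.germ_eq ((CohTop.push f).obj F).obj
    (g y') hy hy t 0 h0'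
  rw [map_zero] at e
  exact ⟨V₁, iU.le, hyV₁, e⟩

include hsq hf hs in
/-- surjectivity of base change, elementwise -/
theorem surj (F : CohTop.Ab X) (y' : Y') (W' : Opens Y') (hyW : y' ∈ W')
    (y : ((CohTop.pull g').obj F).obj.obj (op ((Opens.map f').obj W'))) :
    ∃ (V : Opens Y) (hV : g y' ∈ V) (t : F.obj.obj (op ((Opens.map f).obj V)))
      (W'' : Opens Y') (hW'' : y' ∈ W'') (h1 : W'' ≤ W') (h2 : W'' ≤ (Opens.map g).obj V),
      ((CohTop.pull g').obj F).obj.map (homOfLE ((Opens.map f').monotone h1)).op y =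
        ((CohTop.pull g').obj F).obj.map
          (homOfLE (((Opens.map f').monotone h2).trans (le_sq hsq V))).op
          (ρ g' F ((Opens.map f).obj V) t) := by
  let b' := TopCat.Presheaf.germ ((CohTop.push f').obj ((CohTop.pull g').obj F)).obj W' y' hyW y
  obtain ⟨b, hb⟩ := σβ_surjective f g f' g' hsq hf hs F y' b'
  obtain ⟨a, rfl⟩ := (PullGerm.Φ_bijective g ((CohTop.push f).obj F) y').2 b
  obtain ⟨V, hV, t, rfl⟩ := TopCat.Presheaf.exists_germ_eq ((CohTop.push f).obj F).obj a
  rw [PullGerm.germ_unit_apply, TopCat.Presheaf.stalkFunctor_map_germ_apply] at hb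
  have hβ : (β f g f' g' hsq.w F).hom.app (op ((Opens.map g).obj V))
      (PullGerm.ρ g ((CohTop.push f).obj F) V t) =
      (κ (h₁ := g' ≫ f) (h₂ := f' ≫ g) hsq.w ((CohTop.pull g').obj F)).hom.app (op V)
        (ρ g' F ((Opens.map f).obj V) t) := β_ρ f g f' g' hsq.w F V t
  rw [hβ, κ_app hsq.w ((CohTop.pull g').obj F) V (le_sq hsq V)] at hb
  obtain ⟨W'', hW'', iU, iV, e⟩ := TopCat.Presheaf.germ_eq
    ((CohTop.push f').obj ((CohTop.pull g').obj F)).obj y' hV hyW _ _ hb
  refine ⟨V, hV, t, W'', hW'', iV.le, iU.le, ?_⟩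
  have e' : ((CohTop.pull g').obj F).obj.map ((Opens.map f').map iU).op
      (((CohTop.pull g').obj F).obj.map (homOfLE (le_sq hsq V)).op
        (ρ g' F ((Opens.map f).obj V) t)) =
      ((CohTop.pull g').obj F).obj.map ((Opens.map f').map iV).op y := e
  refine e'.symm.trans ?_
  exact map_map_apply ((CohTop.pull g').obj F).obj (le_sq hsq V)
    ((Opens.map f').monotone iU.le) _ _

end PBCEl

end Groth.Agent.Lib.helper27
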