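import Mathlib
import Groth.Prelude.Def_CohTop
import Groth.Agent.Lib.Helper27.SectSupp2

set_option autoImplicit false
set_option linter.unusedSectionVars false
set_option linter.unusedVariables false

namespace Groth.Agent.Lib.helper27

open CategoryTheory Limits Opposite TopologicalSpace

universe u

namespace Godement

section flasque

variable {Y : TopCat.{u}} [DiscreteTopology Y] (G : CohTop.Ab Y)

/-- two sections over an empty open agree -/
lemma eq_of_eq_bot {X : TopCat.{u}} (A : CohTop.Ab X) (V : Opens X) (hV : V = ⊥)
    (s t : A.obj.obj (op V)) : s = t := by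
  refine TopCat.Sheaf.eq_of_locally_eq' A (fun i : PEmpty.{u + 1} => (⊥ : Opens X)) V
    (fun i => i.elim) ?_ s t (fun i => i.elim)
  rw [hV]
  exact bot_le

/-- every abelian sheaf on a discrete space is flasque -/
theorem isFlasque_of_discrete : TopCat.Sheaf.IsFlasque G := by
  constructor
  intro V' W' i
  obtain ⟨V⟩ := V'
  obtain ⟨W⟩ := W'
  have hWV : W ≤ V := leOfHom i.unop
  rw [AddCommGrpCat.epi_iff_surjective]
  intro s
  let W'' : Opens Y := ⟨(V : Set Y) \ (W : Set Y), isOpen_discrete _⟩
  have hW''V : W'' ≤ V := fun x hx => hx.1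
  have hcov : V ≤ W ⊔ W'' := by
    intro x hx
    by_cases hxW : x ∈ W
    · exact Or.inl hxW
    · exact Or.inr ⟨hx, hxW⟩
  have hbot : W ⊓ W'' = ⊥ := by
    ext x
    constructor
    · rintro ⟨h1, h2⟩
      exact (h2.2 h1).elim
    · intro h
      exact h.elim
  obtain ⟨t, ht, -⟩ := SectSupp.glue_two G W W'' V hWV hW''V hcov s 0
    (eq_of_eq_bot G _ hbot _ _)
  exact ⟨t, ht⟩

end flasque

section mono

variable {X : TopCat.{u}} (F : CohTop.Ab X)

/-- the discrete space on the points of `X` -/
abbrev Xd (X : TopCat.{u}) : TopCat.{u} := TopCat.discrete.obj ((forget TopCat).obj X)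

/-- the identity map from the discrete space -/
abbrev fd (X : TopCat.{u}) : Xd X ⟶ X := TopCat.adj₁.counit.app X

/-- the presheaf of families of germs on the discrete space -/
noncomputable def germsPresheaf : TopCat.Presheaf AddCommGrpCat.{u} (Xd X) where
  obj V := AddCommGrpCat.of (∀ x : V.unop, ↑(TopCat.Presheaf.stalk F.obj ((fd X) x.1)))
  map {V W} i := AddCommGrpCat.ofHom
    { toFun := fun g x => g ⟨x.1, (leOfHom i.unop) x.2⟩
      map_zero' := rfl
      map_add' := fun _ _ => rfl }
  map_id V := rfl
  map_comp i j := rfl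

lemma germsPresheaf_isSheaf : (germsPresheaf F).IsSheaf := by
  rw [TopCat.Presheaf.isSheaf_iff_isSheaf_comp (forget AddCommGrpCat.{u})]
  exact TopCat.Presheaf.toTypes_isSheaf (Xd X) (fun x => ↑(TopCat.Presheaf.stalk F.obj ((fd X) x)))

/-- the sheaf of families of germs on the discrete space -/
noncomputable def germsSheaf : CohTop.Ab (Xd X) := ⟨germsPresheaf F, germsPresheaf_isSheaf F⟩

/-- the map sending a section to the family of its germs -/
noncomputable def toGerms : F ⟶ (CohTop.push (fd X)).obj (germsSheaf F) :=
  ⟨{ app := fun U => AddCommGrpCat.ofHom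
      { toFun := fun s x => (TopCat.Presheaf.germ F.obj U.unop ((fd X) x.1) x.2).hom s
        map_zero' := by
          funext x
          exact map_zero _
        map_add' := fun a b => by
          funext x
          exact map_add _ a b }
     naturality := fun U V i => by
       ext s
       funext x
       exact (TopCat.Presheaf.germ_res_apply F.obj i.unop ((fd X) x.1) x.2 s) }⟩

lemma toGerms_injective (U : Opens X) :
    Function.Injective ((toGerms F).hom.app (op U)).hom := by
  intro s t h
  apply TopCat.Presheaf.section_ext F U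
  intro x hx
  exact congrFun h ⟨x, hx⟩

lemma mono_toGerms : Mono (toGerms F) := by
  have : Mono (toGerms F).hom := by
    have : ∀ U, Mono ((toGerms F).hom.app U) := by
      intro U
      rw [AddCommGrpCat.mono_iff_injective]
      exact toGerms_injective F U.unop
    exact NatTrans.mono_of_mono_app (toGerms F).hom
  exact Sheaf.Hom.mono_of_presheaf_mono _ _ _

/-- the unit of the adjunction is a monomorphism -/
theorem mono_unit : Mono ((TopCat.Sheaf.pullbackPushforwardAdjunction AddCommGrpCat.{u}
    (fd X)).unit.app F) := by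
  have h := (TopCat.Sheaf.pullbackPushforwardAdjunction AddCommGrpCat.{u} (fd X)).homEquiv_unit
    (X := F) (Y := germsSheaf F)
    (f := ((TopCat.Sheaf.pullbackPushforwardAdjunction AddCommGrpCat.{u} (fd X)).homEquiv F
      (germsSheaf F)).symm (toGerms F))
  rw [Equiv.apply_symm_apply] at h
  exact @mono_of_mono_fac _ _ _ _ _ _ _ _ (mono_toGerms F) h.symm

theorem main : Mono ((TopCat.Sheaf.pullbackPushforwardAdjunction AddCommGrpCat.{u}
      (TopCat.adj₁.counit.app X)).unit.app F) ∧
    TopCat.Sheaf.IsFlasque ((CohTop.push (TopCat.adj₁.counit.app X)).obj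
      ((CohTop.pull (TopCat.adj₁.counit.app X)).obj F)) := by
  refine ⟨mono_unit F, ?_⟩
  have : TopCat.Sheaf.IsFlasque ((CohTop.pull (TopCat.adj₁.counit.app X)).obj F) :=
    isFlasque_of_discrete (Y := Xd X) _
  infer_instance

end mono


end Godement

end Groth.Agent.Lib.helper27
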