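import Mathlib
import Groth.Prelude.Def_CohTop
import Groth.Agent.Lib.Helper27.Godement1
import Groth.Agent.Lib.Helper27.PullGerm
import Groth.Agent.Lib.Helper27.PBCMain

set_option autoImplicit false
set_option linter.unusedSectionVars false
set_option linter.unusedVariables false

namespace Groth.Agent.Lib.helper27

open CategoryTheory Limits Opposite TopologicalSpace

universe u

namespace StalkAb

variable {X : TopCat.{u}}

/-- the stalk functor on abelian sheaves -/
noncomputable abbrev stk (x : X) : CohTop.Ab X ⥤ AddCommGrpCat.{u} :=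
  TopCat.Sheaf.forget AddCommGrpCat.{u} X ⋙ TopCat.Presheaf.stalkFunctor AddCommGrpCat.{u} x

noncomputable instance (x : X) : (stk x).Additive :=
  inferInstanceAs ((TopCat.Sheaf.forget AddCommGrpCat.{u} X ⋙
    TopCat.Presheaf.stalkFunctor AddCommGrpCat.{u} x).Additive)
noncomputable instance (x : X) : PreservesFiniteLimits (stk x) :=
  inferInstanceAs (PreservesFiniteLimits (TopCat.Sheaf.forget AddCommGrpCat.{u} X ⋙
    TopCat.Presheaf.stalkFunctor AddCommGrpCat.{u} x))
noncomputable instance (x : X) : PreservesFiniteColimits (stk x) :=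
  inferInstanceAs (PreservesFiniteColimits (TopCat.Sheaf.forget AddCommGrpCat.{u} X ⋙
    TopCat.Presheaf.stalkFunctor AddCommGrpCat.{u} x))

lemma isIso_of_stk {A B : CohTop.Ab X} (f : A ⟶ B) (h : ∀ x, IsIso ((stk x).map f)) : IsIso f := by
  have : ∀ x : X, IsIso ((TopCat.Presheaf.stalkFunctor AddCommGrpCat.{u} x).map f.hom) := h
  exact TopCat.Presheaf.isIso_of_stalkFunctor_map_iso f

lemma isZero_of_stk (A : CohTop.Ab X) (h : ∀ x, IsZero ((stk x).obj A)) : IsZero A :=
  PBCMain.isZero_of_stalks A h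

lemma epi_of_stk {A B : CohTop.Ab X} (f : A ⟶ B) (h : ∀ x, Epi ((stk x).map f)) : Epi f := by
  have hz : IsZero (cokernel f) := by
    apply isZero_of_stk
    intro x
    have := h x
    have e : (stk x).obj (cokernel f) ≅ cokernel ((stk x).map f) := PreservesCokernel.iso (stk x) f
    exact IsZero.of_iso (isZero_cokernel_of_epi _) e
  exact Preadditive.epi_of_isZero_cokernel f hz

/-- germs in a sheaf all of whose sections near `x` are trivial vanish -/
lemma stalk_eq_zero (A : CohTop.Ab X) (x : X) (W₀ : Opens X) (hx : x ∈ W₀)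
    (hsub : ∀ V : Opens X, V ≤ W₀ → Subsingleton (A.obj.obj (op V)))
    (a : (stk x).obj A) : a = 0 := by
  obtain ⟨V, hxV, s, rfl⟩ := TopCat.Presheaf.exists_germ_eq A.obj a
  have h1 : TopCat.Presheaf.germ A.obj V x hxV s =
      TopCat.Presheaf.germ A.obj (V ⊓ W₀) x ⟨hxV, hx⟩
        (A.obj.map (homOfLE (inf_le_left : V ⊓ W₀ ≤ V)).op s) :=
    (TopCat.Presheaf.germ_res_apply A.obj (homOfLE (inf_le_left : V ⊓ W₀ ≤ V)) x ⟨hxV, hx⟩ s).symm
  have := hsub (V ⊓ W₀) inf_le_right
  have h2 : A.obj.map (homOfLE (inf_le_left : V ⊓ W₀ ≤ V)).op s = 0 := Subsingleton.elim _ _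
  rw [h1, h2]
  exact map_zero _

lemma isZero_stalk (A : CohTop.Ab X) (x : X) (W₀ : Opens X) (hx : x ∈ W₀)
    (hsub : ∀ V : Opens X, V ≤ W₀ → Subsingleton (A.obj.obj (op V))) :
    IsZero ((stk x).obj A) := by
  have : Subsingleton ((stk x).obj A) :=
    ⟨fun a b => (stalk_eq_zero A x W₀ hx hsub a).trans (stalk_eq_zero A x W₀ hx hsub b).symm⟩
  exact AddCommGrpCat.isZero_of_subsingleton _

/-- sections functor -/
noncomputable abbrev sec (V : Opens X) : CohTop.Ab X ⥤ AddCommGrpCat.{u} :=
  sheafToPresheaf _ _ ⋙ (evaluation _ _).obj (op V)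

section prod

variable {J : Type u} (G : J → CohTop.Ab X)

lemma sec_iso_π (V : Opens X) (j : J) (s : (∏ᶜ G : CohTop.Ab X).obj.obj (op V)) :
    Pi.π (fun j => (sec V).obj (G j)) j ((PreservesProduct.iso (sec V) G).hom s) =
      (Pi.π G j).hom.app (op V) s := by
  have h : (PreservesProduct.iso (sec V) G).hom ≫ Pi.π (fun j => (sec V).obj (G j)) j =
      (sec V).map (Pi.π G j) := by
    rw [PreservesProduct.iso_hom, piComparison_comp_π]
  exact congrArg (fun φ => φ s) h

lemma sec_ext (V : Opens X) (s t : (∏ᶜ G : CohTop.Ab X).obj.obj (op V))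
    (h : ∀ j, (Pi.π G j).hom.app (op V) s = (Pi.π G j).hom.app (op V) t) : s = t := by
  have hinj : Function.Injective (PreservesProduct.iso (sec V) G).hom :=
    (ConcreteCategory.bijective_of_isIso (PreservesProduct.iso (sec V) G).hom).1
  apply hinj
  apply (Concrete.productEquiv (fun j => (sec V).obj (G j))).injective
  funext j
  rw [Concrete.productEquiv_apply_apply, Concrete.productEquiv_apply_apply, sec_iso_π, sec_iso_π]
  exact h j

lemma sec_mk (V : Opens X) (f : ∀ j, (G j).obj.obj (op V)) :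
    ∃ s : (∏ᶜ G : CohTop.Ab X).obj.obj (op V), ∀ j, (Pi.π G j).hom.app (op V) s = f j := by
  have hsurj : Function.Surjective (PreservesProduct.iso (sec V) G).hom :=
    (ConcreteCategory.bijective_of_isIso (PreservesProduct.iso (sec V) G).hom).2
  obtain ⟨s, hs⟩ := hsurj ((Concrete.productEquiv (fun j => (sec V).obj (G j))).symm f)
  refine ⟨s, fun j => ?_⟩
  rw [← sec_iso_π, hs]
  exact Concrete.productEquiv_symm_apply_π (fun j => (sec V).obj (G j)) f j

lemma mem_finset_inf (s : Finset J) (W : J → Opens X) (x : X) (h : ∀ j ∈ s, x ∈ W j) :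
    x ∈ s.inf W :=
  Finset.inf_induction (p := fun U : Opens X => x ∈ U) trivial
    (fun a ha b hb => ⟨ha, hb⟩) h

lemma π_piComparison (x : X) (j : J) (a : (stk x).obj (∏ᶜ G)) :
    Pi.π (fun j => (stk x).obj (G j)) j (piComparison (stk x) G a) = (stk x).map (Pi.π G j) a := by
  have h : piComparison (stk x) G ≫ Pi.π (fun j => (stk x).obj (G j)) j =
      (stk x).map (Pi.π G j) := piComparison_comp_π _ _ _
  exact congrArg (fun φ => φ a) h

/-- the stalk functor commutes with a product of sheaves which is locally finite at the point -/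
theorem isIso_piComparison (x : X) (J₀ : Finset J) (W₀ : Opens X) (hx : x ∈ W₀)
    (hsub : ∀ j, j ∉ J₀ → ∀ V : Opens X, V ≤ W₀ → Subsingleton ((G j).obj.obj (op V))) :
    IsIso (piComparison (stk x) G) := by
  classical
  rw [ConcreteCategory.isIso_iff_bijective]
  constructor
  · rw [injective_iff_map_eq_zero]
    intro a ha
    obtain ⟨V, hxV, s, rfl⟩ := TopCat.Presheaf.exists_germ_eq (∏ᶜ G : CohTop.Ab X).obj a
    have key : ∀ j, ∃ W : Opens X, x ∈ W ∧ ∃ h : W ≤ V,
        (G j).obj.map (homOfLE h).op ((Pi.π G j).hom.app (op V) s) = 0 := by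
      intro j
      by_cases hj : j ∈ J₀
      · have h1 : TopCat.Presheaf.germ (G j).obj V x hxV ((Pi.π G j).hom.app (op V) s) = 0 := by
          have := congrArg (fun b => Pi.π (fun j => (stk x).obj (G j)) j b) ha
          simp only [π_piComparison, map_zero] at this
          refine Eq.trans ?_ this
          exact (TopCat.Presheaf.stalkFunctor_map_germ_apply V x hxV (Pi.π G j).hom s).symm
        have h2 : TopCat.Presheaf.germ (G j).obj V x hxV ((Pi.π G j).hom.app (op V) s) =
            TopCat.Presheaf.germ (G j).obj V x hxV 0 := by rw [h1, map_zero]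
        obtain ⟨W, hxW, iU, iV, hW⟩ := TopCat.Presheaf.germ_eq (G j).obj x hxV hxV _ _ h2
        refine ⟨W, hxW, leOfHom iU, ?_⟩
        rw [map_zero] at hW
        exact hW
      · refine ⟨V ⊓ W₀, ⟨hxV, hx⟩, inf_le_left, ?_⟩
        have := hsub j hj (V ⊓ W₀) inf_le_right
        exact Subsingleton.elim _ _
    choose W hxW hWV hW using key
    let Wf : Opens X := (J₀.inf W ⊓ W₀) ⊓ V
    have hxWf : x ∈ Wf := ⟨⟨mem_finset_inf J₀ W x (fun j _ => hxW j), hx⟩, hxV⟩
    have hs : (∏ᶜ G : CohTop.Ab X).obj.map (homOfLE (inf_le_right : Wf ≤ V)).op s = 0 := by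
      apply sec_ext G Wf
      intro j
      rw [map_zero]
      have nat := congrArg (fun φ => φ s)
        ((Pi.π G j).hom.naturality (homOfLE (inf_le_right : Wf ≤ V)).op)
      simp only [ConcreteCategory.comp_apply] at nat
      rw [nat]
      by_cases hj : j ∈ J₀
      · have hle : Wf ≤ W j := le_trans inf_le_left (le_trans inf_le_left (Finset.inf_le hj))
        have e : (G j).obj.map (homOfLE (inf_le_right : Wf ≤ V)).op =
            (G j).obj.map (homOfLE (hWV j)).op ≫ (G j).obj.map (homOfLE hle).op := by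
          rw [← Functor.map_comp]
          rfl
        rw [e, ConcreteCategory.comp_apply, hW j]
        exact map_zero _
      · have := hsub j hj Wf (le_trans inf_le_left inf_le_right)
        exact Subsingleton.elim _ _
    have h1 := TopCat.Presheaf.germ_res_apply (∏ᶜ G : CohTop.Ab X).obj
      (homOfLE (inf_le_right : Wf ≤ V)) x hxWf s
    rw [← h1, hs]
    exact map_zero _
  · intro b
    have key : ∀ j, ∃ (V : Opens X) (hxV : x ∈ V) (t : (G j).obj.obj (op V)),
        TopCat.Presheaf.germ (G j).obj V x hxV t = Pi.π (fun j => (stk x).obj (G j)) j b :=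
      fun j => TopCat.Presheaf.exists_germ_eq (G j).obj _
    choose V hxV t ht using key
    let Wf : Opens X := J₀.inf V ⊓ W₀
    have hxWf : x ∈ Wf := ⟨mem_finset_inf J₀ V x (fun j _ => hxV j), hx⟩
    obtain ⟨s, hs⟩ := sec_mk G Wf (fun j =>
      if h : j ∈ J₀ then (G j).obj.map (homOfLE (le_trans inf_le_left (Finset.inf_le h) :
        Wf ≤ V j)).op (t j) else 0)
    refine ⟨TopCat.Presheaf.germ (∏ᶜ G : CohTop.Ab X).obj Wf x hxWf s, ?_⟩
    apply (Concrete.productEquiv (fun j => (stk x).obj (G j))).injective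
    funext j
    rw [Concrete.productEquiv_apply_apply, Concrete.productEquiv_apply_apply, π_piComparison]
    have h1 : (stk x).map (Pi.π G j) (TopCat.Presheaf.germ (∏ᶜ G : CohTop.Ab X).obj Wf x hxWf s) =
        TopCat.Presheaf.germ (G j).obj Wf x hxWf ((Pi.π G j).hom.app (op Wf) s) :=
      TopCat.Presheaf.stalkFunctor_map_germ_apply Wf x hxWf (Pi.π G j).hom s
    rw [h1, hs j]
    by_cases hj : j ∈ J₀
    · rw [dif_pos hj, ← ht j]
      exact TopCat.Presheaf.germ_res_apply (G j).obj _ x hxWf (t j)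
    · exact (stalk_eq_zero (G j) x W₀ hx (hsub j hj) _).trans
        (stalk_eq_zero (G j) x W₀ hx (hsub j hj) _).symm

end prod

section push

variable {Z : TopCat.{u}} (i : Z ⟶ X)

/-- the comparison of the stalks of a pushforward -/
noncomputable abbrev sp (M : CohTop.Ab Z) (z : Z) :
    (stk (i z)).obj ((CohTop.push i).obj M) ⟶ (stk z).obj M :=
  TopCat.Presheaf.stalkPushforward AddCommGrpCat.{u} i M.obj z

lemma isIso_sp (hi : Topology.IsInducing i) (M : CohTop.Ab Z) (z : Z) : IsIso (sp i M z) :=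
  TopCat.Presheaf.stalkPushforward.stalkPushforward_iso_of_isInducing AddCommGrpCat.{u} hi M.obj z

lemma sp_naturality {M M' : CohTop.Ab Z} (g : M ⟶ M') (z : Z) :
    (stk (i z)).map ((CohTop.push i).map g) ≫ sp i M' z = sp i M z ≫ (stk z).map g := by
  show (TopCat.Presheaf.stalkFunctor AddCommGrpCat.{u} (i z)).map ((CohTop.push i).map g).hom ≫
    TopCat.Presheaf.stalkPushforward AddCommGrpCat.{u} i M'.obj z =
    TopCat.Presheaf.stalkPushforward AddCommGrpCat.{u} i M.obj z ≫
      (TopCat.Presheaf.stalkFunctor AddCommGrpCat.{u} z).map g.hom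
  apply TopCat.Presheaf.stalk_hom_ext
  intro V hV
  erw [TopCat.Presheaf.stalkFunctor_map_germ_assoc]
  erw [TopCat.Presheaf.stalkPushforward_germ, TopCat.Presheaf.stalkPushforward_germ_assoc]
  erw [TopCat.Presheaf.stalkFunctor_map_germ]
  rfl

lemma unit_sp (F : CohTop.Ab X) (z : Z) :
    (stk (i z)).map ((PullConst.pbAdj i).unit.app F) ≫ sp i ((CohTop.pull i).obj F) z =
      PullGerm.Φ i F z := by
  show (TopCat.Presheaf.stalkFunctor AddCommGrpCat.{u} (i z)).map
    ((PullConst.pbAdj i).unit.app F).hom ≫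
    TopCat.Presheaf.stalkPushforward AddCommGrpCat.{u} i ((CohTop.pull i).obj F).obj z = _
  apply TopCat.Presheaf.stalk_hom_ext
  intro V hV
  erw [PullGerm.germ_unit, TopCat.Presheaf.stalkFunctor_map_germ_assoc]
  erw [TopCat.Presheaf.stalkPushforward_germ]
  rfl

lemma isIso_stk_unit (hi : Topology.IsInducing i) (F : CohTop.Ab X) (z : Z) :
    IsIso ((stk (i z)).map ((PullConst.pbAdj i).unit.app F)) := by
  have h1 := isIso_sp i hi ((CohTop.pull i).obj F) z
  have h2 : IsIso ((stk (i z)).map ((PullConst.pbAdj i).unit.app F) ≫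
      sp i ((CohTop.pull i).obj F) z) := by
    rw [unit_sp]
    exact (inferInstance : IsIso (PullGerm.Φ i F z))
  exact IsIso.of_isIso_comp_right _ (sp i ((CohTop.pull i).obj F) z)

lemma epi_stk_push (hi : Topology.IsInducing i) {M M' : CohTop.Ab Z} (g : M ⟶ M') [Epi g] (z : Z) :
    Epi ((stk (i z)).map ((CohTop.push i).map g)) := by
  have h1 := isIso_sp i hi M z
  have h2 := isIso_sp i hi M' z
  have h3 : Epi ((stk z).map g) := inferInstance
  have h4 : Epi ((stk (i z)).map ((CohTop.push i).map g) ≫ sp i M' z) := by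
    rw [sp_naturality]
    infer_instance
  have : (stk (i z)).map ((CohTop.push i).map g) =
      ((stk (i z)).map ((CohTop.push i).map g) ≫ sp i M' z) ≫ inv (sp i M' z) := by
    rw [Category.assoc, IsIso.hom_inv_id, Category.comp_id]
  rw [this]
  infer_instance

lemma subsingleton_push (M : CohTop.Ab Z) (V : Opens X) (hV : Disjoint (V : Set X) (Set.range i)) :
    Subsingleton (((CohTop.push i).obj M).obj.obj (op V)) := by
  have hbot : (Opens.map i).obj V = ⊥ := by
    ext z
    simp only [Opens.coe_bot, Set.mem_empty_iff_false, iff_false]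
    intro hz
    exact Set.disjoint_left.1 hV hz ⟨z, rfl⟩
  exact ⟨fun s t => Godement.eq_of_eq_bot M _ hbot s t⟩

lemma isZero_stk_push (hcl : IsClosed (Set.range i)) (M : CohTop.Ab Z) (x : X)
    (hx : x ∉ Set.range i) : IsZero ((stk x).obj ((CohTop.push i).obj M)) := by
  refine isZero_stalk _ x ⟨(Set.range i)ᶜ, hcl.isOpen_compl⟩ hx (fun V hV => ?_)
  apply subsingleton_push
  exact Set.disjoint_left.2 (fun y hy hy' => hV hy hy')

end push

end StalkAb

end Groth.Agent.Lib.helper27
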