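import Mathlib
import Groth.Prelude.Def_CohTop
import Groth.Agent.Lib.Helper27.StalkAb

set_option autoImplicit false
set_option linter.unusedSectionVars false
set_option linter.unusedVariables false
set_option linter.style.haveILetI false

namespace Groth.Agent.Lib.helper27

open CategoryTheory Limits Opposite TopologicalSpace

universe u v' u'

namespace LocSp

open StalkAb

variable {X : TopCat.{u}}

/-- sections over `V`, in the `sheafSections` form -/
noncomputable abbrev Γs (V : Opens X) : CohTop.Ab X ⥤ AddCommGrpCat.{u} :=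
  (sheafSections (Opens.grothendieckTopology X) AddCommGrpCat.{u}).obj (op V)

/-- exactness on the stalk at `x` from exactness of sections over all small opens near `x` -/
theorem stalk_exact_of_local (S : ShortComplex (CohTop.Ab X)) (x : X) (W₀ : Opens X) (hx : x ∈ W₀)
    (h : ∀ V : Opens X, V ≤ W₀ → (S.map (Γs V)).Exact) : (S.map (stk x)).Exact := by
  rw [ShortComplex.ab_exact_iff]
  intro a ha
  obtain ⟨V, hxV, s, rfl⟩ := TopCat.Presheaf.exists_germ_eq S.X₂.obj a
  -- the image germ vanishes
  have h1 : TopCat.Presheaf.germ S.X₃.obj V x hxV (S.g.hom.app (op V) s) = 0 := by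
    have := TopCat.Presheaf.stalkFunctor_map_germ_apply V x hxV S.g.hom s
    exact this.symm.trans ha
  have h2 : TopCat.Presheaf.germ S.X₃.obj V x hxV (S.g.hom.app (op V) s) =
      TopCat.Presheaf.germ S.X₃.obj V x hxV 0 := by
    rw [h1]; exact (map_zero _).symm
  obtain ⟨W, hxW, iU, iV, hW⟩ := TopCat.Presheaf.germ_eq S.X₃.obj x hxV hxV _ _ h2
  let V'' : Opens X := W ⊓ W₀
  have hV''V : V'' ≤ V := inf_le_left.trans iU.le
  let s'' : S.X₂.obj.obj (op V'') := S.X₂.obj.map (homOfLE hV''V).op s
  have hs'' : S.g.hom.app (op V'') s'' = 0 := by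
    have e1 : S.g.hom.app (op V'') s'' =
        S.X₃.obj.map (homOfLE hV''V).op (S.g.hom.app (op V) s) :=
      ConcreteCategory.congr_hom (S.g.hom.naturality (homOfLE hV''V).op) s
    have e2 : S.X₃.obj.map (homOfLE hV''V).op (S.g.hom.app (op V) s) =
        S.X₃.obj.map (homOfLE (inf_le_left : V'' ≤ W)).op
          (S.X₃.obj.map iU.op (S.g.hom.app (op V) s)) := by
      have hh : (homOfLE hV''V).op = iU.op ≫ (homOfLE (inf_le_left : V'' ≤ W)).op :=
        Subsingleton.elim _ _
      rw [hh, Functor.map_comp]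
      rfl
    rw [e1, e2, hW]
    simp
  have hex := h V'' inf_le_right
  rw [ShortComplex.ab_exact_iff] at hex
  obtain ⟨t, ht⟩ := hex s'' hs''
  refine ⟨TopCat.Presheaf.germ S.X₁.obj V'' x ⟨hxW, hx⟩ t, ?_⟩
  have e3 := TopCat.Presheaf.stalkFunctor_map_germ_apply V'' x ⟨hxW, hx⟩ S.f.hom t
  refine e3.trans ?_
  have e4 : S.f.hom.app (op V'') t = s'' := ht
  rw [e4]
  exact TopCat.Presheaf.germ_res_apply S.X₂.obj (homOfLE hV''V) x ⟨hxW, hx⟩ s

/-- a short complex of abelian sheaves on a space is exact if, near every point, it is exact on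
sections over all small opens -/
theorem exact_of_local (S : ShortComplex (CohTop.Ab X))
    (h : ∀ x : X, ∃ W₀ : Opens X, x ∈ W₀ ∧ ∀ V : Opens X, V ≤ W₀ → (S.map (Γs V)).Exact) :
    S.Exact := by
  rw [ShortComplex.exact_iff_isZero_homology]
  apply isZero_of_stk
  intro x
  obtain ⟨W₀, hx, hW⟩ := h x
  have hex := stalk_exact_of_local S x W₀ hx hW
  rw [ShortComplex.exact_iff_isZero_homology] at hex
  exact IsZero.of_iso hex (S.mapHomologyIso (stk x)).symm

variable {ℬ : Type u'} [Category.{v'} ℬ] [Abelian ℬ] [EnoughInjectives ℬ]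
  (U : ℬ ⥤ CohTop.Ab X) [U.Additive]

instance additive_Γs (V : Opens X) : (Γs (X := X) V).Additive where
  map_add := rfl

/-- local vanishing of the derived functors of `U ⋙ Γ(V, -)` implies vanishing of those of `U` -/
theorem isZero_rightDerived_local (M : ℬ) (q : ℕ)
    (h : ∀ x : X, ∃ W₀ : Opens X, x ∈ W₀ ∧ ∀ V : Opens X, V ≤ W₀ →
      IsZero (((U ⋙ Γs V).rightDerived q).obj M)) :
    IsZero ((U.rightDerived q).obj M) := by
  let I : InjectiveResolution M := Classical.choice (HasInjectiveResolution.out (Z := M))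
  refine IsZero.of_iso ?_ (I.isoRightDerivedObj U q)
  let K := (U.mapHomologicalComplex (ComplexShape.up ℕ)).obj I.cocomplex
  show IsZero (K.homology q)
  rw [← HomologicalComplex.exactAt_iff_isZero_homology]
  apply exact_of_local
  intro x
  obtain ⟨W₀, hx, hW⟩ := h x
  refine ⟨W₀, hx, fun V hV => ?_⟩
  have h1 := (hW V hV).of_iso (I.isoRightDerivedObj (U ⋙ Γs V) q).symm
  let K' := ((U ⋙ Γs V).mapHomologicalComplex (ComplexShape.up ℕ)).obj I.cocomplex
  have h2 : IsZero (K'.homology q) := h1
  rw [← HomologicalComplex.exactAt_iff_isZero_homology] at h2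
  exact h2

/-- a morphism of abelian sheaves which is bijective on sections over small opens is an iso -/
theorem isIso_of_local {F G : CohTop.Ab X} (f : F ⟶ G)
    (h : ∀ x : X, ∃ W₀ : Opens X, x ∈ W₀ ∧ ∀ V : Opens X, V ≤ W₀ → IsIso (f.hom.app (op V))) :
    IsIso f := by
  haveI : Mono f := by
    let S : ShortComplex (CohTop.Ab X) := ShortComplex.mk (0 : F ⟶ F) f zero_comp
    have hS : S.Exact := by
      apply exact_of_local
      intro x
      obtain ⟨W₀, hx, hW⟩ := h x
      refine ⟨W₀, hx, fun V hV => ?_⟩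
      haveI := hW V hV
      have h0 : (S.map (Γs V)).f = 0 := by
        show (Γs V).map (0 : F ⟶ F) = 0
        exact (Γs V).map_zero _ _
      rw [ShortComplex.exact_iff_mono _ h0]
      show Mono (f.hom.app (op V))
      infer_instance
    exact (ShortComplex.exact_iff_mono S rfl).1 hS
  haveI : Epi f := by
    let S : ShortComplex (CohTop.Ab X) := ShortComplex.mk f (0 : G ⟶ G) comp_zero
    have hS : S.Exact := by
      apply exact_of_local
      intro x
      obtain ⟨W₀, hx, hW⟩ := h x
      refine ⟨W₀, hx, fun V hV => ?_⟩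
      haveI := hW V hV
      have h0 : (S.map (Γs V)).g = 0 := by
        show (Γs V).map (0 : G ⟶ G) = 0
        exact (Γs V).map_zero _ _
      rw [ShortComplex.exact_iff_epi _ h0]
      show Epi (f.hom.app (op V))
      infer_instance
    exact (ShortComplex.exact_iff_epi S rfl).1 hS
  exact isIso_of_mono_of_epi f

end LocSp

end Groth.Agent.Lib.helper27
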