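import Mathlib
import Groth.Prelude.Def_CohTop
import Groth.Agent.Lib.Helper27.LocSp
import Groth.Agent.Lib.Helper27.SqSec

set_option autoImplicit false
set_option linter.unusedSectionVars false
set_option linter.unusedVariables false
set_option linter.style.haveILetI false
set_option backward.isDefEq.respectTransparency false

namespace Groth.Agent.Lib.helper27

open CategoryTheory Limits Opposite TopologicalSpace

universe u v' u'

namespace PtSp

open StalkAb LocSp BigSec SqSec

variable {S' : TopCat.{u}} (hS : ∀ a b : S', a = b) (p : S')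

include hS in
lemma le_of_mem (W₁ W₂ : Opens S') (h₂ : p ∈ W₂) : W₁ ≤ W₂ := by
  intro a _
  rw [hS a p]
  exact h₂

include hS in
lemma eq_of_mem (W₁ W₂ : Opens S') (h₁ : p ∈ W₁) (h₂ : p ∈ W₂) : W₁ = W₂ :=
  le_antisymm (le_of_mem hS p W₁ W₂ h₂) (le_of_mem hS p W₂ W₁ h₁)

include hS in
lemma eq_bot_of_not_mem (W : Opens S') (h : p ∉ W) : W = ⊥ := by
  apply le_antisymm _ bot_le
  intro a ha
  rw [hS a p] at ha
  exact (h ha).elim

include hS in
lemma res_bijective (A : (Opens S')ᵒᵖ ⥤ AddCommGrpCat.{u}) {W₁ W₂ : Opens S'} (h : W₁ ≤ W₂)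
    (hp : p ∈ W₁) : Function.Bijective (A.map (homOfLE h).op) := by
  obtain rfl : W₁ = W₂ := eq_of_mem hS p W₁ W₂ hp (h hp)
  have h2 : A.map (homOfLE h).op = 𝟙 _ := by
    have : homOfLE h = 𝟙 _ := Subsingleton.elim _ _
    rw [this, op_id, A.map_id]
  rw [h2]
  exact Function.bijective_id

include hS in
/-- a morphism of sheaves on a one-point space is an isomorphism if it is bijective on sections
over a neighbourhood of the point -/
theorem isIso_of_bijective {A B : CohTop.Ab S'} (φ : A ⟶ B) (W : Opens S') (hp : p ∈ W)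
    (h : Function.Bijective (φ.hom.app (op W))) : IsIso φ := by
  apply isIso_of_local
  intro x
  refine ⟨W, by rw [hS x p]; exact hp, fun V hV => ?_⟩
  by_cases hpV : p ∈ V
  · obtain rfl : V = W := eq_of_mem hS p V W hpV hp
    exact (ConcreteCategory.isIso_iff_bijective _).2 h
  · have hV0 := eq_bot_of_not_mem hS p V hpV
    refine (ConcreteCategory.isIso_iff_bijective _).2 ⟨?_, ?_⟩
    · intro a b _
      exact Godement.eq_of_eq_bot A V hV0 a b
    · intro b
      exact ⟨0, Godement.eq_of_eq_bot B V hV0 _ _⟩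

variable {T : TopCat.{u}} (j : S' ⟶ T)

include hS in
/-- sections of a pullback to a one-point space come from downstairs -/
theorem exists_rep (G : CohTop.Ab T) (W : Opens S') (hp : p ∈ W)
    (u : ((CohTop.pull j).obj G).obj.obj (op W)) :
    ∃ (V : Opens T) (hV : j p ∈ V) (t : G.obj.obj (op V)),
      u = ((CohTop.pull j).obj G).obj.map
        (homOfLE (le_of_mem hS p W ((Opens.map j).obj V) hV)).op (ρ j G V t) := by
  obtain ⟨V, hV, t, ht⟩ := PullGerm.exists_local_rep j G W u p hp
  refine ⟨V, hV, t, ?_⟩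
  obtain ⟨W'', hW'', iU, iV, e⟩ := TopCat.Presheaf.germ_eq ((CohTop.pull j).obj G).obj p hp hV
    u (ρ j G V t) ht
  apply (res_bijective hS p ((CohTop.pull j).obj G).obj iU.le hW'').1
  refine e.trans ?_
  exact (map_map_apply ((CohTop.pull j).obj G).obj _ iU.le iV.le (ρ j G V t)).symm

/-- vanishing of a pulled back section gives vanishing near the image point -/
theorem exists_res_eq_zero (G : CohTop.Ab T) (V : Opens T) (hV : j p ∈ V) (t : G.obj.obj (op V))
    (W : Opens S') (hp : p ∈ W) (hW : W ≤ (Opens.map j).obj V)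
    (h0 : ((CohTop.pull j).obj G).obj.map (homOfLE hW).op (ρ j G V t) = 0) :
    ∃ (V₁ : Opens T) (hV₁ : V₁ ≤ V), j p ∈ V₁ ∧ G.obj.map (homOfLE hV₁).op t = 0 := by
  apply PullGerm.exists_res_eq_zero j G V t p hV
  have e1 := TopCat.Presheaf.germ_res_apply ((CohTop.pull j).obj G).obj (homOfLE hW) p hp
    (ρ j G V t)
  rw [h0, map_zero] at e1
  exact e1.symm

section derived

variable {ℬ : Type u'} [Category.{v'} ℬ] [Abelian ℬ] [EnoughInjectives ℬ]

lemma isZero_rightDerived_of_isZero {𝒞 : Type*} [Category 𝒞] [Abelian 𝒞] (F : ℬ ⥤ 𝒞) [F.Additive]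
    (h : ∀ X, IsZero (F.obj X)) (q : ℕ) (M : ℬ) : IsZero ((F.rightDerived q).obj M) := by
  let I : InjectiveResolution M := Classical.choice (HasInjectiveResolution.out (Z := M))
  refine IsZero.of_iso ?_ (I.isoRightDerivedObj F q)
  let K := (F.mapHomologicalComplex (ComplexShape.up ℕ)).obj I.cocomplex
  show IsZero (K.homology q)
  rw [← HomologicalComplex.exactAt_iff_isZero_homology]
  exact ShortComplex.exact_of_isZero_X₂ _ (h _)

include hS p in
theorem isZero_rightDerived_pt (U : ℬ ⥤ CohTop.Ab S') [U.Additive] (M : ℬ) (q : ℕ)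
    (h : IsZero (((U ⋙ Γs (⊤ : Opens S')).rightDerived q).obj M)) :
    IsZero ((U.rightDerived q).obj M) := by
  apply isZero_rightDerived_local
  intro x
  refine ⟨⊤, trivial, fun V _ => ?_⟩
  by_cases hpV : p ∈ V
  · obtain rfl : V = ⊤ := eq_of_mem hS p V ⊤ hpV trivial
    exact h
  · have hV0 := eq_bot_of_not_mem hS p V hpV
    apply isZero_rightDerived_of_isZero
    intro X
    haveI : Subsingleton ((U ⋙ Γs V).obj X) :=
      ⟨fun a b => Godement.eq_of_eq_bot (U.obj X) V hV0 a b⟩
    exact AddCommGrpCat.isZero_of_subsingleton _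

end derived

section stalks

variable {X : TopCat.{u}} (i : X ⟶ T)

lemma Φ_natural {A B : CohTop.Ab T} (f : A ⟶ B) (x : X) (a : (stk (i x)).obj A) :
    PullGerm.Φ i B x ((stk (i x)).map f a) =
      (stk x).map ((CohTop.pull i).map f) (PullGerm.Φ i A x a) := by
  obtain ⟨V, hV, t, rfl⟩ := TopCat.Presheaf.exists_germ_eq A.obj a
  have e1 : (stk (i x)).map f (TopCat.Presheaf.germ A.obj V (i x) hV t) =
      TopCat.Presheaf.germ B.obj V (i x) hV (f.hom.app (op V) t) :=
    TopCat.Presheaf.stalkFunctor_map_germ_apply V (i x) hV f.hom t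
  rw [e1, PullGerm.germ_unit_apply, PullGerm.germ_unit_apply]
  have e2 : (stk x).map ((CohTop.pull i).map f)
      (TopCat.Presheaf.germ ((CohTop.pull i).obj A).obj ((Opens.map i).obj V) x hV
        (PullGerm.ρ i A V t)) =
      TopCat.Presheaf.germ ((CohTop.pull i).obj B).obj ((Opens.map i).obj V) x hV
        (((CohTop.pull i).map f).hom.app (op ((Opens.map i).obj V)) (PullGerm.ρ i A V t)) :=
    TopCat.Presheaf.stalkFunctor_map_germ_apply ((Opens.map i).obj V) x hV
      ((CohTop.pull i).map f).hom (PullGerm.ρ i A V t)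
  rw [e2]
  have e3 : ((CohTop.pull i).map f).hom.app (op ((Opens.map i).obj V)) (ρ i A V t) =
      ρ i B V (f.hom.app (op V) t) :=
    ConcreteCategory.congr_hom (ρ_naturality i f V) t
  exact congrArg _ e3.symm

theorem isIso_stk_of_pull {A B : CohTop.Ab T} (f : A ⟶ B) (x : X)
    (h : IsIso ((CohTop.pull i).map f)) : IsIso ((stk (i x)).map f) := by
  haveI : IsIso ((stk x).map ((CohTop.pull i).map f)) := inferInstance
  have hb : Function.Bijective ((stk x).map ((CohTop.pull i).map f)) :=
    (ConcreteCategory.isIso_iff_bijective _).1 inferInstance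
  refine (ConcreteCategory.isIso_iff_bijective _).2 ⟨?_, ?_⟩
  · intro a b hab
    apply (PullGerm.Φ_bijective i A x).1
    apply hb.1
    rw [← Φ_natural, ← Φ_natural, hab]
  · intro b
    obtain ⟨c, hc⟩ := hb.2 (PullGerm.Φ i B x b)
    obtain ⟨a, rfl⟩ := (PullGerm.Φ_bijective i A x).2 c
    refine ⟨a, (PullGerm.Φ_bijective i B x).1 ?_⟩
    rw [Φ_natural]
    exact hc

theorem isZero_stk_of_pull (A : CohTop.Ab T) (x : X) (h : IsZero ((CohTop.pull i).obj A)) :
    IsZero ((stk (i x)).obj A) := by
  have h1 : IsZero ((stk x).obj ((CohTop.pull i).obj A)) := (stk x).map_isZero h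
  haveI : Subsingleton ((stk (i x)).obj A) := by
    constructor
    intro a b
    apply (PullGerm.Φ_bijective i A x).1
    haveI : Subsingleton ((stk x).obj ((CohTop.pull i).obj A)) :=
      AddCommGrpCat.subsingleton_of_isZero h1
    exact Subsingleton.elim (α := ((stk x).obj ((CohTop.pull i).obj A))) _ _
  exact AddCommGrpCat.isZero_of_subsingleton _

end stalks

end PtSp

end Groth.Agent.Lib.helper27
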