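import Mathlib

/-!
# Cofree cosimplicial objects (helper27)

For a family `J : ℕ → 𝒜` the cosimplicial object `E J : [n] ↦ ∏_{m, α : [n] ⟶ [m]} J m` (the product over
`m` of the right Kan extensions of `J m` along `{[m]} → Δ`).  It is injective when all `J m` are, and every
cosimplicial object maps to such an object by `lift`.
-/

set_option autoImplicit false
universe v u

namespace Groth.Agent.Lib.helper27.CosimpLim

open CategoryTheory Limits Opposite Simplicial

variable {𝒜 : Type u} [Category.{v} 𝒜] [∀ α : Type, HasProductsOfShape α 𝒜]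

/-- the index type of the factors of `E J` at `x` -/
abbrev Idx (x : SimplexCategory) : Type := Σ m : ℕ, (x ⟶ SimplexCategory.mk m)

/-- the object `E J [n]` -/
noncomputable def EObj (J : ℕ → 𝒜) (x : SimplexCategory) : 𝒜 := ∏ᶜ (fun p : Idx x => J p.1)

/-- the projections of `E J [n]` -/
noncomputable def Eπ' (J : ℕ → 𝒜) (x : SimplexCategory) (m : ℕ) (α : x ⟶ SimplexCategory.mk m) :
    EObj J x ⟶ J m :=
  Pi.π (fun p : Idx x => J p.1) ⟨m, α⟩

lemma EObj_hom_ext' (J : ℕ → 𝒜) (x : SimplexCategory) {Z : 𝒜} (a b : Z ⟶ EObj J x)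
    (h : ∀ (m : ℕ) (α : x ⟶ SimplexCategory.mk m), a ≫ Eπ' J x m α = b ≫ Eπ' J x m α) : a = b := by
  apply Pi.hom_ext
  rintro ⟨m, α⟩
  exact h m α

/-- morphisms into `E J [n]` -/
noncomputable def ELift' (J : ℕ → 𝒜) (x : SimplexCategory) {Z : 𝒜}
    (f : ∀ (m : ℕ) (_ : x ⟶ SimplexCategory.mk m), Z ⟶ J m) : Z ⟶ EObj J x :=
  Pi.lift (fun p : Idx x => f p.1 p.2)

@[reassoc (attr := simp)]
lemma ELift'_π (J : ℕ → 𝒜) (x : SimplexCategory) {Z : 𝒜}
    (f : ∀ (m : ℕ) (_ : x ⟶ SimplexCategory.mk m), Z ⟶ J m) (m : ℕ)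
    (α : x ⟶ SimplexCategory.mk m) : ELift' J x f ≫ Eπ' J x m α = f m α :=
  Pi.lift_π _ _

/-- the cofree cosimplicial object on a family -/
noncomputable def E (J : ℕ → 𝒜) : SimplexCategory ⥤ 𝒜 where
  obj x := EObj J x
  map {x y} θ := ELift' J y (fun m α => Eπ' J x m (θ ≫ α))
  map_id x := by
    apply EObj_hom_ext'
    intro m α
    simp
  map_comp {x y z} θ θ' := by
    apply EObj_hom_ext'
    intro m α
    simp

/-- the projections of `E J [n]` -/
noncomputable def Eπ (J : ℕ → 𝒜) (x : SimplexCategory) (m : ℕ) (α : x ⟶ SimplexCategory.mk m) :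
    (E J).obj x ⟶ J m :=
  Eπ' J x m α

lemma E_hom_ext (J : ℕ → 𝒜) (x : SimplexCategory) {Z : 𝒜} (a b : Z ⟶ (E J).obj x)
    (h : ∀ (m : ℕ) (α : x ⟶ SimplexCategory.mk m), a ≫ Eπ J x m α = b ≫ Eπ J x m α) : a = b :=
  EObj_hom_ext' J x a b h

/-- morphisms into `E J [n]` -/
noncomputable def ELift (J : ℕ → 𝒜) (x : SimplexCategory) {Z : 𝒜}
    (f : ∀ (m : ℕ) (_ : x ⟶ SimplexCategory.mk m), Z ⟶ J m) : Z ⟶ (E J).obj x :=
  ELift' J x f

@[reassoc (attr := simp)]
lemma ELift_π (J : ℕ → 𝒜) (x : SimplexCategory) {Z : 𝒜}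
    (f : ∀ (m : ℕ) (_ : x ⟶ SimplexCategory.mk m), Z ⟶ J m) (m : ℕ)
    (α : x ⟶ SimplexCategory.mk m) : ELift J x f ≫ Eπ J x m α = f m α :=
  ELift'_π J x f m α

@[reassoc (attr := simp)]
lemma E_map_π (J : ℕ → 𝒜) {x y : SimplexCategory} (θ : x ⟶ y) (m : ℕ)
    (α : y ⟶ SimplexCategory.mk m) :
    (E J).map θ ≫ Eπ J y m α = Eπ J x m (θ ≫ α) :=
  ELift'_π J y (fun m α => Eπ' J x m (θ ≫ α)) m α

/-- the universal morphism into the cofree object -/
noncomputable def lift {F : SimplexCategory ⥤ 𝒜} (J : ℕ → 𝒜)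
    (g : ∀ m : ℕ, F.obj (SimplexCategory.mk m) ⟶ J m) : F ⟶ E J where
  app x := ELift J x (fun m α => F.map α ≫ g m)
  naturality {x y} θ := by
    apply E_hom_ext
    intro m α
    simp

@[reassoc (attr := simp)]
lemma lift_app_π {F : SimplexCategory ⥤ 𝒜} (J : ℕ → 𝒜)
    (g : ∀ m : ℕ, F.obj (SimplexCategory.mk m) ⟶ J m) (x : SimplexCategory) (m : ℕ)
    (α : x ⟶ SimplexCategory.mk m) :
    (lift J g).app x ≫ Eπ J x m α = F.map α ≫ g m :=
  ELift_π J x (fun m α => F.map α ≫ g m) m α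

/-- a morphism into `E J` is determined by its "diagonal" components -/
lemma hom_ext_E {F : SimplexCategory ⥤ 𝒜} (J : ℕ → 𝒜) (a b : F ⟶ E J)
    (h : ∀ m : ℕ, a.app (SimplexCategory.mk m) ≫ Eπ J _ m (𝟙 _) =
      b.app (SimplexCategory.mk m) ≫ Eπ J _ m (𝟙 _)) : a = b := by
  ext x
  apply E_hom_ext
  intro m α
  have h1 : ∀ c : F ⟶ E J, c.app x ≫ Eπ J x m α =
      F.map α ≫ c.app (SimplexCategory.mk m) ≫ Eπ J _ m (𝟙 _) := by
    intro c
    rw [← Category.assoc, c.naturality α, Category.assoc, E_map_π, Category.comp_id]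
  rw [h1 a, h1 b, h m]

instance injective_E [HasPullbacks 𝒜] (J : ℕ → 𝒜) [∀ m, Injective (J m)] : Injective (E J) where
  factors {X Y} g f _ := by
    have hm : ∀ m : ℕ, Mono (f.app (SimplexCategory.mk m)) := fun m =>
      (NatTrans.mono_iff_mono_app f).1 inferInstance _
    let k : ∀ m : ℕ, Y.obj (SimplexCategory.mk m) ⟶ J m := fun m =>
      Injective.factorThru (g.app (SimplexCategory.mk m) ≫ Eπ J _ m (𝟙 _))
        (f.app (SimplexCategory.mk m))
    refine ⟨lift J k, ?_⟩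
    apply hom_ext_E
    intro m
    rw [NatTrans.comp_app, Category.assoc, lift_app_π, CategoryTheory.Functor.map_id,
      Category.id_comp]
    exact Injective.comp_factorThru _ _

/-- `lift` is a monomorphism when all components are -/
lemma mono_lift {F : SimplexCategory ⥤ 𝒜} (J : ℕ → 𝒜)
    (g : ∀ m : ℕ, F.obj (SimplexCategory.mk m) ⟶ J m) [∀ m, Mono (g m)] : Mono (lift J g) := by
  have : ∀ x, Mono ((lift J g).app x) := by
    intro x
    have : Mono ((lift J g).app x ≫ Eπ J x x.len (𝟙 _)) := by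
      rw [lift_app_π, CategoryTheory.Functor.map_id, Category.id_comp]
      infer_instance
    exact mono_of_mono _ (Eπ J x x.len (𝟙 _))
  exact NatTrans.mono_of_mono_app _

end Groth.Agent.Lib.helper27.CosimpLim
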