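import Mathlib
import Groth.Agent.Lib.Helper27.CosimpLim1

/-!
# The alternating coface map complex of a cofree cosimplicial object is exact in positive degrees
(helper27): cone contraction.
-/

set_option autoImplicit false
universe v u

namespace Groth.Agent.Lib.helper27.CosimpLim

open CategoryTheory Limits Opposite Simplicial

/-- the cone on a simplex map: prepend the vertex `0` -/
def cone {n m : ℕ} (α : SimplexCategory.mk n ⟶ SimplexCategory.mk m) :
    SimplexCategory.mk (n + 1) ⟶ SimplexCategory.mk m :=
  SimplexCategory.Hom.mk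
    { toFun := Fin.cases 0 (fun i => α.toOrderHom i)
      monotone' := by
        intro a b hab
        induction a using Fin.cases with
        | zero => exact Fin.zero_le _
        | succ a =>
          induction b using Fin.cases with
          | zero => exact absurd hab (by simp)
          | succ b =>
            simp only [Fin.cases_succ]
            exact α.toOrderHom.monotone (Fin.succ_le_succ_iff.mp hab) }

lemma δ_zero_cone {n m : ℕ} (α : SimplexCategory.mk n ⟶ SimplexCategory.mk m) :
    SimplexCategory.δ 0 ≫ cone α = α := by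
  ext j : 3
  simp [cone, SimplexCategory.δ]

lemma δ_succ_cone {n m : ℕ} (β : SimplexCategory.mk (n + 1) ⟶ SimplexCategory.mk m)
    (k : Fin (n + 2)) :
    SimplexCategory.δ k.succ ≫ cone β = cone (SimplexCategory.δ k ≫ β) := by
  ext j : 3
  induction j using Fin.cases with
  | zero => simp [cone, SimplexCategory.δ]
  | succ j => simp [cone, SimplexCategory.δ]

variable {𝒜 : Type u} [Category.{v} 𝒜] [∀ α : Type, HasProductsOfShape α 𝒜]

/-- the contracting homotopy -/
noncomputable def hh (J : ℕ → 𝒜) (n : ℕ) :
    (E J).obj (SimplexCategory.mk (n + 1)) ⟶ (E J).obj (SimplexCategory.mk n) :=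
  ELift J (SimplexCategory.mk n) (fun m α => Eπ J (SimplexCategory.mk (n + 1)) m (cone α))

@[reassoc (attr := simp)]
lemma hh_π (J : ℕ → 𝒜) (n m : ℕ) (α : SimplexCategory.mk n ⟶ SimplexCategory.mk m) :
    hh J n ≫ Eπ J (SimplexCategory.mk n) m α = Eπ J (SimplexCategory.mk (n + 1)) m (cone α) :=
  ELift_π J (SimplexCategory.mk n) (fun m α => Eπ J (SimplexCategory.mk (n + 1)) m (cone α)) m α

variable [Preadditive 𝒜]

open AlgebraicTopology in
theorem homotopy_identity (J : ℕ → 𝒜) (n : ℕ) :
    AlternatingCofaceMapComplex.objD (E J) (n + 1) ≫ hh J (n + 1) +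
      hh J n ≫ AlternatingCofaceMapComplex.objD (E J) n = 𝟙 _ := by
  apply E_hom_ext
  intro m β
  simp only [AlternatingCofaceMapComplex.objD, Preadditive.add_comp, Category.assoc, hh_π,
    Preadditive.sum_comp, Preadditive.zsmul_comp, Preadditive.comp_sum, Preadditive.comp_zsmul,
    CosimplicialObject.δ, E_map_π, hh_π_assoc, Category.id_comp]
  rw [Fin.sum_univ_succ]
  simp only [Fin.val_zero, pow_zero, one_smul, δ_zero_cone, Fin.val_succ, δ_succ_cone, pow_succ,
    mul_neg, mul_one, neg_smul, Finset.sum_neg_distrib]
  abel

end Groth.Agent.Lib.helper27.CosimpLim
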