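import Mathlib
import Groth.Agent.Lib.Helper27.CosimpLim2
import Groth.Agent.Lib.Helper27.DeltaSeq

/-!
# `H^n` of the alternating coface map complex as an exact sequence of functors vanishing on
injective cosimplicial objects (helper27)
-/

set_option autoImplicit false
universe v u

namespace Groth.Agent.Lib.helper27.CosimpLim

open CategoryTheory Limits Opposite Simplicial AlgebraicTopology

variable {𝒜 : Type u} [Category.{v} 𝒜] [Abelian 𝒜] [∀ α : Type, HasProductsOfShape α 𝒜]

omit [∀ α : Type, HasProductsOfShape α 𝒜] in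
lemma exact_of_homotopy {X₁ X₂ X₃ : 𝒜} (f : X₁ ⟶ X₂) (g : X₂ ⟶ X₃) (w : f ≫ g = 0)
    (r : X₂ ⟶ X₁) (s : X₃ ⟶ X₂) (H : g ≫ s + r ≫ f = 𝟙 X₂) : (ShortComplex.mk f g w).Exact := by
  rw [ShortComplex.exact_iff_exact_up_to_refinements]
  intro A x₂ hx₂
  dsimp at x₂ hx₂
  refine ⟨A, 𝟙 A, inferInstance, x₂ ≫ r, ?_⟩
  dsimp
  have := congrArg (fun t => x₂ ≫ t) H
  simp only [Preadditive.comp_add, Category.comp_id] at this
  rw [← Category.assoc, hx₂, zero_comp, zero_add] at this
  rw [Category.id_comp, Category.assoc]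
  exact this.symm

omit [∀ α : Type, HasProductsOfShape α 𝒜] in
lemma isZero_homology_of_homotopy (K : CochainComplex 𝒜 ℕ) (n : ℕ)
    (h₁ : K.X (n + 2) ⟶ K.X (n + 1)) (h₀ : K.X (n + 1) ⟶ K.X n)
    (H : K.d (n + 1) (n + 2) ≫ h₁ + h₀ ≫ K.d n (n + 1) = 𝟙 _) :
    IsZero (K.homology (n + 1)) := by
  rw [← HomologicalComplex.exactAt_iff_isZero_homology,
    K.exactAt_iff' n (n + 1) (n + 2) (by simp) (by simp)]
  exact exact_of_homotopy _ _ _ h₀ h₁ H

theorem isZero_homology_E (J : ℕ → 𝒜) (n : ℕ) :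
    IsZero (((alternatingCofaceMapComplex 𝒜).obj (E J)).homology (n + 1)) := by
  refine isZero_homology_of_homotopy _ n (hh J (n + 1)) (hh J n) ?_
  have h := homotopy_identity J n
  have hd : ∀ k : ℕ, ((alternatingCofaceMapComplex 𝒜).obj (E J)).d k (k + 1) =
      AlternatingCofaceMapComplex.objD (E J) k := by
    intro k
    change (AlternatingCofaceMapComplex.obj (E J : CosimplicialObject 𝒜)).d k (k + 1) = _
    exact CochainComplex.of_d (α := ℕ) (fun n => (E J).obj (SimplexCategory.mk n))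
      (AlternatingCofaceMapComplex.objD (E J : CosimplicialObject 𝒜)) k
  have hd1 := hd n
  have hd2 := hd (n + 1)
  rw [hd1, hd2]
  exact h

/-- the functors `H^n` of the alternating coface map complex -/
noncomputable abbrev T (n : ℕ) : (SimplexCategory ⥤ 𝒜) ⥤ 𝒜 :=
  alternatingCofaceMapComplex 𝒜 ⋙ HomologicalComplex.homologyFunctor 𝒜 _ n

theorem isZero_T_of_injective [EnoughInjectives 𝒜] (I : SimplexCategory ⥤ 𝒜) [Injective I] (n : ℕ) :
    IsZero ((T (𝒜 := 𝒜) (n + 1)).obj I) := by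
  let J : ℕ → 𝒜 := fun m => Injective.under (I.obj (SimplexCategory.mk m))
  let g : ∀ m, I.obj (SimplexCategory.mk m) ⟶ J m := fun m => Injective.ι _
  haveI : ∀ m, Mono (g m) := fun m => by dsimp [g]; infer_instance
  haveI : ∀ m, Injective (J m) := fun m => by dsimp [J]; infer_instance
  haveI := mono_lift J g
  let r : E J ⟶ I := Injective.factorThru (𝟙 I) (lift J g)
  have hr : lift J g ≫ r = 𝟙 I := Injective.comp_factorThru _ _
  rw [IsZero.iff_id_eq_zero]
  have h1 : 𝟙 ((T (𝒜 := 𝒜) (n + 1)).obj I) =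
      (T (n + 1)).map (lift J g) ≫ (T (n + 1)).map r := by
    rw [← CategoryTheory.Functor.map_comp, hr, CategoryTheory.Functor.map_id]
  rw [h1, (isZero_homology_E J n).eq_of_tgt ((T (n + 1)).map (lift J g)) 0]
  exact zero_comp

end Groth.Agent.Lib.helper27.CosimpLim
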