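import Mathlib
import Groth.Agent.Lib.Helper27.CosimpLim3

/-!
# `R^n lim` over the simplex category is computed by the alternating coface map complex (helper27)
-/

set_option autoImplicit false
universe v u

namespace Groth.Agent.Lib.helper27.CosimpLim

open CategoryTheory Limits Opposite Simplicial AlgebraicTopology

variable {𝒜 : Type u} [Category.{v} 𝒜] [Abelian 𝒜]

/-- the alternating coface map complex functor, typed on the functor category -/
noncomputable def Cfun : (SimplexCategory ⥤ 𝒜) ⥤ CochainComplex 𝒜 ℕ :=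
  alternatingCofaceMapComplex 𝒜

lemma Cfun_map_f {F G : SimplexCategory ⥤ 𝒜} (f : F ⟶ G) (n : ℕ) :
    ((Cfun (𝒜 := 𝒜)).map f).f n = f.app (SimplexCategory.mk n) := rfl

instance : (Cfun (𝒜 := 𝒜)).Additive where
  map_add {F G f g} := by
    ext n
    rw [HomologicalComplex.add_f_apply, Cfun_map_f, Cfun_map_f, Cfun_map_f]
    rfl

/-- the alternating coface map complex functor is exact -/
lemma map_shortExact (S : ShortComplex (SimplexCategory ⥤ 𝒜)) (hS : S.ShortExact) :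
    (S.map (Cfun (𝒜 := 𝒜))).ShortExact := by
  apply HomologicalComplex.shortExact_of_degreewise_shortExact
  intro i
  have h := hS.map_of_exact ((evaluation SimplexCategory 𝒜).obj (SimplexCategory.mk i))
  exact h

theorem isExSeq_T [∀ α : Type, HasProductsOfShape α 𝒜] [EnoughInjectives 𝒜] :
    DeltaSeq.IsExSeq (fun n => T (𝒜 := 𝒜) n) where
  ex S hS i := by
    have hC := map_shortExact S hS
    exact ⟨hC.δ i (i + 1) rfl, hC.comp_δ i (i + 1) rfl, hC.δ_comp i (i + 1) rfl,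
      hC.homology_exact₃ i (i + 1) rfl, hC.homology_exact₁ i (i + 1) rfl⟩
  vanish I hI i := isZero_T_of_injective I i

section lim

variable [HasLimitsOfShape SimplexCategory 𝒜]

/-- the edge `0 ≤ i` of a simplex -/
def edge (x : SimplexCategory) (i : Fin (x.len + 1)) : SimplexCategory.mk 1 ⟶ x :=
  SimplexCategory.mkOfLe (n := x.len) 0 i (Fin.zero_le i)

lemma δ_one_edge (x : SimplexCategory) (i : Fin (x.len + 1)) :
    SimplexCategory.δ (n := 0) 1 ≫ edge x i = SimplexCategory.const (SimplexCategory.mk 0) x 0 := by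
  rw [SimplexCategory.eq_const_of_zero (SimplexCategory.δ (n := 0) 1 ≫ edge x i)]
  rfl

lemma δ_zero_edge (x : SimplexCategory) (i : Fin (x.len + 1)) :
    SimplexCategory.δ (n := 0) 0 ≫ edge x i = SimplexCategory.const (SimplexCategory.mk 0) x i := by
  rw [SimplexCategory.eq_const_of_zero (SimplexCategory.δ (n := 0) 0 ≫ edge x i)]
  rfl

/-- the degree-zero cocycles of the alternating coface map complex -/
noncomputable def Z0 (F : SimplexCategory ⥤ 𝒜) : 𝒜 := ((Cfun (𝒜 := 𝒜)).obj F).cycles 0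

/-- the inclusion of the degree-zero cocycles -/
noncomputable def ι₀ (F : SimplexCategory ⥤ 𝒜) : Z0 F ⟶ F.obj (SimplexCategory.mk 0) :=
  ((Cfun (𝒜 := 𝒜)).obj F).iCycles 0

omit [HasLimitsOfShape SimplexCategory 𝒜] in
instance (F : SimplexCategory ⥤ 𝒜) : Mono (ι₀ F) :=
  inferInstanceAs (Mono (((Cfun (𝒜 := 𝒜)).obj F).iCycles 0))

/-- the first differential -/
noncomputable def d₀ (F : SimplexCategory ⥤ 𝒜) :
    F.obj (SimplexCategory.mk 0) ⟶ F.obj (SimplexCategory.mk 1) :=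
  F.map (SimplexCategory.δ (n := 0) 0) - F.map (SimplexCategory.δ (n := 0) 1)

omit [HasLimitsOfShape SimplexCategory 𝒜] in
lemma d_eq_d₀ (F : SimplexCategory ⥤ 𝒜) :
    @Eq (F.obj (SimplexCategory.mk 0) ⟶ F.obj (SimplexCategory.mk 1))
      (((Cfun (𝒜 := 𝒜)).obj F).d 0 1) (d₀ F) := by
  have hd : @Eq (F.obj (SimplexCategory.mk 0) ⟶ F.obj (SimplexCategory.mk 1))
      (((Cfun (𝒜 := 𝒜)).obj F).d 0 1)
      (AlternatingCofaceMapComplex.objD (F : CosimplicialObject 𝒜) 0) :=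
    CochainComplex.of_d (α := ℕ) (fun n => F.obj (SimplexCategory.mk n))
      (AlternatingCofaceMapComplex.objD (F : CosimplicialObject 𝒜)) 0
  refine hd.trans ?_
  dsimp only [AlternatingCofaceMapComplex.objD, d₀]
  rw [Fin.sum_univ_succ, Fin.sum_univ_succ, Fin.sum_univ_zero]
  simp only [Fin.val_zero, pow_zero, one_smul, Fin.val_succ, zero_add, pow_one, neg_smul,
    add_zero, CosimplicialObject.δ]
  rw [sub_eq_add_neg]
  rfl

omit [HasLimitsOfShape SimplexCategory 𝒜] in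
lemma ι₀_d₀ (F : SimplexCategory ⥤ 𝒜) : ι₀ F ≫ d₀ F = 0 :=
  (congrArg (fun t => ι₀ F ≫ t) (d_eq_d₀ F).symm).trans (((Cfun (𝒜 := 𝒜)).obj F).iCycles_d 0 1)

omit [HasLimitsOfShape SimplexCategory 𝒜] in
lemma ι₀_δ (F : SimplexCategory ⥤ 𝒜) :
    ι₀ F ≫ F.map (SimplexCategory.δ (n := 0) 0) = ι₀ F ≫ F.map (SimplexCategory.δ (n := 0) 1) := by
  have h := ι₀_d₀ F
  rw [d₀, Preadditive.comp_sub, sub_eq_zero] at h
  exact h

omit [HasLimitsOfShape SimplexCategory 𝒜] in
lemma ι₀_map_const (F : SimplexCategory ⥤ 𝒜) (x : SimplexCategory) (i : Fin (x.len + 1)) :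
    ι₀ F ≫ F.map (SimplexCategory.const (SimplexCategory.mk 0) x i) =
      ι₀ F ≫ F.map (SimplexCategory.const (SimplexCategory.mk 0) x 0) := by
  rw [← δ_zero_edge x i, ← δ_one_edge x i, F.map_comp, F.map_comp, ← Category.assoc,
    ← Category.assoc, ι₀_δ]

/-- lifting to the degree-zero cocycles -/
noncomputable def liftZ0 (F : SimplexCategory ⥤ 𝒜) {A : 𝒜} (a : A ⟶ F.obj (SimplexCategory.mk 0))
    (ha : a ≫ d₀ F = 0) : A ⟶ Z0 F :=
  ((Cfun (𝒜 := 𝒜)).obj F).liftCycles a 1 (by simp)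
    ((congrArg (fun t => a ≫ t) (d_eq_d₀ F)).trans ha)

omit [HasLimitsOfShape SimplexCategory 𝒜] in
@[reassoc (attr := simp)]
lemma liftZ0_ι₀ (F : SimplexCategory ⥤ 𝒜) {A : 𝒜} (a : A ⟶ F.obj (SimplexCategory.mk 0))
    (ha : a ≫ d₀ F = 0) : liftZ0 F a ha ≫ ι₀ F = a :=
  ((Cfun (𝒜 := 𝒜)).obj F).liftCycles_i _ _ _ _

/-- the cone over `F` with apex the degree-zero cocycles -/
noncomputable def coneZ0 (F : SimplexCategory ⥤ 𝒜) : Cone F where
  pt := Z0 F
  π :=
    { app := fun x => ι₀ F ≫ F.map (SimplexCategory.const (SimplexCategory.mk 0) x 0)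
      naturality := fun x y θ => by
        dsimp
        rw [Category.id_comp, Category.assoc, ← F.map_comp, SimplexCategory.const_comp]
        exact (ι₀_map_const F y _).symm }

omit [HasLimitsOfShape SimplexCategory 𝒜] in
lemma coneZ0_π_app (F : SimplexCategory ⥤ 𝒜) (x : SimplexCategory) :
    (coneZ0 F).π.app x = ι₀ F ≫ F.map (SimplexCategory.const (SimplexCategory.mk 0) x 0) := rfl

/-- the degree-zero cocycles are the limit -/
noncomputable def isLimitConeZ0 (F : SimplexCategory ⥤ 𝒜) : IsLimit (coneZ0 F) where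
  lift s := liftZ0 F (s.π.app (SimplexCategory.mk 0))
    (by rw [d₀, Preadditive.comp_sub, s.w, s.w, sub_self])
  fac s x := by
    rw [coneZ0_π_app]
    erw [liftZ0_ι₀_assoc]
    rw [s.w]
  uniq s m hm := by
    refine (cancel_mono (ι₀ F)).1 ?_
    rw [liftZ0_ι₀]
    have := hm (SimplexCategory.mk 0)
    rw [coneZ0_π_app, SimplexCategory.const_eq_id, F.map_id, Category.comp_id] at this
    exact this

/-- `H⁰` is the object of degree-zero cocycles -/
noncomputable def isoZ (F : SimplexCategory ⥤ 𝒜) : Z0 F ≅ (T (𝒜 := 𝒜) 0).obj F :=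
  ((Cfun (𝒜 := 𝒜)).obj F).isoHomologyπ₀

/-- the map on degree-zero cocycles -/
noncomputable def Z0map {F G : SimplexCategory ⥤ 𝒜} (φ : F ⟶ G) : Z0 F ⟶ Z0 G :=
  HomologicalComplex.cyclesMap ((Cfun (𝒜 := 𝒜)).map φ) 0

omit [HasLimitsOfShape SimplexCategory 𝒜] in
lemma isoZ_inv_naturality {F G : SimplexCategory ⥤ 𝒜} (φ : F ⟶ G) :
    (T (𝒜 := 𝒜) 0).map φ ≫ (isoZ G).inv = (isoZ F).inv ≫ Z0map φ :=
  CochainComplex.isoHomologyπ₀_inv_naturality ((Cfun (𝒜 := 𝒜)).map φ)

omit [HasLimitsOfShape SimplexCategory 𝒜] in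
lemma Z0map_ι₀ {F G : SimplexCategory ⥤ 𝒜} (φ : F ⟶ G) :
    Z0map φ ≫ ι₀ G = ι₀ F ≫ φ.app (SimplexCategory.mk 0) :=
  HomologicalComplex.cyclesMap_i ((Cfun (𝒜 := 𝒜)).map φ) 0

/-- the comparison between the cocycles and the limit -/
noncomputable def isoLimZ (F : SimplexCategory ⥤ 𝒜) :
    (lim : (SimplexCategory ⥤ 𝒜) ⥤ 𝒜).obj F ≅ Z0 F :=
  limit.isoLimitCone ⟨coneZ0 F, isLimitConeZ0 F⟩

lemma isoLimZ_inv_π (F : SimplexCategory ⥤ 𝒜) (x : SimplexCategory) :
    (isoLimZ F).inv ≫ limit.π F x =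
      ι₀ F ≫ F.map (SimplexCategory.const (SimplexCategory.mk 0) x 0) :=
  limit.isoLimitCone_inv_π _ _

/-- the components of the comparison isomorphism -/
noncomputable def eIso (F : SimplexCategory ⥤ 𝒜) :
    (T (𝒜 := 𝒜) 0).obj F ≅ (lim : (SimplexCategory ⥤ 𝒜) ⥤ 𝒜).obj F :=
  (isoZ F).symm ≪≫ (isoLimZ F).symm

lemma eIso_hom_π (F : SimplexCategory ⥤ 𝒜) (x : SimplexCategory) :
    (eIso F).hom ≫ limit.π F x =
      (isoZ F).inv ≫ ι₀ F ≫ F.map (SimplexCategory.const (SimplexCategory.mk 0) x 0) := by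
  dsimp only [eIso, Iso.trans_hom, Iso.symm_hom]
  rw [Category.assoc, isoLimZ_inv_π]

/-- `H⁰` of the alternating coface map complex is the limit functor -/
noncomputable def T0IsoLim : T (𝒜 := 𝒜) 0 ≅ (lim : (SimplexCategory ⥤ 𝒜) ⥤ 𝒜) :=
  NatIso.ofComponents eIso
    (by
      intro F G φ
      apply limit.hom_ext
      intro x
      have h3 : (lim : (SimplexCategory ⥤ 𝒜) ⥤ 𝒜).map φ ≫ limit.π G x =
          limit.π F x ≫ φ.app x := limMap_π _ _
      rw [Category.assoc, Category.assoc, eIso_hom_π, h3, ← Category.assoc (eIso F).hom,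
        eIso_hom_π, ← Category.assoc, isoZ_inv_naturality, Category.assoc,
        ← Category.assoc (Z0map φ), Z0map_ι₀, Category.assoc, Category.assoc, Category.assoc,
        φ.naturality])

end lim

theorem main [∀ α : Type, HasProductsOfShape α 𝒜] [EnoughInjectives 𝒜]
    [HasLimitsOfShape SimplexCategory 𝒜] [EnoughInjectives (SimplexCategory ⥤ 𝒜)]
    [(lim : (SimplexCategory ⥤ 𝒜) ⥤ 𝒜).Additive] (F : SimplexCategory ⥤ 𝒜) (n : ℕ) :
    Nonempty (((lim : (SimplexCategory ⥤ 𝒜) ⥤ 𝒜).rightDerived n).obj F ≅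
      ((alternatingCofaceMapComplex 𝒜).obj F).homology n) :=
  DeltaSeq.rightDerived_iso (lim : (SimplexCategory ⥤ 𝒜) ⥤ 𝒜) isExSeq_T T0IsoLim n F


end Groth.Agent.Lib.helper27.CosimpLim
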