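import Mathlib
import Groth.Prelude.Def_FibDesc
import Groth.Agent.Lib.Helper27.PushSec
import Groth.Agent.Lib.Helper27.DecDef
import Groth.Agent.Lib.Helper27.CosimpLim4

set_option autoImplicit false
set_option linter.unusedSectionVars false
set_option linter.unusedVariables false
set_option linter.style.haveILetI false
set_option backward.isDefEq.respectTransparency false
set_option backward.isDefEq.respectTransparency.types false

namespace Groth.Agent.Lib.helper27

open CategoryTheory Limits Opposite Pseudofunctor Pseudofunctor.CoGrothendieck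
open FibDesc TopologicalSpace

universe u

namespace SimpEq

open BigSec TotSide TAug RanV ResTr PushSec DecDef

abbrev Δo := SimplexCategoryᵒᵖ

/-- the object `[0]` -/
abbrev z0 : Δo := op (SimplexCategory.mk 0)
/-- the object `[1]` -/
abbrev z1 : Δo := op (SimplexCategory.mk 1)

/-- the vertices -/
def cst (n : Δo) (i : Fin (n.unop.len + 1)) : n ⟶ z0 :=
  (SimplexCategory.const (SimplexCategory.mk 0) n.unop i).op

def d0 : z1 ⟶ z0 := (SimplexCategory.δ (n := 0) 0).op
def d1 : z1 ⟶ z0 := (SimplexCategory.δ (n := 0) 1).op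

/-- the edges from the vertex `0` -/
def edg (n : Δo) (i : Fin (n.unop.len + 1)) : n ⟶ z1 := (CosimpLim.edge n.unop i).op

lemma edg_d1 (n : Δo) (i : Fin (n.unop.len + 1)) : edg n i ≫ d1 = cst n 0 := by
  show (CosimpLim.edge n.unop i).op ≫ (SimplexCategory.δ (n := 0) 1).op = _
  rw [← op_comp, CosimpLim.δ_one_edge]
  rfl

lemma edg_d0 (n : Δo) (i : Fin (n.unop.len + 1)) : edg n i ≫ d0 = cst n i := by
  show (CosimpLim.edge n.unop i).op ≫ (SimplexCategory.δ (n := 0) 0).op = _
  rw [← op_comp, CosimpLim.δ_zero_edge]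
  rfl

lemma comp_cst {n n' : Δo} (θ : n' ⟶ n) (i : Fin (n.unop.len + 1)) :
    θ ≫ cst n i = cst n' (θ.unop.toOrderHom i) := by
  show θ ≫ (SimplexCategory.const (SimplexCategory.mk 0) n.unop i).op = _
  have : θ = θ.unop.op := rfl
  rw [this, ← op_comp, SimplexCategory.const_comp]
  rfl

lemma cst_z0 : cst z0 0 = 𝟙 z0 := by
  show (SimplexCategory.const (SimplexCategory.mk 0) (SimplexCategory.mk 0) 0).op = 𝟙 _
  have : SimplexCategory.const (SimplexCategory.mk 0) (SimplexCategory.mk 0) 0 = 𝟙 _ := by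
    rw [SimplexCategory.eq_const_of_zero (𝟙 (SimplexCategory.mk 0))]
    congr 1
  rw [this]
  rfl

variable (Y : (WithInitial SimplexCategory)ᵒᵖ ⥤ TopCat.{u}) (M : DShY Y)
  (V : Opens (Y.obj (bot SimplexCategory)))

lemma mapP_self {X : ∫ᶜ (part (topAug Y))} (f : X ⟶ X) (hf : f.base = 𝟙 _)
    (x : M.obj.obj (op X)) : M.obj.map f.op x = x := by
  have : f = 𝟙 X := tp_hom_ext Y _ _ hf
  rw [this, op_id, M.obj.map_id]
  rfl

/-- sections of the direct image are determined by their components in degree zero -/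
lemma PS_ext0 (x y : PS Y M V) (h : πs Y M V z0 x = πs Y M V z0 y) : x = y := by
  apply PS_ext
  intro n
  rw [← πs_compat Y M V (cst n 0) x, ← πs_compat Y M V (cst n 0) y, h]

/-- sections of the direct image from degree zero components equalizing the two cofaces -/
lemma PS_mk_eq (t₀ : M.obj.obj (op (tpOb Y z0 (WV Y V z0))))
    (h : M.obj.map (tpHom Y d0 (WV_le Y V d0)).op t₀ = M.obj.map (tpHom Y d1 (WV_le Y V d1)).op t₀) :
    ∃ x : PS Y M V, πs Y M V z0 x = t₀ := by
  have hconst : ∀ (n : Δo) (i : Fin (n.unop.len + 1)),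
      M.obj.map (tpHom Y (cst n i) (WV_le Y V (cst n i))).op t₀ =
        M.obj.map (tpHom Y (cst n 0) (WV_le Y V (cst n 0))).op t₀ := by
    intro n i
    have e0 := mapP_comp_apply Y M (tpHom Y (edg n i) (WV_le Y V (edg n i)))
      (tpHom Y d0 (WV_le Y V d0)) (tpHom Y (cst n i) (WV_le Y V (cst n i))) (edg_d0 n i) t₀
    have e1 := mapP_comp_apply Y M (tpHom Y (edg n i) (WV_le Y V (edg n i)))
      (tpHom Y d1 (WV_le Y V d1)) (tpHom Y (cst n 0) (WV_le Y V (cst n 0))) (edg_d1 n i) t₀
    rw [← e0, ← e1, h]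
  obtain ⟨x, hx⟩ := PS_mk Y M V
    (fun n => M.obj.map (tpHom Y (cst n 0) (WV_le Y V (cst n 0))).op t₀) (by
      intro n n' θ
      have e0 := mapP_comp_apply Y M (tpHom Y θ (WV_le Y V θ))
        (tpHom Y (cst n 0) (WV_le Y V (cst n 0)))
        (tpHom Y (cst n' (θ.unop.toOrderHom 0)) (WV_le Y V (cst n' (θ.unop.toOrderHom 0))))
        (comp_cst θ 0) t₀
      exact e0.trans (hconst n' _))
  refine ⟨x, (hx z0).trans ?_⟩
  exact mapP_self Y M _ cst_z0 t₀

end SimpEq

end Groth.Agent.Lib.helper27
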