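import Mathlib
import Groth.Prelude.Def_FibDesc
import Groth.Agent.Lib.Helper27.BaseCh
import Groth.Agent.Lib.Helper27.SimpEq
import Groth.Agent.Lib.Helper27.PBCEl
import Groth.Agent.Lib.Helper27.PtSp

set_option autoImplicit false
set_option linter.unusedSectionVars false
set_option linter.unusedVariables false
set_option linter.style.haveILetI false
set_option backward.isDefEq.respectTransparency false
set_option backward.isDefEq.respectTransparency.types false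

namespace Groth.Agent.Lib.helper27

open CategoryTheory Limits Opposite Pseudofunctor Pseudofunctor.CoGrothendieck
open FibDesc TopologicalSpace

universe u

namespace BCIso

open BigSec TotSide TAug RanV SqSec PullConst DecDef GPull DecNat GPullK PushSec ResTr BaseCh SimpEq

section general

variable {D : Type} [SmallCategory D]
  (Y Y' : (WithInitial D)ᵒᵖ ⥤ TopCat.{u})

/-- a morphism of augmented diagrams of spaces over the identity of the index category -/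
structure FData where
  e : ∀ n : Dᵒᵖ, Xs Y' n ⟶ Xs Y n
  e_nat : ∀ {n' n : Dᵒᵖ} (θ : n' ⟶ n), Ym Y' θ ≫ e n = e n' ≫ Ym Y θ
  j : Y'.obj (bot D) ⟶ Y.obj (bot D)
  e_aug : ∀ n, aP Y' n ≫ j = e n ≫ aP Y n

variable {Y Y'}

/-- the associated general data -/
@[reducible] def FData.toA (d : FData Y Y') : AData Y Y' where
  sh := 𝟭 _
  e := d.e
  e_nat := d.e_nat
  j := d.j
  e_aug := d.e_aug

variable (d : FData Y Y') (M : DShY Y) (V : Opens (Y.obj (bot D)))

/-- the pullback functor -/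
noncomputable abbrev FPull : DShY Y ⥤ DShY Y' := Pull d.toA.toPData

lemma πs_cfl' (n : Dᵒᵖ) (x : PS Y M V) :
    πs Y' ((FPull d).obj M) (jV d.toA V) n (cfl d.toA M V x) =
      γsec d.toA.toPData M n (WV Y V n) (WV Y' (jV d.toA V) n) (WV_le_e d.toA V n)
        (πs Y M V n x) :=
  πs_cfl d.toA M V n x

end general

section simplicial

variable {Y Y' : (WithInitial SimplexCategory)ᵒᵖ ⥤ TopCat.{u}} (d : FData Y Y')
  (hS : ∀ a b : Y'.obj (bot SimplexCategory), a = b) (p : Y'.obj (bot SimplexCategory))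
  (hsq : ∀ n, IsPullback (d.e n) (aP Y' n) (aP Y n) d.j)
  (hprop : ∀ n, IsProperMap (aP Y n))
  (hsep : ∀ n, ∀ x x' : Xs Y n, aP Y n x = aP Y n x' → x ≠ x' →
    ∃ U V : Set (Xs Y n), IsOpen U ∧ IsOpen V ∧ x ∈ U ∧ x' ∈ V ∧ Disjoint U V)
  (M : DShY Y)

lemma restr_eq_vert (n : Δo) {U U' : Opens (Xs Y n)} (hU : U' ≤ U)
    (t : M.obj.obj (op (tpOb Y n U))) :
    ((restrP Y n).obj M).obj.map (homOfLE hU).op t = M.obj.map (vertP Y n hU).op t := by
  have e3 : ((restrP Y n).obj M).obj.map (homOfLE hU).op = M.obj.map (vertP Y n hU).op :=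
    restrP_map_eq M n hU _
  exact ConcreteCategory.congr_hom e3 t

include hsq hprop in
/-- injectivity at a level -/
lemma level_inj (n : Δo) (V : Opens (Y.obj (bot SimplexCategory))) (hp : d.j p ∈ V)
    (W' : Opens (Y'.obj (bot SimplexCategory))) (hpW : p ∈ W') (hW : W' ≤ jV d.toA V)
    (t : M.obj.obj (op (tpOb Y n (WV Y V n))))
    (h0 : γsec d.toA.toPData M n (WV Y V n) (WV Y' W' n)
      ((WV_mono Y' _ hW n).trans (WV_le_e d.toA V n)) t = 0) :
    ∃ (V₁ : Opens (Y.obj (bot SimplexCategory))) (hV₁ : V₁ ≤ V), d.j p ∈ V₁ ∧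
      M.obj.map (vertP Y n (WV_mono Y V hV₁ n)).op t = 0 := by
  obtain ⟨V₁, hV₁, hpV₁, h1⟩ := PBCEl.inj (hsq n) (hprop n) ((restrP Y n).obj M) V t p hp W' hpW hW h0
  refine ⟨V₁, hV₁, hpV₁, ?_⟩
  exact (restr_eq_vert M n _ t).symm.trans h1

lemma pull_vert (n : Δo) {W W₁ : Opens (Xs Y' n)} (hW : W₁ ≤ W)
    (y : ((FPull d).obj M).obj.obj (op (tpOb Y' n W))) :
    ((FPull d).obj M).obj.map (vertP Y' n hW).op y =
      (POb d.toA.toPData M n).obj.map (homOfLE hW).op y :=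
  pT_id d.toA.toPData M n _ _ _ hW y

include hsq hprop hsep in
/-- surjectivity at a level -/
lemma level_surj (n : Δo) (W' : Opens (Y'.obj (bot SimplexCategory))) (hpW : p ∈ W')
    (y : ((FPull d).obj M).obj.obj (op (tpOb Y' n (WV Y' W' n)))) :
    ∃ (V : Opens (Y.obj (bot SimplexCategory))) (hV : d.j p ∈ V)
      (t : M.obj.obj (op (tpOb Y n (WV Y V n))))
      (W'' : Opens (Y'.obj (bot SimplexCategory))) (hW'' : p ∈ W'') (h1 : W'' ≤ W')
      (h2 : W'' ≤ jV d.toA V),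
      ((FPull d).obj M).obj.map (vertP Y' n (WV_mono Y' _ h1 n)).op y =
        γsec d.toA.toPData M n (WV Y V n) (WV Y' W'' n)
          ((WV_mono Y' _ h2 n).trans (WV_le_e d.toA V n)) t := by
  obtain ⟨V, hV, t, W'', hW'', h1, h2, e⟩ :=
    PBCEl.surj (hsq n) (hprop n) (hsep n) ((restrP Y n).obj M) p W' hpW y
  refine ⟨V, hV, t, W'', hW'', h1, h2, ?_⟩
  exact (pull_vert d M n _ y).trans e

include hsq hprop in
lemma cfl_inj (V : Opens (Y.obj (bot SimplexCategory))) (hp : d.j p ∈ V) (x : PS Y M V)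
    (h0 : cfl d.toA M V x = 0) :
    ∃ (V₁ : Opens (Y.obj (bot SimplexCategory))) (hV₁ : V₁ ≤ V), d.j p ∈ V₁ ∧
      resPS Y M V hV₁ x = 0 := by
  have h1 := πs_cfl' d M V z0 x
  rw [h0, map_zero] at h1
  obtain ⟨V₁, hV₁, hpV₁, h2⟩ := level_inj d p hsq hprop M z0 V hp (jV d.toA V) hp le_rfl
    (πs Y M V z0 x) h1.symm
  refine ⟨V₁, hV₁, hpV₁, ?_⟩
  apply PS_ext0
  rw [πs_res, h2, map_zero]

lemma γsec_resW (n : Δo) (U : Opens (Xs Y n)) (W' W₁' : Opens (Xs Y' n))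
    (h : W' ≤ (Opens.map (d.e n)).obj U) (hW : W₁' ≤ W') (x : M.obj.obj (op (tpOb Y n U))) :
    (POb d.toA.toPData M n).obj.map (homOfLE hW).op (γsec d.toA.toPData M n U W' h x) =
      γsec d.toA.toPData M n U W₁' (hW.trans h) x := by
  rw [γsec_apply, γsec_apply]
  exact map_map_apply (POb d.toA.toPData M n).obj h hW _ _

lemma pT_eq {n n' : Δo} (θ : n' ⟶ n) (W : Opens (Xs Y' n)) (W' : Opens (Xs Y' n'))
    (h : W' ≤ (Opens.map (Ym Y' θ)).obj W) (z : ((FPull d).obj M).obj.obj (op (tpOb Y' n W))) :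
    pT d.toA.toPData M θ W W' h z = ((FPull d).obj M).obj.map (tpHom Y' θ h).op z := rfl

include hS hsq hprop hsep in
lemma cfl_surj (y : PS Y' ((FPull d).obj M) ⊤) :
    ∃ (V : Opens (Y.obj (bot SimplexCategory))) (hV : d.j p ∈ V) (x : PS Y M V),
      resPS Y' ((FPull d).obj M) (jV d.toA V) (PtSp.le_of_mem hS p ⊤ _ hV) (cfl d.toA M V x) = y := by
  let N := (FPull d).obj M
  obtain ⟨V, hV, t, W'', hW'', h1, h2, e⟩ :=
    level_surj d p hsq hprop hsep M z0 ⊤ trivial (πs Y' N ⊤ z0 y)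
  obtain rfl : W'' = ⊤ := PtSp.eq_of_mem hS p W'' ⊤ hW'' trivial
  have e' : πs Y' N ⊤ z0 y = γsec d.toA.toPData M z0 (WV Y V z0) (WV Y' ⊤ z0)
      ((WV_mono Y' _ h2 z0).trans (WV_le_e d.toA V z0)) t :=
    (mapP_self Y' N _ rfl _).symm.trans e
  -- level one
  let t₁ : M.obj.obj (op (tpOb Y z1 (WV Y V z1))) :=
    M.obj.map (tpHom Y d0 (WV_le Y V d0)).op t - M.obj.map (tpHom Y d1 (WV_le Y V d1)).op t
  have ht₁ : γsec d.toA.toPData M z1 (WV Y V z1) (WV Y' ⊤ z1)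
      ((WV_mono Y' _ h2 z1).trans (WV_le_e d.toA V z1)) t₁ = 0 := by
    have a0 := γsec_natural d.toA.toPData M d0 (WV Y V z0) (WV Y' ⊤ z0)
      ((WV_mono Y' _ h2 z0).trans (WV_le_e d.toA V z0)) (WV Y V z1) (WV Y' ⊤ z1)
      ((WV_mono Y' _ h2 z1).trans (WV_le_e d.toA V z1)) (WV_le Y V d0) (WV_le Y' ⊤ d0) t
    have a1 := γsec_natural d.toA.toPData M d1 (WV Y V z0) (WV Y' ⊤ z0)
      ((WV_mono Y' _ h2 z0).trans (WV_le_e d.toA V z0)) (WV Y V z1) (WV Y' ⊤ z1)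
      ((WV_mono Y' _ h2 z1).trans (WV_le_e d.toA V z1)) (WV_le Y V d1) (WV_le Y' ⊤ d1) t
    rw [← e', pT_eq] at a0 a1
    have b0 := πs_compat Y' N ⊤ d0 y
    have b1 := πs_compat Y' N ⊤ d1 y
    rw [map_sub]
    exact sub_eq_zero.2 (a0.symm.trans (b0.trans (b1.symm.trans a1)))
  obtain ⟨V₁, hV₁, hpV₁, h3⟩ := level_inj d p hsq hprop M z1 V hV ⊤ trivial h2 t₁ ht₁
  let t' : M.obj.obj (op (tpOb Y z0 (WV Y V₁ z0))) :=
    M.obj.map (vertP Y z0 (WV_mono Y V hV₁ z0)).op t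
  have ht' : M.obj.map (tpHom Y d0 (WV_le Y V₁ d0)).op t' =
      M.obj.map (tpHom Y d1 (WV_le Y V₁ d1)).op t' := by
    have hle0 : WV Y V₁ z1 ≤ (Opens.map (Ym Y d0)).obj (WV Y V z0) :=
      (WV_le Y V₁ d0).trans ((Opens.map (Ym Y d0)).monotone (WV_mono Y V hV₁ z0))
    have hle1 : WV Y V₁ z1 ≤ (Opens.map (Ym Y d1)).obj (WV Y V z0) :=
      (WV_le Y V₁ d1).trans ((Opens.map (Ym Y d1)).monotone (WV_mono Y V hV₁ z0))
    have a0 := mapP_comp_apply Y M (tpHom Y d0 (WV_le Y V₁ d0))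
      (vertP Y z0 (WV_mono Y V hV₁ z0)) (tpHom Y d0 hle0) (Category.comp_id _) t
    have a0' := mapP_comp_apply Y M (vertP Y z1 (WV_mono Y V hV₁ z1))
      (tpHom Y d0 (WV_le Y V d0)) (tpHom Y d0 hle0) (Category.id_comp _) t
    have a1 := mapP_comp_apply Y M (tpHom Y d1 (WV_le Y V₁ d1))
      (vertP Y z0 (WV_mono Y V hV₁ z0)) (tpHom Y d1 hle1) (Category.comp_id _) t
    have a1' := mapP_comp_apply Y M (vertP Y z1 (WV_mono Y V hV₁ z1))
      (tpHom Y d1 (WV_le Y V d1)) (tpHom Y d1 hle1) (Category.id_comp _) t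
    have h3' : M.obj.map (vertP Y z1 (WV_mono Y V hV₁ z1)).op
        (M.obj.map (tpHom Y d0 (WV_le Y V d0)).op t) =
        M.obj.map (vertP Y z1 (WV_mono Y V hV₁ z1)).op
        (M.obj.map (tpHom Y d1 (WV_le Y V d1)).op t) := by
      have := h3
      rw [map_sub] at this
      exact sub_eq_zero.1 this
    exact a0.trans (a0'.symm.trans (h3'.trans (a1'.trans a1.symm)))
  obtain ⟨x, hx⟩ := PS_mk_eq Y M V₁ t' ht'
  refine ⟨V₁, hpV₁, x, ?_⟩
  apply PS_ext0
  rw [πs_res, πs_cfl', hx, e', pull_vert, γsec_resW]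
  have a := γsec_res d.toA M z0 (WV Y V z0) (WV Y V₁ z0) (WV Y' ⊤ z0) (WV Y' ⊤ z0)
    ((WV_mono Y' _ h2 z0).trans (WV_le_e d.toA V z0))
    ((WV_mono Y' _ (PtSp.le_of_mem hS p ⊤ _ hpV₁) z0).trans (WV_le_e d.toA V₁ z0))
    (WV_mono Y V hV₁ z0) le_rfl t
  refine a.symm.trans ?_
  exact γsec_resW d M z0 _ _ _ _ le_rfl t

lemma bc_res (V : Opens (Y.obj (bot SimplexCategory))) (W' : Opens (Y'.obj (bot SimplexCategory)))
    (h : W' ≤ jV d.toA V) (x : PS Y M V) :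
    (bc d.toA M).hom.app (op W')
        (((CohTop.pull d.toA.j).obj ((pushY Y).obj M)).obj.map (homOfLE h).op
          (ρ d.toA.j ((pushY Y).obj M) V x)) =
      resPS Y' ((FPull d).obj M) (jV d.toA V) h (cfl d.toA M V x) := by
  have h1 := ConcreteCategory.congr_hom ((bc d.toA M).hom.naturality (homOfLE h).op)
    (ρ d.toA.j ((pushY Y).obj M) V x)
  refine h1.trans ?_
  exact congrArg _ (bc_ρ d.toA M V x)

include hS p hsq hprop hsep in
/-- **Base change in degree zero**: the base change map to the fibre over a point is an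
isomorphism when all the levels are proper and separated over the base -/
theorem isIso_bc : IsIso (bc d.toA M) := by
  apply PtSp.isIso_of_bijective hS p (bc d.toA M) ⊤ trivial
  constructor
  · rw [injective_iff_map_eq_zero]
    intro u hu
    obtain ⟨V, hV, x, rfl⟩ := PtSp.exists_rep hS p d.toA.j ((pushY Y).obj M) ⊤ trivial u
    rw [bc_res] at hu
    have h1 : cfl d.toA M V x = 0 :=
      (PtSp.res_bijective hS p ((pushY Y').obj ((FPull d).obj M)).obj
        (PtSp.le_of_mem hS p ⊤ _ hV) trivial).1 (hu.trans (map_zero _).symm)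
    obtain ⟨V₁, hV₁, hpV₁, h2⟩ := cfl_inj d p hsq hprop M V hV x h1
    have e2 := ρ_res_eq d.toA.j ((pushY Y).obj M) hV₁ x
      (PtSp.le_of_mem hS p ⊤ ((Opens.map d.toA.j).obj V) hV)
      (PtSp.le_of_mem hS p ⊤ ((Opens.map d.toA.j).obj V₁) hpV₁)
    rw [e2]
    have h2' : ((pushY Y).obj M).obj.map (homOfLE hV₁).op x = 0 := h2
    rw [h2', map_zero, map_zero]
  · intro y
    obtain ⟨V, hV, x, hx⟩ := cfl_surj d hS p hsq hprop hsep M y
    exact ⟨_, (bc_res d M V ⊤ (PtSp.le_of_mem hS p ⊤ _ hV) x).trans hx⟩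

end simplicial

end BCIso

end Groth.Agent.Lib.helper27
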