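import Mathlib
import Groth.Prelude.Def_BMCoh2

namespace Groth.Agent.Lib.helper27.BMBasic
universe u
set_option linter.unusedSectionVars false
open CategoryTheory AlgebraicGeometry Opposite BMCoh Limits

variable {V : ObjectProperty Scheme.{u}} [BMCoh.IsConstructible V] {R : Type u} [CommRing R]
  {A : BMCoh.Coefs R} (T : BMCoh.PreTheory V R A)

lemma relCodim_eq_zero {X Y : Scheme.{u}} (h : WeilCoh.dim X = WeilCoh.dim Y) :
    relCodim X Y = 0 := by
  unfold relCodim; rw [h]; simp

lemma relCodim_self (X : Scheme.{u}) : relCodim X X = 0 := relCodim_eq_zero rfl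

lemma exact_push_pull' {X : Obj V} (D : Decomp X) (M : A.Cat) (i n i' n' : ℤ)
    (hi' : i = i' + 2 * relCodim D.Z.scheme X.scheme)
    (hn' : n = n' + relCodim D.Z.scheme X.scheme) :
    Function.Exact (T.push D.i M i' n' i n hi' hn').hom (T.pull D.j M i n).hom := by
  obtain ⟨k, rfl⟩ : ∃ k, i = k + 1 := ⟨i - 1, by ring⟩
  exact T.exact_push_pull D M k n i' n' hi' hn'

/-- Push-forward along a morphism of objects which is proper (i.e. a clopen immersion), without
shift. -/
noncomputable def pushHom {X W : Obj V} (f : X ⟶ W) [IsProper f.hom] (M : A.Cat) (i n : ℤ) :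
    T.gp X M i n ⟶ T.gp W M i n :=
  T.push f.hom M i n i n (by rw [relCodim_eq_zero f.dim_eq]; ring)
    (by rw [relCodim_eq_zero f.dim_eq]; ring)

lemma pull_id (X : Obj V) (M : A.Cat) (i n : ℤ) : T.pull (𝟙 X) M i n = 𝟙 _ := by
  simp [PreTheory.pull]

lemma pull_comp {X Y Z : Obj V} (f : X ⟶ Y) (g : Y ⟶ Z) (M : A.Cat) (i n : ℤ) :
    T.pull (f ≫ g) M i n = T.pull g M i n ≫ T.pull f M i n := by
  simp [PreTheory.pull]

lemma pushHom_pull_self {X W : Obj V} (f : X ⟶ W) [IsClosedImmersion f.hom] (M : A.Cat)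
    (i n : ℤ) : pushHom T f M i n ≫ T.pull f M i n = 𝟙 _ := by
  have hpb : IsPullback (𝟙 X : X ⟶ X).hom (𝟙 X.scheme) f.hom f.hom :=
    IsKernelPair.id_of_mono f.hom
  have := T.push_pull f.hom (𝟙 X.scheme) f (𝟙 X) hpb M i n i n
    (by rw [relCodim_eq_zero f.dim_eq]; ring) (by rw [relCodim_eq_zero f.dim_eq]; ring)
    (by rw [relCodim_self]; ring) (by rw [relCodim_self]; ring)
  rw [T.push_id] at this
  unfold pushHom
  rw [this]
  simp

lemma pushHom_pull_other {X Y W : Obj V} (iX : X ⟶ W) (iY : Y ⟶ W)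
    (h : Set.range iX.hom = (Set.range iY.hom)ᶜ) [IsClosedImmersion iY.hom] (M : A.Cat)
    (i n : ℤ) (y : T.gp Y M i n) : (T.pull iX M i n).hom ((pushHom T iY M i n).hom y) = 0 := by
  let D : Decomp W := ⟨Y, X, iY.hom, inferInstance, iX, h⟩
  exact (exact_push_pull' T D M i n i n (by rw [relCodim_eq_zero iY.dim_eq]; ring)
    (by rw [relCodim_eq_zero iY.dim_eq]; ring)).apply_apply_eq_zero y

lemma isClosedImmersion_of_range_compl {X Y W : Obj V} (iX : X ⟶ W) (iY : Y ⟶ W)
    (h : Set.range iX.hom = (Set.range iY.hom)ᶜ) : IsClosedImmersion iY.hom := by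
  refine .of_isPreimmersion _ ?_
  rw [← isOpen_compl_iff, ← h]
  exact iX.hom.isOpenEmbedding.isOpen_range

theorem pull_prod_bijective {X Y W : Obj V} (iX : X ⟶ W) (iY : Y ⟶ W)
    (h : Set.range iX.hom = (Set.range iY.hom)ᶜ) (M : A.Cat) (i n : ℤ) :
    Function.Bijective (fun a : T.gp W M i n =>
      ((T.pull iX M i n).hom a, (T.pull iY M i n).hom a)) := by
  have h' : Set.range iY.hom = (Set.range iX.hom)ᶜ := by rw [h, compl_compl]
  have := isClosedImmersion_of_range_compl iX iY h
  have := isClosedImmersion_of_range_compl iY iX h'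
  let D : Decomp W := ⟨Y, X, iY.hom, inferInstance, iX, h⟩
  have hX : ∀ x, (T.pull iX M i n).hom ((pushHom T iX M i n).hom x) = x := fun x => by
    have := pushHom_pull_self T iX M i n
    exact congrArg (fun f => f.hom x) this
  have hY : ∀ y, (T.pull iY M i n).hom ((pushHom T iY M i n).hom y) = y := fun y => by
    have := pushHom_pull_self T iY M i n
    exact congrArg (fun f => f.hom y) this
  constructor
  · intro a b hab
    simp only [Prod.mk.injEq] at hab
    have h1 : (T.pull iX M i n).hom (a - b) = 0 := by rw [map_sub, hab.1, sub_self]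
    have h2 : (T.pull iY M i n).hom (a - b) = 0 := by rw [map_sub, hab.2, sub_self]
    obtain ⟨y, hy⟩ := ((exact_push_pull' T D M i n i n
      (by rw [relCodim_eq_zero iY.dim_eq]; ring)
      (by rw [relCodim_eq_zero iY.dim_eq]; ring)) (a - b)).1 h1
    have hy' : (pushHom T iY M i n).hom y = a - b := hy
    have : y = 0 := by rw [← hY y, hy', h2]
    rw [this, map_zero] at hy'
    exact sub_eq_zero.1 hy'.symm
  · rintro ⟨x, y⟩
    refine ⟨(pushHom T iX M i n).hom x + (pushHom T iY M i n).hom y, ?_⟩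
    simp only [map_add, hX, hY, pushHom_pull_other T iX iY h, pushHom_pull_other T iY iX h']
    simp

end Groth.Agent.Lib.helper27.BMBasic
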