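import Mathlib
import Groth.Prelude.Def_BMCoh4

universe u
set_option linter.unusedSectionVars false
set_option linter.style.haveILetI false
open CategoryTheory AlgebraicGeometry Opposite Limits TopologicalSpace Topology

namespace Groth.Agent.Lib.helper27.BMBirat

/-- The normalisation of an integral scheme in its function field is an isomorphism over a
nonempty open, as soon as it is locally of finite type. -/
theorem exists_isIso_restrict (S : Scheme.{u}) [IsIntegral S]
    [QuasiCompact (S.fromSpecStalk (genericPoint S))]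
    [QuasiSeparated (S.fromSpecStalk (genericPoint S))]
    [LocallyOfFiniteType (S.fromSpecStalk (genericPoint S)).fromNormalization] :
    ∃ U : S.Opens, genericPoint S ∈ U ∧
      IsIso ((S.fromSpecStalk (genericPoint S)).fromNormalization ∣_ U) := by
  set f := S.fromSpecStalk (genericPoint S) with hf
  set ν := f.fromNormalization with hν
  obtain ⟨U, hxU, σ, hσ1, hσ2⟩ := spread_out_of_isGermInjective' (𝟙 S) ν
    (x := genericPoint S) f.toNormalization
    (by rw [Scheme.Hom.toNormalization_fromNormalization, Category.comp_id])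
  rw [Category.comp_id] at hσ2
  refine ⟨U, hxU, ?_⟩
  have hsub : Set.range σ ⊆ Set.range (ν ⁻¹ᵁ U).ι := by
    rw [Scheme.Opens.range_ι]
    rintro _ ⟨u, rfl⟩
    show ν (σ u) ∈ U
    have := congrArg (fun ψ => ψ u) hσ2
    simp only [Scheme.Hom.comp_base, TopCat.hom_comp, ContinuousMap.comp_apply] at this
    rw [this]
    exact u.2
  let σ' : (U : Scheme.{u}) ⟶ ((ν ⁻¹ᵁ U : f.normalization.Opens) : Scheme.{u}) :=
    IsOpenImmersion.lift (ν ⁻¹ᵁ U).ι σ hsub
  have hfac : σ' ≫ (ν ⁻¹ᵁ U).ι = σ := IsOpenImmersion.lift_fac _ _ _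
  have hsec : σ' ≫ (ν ∣_ U) = 𝟙 _ := by
    rw [← cancel_mono U.ι, Category.assoc, morphismRestrict_ι, ← Category.assoc, hfac, hσ2,
      Category.id_comp]
  haveI : IsClosedImmersion (σ' ≫ (ν ∣_ U)) := by rw [hsec]; infer_instance
  haveI : IsClosedImmersion σ' := IsClosedImmersion.of_comp σ' (ν ∣_ U)
  haveI : IsDominant (U.fromSpecStalkOfMem (genericPoint S) hxU ≫ σ) := by
    rw [← hσ1]; infer_instance
  haveI : IsDominant σ := IsDominant.of_comp (U.fromSpecStalkOfMem (genericPoint S) hxU) σ
  haveI : IsDominant (σ' ≫ (ν ⁻¹ᵁ U).ι) := by rw [hfac]; infer_instance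
  haveI : IsDominant σ' := IsDominant.of_comp_of_isOpenImmersion σ' (ν ⁻¹ᵁ U).ι
  haveI : Surjective σ' :=
    surjective_of_isDominant_of_isClosed_range σ' σ'.isClosedEmbedding.isClosed_range
  haveI : IsIso σ' := isIso_of_isClosedImmersion_of_surjective σ'
  have : ν ∣_ U = inv σ' := by
    rw [← cancel_epi σ', hsec, IsIso.hom_inv_id]
  rw [this]
  infer_instance

end Groth.Agent.Lib.helper27.BMBirat
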