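import Mathlib
import Groth.Prelude.Def_BMCoh2
import Groth.Agent.Lib.Helper27.BMBasic

namespace Groth.Agent.Lib.helper27.BMColim
universe u
set_option linter.unusedSectionVars false
open CategoryTheory AlgebraicGeometry Opposite BMCoh Limits
open Groth.Agent.Lib.helper27.BMBasic

variable {V : ObjectProperty Scheme.{u}} [BMCoh.IsConstructible V] {R : Type u} [CommRing R]
  {A : BMCoh.Coefs R} (T : BMCoh.PreTheory V R A)

variable (X : Obj V) (P : X.scheme.Opens → Prop) (i n : ℤ) (M : A.Cat)

/-- The diagram of groups `H^i(U, M(n))` over the index family. -/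
noncomputable abbrev diag : (Idx X P)ᵒᵖ ⥤ ModuleCat.{u} R :=
  ((idxDiag X P).op ⋙ T.H i n) ⋙ (evaluation A.Cat (ModuleCat.{u} R)).obj M

noncomputable def ocolimCocone : Cocone (diag T X P i n M) :=
  ((evaluation A.Cat (ModuleCat.{u} R)).obj M).mapCocone
    (colimit.cocone ((idxDiag X P).op ⋙ T.H i n))

noncomputable def ocolimIsColimit : IsColimit (ocolimCocone T X P i n M) :=
  isColimitOfPreserves _ (colimit.isColimit _)

lemma ocolimCocone_ι (U : Idx X P) :
    (ocolimCocone T X P i n M).ι.app (op U) = (T.ocolimι X P i n U).app M := rfl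

/-- Restriction between members of the index family. -/
noncomputable abbrev idxRes {U W : Idx X P} (h : W ≤ U) :
    T.gp (X.res U.1) M i n ⟶ T.gp (X.res W.1) M i n :=
  T.pull ((idxDiag X P).map (homOfLE h)) M i n

lemma ocolimι_idxRes {U W : Idx X P} (h : W ≤ U) :
    idxRes T X P i n M h ≫ (T.ocolimι X P i n W).app M = (T.ocolimι X P i n U).app M :=
  (ocolimCocone T X P i n M).w (homOfLE h).op

lemma ocolimι_idxRes_apply {U W : Idx X P} (h : W ≤ U) (b : T.gp (X.res U.1) M i n) :
    ((T.ocolimι X P i n W).app M).hom ((idxRes T X P i n M h).hom b) =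
      ((T.ocolimι X P i n U).app M).hom b :=
  congrArg (fun φ => φ.hom b) (ocolimι_idxRes T X P i n M h)

variable [IsCofiltered (Idx X P)]

lemma exists_rep (a : (T.ocolim X P i n).obj M) :
    ∃ (U : Idx X P) (b : T.gp (X.res U.1) M i n), ((T.ocolimι X P i n U).app M).hom b = a := by
  obtain ⟨j, y, hy⟩ := Concrete.isColimit_exists_rep (diag T X P i n M)
    (ocolimIsColimit T X P i n M) a
  exact ⟨j.unop, y, hy⟩

lemma ι_eq_zero_iff (U : Idx X P) (b : T.gp (X.res U.1) M i n) :
    ((T.ocolimι X P i n U).app M).hom b = 0 ↔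
      ∃ (W : Idx X P) (h : W ≤ U), (idxRes T X P i n M h).hom b = 0 := by
  constructor
  · intro h
    have h' : (ocolimCocone T X P i n M).ι.app (op U) b =
        (ocolimCocone T X P i n M).ι.app (op U) (0 : T.gp (X.res U.1) M i n) := by
      rw [ocolimCocone_ι]
      exact h.trans (map_zero _).symm
    obtain ⟨k, f, g, hfg⟩ := (Concrete.isColimit_rep_eq_iff_exists (diag T X P i n M)
      (ocolimIsColimit T X P i n M) b (0 : T.gp (X.res U.1) M i n)).1 h'
    refine ⟨k.unop, leOfHom f.unop, ?_⟩
    have : (diag T X P i n M).map g (0 : T.gp (X.res U.1) M i n) = 0 := map_zero _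
    rw [this] at hfg
    exact hfg
  · rintro ⟨W, h, hb⟩
    rw [← ocolimι_idxRes_apply T X P i n M h, hb, map_zero]

lemma ι_eq_iff (U : Idx X P) (b b' : T.gp (X.res U.1) M i n) :
    ((T.ocolimι X P i n U).app M).hom b = ((T.ocolimι X P i n U).app M).hom b' ↔
      ∃ (W : Idx X P) (h : W ≤ U), (idxRes T X P i n M h).hom b = (idxRes T X P i n M h).hom b' := by
  rw [← sub_eq_zero, ← map_sub, ι_eq_zero_iff]
  simp only [map_sub, sub_eq_zero]

omit [IsCofiltered (Idx X P)] in
lemma ocolimι_map {Q : X.scheme.Opens → Prop} (h : ∀ U, P U → Q U) (U : Idx X P) :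
    T.ocolimι X P i n U ≫ T.ocolimMap X h i n = T.ocolimι X Q i n ((idxIncl X h).obj U) := by
  unfold PreTheory.ocolimι PreTheory.ocolimMap
  exact colimit.ι_pre ((idxDiag X Q).op ⋙ T.H i n) (idxIncl X h).op (op U)

omit [IsCofiltered (Idx X P)] in
lemma ocolimι_map_apply {Q : X.scheme.Opens → Prop} (h : ∀ U, P U → Q U) (U : Idx X P)
    (b : T.gp (X.res U.1) M i n) :
    ((T.ocolimMap X h i n).app M).hom (((T.ocolimι X P i n U).app M).hom b) =
      ((T.ocolimι X Q i n ((idxIncl X h).obj U)).app M).hom b := by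
  have := congrArg (fun φ => (φ.app M).hom b) (ocolimι_map T X P i n h U)
  exact this

/-- If the index family has a largest member `U₀` and all restrictions from it are bijective,
then the canonical map from `H(U₀)` to the colimit is bijective. -/
lemma ι_bijective_of_top (U₀ : Idx X P) (htop : ∀ U : Idx X P, U ≤ U₀)
    (hbij : ∀ U : Idx X P, Function.Bijective (idxRes T X P i n M (htop U)).hom) :
    Function.Bijective ((T.ocolimι X P i n U₀).app M).hom := by
  constructor
  · intro b b' hbb
    obtain ⟨W, h, hW⟩ := (ι_eq_iff T X P i n M U₀ b b').1 hbb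
    exact (hbij W).1 hW
  · intro a
    obtain ⟨U, b, rfl⟩ := exists_rep T X P i n M a
    obtain ⟨b₀, rfl⟩ := (hbij U).2 b
    exact ⟨b₀, (ocolimι_idxRes_apply T X P i n M (htop U) b₀).symm⟩

end Groth.Agent.Lib.helper27.BMColim
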