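import Mathlib
import Groth.Prelude.Def_WeilCoh

namespace Groth.Agent.Lib.helper27.BMTop
open TopologicalSpace Topology Order
set_option linter.unusedSectionVars false

universe u

section natDim
variable {S T : Type u} [TopologicalSpace S] [TopologicalSpace T]

lemma finite_of_isInducing {f : S → T} (hf : IsInducing f) (hT : topologicalKrullDim T < ⊤) :
    topologicalKrullDim S < ⊤ := lt_of_le_of_lt hf.topologicalKrullDim_le hT

lemma natDim_le_of_le (h : topologicalKrullDim S ≤ topologicalKrullDim T)
    (hT : topologicalKrullDim T < ⊤) : WeilCoh.natDim S ≤ WeilCoh.natDim T := by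
  unfold WeilCoh.natDim
  have h1 : (topologicalKrullDim S).unbotD 0 ≤ (topologicalKrullDim T).unbotD 0 := by
    cases hS : topologicalKrullDim S with
    | bot => simp
    | coe a =>
      cases hT' : topologicalKrullDim T with
      | bot => rw [hS, hT'] at h; simp at h
      | coe b => rw [hS, hT'] at h; simpa using h
  have h2 : (topologicalKrullDim T).unbotD 0 ≠ ⊤ := by
    cases hT' : topologicalKrullDim T with
    | bot => simp
    | coe b =>
      rw [hT'] at hT
      simp only [WithBot.unbotD_coe]
      rintro rfl
      exact lt_irrefl _ hT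
  exact ENat.toNat_le_toNat h1 h2

lemma natDim_le_of_isInducing {f : S → T} (hf : IsInducing f) (hT : topologicalKrullDim T < ⊤) :
    WeilCoh.natDim S ≤ WeilCoh.natDim T := natDim_le_of_le hf.topologicalKrullDim_le hT

lemma natDim_eq_of_homeomorph (e : S ≃ₜ T) : WeilCoh.natDim S = WeilCoh.natDim T := by
  unfold WeilCoh.natDim
  rw [IsHomeomorph.topologicalKrullDim_eq _ e.isHomeomorph]

lemma natDim_of_isEmpty [IsEmpty T] : WeilCoh.natDim T = 0 := by
  unfold WeilCoh.natDim topologicalKrullDim
  have : IsEmpty (IrreducibleCloseds T) := ⟨fun Z => by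
    obtain ⟨x, _⟩ := Z.isIrreducible.nonempty
    exact isEmptyElim x⟩
  rw [krullDim_eq_bot]
  simp

end natDim

section spec
variable {T : Type u} [TopologicalSpace T] [T0Space T] [QuasiSober T]

/-- The height of a point for the specialisation order (the dimension of its closure). -/
noncomputable def ht (z : T) : ℕ∞ := @Order.height T (specializationOrder T).toPreorder z

lemma topologicalKrullDim_eq_krullDim :
    topologicalKrullDim T = @krullDim T (specializationOrder T).toPreorder := by
  let _ : PartialOrder T := specializationOrder T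
  exact krullDim_eq_of_orderIso irreducibleSetEquivPoints

instance (z : T) : QuasiSober ↥(closure ({z} : Set T)) :=
  (isClosed_closure.isClosedEmbedding_subtypeVal).quasiSober

lemma natDim_closure_eq_ht (z : T) :
    WeilCoh.natDim ↥(closure ({z} : Set T)) = (ht z).toNat := by
  let _ : PartialOrder T := specializationOrder T
  let e : @OrderIso ↥(closure ({z} : Set T)) (Set.Iic z) (specializationOrder _).toLE _ :=
    { toFun := fun x => ⟨x.1, specializes_iff_mem_closure.2 x.2⟩
      invFun := fun x => ⟨x.1, specializes_iff_mem_closure.1 x.2⟩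
      left_inv := fun x => rfl
      right_inv := fun x => rfl
      map_rel_iff' := by
        intro a b
        exact (subtype_specializes_iff b a).symm }
  have h1 := @krullDim_eq_of_orderIso _ _ (specializationOrder _).toPreorder _ e
  unfold WeilCoh.natDim ht
  rw [topologicalKrullDim_eq_krullDim, h1, ← height_eq_krullDim_Iic]
  simp

lemma natDim_eq (T : Type u) [TopologicalSpace T] [T0Space T] [QuasiSober T] :
    WeilCoh.natDim T = ((@krullDim T (specializationOrder T).toPreorder).unbotD 0).toNat := by
  unfold WeilCoh.natDim
  rw [topologicalKrullDim_eq_krullDim]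

lemma ht_le_natDim (hT : topologicalKrullDim T < ⊤) (z : T) :
    (ht z).toNat ≤ WeilCoh.natDim T := by
  rw [← natDim_closure_eq_ht]
  exact natDim_le_of_isInducing IsInducing.subtypeVal hT

/-- In a nonempty space of finite dimension there is a point whose closure has the dimension of
the space; it is maximal for specialisation. -/
lemma exists_ht_eq [Nonempty T] (hT : topologicalKrullDim T < ⊤) :
    ∃ η : T, (ht η).toNat = WeilCoh.natDim T ∧ ∀ y : T, y ⤳ η → y = η := by
  let _ : PartialOrder T := specializationOrder T
  rw [topologicalKrullDim_eq_krullDim] at hT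
  have h0 : (0 : WithBot ℕ∞) ≤ krullDim T := krullDim_nonneg
  obtain ⟨d, hd⟩ : ∃ d : ℕ, krullDim T = d := by
    cases h : krullDim T with
    | bot => rw [h] at h0; simp at h0
    | coe a =>
      cases a with
      | top => rw [h] at hT; exact absurd hT (lt_irrefl _)
      | coe d => exact ⟨d, rfl⟩
  obtain ⟨l, hl⟩ := (le_krullDim_iff (α := T) (n := d)).1 hd.ge
  have h1 : (d : ℕ∞) ≤ height l.last := hl ▸ length_le_height_last
  have h2 : (height l.last : WithBot ℕ∞) ≤ d := hd ▸ height_le_krullDim _
  have h3 : height l.last = d := le_antisymm (by exact_mod_cast h2) h1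
  refine ⟨l.last, ?_, ?_⟩
  · unfold ht
    rw [h3, natDim_eq, hd]; simp
  · intro y hy
    by_contra hne
    have hlt : l.last < y := lt_of_le_of_ne hy (Ne.symm hne)
    have h4 := height_add_one_le hlt
    have h5 : (height y : WithBot ℕ∞) ≤ d := hd ▸ height_le_krullDim _
    rw [h3] at h4
    have h6 : ((d : ℕ∞) + 1) ≤ d := h4.trans (by exact_mod_cast h5)
    have : (d + 1 : ℕ) ≤ d := by exact_mod_cast h6
    omega

end spec

section emb
variable {S T : Type u} [TopologicalSpace S] [TopologicalSpace T] [T0Space T] [QuasiSober T]
  [T0Space S] [QuasiSober S]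

lemma ht_eq_of_isClosedEmbedding {f : S → T} (hf : IsClosedEmbedding f) (s : S) :
    ht (f s) = ht s := by
  let _ : PartialOrder T := specializationOrder T
  let _ : PartialOrder S := specializationOrder S
  symm
  refine height_eq_of_strictMono f ?_ ?_ s
  · intro a b hab
    refine lt_of_le_of_ne ?_ (fun h => hab.ne (hf.injective h))
    exact (hf.isInducing.specializes_iff).2 hab.le
  · intro a b hb
    have hb' : f a ⤳ b := hb.le
    have : b ∈ Set.range f := by
      have := specializes_iff_mem_closure.1 hb'
      exact hf.isClosed_range.closure_subset_iff.2 (by rintro _ rfl; exact ⟨a, rfl⟩) this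
    obtain ⟨a', rfl⟩ := this
    refine ⟨a', lt_of_le_of_ne ((hf.isInducing.specializes_iff).1 hb') ?_, rfl⟩
    rintro rfl
    exact lt_irrefl _ hb

end emb

end Groth.Agent.Lib.helper27.BMTop
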