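import Mathlib
import Groth.Prelude.Def_BMCoh2
import Groth.Agent.Lib.Helper27.BMBasic
import Groth.Agent.Lib.Helper27.BMTop
import Groth.Agent.Lib.Helper4.ClosureProper

namespace Groth.Agent.Lib.helper27.BMGeom
universe u
set_option linter.unusedSectionVars false
set_option linter.style.haveILetI false
open CategoryTheory AlgebraicGeometry Opposite BMCoh Limits TopologicalSpace Topology
open Groth.Agent.Lib.helper27.BMBasic Groth.Agent.Lib.helper27.BMTop

variable {V : ObjectProperty Scheme.{u}} [BMCoh.IsConstructible V] {R : Type u} [CommRing R]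
  {A : BMCoh.Coefs R} (T : BMCoh.PreTheory V R A)

/-! ### Dimensions of schemes -/

lemma finiteDim (X : Obj V) : topologicalKrullDim X.scheme < ⊤ := IsConstructible.finiteDim X.mem

lemma dim_le_of_isInducing {X Y : Scheme.{u}} (f : X ⟶ Y) (hf : IsInducing f)
    (hY : topologicalKrullDim Y < ⊤) : WeilCoh.dim X ≤ WeilCoh.dim Y :=
  natDim_le_of_isInducing hf hY

lemma pdim_eq_ht (X : Scheme.{u}) (x : X) : WeilCoh.pdim X x = (ht x).toNat :=
  natDim_closure_eq_ht x

lemma dim_of_isEmpty (X : Scheme.{u}) [IsEmpty X] : WeilCoh.dim X = 0 := natDim_of_isEmpty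

/-! ### Isomorphisms of objects -/

lemma pull_bijective_of_isIso {X Y : Obj V} (f : X ⟶ Y) [IsIso f.hom] (M : A.Cat) (i n : ℤ) :
    Function.Bijective (T.pull f M i n).hom := by
  let g : Y ⟶ X := ⟨inv f.hom, inferInstance, f.dim_eq.symm⟩
  have h1 : f ≫ g = 𝟙 X := Hom.ext (by simp [g])
  have h2 : g ≫ f = 𝟙 Y := Hom.ext (by simp [g])
  have e1 : T.pull g M i n ≫ T.pull f M i n = 𝟙 _ := by
    rw [← pull_comp, h1, pull_id]
  have e2 : T.pull f M i n ≫ T.pull g M i n = 𝟙 _ := by
    rw [← pull_comp, h2, pull_id]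
  refine Function.bijective_iff_has_inverse.2 ⟨(T.pull g M i n).hom, fun x => ?_, fun x => ?_⟩
  · exact congrArg (fun φ => φ.hom x) e2
  · exact congrArg (fun φ => φ.hom x) e1

/-! ### The empty object -/

lemma gp_eq_zero_of_isEmpty (X : Obj V) [IsEmpty X.scheme] (M : A.Cat) (i n : ℤ)
    (a : T.gp X M i n) : a = 0 := by
  let D : Decomp X := ⟨X, X, 𝟙 X.scheme, inferInstance, 𝟙 X, by
    ext x; exact isEmptyElim x⟩
  have hc : relCodim D.Z.scheme X.scheme = 0 := relCodim_self _
  have h := exact_push_pull' T D M i n i n (by rw [hc]; ring) (by rw [hc]; ring)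
  have h1 : (T.pull D.j M i n).hom a = 0 := by
    rw [h a]
    refine ⟨a, ?_⟩
    have := T.push_id X M i n (by rw [relCodim_self]; ring) (by rw [relCodim_self]; ring)
    exact congrArg (fun φ => φ.hom a) this
  have h2 : T.pull D.j M i n = 𝟙 _ := pull_id T X M i n
  rw [h2] at h1
  exact h1

/-! ### Reduced closed subschemes -/

/-- The closed subset `C` of an object with its reduced structure, as an object. -/
noncomputable abbrev redSub (X : Obj V) (C : Closeds X.scheme) : Obj V :=
  ⟨(Scheme.IdealSheafData.vanishingIdeal (X := X.scheme) C).subscheme,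
    IsConstructible.of_isClosedImmersion
      (Scheme.IdealSheafData.vanishingIdeal (X := X.scheme) C).subschemeι
      (h := (inferInstance : IsClosedImmersion
        (Scheme.IdealSheafData.vanishingIdeal (X := X.scheme) C).subschemeι)) X.mem⟩

noncomputable def redSubι (X : Obj V) (C : Closeds X.scheme) :
    (redSub X C).scheme ⟶ X.scheme :=
  (Scheme.IdealSheafData.vanishingIdeal C).subschemeι

instance (X : Obj V) (C : Closeds X.scheme) : IsClosedImmersion (redSubι X C) :=
  inferInstanceAs (IsClosedImmersion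
    (Scheme.IdealSheafData.vanishingIdeal (X := X.scheme) C).subschemeι)

instance (X : Obj V) (C : Closeds X.scheme) : IsReduced (redSub X C).scheme :=
  Groth.Agent.Lib.helper4.ClosureProper.isReduced_subscheme_vanishingIdeal C

lemma range_redSubι (X : Obj V) (C : Closeds X.scheme) :
    Set.range (redSubι X C) = (C : Set X.scheme) :=
  Groth.Agent.Lib.helper4.ClosureProper.range_subschemeι_vanishingIdeal C

/-- The decomposition of `X` with open part a given morphism of objects `f : U ⟶ X` and closed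
part the complement of its image with the reduced structure. -/
noncomputable def decompOfHom {U X : Obj V} (f : U ⟶ X) : Decomp X where
  Z := redSub X ⟨(Set.range f.hom)ᶜ, f.hom.isOpenEmbedding.isOpen_range.isClosed_compl⟩
  U := U
  i := redSubι X _
  closedImm := inferInstance
  j := f
  range_eq := by rw [range_redSubι]; simp

instance {U X : Obj V} (f : U ⟶ X) : IsReduced (decompOfHom f).Z.scheme := by
  unfold decompOfHom; infer_instance

lemma range_decompOfHom_i {U X : Obj V} (f : U ⟶ X) :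
    Set.range (decompOfHom f).i = (Set.range f.hom)ᶜ := range_redSubι X _

/-! ### Bijectivity of restriction from the Gysin sequence -/

lemma relCodim_nonneg_of_isClosedImmersion {Z X : Obj V} (f : Z.scheme ⟶ X.scheme)
    [IsClosedImmersion f] : 0 ≤ relCodim Z.scheme X.scheme := by
  unfold relCodim
  have := dim_le_of_isInducing f f.isClosedEmbedding.isInducing (finiteDim X)
  omega

lemma pull_bijective_of_gysin {X : Obj V} (D : Decomp X) (M : A.Cat) (i n : ℤ)
    (h0 : ∀ b : T.gp D.Z M (i - 2 * D.codim) (n - D.codim), b = 0)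
    (h1 : ∀ b : T.gp D.Z M (i + 1 - 2 * D.codim) (n - D.codim), b = 0) :
    Function.Bijective (T.pull D.j M i n).hom := by
  constructor
  · rw [injective_iff_map_eq_zero]
    intro a ha
    obtain ⟨b, hb⟩ := ((exact_push_pull' T D M i n (i - 2 * D.codim) (n - D.codim)
      (by ring) (by ring)) a).1 ha
    rw [h0 b, map_zero] at hb
    exact hb.symm
  · intro a
    have := (T.exact_pull_res D M i n (i + 1 - 2 * D.codim) (n - D.codim) rfl rfl) a
    exact this.1 (h1 _)

/-! ### The reduced closure of a point -/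

lemma dim_eq_natDim_range {Z X : Scheme.{u}} (f : Z ⟶ X) [IsClosedImmersion f] :
    WeilCoh.dim Z = WeilCoh.natDim ↥(Set.range f) :=
  natDim_eq_of_homeomorph f.isClosedEmbedding.isEmbedding.toHomeomorph

lemma range_ptSubι (X : Obj V) (x : X.scheme) :
    Set.range (X.ptSubι x) = closure ({x} : Set X.scheme) :=
  Groth.Agent.Lib.helper4.ClosureProper.range_subschemeι_vanishingIdeal _

lemma dim_ptSub (X : Obj V) (x : X.scheme) :
    WeilCoh.dim (X.ptSub x).scheme = WeilCoh.pdim X.scheme x := by
  rw [dim_eq_natDim_range (X.ptSubι x), range_ptSubι]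
  rfl

instance irreducibleSpace_ptSub (X : Obj V) (x : X.scheme) :
    IrreducibleSpace (X.ptSub x).scheme := by
  have h1 : IrreducibleSpace ↥(Set.range (X.ptSubι x)) := by
    rw [range_ptSubι]
    exact (isIrreducible_iff_irreducibleSpace).1 isIrreducible_singleton.closure
  exact ((X.ptSubι x).isClosedEmbedding.isEmbedding.toHomeomorph.irreducibleSpace_iff).2 h1

/-- The point of the reduced closure of `x` lying over `x`. -/
noncomputable def ptSubPt (X : Obj V) (x : X.scheme) : (X.ptSub x).scheme :=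
  (show x ∈ Set.range (X.ptSubι x) by rw [range_ptSubι]; exact subset_closure rfl).choose

lemma ptSubι_ptSubPt (X : Obj V) (x : X.scheme) : X.ptSubι x (ptSubPt X x) = x :=
  (show x ∈ Set.range (X.ptSubι x) by rw [range_ptSubι]; exact subset_closure rfl).choose_spec

lemma dim_opens_le (X : Obj V) (U : X.scheme.Opens) :
    WeilCoh.dim (U : Scheme.{u}) ≤ WeilCoh.dim X.scheme :=
  dim_le_of_isInducing U.ι U.ι.isOpenEmbedding.isInducing (finiteDim X)

lemma finiteDim_opens (X : Obj V) (U : X.scheme.Opens) :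
    topologicalKrullDim (U : Scheme.{u}) < ⊤ := finiteDim (X.res U)

/-- An open of an object containing a point whose closure has the dimension of the object has
the dimension of the object. -/
lemma dim_opens_eq_of_mem (X : Obj V) (η : X.scheme)
    (hη : WeilCoh.pdim X.scheme η = WeilCoh.dim X.scheme) (U : X.scheme.Opens) (hU : η ∈ U) :
    WeilCoh.dim (U : Scheme.{u}) = WeilCoh.dim X.scheme := by
  refine le_antisymm (dim_opens_le X U) ?_
  let ι := X.ptSubι η
  let U' : (X.ptSub η).scheme.Opens := ι ⁻¹ᵁ U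
  have hne : (U' : Set (X.ptSub η).scheme).Nonempty :=
    ⟨ptSubPt X η, by
      show ι (ptSubPt X η) ∈ U
      rw [ptSubι_ptSubPt]; exact hU⟩
  have h1 : WeilCoh.dim (U' : Scheme.{u}) = WeilCoh.dim (X.ptSub η).scheme :=
    IsConstructible.dim_open (X.ptSub η).mem inferInstance U' hne
  have h2 : WeilCoh.dim (U' : Scheme.{u}) ≤ WeilCoh.dim (U : Scheme.{u}) := by
    refine dim_le_of_isInducing (ι ∣_ U) ?_ (finiteDim_opens X U)
    have hc : IsInducing ((ι ∣_ U) ≫ U.ι) := by
      rw [morphismRestrict_ι]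
      exact ι.isClosedEmbedding.isInducing.comp U'.ι.isOpenEmbedding.isInducing
    rw [Scheme.Hom.comp_base, TopCat.coe_comp] at hc
    exact IsInducing.of_comp (ι ∣_ U).continuous U.ι.continuous hc
  rw [← hη, ← dim_ptSub, ← h1]
  exact h2

/-! ### Directedness of the index families -/

lemma isCofiltered_idx (X : Obj V) (P : X.scheme.Opens → Prop)
    (htop : P ⊤)
    (hinf : ∀ U U' : Idx X P, P (U.1 ⊓ U'.1) ∧
      WeilCoh.dim ((U.1 ⊓ U'.1 : X.scheme.Opens) : Scheme.{u}) = WeilCoh.dim X.scheme) :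
    IsCofiltered (Idx X P) := by
  haveI : Nonempty (Idx X P) := ⟨⟨⊤, htop, dim_top X.scheme⟩⟩
  haveI : IsDirected (Idx X P) (· ≥ ·) :=
    ⟨fun U U' => ⟨⟨U.1 ⊓ U'.1, hinf U U'⟩,
      (inf_le_left : U.1 ⊓ U'.1 ≤ U.1), (inf_le_right : U.1 ⊓ U'.1 ≤ U'.1)⟩⟩
  exact isCofiltered_of_directed_ge_nonempty _

/-- A nonempty object has a point of codimension zero. -/
lemma exists_pdim_eq_dim (X : Obj V) [Nonempty X.scheme] :
    ∃ η : X.scheme, WeilCoh.pdim X.scheme η = WeilCoh.dim X.scheme ∧
      ∀ y : X.scheme, y ⤳ η → y = η := by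
  obtain ⟨η, h1, h2⟩ := exists_ht_eq (T := X.scheme) (finiteDim X)
  exact ⟨η, by rw [pdim_eq_ht, h1]; rfl, h2⟩

lemma dim_eq_of_containsFj (X : Obj V) (j : ℕ) (U : X.scheme.Opens) (hU : ContainsFj X j U) :
    WeilCoh.dim (U : Scheme.{u}) = WeilCoh.dim X.scheme := by
  by_cases hX : Nonempty X.scheme
  · obtain ⟨η, h1, -⟩ := exists_pdim_eq_dim X
    refine dim_opens_eq_of_mem X η h1 U (hU η ?_)
    unfold WeilCoh.codim
    rw [h1]; simp
  · rw [not_nonempty_iff] at hX
    haveI : IsEmpty (U : Scheme.{u}) := ⟨fun x => hX.elim (U.ι x)⟩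
    rw [dim_of_isEmpty, dim_of_isEmpty]

instance isCofiltered_fj (X : Obj V) (j : ℕ) : IsCofiltered (Idx X (ContainsFj X j)) := by
  refine isCofiltered_idx X _ (fun _ _ => trivial) (fun U U' => ?_)
  have h : ContainsFj X j (U.1 ⊓ U'.1) := fun y hy => ⟨U.2.1 y hy, U'.2.1 y hy⟩
  exact ⟨h, dim_eq_of_containsFj X j _ h⟩

lemma isCofiltered_nonempty (Y : Obj V) [IrreducibleSpace Y.scheme] :
    IsCofiltered (Idx Y (fun U => (U : Set Y.scheme).Nonempty)) := by
  refine isCofiltered_idx Y _ ?_ (fun U U' => ?_)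
  · exact Set.univ_nonempty
  · have h : ((U.1 ⊓ U'.1 : Y.scheme.Opens) : Set Y.scheme).Nonempty :=
      nonempty_preirreducible_inter U.1.2 U'.1.2 U.2.1 U'.2.1
    exact ⟨h, IsConstructible.dim_open Y.mem inferInstance _ h⟩

instance isCofiltered_pt (X : Obj V) (x : X.scheme) :
    IsCofiltered (Idx (X.ptSub x) (fun U => (U : Set (X.ptSub x).scheme).Nonempty)) :=
  isCofiltered_nonempty (X.ptSub x)

end Groth.Agent.Lib.helper27.BMGeom
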