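import Mathlib
import Groth.Prelude.Def_BMCoh2
import Groth.Agent.Lib.Helper27.BMGeom
import Groth.Agent.Lib.Helper27.BMColim

namespace Groth.Agent.Lib.helper27.BMVanish
universe u
set_option linter.unusedSectionVars false
set_option linter.style.haveILetI false
open CategoryTheory AlgebraicGeometry Opposite BMCoh Limits TopologicalSpace Topology
open Groth.Agent.Lib.helper27.BMBasic Groth.Agent.Lib.helper27.BMTop
  Groth.Agent.Lib.helper27.BMGeom Groth.Agent.Lib.helper27.BMColim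

variable {V : ObjectProperty Scheme.{u}} [BMCoh.IsConstructible V] {R : Type u} [CommRing R]
  {A : BMCoh.Coefs R}

lemma closure_mem_irreducibleComponents {T : Type*} [TopologicalSpace T] [QuasiSober T] (η : T)
    (hmax : ∀ y : T, y ⤳ η → y = η) : closure ({η} : Set T) ∈ irreducibleComponents T := by
  refine ⟨isIrreducible_singleton.closure, fun s hs hle => ?_⟩
  obtain ⟨y, hy⟩ := QuasiSober.sober hs.closure isClosed_closure
  have h1 : η ∈ closure ({y} : Set T) := by
    rw [hy.def]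
    exact subset_closure (hle (subset_closure rfl))
  have h2 : y = η := hmax y (specializes_iff_mem_closure.2 h1)
  rw [← h2, hy.def]
  exact subset_closure

section iso
variable {S Y : Obj V} (ι : S.scheme ⟶ Y.scheme) [IsClosedImmersion ι] [IsReduced Y.scheme]

lemma isIso_morphismRestrict (W : Y.scheme.Opens) (hW : (W : Set Y.scheme) ⊆ Set.range ι) :
    IsIso (ι ∣_ W) := by
  haveI : Surjective (ι ∣_ W) := ⟨fun w => by
    obtain ⟨s, hs⟩ := hW w.2
    refine ⟨⟨s, by show ι s ∈ W; rw [hs]; exact w.2⟩, ?_⟩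
    apply Subtype.ext
    rw [morphismRestrict_base_coe]
    exact hs⟩
  exact isIso_of_isClosedImmersion_of_surjective _

/-- The isomorphism between the part of `S` over `W` and `W`, as a morphism of objects. -/
noncomputable def restrIso (W : Y.scheme.Opens) (hW : (W : Set Y.scheme) ⊆ Set.range ι) :
    S.res (ι ⁻¹ᵁ W) ⟶ Y.res W :=
  haveI := isIso_morphismRestrict ι W hW
  ⟨ι ∣_ W, inferInstance, dim_eq_of_iso (asIso (ι ∣_ W))⟩

instance (W : Y.scheme.Opens) (hW : (W : Set Y.scheme) ⊆ Set.range ι) :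
    IsIso (restrIso ι W hW).hom := isIso_morphismRestrict ι W hW

lemma restrIso_naturality {W W' : Y.scheme.Opens} (h : W' ≤ W)
    (hW : (W : Set Y.scheme) ⊆ Set.range ι)
    (hd : WeilCoh.dim (W' : Scheme.{u}) = WeilCoh.dim (W : Scheme.{u}))
    (hd' : WeilCoh.dim ((ι ⁻¹ᵁ W' : S.scheme.Opens) : Scheme.{u}) =
      WeilCoh.dim ((ι ⁻¹ᵁ W : S.scheme.Opens) : Scheme.{u})) :
    S.resLE (U := ι ⁻¹ᵁ W') (U' := ι ⁻¹ᵁ W) (ι.preimage_mono h) hd' ≫ restrIso ι W hW =
      restrIso ι W' (le_trans (show (W' : Set Y.scheme) ⊆ W from h) hW) ≫ Y.resLE h hd := by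
  apply Hom.ext
  simp only [comp_hom]
  rw [← cancel_mono W.ι]
  simp [restrIso, Obj.resLE, morphismRestrict_ι]

end iso

section key
variable (T : BMCoh.PreTheory V R A)

/-- Key lemma: if the open-system colimit over the nonempty opens of an irreducible closed
`S ⊆ Y` which is an irreducible component of top dimension vanishes, every class on `Y` (reduced)
vanishes on some nonempty open of `Y` contained in that component. -/
lemma exists_open_pull_eq_zero {S Y : Obj V} (ι : S.scheme ⟶ Y.scheme) [IsClosedImmersion ι]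
    [IsReduced Y.scheme] [IrreducibleSpace S.scheme]
    (hS : WeilCoh.dim S.scheme = WeilCoh.dim Y.scheme)
    (hcomp : Set.range ι ∈ irreducibleComponents Y.scheme) (M : A.Cat) (i n : ℤ)
    (hz : ∀ c : (T.ocolim S (fun U => (U : Set S.scheme).Nonempty) i n).obj M, c = 0)
    (a : T.gp Y M i n) :
    ∃ (W : Y.scheme.Opens) (hd : WeilCoh.dim (W : Scheme.{u}) = WeilCoh.dim Y.scheme),
      (W : Set Y.scheme).Nonempty ∧ (W : Set Y.scheme) ⊆ Set.range ι ∧
        (T.pull (Y.resι W hd) M i n).hom a = 0 := by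
  haveI : IsNoetherian Y.scheme := IsConstructible.isNoetherian Y.mem
  haveI := isCofiltered_nonempty S
  -- dimension of opens inside the component
  have hdim : ∀ W : Y.scheme.Opens, (W : Set Y.scheme).Nonempty →
      (W : Set Y.scheme) ⊆ Set.range ι →
      ((ι ⁻¹ᵁ W : S.scheme.Opens) : Set S.scheme).Nonempty ∧
      WeilCoh.dim ((ι ⁻¹ᵁ W : S.scheme.Opens) : Scheme.{u}) = WeilCoh.dim S.scheme ∧
      WeilCoh.dim (W : Scheme.{u}) = WeilCoh.dim Y.scheme := by
    intro W hne hW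
    have hne' : ((ι ⁻¹ᵁ W : S.scheme.Opens) : Set S.scheme).Nonempty := by
      obtain ⟨w, hw⟩ := hne
      obtain ⟨s, rfl⟩ := hW hw
      exact ⟨s, hw⟩
    have h1 := IsConstructible.dim_open S.mem inferInstance (ι ⁻¹ᵁ W) hne'
    refine ⟨hne', h1, ?_⟩
    rw [← (restrIso ι W hW).dim_eq]
    exact h1.trans hS
  obtain ⟨o, ho, hne, hsub⟩ :=
    NoetherianSpace.exists_isOpen_nonempty_subset_irreducibleComponent _ hcomp
  let W₀ : Y.scheme.Opens := ⟨o, ho⟩
  obtain ⟨hne₀, hd₀', hd₀⟩ := hdim W₀ hne hsub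
  let I₀ : Idx S (fun U => (U : Set S.scheme).Nonempty) := ⟨ι ⁻¹ᵁ W₀, hne₀, hd₀'⟩
  let a₀ : T.gp (S.res I₀.1) M i n :=
    (T.pull (restrIso ι W₀ hsub) M i n).hom ((T.pull (Y.resι W₀ hd₀) M i n).hom a)
  obtain ⟨I₁, hle, hI₁⟩ := (ι_eq_zero_iff T S _ i n M I₀ a₀).1 (hz _)
  obtain ⟨⟨W₁', hne₁, hd₁'⟩, rfl⟩ : ∃ I, I = I₁ := ⟨_, rfl⟩
  obtain ⟨O, hO, hOeq⟩ := ι.isClosedEmbedding.isInducing.isOpen_iff.1 W₁'.2
  let W₁ : Y.scheme.Opens := W₀ ⊓ ⟨O, hO⟩
  have hW₁' : W₁' = ι ⁻¹ᵁ W₁ := by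
    apply Opens.ext
    show (W₁' : Set S.scheme) = ι ⁻¹' ((W₀ : Set Y.scheme) ∩ O)
    rw [Set.preimage_inter, hOeq]
    exact (Set.inter_eq_right.2 hle).symm
  subst hW₁'
  have hsub₁ : (W₁ : Set Y.scheme) ⊆ Set.range ι := fun w hw => hsub hw.1
  have hne₁' : (W₁ : Set Y.scheme).Nonempty := by
    obtain ⟨s, hs⟩ := hne₁
    exact ⟨ι s, hs⟩
  obtain ⟨-, -, hdW₁⟩ := hdim W₁ hne₁' hsub₁
  refine ⟨W₁, hdW₁, hne₁', hsub₁, ?_⟩
  have hle₁ : W₁ ≤ W₀ := inf_le_left
  -- naturality
  have hnat := restrIso_naturality ι hle₁ hsub (hdW₁.trans hd₀.symm) (hd₁'.trans hd₀'.symm)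
  have hfac : Y.resLE hle₁ (hdW₁.trans hd₀.symm) ≫ Y.resι W₀ hd₀ = Y.resι W₁ hdW₁ :=
    Hom.ext (Scheme.homOfLE_ι Y.scheme hle₁)
  apply (pull_bijective_of_isIso T (restrIso ι W₁ hsub₁) M i n).1
  rw [map_zero, ← hfac, pull_comp]
  have h3 := congrArg (fun f => T.pull f M i n) hnat
  simp only [pull_comp] at h3
  have h4 := congrArg (fun φ => φ.hom ((T.pull (Y.resι W₀ hd₀) M i n).hom a)) h3
  simp only [ModuleCat.hom_comp, LinearMap.comp_apply] at h4 ⊢
  rw [← h4]
  exact hI₁

end key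

section vanish
variable (T : BMCoh.TheoryOn V R A)

lemma ptGp_eq_zero_of_neg (X : Obj V) (x : X.scheme) (M : A.Cat) (i n : ℤ) (hi : i < 0)
    (c : T.ptGp X x M i n) : c = 0 :=
  (ModuleCat.isZero_iff_subsingleton.1 (T.pt_vanish X x M i n hi)).elim _ _

/-- The groups of a reduced object vanish in negative degrees. -/
theorem gp_eq_zero_of_neg (Y₀ : Obj V) :
    ∀ (C : Closeds Y₀.scheme) (Y : Obj V) (f : Y.scheme ⟶ Y₀.scheme) [IsClosedImmersion f]
      [IsReduced Y.scheme], Set.range f = (C : Set Y₀.scheme) →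
      ∀ (M : A.Cat) (i n : ℤ), i < 0 → ∀ a : T.gp Y M i n, a = 0 := by
  haveI : IsNoetherian Y₀.scheme := IsConstructible.isNoetherian Y₀.mem
  intro C
  induction C using WellFoundedLT.induction with
  | ind C ih =>
    intro Y f _ _ hf M i n hi a
    by_cases hY : Nonempty Y.scheme
    · obtain ⟨η, hη, hmax⟩ := exists_pdim_eq_dim Y
      have hcomp : Set.range (Y.ptSubι η) ∈ irreducibleComponents Y.scheme := by
        rw [range_ptSubι]
        exact closure_mem_irreducibleComponents η hmax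
      obtain ⟨W, hd, hne, -, hW⟩ := exists_open_pull_eq_zero T.toPreTheory (Y.ptSubι η)
        ((dim_ptSub Y η).trans hη) hcomp M i n
        (fun c => ptGp_eq_zero_of_neg T Y η M i n hi c) a
      let D := decompOfHom (Y.resι W hd)
      have hc : 0 ≤ relCodim D.Z.scheme Y.scheme := relCodim_nonneg_of_isClosedImmersion D.i
      obtain ⟨b, hb⟩ := ((exact_push_pull' T.toPreTheory D M i n
        (i - 2 * relCodim D.Z.scheme Y.scheme) (n - relCodim D.Z.scheme Y.scheme)
        (by ring) (by ring)) a).1 hW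
      have hrange : Set.range (Y.resι W hd).hom = (W : Set Y.scheme) := by
        show Set.range W.ι = _
        simp
      have hb0 : b = 0 := by
        let C' : Closeds Y₀.scheme := ⟨Set.range (D.i ≫ f), (D.i ≫ f).isClosedEmbedding.isClosed_range⟩
        have hlt : C' < C := by
          have hle : (C' : Set Y₀.scheme) ⊆ C := by
            rw [← hf]
            rintro _ ⟨z, rfl⟩
            exact ⟨D.i z, rfl⟩
          refine lt_of_le_of_ne hle ?_
          intro heq
          obtain ⟨w, hw⟩ := hne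
          have h1 : f w ∈ (C' : Set Y₀.scheme) := by
            rw [heq, ← hf]; exact ⟨w, rfl⟩
          obtain ⟨z, hz⟩ := h1
          have h2 : D.i z = w := f.isClosedEmbedding.injective hz
          have h3 : w ∈ Set.range D.i := ⟨z, h2⟩
          rw [range_decompOfHom_i, hrange] at h3
          exact h3 hw
        exact ih C' hlt D.Z (D.i ≫ f) rfl M _ _ (by omega) b
      rw [hb0, map_zero] at hb
      exact hb.symm
    · rw [not_nonempty_iff] at hY
      exact gp_eq_zero_of_isEmpty T.toPreTheory Y M i n a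

theorem gp_eq_zero_of_neg' (Y : Obj V) [IsReduced Y.scheme] (M : A.Cat) (i n : ℤ) (hi : i < 0)
    (a : T.gp Y M i n) : a = 0 :=
  gp_eq_zero_of_neg T Y ⊤ Y (𝟙 _) (by simp) M i n hi a

end vanish

end Groth.Agent.Lib.helper27.BMVanish
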