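import Mathlib
import Groth.Prelude.Def_BMCoh2
import Groth.Agent.Lib.Helper27.BMVanish

namespace Groth.Agent.Lib.helper27.BMCodim
universe u
set_option linter.unusedSectionVars false
set_option linter.style.haveILetI false
open CategoryTheory AlgebraicGeometry Opposite BMCoh Limits TopologicalSpace Topology
open Groth.Agent.Lib.helper27.BMBasic Groth.Agent.Lib.helper27.BMTop
  Groth.Agent.Lib.helper27.BMGeom Groth.Agent.Lib.helper27.BMColim
  Groth.Agent.Lib.helper27.BMVanish

variable {V : ObjectProperty Scheme.{u}} [BMCoh.IsConstructible V] {R : Type u} [CommRing R]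
  {A : BMCoh.Coefs R}

lemma pdim_map_of_isClosedImmersion {Z X : Scheme.{u}} (f : Z ⟶ X) [IsClosedImmersion f] (z : Z) :
    WeilCoh.pdim X (f z) = WeilCoh.pdim Z z := by
  rw [pdim_eq_ht, pdim_eq_ht, ht_eq_of_isClosedEmbedding f.isClosedEmbedding]

lemma le_relCodim_of_forall_le_codim {Z X : Obj V} (f : Z.scheme ⟶ X.scheme)
    [IsClosedImmersion f] [Nonempty Z.scheme] (m : ℕ)
    (h : ∀ z : Z.scheme, m ≤ WeilCoh.codim X.scheme (f z)) :
    (m : ℤ) ≤ relCodim Z.scheme X.scheme := by
  obtain ⟨ζ, hζ, -⟩ := exists_pdim_eq_dim Z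
  have h1 := h ζ
  unfold WeilCoh.codim at h1
  rw [pdim_map_of_isClosedImmersion, hζ] at h1
  have h2 := dim_le_of_isInducing f f.isClosedEmbedding.isInducing (finiteDim X)
  unfold relCodim
  omega

variable (T : BMCoh.TheoryOn V R A)

/-- Restriction to an open whose complement has codimension at least `m` is bijective in degrees
`i` with `i + 1 < 2 m`. -/
theorem pull_bijective_of_codim {U X : Obj V} (f : U ⟶ X) (m : ℕ)
    (hm : ∀ x : X.scheme, x ∉ Set.range f.hom → m ≤ WeilCoh.codim X.scheme x) (M : A.Cat)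
    (i n : ℤ) (hi : i + 1 < 2 * (m : ℤ)) : Function.Bijective (T.pull f M i n).hom := by
  let D := decompOfHom f
  have key : ∀ (k l : ℤ), k ≤ i + 1 - 2 * D.codim → ∀ b : T.gp D.Z M k l, b = 0 := by
    intro k l hk b
    by_cases hZ : Nonempty D.Z.scheme
    · have hc : (m : ℤ) ≤ relCodim D.Z.scheme X.scheme := by
        refine le_relCodim_of_forall_le_codim D.i m (fun z => hm _ ?_)
        have : D.i z ∈ Set.range D.i := ⟨z, rfl⟩
        rw [range_decompOfHom_i] at this
        exact this
      have hD : D.codim = relCodim D.Z.scheme X.scheme := rfl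
      exact gp_eq_zero_of_neg' T D.Z M k l (by omega) b
    · rw [not_nonempty_iff] at hZ
      exact gp_eq_zero_of_isEmpty T.toPreTheory D.Z M k l b
  exact pull_bijective_of_gysin T.toPreTheory D M i n (key _ _ (by omega)) (key _ _ le_rfl)

end Groth.Agent.Lib.helper27.BMCodim
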