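import Mathlib
import Groth.Prelude.Def_BMCoh2
import Groth.Agent.Lib.Helper27.BMGeom
import Groth.Agent.Lib.Helper27.BMColim

namespace Groth.Agent.Lib.helper27.BMLift
universe u
set_option linter.unusedSectionVars false
set_option linter.style.haveILetI false
open CategoryTheory AlgebraicGeometry Opposite BMCoh Limits TopologicalSpace Topology
open Groth.Agent.Lib.helper27.BMBasic Groth.Agent.Lib.helper27.BMTop
  Groth.Agent.Lib.helper27.BMGeom Groth.Agent.Lib.helper27.BMColim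

variable {V : ObjectProperty Scheme.{u}} [BMCoh.IsConstructible V] {R : Type u} [CommRing R]
  {A : BMCoh.Coefs R}

instance {Y X : Obj V} (g : Y ⟶ X) : Mono g :=
  ⟨fun a b h => Hom.ext (by
    have := congrArg Hom.hom h
    simp only [comp_hom] at this
    exact (cancel_mono g.hom).1 this)⟩

/-- The unique morphism of objects over `X` between two open subobjects with nested ranges. -/
noncomputable def liftHom {Y₁ Y₂ X : Obj V} (g₁ : Y₁ ⟶ X) (g₂ : Y₂ ⟶ X)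
    (h : Set.range g₁.hom ⊆ Set.range g₂.hom) : Y₁ ⟶ Y₂ :=
  ⟨IsOpenImmersion.lift g₂.hom g₁.hom h,
    haveI : IsOpenImmersion (IsOpenImmersion.lift g₂.hom g₁.hom h ≫ g₂.hom) := by
      rw [IsOpenImmersion.lift_fac]; infer_instance
    IsOpenImmersion.of_comp _ g₂.hom,
    g₁.dim_eq.trans g₂.dim_eq.symm⟩

@[reassoc (attr := simp)]
lemma liftHom_fac {Y₁ Y₂ X : Obj V} (g₁ : Y₁ ⟶ X) (g₂ : Y₂ ⟶ X)
    (h : Set.range g₁.hom ⊆ Set.range g₂.hom) : liftHom g₁ g₂ h ≫ g₂ = g₁ :=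
  Hom.ext (IsOpenImmersion.lift_fac _ _ _)

lemma isIso_liftHom {Y₁ Y₂ X : Obj V} (g₁ : Y₁ ⟶ X) (g₂ : Y₂ ⟶ X)
    (h : Set.range g₁.hom = Set.range g₂.hom) : IsIso (liftHom g₁ g₂ h.le).hom :=
  (IsOpenImmersion.isoOfRangeEq g₁.hom g₂.hom h).isIso_hom

lemma range_resι (X : Obj V) (U : X.scheme.Opens)
    (hd : WeilCoh.dim (U : Scheme.{u}) = WeilCoh.dim X.scheme) :
    Set.range (X.resι U hd).hom = (U : Set X.scheme) := by
  show Set.range U.ι = _
  simp

lemma range_comp_hom {Y₁ Y₂ X : Obj V} (g₁ : Y₁ ⟶ Y₂) (g₂ : Y₂ ⟶ X) :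
    Set.range (g₁ ≫ g₂).hom = g₂.hom '' Set.range g₁.hom := by
  rw [comp_hom, Scheme.Hom.comp_base, TopCat.coe_comp, Set.range_comp]

section cofinal
variable (T : BMCoh.PreTheory V R A)

/-- Vanishing of the open-system colimit over the nonempty opens of an irreducible object passes
to an irreducible open subobject. -/
theorem ocolim_eq_zero_of_hom {S' S : Obj V} (g : S' ⟶ S) [IrreducibleSpace S.scheme]
    [IrreducibleSpace S'.scheme] (M : A.Cat) (k l : ℤ)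
    (hz : ∀ c : (T.ocolim S (fun U => (U : Set S.scheme).Nonempty) k l).obj M, c = 0)
    (c : (T.ocolim S' (fun U => (U : Set S'.scheme).Nonempty) k l).obj M) : c = 0 := by
  haveI := isCofiltered_nonempty S
  haveI := isCofiltered_nonempty S'
  obtain ⟨⟨W', hne', hd'⟩, b, rfl⟩ := exists_rep T S' _ k l M c
  let g₁ : S'.res W' ⟶ S := S'.resι W' hd' ≫ g
  let W : S.scheme.Opens := g₁.hom.opensRange
  have hWne : (W : Set S.scheme).Nonempty := by
    obtain ⟨w, hw⟩ := hne'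
    exact ⟨g₁.hom ⟨w, hw⟩, ⟨_, rfl⟩⟩
  have hdW : WeilCoh.dim (W : Scheme.{u}) = WeilCoh.dim S.scheme :=
    IsConstructible.dim_open S.mem inferInstance W hWne
  let I : Idx S (fun U => (U : Set S.scheme).Nonempty) := ⟨W, hWne, hdW⟩
  have hr : Set.range g₁.hom = Set.range (S.resι W hdW).hom := by
    rw [range_resι]; rfl
  let e : S'.res W' ⟶ S.res W := liftHom g₁ (S.resι W hdW) hr.le
  haveI : IsIso e.hom := isIso_liftHom g₁ (S.resι W hdW) hr
  obtain ⟨b₀, hb₀⟩ := (pull_bijective_of_isIso T e M k l).2 b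
  obtain ⟨⟨W₁, hne₁, hd₁⟩, hle, hW₁⟩ := (ι_eq_zero_iff T S _ k l M I b₀).1 (hz _)
  have hle' : W₁ ≤ W := hle
  let W₁' : S'.scheme.Opens := g.hom ⁻¹ᵁ W₁ ⊓ W'
  have hne₁' : (W₁' : Set S'.scheme).Nonempty := by
    obtain ⟨w₁, hw₁⟩ := hne₁
    obtain ⟨w', hw'⟩ := hle' hw₁
    refine ⟨w'.1, ?_, w'.2⟩
    show g.hom w'.1 ∈ W₁
    have : g₁.hom w' = g.hom w'.1 := rfl
    rw [← this, hw']
    exact hw₁
  have hd₁' : WeilCoh.dim (W₁' : Scheme.{u}) = WeilCoh.dim S'.scheme :=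
    IsConstructible.dim_open S'.mem inferInstance W₁' hne₁'
  let I₁' : Idx S' (fun U => (U : Set S'.scheme).Nonempty) := ⟨W₁', hne₁', hd₁'⟩
  have hle₁ : I₁' ≤ (⟨W', hne', hd'⟩ : Idx S' (fun U => (U : Set S'.scheme).Nonempty)) :=
    (inf_le_right : W₁' ≤ W')
  rw [← ocolimι_idxRes_apply T S' _ k l M hle₁]
  suffices h : (idxRes T S' _ k l M hle₁).hom b = 0 by rw [h, map_zero]
  have hr₁ : Set.range (S'.resι W₁' hd₁' ≫ g).hom ⊆ Set.range (S.resι W₁ hd₁).hom := by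
    rw [range_resι]
    rintro _ ⟨w, rfl⟩
    exact w.2.1
  let e₁ : S'.res W₁' ⟶ S.res W₁ := liftHom (S'.resι W₁' hd₁' ≫ g) (S.resι W₁ hd₁) hr₁
  have hsq : S'.resLE (inf_le_right : W₁' ≤ W') (hd₁'.trans hd'.symm) ≫ e =
      e₁ ≫ S.resLE hle' (hd₁.trans hdW.symm) := by
    rw [← cancel_mono (S.resι W hdW)]
    rw [Category.assoc, Category.assoc, liftHom_fac]
    have h1 : S.resLE hle' (hd₁.trans hdW.symm) ≫ S.resι W hdW = S.resι W₁ hd₁ :=
      Hom.ext (Scheme.homOfLE_ι S.scheme hle')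
    rw [h1, liftHom_fac]
    have h2 : S'.resLE (inf_le_right : W₁' ≤ W') (hd₁'.trans hd'.symm) ≫
        S'.resι W' hd' = S'.resι W₁' hd₁' :=
      Hom.ext (Scheme.homOfLE_ι S'.scheme (inf_le_right : W₁' ≤ W'))
    rw [← h2, Category.assoc]
  change (T.pull (S'.resLE (inf_le_right : W₁' ≤ W') (hd₁'.trans hd'.symm)) M k l).hom b = 0
  rw [← hb₀]
  have h3 := congrArg (fun f => (T.pull f M k l).hom b₀) hsq
  simp only [pull_comp, ModuleCat.hom_comp, LinearMap.comp_apply] at h3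
  refine h3.trans ?_
  have : (T.pull (S.resLE hle' (hd₁.trans hdW.symm)) M k l).hom b₀ = 0 := hW₁
  rw [this]
  exact map_zero _

end cofinal

end Groth.Agent.Lib.helper27.BMLift
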