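import Mathlib
import Groth.Prelude.Def_BMCoh2
import Groth.Agent.Lib.Helper27.BMCodim
import Groth.Agent.Lib.Helper27.BMLift

namespace Groth.Agent.Lib.helper27.BMDim
universe u
set_option linter.unusedSectionVars false
set_option linter.style.haveILetI false
open CategoryTheory AlgebraicGeometry Opposite BMCoh Limits TopologicalSpace Topology Order
open Groth.Agent.Lib.helper27.BMBasic Groth.Agent.Lib.helper27.BMTop
  Groth.Agent.Lib.helper27.BMGeom Groth.Agent.Lib.helper27.BMColim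
  Groth.Agent.Lib.helper27.BMCodim Groth.Agent.Lib.helper27.BMLift

section top
variable {T : Type u} [TopologicalSpace T] [T0Space T] [QuasiSober T]

lemma ht_le_natDim' (hT : topologicalKrullDim T < ⊤) (z : T) :
    ht z ≤ (WeilCoh.natDim T : ℕ∞) := by
  let _ : PartialOrder T := specializationOrder T
  haveI : Nonempty T := ⟨z⟩
  rw [topologicalKrullDim_eq_krullDim] at hT
  have h0 : (0 : WithBot ℕ∞) ≤ krullDim T := krullDim_nonneg
  obtain ⟨d, hd⟩ : ∃ d : ℕ, krullDim T = d := by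
    cases h : krullDim T with
    | bot => rw [h] at h0; simp at h0
    | coe a =>
      cases a with
      | top => rw [h] at hT; exact absurd hT (lt_irrefl _)
      | coe d => exact ⟨d, rfl⟩
  have h2 : (height z : WithBot ℕ∞) ≤ d := hd ▸ height_le_krullDim _
  have h3 : WeilCoh.natDim T = d := by rw [natDim_eq, hd]; simp
  rw [h3]
  unfold ht
  exact_mod_cast h2

lemma eq_of_specializes_of_ht_eq (hT : topologicalKrullDim T < ⊤) (η : T)
    (hη : (ht η).toNat = WeilCoh.natDim T) (y : T) (hy : y ⤳ η) : y = η := by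
  let _ : PartialOrder T := specializationOrder T
  by_contra hne
  have hlt : η < y := lt_of_le_of_ne hy (Ne.symm hne)
  have h4 : ht η + 1 ≤ ht y := height_add_one_le hlt
  have h5 := ht_le_natDim' hT y
  have h6 := ht_le_natDim' hT η
  have h7 : ht η = (WeilCoh.natDim T : ℕ∞) := by
    rw [← hη]
    exact (ENat.natCast_toNat (ne_top_of_le_ne_top (ENat.natCast_ne_top _) h6)).symm
  rw [h7] at h4
  have h8 : ((WeilCoh.natDim T : ℕ∞) + 1) ≤ (WeilCoh.natDim T : ℕ∞) := h4.trans h5
  have : (WeilCoh.natDim T + 1 : ℕ) ≤ WeilCoh.natDim T := by exact_mod_cast h8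
  omega

lemma natDim_eq_of_range_eq {A B X : Type u} [TopologicalSpace A] [TopologicalSpace B]
    [TopologicalSpace X] {f₁ : A → X} {f₂ : B → X} (h₁ : IsEmbedding f₁) (h₂ : IsEmbedding f₂)
    (h : Set.range f₁ = Set.range f₂) : WeilCoh.natDim A = WeilCoh.natDim B :=
  natDim_eq_of_homeomorph
    ((h₁.toHomeomorph.trans (Homeomorph.setCongr h)).trans h₂.toHomeomorph.symm)

end top

variable {V : ObjectProperty Scheme.{u}} [BMCoh.IsConstructible V] {R : Type u} [CommRing R]
  {A : BMCoh.Coefs R}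

lemma eq_of_specializes_of_pdim_eq_dim (X : Obj V) (η : X.scheme)
    (hη : WeilCoh.pdim X.scheme η = WeilCoh.dim X.scheme) (y : X.scheme) (hy : y ⤳ η) : y = η :=
  eq_of_specializes_of_ht_eq (finiteDim X) η (by rw [← pdim_eq_ht]; exact hη) y hy

lemma pdim_le_dim (X : Obj V) (x : X.scheme) : WeilCoh.pdim X.scheme x ≤ WeilCoh.dim X.scheme := by
  rw [pdim_eq_ht]
  exact ht_le_natDim (finiteDim X) x

/-- Open immersions of objects preserve the dimension of the closure of a point. -/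
theorem pdim_hom {Y X : Obj V} (e : Y ⟶ X) (y : Y.scheme) :
    WeilCoh.pdim Y.scheme y = WeilCoh.pdim X.scheme (e.hom y) := by
  set x := e.hom y with hx
  let ι := X.ptSubι x
  let S₀ : (X.ptSub x).scheme.Opens := ι ⁻¹ᵁ e.hom.opensRange
  have hne : (S₀ : Set (X.ptSub x).scheme).Nonempty :=
    ⟨ptSubPt X x, by
      show ι (ptSubPt X x) ∈ Set.range e.hom
      rw [ptSubι_ptSubPt]; exact ⟨y, rfl⟩⟩
  have h1 : WeilCoh.dim (S₀ : Scheme.{u}) = WeilCoh.dim (X.ptSub x).scheme :=
    IsConstructible.dim_open (X.ptSub x).mem inferInstance S₀ hne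
  rw [← dim_ptSub X x, ← h1]
  show WeilCoh.natDim ↥(closure ({y} : Set Y.scheme)) = WeilCoh.natDim ↥S₀
  have he : IsEmbedding (e.hom ∘ (Subtype.val : ↥(closure ({y} : Set Y.scheme)) → Y.scheme)) :=
    e.hom.isOpenEmbedding.isEmbedding.comp IsEmbedding.subtypeVal
  have hι : IsEmbedding (ι ∘ (Subtype.val : ↥S₀ → (X.ptSub x).scheme)) :=
    ι.isClosedEmbedding.isEmbedding.comp IsEmbedding.subtypeVal
  refine natDim_eq_of_range_eq he hι ?_
  rw [Set.range_comp, Set.range_comp, Subtype.range_coe, Subtype.range_coe]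
  have h2 : closure ({y} : Set Y.scheme) = e.hom ⁻¹' closure ({x} : Set X.scheme) := by
    rw [e.hom.isOpenEmbedding.isInducing.closure_eq_preimage_closure_image, Set.image_singleton]
  rw [h2, Set.image_preimage_eq_inter_range]
  show _ = ι '' (ι ⁻¹' Set.range e.hom)
  rw [Set.image_preimage_eq_inter_range, range_ptSubι, Set.inter_comm]

lemma pdim_decomp {Y X : Obj V} (e : Y ⟶ X) (D : Decomp Y) (z : D.Z.scheme) :
    WeilCoh.pdim D.Z.scheme z = WeilCoh.pdim X.scheme (e.hom (D.i z)) := by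
  rw [← pdim_hom e, pdim_map_of_isClosedImmersion]

/-- Dimension bookkeeping for a decomposition whose closed part consists of points of
codimension at least `m` in `X`, one of them of codimension exactly `m`. -/
theorem dimFacts {Y X : Obj V} (e : Y ⟶ X) (D : Decomp Y) (m : ℕ)
    (hge : ∀ z : D.Z.scheme, m ≤ WeilCoh.codim X.scheme (e.hom (D.i z)))
    (hz₀ : ∃ z₀ : D.Z.scheme, WeilCoh.codim X.scheme (e.hom (D.i z₀)) = m) :
    WeilCoh.dim D.Z.scheme + m = WeilCoh.dim X.scheme ∧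
      relCodim D.Z.scheme Y.scheme = m ∧
      ∀ z : D.Z.scheme, WeilCoh.pdim D.Z.scheme z = WeilCoh.dim D.Z.scheme ↔
        WeilCoh.codim X.scheme (e.hom (D.i z)) = m := by
  obtain ⟨z₀, hz₀⟩ := hz₀
  haveI : Nonempty D.Z.scheme := ⟨z₀⟩
  have hp : ∀ z : D.Z.scheme, WeilCoh.pdim X.scheme (e.hom (D.i z)) ≤ WeilCoh.dim X.scheme :=
    fun z => pdim_le_dim X _
  have hq : ∀ z : D.Z.scheme, WeilCoh.pdim D.Z.scheme z ≤ WeilCoh.dim D.Z.scheme :=
    fun z => pdim_le_dim D.Z _
  obtain ⟨ζ, hζ, -⟩ := exists_pdim_eq_dim D.Z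
  have h1 := hge ζ
  have h2 := hp ζ
  have h3 := hp z₀
  have h4 := hq z₀
  unfold WeilCoh.codim at h1 hz₀
  rw [← pdim_decomp e D] at h1 h2 hz₀ h3
  have hdim : WeilCoh.dim D.Z.scheme + m = WeilCoh.dim X.scheme := by omega
  refine ⟨hdim, ?_, fun z => ?_⟩
  · unfold relCodim
    have := e.dim_eq
    omega
  · have h5 := hge z
    have h6 := hp z
    unfold WeilCoh.codim at h5 ⊢
    rw [← pdim_decomp e D] at h5 h6 ⊢
    omega

end Groth.Agent.Lib.helper27.BMDim
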