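import Mathlib
import Groth.Prelude.Def_BMCoh2
import Groth.Agent.Lib.Helper27.BMDim

namespace Groth.Agent.Lib.helper27.BMLocal
universe u
set_option linter.unusedSectionVars false
set_option linter.style.haveILetI false
open CategoryTheory AlgebraicGeometry Opposite BMCoh Limits TopologicalSpace Topology Order
open Groth.Agent.Lib.helper27.BMBasic Groth.Agent.Lib.helper27.BMTop
  Groth.Agent.Lib.helper27.BMGeom Groth.Agent.Lib.helper27.BMColim
  Groth.Agent.Lib.helper27.BMCodim Groth.Agent.Lib.helper27.BMLift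
  Groth.Agent.Lib.helper27.BMDim

variable {V : ObjectProperty Scheme.{u}} [BMCoh.IsConstructible V] {R : Type u} [CommRing R]
  {A : BMCoh.Coefs R}

lemma relCodim_loc {Y Y'' : Obj V} (D : Decomp Y) (W : D.Z.scheme.Opens)
    (hdW : WeilCoh.dim (W : Scheme.{u}) = WeilCoh.dim D.Z.scheme) (g'' : Y'' ⟶ Y) :
    relCodim (W : Scheme.{u}) Y''.scheme = relCodim D.Z.scheme Y.scheme := by
  unfold relCodim
  rw [hdW, g''.dim_eq]

section core
variable {Y Y'' : Obj V} (D : Decomp Y) (W : D.Z.scheme.Opens)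
  (hdW : WeilCoh.dim (W : Scheme.{u}) = WeilCoh.dim D.Z.scheme) (g'' : Y'' ⟶ Y)
  (hr : Set.range g''.hom = (D.i '' (W : Set D.Z.scheme)ᶜ)ᶜ)

include hr in
lemma range_ι_comp_subset : Set.range (W.ι ≫ D.i) ⊆ Set.range g''.hom := by
  rw [hr]
  rintro _ ⟨w, rfl⟩ ⟨z, hz, hzw⟩
  have : z = W.ι w := D.i.isClosedEmbedding.injective hzw
  exact hz (this ▸ w.2)

include hr in
lemma range_j_subset : Set.range D.j.hom ⊆ Set.range g''.hom := by
  rw [hr, D.range_eq]
  rintro y hy ⟨z, -, rfl⟩
  exact hy ⟨z, rfl⟩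

/-- The closed immersion of `W` into the open `Y''`. -/
noncomputable def locI : (W : Scheme.{u}) ⟶ Y''.scheme :=
  IsOpenImmersion.lift g''.hom (W.ι ≫ D.i) (range_ι_comp_subset D W g'' hr)

@[reassoc]
lemma locI_fac : locI D W g'' hr ≫ g''.hom = W.ι ≫ D.i := IsOpenImmersion.lift_fac _ _ _

lemma isPullback_loc : IsPullback (locI D W g'' hr) W.ι g''.hom D.i := by
  refine IsOpenImmersion.isPullback _ _ _ _ (locI_fac D W g'' hr).symm ?_
  apply Opens.ext
  rw [Scheme.Opens.opensRange_ι]
  show D.i ⁻¹' Set.range g''.hom = (W : Set D.Z.scheme)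
  rw [hr]
  ext z
  simp only [Set.mem_preimage, Set.mem_compl_iff, Set.mem_image, not_exists, not_and]
  constructor
  · intro h
    by_contra hz
    exact h z hz rfl
  · intro hz z' hz' hzz'
    exact hz' (D.i.isClosedEmbedding.injective hzz' ▸ hz)

instance : IsClosedImmersion (locI D W g'' hr) :=
  MorphismProperty.of_isPullback (isPullback_loc D W g'' hr).flip D.closedImm

/-- The open part inside `Y''`. -/
noncomputable def locJ : D.U ⟶ Y'' := liftHom D.j g'' (range_j_subset D W g'' hr)

@[reassoc]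
lemma locJ_fac : locJ D W g'' hr ≫ g'' = D.j := liftHom_fac _ _ _

/-- The decomposition of the open `Y''` induced by `D`. -/
noncomputable abbrev locDecomp : Decomp Y'' where
  Z := D.Z.res W
  U := D.U
  i := locI D W g'' hr
  closedImm := inferInstance
  j := locJ D W g'' hr
  range_eq := by
    have hinj : Function.Injective g''.hom := g''.hom.isOpenEmbedding.injective
    ext y
    have hy : g''.hom y ∈ Set.range g''.hom := ⟨y, rfl⟩
    rw [hr] at hy
    have h1 : y ∈ Set.range (locJ D W g'' hr).hom ↔ g''.hom y ∈ Set.range D.j.hom := by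
      constructor
      · rintro ⟨u, rfl⟩
        refine ⟨u, ?_⟩
        have := congrArg (fun f => f.hom u) (locJ_fac D W g'' hr)
        exact this.symm
      · rintro ⟨u, hu⟩
        refine ⟨u, hinj ?_⟩
        have := congrArg (fun f => f.hom u) (locJ_fac D W g'' hr)
        exact this.trans hu
    have h2 : y ∈ Set.range (locI D W g'' hr) ↔ g''.hom y ∈ D.i '' (W : Set D.Z.scheme) := by
      constructor
      · rintro ⟨w, rfl⟩
        refine ⟨W.ι w, w.2, ?_⟩
        have := congrArg (fun f => f w) (locI_fac D W g'' hr)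
        exact this.symm
      · rintro ⟨z, hz, hzy⟩
        refine ⟨⟨z, hz⟩, hinj ?_⟩
        have := congrArg (fun f => f ⟨z, hz⟩) (locI_fac D W g'' hr)
        exact this.trans hzy
    rw [Set.mem_compl_iff, h1, h2, D.range_eq]
    constructor
    · rintro h ⟨z, -, hz⟩
      exact h ⟨z, hz⟩
    · rintro h ⟨z, hz⟩
      by_cases hzW : z ∈ W
      · exact h ⟨z, hzW, hz⟩
      · exact hy ⟨z, hzW, hz⟩

include hdW in
lemma locDecomp_codim : (locDecomp D W g'' hr).codim = D.codim :=
  relCodim_loc D W hdW g''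

variable (T : BMCoh.PreTheory V R A)

/-- Residue maps localise. -/
lemma res_loc (M : A.Cat) (i n i' n' : ℤ) (hi : i' = i + 1 - 2 * D.codim)
    (hn : n' = n - D.codim) :
    T.res D M i n i' n' hi hn ≫ T.pull (D.Z.resι W hdW) M i' n' =
      T.res (locDecomp D W g'' hr) M i n i' n'
        (by rw [locDecomp_codim D W hdW g'' hr]; exact hi)
        (by rw [locDecomp_codim D W hdW g'' hr]; exact hn) := by
  have := T.res_pull D (locDecomp D W g'' hr) g'' (D.Z.resι W hdW) (𝟙 D.U)
    (locI_fac D W g'' hr).symm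
    (by show 𝟙 D.U ≫ D.j = locJ D W g'' hr ≫ g''; rw [Category.id_comp, locJ_fac])
    M i n i' n' hi hn
    (by rw [locDecomp_codim D W hdW g'' hr]; exact hi)
    (by rw [locDecomp_codim D W hdW g'' hr]; exact hn)
  rw [this]
  have h1 : ((T.H i n).map (𝟙 D.U : D.U ⟶ D.U).op).app M = 𝟙 _ := pull_id T D.U M i n
  rw [h1, Category.id_comp]

/-- Push-forwards localise. -/
lemma push_loc (M : A.Cat) (i n i' n' : ℤ)
    (hi : i = i' + 2 * relCodim D.Z.scheme Y.scheme)
    (hn : n = n' + relCodim D.Z.scheme Y.scheme) :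
    T.push D.i M i' n' i n hi hn ≫ T.pull g'' M i n =
      T.pull (D.Z.resι W hdW) M i' n' ≫ T.push (locI D W g'' hr) M i' n' i n
        (by rw [relCodim_loc D W hdW g'']; exact hi)
        (by rw [relCodim_loc D W hdW g'']; exact hn) :=
  T.push_pull D.i (locI D W g'' hr) g'' (D.Z.resι W hdW)
    (show IsPullback (D.Z.resι W hdW).hom (locI D W g'' hr) D.i g''.hom from
      (isPullback_loc D W g'' hr).flip)
    M i' n' i n hi hn _ _

end core

end Groth.Agent.Lib.helper27.BMLocal
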