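import Mathlib
import Groth.Prelude.Def_BMCoh2
import Groth.Agent.Lib.Helper27.BMLocal

namespace Groth.Agent.Lib.helper27.BMTopPts
universe u
set_option linter.unusedSectionVars false
set_option linter.style.haveILetI false
open CategoryTheory AlgebraicGeometry Opposite BMCoh Limits TopologicalSpace Topology Order
open Groth.Agent.Lib.helper27.BMBasic Groth.Agent.Lib.helper27.BMTop
  Groth.Agent.Lib.helper27.BMGeom Groth.Agent.Lib.helper27.BMColim
  Groth.Agent.Lib.helper27.BMCodim Groth.Agent.Lib.helper27.BMLift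
  Groth.Agent.Lib.helper27.BMDim Groth.Agent.Lib.helper27.BMVanish

variable {V : ObjectProperty Scheme.{u}} [BMCoh.IsConstructible V] {R : Type u} [CommRing R]
  {A : BMCoh.Coefs R} (T : BMCoh.PreTheory V R A)

lemma dim_sup_eq (Z : Obj V) (Wa Wb : Z.scheme.Opens)
    (ha : WeilCoh.dim (Wa : Scheme.{u}) = WeilCoh.dim Z.scheme) :
    WeilCoh.dim ((Wa ⊔ Wb : Z.scheme.Opens) : Scheme.{u}) = WeilCoh.dim Z.scheme := by
  refine le_antisymm (dim_opens_le Z _) ?_
  rw [← ha]
  exact dim_le_of_isInducing (Z.scheme.homOfLE (le_sup_left : Wa ≤ Wa ⊔ Wb))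
    (Z.scheme.homOfLE _).isOpenEmbedding.isInducing (finiteDim_opens Z _)

lemma range_resLE (Z : Obj V) {W W' : Z.scheme.Opens} (h : W ≤ W')
    (hd : WeilCoh.dim (W : Scheme.{u}) = WeilCoh.dim (W' : Scheme.{u})) :
    Set.range (Z.resLE h hd).hom = {p : ↥W' | p.1 ∈ W} := by
  show Set.range (Z.scheme.homOfLE h) = _
  have := congrArg (fun O : (W' : Scheme.{u}).Opens => O.1) (Z.scheme.opensRange_homOfLE h)
  exact this

/-- A class vanishing on two disjoint opens of full dimension vanishes on their union. -/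
lemma pull_sup_eq_zero (Z : Obj V) (Wa Wb : Z.scheme.Opens) (hdisj : Disjoint Wa Wb)
    (ha : WeilCoh.dim (Wa : Scheme.{u}) = WeilCoh.dim Z.scheme)
    (hb : WeilCoh.dim (Wb : Scheme.{u}) = WeilCoh.dim Z.scheme) (M : A.Cat) (k l : ℤ)
    (β : T.gp Z M k l) (hβa : (T.pull (Z.resι Wa ha) M k l).hom β = 0)
    (hβb : (T.pull (Z.resι Wb hb) M k l).hom β = 0) :
    (T.pull (Z.resι (Wa ⊔ Wb) (dim_sup_eq Z Wa Wb ha)) M k l).hom β = 0 := by
  have hs := dim_sup_eq Z Wa Wb ha
  let iX : Z.res Wa ⟶ Z.res (Wa ⊔ Wb) := Z.resLE le_sup_left (ha.trans hs.symm)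
  let iY : Z.res Wb ⟶ Z.res (Wa ⊔ Wb) := Z.resLE le_sup_right (hb.trans hs.symm)
  have h : Set.range iX.hom = (Set.range iY.hom)ᶜ := by
    rw [range_resLE, range_resLE]
    ext p
    show p.1 ∈ Wa ↔ ¬ p.1 ∈ Wb
    constructor
    · intro hpa hpb
      have : p.1 ∈ (Wa ⊓ Wb : Z.scheme.Opens) := ⟨hpa, hpb⟩
      rw [disjoint_iff.1 hdisj] at this
      exact this
    · intro hpb
      rcases p.2 with hp | hp
      · exact hp
      · exact absurd hp hpb
  have hinj := (pull_prod_bijective T iX iY h M k l).1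
  apply hinj
  have e1 : iX ≫ Z.resι (Wa ⊔ Wb) hs = Z.resι Wa ha :=
    Hom.ext (Scheme.homOfLE_ι Z.scheme (le_sup_left : Wa ≤ Wa ⊔ Wb))
  have e2 : iY ≫ Z.resι (Wa ⊔ Wb) hs = Z.resι Wb hb :=
    Hom.ext (Scheme.homOfLE_ι Z.scheme (le_sup_right : Wb ≤ Wa ⊔ Wb))
  simp only [map_zero]
  rw [← hβa, ← hβb, ← e1, ← e2, pull_comp, pull_comp]
  rfl

/-- The hypothesis on a point `z` of a reduced object `Z` used below: some irreducible object
with vanishing open-system colimit maps onto the closure of `z` by a closed immersion. -/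
def PtHyp (Z : Obj V) (M : A.Cat) (k l : ℤ) (z : Z.scheme) : Prop :=
  ∃ (S : Obj V) (_ : IrreducibleSpace S.scheme) (ι : S.scheme ⟶ Z.scheme)
    (_ : IsClosedImmersion ι), Set.range ι = closure ({z} : Set Z.scheme) ∧
      ∀ c : (T.ocolim S (fun U => (U : Set S.scheme).Nonempty) k l).obj M, c = 0

/-- A class on a reduced object vanishes on an open containing all points of codimension zero
at which the point hypothesis holds. -/
theorem exists_open_top_points (Z : Obj V) [IsReduced Z.scheme] (M : A.Cat) (k l : ℤ)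
    (hyp : ∀ z : Z.scheme, WeilCoh.pdim Z.scheme z = WeilCoh.dim Z.scheme → PtHyp T Z M k l z)
    (β : T.gp Z M k l) :
    ∃ W : Z.scheme.Opens, (∀ z : Z.scheme, WeilCoh.pdim Z.scheme z = WeilCoh.dim Z.scheme → z ∈ W) ∧
      (W = ⊥ ∨ ∃ hd : WeilCoh.dim (W : Scheme.{u}) = WeilCoh.dim Z.scheme,
        (T.pull (Z.resι W hd) M k l).hom β = 0) := by
  haveI : IsNoetherian Z.scheme := IsConstructible.isNoetherian Z.mem
  let 𝒲 : Set Z.scheme.Opens := {W | W = ⊥ ∨ ∃ hd : WeilCoh.dim (W : Scheme.{u}) = WeilCoh.dim Z.scheme,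
        (T.pull (Z.resι W hd) M k l).hom β = 0}
  have hwf : WellFounded ((· > ·) : Z.scheme.Opens → Z.scheme.Opens → Prop) :=
    (inferInstance : WellFoundedGT (Opens Z.scheme)).wf
  obtain ⟨Wm, hWm, hmax⟩ := hwf.has_min 𝒲 ⟨⊥, Or.inl rfl⟩
  refine ⟨Wm, fun z hz => ?_, hWm⟩
  by_contra hzW
  obtain ⟨S, _, ι, _, hrange, hzero⟩ := hyp z hz
  have hS : WeilCoh.dim S.scheme = WeilCoh.dim Z.scheme := by
    rw [dim_eq_natDim_range ι, hrange]
    exact hz
  have hcomp : Set.range ι ∈ irreducibleComponents Z.scheme := by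
    rw [hrange]
    exact closure_mem_irreducibleComponents z (eq_of_specializes_of_pdim_eq_dim Z z hz)
  obtain ⟨Wz, hdz, hne, hsub, hβz⟩ := exists_open_pull_eq_zero T ι hS hcomp M k l hzero β
  have hdisj : Disjoint Wm Wz := by
    rw [disjoint_iff]
    apply Opens.ext
    ext w
    simp only [Opens.coe_inf, Set.mem_inter_iff, SetLike.mem_coe, Opens.coe_bot,
      Set.mem_empty_iff_false, iff_false, not_and]
    intro hwm hwz
    have h1 : w ∈ closure ({z} : Set Z.scheme) := hrange ▸ hsub hwz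
    exact hzW ((specializes_iff_mem_closure.2 h1).mem_open Wm.2 hwm)
  obtain ⟨w, hw⟩ := hne
  rcases hWm with rfl | ⟨hdm, hβm⟩
  · refine hmax Wz (Or.inr ⟨hdz, hβz⟩) ?_
    exact lt_of_le_of_ne bot_le (fun h => by rw [← h] at hw; exact hw)
  · refine hmax (Wm ⊔ Wz) (Or.inr ⟨dim_sup_eq Z Wm Wz hdm,
      pull_sup_eq_zero T Z Wm Wz hdisj hdm hdz M k l β hβm hβz⟩) ?_
    refine lt_of_le_of_ne le_sup_left (fun h => ?_)
    have h2 : w ∈ Wm := by rw [h]; exact Or.inr hw
    have : w ∈ (Wm ⊓ Wz : Z.scheme.Opens) := ⟨h2, hw⟩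
    rw [disjoint_iff.1 hdisj] at this
    exact this

end Groth.Agent.Lib.helper27.BMTopPts
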