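import Mathlib
import Groth.Prelude.Def_BMCoh2
import Groth.Agent.Lib.Helper27.BMTopPts

namespace Groth.Agent.Lib.helper27.BMHyp
universe u
set_option linter.unusedSectionVars false
set_option linter.style.haveILetI false
open CategoryTheory AlgebraicGeometry Opposite BMCoh Limits TopologicalSpace Topology Order
open Groth.Agent.Lib.helper27.BMBasic Groth.Agent.Lib.helper27.BMTop
  Groth.Agent.Lib.helper27.BMGeom Groth.Agent.Lib.helper27.BMColim
  Groth.Agent.Lib.helper27.BMCodim Groth.Agent.Lib.helper27.BMLift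
  Groth.Agent.Lib.helper27.BMDim Groth.Agent.Lib.helper27.BMVanish
  Groth.Agent.Lib.helper27.BMTopPts

variable {V : ObjectProperty Scheme.{u}} [BMCoh.IsConstructible V] {R : Type u} [CommRing R]
  {A : BMCoh.Coefs R} (T : BMCoh.PreTheory V R A)

instance isReduced_ptSub (X : Obj V) (x : X.scheme) : IsReduced (X.ptSub x).scheme :=
  Groth.Agent.Lib.helper4.ClosureProper.isReduced_subscheme_vanishingIdeal _

/-- A morphism from a reduced scheme whose range lies in the range of a closed immersion from a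
reduced scheme factors through it. -/
lemma exists_lift_of_isReduced {Z S Y : Scheme.{u}} [IsReduced Z] [IsReduced S] (f : Z ⟶ Y)
    [IsClosedImmersion f] (g : S ⟶ Y) (h : Set.range g ⊆ Set.range f) :
    ∃ l : S ⟶ Z, l ≫ f = g := by
  have H : f.ker ≤ g.ker := by
    rw [Groth.Agent.Lib.helper4.ClosureProper.ker_eq_vanishingIdeal_range f,
      Groth.Agent.Lib.helper4.ClosureProper.ker_eq_vanishingIdeal_range g]
    apply Scheme.IdealSheafData.vanishingIdeal_antimono
    rw [Closeds.closure_le]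
    exact h.trans subset_closure
  exact ⟨IsClosedImmersion.lift f g H, IsClosedImmersion.lift_fac f g H⟩

/-- The point hypothesis at a point of a reduced closed subscheme of an open subobject of `X`
follows from the vanishing of the group of the corresponding point of `X`. -/
theorem ptHyp_of_ptGp {Y X : Obj V} (e : Y ⟶ X) (Z : Obj V) [IsReduced Z.scheme]
    (f : Z.scheme ⟶ Y.scheme) [IsClosedImmersion f] (z : Z.scheme) (M : A.Cat) (k l : ℤ)
    (hzero : ∀ c : T.ptGp X (e.hom (f z)) M k l, c = 0) : PtHyp T Z M k l z := by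
  set x := e.hom (f z) with hx
  let ι_x := X.ptSubι x
  let S₀ : (X.ptSub x).scheme.Opens := ι_x ⁻¹ᵁ e.hom.opensRange
  have hne : (S₀ : Set (X.ptSub x).scheme).Nonempty :=
    ⟨ptSubPt X x, by
      show ι_x (ptSubPt X x) ∈ Set.range e.hom
      rw [ptSubι_ptSubPt]; exact ⟨f z, rfl⟩⟩
  have hd : WeilCoh.dim (S₀ : Scheme.{u}) = WeilCoh.dim (X.ptSub x).scheme :=
    IsConstructible.dim_open (X.ptSub x).mem inferInstance S₀ hne
  haveI : Nonempty ((S₀ : Scheme.{u}) : Type u) := ⟨⟨hne.some, hne.some_mem⟩⟩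
  haveI : IrreducibleSpace ((X.ptSub x).res S₀).scheme :=
    S₀.ι.isOpenEmbedding.irreducibleSpace
  have hsub : Set.range (S₀.ι ≫ ι_x) ⊆ Set.range e.hom := by
    rintro _ ⟨s, rfl⟩
    exact s.2
  let ι_Y : (S₀ : Scheme.{u}) ⟶ Y.scheme := IsOpenImmersion.lift e.hom (S₀.ι ≫ ι_x) hsub
  have hfac : ι_Y ≫ e.hom = S₀.ι ≫ ι_x := IsOpenImmersion.lift_fac _ _ _
  have hpb : IsPullback ι_Y S₀.ι e.hom ι_x :=
    IsOpenImmersion.isPullback _ _ _ _ hfac.symm (by rw [Scheme.Opens.opensRange_ι])
  haveI : IsClosedImmersion ι_Y := MorphismProperty.of_isPullback hpb.flip inferInstance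
  have hrY : Set.range ι_Y = closure ({f z} : Set Y.scheme) := by
    rw [e.hom.isOpenEmbedding.isInducing.closure_eq_preimage_closure_image, Set.image_singleton]
    ext y
    constructor
    · rintro ⟨s, rfl⟩
      show e.hom (ι_Y s) ∈ closure {x}
      have : e.hom (ι_Y s) = ι_x (S₀.ι s) := congrArg (fun φ => φ s) hfac
      rw [this, ← range_ptSubι]
      exact ⟨_, rfl⟩
    · intro hy
      have hy' : e.hom y ∈ Set.range ι_x := by rw [range_ptSubι]; exact hy
      obtain ⟨s, hs⟩ := hy'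
      have hs' : s ∈ S₀ := by
        show ι_x s ∈ Set.range e.hom
        rw [hs]; exact ⟨y, rfl⟩
      refine ⟨⟨s, hs'⟩, e.hom.isOpenEmbedding.injective ?_⟩
      have : e.hom (ι_Y ⟨s, hs'⟩) = ι_x (S₀.ι ⟨s, hs'⟩) := congrArg (fun φ => φ ⟨s, hs'⟩) hfac
      rw [this]
      exact hs
  have hsubf : Set.range ι_Y ⊆ Set.range f := by
    rw [hrY]
    exact f.isClosedEmbedding.isClosed_range.closure_subset_iff.2 (by rintro _ rfl; exact ⟨z, rfl⟩)
  obtain ⟨ι, hι⟩ := exists_lift_of_isReduced f ι_Y hsubf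
  haveI : IsClosedImmersion (ι ≫ f) := by rw [hι]; infer_instance
  haveI : IsClosedImmersion ι := IsClosedImmersion.of_comp ι f
  refine ⟨(X.ptSub x).res S₀, inferInstance, ι, inferInstance, ?_, ?_⟩
  · rw [f.isClosedEmbedding.isInducing.closure_eq_preimage_closure_image, Set.image_singleton,
      ← hrY, ← hι]
    ext w
    constructor
    · rintro ⟨s, rfl⟩
      exact ⟨s, rfl⟩
    · rintro ⟨s, hs⟩
      exact ⟨s, f.isClosedEmbedding.injective hs⟩
  · exact ocolim_eq_zero_of_hom T ((X.ptSub x).resι S₀ hd) M k l hzero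

end Groth.Agent.Lib.helper27.BMHyp
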