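import Mathlib
import Groth.Prelude.Def_BMCoh2
import Groth.Agent.Lib.Helper27.BMHyp

namespace Groth.Agent.Lib.helper27.BMLoc2
universe u
set_option linter.unusedSectionVars false
set_option linter.style.haveILetI false
open CategoryTheory AlgebraicGeometry Opposite BMCoh Limits TopologicalSpace Topology Order
open Groth.Agent.Lib.helper27.BMBasic Groth.Agent.Lib.helper27.BMTop
  Groth.Agent.Lib.helper27.BMGeom Groth.Agent.Lib.helper27.BMColim
  Groth.Agent.Lib.helper27.BMCodim Groth.Agent.Lib.helper27.BMLift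
  Groth.Agent.Lib.helper27.BMDim Groth.Agent.Lib.helper27.BMVanish
  Groth.Agent.Lib.helper27.BMTopPts Groth.Agent.Lib.helper27.BMHyp
  Groth.Agent.Lib.helper27.BMLocal

variable {V : ObjectProperty Scheme.{u}} [BMCoh.IsConstructible V] {R : Type u} [CommRing R]
  {A : BMCoh.Coefs R} (T : BMCoh.PreTheory V R A)

/-- The open complement, in `Y`, of the image of the complement of `W` under the closed
immersion of a decomposition. -/
noncomputable def locOpen {Y : Obj V} (D : Decomp Y) (W : D.Z.scheme.Opens) : Y.scheme.Opens :=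
  ⟨(D.i '' (W : Set D.Z.scheme)ᶜ)ᶜ,
    (D.i.isClosedEmbedding.isClosedMap _ W.2.isClosed_compl).isOpen_compl⟩

lemma range_j_subset_locOpen {Y : Obj V} (D : Decomp Y) (W : D.Z.scheme.Opens) :
    Set.range D.j.hom ⊆ (locOpen D W : Set Y.scheme) := by
  rw [D.range_eq]
  rintro y hy ⟨z, -, rfl⟩
  exact hy ⟨z, rfl⟩

lemma dim_locOpen {Y : Obj V} (D : Decomp Y) (W : D.Z.scheme.Opens) :
    WeilCoh.dim (locOpen D W : Scheme.{u}) = WeilCoh.dim Y.scheme := by
  refine le_antisymm (dim_opens_le Y _) ?_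
  rw [← D.j.dim_eq]
  have hsub : Set.range D.j.hom ⊆ Set.range (locOpen D W).ι := by
    rw [Scheme.Opens.range_ι]; exact range_j_subset_locOpen D W
  let l := IsOpenImmersion.lift (locOpen D W).ι D.j.hom hsub
  haveI : IsOpenImmersion (l ≫ (locOpen D W).ι) := by
    rw [IsOpenImmersion.lift_fac]; infer_instance
  haveI : IsOpenImmersion l := IsOpenImmersion.of_comp l (locOpen D W).ι
  exact dim_le_of_isInducing l l.isOpenEmbedding.isInducing (finiteDim_opens Y _)

lemma mem_locOpen_of_mem {Y : Obj V} (D : Decomp Y) (W : D.Z.scheme.Opens) (z : D.Z.scheme)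
    (hz : z ∈ W) : D.i z ∈ (locOpen D W : Set Y.scheme) := by
  rintro ⟨z', hz', hzz'⟩
  exact hz' (D.i.isClosedEmbedding.injective hzz' ▸ hz)

section
variable {Y' Y X : Obj V} (e : Y ⟶ X) (g : Y' ⟶ Y) (m : ℕ) (M : A.Cat)
  (hge : ∀ z : (decompOfHom g).Z.scheme, m ≤ WeilCoh.codim X.scheme (e.hom ((decompOfHom g).i z)))

include hge in
/-- The common part of the two localisation lemmas: a class `β` on the closed part vanishes on
an open containing all the points of codimension exactly `m`. -/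
lemma exists_open_of_ptGp (k l : ℤ)
    (hpt : ∀ x : X.scheme, WeilCoh.codim X.scheme x = m → ∀ c : T.ptGp X x M k l, c = 0)
    (hz₀ : ∃ z₀ : (decompOfHom g).Z.scheme,
      WeilCoh.codim X.scheme (e.hom ((decompOfHom g).i z₀)) = m)
    (β : T.gp (decompOfHom g).Z M k l) :
    ∃ (W : (decompOfHom g).Z.scheme.Opens)
      (hd : WeilCoh.dim (W : Scheme.{u}) = WeilCoh.dim (decompOfHom g).Z.scheme),
      (∀ z : (decompOfHom g).Z.scheme,
        WeilCoh.codim X.scheme (e.hom ((decompOfHom g).i z)) = m → z ∈ W) ∧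
      (T.pull ((decompOfHom g).Z.resι W hd) M k l).hom β = 0 := by
  obtain ⟨-, -, htop⟩ := dimFacts e (decompOfHom g) m hge hz₀
  obtain ⟨W, hW, hβ⟩ := exists_open_top_points T (decompOfHom g).Z M k l
    (fun z hz => ptHyp_of_ptGp T e (decompOfHom g).Z (decompOfHom g).i z M k l
      (hpt _ ((htop z).1 hz))) β
  obtain ⟨z₀, hz₀⟩ := hz₀
  have hz₀W : z₀ ∈ W := hW z₀ ((htop z₀).2 hz₀)
  rcases hβ with rfl | ⟨hd, hβ⟩
  · exact absurd hz₀W (by simp)
  · exact ⟨W, hd, fun z hz => hW z ((htop z).2 hz), hβ⟩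

include hge in
theorem loc_inj (i n k l : ℤ) (hk : k = i - 2 * (m : ℤ)) (hl : l = n - (m : ℤ))
    (hpt : ∀ x : X.scheme, WeilCoh.codim X.scheme x = m → ∀ c : T.ptGp X x M k l, c = 0)
    (b : T.gp Y M i n) (hb : (T.pull g M i n).hom b = 0) :
    ∃ (Y'' : Obj V) (g'' : Y'' ⟶ Y), Set.range g.hom ⊆ Set.range g''.hom ∧
      (∀ z : (decompOfHom g).Z.scheme,
        WeilCoh.codim X.scheme (e.hom ((decompOfHom g).i z)) = m →
          (decompOfHom g).i z ∈ Set.range g''.hom) ∧
      (T.pull g'' M i n).hom b = 0 := by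
  by_cases hz₀ : ∃ z₀ : (decompOfHom g).Z.scheme,
      WeilCoh.codim X.scheme (e.hom ((decompOfHom g).i z₀)) = m
  · obtain ⟨-, hrc, -⟩ := dimFacts e (decompOfHom g) m hge hz₀
    set D := decompOfHom g with hD
    have hi' : i = k + 2 * relCodim D.Z.scheme Y.scheme := by rw [hrc, hk]; ring
    have hn' : n = l + relCodim D.Z.scheme Y.scheme := by rw [hrc, hl]; ring
    obtain ⟨β, hβ⟩ := ((exact_push_pull' T D M i n k l hi' hn') b).1 hb
    obtain ⟨W, hdW, hW, hβW⟩ := exists_open_of_ptGp T e g m M hge k l hpt hz₀ β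
    have hdO := dim_locOpen D W
    refine ⟨Y.res (locOpen D W), Y.resι _ hdO, ?_, ?_, ?_⟩
    · rw [range_resι]; exact range_j_subset_locOpen D W
    · intro z hz
      rw [range_resι]
      exact mem_locOpen_of_mem D W z (hW z hz)
    · have hr : Set.range (Y.resι _ hdO).hom = (D.i '' (W : Set D.Z.scheme)ᶜ)ᶜ := by
        rw [range_resι]; rfl
      have := push_loc D W hdW (Y.resι _ hdO) hr T M i n k l hi' hn'
      have h2 := congrArg (fun φ => φ.hom β) this
      simp only [ModuleCat.hom_comp, LinearMap.comp_apply] at h2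
      rw [← hβ]
      refine h2.trans ?_
      rw [hβW, map_zero]
  · exact ⟨Y', g, le_rfl, fun z hz => absurd ⟨z, hz⟩ hz₀, hb⟩

include hge in
theorem loc_surj (i n k l : ℤ) (hk : k = i + 1 - 2 * (m : ℤ)) (hl : l = n - (m : ℤ))
    (hpt : ∀ x : X.scheme, WeilCoh.codim X.scheme x = m → ∀ c : T.ptGp X x M k l, c = 0)
    (b' : T.gp Y' M i n) :
    ∃ (Y'' : Obj V) (g'' : Y'' ⟶ Y) (j'' : Y' ⟶ Y'') (b'' : T.gp Y'' M i n),
      j'' ≫ g'' = g ∧
      (∀ z : (decompOfHom g).Z.scheme,
        WeilCoh.codim X.scheme (e.hom ((decompOfHom g).i z)) = m →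
          (decompOfHom g).i z ∈ Set.range g''.hom) ∧
      (T.pull j'' M i n).hom b'' = b' := by
  by_cases hz₀ : ∃ z₀ : (decompOfHom g).Z.scheme,
      WeilCoh.codim X.scheme (e.hom ((decompOfHom g).i z₀)) = m
  · obtain ⟨-, hrc, -⟩ := dimFacts e (decompOfHom g) m hge hz₀
    set D := decompOfHom g with hD
    have hrc' : D.codim = m := hrc
    have hi' : k = i + 1 - 2 * D.codim := by rw [hrc', hk]
    have hn' : l = n - D.codim := by rw [hrc', hl]
    obtain ⟨W, hdW, hW, hβW⟩ := exists_open_of_ptGp T e g m M hge k l hpt hz₀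
      ((T.res D M i n k l hi' hn').hom b')
    have hdO := dim_locOpen D W
    have hr : Set.range (Y.resι _ hdO).hom = (D.i '' (W : Set D.Z.scheme)ᶜ)ᶜ := by
      rw [range_resι]; rfl
    have h1 := res_loc D W hdW (Y.resι _ hdO) hr T M i n k l hi' hn'
    have h2 := congrArg (fun φ => φ.hom b') h1
    simp only [ModuleCat.hom_comp, LinearMap.comp_apply] at h2
    rw [hβW] at h2
    obtain ⟨b'', hb''⟩ := ((T.exact_pull_res (locDecomp D W (Y.resι _ hdO) hr) M i n k l
      (by rw [locDecomp_codim D W hdW]; exact hi')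
      (by rw [locDecomp_codim D W hdW]; exact hn')) b').1 h2.symm
    refine ⟨Y.res (locOpen D W), Y.resι _ hdO, locJ D W (Y.resι _ hdO) hr, b'',
      locJ_fac D W (Y.resι _ hdO) hr, ?_, hb''⟩
    intro z hz
    rw [range_resι]
    exact mem_locOpen_of_mem D W z (hW z hz)
  · exact ⟨Y', g, 𝟙 _, b', Category.id_comp _, fun z hz => absurd ⟨z, hz⟩ hz₀, by
      rw [pull_id]; rfl⟩

end

end Groth.Agent.Lib.helper27.BMLoc2
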