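import Mathlib
import Groth.Prelude.Def_BMCoh2
import Groth.Agent.Lib.Helper27.BMLoc2

namespace Groth.Agent.Lib.helper27.BMFjRes
universe u
set_option linter.unusedSectionVars false
set_option linter.style.haveILetI false
open CategoryTheory AlgebraicGeometry Opposite BMCoh Limits TopologicalSpace Topology Order
open Groth.Agent.Lib.helper27.BMBasic Groth.Agent.Lib.helper27.BMTop
  Groth.Agent.Lib.helper27.BMGeom Groth.Agent.Lib.helper27.BMColim
  Groth.Agent.Lib.helper27.BMCodim Groth.Agent.Lib.helper27.BMLift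
  Groth.Agent.Lib.helper27.BMDim Groth.Agent.Lib.helper27.BMVanish
  Groth.Agent.Lib.helper27.BMTopPts Groth.Agent.Lib.helper27.BMHyp
  Groth.Agent.Lib.helper27.BMLocal Groth.Agent.Lib.helper27.BMLoc2

variable {V : ObjectProperty Scheme.{u}} [BMCoh.IsConstructible V] {R : Type u} [CommRing R]
  {A : BMCoh.Coefs R} (T : BMCoh.PreTheory V R A)

/-- From an open subobject `g'' : Y'' ⟶ X` produce the index open of its range. -/
lemma pull_resι_opensRange_eq_zero {Y'' Y X : Obj V} (g'' : Y'' ⟶ Y) (e : Y ⟶ X)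
    (U'' : X.scheme.Opens) (hU'' : (U'' : Set X.scheme) = Set.range (g'' ≫ e).hom)
    (hd'' : WeilCoh.dim (U'' : Scheme.{u}) = WeilCoh.dim X.scheme)
    (ρ : X.res U'' ⟶ Y) (hρ : ρ ≫ e = X.resι U'' hd'') (M : A.Cat) (i n : ℤ)
    (b : T.gp Y M i n) (hb : (T.pull g'' M i n).hom b = 0) :
    (T.pull ρ M i n).hom b = 0 := by
  have hr : Set.range (g'' ≫ e).hom = Set.range (X.resι U'' hd'').hom := by
    rw [range_resι, hU'']
  let θ : Y'' ⟶ X.res U'' := liftHom (g'' ≫ e) (X.resι U'' hd'') hr.le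
  haveI : IsIso θ.hom := isIso_liftHom _ _ hr
  have hθ : θ ≫ ρ = g'' := by
    rw [← cancel_mono e, Category.assoc, hρ, liftHom_fac]
  apply (pull_bijective_of_isIso T θ M i n).1
  rw [map_zero, ← hb, ← hθ, pull_comp]
  rfl

variable (X : Obj V) (M : A.Cat) (j : ℕ) (i n : ℤ)

lemma fjRes_ι (U : Idx X (ContainsFj X (j + 1))) (b : T.gp (X.res U.1) M i n) :
    ((T.fjRes X (Nat.le_succ j) i n).app M).hom
      (((T.ocolimι X (ContainsFj X (j + 1)) i n U).app M).hom b) =
    ((T.ocolimι X (ContainsFj X j) i n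
      ⟨U.1, containsFj_mono X (Nat.le_succ j) U.1 U.2.1, U.2.2⟩).app M).hom b :=
  ocolimι_map_apply T X _ i n M _ U b

theorem fjRes_injective
    (h0 : ∀ x : X.scheme, WeilCoh.codim X.scheme x = j + 1 →
      ∀ c : T.ptGp X x M (i - 2 * ((j : ℤ) + 1)) (n - ((j : ℤ) + 1)), c = 0) :
    Function.Injective ((T.fjRes X (Nat.le_succ j) i n).app M).hom := by
  rw [injective_iff_map_eq_zero]
  intro a ha
  obtain ⟨U, b, rfl⟩ := exists_rep T X _ i n M a
  rw [fjRes_ι] at ha
  obtain ⟨U', hle, hU'⟩ := (ι_eq_zero_iff T X (ContainsFj X j) i n M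
    ⟨U.1, containsFj_mono X (Nat.le_succ j) U.1 U.2.1, U.2.2⟩ b).1 ha
  have hle' : U'.1 ≤ U.1 := hle
  let e : X.res U.1 ⟶ X := X.resι U.1 U.2.2
  let g : X.res U'.1 ⟶ X.res U.1 := X.resLE hle' (U'.2.2.trans U.2.2.symm)
  have hb : (T.pull g M i n).hom b = 0 := hU'
  have hge : ∀ z : (decompOfHom g).Z.scheme,
      (j + 1) ≤ WeilCoh.codim X.scheme (e.hom ((decompOfHom g).i z)) := by
    intro z
    by_contra hlt
    have h1 : e.hom ((decompOfHom g).i z) ∈ U'.1 := U'.2.1 _ (by omega)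
    have h2 : (decompOfHom g).i z ∈ Set.range (decompOfHom g).i := ⟨z, rfl⟩
    rw [range_decompOfHom_i, range_resLE] at h2
    exact h2 h1
  obtain ⟨Y'', g'', hsub, hpts, hb''⟩ := loc_inj T e g (j + 1) M hge i n _ _
    (by push_cast; rfl) (by push_cast; rfl) (by exact_mod_cast h0) b hb
  -- the index
  let U'' : X.scheme.Opens := (g'' ≫ e).hom.opensRange
  have hU''le : U'' ≤ U.1 := by
    rintro _ ⟨y, rfl⟩
    exact ((g''.hom y : ↥U.1)).2
  have hF : ContainsFj X (j + 1) U'' := by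
    intro y hy
    have hyU : y ∈ U.1 := U.2.1 y hy
    by_cases hyU' : y ∈ U'.1
    · have : (⟨y, hyU⟩ : ↥U.1) ∈ Set.range g.hom := by
        rw [range_resLE]; exact hyU'
      obtain ⟨y'', hy''⟩ := hsub this
      exact ⟨y'', by
        show e.hom (g''.hom y'') = y
        rw [hy'']; rfl⟩
    · have : (⟨y, hyU⟩ : ↥U.1) ∈ Set.range (decompOfHom g).i := by
        rw [range_decompOfHom_i, range_resLE]; exact hyU'
      obtain ⟨z, hz⟩ := this
      have hcod : WeilCoh.codim X.scheme (e.hom ((decompOfHom g).i z)) = j + 1 := by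
        have h1 := hge z
        have h2 : e.hom ((decompOfHom g).i z) = y := by rw [hz]; rfl
        rw [h2] at h1 ⊢
        omega
      obtain ⟨y'', hy''⟩ := hpts z (by exact_mod_cast hcod)
      exact ⟨y'', by
        show e.hom (g''.hom y'') = y
        rw [hy'', hz]; rfl⟩
  have hd'' := dim_eq_of_containsFj X (j + 1) U'' hF
  let I'' : Idx X (ContainsFj X (j + 1)) := ⟨U'', hF, hd''⟩
  have hI'' : I'' ≤ U := hU''le
  rw [← ocolimι_idxRes_apply T X _ i n M hI'']
  have : (idxRes T X _ i n M hI'').hom b = 0 := by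
    refine pull_resι_opensRange_eq_zero T g'' e U'' rfl hd''
      (X.resLE hU''le (hd''.trans U.2.2.symm)) ?_ M i n b hb''
    exact Hom.ext (Scheme.homOfLE_ι X.scheme hU''le)
  rw [this, map_zero]

theorem fjRes_surjective
    (h1 : ∀ x : X.scheme, WeilCoh.codim X.scheme x = j + 1 →
      ∀ c : T.ptGp X x M (i + 1 - 2 * ((j : ℤ) + 1)) (n - ((j : ℤ) + 1)), c = 0) :
    Function.Surjective ((T.fjRes X (Nat.le_succ j) i n).app M).hom := by
  intro a'
  obtain ⟨U', b', rfl⟩ := exists_rep T X (ContainsFj X j) i n M a'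
  let e : X ⟶ X := 𝟙 X
  let g : X.res U'.1 ⟶ X := X.resι U'.1 U'.2.2
  have hge : ∀ z : (decompOfHom g).Z.scheme,
      (j + 1) ≤ WeilCoh.codim X.scheme (e.hom ((decompOfHom g).i z)) := by
    intro z
    by_contra hlt
    have h1 : e.hom ((decompOfHom g).i z) ∈ U'.1 := U'.2.1 _ (by omega)
    have h2 : (decompOfHom g).i z ∈ Set.range (decompOfHom g).i := ⟨z, rfl⟩
    rw [range_decompOfHom_i, range_resι] at h2
    exact h2 h1
  obtain ⟨Y'', g'', j'', b'', hfac, hpts, hb''⟩ := loc_surj T e g (j + 1) M hge i n _ _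
    (by push_cast; rfl) (by push_cast; rfl) (by exact_mod_cast h1) b'
  let U'' : X.scheme.Opens := g''.hom.opensRange
  have hU'le : U'.1 ≤ U'' := by
    intro y hy
    have : y ∈ Set.range g.hom := by rw [range_resι]; exact hy
    obtain ⟨p, hp⟩ := this
    refine ⟨j''.hom p, ?_⟩
    have := congrArg (fun φ => φ.hom p) hfac
    exact this.trans hp
  have hF : ContainsFj X (j + 1) U'' := by
    intro y hy
    by_cases hyU' : y ∈ U'.1
    · exact hU'le hyU'
    · have : y ∈ Set.range (decompOfHom g).i := by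
        rw [range_decompOfHom_i, range_resι]; exact hyU'
      obtain ⟨z, hz⟩ := this
      have hcod : WeilCoh.codim X.scheme (e.hom ((decompOfHom g).i z)) = j + 1 := by
        have h1 := hge z
        have h2 : e.hom ((decompOfHom g).i z) = y := hz
        rw [h2] at h1 ⊢
        omega
      obtain ⟨y'', hy''⟩ := hpts z (by exact_mod_cast hcod)
      exact ⟨y'', hy''.trans hz⟩
  have hd'' := dim_eq_of_containsFj X (j + 1) U'' hF
  let I'' : Idx X (ContainsFj X (j + 1)) := ⟨U'', hF, hd''⟩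
  have hr : Set.range g''.hom = Set.range (X.resι U'' hd'').hom := by
    rw [range_resι]; rfl
  let θ : Y'' ⟶ X.res U'' := liftHom g'' (X.resι U'' hd'') hr.le
  haveI : IsIso θ.hom := isIso_liftHom _ _ hr
  obtain ⟨b₃, hb₃⟩ := (pull_bijective_of_isIso T θ M i n).2 b''
  refine ⟨((T.ocolimι X (ContainsFj X (j + 1)) i n I'').app M).hom b₃, ?_⟩
  rw [fjRes_ι]
  have hle : U' ≤ (⟨U'', containsFj_mono X (Nat.le_succ j) U'' hF, hd''⟩ :
      Idx X (ContainsFj X j)) := hU'le
  rw [← ocolimι_idxRes_apply T X (ContainsFj X j) i n M hle]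
  congr 1
  have hsq : X.resLE hU'le (U'.2.2.trans hd''.symm) = j'' ≫ θ := by
    rw [← cancel_mono (X.resι U'' hd''), Category.assoc, liftHom_fac, hfac]
    exact Hom.ext (Scheme.homOfLE_ι X.scheme hU'le)
  show (T.pull (X.resLE hU'le (U'.2.2.trans hd''.symm)) M i n).hom b₃ = b'
  rw [hsq, pull_comp, ← hb'', ← hb₃]
  rfl

theorem fjRes_bijective
    (h0 : ∀ x : X.scheme, WeilCoh.codim X.scheme x = j + 1 →
      ∀ c : T.ptGp X x M (i - 2 * ((j : ℤ) + 1)) (n - ((j : ℤ) + 1)), c = 0)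
    (h1 : ∀ x : X.scheme, WeilCoh.codim X.scheme x = j + 1 →
      ∀ c : T.ptGp X x M (i + 1 - 2 * ((j : ℤ) + 1)) (n - ((j : ℤ) + 1)), c = 0) :
    Function.Bijective ((T.fjRes X (Nat.le_succ j) i n).app M).hom :=
  ⟨fjRes_injective T X M j i n h0, fjRes_surjective T X M j i n h1⟩

end Groth.Agent.Lib.helper27.BMFjRes
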