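import Mathlib
import Groth.Prelude.Def_BMCoh3
import Groth.Agent.Lib.Helper27.BMFjRes

namespace Groth.Agent.Lib.helper27.BMPiece
universe u
set_option linter.unusedSectionVars false
set_option linter.style.haveILetI false
open CategoryTheory AlgebraicGeometry Opposite BMCoh Limits TopologicalSpace Topology Order
open Groth.Agent.Lib.helper27.BMBasic Groth.Agent.Lib.helper27.BMTop
  Groth.Agent.Lib.helper27.BMGeom Groth.Agent.Lib.helper27.BMColim
  Groth.Agent.Lib.helper27.BMCodim Groth.Agent.Lib.helper27.BMLift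
  Groth.Agent.Lib.helper27.BMDim Groth.Agent.Lib.helper27.BMVanish
  Groth.Agent.Lib.helper27.BMTopPts Groth.Agent.Lib.helper27.BMHyp
  Groth.Agent.Lib.helper27.BMLocal Groth.Agent.Lib.helper27.BMLoc2
  Groth.Agent.Lib.helper27.BMFjRes

variable {V : ObjectProperty Scheme.{u}} [BMCoh.IsConstructible V] {R : Type u} [CommRing R]
  {A : BMCoh.Coefs R}

section top
variable {T : Type u} [TopologicalSpace T] [T0Space T] [QuasiSober T]

lemma ht_lt_of_specializes_ne (hT : topologicalKrullDim T < ⊤) {x y : T} (h : x ⤳ y)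
    (hne : y ≠ x) : (ht y).toNat < (ht x).toNat := by
  let _ : PartialOrder T := specializationOrder T
  have hlt : y < x := lt_of_le_of_ne h hne
  have h1 : ht y + 1 ≤ ht x := height_add_one_le hlt
  have h2 := ht_le_natDim' hT x
  have hx : ht x ≠ ⊤ := ne_top_of_le_ne_top (ENat.natCast_ne_top _) h2
  have hy : ht y ≠ ⊤ := ne_top_of_le_ne_top hx ((le_self_add).trans h1)
  lift ht x to ℕ using hx with a
  lift ht y to ℕ using hy with b
  have : b + 1 ≤ a := by exact_mod_cast h1
  simpa using this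

end top

lemma pdim_lt_of_specializes_ne (X : Obj V) {x y : X.scheme} (h : x ⤳ y) (hne : y ≠ x) :
    WeilCoh.pdim X.scheme y < WeilCoh.pdim X.scheme x := by
  rw [pdim_eq_ht, pdim_eq_ht]
  exact ht_lt_of_specializes_ne (finiteDim X) h hne

section piece
variable (X : Obj V) (x : X.scheme) (W : ptIdx X x)

lemma ptSubPt_mem : ptSubPt X x ∈ W.1 := by
  obtain ⟨w, hw⟩ := W.2.1
  have h1 : X.ptSubι x w ∈ closure ({x} : Set X.scheme) := by
    rw [← range_ptSubι]; exact ⟨w, rfl⟩
  have h2 : X.ptSubι x (ptSubPt X x) ⤳ X.ptSubι x w := by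
    rw [ptSubι_ptSubPt]; exact specializes_iff_mem_closure.2 h1
  have h3 : ptSubPt X x ⤳ w :=
    ((X.ptSubι x).isClosedEmbedding.isInducing.specializes_iff).1 h2
  exact h3.mem_open W.1.2 hw

/-- The open of `X` obtained by removing the part of the closure of `x` outside `W`. -/
noncomputable def pieceOpen : X.scheme.Opens :=
  ⟨(X.ptSubι x '' (W.1 : Set (X.ptSub x).scheme)ᶜ)ᶜ,
    ((X.ptSubι x).isClosedEmbedding.isClosedMap _ W.1.2.isClosed_compl).isOpen_compl⟩

lemma preimage_pieceOpen : X.ptSubι x ⁻¹ᵁ pieceOpen X x W = W.1 := by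
  apply Opens.ext
  show X.ptSubι x ⁻¹' (X.ptSubι x '' (W.1 : Set (X.ptSub x).scheme)ᶜ)ᶜ = _
  rw [Set.preimage_compl, Set.preimage_image_eq _ (X.ptSubι x).isClosedEmbedding.injective,
    compl_compl]

lemma containsFj_pieceOpen (j : ℕ) (hx : WeilCoh.codim X.scheme x = j) :
    ContainsFj X j (pieceOpen X x W) := by
  rintro y hy ⟨s, hs, rfl⟩
  have h1 : X.ptSubι x s ∈ closure ({x} : Set X.scheme) := by
    rw [← range_ptSubι]; exact ⟨s, rfl⟩
  have hne : X.ptSubι x s ≠ x := by
    intro h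
    have h' : X.ptSubι x s = X.ptSubι x (ptSubPt X x) := h.trans (ptSubι_ptSubPt X x).symm
    have := (X.ptSubι x).isClosedEmbedding.injective h'
    exact hs (this ▸ ptSubPt_mem X x W)
  have h2 := pdim_lt_of_specializes_ne X (specializes_iff_mem_closure.2 h1) hne
  have h3 := pdim_le_dim X x
  unfold WeilCoh.codim at hy hx
  omega

lemma dim_pieceOpen (j : ℕ) (hx : WeilCoh.codim X.scheme x = j) :
    WeilCoh.dim (pieceOpen X x W : Scheme.{u}) = WeilCoh.dim X.scheme :=
  dim_eq_of_containsFj X j _ (containsFj_pieceOpen X x W j hx)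

lemma range_comp_subset_pieceOpen :
    Set.range (W.1.ι ≫ X.ptSubι x) ⊆ Set.range (pieceOpen X x W).ι := by
  rw [Scheme.Opens.range_ι]
  rintro _ ⟨w, rfl⟩ ⟨s, hs, hsw⟩
  have : s = W.1.ι w := (X.ptSubι x).isClosedEmbedding.injective hsw
  exact hs (this ▸ w.2)

/-- The closed immersion of the piece `W` of the closure of `x` into the open `pieceOpen`. -/
noncomputable def pieceI : ((X.ptSub x).res W.1).scheme ⟶ (X.res (pieceOpen X x W)).scheme :=
  IsOpenImmersion.lift (pieceOpen X x W).ι (W.1.ι ≫ X.ptSubι x)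
    (range_comp_subset_pieceOpen X x W)

@[reassoc]
lemma pieceI_fac : pieceI X x W ≫ (pieceOpen X x W).ι = W.1.ι ≫ X.ptSubι x :=
  IsOpenImmersion.lift_fac _ _ _

lemma isPullback_piece :
    IsPullback (pieceI X x W) W.1.ι (pieceOpen X x W).ι (X.ptSubι x) :=
  IsOpenImmersion.isPullback _ _ _ _ (pieceI_fac X x W).symm (by
    rw [Scheme.Opens.opensRange_ι, Scheme.Opens.opensRange_ι, preimage_pieceOpen])

instance : IsClosedImmersion (pieceI X x W) :=
  MorphismProperty.of_isPullback (isPullback_piece X x W).flip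
    (inferInstance : IsClosedImmersion (X.ptSubι x))

lemma relCodim_piece (j : ℕ) (hx : WeilCoh.codim X.scheme x = j) :
    relCodim ((X.ptSub x).res W.1).scheme (X.res (pieceOpen X x W)).scheme = j := by
  unfold relCodim
  have h1 : WeilCoh.dim ((X.ptSub x).res W.1).scheme = WeilCoh.pdim X.scheme x :=
    W.2.2.trans (dim_ptSub X x)
  have h2 : WeilCoh.dim (X.res (pieceOpen X x W)).scheme = WeilCoh.dim X.scheme :=
    dim_pieceOpen X x W j hx
  rw [h1, h2]
  have h3 := pdim_le_dim X x
  unfold WeilCoh.codim at hx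
  omega

end piece

end Groth.Agent.Lib.helper27.BMPiece
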