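import Mathlib
import Groth.Prelude.Def_BMCoh3
import Groth.Agent.Lib.Helper27.BMPiece

namespace Groth.Agent.Lib.helper27.BMResDecomp
universe u
set_option linter.unusedSectionVars false
set_option linter.style.haveILetI false
open CategoryTheory AlgebraicGeometry Opposite BMCoh Limits TopologicalSpace Topology Order
open Groth.Agent.Lib.helper27.BMBasic Groth.Agent.Lib.helper27.BMTop
  Groth.Agent.Lib.helper27.BMGeom Groth.Agent.Lib.helper27.BMColim
  Groth.Agent.Lib.helper27.BMDim Groth.Agent.Lib.helper27.BMPiece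
  Groth.Agent.Lib.helper27.BMLift Groth.Agent.Lib.helper27.BMTopPts

variable {V : ObjectProperty Scheme.{u}} [BMCoh.IsConstructible V] {R : Type u} [CommRing R]
  {A : BMCoh.Coefs R}

section top
variable {T : Type u} [TopologicalSpace T] [T0Space T] [QuasiSober T]

lemma ht_le_of_specializes (hT : topologicalKrullDim T < ⊤) {x y : T} (h : x ⤳ y) :
    (ht y).toNat ≤ (ht x).toNat := by
  let _ : PartialOrder T := specializationOrder T
  have h1 : ht y ≤ ht x := height_mono (show y ≤ x from h)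
  have h2 := ht_le_natDim' hT x
  exact ENat.toNat_le_toNat h1 (ne_top_of_le_ne_top (ENat.natCast_ne_top _) h2)

end top

lemma pdim_le_of_specializes (X : Obj V) {x y : X.scheme} (h : x ⤳ y) :
    WeilCoh.pdim X.scheme y ≤ WeilCoh.pdim X.scheme x := by
  rw [pdim_eq_ht, pdim_eq_ht]
  exact ht_le_of_specializes (finiteDim X) h

lemma codim_le_of_specializes (X : Obj V) {x y : X.scheme} (h : x ⤳ y) :
    WeilCoh.codim X.scheme x ≤ WeilCoh.codim X.scheme y := by
  have := pdim_le_of_specializes X h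
  unfold WeilCoh.codim
  omega

section
variable (X : Obj V) (x : X.scheme) (Y : X.scheme.Opens)

/-- The complement of the closure of `x`, as an open. -/
def clCompl : X.scheme.Opens := ⟨(closure ({x} : Set X.scheme))ᶜ, isClosed_closure.isOpen_compl⟩

/-- `Y` minus the closure of `x`. -/
def openPart : X.scheme.Opens := Y ⊓ clCompl X x

/-- The part of the reduced closure of `x` over `Y`. -/
noncomputable abbrev pieceW : (X.ptSub x).scheme.Opens := X.ptSubι x ⁻¹ᵁ Y

variable {X x Y}

lemma containsFj_openPart {j : ℕ} (hx : WeilCoh.codim X.scheme x = j + 1)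
    (hF : ContainsFj X j Y) : ContainsFj X j (openPart X x Y) := by
  intro y hy
  refine ⟨hF y hy, fun hmem => ?_⟩
  have := codim_le_of_specializes X (specializes_iff_mem_closure.2 hmem)
  omega

lemma pieceW_nonempty (hxY : x ∈ Y) : (pieceW X x Y : Set (X.ptSub x).scheme).Nonempty :=
  ⟨ptSubPt X x, by show X.ptSubι x (ptSubPt X x) ∈ Y; rw [ptSubι_ptSubPt]; exact hxY⟩

variable (X x Y) in
/-- The index of the piece of the closure of `x` over `Y`. -/
noncomputable abbrev pieceIdx (hxY : x ∈ Y) : ptIdx X x :=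
  ⟨pieceW X x Y, pieceW_nonempty hxY,
    IsConstructible.dim_open (X.ptSub x).mem inferInstance _ (pieceW_nonempty hxY)⟩

variable (X x Y) in
/-- The decomposition of the open `Y ∋ x` of `X` into the piece of the closure of `x` in it and
the rest. -/
noncomputable abbrev resDecomp (hxY : x ∈ Y) {j : ℕ} (hx : WeilCoh.codim X.scheme x = j + 1)
    (hF : ContainsFj X j Y) : Decomp (X.res Y) where
  Z := (X.ptSub x).res (pieceW X x Y)
  U := X.res (openPart X x Y)
  i := X.ptSubι x ∣_ Y
  closedImm := inferInstance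
  j := X.resLE (inf_le_left : openPart X x Y ≤ Y)
    ((dim_eq_of_containsFj X j _ (containsFj_openPart hx hF)).trans
      (dim_eq_of_containsFj X j _ hF).symm)
  range_eq := by
    rw [range_resLE]
    ext p
    show (p.1 ∈ Y ∧ p.1 ∈ clCompl X x) ↔ p ∉ Set.range (X.ptSubι x ∣_ Y)
    constructor
    · rintro ⟨-, hp⟩ ⟨s, hs⟩
      apply hp
      have : p.1 = X.ptSubι x s.1 := by rw [← hs, morphismRestrict_base_coe]
      rw [this, ← range_ptSubι]
      exact ⟨_, rfl⟩
    · intro hp
      refine ⟨p.2, fun hmem => hp ?_⟩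
      rw [← range_ptSubι] at hmem
      obtain ⟨s, hs⟩ := hmem
      refine ⟨⟨s, by show X.ptSubι x s ∈ Y; rw [hs]; exact p.2⟩, ?_⟩
      apply Subtype.ext
      rw [morphismRestrict_base_coe]
      exact hs

lemma resDecomp_codim (hxY : x ∈ Y) {j : ℕ} (hx : WeilCoh.codim X.scheme x = j + 1)
    (hF : ContainsFj X j Y) : (resDecomp X x Y hxY hx hF).codim = (j : ℤ) + 1 := by
  show relCodim ((X.ptSub x).res (pieceW X x Y)).scheme (X.res Y).scheme = _
  unfold relCodim
  have h1 : WeilCoh.dim ((X.ptSub x).res (pieceW X x Y)).scheme = WeilCoh.pdim X.scheme x :=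
    (pieceIdx X x Y hxY).2.2.trans (dim_ptSub X x)
  have h2 : WeilCoh.dim (X.res Y).scheme = WeilCoh.dim X.scheme := dim_eq_of_containsFj X j _ hF
  rw [h1, h2]
  have h3 := pdim_le_dim X x
  unfold WeilCoh.codim at hx
  omega

end

variable (T : BMCoh.PreTheory V R A)

/-- Evaluation of a residue datum through the decomposition `resDecomp`. -/
theorem resData_cpt_apply {X : Obj V} {j : ℕ} (Q : T.ResData X j) (x : X.cdPt (j + 1))
    (M : A.Cat) (i n i' n' : ℤ) (hi : i' = i + 1 - 2 * ((j : ℤ) + 1)) (hn : n' = n - ((j : ℤ) + 1))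
    (Y : X.scheme.Opens) (hxY : x.1 ∈ Y) (hF : ContainsFj X j Y)
    (U : Idx X (ContainsFj X j)) (hU : U.1 ≤ openPart X x.1 Y)
    (c : T.gp (X.res (openPart X x.1 Y)) M i n) :
    (Q.cpt x M i n i' n' hi hn).hom (((T.fjι X j i n U).app M).hom
      ((T.pull (X.resLE hU (U.2.2.trans
        (dim_eq_of_containsFj X j _ (containsFj_openPart x.2 hF)).symm)) M i n).hom c)) =
    ((T.ptι X x.1 i' n' (pieceIdx X x.1 Y hxY)).app M).hom
      ((T.res (resDecomp X x.1 Y hxY x.2 hF) M i n i' n'
        (by rw [resDecomp_codim hxY x.2 hF]; exact hi)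
        (by rw [resDecomp_codim hxY x.2 hF]; exact hn)).hom c) := by
  have hdY := dim_eq_of_containsFj X j _ hF
  have := Q.cpt_spec x M i n i' n' hi hn (X.resι Y hdY) (resDecomp X x.1 Y hxY x.2 hF)
    (pieceIdx X x.1 Y hxY) (𝟙 _)
    (by
      show 𝟙 _ ≫ (X.ptSubι x.1 ∣_ Y) ≫ Y.ι = _
      rw [Category.id_comp, morphismRestrict_ι])
    U (X.resLE hU (U.2.2.trans (dim_eq_of_containsFj X j _ (containsFj_openPart x.2 hF)).symm))
    (by
      show X.scheme.homOfLE hU ≫ X.scheme.homOfLE (inf_le_left : openPart X x.1 Y ≤ Y) ≫ Y.ι = _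
      rw [Scheme.homOfLE_ι, Scheme.homOfLE_ι])
    (by rw [resDecomp_codim hxY x.2 hF]; exact hi)
    (by rw [resDecomp_codim hxY x.2 hF]; exact hn)
  have h2 := congrArg (fun φ => φ.hom c) this
  simp only [ModuleCat.hom_comp, LinearMap.comp_apply] at h2
  rw [h2]
  congr 1
  have h3 : T.pull (𝟙 ((X.ptSub x.1).res (pieceW X x.1 Y))) M i' n' = 𝟙 _ := pull_id T _ M i' n'
  exact congrArg (fun φ => φ.hom ((T.res (resDecomp X x.1 Y hxY x.2 hF) M i n i' n'
        (by rw [resDecomp_codim hxY x.2 hF]; exact hi)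
        (by rw [resDecomp_codim hxY x.2 hF]; exact hn)).hom c)) h3

end Groth.Agent.Lib.helper27.BMResDecomp
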