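import Mathlib
import Groth.Prelude.Def_BMCoh2
import Groth.Agent.Lib.Helper27.BMFjRes
import Groth.Agent.Lib.Helper27.BMResDecomp

namespace Groth.Agent.Lib.helper27.BMClosed
universe u
set_option linter.unusedSectionVars false
set_option linter.style.haveILetI false
open CategoryTheory AlgebraicGeometry Opposite BMCoh Limits TopologicalSpace Topology Order
open Groth.Agent.Lib.helper27.BMBasic Groth.Agent.Lib.helper27.BMTop
  Groth.Agent.Lib.helper27.BMGeom Groth.Agent.Lib.helper27.BMColim
  Groth.Agent.Lib.helper27.BMCodim Groth.Agent.Lib.helper27.BMLift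
  Groth.Agent.Lib.helper27.BMDim Groth.Agent.Lib.helper27.BMVanish
  Groth.Agent.Lib.helper27.BMTopPts Groth.Agent.Lib.helper27.BMHyp
  Groth.Agent.Lib.helper27.BMLocal Groth.Agent.Lib.helper27.BMLoc2
  Groth.Agent.Lib.helper27.BMFjRes Groth.Agent.Lib.helper27.BMResDecomp

variable {V : ObjectProperty Scheme.{u}} [BMCoh.IsConstructible V] {R : Type u} [CommRing R]
  {A : BMCoh.Coefs R}

section top
variable {T : Type u} [TopologicalSpace T] [T0Space T] [QuasiSober T]

lemma exists_ht_eq_of_le [Nonempty T] (hT : topologicalKrullDim T < ⊤) (k : ℕ)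
    (hk : k ≤ WeilCoh.natDim T) : ∃ y : T, (ht y).toNat = k := by
  let _ : PartialOrder T := specializationOrder T
  obtain ⟨η, hη, -⟩ := exists_ht_eq hT
  have h2 := ht_le_natDim' hT η
  have hfin : ht η ≠ ⊤ := ne_top_of_le_ne_top (ENat.natCast_ne_top _) h2
  rcases hk.eq_or_lt with rfl | hlt
  · exact ⟨η, hη⟩
  · have h3 : (k : ℕ∞) < height η := by
      have : ht η = (WeilCoh.natDim T : ℕ∞) := by
        rw [← hη]; exact (ENat.natCast_toNat hfin).symm
      show (k : ℕ∞) < ht η
      rw [this]; exact_mod_cast hlt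
    obtain ⟨y, -, hy⟩ := (coe_lt_height_iff (lt_top_iff_ne_top.2 hfin)).1 h3
    exact ⟨y, by unfold ht; rw [hy]; rfl⟩

end top

lemma exists_codim_eq (X : Obj V) [Nonempty X.scheme] (k : ℕ) (hk : k ≤ WeilCoh.dim X.scheme) :
    ∃ x : X.scheme, WeilCoh.codim X.scheme x = k := by
  obtain ⟨y, hy⟩ := exists_ht_eq_of_le (finiteDim X) (WeilCoh.dim X.scheme - k) (Nat.sub_le _ _)
  refine ⟨y, ?_⟩
  unfold WeilCoh.codim
  rw [pdim_eq_ht, hy]
  omega

/-- Morphisms of objects preserve codimension of points. -/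
lemma codim_hom {Y X : Obj V} (e : Y ⟶ X) (y : Y.scheme) :
    WeilCoh.codim Y.scheme y = WeilCoh.codim X.scheme (e.hom y) := by
  unfold WeilCoh.codim
  rw [pdim_hom e, e.dim_eq]

section closed
variable (X : Obj V) (C : Closeds X.scheme)

lemma pdim_redSub (z : (redSub X C).scheme) :
    WeilCoh.pdim X.scheme (redSubι X C z) = WeilCoh.pdim (redSub X C).scheme z :=
  pdim_map_of_isClosedImmersion (redSubι X C) z

lemma redSubι_mem (z : (redSub X C).scheme) : redSubι X C z ∈ (C : Set X.scheme) := by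
  rw [← range_redSubι]; exact ⟨z, rfl⟩

/-- The dimension of a closed subset all of whose points have codimension at least `k`, one of
them of codimension exactly `k`. -/
lemma dim_redSub_add (k : ℕ) (hC : ∀ c ∈ (C : Set X.scheme), k ≤ WeilCoh.codim X.scheme c)
    (x₀ : X.scheme) (hx₀ : x₀ ∈ (C : Set X.scheme)) (hk : WeilCoh.codim X.scheme x₀ = k) :
    WeilCoh.dim (redSub X C).scheme + k = WeilCoh.dim X.scheme := by
  obtain ⟨z₀, hz₀⟩ : x₀ ∈ Set.range (redSubι X C) := by rw [range_redSubι]; exact hx₀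
  haveI : Nonempty (redSub X C).scheme := ⟨z₀⟩
  obtain ⟨ζ, hζ, -⟩ := exists_pdim_eq_dim (redSub X C)
  have h1 := hC _ (redSubι_mem X C ζ)
  have h2 := pdim_le_dim X (redSubι X C ζ)
  have h3 := pdim_le_dim X x₀
  have h4 := pdim_le_dim (redSub X C) z₀
  unfold WeilCoh.codim at h1 hk
  rw [pdim_redSub] at h1 h2
  rw [← hz₀, pdim_redSub] at hk h3
  omega

lemma codim_redSub (k : ℕ) (hk : WeilCoh.dim (redSub X C).scheme + k = WeilCoh.dim X.scheme)
    (z : (redSub X C).scheme) :
    WeilCoh.codim X.scheme (redSubι X C z) = WeilCoh.codim (redSub X C).scheme z + k := by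
  have h1 := pdim_le_dim (redSub X C) z
  unfold WeilCoh.codim
  rw [pdim_redSub]
  omega

/-- Enlarging a nonempty closed set of points of codimension at least `k` to a closed set of
dimension exactly `dim X - k`. -/
lemma exists_closeds (k : ℕ) (hC : ∀ c ∈ (C : Set X.scheme), k ≤ WeilCoh.codim X.scheme c)
    (hne : (C : Set X.scheme).Nonempty) :
    ∃ C' : Closeds X.scheme, C ≤ C' ∧
      WeilCoh.dim (redSub X C').scheme + k = WeilCoh.dim X.scheme ∧
      ∀ c ∈ (C' : Set X.scheme), k ≤ WeilCoh.codim X.scheme c := by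
  obtain ⟨c, hc⟩ := hne
  haveI : Nonempty X.scheme := ⟨c⟩
  have hk : k ≤ WeilCoh.dim X.scheme := by
    have := hC c hc
    unfold WeilCoh.codim at this
    omega
  obtain ⟨x₀, hx₀⟩ := exists_codim_eq X k hk
  let C' : Closeds X.scheme := C ⊔ ⟨closure {x₀}, isClosed_closure⟩
  have hC' : ∀ c ∈ (C' : Set X.scheme), k ≤ WeilCoh.codim X.scheme c := by
    rintro c (hc | hc)
    · exact hC c hc
    · have := codim_le_of_specializes X (specializes_iff_mem_closure.2 hc)
      omega
  refine ⟨C', le_sup_left, ?_, hC'⟩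
  exact dim_redSub_add X C' k hC' x₀ (Or.inr (subset_closure rfl)) hx₀

end closed

section decomp
variable (X : Obj V) (C : Closeds X.scheme) (U : X.scheme.Opens)

/-- The part of the reduced closed subscheme on `C` over `U`. -/
noncomputable abbrev clW : (redSub X C).scheme.Opens := redSubι X C ⁻¹ᵁ U

/-- The decomposition of the open `U` of `X` into `C ∩ U` (reduced) and `U ∖ C`. -/
noncomputable abbrev clDecomp
    (hd : WeilCoh.dim ((U ⊓ C.compl : X.scheme.Opens) : Scheme.{u}) =
      WeilCoh.dim (U : Scheme.{u})) : Decomp (X.res U) where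
  Z := (redSub X C).res (clW X C U)
  U := X.res (U ⊓ C.compl)
  i := redSubι X C ∣_ U
  closedImm := inferInstance
  j := X.resLE (inf_le_left : U ⊓ C.compl ≤ U) hd
  range_eq := by
    rw [range_resLE]
    ext p
    show (p.1 ∈ U ∧ p.1 ∈ C.compl) ↔ p ∉ Set.range (redSubι X C ∣_ U)
    constructor
    · rintro ⟨-, hp⟩ ⟨s, hs⟩
      apply hp
      have : p.1 = redSubι X C s.1 := by rw [← hs, morphismRestrict_base_coe]
      rw [this]
      exact redSubι_mem X C _
    · intro hp
      refine ⟨p.2, fun hmem => hp ?_⟩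
      rw [← range_redSubι] at hmem
      obtain ⟨s, hs⟩ := hmem
      refine ⟨⟨s, by show redSubι X C s ∈ U; rw [hs]; exact p.2⟩, ?_⟩
      apply Subtype.ext
      rw [morphismRestrict_base_coe]
      exact hs

variable {X C U}

lemma containsFj_compl {j k : ℕ} (hjk : j < k)
    (hC : ∀ c ∈ (C : Set X.scheme), k ≤ WeilCoh.codim X.scheme c)
    (hF : ContainsFj X j U) : ContainsFj X j (U ⊓ C.compl) := by
  intro y hy
  refine ⟨hF y hy, fun hmem => ?_⟩
  have := hC y hmem
  omega

lemma containsFj_clW {k m : ℕ}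
    (hk : WeilCoh.dim (redSub X C).scheme + k = WeilCoh.dim X.scheme)
    (hF : ContainsFj X (k + m) U) : ContainsFj (redSub X C) m (clW X C U) := by
  intro z hz
  apply hF
  rw [codim_redSub X C k hk]
  omega

lemma clDecomp_codim {k : ℕ}
    (hk : WeilCoh.dim (redSub X C).scheme + k = WeilCoh.dim X.scheme)
    (hd : WeilCoh.dim ((U ⊓ C.compl : X.scheme.Opens) : Scheme.{u}) =
      WeilCoh.dim (U : Scheme.{u}))
    (hdU : WeilCoh.dim (U : Scheme.{u}) = WeilCoh.dim X.scheme)
    (hdW : WeilCoh.dim (clW X C U : Scheme.{u}) = WeilCoh.dim (redSub X C).scheme) :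
    relCodim (clDecomp X C U hd).Z.scheme (X.res U).scheme = k := by
  show relCodim (clW X C U : Scheme.{u}) (U : Scheme.{u}) = k
  unfold relCodim
  rw [hdW, hdU]
  omega

end decomp

end Groth.Agent.Lib.helper27.BMClosed
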