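import Mathlib
import Groth.Prelude.Def_BMCoh3
import Groth.Agent.Lib.Helper27.BMResDecomp

namespace Groth.Agent.Lib.helper27.BMResEval
universe u
set_option linter.unusedSectionVars false
set_option linter.style.haveILetI false
open CategoryTheory AlgebraicGeometry Opposite BMCoh Limits TopologicalSpace Topology Order
open Groth.Agent.Lib.helper27.BMBasic Groth.Agent.Lib.helper27.BMTop
  Groth.Agent.Lib.helper27.BMGeom Groth.Agent.Lib.helper27.BMColim
  Groth.Agent.Lib.helper27.BMDim Groth.Agent.Lib.helper27.BMPiece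
  Groth.Agent.Lib.helper27.BMLift Groth.Agent.Lib.helper27.BMTopPts
  Groth.Agent.Lib.helper27.BMResDecomp

variable {V : ObjectProperty Scheme.{u}} [BMCoh.IsConstructible V] {R : Type u} [CommRing R]
  {A : BMCoh.Coefs R}

lemma exists_open_nhd_of_maximal {T : Type*} [TopologicalSpace T] [NoetherianSpace T]
    [QuasiSober T] (F : Set T) (hF : IsClosed F) (x : T)
    (hmax : ∀ y ∈ F, y ⤳ x → y = x) :
    ∃ Y : Set T, IsOpen Y ∧ x ∈ Y ∧ Fᶜ ⊆ Y ∧ ∀ p ∈ Y, p ∈ F → p ∈ closure ({x} : Set T) := by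
  obtain ⟨S, hSf, hSc, hSi, rfl⟩ := NoetherianSpace.exists_finite_set_isClosed_irreducible hF
  refine ⟨(⋃₀ {t ∈ S | x ∉ t})ᶜ, ?_, ?_, ?_, ?_⟩
  · rw [isOpen_compl_iff, Set.sUnion_eq_biUnion]
    exact (hSf.subset (Set.sep_subset _ _)).isClosed_biUnion (fun t ht => hSc t ht.1)
  · rintro ⟨t, ⟨-, hxt⟩, hx⟩
    exact hxt hx
  · apply Set.compl_subset_compl.2
    exact Set.sUnion_subset_sUnion (Set.sep_subset _ _)
  · rintro p hpY ⟨t, htS, hpt⟩
    have hxt : x ∈ t := by
      by_contra hxt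
      exact hpY ⟨t, ⟨htS, hxt⟩, hpt⟩
    obtain ⟨y, hy⟩ := QuasiSober.sober (hSi t htS) (hSc t htS)
    have hyt : y ∈ t := hy.mem
    have hyx : y ⤳ x := by
      rw [specializes_iff_mem_closure, hy.def]; exact hxt
    have := hmax y ⟨t, htS, hyt⟩ hyx
    rw [← this, hy.def]
    exact hpt

variable (T : BMCoh.PreTheory V R A)

lemma resLE_rfl (X : Obj V) (U : X.scheme.Opens)
    (hd : WeilCoh.dim (U : Scheme.{u}) = WeilCoh.dim (U : Scheme.{u})) :
    X.resLE (le_refl U) hd = 𝟙 (X.res U) := Hom.ext (Scheme.homOfLE_rfl _ _)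

/-- A residue datum kills the classes represented on an open containing the point. -/
theorem resData_cpt_eq_zero_of_mem {X : Obj V} {j : ℕ} (Q : T.ResData X j) (x : X.cdPt (j + 1))
    (M : A.Cat) (i n i' n' : ℤ) (hi : i' = i + 1 - 2 * ((j : ℤ) + 1)) (hn : n' = n - ((j : ℤ) + 1))
    (U : Idx X (ContainsFj X j)) (hxU : x.1 ∈ U.1) (b : T.gp (X.res U.1) M i n) :
    (Q.cpt x M i n i' n' hi hn).hom (((T.fjι X j i n U).app M).hom b) = 0 := by
  have hF₁ := containsFj_openPart x.2 U.2.1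
  have hd₁ := dim_eq_of_containsFj X j _ hF₁
  let U₁ : Idx X (ContainsFj X j) := ⟨openPart X x.1 U.1, hF₁, hd₁⟩
  have hle : U₁ ≤ U := (inf_le_left : openPart X x.1 U.1 ≤ U.1)
  let D := resDecomp X x.1 U.1 hxU x.2 U.2.1
  let c : T.gp (X.res (openPart X x.1 U.1)) M i n := (T.pull D.j M i n).hom b
  have h1 := resData_cpt_apply T Q x M i n i' n' hi hn U.1 hxU U.2.1 U₁ le_rfl c
  have h2 : (T.pull (X.resLE (le_refl (openPart X x.1 U.1)) (hd₁.trans hd₁.symm)) M i n).hom c
      = c := by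
    rw [resLE_rfl, pull_id]; rfl
  rw [h2] at h1
  have h3 : ((T.fjι X j i n U₁).app M).hom c = ((T.fjι X j i n U).app M).hom b :=
    ocolimι_idxRes_apply T X _ i n M hle b
  rw [← h3, h1]
  have h4 : (T.res D M i n i' n' (by rw [resDecomp_codim hxU x.2 U.2.1]; exact hi)
      (by rw [resDecomp_codim hxU x.2 U.2.1]; exact hn)).hom c = 0 :=
    (T.exact_pull_res D M i n i' n' _ _).apply_apply_eq_zero b
  rw [h4]
  exact map_zero _

/-- For a point of codimension `j + 1` outside an open `U ⊇ F_j X`, an open `Y ∋ x` with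
`Y ∖ closure{x} = U`. -/
lemma exists_nhd_of_not_mem {X : Obj V} {j : ℕ} (x : X.cdPt (j + 1))
    (U : Idx X (ContainsFj X j)) (hxU : x.1 ∉ U.1) :
    ∃ Y : X.scheme.Opens, x.1 ∈ Y ∧ ContainsFj X j Y ∧ U.1 ≤ openPart X x.1 Y ∧
      openPart X x.1 Y ≤ U.1 := by
  haveI : IsNoetherian X.scheme := IsConstructible.isNoetherian X.mem
  have hmax : ∀ y ∈ ((U.1 : Set X.scheme)ᶜ), y ⤳ x.1 → y = x.1 := by
    intro y hy hyx
    by_contra hne
    have h1 := codim_le_of_specializes X hyx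
    have h2 : ¬ WeilCoh.codim X.scheme y ≤ j := fun h => hy (U.2.1 y h)
    have h3 := pdim_lt_of_specializes_ne X hyx (Ne.symm hne)
    have h4 := pdim_le_dim X y
    have h5 := x.2
    unfold WeilCoh.codim at h1 h2 h5
    omega
  obtain ⟨Y, hYo, hxY, hUY, hY⟩ := exists_open_nhd_of_maximal _ U.1.2.isClosed_compl x.1 hmax
  rw [compl_compl] at hUY
  refine ⟨⟨Y, hYo⟩, hxY, fun y hy => hUY (U.2.1 y hy), ?_, ?_⟩
  · intro p hp
    refine ⟨hUY hp, fun hmem => hxU ?_⟩
    exact (specializes_iff_mem_closure.2 hmem).mem_open U.1.2 hp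
  · rintro p ⟨hpY, hpx⟩
    by_contra hpU
    exact hpx (hY p hpY hpU)

lemma isIso_resLE_of_le {X : Obj V} {U U' : X.scheme.Opens} (h : U ≤ U') (h' : U' ≤ U)
    (hd : WeilCoh.dim (U : Scheme.{u}) = WeilCoh.dim (U' : Scheme.{u})) :
    IsIso (X.resLE h hd).hom := by
  show IsIso (X.scheme.homOfLE h)
  refine ⟨X.scheme.homOfLE h', ?_, ?_⟩ <;> simp

/-- The value of a residue datum at a point outside the open on which the class is represented
is computed by a residue map; the recipe does not depend on the datum. -/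
theorem exists_resData_cpt_eq {X : Obj V} {j : ℕ} (x : X.cdPt (j + 1))
    (M : A.Cat) (i n i' n' : ℤ) (hi : i' = i + 1 - 2 * ((j : ℤ) + 1)) (hn : n' = n - ((j : ℤ) + 1))
    (U : Idx X (ContainsFj X j)) (hxU : x.1 ∉ U.1) (b : T.gp (X.res U.1) M i n) :
    ∃ (Y : X.scheme.Opens) (hxY : x.1 ∈ Y) (hF : ContainsFj X j Y)
      (hU : U.1 ≤ openPart X x.1 Y) (_ : openPart X x.1 Y ≤ U.1)
      (c : T.gp (X.res (openPart X x.1 Y)) M i n),
      (T.pull (X.resLE hU (U.2.2.trans
        (dim_eq_of_containsFj X j _ (containsFj_openPart x.2 hF)).symm)) M i n).hom c = b ∧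
      ∀ Q : T.ResData X j,
        (Q.cpt x M i n i' n' hi hn).hom (((T.fjι X j i n U).app M).hom b) =
        ((T.ptι X x.1 i' n' (pieceIdx X x.1 Y hxY)).app M).hom
          ((T.res (resDecomp X x.1 Y hxY x.2 hF) M i n i' n'
            (by rw [resDecomp_codim hxY x.2 hF]; exact hi)
            (by rw [resDecomp_codim hxY x.2 hF]; exact hn)).hom c) := by
  obtain ⟨Y, hxY, hF, hU, hU'⟩ := exists_nhd_of_not_mem x U hxU
  have hd := U.2.2.trans (dim_eq_of_containsFj X j _ (containsFj_openPart x.2 hF)).symm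
  haveI := isIso_resLE_of_le hU hU' hd
  obtain ⟨c, hc⟩ := (pull_bijective_of_isIso T (X.resLE hU hd) M i n).2 b
  refine ⟨Y, hxY, hF, hU, hU', c, hc, fun Q => ?_⟩
  rw [← hc]
  exact resData_cpt_apply T Q x M i n i' n' hi hn Y hxY hF U hU c

theorem subsingleton_resData (X : Obj V) (j : ℕ) : Subsingleton (T.ResData X j) := by
  refine ⟨fun Q Q' => ?_⟩
  have h : Q.cpt = Q'.cpt := by
    funext x M i n i' n' hi hn
    apply ModuleCat.hom_ext
    apply LinearMap.ext
    intro a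
    obtain ⟨U, b, rfl⟩ := exists_rep T X (ContainsFj X j) i n M a
    by_cases hxU : x.1 ∈ U.1
    · exact (resData_cpt_eq_zero_of_mem T Q x M i n i' n' hi hn U hxU b).trans
        (resData_cpt_eq_zero_of_mem T Q' x M i n i' n' hi hn U hxU b).symm
    · obtain ⟨Y, hxY, hF, hU, hU', c, hc, hQ⟩ :=
        exists_resData_cpt_eq T x M i n i' n' hi hn U hxU b
      exact (hQ Q).trans (hQ Q').symm
  cases Q; cases Q'
  simp only at h
  subst h
  rfl

end Groth.Agent.Lib.helper27.BMResEval
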