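import Mathlib
import Groth.Prelude.Def_BMCoh3
import Groth.Agent.Lib.Helper27.BMResEval

namespace Groth.Agent.Lib.helper27.BMExactA
universe u
set_option linter.unusedSectionVars false
set_option linter.style.haveILetI false
open CategoryTheory AlgebraicGeometry Opposite BMCoh Limits TopologicalSpace Topology Order
open Groth.Agent.Lib.helper27.BMBasic Groth.Agent.Lib.helper27.BMTop
  Groth.Agent.Lib.helper27.BMGeom Groth.Agent.Lib.helper27.BMColim
  Groth.Agent.Lib.helper27.BMDim Groth.Agent.Lib.helper27.BMPiece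
  Groth.Agent.Lib.helper27.BMLift Groth.Agent.Lib.helper27.BMTopPts
  Groth.Agent.Lib.helper27.BMResDecomp Groth.Agent.Lib.helper27.BMResEval
  Groth.Agent.Lib.helper27.BMFjRes

variable {V : ObjectProperty Scheme.{u}} [BMCoh.IsConstructible V] {R : Type u} [CommRing R]
  {A : BMCoh.Coefs R} (T : BMCoh.PreTheory V R A)

lemma openPart_mono {X : Obj V} (x : X.scheme) {Y' Y : X.scheme.Opens} (h : Y' ≤ Y) :
    openPart X x Y' ≤ openPart X x Y := inf_le_inf_right _ h

/-- Naturality of the residue maps of the decompositions `resDecomp` in the open `Y`. -/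
lemma res_resDecomp_naturality {X : Obj V} {j : ℕ} (x : X.scheme)
    (hx : WeilCoh.codim X.scheme x = j + 1) {Y' Y : X.scheme.Opens} (h : Y' ≤ Y)
    (hxY' : x ∈ Y') (hF' : ContainsFj X j Y') (hF : ContainsFj X j Y) (M : A.Cat)
    (i n i' n' : ℤ) (hi : i' = i + 1 - 2 * ((j : ℤ) + 1)) (hn : n' = n - ((j : ℤ) + 1))
    (c : T.gp (X.res (openPart X x Y)) M i n) :
    (T.pull ((X.ptSub x).resLE ((X.ptSubι x).preimage_mono h)
        ((pieceIdx X x Y' hxY').2.2.trans (pieceIdx X x Y (h hxY')).2.2.symm)) M i' n').hom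
      ((T.res (resDecomp X x Y (h hxY') hx hF) M i n i' n'
        (by rw [resDecomp_codim (h hxY') hx hF]; exact hi)
        (by rw [resDecomp_codim (h hxY') hx hF]; exact hn)).hom c) =
    (T.res (resDecomp X x Y' hxY' hx hF') M i n i' n'
        (by rw [resDecomp_codim hxY' hx hF']; exact hi)
        (by rw [resDecomp_codim hxY' hx hF']; exact hn)).hom
      ((T.pull (X.resLE (openPart_mono x h)
        ((dim_eq_of_containsFj X j _ (containsFj_openPart hx hF')).trans
          (dim_eq_of_containsFj X j _ (containsFj_openPart hx hF)).symm)) M i n).hom c) := by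
  have hdY := dim_eq_of_containsFj X j _ hF
  have hdY' := dim_eq_of_containsFj X j _ hF'
  have := T.res_pull (resDecomp X x Y (h hxY') hx hF) (resDecomp X x Y' hxY' hx hF')
    (X.resLE h (hdY'.trans hdY.symm))
    ((X.ptSub x).resLE ((X.ptSubι x).preimage_mono h)
        ((pieceIdx X x Y' hxY').2.2.trans (pieceIdx X x Y (h hxY')).2.2.symm))
    (X.resLE (openPart_mono x h)
        ((dim_eq_of_containsFj X j _ (containsFj_openPart hx hF')).trans
          (dim_eq_of_containsFj X j _ (containsFj_openPart hx hF)).symm))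
    (by
      show (X.ptSub x).scheme.homOfLE ((X.ptSubι x).preimage_mono h) ≫ (X.ptSubι x ∣_ Y) =
        (X.ptSubι x ∣_ Y') ≫ X.scheme.homOfLE h
      rw [← cancel_mono Y.ι]
      simp [morphismRestrict_ι])
    (by
      apply Hom.ext
      show X.scheme.homOfLE (openPart_mono x h) ≫
          X.scheme.homOfLE (inf_le_left : openPart X x Y ≤ Y) =
        X.scheme.homOfLE (inf_le_left : openPart X x Y' ≤ Y') ≫ X.scheme.homOfLE h
      rw [Scheme.homOfLE_homOfLE, Scheme.homOfLE_homOfLE]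
      rfl)
    M i n i' n'
    (by rw [resDecomp_codim (h hxY') hx hF]; exact hi)
    (by rw [resDecomp_codim (h hxY') hx hF]; exact hn)
    (by rw [resDecomp_codim hxY' hx hF']; exact hi)
    (by rw [resDecomp_codim hxY' hx hF']; exact hn)
  exact congrArg (fun φ => φ.hom c) this

/-- One-point extension: a class of `F_j X` represented on `U`, whose residue at a point `x` of
codimension `j + 1` outside `U` vanishes, is represented on a larger open containing `x`. -/
theorem exists_extension {X : Obj V} {j : ℕ} (Q : T.ResData X j) (x : X.cdPt (j + 1))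
    (M : A.Cat) (i n i' n' : ℤ) (hi : i' = i + 1 - 2 * ((j : ℤ) + 1)) (hn : n' = n - ((j : ℤ) + 1))
    (U : Idx X (ContainsFj X j)) (hxU : x.1 ∉ U.1) (b : T.gp (X.res U.1) M i n)
    (hQ : (Q.cpt x M i n i' n' hi hn).hom (((T.fjι X j i n U).app M).hom b) = 0) :
    ∃ (Y' : Idx X (ContainsFj X j)) (b'' : T.gp (X.res Y'.1) M i n), x.1 ∈ Y'.1 ∧ U.1 ≤ Y'.1 ∧
      ((T.fjι X j i n Y').app M).hom b'' = ((T.fjι X j i n U).app M).hom b := by
  obtain ⟨Y, hxY, hF, hU, hU', c, hc, hQ'⟩ := exists_resData_cpt_eq T x M i n i' n' hi hn U hxU b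
  rw [hQ' Q] at hQ
  obtain ⟨W', hle, hW'⟩ := (ι_eq_zero_iff T (X.ptSub x.1) _ i' n' M _ _).1 hQ
  have hle' : W'.1 ≤ pieceW X x.1 Y := hle
  -- the smaller open
  let Y' : X.scheme.Opens := Y ⊓ pieceOpen X x.1 W'
  have hYY' : Y' ≤ Y := inf_le_left
  have hxY' : x.1 ∈ Y' := by
    refine ⟨hxY, ?_⟩
    rintro ⟨s, hs, hsx⟩
    have h' : X.ptSubι x.1 s = X.ptSubι x.1 (ptSubPt X x.1) := hsx.trans (ptSubι_ptSubPt X x.1).symm
    have := (X.ptSubι x.1).isClosedEmbedding.injective h'
    exact hs (this ▸ ptSubPt_mem X x.1 W')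
  have hF' : ContainsFj X j Y' := fun y hy =>
    ⟨hF y hy, containsFj_pieceOpen X x.1 W' (j + 1) x.2 y (by omega)⟩
  have hpW : pieceW X x.1 Y' ≤ W'.1 := by
    intro s hs
    have h1 : X.ptSubι x.1 s ∈ pieceOpen X x.1 W' := hs.2
    by_contra hsW
    exact h1 ⟨s, hsW, rfl⟩
  -- the residue of the restricted class vanishes
  have hnat := res_resDecomp_naturality T x.1 x.2 hYY' hxY' hF' hF M i n i' n' hi hn c
  have hzero : (T.pull ((X.ptSub x.1).resLE ((X.ptSubι x.1).preimage_mono hYY')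
        ((pieceIdx X x.1 Y' hxY').2.2.trans (pieceIdx X x.1 Y (hYY' hxY')).2.2.symm)) M i' n').hom
      ((T.res (resDecomp X x.1 Y (hYY' hxY') x.2 hF) M i n i' n'
        (by rw [resDecomp_codim (hYY' hxY') x.2 hF]; exact hi)
        (by rw [resDecomp_codim (hYY' hxY') x.2 hF]; exact hn)).hom c) = 0 := by
    have hfac : (X.ptSub x.1).resLE ((X.ptSubι x.1).preimage_mono hYY')
        ((pieceIdx X x.1 Y' hxY').2.2.trans (pieceIdx X x.1 Y (hYY' hxY')).2.2.symm) =
        (X.ptSub x.1).resLE hpW ((pieceIdx X x.1 Y' hxY').2.2.trans W'.2.2.symm) ≫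
          (X.ptSub x.1).resLE hle' (W'.2.2.trans (pieceIdx X x.1 Y hxY).2.2.symm) := by
      apply Hom.ext
      show (X.ptSub x.1).scheme.homOfLE ((X.ptSubι x.1).preimage_mono hYY') =
        (X.ptSub x.1).scheme.homOfLE hpW ≫ (X.ptSub x.1).scheme.homOfLE hle'
      rw [Scheme.homOfLE_homOfLE]
    rw [hfac, pull_comp, ModuleCat.hom_comp, LinearMap.comp_apply]
    have : (T.pull ((X.ptSub x.1).resLE hle' (W'.2.2.trans (pieceIdx X x.1 Y hxY).2.2.symm))
        M i' n').hom ((T.res (resDecomp X x.1 Y hxY x.2 hF) M i n i' n'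
        (by rw [resDecomp_codim hxY x.2 hF]; exact hi)
        (by rw [resDecomp_codim hxY x.2 hF]; exact hn)).hom c) = 0 := hW'
    rw [this, map_zero]
  rw [hnat] at hzero
  obtain ⟨b'', hb''⟩ := ((T.exact_pull_res (resDecomp X x.1 Y' hxY' x.2 hF') M i n i' n'
    (by rw [resDecomp_codim hxY' x.2 hF']; exact hi)
    (by rw [resDecomp_codim hxY' x.2 hF']; exact hn)) _).1 hzero
  have hdY' := dim_eq_of_containsFj X j _ hF'
  have hUY' : U.1 ≤ openPart X x.1 Y' := by
    intro p hp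
    have h1 := hU hp
    refine ⟨⟨h1.1, ?_⟩, h1.2⟩
    rintro ⟨s, -, hs⟩
    apply h1.2
    rw [← hs, ← range_ptSubι]
    exact ⟨s, rfl⟩
  refine ⟨⟨Y', hF', hdY'⟩, b'', hxY', hUY'.trans inf_le_left, ?_⟩
  -- compare in the colimit
  have hFo := containsFj_openPart x.2 hF
  have hFo' := containsFj_openPart x.2 hF'
  let Io : Idx X (ContainsFj X j) := ⟨openPart X x.1 Y, hFo, dim_eq_of_containsFj X j _ hFo⟩
  let Io' : Idx X (ContainsFj X j) := ⟨openPart X x.1 Y', hFo', dim_eq_of_containsFj X j _ hFo'⟩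
  have e1 : ((T.fjι X j i n U).app M).hom b = ((T.fjι X j i n Io).app M).hom c := by
    rw [← hc]
    exact ocolimι_idxRes_apply T X _ i n M (show U ≤ Io from hU) c
  have e2 : ((T.fjι X j i n Io).app M).hom c = ((T.fjι X j i n Io').app M).hom
      ((T.pull (X.resLE (openPart_mono x.1 hYY')
        ((dim_eq_of_containsFj X j _ hFo').trans (dim_eq_of_containsFj X j _ hFo).symm)) M i n).hom c) :=
    (ocolimι_idxRes_apply T X _ i n M (show Io' ≤ Io from openPart_mono x.1 hYY') c).symm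
  have e3 : ((T.fjι X j i n ⟨Y', hF', hdY'⟩).app M).hom b'' = ((T.fjι X j i n Io').app M).hom
      ((T.pull (resDecomp X x.1 Y' hxY' x.2 hF').j M i n).hom b'') :=
    (ocolimι_idxRes_apply T X _ i n M
      (show Io' ≤ (⟨Y', hF', hdY'⟩ : Idx X (ContainsFj X j)) from
        (inf_le_left : openPart X x.1 Y' ≤ Y')) b'').symm
  rw [e1, e2, e3]
  congr 1

theorem exact_fjRes_resTot (X : Obj V) (j : ℕ) (Q : T.ResData X j) (M : A.Cat) (i n i' n' : ℤ)
    (hi : i' = i + 1 - 2 * ((j : ℤ) + 1)) (hn : n' = n - ((j : ℤ) + 1)) :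
    Function.Exact ((T.fjRes X (Nat.le_succ j) i n).app M).hom (Q.tot M i n i' n' hi hn).hom := by
  haveI : IsNoetherian X.scheme := IsConstructible.isNoetherian X.mem
  intro a'
  constructor
  · intro ha'
    -- all residues vanish
    have hres : ∀ x : X.cdPt (j + 1), (Q.cpt x M i n i' n' hi hn).hom a' = 0 := fun x => by
      have := DFunLike.congr_fun ha' x
      rwa [PreTheory.ResData.tot_apply] at this
    let 𝒰 : Set X.scheme.Opens := {U | ∃ (hF : ContainsFj X j U)
      (hd : WeilCoh.dim (U : Scheme.{u}) = WeilCoh.dim X.scheme) (b : T.gp (X.res U) M i n),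
      ((T.fjι X j i n ⟨U, hF, hd⟩).app M).hom b = a'}
    have hne : 𝒰.Nonempty := by
      obtain ⟨U, b, hb⟩ := exists_rep T X (ContainsFj X j) i n M a'
      exact ⟨U.1, U.2.1, U.2.2, b, hb⟩
    have hwf : WellFounded ((· > ·) : X.scheme.Opens → X.scheme.Opens → Prop) :=
      (inferInstance : WellFoundedGT (Opens X.scheme)).wf
    obtain ⟨Um, ⟨hF, hd, b, hb⟩, hmax⟩ := hwf.has_min 𝒰 hne
    have hF1 : ContainsFj X (j + 1) Um := by
      intro y hy
      by_contra hyU
      have hcod : WeilCoh.codim X.scheme y = j + 1 := by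
        by_contra hne'
        exact hyU (hF y (by omega))
      obtain ⟨Y', b'', hxY', hUY', hb''⟩ := exists_extension T Q ⟨y, hcod⟩ M i n i' n' hi hn
        ⟨Um, hF, hd⟩ hyU b (by rw [hb]; exact hres _)
      refine hmax Y'.1 ⟨Y'.2.1, Y'.2.2, b'', hb''.trans hb⟩ ?_
      exact lt_of_le_of_ne hUY' (fun h => hyU (h ▸ hxY'))
    refine ⟨((T.ocolimι X (ContainsFj X (j + 1)) i n ⟨Um, hF1, hd⟩).app M).hom b, ?_⟩
    rw [fjRes_ι]
    exact hb
  · rintro ⟨a, rfl⟩
    obtain ⟨U, b, rfl⟩ := exists_rep T X (ContainsFj X (j + 1)) i n M a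
    rw [fjRes_ι]
    refine DFinsupp.ext fun x => ?_
    rw [PreTheory.ResData.tot_apply]
    exact resData_cpt_eq_zero_of_mem T Q x M i n i' n' hi hn
      ⟨U.1, containsFj_mono X (Nat.le_succ j) U.1 U.2.1, U.2.2⟩ (U.2.1 x.1 (le_of_eq x.2)) b

end Groth.Agent.Lib.helper27.BMExactA
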