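import Mathlib
import Groth.Prelude.Def_BMCoh3
import Groth.Agent.Lib.Helper27.BMPiece

namespace Groth.Agent.Lib.helper27.BMPushUniq
universe u
set_option linter.unusedSectionVars false
set_option linter.style.haveILetI false
open CategoryTheory AlgebraicGeometry Opposite BMCoh Limits TopologicalSpace Topology Order
open Groth.Agent.Lib.helper27.BMBasic Groth.Agent.Lib.helper27.BMTop
  Groth.Agent.Lib.helper27.BMGeom Groth.Agent.Lib.helper27.BMColim
  Groth.Agent.Lib.helper27.BMDim Groth.Agent.Lib.helper27.BMPiece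

variable {V : ObjectProperty Scheme.{u}} [BMCoh.IsConstructible V] {R : Type u} [CommRing R]
  {A : BMCoh.Coefs R} (T : BMCoh.PreTheory V R A)

/-- The value of a push-forward datum on a class represented on a piece `W`. -/
theorem pushData_cpt_apply {X : Obj V} {j : ℕ} (P : T.PushData X j) (x : X.cdPt j) (M : A.Cat)
    (i n i' n' : ℤ) (hi : i' = i + 2 * (j : ℤ)) (hn : n' = n + (j : ℤ)) (W : ptIdx X x.1)
    (b : T.gp ((X.ptSub x.1).res W.1) M i n) :
    (P.cpt x M i n i' n' hi hn).hom (((T.ptι X x.1 i n W).app M).hom b) =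
      ((T.fjι X j i' n' ⟨pieceOpen X x.1 W, containsFj_pieceOpen X x.1 W j x.2,
        dim_pieceOpen X x.1 W j x.2⟩).app M).hom
        ((T.push (pieceI X x.1 W) M i n i' n'
          (by rw [relCodim_piece X x.1 W j x.2]; exact hi)
          (by rw [relCodim_piece X x.1 W j x.2]; exact hn)).hom b) := by
  have := P.cpt_spec x M i n i' n' hi hn
    ⟨pieceOpen X x.1 W, containsFj_pieceOpen X x.1 W j x.2, dim_pieceOpen X x.1 W j x.2⟩ W
    (pieceI X x.1 W) (pieceI_fac X x.1 W)
    (by rw [relCodim_piece X x.1 W j x.2]; exact hi)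
    (by rw [relCodim_piece X x.1 W j x.2]; exact hn)
  exact congrArg (fun φ => φ.hom b) this

theorem subsingleton_pushData (X : Obj V) (j : ℕ) : Subsingleton (T.PushData X j) := by
  refine ⟨fun P P' => ?_⟩
  have h : P.cpt = P'.cpt := by
    funext x M i n i' n' hi hn
    apply ModuleCat.hom_ext
    apply LinearMap.ext
    intro a
    obtain ⟨W, b, rfl⟩ := exists_rep T (X.ptSub x.1) _ i n M a
    exact (pushData_cpt_apply T P x M i n i' n' hi hn W b).trans
      (pushData_cpt_apply T P' x M i n i' n' hi hn W b).symm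
  cases P; cases P'
  simp only at h
  subst h
  rfl

end Groth.Agent.Lib.helper27.BMPushUniq
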