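import Mathlib
import Groth.Prelude.Def_BMCoh3
import Groth.Agent.Lib.Helper27.BMExactA
import Groth.Agent.Lib.Helper27.BMPushUniq

namespace Groth.Agent.Lib.helper27.BMExactC
universe u
set_option linter.unusedSectionVars false
set_option linter.style.haveILetI false
open CategoryTheory AlgebraicGeometry Opposite BMCoh Limits TopologicalSpace Topology Order
open Groth.Agent.Lib.helper27.BMBasic Groth.Agent.Lib.helper27.BMTop
  Groth.Agent.Lib.helper27.BMGeom Groth.Agent.Lib.helper27.BMColim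
  Groth.Agent.Lib.helper27.BMDim Groth.Agent.Lib.helper27.BMPiece
  Groth.Agent.Lib.helper27.BMLift Groth.Agent.Lib.helper27.BMTopPts
  Groth.Agent.Lib.helper27.BMResDecomp Groth.Agent.Lib.helper27.BMResEval
  Groth.Agent.Lib.helper27.BMFjRes Groth.Agent.Lib.helper27.BMExactA
  Groth.Agent.Lib.helper27.BMPushUniq

variable {V : ObjectProperty Scheme.{u}} [BMCoh.IsConstructible V] {R : Type u} [CommRing R]
  {A : BMCoh.Coefs R} (T : BMCoh.PreTheory V R A)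

section pieceDecomp
variable (X : Obj V) (x : X.scheme) (W : ptIdx X x) {j : ℕ}
  (hx : WeilCoh.codim X.scheme x = j + 1)

lemma coe_pieceI_apply (w : ((X.ptSub x).res W.1).scheme) :
    (pieceI X x W w).1 = X.ptSubι x w.1 :=
  congrArg (fun φ => φ w) (pieceI_fac X x W)

lemma range_pieceI :
    Set.range (pieceI X x W) =
      {p : (X.res (pieceOpen X x W)).scheme | p.1 ∈ closure ({x} : Set X.scheme)} := by
  ext p
  constructor
  · rintro ⟨w, rfl⟩
    show (pieceI X x W w).1 ∈ closure ({x} : Set X.scheme)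
    rw [coe_pieceI_apply, ← range_ptSubι]
    exact ⟨_, rfl⟩
  · intro hp
    have hp' : p.1 ∈ closure ({x} : Set X.scheme) := hp
    rw [← range_ptSubι] at hp'
    obtain ⟨s, hs⟩ := hp'
    have hsW : s ∈ W.1 := by
      by_contra hsW
      exact p.2 ⟨s, hsW, hs⟩
    refine ⟨⟨s, hsW⟩, Subtype.ext ?_⟩
    rw [coe_pieceI_apply]
    exact hs

/-- The decomposition of `pieceOpen` into the piece `W` of the closure of `x` and the rest. -/
noncomputable abbrev pieceDecomp : Decomp (X.res (pieceOpen X x W)) where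
  Z := (X.ptSub x).res W.1
  U := X.res (openPart X x (pieceOpen X x W))
  i := pieceI X x W
  closedImm := inferInstance
  j := X.resLE (inf_le_left : openPart X x (pieceOpen X x W) ≤ pieceOpen X x W)
    ((dim_eq_of_containsFj X j _ (containsFj_openPart hx
      (containsFj_mono X (Nat.le_succ j) _ (containsFj_pieceOpen X x W (j + 1) hx)))).trans
      (dim_pieceOpen X x W (j + 1) hx).symm)
  range_eq := by
    rw [range_resLE, range_pieceI]
    ext p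
    show (p.1 ∈ pieceOpen X x W ∧ p.1 ∈ clCompl X x) ↔ _
    constructor
    · rintro ⟨-, h⟩; exact h
    · intro h; exact ⟨p.2, h⟩

end pieceDecomp

/-- A push-forward datum followed by restriction to `F_j X` vanishes on each summand. -/
theorem fjRes_cpt_eq_zero {X : Obj V} {j : ℕ} (P : T.PushData X (j + 1)) (x : X.cdPt (j + 1))
    (M : A.Cat) (i n i' n' : ℤ) (hi : i' = i + 2 * ((j + 1 : ℕ) : ℤ))
    (hn : n' = n + ((j + 1 : ℕ) : ℤ)) (a : T.ptGp X x.1 M i n) :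
    ((T.fjRes X (Nat.le_succ j) i' n').app M).hom ((P.cpt x M i n i' n' hi hn).hom a) = 0 := by
  obtain ⟨W, b, rfl⟩ := exists_rep T (X.ptSub x.1) _ i n M a
  have h1 := pushData_cpt_apply T P x M i n i' n' hi hn W b
  rw [h1, fjRes_ι]
  let D := pieceDecomp X x.1 W x.2
  have hFp := containsFj_mono X (Nat.le_succ j) _ (containsFj_pieceOpen X x.1 W (j + 1) x.2)
  have hFo := containsFj_openPart x.2 hFp
  let Ip : Idx X (ContainsFj X j) := ⟨pieceOpen X x.1 W, hFp, dim_pieceOpen X x.1 W (j + 1) x.2⟩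
  let Io : Idx X (ContainsFj X j) := ⟨openPart X x.1 (pieceOpen X x.1 W), hFo,
    dim_eq_of_containsFj X j _ hFo⟩
  have hle : Io ≤ Ip := (inf_le_left : openPart X x.1 (pieceOpen X x.1 W) ≤ pieceOpen X x.1 W)
  have h2 : (T.pull D.j M i' n').hom ((T.push D.i M i n i' n'
      (by rw [relCodim_piece X x.1 W (j + 1) x.2]; exact hi)
      (by rw [relCodim_piece X x.1 W (j + 1) x.2]; exact hn)).hom b) = 0 :=
    (exact_push_pull' T D M i' n' i n _ _).apply_apply_eq_zero b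
  have h3 := ocolimι_idxRes_apply T X (ContainsFj X j) i' n' M hle
    ((T.push (pieceI X x.1 W) M i n i' n'
      (by rw [relCodim_piece X x.1 W (j + 1) x.2]; exact hi)
      (by rw [relCodim_piece X x.1 W (j + 1) x.2]; exact hn)).hom b)
  refine h3.symm.trans ?_
  have h4 : (idxRes T X (ContainsFj X j) i' n' M hle).hom
      ((T.push (pieceI X x.1 W) M i n i' n'
      (by rw [relCodim_piece X x.1 W (j + 1) x.2]; exact hi)
      (by rw [relCodim_piece X x.1 W (j + 1) x.2]; exact hn)).hom b) = 0 := h2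
  rw [h4, map_zero]

/-- Base change for the push-forward from a piece of the closure of `x`: restricted to an open
`Y₂ ∋ x` contained in `pieceOpen` of the piece over `Y₂`, it is the push-forward of the
decomposition `resDecomp`. -/
lemma push_pieceI_restrict {X : Obj V} {j : ℕ} (x : X.cdPt (j + 1)) (Y₂ : X.scheme.Opens)
    (hxY₂ : x.1 ∈ Y₂) (hF₂ : ContainsFj X j Y₂) (M : A.Cat) (i n i' n' : ℤ)
    (hi : i' = i + 2 * ((j + 1 : ℕ) : ℤ)) (hn : n' = n + ((j + 1 : ℕ) : ℤ))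
    (hle : Y₂ ≤ pieceOpen X x.1 (pieceIdx X x.1 Y₂ hxY₂))
    (β : T.gp ((X.ptSub x.1).res (pieceW X x.1 Y₂)) M i n) :
    (T.pull (X.resLE hle ((dim_eq_of_containsFj X j _ hF₂).trans
        (dim_pieceOpen X x.1 (pieceIdx X x.1 Y₂ hxY₂) (j + 1) x.2).symm)) M i' n').hom
      ((T.push (pieceI X x.1 (pieceIdx X x.1 Y₂ hxY₂)) M i n i' n'
        (by rw [relCodim_piece X x.1 _ (j + 1) x.2]; exact hi)
        (by rw [relCodim_piece X x.1 _ (j + 1) x.2]; exact hn)).hom β) =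
    (T.push (resDecomp X x.1 Y₂ hxY₂ x.2 hF₂).i M i n i' n'
        (by
          have := resDecomp_codim hxY₂ x.2 hF₂
          rw [show relCodim (resDecomp X x.1 Y₂ hxY₂ x.2 hF₂).Z.scheme (X.res Y₂).scheme =
            (j : ℤ) + 1 from this, hi]; push_cast; ring)
        (by
          have := resDecomp_codim hxY₂ x.2 hF₂
          rw [show relCodim (resDecomp X x.1 Y₂ hxY₂ x.2 hF₂).Z.scheme (X.res Y₂).scheme =
            (j : ℤ) + 1 from this, hn]; push_cast; ring)).hom β := by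
  have hd := (dim_eq_of_containsFj X j _ hF₂).trans
        (dim_pieceOpen X x.1 (pieceIdx X x.1 Y₂ hxY₂) (j + 1) x.2).symm
  have hcomm : 𝟙 _ ≫ pieceI X x.1 (pieceIdx X x.1 Y₂ hxY₂) =
      (X.ptSubι x.1 ∣_ Y₂) ≫ X.scheme.homOfLE hle := by
    rw [Category.id_comp, ← cancel_mono (pieceOpen X x.1 (pieceIdx X x.1 Y₂ hxY₂)).ι,
      Category.assoc, Scheme.homOfLE_ι, morphismRestrict_ι]
    exact pieceI_fac X x.1 (pieceIdx X x.1 Y₂ hxY₂)
  have hpb : IsPullback (𝟙 ((X.ptSub x.1).res (pieceW X x.1 Y₂)).scheme) (X.ptSubι x.1 ∣_ Y₂)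
      (pieceI X x.1 (pieceIdx X x.1 Y₂ hxY₂)) (X.resLE hle hd).hom := by
    refine (IsOpenImmersion.isPullback (X.ptSubι x.1 ∣_ Y₂) (𝟙 _) (X.scheme.homOfLE hle)
      (pieceI X x.1 (pieceIdx X x.1 Y₂ hxY₂)) hcomm ?_).flip
    apply Opens.ext
    ext w
    simp only [Scheme.Hom.opensRange_of_isIso, Opens.coe_top, Set.mem_univ, iff_true]
    show pieceI X x.1 (pieceIdx X x.1 Y₂ hxY₂) w ∈ Set.range (X.scheme.homOfLE hle)
    have := range_resLE X hle hd
    rw [show Set.range (X.scheme.homOfLE hle) = _ from this]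
    show (pieceI X x.1 (pieceIdx X x.1 Y₂ hxY₂) w).1 ∈ Y₂
    rw [coe_pieceI_apply]
    exact w.2
  have := T.push_pull (pieceI X x.1 (pieceIdx X x.1 Y₂ hxY₂)) (X.ptSubι x.1 ∣_ Y₂)
    (X.resLE hle hd) (𝟙 _) hpb M i n i' n'
    (by rw [relCodim_piece X x.1 _ (j + 1) x.2]; exact hi)
    (by rw [relCodim_piece X x.1 _ (j + 1) x.2]; exact hn)
    (by
      have := resDecomp_codim hxY₂ x.2 hF₂
      rw [show relCodim ((X.ptSub x.1).res (pieceW X x.1 Y₂)).scheme (X.res Y₂).scheme =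
        (j : ℤ) + 1 from this, hi]; push_cast; ring)
    (by
      have := resDecomp_codim hxY₂ x.2 hF₂
      rw [show relCodim ((X.ptSub x.1).res (pieceW X x.1 Y₂)).scheme (X.res Y₂).scheme =
        (j : ℤ) + 1 from this, hn]; push_cast; ring)
  have h2 := congrArg (fun φ => φ.hom β) this
  simp only [ModuleCat.hom_comp, LinearMap.comp_apply] at h2
  refine h2.trans ?_
  have h3 : ((T.H i n).map (𝟙 ((X.ptSub x.1).res (pieceW X x.1 Y₂))).op).app M = 𝟙 _ :=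
    pull_id T _ M i n
  rw [h3]
  rfl

lemma le_pieceOpen_pieceIdx {X : Obj V} (x : X.scheme) (Y₂ : X.scheme.Opens) (hxY₂ : x ∈ Y₂) :
    Y₂ ≤ pieceOpen X x (pieceIdx X x Y₂ hxY₂) := by
  rintro p hp ⟨s, hs, rfl⟩
  exact hs hp

/-- The step of the induction for exactness at `F_{j+1} X`. -/
theorem push_step {X : Obj V} {j : ℕ} (P : T.PushData X (j + 1)) (x : X.cdPt (j + 1))
    (M : A.Cat) (i n i' n' : ℤ) (hi : i' = i + 2 * ((j + 1 : ℕ) : ℤ))
    (hn : n' = n + ((j + 1 : ℕ) : ℤ))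
    (U₁ : Idx X (ContainsFj X (j + 1))) (b₁ : T.gp (X.res U₁.1) M i' n')
    (Y' : Idx X (ContainsFj X j)) (hY : Y'.1 ≤ U₁.1)
    (hb₁ : (T.pull (X.resLE hY (Y'.2.2.trans U₁.2.2.symm)) M i' n').hom b₁ = 0)
    (hxY' : x.1 ∉ Y'.1) :
    ∃ (a_x : T.ptGp X x.1 M i n) (U₃ : Idx X (ContainsFj X (j + 1)))
      (b₃ : T.gp (X.res U₃.1) M i' n') (Y₂ : Idx X (ContainsFj X j)) (hY₂ : Y₂.1 ≤ U₃.1),
      x.1 ∈ Y₂.1 ∧ Y'.1 ≤ Y₂.1 ∧
      ((T.fjι X (j + 1) i' n' U₁).app M).hom b₁ - (P.cpt x M i n i' n' hi hn).hom a_x =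
        ((T.fjι X (j + 1) i' n' U₃).app M).hom b₃ ∧
      (T.pull (X.resLE hY₂ (Y₂.2.2.trans U₃.2.2.symm)) M i' n').hom b₃ = 0 := by
  obtain ⟨Y, hxY, hF, hU, hU'⟩ := exists_nhd_of_not_mem x Y' hxY'
  let Y₂ : X.scheme.Opens := Y ⊓ U₁.1
  have hxY₂ : x.1 ∈ Y₂ := ⟨hxY, U₁.2.1 x.1 (le_of_eq x.2)⟩
  have hF₂ : ContainsFj X j Y₂ := fun y hy =>
    ⟨hF y hy, containsFj_mono X (Nat.le_succ j) _ U₁.2.1 y hy⟩
  have hdY₂ := dim_eq_of_containsFj X j _ hF₂
  have hY₂U₁ : Y₂ ≤ U₁.1 := inf_le_right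
  let D₂ := resDecomp X x.1 Y₂ hxY₂ x.2 hF₂
  have hcod : relCodim D₂.Z.scheme (X.res Y₂).scheme = (j : ℤ) + 1 := resDecomp_codim hxY₂ x.2 hF₂
  have hi₂ : i' = i + 2 * relCodim D₂.Z.scheme (X.res Y₂).scheme := by
    rw [hcod, hi]; push_cast; ring
  have hn₂ : n' = n + relCodim D₂.Z.scheme (X.res Y₂).scheme := by
    rw [hcod, hn]; push_cast; ring
  have hop : openPart X x.1 Y₂ ≤ Y'.1 := (openPart_mono x.1 (inf_le_left : Y₂ ≤ Y)).trans hU'
  have hFo₂ := containsFj_openPart x.2 hF₂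
  have hdo₂ := dim_eq_of_containsFj X j _ hFo₂
  -- the class on Y₂
  let b₂ : T.gp (X.res Y₂) M i' n' :=
    (T.pull (X.resLE hY₂U₁ (hdY₂.trans U₁.2.2.symm)) M i' n').hom b₁
  have hb₂ : (T.pull D₂.j M i' n').hom b₂ = 0 := by
    have hfac : D₂.j ≫ X.resLE hY₂U₁ (hdY₂.trans U₁.2.2.symm) =
        X.resLE hop (hdo₂.trans Y'.2.2.symm) ≫ X.resLE hY (Y'.2.2.trans U₁.2.2.symm) := by
      apply Hom.ext
      show X.scheme.homOfLE (inf_le_left : openPart X x.1 Y₂ ≤ Y₂) ≫ X.scheme.homOfLE hY₂U₁ =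
        X.scheme.homOfLE hop ≫ X.scheme.homOfLE hY
      rw [Scheme.homOfLE_homOfLE, Scheme.homOfLE_homOfLE]
      rfl
    have h1 := congrArg (fun f => (T.pull f M i' n').hom b₁) hfac
    simp only [pull_comp, ModuleCat.hom_comp, LinearMap.comp_apply] at h1
    rw [hb₁, map_zero] at h1
    exact h1
  obtain ⟨β, hβ⟩ := ((exact_push_pull' T D₂ M i' n' i n hi₂ hn₂) b₂).1 hb₂
  let W₂ : ptIdx X x.1 := pieceIdx X x.1 Y₂ hxY₂
  let a_x : T.ptGp X x.1 M i n := ((T.ptι X x.1 i n W₂).app M).hom β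
  let Ip₂ : Idx X (ContainsFj X (j + 1)) := ⟨pieceOpen X x.1 W₂,
    containsFj_pieceOpen X x.1 W₂ (j + 1) x.2, dim_pieceOpen X x.1 W₂ (j + 1) x.2⟩
  let p₂ : T.gp (X.res (pieceOpen X x.1 W₂)) M i' n' :=
    (T.push (pieceI X x.1 W₂) M i n i' n'
      (by rw [relCodim_piece X x.1 W₂ (j + 1) x.2]; exact hi)
      (by rw [relCodim_piece X x.1 W₂ (j + 1) x.2]; exact hn)).hom β
  have hP : (P.cpt x M i n i' n' hi hn).hom a_x = ((T.fjι X (j + 1) i' n' Ip₂).app M).hom p₂ :=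
    pushData_cpt_apply T P x M i n i' n' hi hn W₂ β
  let U₃ : X.scheme.Opens := U₁.1 ⊓ pieceOpen X x.1 W₂
  have hF₃ : ContainsFj X (j + 1) U₃ := fun y hy => ⟨U₁.2.1 y hy, Ip₂.2.1 y hy⟩
  have hd₃ := dim_eq_of_containsFj X (j + 1) _ hF₃
  let I₃ : Idx X (ContainsFj X (j + 1)) := ⟨U₃, hF₃, hd₃⟩
  have hI₃U₁ : I₃ ≤ U₁ := (inf_le_left : U₃ ≤ U₁.1)
  have hI₃P : I₃ ≤ Ip₂ := (inf_le_right : U₃ ≤ pieceOpen X x.1 W₂)
  let b₃ : T.gp (X.res U₃) M i' n' :=
    (idxRes T X _ i' n' M hI₃U₁).hom b₁ - (idxRes T X _ i' n' M hI₃P).hom p₂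
  have hY₂P : Y₂ ≤ pieceOpen X x.1 W₂ := le_pieceOpen_pieceIdx x.1 Y₂ hxY₂
  have hY₂U₃ : Y₂ ≤ U₃ := le_inf hY₂U₁ hY₂P
  have hY'Y₂ : Y'.1 ≤ Y₂ := le_inf (hU.trans inf_le_left) hY
  refine ⟨a_x, I₃, b₃, ⟨Y₂, hF₂, hdY₂⟩, hY₂U₃, hxY₂, hY'Y₂, ?_, ?_⟩
  · rw [hP, map_sub, ocolimι_idxRes_apply, ocolimι_idxRes_apply]
  · rw [map_sub, sub_eq_zero]
    -- first term
    have e1 : (T.pull (X.resLE hY₂U₃ (hdY₂.trans hd₃.symm)) M i' n').hom
        ((idxRes T X _ i' n' M hI₃U₁).hom b₁) = b₂ := by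
      have hfac : X.resLE hY₂U₃ (hdY₂.trans hd₃.symm) ≫
          X.resLE (inf_le_left : U₃ ≤ U₁.1) (hd₃.trans U₁.2.2.symm) =
          X.resLE hY₂U₁ (hdY₂.trans U₁.2.2.symm) := by
        apply Hom.ext
        show X.scheme.homOfLE hY₂U₃ ≫ X.scheme.homOfLE (inf_le_left : U₃ ≤ U₁.1) =
          X.scheme.homOfLE hY₂U₁
        rw [Scheme.homOfLE_homOfLE]
      have h1 := congrArg (fun f => (T.pull f M i' n').hom b₁) hfac
      simp only [pull_comp, ModuleCat.hom_comp, LinearMap.comp_apply] at h1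
      exact h1
    have e2 : (T.pull (X.resLE hY₂U₃ (hdY₂.trans hd₃.symm)) M i' n').hom
        ((idxRes T X _ i' n' M hI₃P).hom p₂) =
        (T.push D₂.i M i n i' n' hi₂ hn₂).hom β := by
      have hfac : X.resLE hY₂U₃ (hdY₂.trans hd₃.symm) ≫
          X.resLE (inf_le_right : U₃ ≤ pieceOpen X x.1 W₂) (hd₃.trans Ip₂.2.2.symm) =
          X.resLE hY₂P (hdY₂.trans Ip₂.2.2.symm) := by
        apply Hom.ext
        show X.scheme.homOfLE hY₂U₃ ≫
          X.scheme.homOfLE (inf_le_right : U₃ ≤ pieceOpen X x.1 W₂) = X.scheme.homOfLE hY₂P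
        rw [Scheme.homOfLE_homOfLE]
      have h1 := congrArg (fun f => (T.pull f M i' n').hom p₂) hfac
      simp only [pull_comp, ModuleCat.hom_comp, LinearMap.comp_apply] at h1
      refine h1.trans ?_
      exact push_pieceI_restrict T x Y₂ hxY₂ hF₂ M i n i' n' hi hn hY₂P β
    rw [e1, e2]
    exact hβ.symm

open Classical in
theorem exact_pushTot_fjRes (X : Obj V) (j : ℕ) (P : T.PushData X (j + 1)) (M : A.Cat)
    (i n i' n' : ℤ) (hi : i' = i + 2 * ((j + 1 : ℕ) : ℤ)) (hn : n' = n + ((j + 1 : ℕ) : ℤ)) :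
    Function.Exact (P.tot M i n i' n' hi hn).hom
      ((T.fjRes X (Nat.le_succ j) i' n').app M).hom := by
  haveI : IsNoetherian X.scheme := IsConstructible.isNoetherian X.mem
  intro a
  constructor
  · intro ha
    obtain ⟨U, b, rfl⟩ := exists_rep T X (ContainsFj X (j + 1)) i' n' M a
    rw [fjRes_ι] at ha
    obtain ⟨U', hle, hU'⟩ := (ι_eq_zero_iff T X (ContainsFj X j) i' n' M
      ⟨U.1, containsFj_mono X (Nat.le_succ j) U.1 U.2.1, U.2.2⟩ b).1 ha
    have hle' : U'.1 ≤ U.1 := hle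
    let a₀ := ((T.ocolimι X (ContainsFj X (j + 1)) i' n' U).app M).hom b
    let 𝒴 : Set X.scheme.Opens := {Y' | ∃ (hF : ContainsFj X j Y')
      (hd : WeilCoh.dim (Y' : Scheme.{u}) = WeilCoh.dim X.scheme) (ξ : T.ptSum X (j + 1) M i n)
      (U₁ : Idx X (ContainsFj X (j + 1))) (hY : Y' ≤ U₁.1) (b₁ : T.gp (X.res U₁.1) M i' n'),
      a₀ - (P.tot M i n i' n' hi hn).hom ξ = ((T.fjι X (j + 1) i' n' U₁).app M).hom b₁ ∧
      (T.pull (X.resLE hY (hd.trans U₁.2.2.symm)) M i' n').hom b₁ = 0}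
    have hne : 𝒴.Nonempty :=
      ⟨U'.1, U'.2.1, U'.2.2, 0, U, hle', b, by rw [map_zero, sub_zero], hU'⟩
    have hwf : WellFounded ((· > ·) : X.scheme.Opens → X.scheme.Opens → Prop) :=
      (inferInstance : WellFoundedGT (Opens X.scheme)).wf
    obtain ⟨Ym, ⟨hF, hd, ξ, U₁, hY, b₁, hab, hb₁⟩, hmax⟩ := hwf.has_min 𝒴 hne
    have hF1 : ContainsFj X (j + 1) Ym := by
      intro y hy
      by_contra hyY
      have hcod : WeilCoh.codim X.scheme y = j + 1 := by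
        by_contra hne'
        exact hyY (hF y (by omega))
      obtain ⟨a_x, U₃, b₃, Y₂, hY₂, hxY₂, hYY₂, hsub, hb₃⟩ := push_step T P ⟨y, hcod⟩ M i n i' n'
        hi hn U₁ b₁ ⟨Ym, hF, hd⟩ hY hb₁ hyY
      refine hmax Y₂.1 ⟨Y₂.2.1, Y₂.2.2,
        ξ + DirectSum.lof R (X.cdPt (j + 1)) (fun z : X.cdPt (j + 1) => T.ptGp X z.1 M i n)
          ⟨y, hcod⟩ a_x, U₃, hY₂, b₃, ?_, hb₃⟩ ?_
      · rw [map_add, PreTheory.PushData.tot_lof, ← sub_sub, hab, hsub]
      · exact lt_of_le_of_ne hYY₂ (fun h => hyY (h ▸ hxY₂))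
    -- conclusion
    have hzero : a₀ - (P.tot M i n i' n' hi hn).hom ξ = 0 := by
      rw [hab]
      have := ocolimι_idxRes_apply T X (ContainsFj X (j + 1)) i' n' M
        (show (⟨Ym, hF1, hd⟩ : Idx X (ContainsFj X (j + 1))) ≤ U₁ from hY) b₁
      rw [← this]
      have h0 : (idxRes T X (ContainsFj X (j + 1)) i' n' M
        (show (⟨Ym, hF1, hd⟩ : Idx X (ContainsFj X (j + 1))) ≤ U₁ from hY)).hom b₁ = 0 := hb₁
      rw [h0, map_zero]
    exact ⟨ξ, (sub_eq_zero.1 hzero).symm⟩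
  · rintro ⟨ξ, rfl⟩
    have hcomp : ((T.fjRes X (Nat.le_succ j) i' n').app M).hom ∘ₗ (P.tot M i n i' n' hi hn).hom
        = 0 := by
      apply DirectSum.linearMap_ext
      intro x
      apply LinearMap.ext
      intro a
      simp only [LinearMap.comp_apply, LinearMap.zero_comp, LinearMap.zero_apply]
      rw [PreTheory.PushData.tot_lof]
      exact fjRes_cpt_eq_zero T P x M i n i' n' hi hn a
    exact LinearMap.congr_fun hcomp ξ

end Groth.Agent.Lib.helper27.BMExactC
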