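import Mathlib
import Groth.Prelude.Def_BMCoh2
import Groth.Agent.Lib.Helper27.BMFjRes

namespace Groth.Agent.Lib.helper27.BMFin
universe u
set_option linter.unusedSectionVars false
set_option linter.style.haveILetI false
open CategoryTheory AlgebraicGeometry Opposite BMCoh Limits TopologicalSpace Topology Order
open Groth.Agent.Lib.helper27.BMBasic Groth.Agent.Lib.helper27.BMTop
  Groth.Agent.Lib.helper27.BMGeom Groth.Agent.Lib.helper27.BMColim
  Groth.Agent.Lib.helper27.BMCodim Groth.Agent.Lib.helper27.BMLift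
  Groth.Agent.Lib.helper27.BMDim Groth.Agent.Lib.helper27.BMVanish
  Groth.Agent.Lib.helper27.BMTopPts Groth.Agent.Lib.helper27.BMHyp
  Groth.Agent.Lib.helper27.BMLocal Groth.Agent.Lib.helper27.BMLoc2
  Groth.Agent.Lib.helper27.BMFjRes

variable {V : ObjectProperty Scheme.{u}} [BMCoh.IsConstructible V] {R : Type u} [CommRing R]
  {A : BMCoh.Coefs R} (T : BMCoh.PreTheory V R A)

/-- A closed immersion with open range into a reduced scheme is an open immersion. -/
lemma isOpenImmersion_of_isOpen_range {P Z : Scheme.{u}} [IsReduced Z] (l : P ⟶ Z)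
    [IsClosedImmersion l] (h : IsOpen (Set.range l)) : IsOpenImmersion l := by
  let O : Z.Opens := ⟨Set.range l, h⟩
  have hsub : Set.range l ⊆ Set.range O.ι := by
    rw [Scheme.Opens.range_ι]; exact le_rfl
  let l' : P ⟶ (O : Scheme.{u}) := IsOpenImmersion.lift O.ι l hsub
  have hfac : l' ≫ O.ι = l := IsOpenImmersion.lift_fac _ _ _
  haveI : IsClosedImmersion (l' ≫ O.ι) := by rw [hfac]; infer_instance
  haveI : IsClosedImmersion l' := IsClosedImmersion.of_comp l' O.ι
  haveI : Surjective l' := ⟨fun o => by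
    obtain ⟨p, hp⟩ := o.2
    refine ⟨p, O.ι.isOpenEmbedding.injective ?_⟩
    have := congrArg (fun φ => φ p) hfac
    exact this.trans hp⟩
  haveI : IsIso l' := isIso_of_isClosedImmersion_of_surjective l'
  rw [← hfac]
  infer_instance

/-- The open complement of the range of a closed-open immersion of objects. -/
lemma pull_pushHom_of_disjoint {P₁ P₂ Z : Obj V} (g₁ : P₁ ⟶ Z) (g₂ : P₂ ⟶ Z)
    [IsClosedImmersion g₁.hom] (hdisj : Disjoint (Set.range g₁.hom) (Set.range g₂.hom))
    (M : A.Cat) (i n : ℤ) (y : T.gp P₁ M i n) :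
    (T.pull g₂ M i n).hom ((pushHom T g₁ M i n).hom y) = 0 := by
  let O : Z.scheme.Opens := ⟨(Set.range g₁.hom)ᶜ,
    g₁.hom.isClosedEmbedding.isClosed_range.isOpen_compl⟩
  have hsub : Set.range g₂.hom ⊆ (O : Set Z.scheme) := fun z hz hz' =>
    Set.disjoint_left.1 hdisj hz' hz
  have hdO : WeilCoh.dim (O : Scheme.{u}) = WeilCoh.dim Z.scheme := by
    refine le_antisymm (dim_opens_le Z O) ?_
    rw [← g₂.dim_eq]
    have hsub' : Set.range g₂.hom ⊆ Set.range O.ι := by
      rw [Scheme.Opens.range_ι]; exact hsub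
    let l := IsOpenImmersion.lift O.ι g₂.hom hsub'
    haveI : IsOpenImmersion (l ≫ O.ι) := by
      rw [IsOpenImmersion.lift_fac]; infer_instance
    haveI : IsOpenImmersion l := IsOpenImmersion.of_comp l O.ι
    exact dim_le_of_isInducing l l.isOpenEmbedding.isInducing (finiteDim_opens Z _)
  have hr : Set.range (Z.resι O hdO).hom = (Set.range g₁.hom)ᶜ := by
    rw [range_resι]; rfl
  have h0 := pushHom_pull_other T (Z.resι O hdO) g₁ hr M i n y
  have hsub2 : Set.range g₂.hom ⊆ Set.range (Z.resι O hdO).hom := by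
    rw [range_resι]; exact hsub
  have hfac : liftHom g₂ (Z.resι O hdO) hsub2 ≫ Z.resι O hdO = g₂ := liftHom_fac _ _ _
  rw [← hfac, pull_comp]
  show (T.pull _ M i n).hom ((T.pull (Z.resι O hdO) M i n).hom ((pushHom T g₁ M i n).hom y)) = 0
  rw [h0, map_zero]

lemma pull_pushHom_self {P Z : Obj V} (g : P ⟶ Z) [IsClosedImmersion g.hom] (M : A.Cat)
    (i n : ℤ) (y : T.gp P M i n) : (T.pull g M i n).hom ((pushHom T g M i n).hom y) = y :=
  congrArg (fun f => f.hom y) (pushHom_pull_self T g M i n)

/-- Vanishing on an open subobject gives vanishing on the open of the object it covers. -/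
lemma pull_resι_opensRange_eq_zero' {P Z : Obj V} (g : P ⟶ Z) (M : A.Cat) (i n : ℤ)
    (δ : T.gp Z M i n) (hδ : (T.pull g M i n).hom δ = 0)
    (hd : WeilCoh.dim (g.hom.opensRange : Scheme.{u}) = WeilCoh.dim Z.scheme) :
    (T.pull (Z.resι g.hom.opensRange hd) M i n).hom δ = 0 := by
  have hr : Set.range g.hom = Set.range (Z.resι g.hom.opensRange hd).hom := by
    rw [range_resι]; rfl
  let θ : P ⟶ Z.res g.hom.opensRange := liftHom g (Z.resι _ hd) hr.le
  haveI : IsIso θ.hom := isIso_liftHom _ _ hr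
  apply (pull_bijective_of_isIso T θ M i n).1
  rw [map_zero, ← hδ]
  have hθ : θ ≫ Z.resι _ hd = g := liftHom_fac _ _ _
  conv_rhs => rw [← hθ, pull_comp]
  rfl

lemma dim_opensRange {P Z : Obj V} (g : P ⟶ Z) :
    WeilCoh.dim (g.hom.opensRange : Scheme.{u}) = WeilCoh.dim Z.scheme := by
  rw [← g.dim_eq]
  exact (dim_eq_of_iso (IsOpenImmersion.isoOfRangeEq g.hom g.hom.opensRange.ι
    (by rw [Scheme.Opens.range_ι]; rfl))).symm

section family
variable {ι : Type*} (Z : Obj V) (P : ι → Obj V) (g : ∀ s, P s ⟶ Z)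
  (hdisj : ∀ s t, s ≠ t → Disjoint (Set.range (g s).hom) (Set.range (g t).hom))

include hdisj in
/-- A class vanishing on each member of a finite family of pairwise disjoint open subobjects
vanishes on the union of their ranges. -/
lemma pull_sup_eq_zero_of_forall (M : A.Cat) (i n : ℤ) (δ : T.gp Z M i n)
    (hδ : ∀ s, (T.pull (g s) M i n).hom δ = 0) (S : Finset ι) (hS : S.Nonempty) :
    ∃ hd : WeilCoh.dim ((S.sup (fun s => (g s).hom.opensRange) : Z.scheme.Opens) : Scheme.{u}) =
        WeilCoh.dim Z.scheme,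
      (T.pull (Z.resι (S.sup (fun s => (g s).hom.opensRange)) hd) M i n).hom δ = 0 := by
  induction hS using Finset.Nonempty.cons_induction with
  | singleton a =>
    rw [Finset.sup_singleton]
    exact ⟨dim_opensRange (g a), pull_resι_opensRange_eq_zero' T (g a) M i n δ (hδ a) _⟩
  | cons a S ha hS ih =>
    obtain ⟨hd, h0⟩ := ih
    rw [Finset.sup_cons]
    have hda := dim_opensRange (g a)
    have hd' : Disjoint (g a).hom.opensRange (S.sup (fun s => (g s).hom.opensRange)) := by
      rw [Finset.disjoint_sup_right]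
      intro s hs
      rw [disjoint_iff]
      apply Opens.ext
      have := hdisj a s (fun h => ha (h ▸ hs))
      exact Set.disjoint_iff_inter_eq_empty.1 this
    exact ⟨dim_sup_eq Z _ _ hda, pull_sup_eq_zero T Z _ _ hd' hda hd M i n δ
      (pull_resι_opensRange_eq_zero' T (g a) M i n δ (hδ a) _) h0⟩

variable [Fintype ι] (hcov : ∀ z : Z.scheme, ∃ s, z ∈ Set.range (g s).hom)

include hdisj hcov in
lemma eq_zero_of_forall_pull (M : A.Cat) (i n : ℤ) (δ : T.gp Z M i n)
    (hδ : ∀ s, (T.pull (g s) M i n).hom δ = 0) : δ = 0 := by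
  by_cases hne : (Finset.univ : Finset ι).Nonempty
  · obtain ⟨hd, h0⟩ := pull_sup_eq_zero_of_forall T Z P g hdisj M i n δ hδ Finset.univ hne
    have htop : (Finset.univ.sup (fun s => (g s).hom.opensRange) : Z.scheme.Opens) = ⊤ := by
      apply Opens.ext
      ext z
      simp only [Opens.coe_top, Set.mem_univ, iff_true]
      obtain ⟨s, hs⟩ := hcov z
      have : (g s).hom.opensRange ≤ Finset.univ.sup (fun s => (g s).hom.opensRange) :=
        Finset.le_sup (f := fun s => (g s).hom.opensRange) (Finset.mem_univ s)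
      exact this hs
    haveI : IsIso (Z.resι (Finset.univ.sup (fun s => (g s).hom.opensRange)) hd).hom := by
      show IsIso (Scheme.Opens.ι _)
      rw [htop]
      exact Z.scheme.topIso.isIso_hom
    exact (pull_bijective_of_isIso T _ M i n).1 (h0.trans (map_zero _).symm)
  · haveI : IsEmpty Z.scheme := ⟨fun z => by
      obtain ⟨s, -⟩ := hcov z
      exact hne ⟨s, Finset.mem_univ s⟩⟩
    exact gp_eq_zero_of_isEmpty T Z M i n δ

variable [∀ s, IsClosedImmersion (g s).hom] [DecidableEq ι]

include hdisj in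
lemma pull_sum_pushHom (M : A.Cat) (i n : ℤ) (γ : ∀ s, T.gp (P s) M i n) (t : ι) :
    (T.pull (g t) M i n).hom (∑ s, (pushHom T (g s) M i n).hom (γ s)) = γ t := by
  rw [map_sum, Finset.sum_eq_single t]
  · exact pull_pushHom_self T (g t) M i n (γ t)
  · intro s _ hst
    exact pull_pushHom_of_disjoint T (g s) (g t) (hdisj s t hst) M i n (γ s)
  · intro h; exact absurd (Finset.mem_univ t) h

include hdisj hcov in
/-- Finite additivity: a class on a finite disjoint union is the sum of the push-forwards of its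
restrictions to the pieces. -/
theorem eq_sum_pushHom_pull (M : A.Cat) (i n : ℤ) (γ : T.gp Z M i n) :
    γ = ∑ s, (pushHom T (g s) M i n).hom ((T.pull (g s) M i n).hom γ) := by
  rw [← sub_eq_zero]
  apply eq_zero_of_forall_pull T Z P g hdisj hcov M i n
  intro t
  rw [map_sub, pull_sum_pushHom T Z P g hdisj M i n, sub_self]

end family

end Groth.Agent.Lib.helper27.BMFin
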