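import Mathlib
import Groth.Prelude.Def_BMCoh3
import Groth.Agent.Lib.Helper27.BMFin
import Groth.Agent.Lib.Helper27.BMClosed
import Groth.Agent.Lib.Helper27.BMExactC

namespace Groth.Agent.Lib.helper27.BMSigma
universe u
set_option linter.unusedSectionVars false
set_option linter.style.haveILetI false
open CategoryTheory AlgebraicGeometry Opposite BMCoh Limits TopologicalSpace Topology Order
open Groth.Agent.Lib.helper27.BMBasic Groth.Agent.Lib.helper27.BMTop
  Groth.Agent.Lib.helper27.BMGeom Groth.Agent.Lib.helper27.BMColim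
  Groth.Agent.Lib.helper27.BMCodim Groth.Agent.Lib.helper27.BMLift
  Groth.Agent.Lib.helper27.BMDim Groth.Agent.Lib.helper27.BMVanish
  Groth.Agent.Lib.helper27.BMTopPts Groth.Agent.Lib.helper27.BMHyp
  Groth.Agent.Lib.helper27.BMLocal Groth.Agent.Lib.helper27.BMLoc2
  Groth.Agent.Lib.helper27.BMFjRes Groth.Agent.Lib.helper27.BMResDecomp
  Groth.Agent.Lib.helper27.BMClosed Groth.Agent.Lib.helper27.BMFin
  Groth.Agent.Lib.helper27.BMPiece Groth.Agent.Lib.helper27.BMResEval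

variable {V : ObjectProperty Scheme.{u}} [BMCoh.IsConstructible V] {R : Type u} [CommRing R]
  {A : BMCoh.Coefs R}

section sigma
variable (X : Obj V) {j : ℕ} (S : Finset (X.cdPt (j + 1)))

/-- The union of the closures of the points of `S`. -/
def sC : Closeds X.scheme :=
  ⟨⋃ x ∈ S, closure ({x.1} : Set X.scheme), isClosed_biUnion_finset fun _ _ => isClosed_closure⟩

lemma mem_sC {y : X.scheme} :
    y ∈ (sC X S : Set X.scheme) ↔ ∃ x ∈ S, y ∈ closure ({x.1} : Set X.scheme) := by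
  show y ∈ ⋃ x ∈ S, closure ({x.1} : Set X.scheme) ↔ _
  simp only [Set.mem_iUnion, exists_prop]

lemma le_codim_of_mem_sC {y : X.scheme} (hy : y ∈ (sC X S : Set X.scheme)) :
    j + 1 ≤ WeilCoh.codim X.scheme y := by
  obtain ⟨x, -, hyx⟩ := (mem_sC X S).1 hy
  have h1 := codim_le_of_specializes X (specializes_iff_mem_closure.2 hyx)
  have h2 := x.2
  omega

lemma dim_sC (hS : S.Nonempty) :
    WeilCoh.dim (redSub X (sC X S)).scheme + (j + 1) = WeilCoh.dim X.scheme := by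
  obtain ⟨x₀, hx₀⟩ := hS
  exact dim_redSub_add X (sC X S) (j + 1) (fun c hc => le_codim_of_mem_sC X S hc) x₀.1
    ((mem_sC X S).2 ⟨x₀, hx₀, subset_closure rfl⟩) x₀.2

lemma eq_of_mem_closure (x x' : X.cdPt (j + 1))
    (h : x.1 ∈ closure ({x'.1} : Set X.scheme)) : x = x' := by
  have hsp : x'.1 ⤳ x.1 := specializes_iff_mem_closure.2 h
  apply Subtype.ext
  by_contra hne
  have h0 := pdim_lt_of_specializes_ne X hsp hne
  have h1 := x.2
  have h2 := x'.2
  have h3 := pdim_le_dim X x.1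
  have h4 := pdim_le_dim X x'.1
  unfold WeilCoh.codim at h1 h2
  omega

/-- A point of codimension `j + 1` lying in the union of the closures belongs to `S`. -/
lemma mem_of_mem_sC (x : X.cdPt (j + 1)) (hx : x.1 ∈ (sC X S : Set X.scheme)) : x ∈ S := by
  obtain ⟨x', hx', hxx'⟩ := (mem_sC X S).1 hx
  exact (eq_of_mem_closure X x x' hxx') ▸ hx'

variable (Y : X.scheme.Opens) (hFY : ContainsFj X (j + 1) Y)

include hFY in
lemma containsFj_sU : ContainsFj X j (Y ⊓ (sC X S).compl) :=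
  containsFj_compl (Nat.lt_succ_self j) (fun c hc => le_codim_of_mem_sC X S hc)
    (containsFj_mono X (Nat.le_succ j) Y hFY)

include hFY in
lemma dim_sU : WeilCoh.dim ((Y ⊓ (sC X S).compl : X.scheme.Opens) : Scheme.{u}) =
    WeilCoh.dim X.scheme := dim_eq_of_containsFj X j _ (containsFj_sU X S Y hFY)

include hFY in
lemma dim_sY : WeilCoh.dim (Y : Scheme.{u}) = WeilCoh.dim X.scheme :=
  dim_eq_of_containsFj X (j + 1) _ hFY

/-- The index of the open part. -/
noncomputable abbrev sU : Idx X (ContainsFj X j) :=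
  ⟨Y ⊓ (sC X S).compl, containsFj_sU X S Y hFY, dim_sU X S Y hFY⟩

/-- The index of `Y`. -/
noncomputable abbrev sY : Idx X (ContainsFj X (j + 1)) := ⟨Y, hFY, dim_sY X Y hFY⟩

/-- The decomposition of `Y` into the union of the pieces and the rest. -/
noncomputable abbrev sD : Decomp (X.res Y) :=
  clDecomp X (sC X S) Y ((dim_sU X S Y hFY).trans (dim_sY X Y hFY).symm)

include hFY in
lemma dim_sW (hS : S.Nonempty) : WeilCoh.dim (clW X (sC X S) Y : Scheme.{u}) =
    WeilCoh.dim (redSub X (sC X S)).scheme :=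
  dim_eq_of_containsFj _ 0 _ (containsFj_clW (k := j + 1) (m := 0) (dim_sC X S hS) hFY)

lemma sD_codim (hS : S.Nonempty) :
    relCodim (sD X S Y hFY).Z.scheme (X.res Y).scheme = ((j + 1 : ℕ) : ℤ) :=
  clDecomp_codim (dim_sC X S hS) _ (dim_sY X Y hFY) (dim_sW X S Y hFY hS)

include hFY in
lemma mem_sY (x : X.cdPt (j + 1)) : x.1 ∈ Y := hFY x.1 (le_of_eq x.2)

lemma range_restrict_ptSubι (x : X.scheme) :
    Set.range (X.ptSubι x ∣_ Y) = {p : ↥Y | p.1 ∈ closure ({x} : Set X.scheme)} := by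
  ext p
  constructor
  · rintro ⟨s, rfl⟩
    show ((X.ptSubι x ∣_ Y) s : ↥Y).1 ∈ closure ({x} : Set X.scheme)
    rw [morphismRestrict_base_coe, ← range_ptSubι]
    exact ⟨_, rfl⟩
  · intro hp
    have hp' : p.1 ∈ closure ({x} : Set X.scheme) := hp
    rw [← range_ptSubι] at hp'
    obtain ⟨s, hs⟩ := hp'
    refine ⟨⟨s, by show X.ptSubι x s ∈ Y; rw [hs]; exact p.2⟩, ?_⟩
    apply Subtype.ext
    rw [morphismRestrict_base_coe]
    exact hs

lemma range_restrict_redSubι (C : Closeds X.scheme) :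
    Set.range (redSubι X C ∣_ Y) = {p : ↥Y | p.1 ∈ (C : Set X.scheme)} := by
  ext p
  constructor
  · rintro ⟨s, rfl⟩
    show ((redSubι X C ∣_ Y) s : ↥Y).1 ∈ (C : Set X.scheme)
    rw [morphismRestrict_base_coe]
    exact redSubι_mem X C _
  · intro hp
    have hp' : p.1 ∈ (C : Set X.scheme) := hp
    rw [← range_redSubι] at hp'
    obtain ⟨s, hs⟩ := hp'
    refine ⟨⟨s, by show redSubι X C s ∈ Y; rw [hs]; exact p.2⟩, ?_⟩
    apply Subtype.ext
    rw [morphismRestrict_base_coe]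
    exact hs

lemma exists_sG (x : X.cdPt (j + 1)) (hx : x ∈ S) :
    ∃ l : (pieceW X x.1 Y : Scheme.{u}) ⟶ (clW X (sC X S) Y : Scheme.{u}),
      l ≫ (redSubι X (sC X S) ∣_ Y) = X.ptSubι x.1 ∣_ Y := by
  refine exists_lift_of_isReduced (redSubι X (sC X S) ∣_ Y) (X.ptSubι x.1 ∣_ Y) ?_
  rw [range_restrict_ptSubι, range_restrict_redSubι]
  intro p hp
  exact (mem_sC X S).2 ⟨x, hx, hp⟩

/-- The inclusion of the piece of the closure of `x` into the union of the pieces. -/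
noncomputable def sGhom (x : X.cdPt (j + 1)) (hx : x ∈ S) :
    (pieceW X x.1 Y : Scheme.{u}) ⟶ (clW X (sC X S) Y : Scheme.{u}) :=
  (exists_sG X S Y x hx).choose

@[reassoc]
lemma sGhom_fac (x : X.cdPt (j + 1)) (hx : x ∈ S) :
    sGhom X S Y x hx ≫ (redSubι X (sC X S) ∣_ Y) = X.ptSubι x.1 ∣_ Y :=
  (exists_sG X S Y x hx).choose_spec

instance (x : X.cdPt (j + 1)) (hx : x ∈ S) : IsClosedImmersion (sGhom X S Y x hx) := by
  haveI : IsClosedImmersion (sGhom X S Y x hx ≫ (redSubι X (sC X S) ∣_ Y)) := by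
    rw [sGhom_fac]; infer_instance
  exact IsClosedImmersion.of_comp (sGhom X S Y x hx) (redSubι X (sC X S) ∣_ Y)

lemma coe_sGhom_apply (x : X.cdPt (j + 1)) (hx : x ∈ S) (w : (pieceW X x.1 Y : Scheme.{u})) :
    redSubι X (sC X S) ((clW X (sC X S) Y).ι (sGhom X S Y x hx w)) =
      X.ptSubι x.1 ((pieceW X x.1 Y).ι w) := by
  have h := congrArg (fun φ => Y.ι (φ w)) (sGhom_fac X S Y x hx)
  simp only [Scheme.Hom.comp_base, TopCat.hom_comp, ContinuousMap.comp_apply] at h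
  have e1 : ∀ z, Y.ι ((redSubι X (sC X S) ∣_ Y) z) =
      redSubι X (sC X S) ((clW X (sC X S) Y).ι z) := fun z =>
    congrArg (fun φ => φ z) (morphismRestrict_ι (redSubι X (sC X S)) Y)
  have e2 : ∀ z, Y.ι ((X.ptSubι x.1 ∣_ Y) z) = X.ptSubι x.1 ((pieceW X x.1 Y).ι z) := fun z =>
    congrArg (fun φ => φ z) (morphismRestrict_ι (X.ptSubι x.1) Y)
  rw [e1, e2] at h
  exact h

lemma mem_range_sGhom (x : X.cdPt (j + 1)) (hx : x ∈ S) (z : (clW X (sC X S) Y : Scheme.{u})) :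
    z ∈ Set.range (sGhom X S Y x hx) ↔
      redSubι X (sC X S) ((clW X (sC X S) Y).ι z) ∈ closure ({x.1} : Set X.scheme) := by
  constructor
  · rintro ⟨w, rfl⟩
    rw [coe_sGhom_apply, ← range_ptSubι]
    exact ⟨_, rfl⟩
  · intro hz
    rw [← range_ptSubι] at hz
    obtain ⟨s, hs⟩ := hz
    have hsY : s ∈ pieceW X x.1 Y := by
      show X.ptSubι x.1 s ∈ Y
      rw [hs]; exact z.2
    refine ⟨⟨s, hsY⟩, ?_⟩
    apply (clW X (sC X S) Y).ι.isOpenEmbedding.injective
    apply (redSubι X (sC X S)).isClosedEmbedding.injective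
    rw [coe_sGhom_apply]
    exact hs

variable (hdisj : ∀ x ∈ S, ∀ x' ∈ S, x ≠ x' → ∀ y ∈ Y,
  y ∈ closure ({x.1} : Set X.scheme) → y ∉ closure ({x'.1} : Set X.scheme))

lemma redSubι_ι_mem (C : Closeds X.scheme) (z : (clW X C Y : Scheme.{u})) :
    redSubι X C ((clW X C Y).ι z) ∈ Y := z.2

include hdisj in
lemma isOpen_range_sGhom (x : X.cdPt (j + 1)) (hx : x ∈ S) :
    IsOpen (Set.range (sGhom X S Y x hx)) := by
  classical
  rw [← isClosed_compl_iff]
  have : (Set.range (sGhom X S Y x hx))ᶜ =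
      (fun z : (clW X (sC X S) Y : Scheme.{u}) =>
        redSubι X (sC X S) ((clW X (sC X S) Y).ι z)) ⁻¹'
        (sC X (S.erase x) : Set X.scheme) := by
    ext z
    rw [Set.mem_compl_iff, mem_range_sGhom, Set.mem_preimage]
    constructor
    · intro hz
      obtain ⟨x', hx', hzx'⟩ := (mem_sC X S).1 (redSubι_mem X (sC X S) _)
      refine (mem_sC X (S.erase x)).2 ⟨x', Finset.mem_erase.2 ⟨?_, hx'⟩, hzx'⟩
      rintro rfl
      exact hz hzx'
    · intro hz hzx
      obtain ⟨x', hx', hzx'⟩ := (mem_sC X (S.erase x)).1 hz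
      obtain ⟨hne, hx'S⟩ := Finset.mem_erase.1 hx'
      exact hdisj x hx x' hx'S (Ne.symm hne) _ (redSubι_ι_mem X Y (sC X S) z) hzx hzx'
  rw [this]
  exact (sC X (S.erase x)).2.preimage
    ((redSubι X (sC X S)).continuous.comp (clW X (sC X S) Y).ι.continuous)

include hdisj in
lemma isOpenImmersion_sGhom (x : X.cdPt (j + 1)) (hx : x ∈ S) :
    IsOpenImmersion (sGhom X S Y x hx) :=
  isOpenImmersion_of_isOpen_range _ (isOpen_range_sGhom X S Y hdisj x hx)

/-- The inclusion of a piece, as a morphism of objects. -/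
noncomputable def sG (hS : S.Nonempty) (x : X.cdPt (j + 1)) (hx : x ∈ S) :
    (X.ptSub x.1).res (pieceW X x.1 Y) ⟶ (sD X S Y hFY).Z :=
  ⟨sGhom X S Y x hx, isOpenImmersion_sGhom X S Y hdisj x hx, by
    show WeilCoh.dim (pieceW X x.1 Y : Scheme.{u}) = WeilCoh.dim (clW X (sC X S) Y : Scheme.{u})
    rw [dim_sW X S Y hFY hS]
    have h1 : WeilCoh.dim (pieceW X x.1 Y : Scheme.{u}) = WeilCoh.pdim X.scheme x.1 :=
      (pieceIdx X x.1 Y (mem_sY X Y hFY x)).2.2.trans (dim_ptSub X x.1)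
    have h2 := dim_sC X S hS
    have h3 := x.2
    have h4 := pdim_le_dim X x.1
    unfold WeilCoh.codim at h3
    omega⟩

instance (hS : S.Nonempty) (x : X.cdPt (j + 1)) (hx : x ∈ S) :
    IsClosedImmersion (sG X S Y hFY hdisj hS x hx).hom :=
  inferInstanceAs (IsClosedImmersion (sGhom X S Y x hx))

lemma sG_fac (hS : S.Nonempty) (x : X.cdPt (j + 1)) (hx : x ∈ S) :
    (sG X S Y hFY hdisj hS x hx).hom ≫ (sD X S Y hFY).i = X.ptSubι x.1 ∣_ Y :=
  sGhom_fac X S Y x hx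

lemma sG_disjoint (hS : S.Nonempty) (s t : {x // x ∈ S}) (hst : s ≠ t) :
    Disjoint (Set.range (sG X S Y hFY hdisj hS s.1 s.2).hom)
      (Set.range (sG X S Y hFY hdisj hS t.1 t.2).hom) := by
  rw [Set.disjoint_left]
  intro z hzs hzt
  have h1 : z ∈ Set.range (sGhom X S Y s.1 s.2) := hzs
  have h2 : z ∈ Set.range (sGhom X S Y t.1 t.2) := hzt
  rw [mem_range_sGhom] at h1 h2
  exact hdisj s.1 s.2 t.1 t.2 (fun h => hst (Subtype.ext h)) _
    (redSubι_ι_mem X Y (sC X S) z) h1 h2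

lemma sG_cover (hS : S.Nonempty) (z : (sD X S Y hFY).Z.scheme) :
    ∃ s : {x // x ∈ S}, z ∈ Set.range (sG X S Y hFY hdisj hS s.1 s.2).hom := by
  obtain ⟨x, hx, hzx⟩ := (mem_sC X S).1
    (redSubι_mem X (sC X S) ((clW X (sC X S) Y).ι z))
  refine ⟨⟨x, hx⟩, ?_⟩
  show z ∈ Set.range (sGhom X S Y x hx)
  rw [mem_range_sGhom]
  exact hzx

end sigma

end Groth.Agent.Lib.helper27.BMSigma
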