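import Mathlib
import Groth.Prelude.Def_BMCoh3
import Groth.Agent.Lib.Helper27.BMSigma

namespace Groth.Agent.Lib.helper27.BMSigma2
universe u
set_option linter.unusedSectionVars false
set_option linter.style.haveILetI false
open CategoryTheory AlgebraicGeometry Opposite BMCoh Limits TopologicalSpace Topology Order
open Groth.Agent.Lib.helper27.BMBasic Groth.Agent.Lib.helper27.BMTop
  Groth.Agent.Lib.helper27.BMGeom Groth.Agent.Lib.helper27.BMColim
  Groth.Agent.Lib.helper27.BMCodim Groth.Agent.Lib.helper27.BMLift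
  Groth.Agent.Lib.helper27.BMDim Groth.Agent.Lib.helper27.BMVanish
  Groth.Agent.Lib.helper27.BMTopPts Groth.Agent.Lib.helper27.BMHyp
  Groth.Agent.Lib.helper27.BMLocal Groth.Agent.Lib.helper27.BMLoc2
  Groth.Agent.Lib.helper27.BMFjRes Groth.Agent.Lib.helper27.BMResDecomp
  Groth.Agent.Lib.helper27.BMClosed Groth.Agent.Lib.helper27.BMFin
  Groth.Agent.Lib.helper27.BMPiece Groth.Agent.Lib.helper27.BMResEval
  Groth.Agent.Lib.helper27.BMSigma

variable {V : ObjectProperty Scheme.{u}} [BMCoh.IsConstructible V] {R : Type u} [CommRing R]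
  {A : BMCoh.Coefs R} (T : BMCoh.PreTheory V R A)

lemma push_congr {X Y : Obj V} {f f' : X.scheme ⟶ Y.scheme} [IsProper f] [IsProper f']
    (h : f = f') (M : A.Cat) (i n i' n' : ℤ) (hi : i' = i + 2 * relCodim X.scheme Y.scheme)
    (hn : n' = n + relCodim X.scheme Y.scheme) :
    T.push f M i n i' n' hi hn = T.push f' M i n i' n' hi hn := by
  subst h; rfl

section
variable (X : Obj V) {j : ℕ} (S : Finset (X.cdPt (j + 1))) (Y : X.scheme.Opens)
  (hFY : ContainsFj X (j + 1) Y)
  (hdisj : ∀ x ∈ S, ∀ x' ∈ S, x ≠ x' → ∀ y ∈ Y,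
    y ∈ closure ({x.1} : Set X.scheme) → y ∉ closure ({x'.1} : Set X.scheme))
  (hS : S.Nonempty)

include hFY in
lemma relCodim_piece_Y (x : X.cdPt (j + 1)) :
    relCodim ((X.ptSub x.1).res (pieceW X x.1 Y)).scheme (X.res Y).scheme =
      ((j + 1 : ℕ) : ℤ) := by
  have := resDecomp_codim (mem_sY X Y hFY x) x.2 (containsFj_mono X (Nat.le_succ j) Y hFY)
  push_cast
  exact this

/-- (Σ2): a push-forward datum on a class represented on the piece over `Y`. -/
theorem sigma_push (P : T.PushData X (j + 1)) (x : X.cdPt (j + 1)) (M : A.Cat) (i n k l : ℤ)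
    (hk : k = i + 2 * ((j + 1 : ℕ) : ℤ)) (hl : l = n + ((j + 1 : ℕ) : ℤ))
    (γ : T.gp ((X.ptSub x.1).res (pieceW X x.1 Y)) M i n) :
    (P.cpt x M i n k l hk hl).hom
        (((T.ptι X x.1 i n (pieceIdx X x.1 Y (mem_sY X Y hFY x))).app M).hom γ) =
      ((T.fjι X (j + 1) k l (sY X Y hFY)).app M).hom
        ((T.push (X.ptSubι x.1 ∣_ Y) M i n k l
          (by rw [relCodim_piece_Y X Y hFY x]; exact hk)
          (by rw [relCodim_piece_Y X Y hFY x]; exact hl)).hom γ) := by
  have := P.cpt_spec x M i n k l hk hl (sY X Y hFY) (pieceIdx X x.1 Y (mem_sY X Y hFY x))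
    (X.ptSubι x.1 ∣_ Y) (morphismRestrict_ι _ _)
    (by rw [relCodim_piece_Y X Y hFY x]; exact hk)
    (by rw [relCodim_piece_Y X Y hFY x]; exact hl)
  exact congrArg (fun φ => φ.hom γ) this

/-- (Σ1'): residues at points outside `S` vanish on classes coming from the open part. -/
theorem sigma_res_zero (Q : T.ResData X j) (x : X.cdPt (j + 1)) (hx : x ∉ S) (M : A.Cat)
    (i n i' n' : ℤ) (hi : i' = i + 1 - 2 * ((j : ℤ) + 1)) (hn : n' = n - ((j : ℤ) + 1))
    (c : T.gp (sD X S Y hFY).U M i n) :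
    (Q.cpt x M i n i' n' hi hn).hom (((T.fjι X j i n (sU X S Y hFY)).app M).hom c) = 0 :=
  resData_cpt_eq_zero_of_mem T Q x M i n i' n' hi hn (sU X S Y hFY)
    ⟨mem_sY X Y hFY x, fun h => hx (mem_of_mem_sC X S x h)⟩ c

/-- (Σ1): residues at points of `S` are computed by the residue map of the decomposition. -/
theorem sigma_res (Q : T.ResData X j) (x : X.cdPt (j + 1)) (hx : x ∈ S) (M : A.Cat)
    (i n i' n' : ℤ) (hi : i' = i + 1 - 2 * ((j : ℤ) + 1)) (hn : n' = n - ((j : ℤ) + 1))
    (c : T.gp (sD X S Y hFY).U M i n) :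
    (Q.cpt x M i n i' n' hi hn).hom (((T.fjι X j i n (sU X S Y hFY)).app M).hom c) =
      ((T.ptι X x.1 i' n' (pieceIdx X x.1 Y (mem_sY X Y hFY x))).app M).hom
        ((T.pull (sG X S Y hFY hdisj hS x hx) M i' n').hom
          ((T.res (sD X S Y hFY) M i n i' n'
            (by
              have := sD_codim X S Y hFY hS
              rw [show (sD X S Y hFY).codim = ((j + 1 : ℕ) : ℤ) from this, hi]; push_cast; ring)
            (by
              have := sD_codim X S Y hFY hS
              rw [show (sD X S Y hFY).codim = ((j + 1 : ℕ) : ℤ) from this, hn]; push_cast; ring)).hom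
            c)) := by
  have hcod : (sD X S Y hFY).codim = ((j + 1 : ℕ) : ℤ) := sD_codim X S Y hFY hS
  have := Q.cpt_spec x M i n i' n' hi hn (X.resι Y (dim_sY X Y hFY)) (sD X S Y hFY)
    (pieceIdx X x.1 Y (mem_sY X Y hFY x)) (sG X S Y hFY hdisj hS x hx)
    (by
      rw [← Category.assoc, sG_fac]
      exact morphismRestrict_ι _ _)
    (sU X S Y hFY) (𝟙 _)
    (by
      show 𝟙 _ ≫ X.scheme.homOfLE (inf_le_left : Y ⊓ (sC X S).compl ≤ Y) ≫ Y.ι = _
      rw [Category.id_comp, Scheme.homOfLE_ι])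
    (by rw [hcod, hi]; push_cast; ring)
    (by rw [hcod, hn]; push_cast; ring)
  have h2 := congrArg (fun φ => φ.hom c) this
  simp only [ModuleCat.hom_comp, LinearMap.comp_apply] at h2
  have h3 : (T.pull (𝟙 (X.res (sU X S Y hFY).1)) M i n).hom c = c := by
    rw [pull_id]; rfl
  rw [h3] at h2
  exact h2

/-- The index type of the pieces. -/
abbrev SIdx : Type u := {x : X.cdPt (j + 1) // x ∈ S}

/-- (Σ3), first half: the push-forward of a sum of classes pushed from the pieces. -/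
theorem sigma_push_sum (M : A.Cat) (i n k l : ℤ)
    (hk : k = i + 2 * ((j + 1 : ℕ) : ℤ)) (hl : l = n + ((j + 1 : ℕ) : ℤ))
    (γ : ∀ s : SIdx X S, T.gp ((X.ptSub s.1.1).res (pieceW X s.1.1 Y)) M i n) :
    (T.push (sD X S Y hFY).i M i n k l
        (by rw [sD_codim X S Y hFY hS]; exact hk)
        (by rw [sD_codim X S Y hFY hS]; exact hl)).hom
      (∑ s : SIdx X S, (pushHom T (sG X S Y hFY hdisj hS s.1 s.2) M i n).hom (γ s)) =
    ∑ s : SIdx X S, (T.push (X.ptSubι s.1.1 ∣_ Y) M i n k l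
        (by rw [relCodim_piece_Y X Y hFY s.1]; exact hk)
        (by rw [relCodim_piece_Y X Y hFY s.1]; exact hl)).hom (γ s) := by
  rw [map_sum]
  refine Finset.sum_congr rfl (fun s _ => ?_)
  have hdim := (sG X S Y hFY hdisj hS s.1 s.2).dim_eq
  have := T.push_comp (sG X S Y hFY hdisj hS s.1 s.2).hom (sD X S Y hFY).i M i n i n k l
    (by rw [relCodim_eq_zero hdim]; ring) (by rw [relCodim_eq_zero hdim]; ring)
    (by rw [sD_codim X S Y hFY hS]; exact hk)
    (by rw [sD_codim X S Y hFY hS]; exact hl)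
    (by rw [relCodim_piece_Y X Y hFY s.1]; exact hk)
    (by rw [relCodim_piece_Y X Y hFY s.1]; exact hl)
  have h2 := congrArg (fun φ => φ.hom (γ s)) this
  simp only [ModuleCat.hom_comp, LinearMap.comp_apply] at h2
  refine h2.trans ?_
  exact congrArg (fun φ => φ.hom (γ s))
    (push_congr T (sG_fac X S Y hFY hdisj hS s.1 s.2) M i n k l _ _)

open Classical in
/-- (Σ3), restriction of a sum of classes pushed from the pieces. -/
theorem sigma_pull_sum (M : A.Cat) (i n : ℤ)
    (γ : ∀ s : SIdx X S, T.gp ((X.ptSub s.1.1).res (pieceW X s.1.1 Y)) M i n) (t : SIdx X S) :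
    (T.pull (sG X S Y hFY hdisj hS t.1 t.2) M i n).hom
      (∑ s : SIdx X S, (pushHom T (sG X S Y hFY hdisj hS s.1 s.2) M i n).hom (γ s)) = γ t :=
  pull_sum_pushHom T (sD X S Y hFY).Z
    (fun s : SIdx X S => (X.ptSub s.1.1).res (pieceW X s.1.1 Y))
    (fun s => sG X S Y hFY hdisj hS s.1 s.2)
    (fun s t hst => sG_disjoint X S Y hFY hdisj hS s t hst) M i n γ t

open Classical in
/-- (Σ3): the push-forward from the union of the pieces is the sum of the push-forwards from
the pieces. -/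
theorem sigma_push_decomp (M : A.Cat) (i n k l : ℤ)
    (hk : k = i + 2 * ((j + 1 : ℕ) : ℤ)) (hl : l = n + ((j + 1 : ℕ) : ℤ))
    (γ : T.gp (sD X S Y hFY).Z M i n) :
    (T.push (sD X S Y hFY).i M i n k l
        (by rw [sD_codim X S Y hFY hS]; exact hk)
        (by rw [sD_codim X S Y hFY hS]; exact hl)).hom γ =
    ∑ s : SIdx X S, (T.push (X.ptSubι s.1.1 ∣_ Y) M i n k l
        (by rw [relCodim_piece_Y X Y hFY s.1]; exact hk)
        (by rw [relCodim_piece_Y X Y hFY s.1]; exact hl)).hom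
        ((T.pull (sG X S Y hFY hdisj hS s.1 s.2) M i n).hom γ) := by
  have h := eq_sum_pushHom_pull T (sD X S Y hFY).Z
    (fun s : SIdx X S => (X.ptSub s.1.1).res (pieceW X s.1.1 Y))
    (fun s => sG X S Y hFY hdisj hS s.1 s.2)
    (fun s t hst => sG_disjoint X S Y hFY hdisj hS s t hst)
    (fun z => sG_cover X S Y hFY hdisj hS z) M i n γ
  conv_lhs => rw [h]
  exact sigma_push_sum T X S Y hFY hdisj hS M i n k l hk hl _

end

end Groth.Agent.Lib.helper27.BMSigma2
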