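import Mathlib
import Groth.Prelude.Def_BMCoh3
import Groth.Agent.Lib.Helper27.BMSigma2

namespace Groth.Agent.Lib.helper27.BMGeomFin
universe u
set_option linter.unusedSectionVars false
set_option linter.style.haveILetI false
open CategoryTheory AlgebraicGeometry Opposite BMCoh Limits TopologicalSpace Topology Order
open Groth.Agent.Lib.helper27.BMBasic Groth.Agent.Lib.helper27.BMTop
  Groth.Agent.Lib.helper27.BMGeom Groth.Agent.Lib.helper27.BMColim
  Groth.Agent.Lib.helper27.BMCodim Groth.Agent.Lib.helper27.BMLift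
  Groth.Agent.Lib.helper27.BMDim Groth.Agent.Lib.helper27.BMVanish
  Groth.Agent.Lib.helper27.BMTopPts Groth.Agent.Lib.helper27.BMHyp
  Groth.Agent.Lib.helper27.BMLocal Groth.Agent.Lib.helper27.BMLoc2
  Groth.Agent.Lib.helper27.BMFjRes Groth.Agent.Lib.helper27.BMResDecomp
  Groth.Agent.Lib.helper27.BMClosed Groth.Agent.Lib.helper27.BMFin
  Groth.Agent.Lib.helper27.BMPiece Groth.Agent.Lib.helper27.BMResEval
  Groth.Agent.Lib.helper27.BMSigma Groth.Agent.Lib.helper27.BMSigma2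

variable {V : ObjectProperty Scheme.{u}} [BMCoh.IsConstructible V] {R : Type u} [CommRing R]
  {A : BMCoh.Coefs R}

section pair
variable (X : Obj V) {j : ℕ} (S : Finset (X.cdPt (j + 1)))

/-- The union of the pairwise intersections of the closures of the points of `S`. -/
noncomputable def pairC : Closeds X.scheme :=
  ⟨⋃ p ∈ {p : X.cdPt (j + 1) × X.cdPt (j + 1) | p.1 ∈ S ∧ p.2 ∈ S ∧ p.1 ≠ p.2},
      closure ({p.1.1} : Set X.scheme) ∩ closure ({p.2.1} : Set X.scheme),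
    Set.Finite.isClosed_biUnion
      ((Finset.finite_toSet (S ×ˢ S)).subset (fun p hp => by
        rw [Finset.mem_coe, Finset.mem_product]; exact ⟨hp.1, hp.2.1⟩))
      fun _ _ => isClosed_closure.inter isClosed_closure⟩

lemma mem_pairC {y : X.scheme} : y ∈ (pairC X S : Set X.scheme) ↔
    ∃ x ∈ S, ∃ x' ∈ S, x ≠ x' ∧ y ∈ closure ({x.1} : Set X.scheme) ∧
      y ∈ closure ({x'.1} : Set X.scheme) := by
  show y ∈ ⋃ p ∈ {p : X.cdPt (j + 1) × X.cdPt (j + 1) | p.1 ∈ S ∧ p.2 ∈ S ∧ p.1 ≠ p.2},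
      closure ({p.1.1} : Set X.scheme) ∩ closure ({p.2.1} : Set X.scheme) ↔ _
  rw [Set.mem_iUnion₂]
  constructor
  · rintro ⟨⟨x, x'⟩, hp, h1, h2⟩
    exact ⟨x, hp.1, x', hp.2.1, hp.2.2, h1, h2⟩
  · rintro ⟨x, hx, x', hx', hne, h1, h2⟩
    exact ⟨(x, x'), ⟨hx, hx', hne⟩, h1, h2⟩

lemma le_codim_of_mem_pairC {y : X.scheme} (hy : y ∈ (pairC X S : Set X.scheme)) :
    j + 2 ≤ WeilCoh.codim X.scheme y := by
  obtain ⟨x, -, x', -, hne, h1, h2⟩ := (mem_pairC X S).1 hy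
  have hyx : y ≠ x.1 := by
    rintro rfl
    exact hne (eq_of_mem_closure X x x' h2)
  have h3 := pdim_lt_of_specializes_ne X (specializes_iff_mem_closure.2 h1) hyx
  have h4 := x.2
  have h5 := pdim_le_dim X x.1
  unfold WeilCoh.codim at h4 ⊢
  omega

lemma containsFj_diff_pairC (Y : X.scheme.Opens) (hFY : ContainsFj X (j + 1) Y) :
    ContainsFj X (j + 1) (Y ⊓ (pairC X S).compl) := by
  intro y hy
  refine ⟨hFY y hy, fun hmem => ?_⟩
  have := le_codim_of_mem_pairC X S hmem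
  omega

lemma hdisj_of_le (Y : X.scheme.Opens) (hY : Y ≤ (pairC X S).compl) :
    ∀ x ∈ S, ∀ x' ∈ S, x ≠ x' → ∀ y ∈ Y,
      y ∈ closure ({x.1} : Set X.scheme) → y ∉ closure ({x'.1} : Set X.scheme) :=
  fun x hx x' hx' hne y hy h1 h2 => hY hy ((mem_pairC X S).2 ⟨x, hx, x', hx', hne, h1, h2⟩)

end pair

section outside
variable (X : Obj V) {j : ℕ} (U : Idx X (ContainsFj X j))

/-- The closures of the points of codimension `j + 1` outside `U`, and the other irreducible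
components of the complement of `U`. -/
lemma exists_finite_and_open :
    {x : X.cdPt (j + 1) | x.1 ∉ U.1}.Finite ∧
    ∃ Y₀ : X.scheme.Opens, ContainsFj X (j + 1) Y₀ ∧
      ∀ y ∈ Y₀, y ∉ U.1 → ∃ x : X.cdPt (j + 1), x.1 ∉ U.1 ∧
        y ∈ closure ({x.1} : Set X.scheme) := by
  haveI : IsNoetherian X.scheme := IsConstructible.isNoetherian X.mem
  obtain ⟨𝒞, h𝒞f, h𝒞c, h𝒞i, h𝒞⟩ :=
    NoetherianSpace.exists_finite_set_isClosed_irreducible U.1.2.isClosed_compl
  -- generic points of the members of `𝒞`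
  have hgen : ∀ t ∈ 𝒞, ∃ η : X.scheme, closure ({η} : Set X.scheme) = t ∧ η ∉ U.1 ∧
      j + 1 ≤ WeilCoh.codim X.scheme η := by
    intro t ht
    obtain ⟨η, hη⟩ := QuasiSober.sober (h𝒞i t ht) (h𝒞c t ht)
    have hηt : η ∈ t := hη.mem
    have hηU : η ∉ U.1 := by
      have : η ∈ (U.1.carrierᶜ : Set X.scheme) := by rw [h𝒞]; exact ⟨t, ht, hηt⟩
      exact this
    refine ⟨η, hη.def, hηU, ?_⟩
    by_contra hlt
    exact hηU (U.2.1 η (by omega))
  have hmemF : ∀ y : X.scheme, y ∉ U.1 → ∃ t ∈ 𝒞, y ∈ t := by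
    intro y hy
    have : y ∈ (U.1.carrierᶜ : Set X.scheme) := hy
    rw [h𝒞] at this
    exact this
  -- a point of codimension `j + 1` outside `U` is the generic point of a member of `𝒞`
  have hS : ∀ x : X.cdPt (j + 1), x.1 ∉ U.1 → closure ({x.1} : Set X.scheme) ∈ 𝒞 := by
    intro x hx
    obtain ⟨t, ht, hxt⟩ := hmemF x.1 hx
    obtain ⟨η, hηt, hηU, hηc⟩ := hgen t ht
    have hsp : x.1 ∈ closure ({η} : Set X.scheme) := hηt ▸ hxt
    have h1 := codim_le_of_specializes X (specializes_iff_mem_closure.2 hsp)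
    have h2 := x.2
    have hη : WeilCoh.codim X.scheme η = j + 1 := by omega
    have := eq_of_mem_closure X x ⟨η, hη⟩ hsp
    rw [this]
    exact hηt ▸ ht
  refine ⟨?_, ?_⟩
  · refine (h𝒞f.preimage (f := fun x : X.cdPt (j + 1) => closure ({x.1} : Set X.scheme))
      ?_).subset (fun x hx => hS x hx)
    intro x _ x' _ hxx'
    have hxx'' : closure ({x.1} : Set X.scheme) = closure ({x'.1} : Set X.scheme) := hxx'
    exact eq_of_mem_closure X x x' (hxx'' ▸ subset_closure rfl)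
  · let ℬ : Set (Set X.scheme) := {t ∈ 𝒞 | ¬ ∃ x : X.cdPt (j + 1), x.1 ∉ U.1 ∧
      t ⊆ closure ({x.1} : Set X.scheme)}
    have hℬc : IsClosed (⋃₀ ℬ) := by
      rw [Set.sUnion_eq_biUnion]
      exact (h𝒞f.subset (Set.sep_subset _ _)).isClosed_biUnion (fun t ht => h𝒞c t ht.1)
    refine ⟨⟨(⋃₀ ℬ)ᶜ, hℬc.isOpen_compl⟩, ?_, ?_⟩
    · rintro y hy ⟨t, ⟨ht, hbad⟩, hyt⟩
      obtain ⟨η, hηt, hηU, hηc⟩ := hgen t ht
      have hsp : y ∈ closure ({η} : Set X.scheme) := hηt ▸ hyt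
      have h1 := codim_le_of_specializes X (specializes_iff_mem_closure.2 hsp)
      have hη : WeilCoh.codim X.scheme η = j + 1 := by omega
      exact hbad ⟨⟨η, hη⟩, hηU, hηt.symm.le⟩
    · intro y hyY hyU
      obtain ⟨t, ht, hyt⟩ := hmemF y hyU
      by_contra hcon
      refine hyY ⟨t, ⟨ht, fun ⟨x, hxU, htx⟩ => hcon ⟨x, hxU, htx hyt⟩⟩, hyt⟩

end outside

section basechange
variable (T : BMCoh.PreTheory V R A)

/-- Base change for the push-forward from the piece of the closure of `x` over an open, along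
the inclusion of a smaller open. -/
lemma push_restrict_restrict (X : Obj V) (x : X.scheme) {Y' Y₀ : X.scheme.Opens} (hle : Y' ≤ Y₀)
    (hd : WeilCoh.dim (Y' : Scheme.{u}) = WeilCoh.dim (Y₀ : Scheme.{u}))
    (hdW : WeilCoh.dim (pieceW X x Y' : Scheme.{u}) = WeilCoh.dim (pieceW X x Y₀ : Scheme.{u}))
    (M : A.Cat) (i n k l : ℤ)
    (hk : k = i + 2 * relCodim ((X.ptSub x).res (pieceW X x Y₀)).scheme (X.res Y₀).scheme)
    (hl : l = n + relCodim ((X.ptSub x).res (pieceW X x Y₀)).scheme (X.res Y₀).scheme)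
    (hk' : k = i + 2 * relCodim ((X.ptSub x).res (pieceW X x Y')).scheme (X.res Y').scheme)
    (hl' : l = n + relCodim ((X.ptSub x).res (pieceW X x Y')).scheme (X.res Y').scheme)
    (β : T.gp ((X.ptSub x).res (pieceW X x Y₀)) M i n) :
    (T.pull (X.resLE hle hd) M k l).hom ((T.push (X.ptSubι x ∣_ Y₀) M i n k l hk hl).hom β) =
      (T.push (X.ptSubι x ∣_ Y') M i n k l hk' hl').hom
        ((T.pull ((X.ptSub x).resLE ((X.ptSubι x).preimage_mono hle) hdW) M i n).hom β) := by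
  have hcomm : (X.ptSub x).scheme.homOfLE ((X.ptSubι x).preimage_mono hle) ≫
      (X.ptSubι x ∣_ Y₀) = (X.ptSubι x ∣_ Y') ≫ X.scheme.homOfLE hle := by
    rw [← cancel_mono Y₀.ι]
    simp [morphismRestrict_ι]
  have hpb : IsPullback ((X.ptSub x).resLE ((X.ptSubι x).preimage_mono hle) hdW).hom
      (X.ptSubι x ∣_ Y') (X.ptSubι x ∣_ Y₀) (X.resLE hle hd).hom := by
    refine IsPullback.of_right ?_ hcomm (isPullback_morphismRestrict (X.ptSubι x) Y₀).flip
    have h1 : (X.ptSub x).scheme.homOfLE ((X.ptSubι x).preimage_mono hle) ≫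
        (X.ptSubι x ⁻¹ᵁ Y₀).ι = (X.ptSubι x ⁻¹ᵁ Y').ι := Scheme.homOfLE_ι _ _
    have h2 : X.scheme.homOfLE hle ≫ Y₀.ι = Y'.ι := Scheme.homOfLE_ι _ _
    show IsPullback ((X.ptSub x).scheme.homOfLE ((X.ptSubι x).preimage_mono hle) ≫
        (X.ptSubι x ⁻¹ᵁ Y₀).ι) (X.ptSubι x ∣_ Y') (X.ptSubι x) (X.scheme.homOfLE hle ≫ Y₀.ι)
    rw [h1, h2]
    exact (isPullback_morphismRestrict (X.ptSubι x) Y').flip
  have := T.push_pull (X.ptSubι x ∣_ Y₀) (X.ptSubι x ∣_ Y') (X.resLE hle hd)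
    ((X.ptSub x).resLE ((X.ptSubι x).preimage_mono hle) hdW) hpb M i n k l hk hl hk' hl'
  have h2 := congrArg (fun φ => φ.hom β) this
  simp only [ModuleCat.hom_comp, LinearMap.comp_apply] at h2
  exact h2

end basechange

end Groth.Agent.Lib.helper27.BMGeomFin
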