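import Mathlib
import Groth.Prelude.Def_BMCoh3
import Groth.Agent.Lib.Helper27.BMGeomFin

namespace Groth.Agent.Lib.helper27.BMExactB
universe u
set_option linter.unusedSectionVars false
set_option linter.style.haveILetI false
open CategoryTheory AlgebraicGeometry Opposite BMCoh Limits TopologicalSpace Topology Order
open Groth.Agent.Lib.helper27.BMBasic Groth.Agent.Lib.helper27.BMTop
  Groth.Agent.Lib.helper27.BMGeom Groth.Agent.Lib.helper27.BMColim
  Groth.Agent.Lib.helper27.BMCodim Groth.Agent.Lib.helper27.BMLift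
  Groth.Agent.Lib.helper27.BMDim Groth.Agent.Lib.helper27.BMVanish
  Groth.Agent.Lib.helper27.BMTopPts Groth.Agent.Lib.helper27.BMHyp
  Groth.Agent.Lib.helper27.BMLocal Groth.Agent.Lib.helper27.BMLoc2
  Groth.Agent.Lib.helper27.BMFjRes Groth.Agent.Lib.helper27.BMResDecomp
  Groth.Agent.Lib.helper27.BMClosed Groth.Agent.Lib.helper27.BMFin
  Groth.Agent.Lib.helper27.BMPiece Groth.Agent.Lib.helper27.BMResEval
  Groth.Agent.Lib.helper27.BMSigma Groth.Agent.Lib.helper27.BMSigma2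
  Groth.Agent.Lib.helper27.BMGeomFin

variable {V : ObjectProperty Scheme.{u}} [BMCoh.IsConstructible V] {R : Type u} [CommRing R]
  {A : BMCoh.Coefs R} (T : BMCoh.PreTheory V R A)

/-- An element of a direct sum vanishing outside a finite set is the sum of its components
over that set. -/
lemma dsum_eq_sum_lof {ι : Type*} [DecidableEq ι] {β : ι → Type*} [∀ i, AddCommGroup (β i)]
    [∀ i, Module R (β i)] (S : Finset ι) (ξ : DirectSum ι β) (h : ∀ x, x ∉ S → ξ x = 0) :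
    ξ = ∑ s : {x // x ∈ S}, DirectSum.lof R ι β s.1 (ξ s.1) := by
  classical
  rw [Finset.sum_coe_sort S (fun x => DirectSum.lof R ι β x (ξ x))]
  conv_lhs => rw [← DirectSum.sum_support_of ξ]
  apply Finset.sum_subset
  · intro x hx
    by_contra hxS
    exact (DFinsupp.mem_support_iff.1 hx) (h x hxS)
  · intro x _ hx
    have : ξ x = 0 := DFinsupp.notMem_support_iff.1 hx
    rw [this]
    exact map_zero _

section
variable (X : Obj V) (j : ℕ) (Q : T.ResData X j) (P : T.PushData X (j + 1)) (M : A.Cat)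
  (i n i' n' : ℤ) (hi : i' = i + 1 - 2 * ((j : ℤ) + 1)) (hn : n' = n - ((j : ℤ) + 1))
  (hi2 : i + 1 = i' + 2 * ((j + 1 : ℕ) : ℤ)) (hn2 : n = n' + ((j + 1 : ℕ) : ℤ))

open Classical in
/-- The total push-forward of a family supported on a finite set, represented on the pieces
over a common open. -/
lemma pushTot_eq (S : Finset (X.cdPt (j + 1))) (Y : X.scheme.Opens)
    (hFY : ContainsFj X (j + 1) Y) (ξ : T.ptSum X (j + 1) M i' n')
    (hξ : ∀ x, x ∉ S → ξ x = 0)
    (β : ∀ s : SIdx X S, T.gp ((X.ptSub s.1.1).res (pieceW X s.1.1 Y)) M i' n')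
    (hβ : ∀ s : SIdx X S,
      ((T.ptι X s.1.1 i' n' (pieceIdx X s.1.1 Y (mem_sY X Y hFY s.1))).app M).hom (β s) =
        ξ s.1) :
    (P.tot M i' n' (i + 1) n hi2 hn2).hom ξ =
      ((T.fjι X (j + 1) (i + 1) n (sY X Y hFY)).app M).hom
        (∑ s : SIdx X S, (T.push (X.ptSubι s.1.1 ∣_ Y) M i' n' (i + 1) n
          (by rw [relCodim_piece_Y X Y hFY s.1]; exact hi2)
          (by rw [relCodim_piece_Y X Y hFY s.1]; exact hn2)).hom (β s)) := by
  conv_lhs => rw [dsum_eq_sum_lof (R := R) S ξ hξ]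
  rw [map_sum, map_sum]
  refine Finset.sum_congr rfl (fun s _ => ?_)
  rw [PreTheory.PushData.tot_lof, ← hβ s]
  exact sigma_push T X Y hFY P s.1 M i' n' (i + 1) n hi2 hn2 (β s)

open Classical in
theorem pushTot_resTot_eq_zero (a : T.fjGp X j M i n) :
    (P.tot M i' n' (i + 1) n hi2 hn2).hom ((Q.tot M i n i' n' hi hn).hom a) = 0 := by
  obtain ⟨U, b, rfl⟩ := exists_rep T X (ContainsFj X j) i n M a
  obtain ⟨hfin, Y₀, hFY₀, hY₀⟩ := exists_finite_and_open X U
  let S : Finset (X.cdPt (j + 1)) := hfin.toFinset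
  have hmemS : ∀ x : X.cdPt (j + 1), x ∈ S ↔ x.1 ∉ U.1 := fun x => by
    rw [Set.Finite.mem_toFinset]; rfl
  have hzero : ∀ x : X.cdPt (j + 1), x ∉ S →
      ((Q.tot M i n i' n' hi hn).hom (((T.ocolimι X (ContainsFj X j) i n U).app M).hom b)) x
        = 0 := by
    intro x hx
    rw [PreTheory.ResData.tot_apply]
    have hxU : x.1 ∈ U.1 := by
      by_contra h
      exact hx ((hmemS x).2 h)
    exact resData_cpt_eq_zero_of_mem T Q x M i n i' n' hi hn U hxU b
  by_cases hS : S.Nonempty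
  · let Y : X.scheme.Opens := Y₀ ⊓ (pairC X S).compl
    have hFY : ContainsFj X (j + 1) Y := containsFj_diff_pairC X S Y₀ hFY₀
    have hdisj := hdisj_of_le X S Y inf_le_right
    have hle : sU X S Y hFY ≤ U := by
      rintro y ⟨hyY, hyC⟩
      by_contra hyU
      obtain ⟨x, hxU, hyx⟩ := hY₀ y hyY.1 hyU
      exact hyC ((mem_sC X S).2 ⟨x, (hmemS x).2 hxU, hyx⟩)
    let c : T.gp (sD X S Y hFY).U M i n := (idxRes T X (ContainsFj X j) i n M hle).hom b
    have hc : ((T.fjι X j i n (sU X S Y hFY)).app M).hom c =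
        ((T.ocolimι X (ContainsFj X j) i n U).app M).hom b :=
      ocolimι_idxRes_apply T X _ i n M hle b
    have hcod : (sD X S Y hFY).codim = ((j + 1 : ℕ) : ℤ) := sD_codim X S Y hFY hS
    have hiD : i' = i + 1 - 2 * (sD X S Y hFY).codim := by rw [hcod, hi]; push_cast; ring
    have hnD : n' = n - (sD X S Y hFY).codim := by rw [hcod, hn]; push_cast; ring
    let γ := (T.res (sD X S Y hFY) M i n i' n' hiD hnD).hom c
    rw [pushTot_eq T X j P M i n i' n' hi2 hn2 S Y hFY _ hzero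
      (fun s => (T.pull (sG X S Y hFY hdisj hS s.1 s.2) M i' n').hom γ)
      (fun s => by
        rw [PreTheory.ResData.tot_apply, ← hc]
        exact (sigma_res T X S Y hFY hdisj hS Q s.1 s.2 M i n i' n' hi hn c).symm)]
    rw [← sigma_push_decomp T X S Y hFY hdisj hS M i' n' (i + 1) n hi2 hn2 γ]
    have hex := T.exact_res_push (sD X S Y hFY) M i n i' n' hiD hnD
      (by rw [sD_codim X S Y hFY hS]; exact hi2) (by rw [sD_codim X S Y hFY hS]; exact hn2)
    rw [hex.apply_apply_eq_zero c, map_zero]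
  · have : (Q.tot M i n i' n' hi hn).hom
        (((T.ocolimι X (ContainsFj X j) i n U).app M).hom b) = 0 := by
      refine DFinsupp.ext fun x => ?_
      rw [hzero x (fun hx => hS ⟨x, hx⟩)]
      rfl
    rw [this, map_zero]

end


section
variable (X : Obj V) (j : ℕ) (Q : T.ResData X j) (P : T.PushData X (j + 1)) (M : A.Cat)
  (i n i' n' : ℤ) (hi : i' = i + 1 - 2 * ((j : ℤ) + 1)) (hn : n' = n - ((j : ℤ) + 1))
  (hi2 : i + 1 = i' + 2 * ((j + 1 : ℕ) : ℤ)) (hn2 : n = n' + ((j + 1 : ℕ) : ℤ))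

lemma rep_mono (x : X.scheme) (k l : ℤ) (ξx : T.ptGp X x M k l) {W' W : ptIdx X x} (h : W' ≤ W)
    (hW : ∃ β, ((T.ptι X x k l W).app M).hom β = ξx) :
    ∃ β, ((T.ptι X x k l W').app M).hom β = ξx := by
  obtain ⟨β, rfl⟩ := hW
  exact ⟨(idxRes T (X.ptSub x) _ k l M h).hom β,
    ocolimι_idxRes_apply T (X.ptSub x) _ k l M h β⟩

lemma exists_common_open (ξ : ∀ x : X.cdPt (j + 1), T.ptGp X x.1 M i' n')
    (S : Finset (X.cdPt (j + 1))) :
    ∃ (Y₁ : X.scheme.Opens) (hF : ContainsFj X (j + 1) Y₁), ∀ x ∈ S,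
      ∃ β, ((T.ptι X x.1 i' n' (pieceIdx X x.1 Y₁ (mem_sY X Y₁ hF x))).app M).hom β = ξ x := by
  classical
  induction S using Finset.induction_on with
  | empty => exact ⟨⊤, fun _ _ => trivial, fun x hx => absurd hx (Finset.notMem_empty x)⟩
  | insert x S hxS ih =>
    obtain ⟨Y₁, hF₁, h₁⟩ := ih
    obtain ⟨W, β, hβ⟩ := exists_rep T (X.ptSub x.1) _ i' n' M (ξ x)
    have hF₂ : ContainsFj X (j + 1) (Y₁ ⊓ pieceOpen X x.1 W) := fun y hy =>
      ⟨hF₁ y hy, containsFj_pieceOpen X x.1 W (j + 1) x.2 y hy⟩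
    refine ⟨Y₁ ⊓ pieceOpen X x.1 W, hF₂, fun x' hx' => ?_⟩
    rcases Finset.mem_insert.1 hx' with rfl | hx'S
    · refine rep_mono T X M x'.1 i' n' (ξ x') (W := W) ?_ ⟨β, hβ⟩
      intro s hs
      have hs' : X.ptSubι x'.1 s ∈ pieceOpen X x'.1 W := hs.2
      by_contra hsW
      exact hs' ⟨s, hsW, rfl⟩
    · refine rep_mono T X M x'.1 i' n' (ξ x') (W := pieceIdx X x'.1 Y₁ (mem_sY X Y₁ hF₁ x')) ?_
        (h₁ x' hx'S)
      exact (X.ptSubι x'.1).preimage_mono (inf_le_left : Y₁ ⊓ pieceOpen X x.1 W ≤ Y₁)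

open Classical in
theorem exists_resTot_eq (ξ : T.ptSum X (j + 1) M i' n')
    (hξ : (P.tot M i' n' (i + 1) n hi2 hn2).hom ξ = 0) :
    ∃ a, (Q.tot M i n i' n' hi hn).hom a = ξ := by
  let S : Finset (X.cdPt (j + 1)) := DFinsupp.support ξ
  have hξS : ∀ x, x ∉ S → ξ x = 0 := fun x hx => DFinsupp.notMem_support_iff.1 hx
  by_cases hS : S.Nonempty
  · obtain ⟨Y₁, hF₁, h₁⟩ := exists_common_open T X j M i' n' (fun x => ξ x) S
    choose β₁ hβ₁ using (fun s : SIdx X S => h₁ s.1 s.2)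
    have e1 := pushTot_eq T X j P M i n i' n' hi2 hn2 S Y₁ hF₁ ξ hξS β₁ hβ₁
    rw [hξ] at e1
    obtain ⟨Y₂, hle₂, h₂⟩ := (ι_eq_zero_iff T X (ContainsFj X (j + 1)) (i + 1) n M
      (sY X Y₁ hF₁) _).1 e1.symm
    have hle₂' : Y₂.1 ≤ Y₁ := hle₂
    let Y : X.scheme.Opens := Y₂.1 ⊓ (pairC X S).compl
    have hFY : ContainsFj X (j + 1) Y := containsFj_diff_pairC X S Y₂.1 Y₂.2.1
    have hdisj := hdisj_of_le X S Y inf_le_right
    have hYY₂ : Y ≤ Y₂.1 := inf_le_left
    have hYY₁ : Y ≤ Y₁ := hYY₂.trans hle₂'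
    have hdY : WeilCoh.dim (Y : Scheme.{u}) = WeilCoh.dim (Y₁ : Scheme.{u}) :=
      (dim_sY X Y hFY).trans (dim_sY X Y₁ hF₁).symm
    have hdW : ∀ s : SIdx X S, WeilCoh.dim (pieceW X s.1.1 Y : Scheme.{u}) =
        WeilCoh.dim (pieceW X s.1.1 Y₁ : Scheme.{u}) := fun s =>
      (pieceIdx X s.1.1 Y (mem_sY X Y hFY s.1)).2.2.trans
        (pieceIdx X s.1.1 Y₁ (mem_sY X Y₁ hF₁ s.1)).2.2.symm
    let β : ∀ s : SIdx X S, T.gp ((X.ptSub s.1.1).res (pieceW X s.1.1 Y)) M i' n' := fun s =>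
      (T.pull ((X.ptSub s.1.1).resLE ((X.ptSubι s.1.1).preimage_mono hYY₁) (hdW s)) M i' n').hom
        (β₁ s)
    have hβ : ∀ s : SIdx X S,
        ((T.ptι X s.1.1 i' n' (pieceIdx X s.1.1 Y (mem_sY X Y hFY s.1))).app M).hom (β s) =
          ξ s.1 := fun s =>
      (ocolimι_idxRes_apply T (X.ptSub s.1.1) _ i' n' M
        (show pieceIdx X s.1.1 Y (mem_sY X Y hFY s.1) ≤
          pieceIdx X s.1.1 Y₁ (mem_sY X Y₁ hF₁ s.1) from
          (X.ptSubι s.1.1).preimage_mono hYY₁) (β₁ s)).trans (hβ₁ s)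
    -- the sum of the push-forwards vanishes on `Y`
    have hsum : ∑ s : SIdx X S, (T.push (X.ptSubι s.1.1 ∣_ Y) M i' n' (i + 1) n
          (by rw [relCodim_piece_Y X Y hFY s.1]; exact hi2)
          (by rw [relCodim_piece_Y X Y hFY s.1]; exact hn2)).hom (β s) = 0 := by
      have hbc : ∀ s : SIdx X S, (T.push (X.ptSubι s.1.1 ∣_ Y) M i' n' (i + 1) n
          (by rw [relCodim_piece_Y X Y hFY s.1]; exact hi2)
          (by rw [relCodim_piece_Y X Y hFY s.1]; exact hn2)).hom (β s) =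
          (T.pull (X.resLE hYY₁ hdY) M (i + 1) n).hom
            ((T.push (X.ptSubι s.1.1 ∣_ Y₁) M i' n' (i + 1) n
              (by rw [relCodim_piece_Y X Y₁ hF₁ s.1]; exact hi2)
              (by rw [relCodim_piece_Y X Y₁ hF₁ s.1]; exact hn2)).hom (β₁ s)) := fun s =>
        (push_restrict_restrict T X s.1.1 hYY₁ hdY (hdW s) M i' n' (i + 1) n _ _ _ _ (β₁ s)).symm
      rw [Finset.sum_congr rfl (fun s _ => hbc s), ← map_sum]
      have hfac : X.resLE hYY₁ hdY =
          X.resLE hYY₂ ((dim_sY X Y hFY).trans Y₂.2.2.symm) ≫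
            X.resLE hle₂' (Y₂.2.2.trans (dim_sY X Y₁ hF₁).symm) :=
        Hom.ext (Scheme.homOfLE_homOfLE X.scheme hYY₂ hle₂').symm
      rw [hfac, pull_comp]
      show (T.pull _ M (i + 1) n).hom ((idxRes T X (ContainsFj X (j + 1)) (i + 1) n M hle₂).hom _)
        = 0
      rw [h₂, map_zero]
    have hcod : (sD X S Y hFY).codim = ((j + 1 : ℕ) : ℤ) := sD_codim X S Y hFY hS
    have hiD : i' = i + 1 - 2 * (sD X S Y hFY).codim := by rw [hcod, hi]; push_cast; ring
    have hnD : n' = n - (sD X S Y hFY).codim := by rw [hcod, hn]; push_cast; ring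
    let βtot : T.gp (sD X S Y hFY).Z M i' n' :=
      ∑ s : SIdx X S, (pushHom T (sG X S Y hFY hdisj hS s.1 s.2) M i' n').hom (β s)
    have hpush : (T.push (sD X S Y hFY).i M i' n' (i + 1) n
        (by rw [sD_codim X S Y hFY hS]; exact hi2)
        (by rw [sD_codim X S Y hFY hS]; exact hn2)).hom βtot = 0 :=
      (sigma_push_sum T X S Y hFY hdisj hS M i' n' (i + 1) n hi2 hn2 β).trans hsum
    have hex := T.exact_res_push (sD X S Y hFY) M i n i' n' hiD hnD
      (by rw [sD_codim X S Y hFY hS]; exact hi2) (by rw [sD_codim X S Y hFY hS]; exact hn2)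
    obtain ⟨c, hc⟩ := (hex βtot).1 hpush
    refine ⟨((T.fjι X j i n (sU X S Y hFY)).app M).hom c, ?_⟩
    refine DFinsupp.ext fun x => ?_
    rw [PreTheory.ResData.tot_apply]
    by_cases hx : x ∈ S
    · rw [sigma_res T X S Y hFY hdisj hS Q x hx M i n i' n' hi hn c]
      have hc' : (T.res (sD X S Y hFY) M i n i' n' hiD hnD).hom c = βtot := hc
      rw [hc', sigma_pull_sum T X S Y hFY hdisj hS M i' n' β ⟨x, hx⟩]
      exact hβ ⟨x, hx⟩
    · rw [sigma_res_zero T X S Y hFY Q x hx M i n i' n' hi hn c]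
      exact (hξS x hx).symm
  · refine ⟨0, ?_⟩
    rw [map_zero]
    have hS' : S = ∅ := Finset.not_nonempty_iff_eq_empty.1 hS
    exact (DFinsupp.support_eq_empty.1 hS').symm

open Classical in
theorem exact_resTot_pushTot :
    Function.Exact (Q.tot M i n i' n' hi hn).hom (P.tot M i' n' (i + 1) n hi2 hn2).hom := by
  intro ξ
  constructor
  · exact exists_resTot_eq T X j Q P M i n i' n' hi hn hi2 hn2 ξ
  · rintro ⟨a, rfl⟩
    exact pushTot_resTot_eq_zero T X j Q P M i n i' n' hi hn hi2 hn2 a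

end

end Groth.Agent.Lib.helper27.BMExactB
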