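import Mathlib
import Groth.Prelude.Def_BMCoh3
import Groth.Agent.Lib.Helper27.BMExactB

namespace Groth.Agent.Lib.helper27.BMLevel
universe u
set_option linter.unusedSectionVars false
set_option linter.style.haveILetI false
open CategoryTheory AlgebraicGeometry Opposite BMCoh Limits TopologicalSpace Topology Order
open Groth.Agent.Lib.helper27.BMBasic Groth.Agent.Lib.helper27.BMTop
  Groth.Agent.Lib.helper27.BMGeom Groth.Agent.Lib.helper27.BMColim
  Groth.Agent.Lib.helper27.BMCodim Groth.Agent.Lib.helper27.BMLift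
  Groth.Agent.Lib.helper27.BMDim Groth.Agent.Lib.helper27.BMVanish
  Groth.Agent.Lib.helper27.BMTopPts Groth.Agent.Lib.helper27.BMHyp
  Groth.Agent.Lib.helper27.BMLocal Groth.Agent.Lib.helper27.BMLoc2
  Groth.Agent.Lib.helper27.BMFjRes Groth.Agent.Lib.helper27.BMResDecomp
  Groth.Agent.Lib.helper27.BMClosed Groth.Agent.Lib.helper27.BMFin
  Groth.Agent.Lib.helper27.BMPiece Groth.Agent.Lib.helper27.BMResEval
  Groth.Agent.Lib.helper27.BMSigma Groth.Agent.Lib.helper27.BMSigma2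
  Groth.Agent.Lib.helper27.BMGeomFin Groth.Agent.Lib.helper27.BMExactB

variable {V : ObjectProperty Scheme.{u}} [BMCoh.IsConstructible V] {R : Type u} [CommRing R]
  {A : BMCoh.Coefs R}

section level
variable (X : Obj V) {m : ℕ}

lemma eq_of_mem_closure' (x x' : X.cdPt m)
    (h : x.1 ∈ closure ({x'.1} : Set X.scheme)) : x = x' := by
  have hsp : x'.1 ⤳ x.1 := specializes_iff_mem_closure.2 h
  apply Subtype.ext
  by_contra hne
  have h0 := pdim_lt_of_specializes_ne X hsp hne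
  have h1 := x.2
  have h2 := x'.2
  have h3 := pdim_le_dim X x.1
  have h4 := pdim_le_dim X x'.1
  unfold WeilCoh.codim at h1 h2
  omega

variable (S : Finset (X.cdPt m))

/-- The union of the closures of the points of `S`. -/
def sC' : Closeds X.scheme :=
  ⟨⋃ x ∈ S, closure ({x.1} : Set X.scheme), isClosed_biUnion_finset fun _ _ => isClosed_closure⟩

lemma mem_sC' {y : X.scheme} :
    y ∈ (sC' X S : Set X.scheme) ↔ ∃ x ∈ S, y ∈ closure ({x.1} : Set X.scheme) := by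
  show y ∈ ⋃ x ∈ S, closure ({x.1} : Set X.scheme) ↔ _
  simp only [Set.mem_iUnion, exists_prop]

/-- The union of the pairwise intersections of the closures of the points of `S`. -/
noncomputable def pairC' : Closeds X.scheme :=
  ⟨⋃ p ∈ {p : X.cdPt m × X.cdPt m | p.1 ∈ S ∧ p.2 ∈ S ∧ p.1 ≠ p.2},
      closure ({p.1.1} : Set X.scheme) ∩ closure ({p.2.1} : Set X.scheme),
    Set.Finite.isClosed_biUnion
      ((Finset.finite_toSet (S ×ˢ S)).subset (fun p hp => by
        rw [Finset.mem_coe, Finset.mem_product]; exact ⟨hp.1, hp.2.1⟩))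
      fun _ _ => isClosed_closure.inter isClosed_closure⟩

lemma mem_pairC' {y : X.scheme} : y ∈ (pairC' X S : Set X.scheme) ↔
    ∃ x ∈ S, ∃ x' ∈ S, x ≠ x' ∧ y ∈ closure ({x.1} : Set X.scheme) ∧
      y ∈ closure ({x'.1} : Set X.scheme) := by
  show y ∈ ⋃ p ∈ {p : X.cdPt m × X.cdPt m | p.1 ∈ S ∧ p.2 ∈ S ∧ p.1 ≠ p.2},
      closure ({p.1.1} : Set X.scheme) ∩ closure ({p.2.1} : Set X.scheme) ↔ _
  rw [Set.mem_iUnion₂]
  constructor
  · rintro ⟨⟨x, x'⟩, hp, h1, h2⟩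
    exact ⟨x, hp.1, x', hp.2.1, hp.2.2, h1, h2⟩
  · rintro ⟨x, hx, x', hx', hne, h1, h2⟩
    exact ⟨(x, x'), ⟨hx, hx', hne⟩, h1, h2⟩

lemma le_codim_of_mem_pairC' {y : X.scheme} (hy : y ∈ (pairC' X S : Set X.scheme)) :
    m + 1 ≤ WeilCoh.codim X.scheme y := by
  obtain ⟨x, -, x', -, hne, h1, h2⟩ := (mem_pairC' X S).1 hy
  have hyx : y ≠ x.1 := by
    rintro rfl
    exact hne (eq_of_mem_closure' X x x' h2)
  have h3 := pdim_lt_of_specializes_ne X (specializes_iff_mem_closure.2 h1) hyx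
  have h4 := x.2
  have h5 := pdim_le_dim X x.1
  unfold WeilCoh.codim at h4 ⊢
  omega

lemma containsFj_diff_pairC' (Y : X.scheme.Opens) (hFY : ContainsFj X m Y) :
    ContainsFj X m (Y ⊓ (pairC' X S).compl) := by
  intro y hy
  refine ⟨hFY y hy, fun hmem => ?_⟩
  have := le_codim_of_mem_pairC' X S hmem
  omega

lemma hdisj_of_le' (Y : X.scheme.Opens) (hY : Y ≤ (pairC' X S).compl) :
    ∀ x ∈ S, ∀ x' ∈ S, x ≠ x' → ∀ y ∈ Y,
      y ∈ closure ({x.1} : Set X.scheme) → y ∉ closure ({x'.1} : Set X.scheme) :=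
  fun x hx x' hx' hne _ hy h1 h2 => hY hy ((mem_pairC' X S).2 ⟨x, hx, x', hx', hne, h1, h2⟩)

/-- The closures of the points of codimension `m` outside an open `U` whose complement consists
of points of codimension at least `m`, and the other irreducible components of the complement. -/
lemma exists_finite_and_open' (m : ℕ) (U : X.scheme.Opens)
    (hU : ∀ y : X.scheme, y ∉ U → m ≤ WeilCoh.codim X.scheme y) :
    {x : X.cdPt m | x.1 ∉ U}.Finite ∧
    ∃ Y₀ : X.scheme.Opens, ContainsFj X m Y₀ ∧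
      ∀ y ∈ Y₀, y ∉ U → ∃ x : X.cdPt m, x.1 ∉ U ∧
        y ∈ closure ({x.1} : Set X.scheme) := by
  haveI : IsNoetherian X.scheme := IsConstructible.isNoetherian X.mem
  obtain ⟨𝒞, h𝒞f, h𝒞c, h𝒞i, h𝒞⟩ :=
    NoetherianSpace.exists_finite_set_isClosed_irreducible U.2.isClosed_compl
  have hgen : ∀ t ∈ 𝒞, ∃ η : X.scheme, closure ({η} : Set X.scheme) = t ∧ η ∉ U ∧
      m ≤ WeilCoh.codim X.scheme η := by
    intro t ht
    obtain ⟨η, hη⟩ := QuasiSober.sober (h𝒞i t ht) (h𝒞c t ht)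
    have hηt : η ∈ t := hη.mem
    have hηU : η ∉ U := by
      have : η ∈ (U.carrierᶜ : Set X.scheme) := by rw [h𝒞]; exact ⟨t, ht, hηt⟩
      exact this
    exact ⟨η, hη.def, hηU, hU η hηU⟩
  have hmemF : ∀ y : X.scheme, y ∉ U → ∃ t ∈ 𝒞, y ∈ t := by
    intro y hy
    have : y ∈ (U.carrierᶜ : Set X.scheme) := hy
    rw [h𝒞] at this
    exact this
  have hS : ∀ x : X.cdPt m, x.1 ∉ U → closure ({x.1} : Set X.scheme) ∈ 𝒞 := by
    intro x hx
    obtain ⟨t, ht, hxt⟩ := hmemF x.1 hx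
    obtain ⟨η, hηt, hηU, hηc⟩ := hgen t ht
    have hsp : x.1 ∈ closure ({η} : Set X.scheme) := hηt ▸ hxt
    have h1 := codim_le_of_specializes X (specializes_iff_mem_closure.2 hsp)
    have h2 := x.2
    have hη : WeilCoh.codim X.scheme η = m := by omega
    have := eq_of_mem_closure' X x ⟨η, hη⟩ hsp
    rw [this]
    exact hηt ▸ ht
  refine ⟨?_, ?_⟩
  · refine (h𝒞f.preimage (f := fun x : X.cdPt m => closure ({x.1} : Set X.scheme))
      ?_).subset (fun x hx => hS x hx)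
    intro x _ x' _ hxx'
    have hxx'' : closure ({x.1} : Set X.scheme) = closure ({x'.1} : Set X.scheme) := hxx'
    exact eq_of_mem_closure' X x x' (hxx'' ▸ subset_closure rfl)
  · let ℬ : Set (Set X.scheme) := {t ∈ 𝒞 | ¬ ∃ x : X.cdPt m, x.1 ∉ U ∧
      t ⊆ closure ({x.1} : Set X.scheme)}
    have hℬc : IsClosed (⋃₀ ℬ) := by
      rw [Set.sUnion_eq_biUnion]
      exact (h𝒞f.subset (Set.sep_subset _ _)).isClosed_biUnion (fun t ht => h𝒞c t ht.1)
    refine ⟨⟨(⋃₀ ℬ)ᶜ, hℬc.isOpen_compl⟩, ?_, ?_⟩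
    · rintro y hy ⟨t, ⟨ht, hbad⟩, hyt⟩
      obtain ⟨η, hηt, hηU, hηc⟩ := hgen t ht
      have hsp : y ∈ closure ({η} : Set X.scheme) := hηt ▸ hyt
      have h1 := codim_le_of_specializes X (specializes_iff_mem_closure.2 hsp)
      have hη : WeilCoh.codim X.scheme η = m := by omega
      exact hbad ⟨⟨η, hη⟩, hηU, hηt.symm.le⟩
    · intro y hyY hyU
      obtain ⟨t, ht, hyt⟩ := hmemF y hyU
      by_contra hcon
      refine hyY ⟨t, ⟨ht, fun ⟨x, hxU, htx⟩ => hcon ⟨x, hxU, htx hyt⟩⟩, hyt⟩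

variable (Y : X.scheme.Opens) (hFY : ContainsFj X m Y)

include hFY in
lemma mem_sY' (x : X.cdPt m) : x.1 ∈ Y := hFY x.1 (le_of_eq x.2)

include hFY in
lemma dim_sY' : WeilCoh.dim (Y : Scheme.{u}) = WeilCoh.dim X.scheme :=
  dim_eq_of_containsFj X m _ hFY

/-- The index of `Y`. -/
noncomputable abbrev sY' : Idx X (ContainsFj X m) := ⟨Y, hFY, dim_sY' X Y hFY⟩

include hFY in
lemma relCodim_piece_Y' (x : X.cdPt m) :
    relCodim ((X.ptSub x.1).res (pieceW X x.1 Y)).scheme (X.res Y).scheme = (m : ℤ) := by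
  show relCodim (pieceW X x.1 Y : Scheme.{u}) (Y : Scheme.{u}) = _
  unfold relCodim
  have h1 : WeilCoh.dim (pieceW X x.1 Y : Scheme.{u}) = WeilCoh.pdim X.scheme x.1 :=
    (pieceIdx X x.1 Y (mem_sY' X Y hFY x)).2.2.trans (dim_ptSub X x.1)
  rw [h1, dim_sY' X Y hFY]
  have h3 := pdim_le_dim X x.1
  have h4 := x.2
  unfold WeilCoh.codim at h4
  omega

variable (T : BMCoh.PreTheory V R A)

/-- A push-forward datum on a class represented on the piece over `Y`. -/
theorem sigma_push' (P : T.PushData X m) (x : X.cdPt m) (M : A.Cat) (i n k l : ℤ)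
    (hk : k = i + 2 * (m : ℤ)) (hl : l = n + (m : ℤ))
    (γ : T.gp ((X.ptSub x.1).res (pieceW X x.1 Y)) M i n) :
    (P.cpt x M i n k l hk hl).hom
        (((T.ptι X x.1 i n (pieceIdx X x.1 Y (mem_sY' X Y hFY x))).app M).hom γ) =
      ((T.fjι X m k l (sY' X Y hFY)).app M).hom
        ((T.push (X.ptSubι x.1 ∣_ Y) M i n k l
          (by rw [relCodim_piece_Y' X Y hFY x]; exact hk)
          (by rw [relCodim_piece_Y' X Y hFY x]; exact hl)).hom γ) := by
  have := P.cpt_spec x M i n k l hk hl (sY' X Y hFY) (pieceIdx X x.1 Y (mem_sY' X Y hFY x))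
    (X.ptSubι x.1 ∣_ Y) (morphismRestrict_ι _ _)
    (by rw [relCodim_piece_Y' X Y hFY x]; exact hk)
    (by rw [relCodim_piece_Y' X Y hFY x]; exact hl)
  exact congrArg (fun φ => φ.hom γ) this

open Classical in
/-- The total push-forward of a family supported on a finite set, represented on the pieces
over a common open. -/
lemma pushTot_eq' (P : T.PushData X m) (M : A.Cat) (i n k l : ℤ)
    (hk : k = i + 2 * (m : ℤ)) (hl : l = n + (m : ℤ))
    (ξ : T.ptSum X m M i n) (hξ : ∀ x, x ∉ S → ξ x = 0)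
    (β : ∀ s : {x // x ∈ S}, T.gp ((X.ptSub s.1.1).res (pieceW X s.1.1 Y)) M i n)
    (hβ : ∀ s : {x // x ∈ S},
      ((T.ptι X s.1.1 i n (pieceIdx X s.1.1 Y (mem_sY' X Y hFY s.1))).app M).hom (β s) =
        ξ s.1) :
    (P.tot M i n k l hk hl).hom ξ =
      ((T.fjι X m k l (sY' X Y hFY)).app M).hom
        (∑ s : {x // x ∈ S}, (T.push (X.ptSubι s.1.1 ∣_ Y) M i n k l
          (by rw [relCodim_piece_Y' X Y hFY s.1]; exact hk)
          (by rw [relCodim_piece_Y' X Y hFY s.1]; exact hl)).hom (β s)) := by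
  conv_lhs => rw [dsum_eq_sum_lof (R := R) S ξ hξ]
  rw [map_sum, map_sum]
  refine Finset.sum_congr rfl (fun s _ => ?_)
  rw [PreTheory.PushData.tot_lof, ← hβ s]
  exact sigma_push' X Y hFY T P s.1 M i n k l hk hl (β s)

lemma exists_common_open' (M : A.Cat) (i n : ℤ) (ξ : ∀ x : X.cdPt m, T.ptGp X x.1 M i n) :
    ∃ (Y₁ : X.scheme.Opens) (hF : ContainsFj X m Y₁), ∀ x ∈ S,
      ∃ β, ((T.ptι X x.1 i n (pieceIdx X x.1 Y₁ (mem_sY' X Y₁ hF x))).app M).hom β = ξ x := by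
  classical
  induction S using Finset.induction_on with
  | empty => exact ⟨⊤, fun _ _ => trivial, fun x hx => absurd hx (Finset.notMem_empty x)⟩
  | insert x S hxS ih =>
    obtain ⟨Y₁, hF₁, h₁⟩ := ih
    obtain ⟨W, β, hβ⟩ := exists_rep T (X.ptSub x.1) _ i n M (ξ x)
    have hF₂ : ContainsFj X m (Y₁ ⊓ pieceOpen X x.1 W) := fun y hy =>
      ⟨hF₁ y hy, containsFj_pieceOpen X x.1 W m x.2 y hy⟩
    refine ⟨Y₁ ⊓ pieceOpen X x.1 W, hF₂, fun x' hx' => ?_⟩
    rcases Finset.mem_insert.1 hx' with rfl | hx'S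
    · refine rep_mono T X M x'.1 i n (ξ x') (W := W) ?_ ⟨β, hβ⟩
      intro s hs
      have hs' : X.ptSubι x'.1 s ∈ pieceOpen X x'.1 W := hs.2
      by_contra hsW
      exact hs' ⟨s, hsW, rfl⟩
    · refine rep_mono T X M x'.1 i n (ξ x') (W := pieceIdx X x'.1 Y₁ (mem_sY' X Y₁ hF₁ x')) ?_
        (h₁ x' hx'S)
      exact (X.ptSubι x'.1).preimage_mono (inf_le_left : Y₁ ⊓ pieceOpen X x.1 W ≤ Y₁)

end level

end Groth.Agent.Lib.helper27.BMLevel
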