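import Mathlib
import Groth.Prelude.Def_BMCoh3
import Groth.Agent.Lib.Helper27.BMLevel

namespace Groth.Agent.Lib.helper27.BMZero
universe u
set_option linter.unusedSectionVars false
set_option linter.style.haveILetI false
open CategoryTheory AlgebraicGeometry Opposite BMCoh Limits TopologicalSpace Topology Order
open Groth.Agent.Lib.helper27.BMBasic Groth.Agent.Lib.helper27.BMTop
  Groth.Agent.Lib.helper27.BMGeom Groth.Agent.Lib.helper27.BMColim
  Groth.Agent.Lib.helper27.BMCodim Groth.Agent.Lib.helper27.BMLift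
  Groth.Agent.Lib.helper27.BMDim Groth.Agent.Lib.helper27.BMVanish
  Groth.Agent.Lib.helper27.BMTopPts Groth.Agent.Lib.helper27.BMHyp
  Groth.Agent.Lib.helper27.BMLocal Groth.Agent.Lib.helper27.BMLoc2
  Groth.Agent.Lib.helper27.BMFjRes Groth.Agent.Lib.helper27.BMResDecomp
  Groth.Agent.Lib.helper27.BMClosed Groth.Agent.Lib.helper27.BMFin
  Groth.Agent.Lib.helper27.BMPiece Groth.Agent.Lib.helper27.BMResEval
  Groth.Agent.Lib.helper27.BMSigma Groth.Agent.Lib.helper27.BMSigma2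
  Groth.Agent.Lib.helper27.BMGeomFin Groth.Agent.Lib.helper27.BMExactB
  Groth.Agent.Lib.helper27.BMLevel

variable {V : ObjectProperty Scheme.{u}} [BMCoh.IsConstructible V] {R : Type u} [CommRing R]
  {A : BMCoh.Coefs R}

section zero
variable (X : Obj V) [IsReduced X.scheme] (S : Finset (X.cdPt 0)) (hSall : ∀ x, x ∈ S)
  (Y : X.scheme.Opens) (hFY : ContainsFj X 0 Y)
  (hcov : ∀ y ∈ Y, ∃ x : X.cdPt 0, y ∈ closure ({x.1} : Set X.scheme))
  (hdisj : ∀ x ∈ S, ∀ x' ∈ S, x ≠ x' → ∀ y ∈ Y,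
    y ∈ closure ({x.1} : Set X.scheme) → y ∉ closure ({x'.1} : Set X.scheme))

include hSall hcov hdisj in
lemma isOpen_range_restrict (x : X.cdPt 0) : IsOpen (Set.range (X.ptSubι x.1 ∣_ Y)) := by
  classical
  rw [← isClosed_compl_iff]
  have : (Set.range (X.ptSubι x.1 ∣_ Y))ᶜ =
      (fun p : (Y : Scheme.{u}) => Y.ι p) ⁻¹' (sC' X (S.erase x) : Set X.scheme) := by
    ext p
    rw [Set.mem_compl_iff, range_restrict_ptSubι, Set.mem_preimage]
    show ¬ (p.1 ∈ closure ({x.1} : Set X.scheme)) ↔ p.1 ∈ (sC' X (S.erase x) : Set X.scheme)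
    constructor
    · intro hp
      obtain ⟨x', hpx'⟩ := hcov p.1 p.2
      refine (mem_sC' X (S.erase x)).2 ⟨x', Finset.mem_erase.2 ⟨?_, hSall x'⟩, hpx'⟩
      rintro rfl
      exact hp hpx'
    · intro hp hpx
      obtain ⟨x', hx', hpx'⟩ := (mem_sC' X (S.erase x)).1 hp
      obtain ⟨hne, hx'S⟩ := Finset.mem_erase.1 hx'
      exact hdisj x (hSall x) x' hx'S (Ne.symm hne) _ p.2 hpx hpx'
  rw [this]
  exact (sC' X (S.erase x)).2.preimage Y.ι.continuous

/-- The piece of the closure of a point of codimension zero over `Y`, as an open subobject. -/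
noncomputable def zG (x : X.cdPt 0) : (X.ptSub x.1).res (pieceW X x.1 Y) ⟶ X.res Y :=
  ⟨X.ptSubι x.1 ∣_ Y,
    isOpenImmersion_of_isOpen_range _ (isOpen_range_restrict X S hSall Y hcov hdisj x), by
    have := relCodim_piece_Y' X Y hFY x
    unfold relCodim at this
    show WeilCoh.dim (pieceW X x.1 Y : Scheme.{u}) = WeilCoh.dim (Y : Scheme.{u})
    have h2 : (WeilCoh.dim (Y : Scheme.{u}) : ℤ) - (WeilCoh.dim (pieceW X x.1 Y : Scheme.{u}) : ℤ)
      = ((0 : ℕ) : ℤ) := this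
    push_cast at h2
    omega⟩

instance (x : X.cdPt 0) : IsClosedImmersion (zG X S hSall Y hFY hcov hdisj x).hom :=
  inferInstanceAs (IsClosedImmersion (X.ptSubι x.1 ∣_ Y))

lemma zG_disjoint (s t : {x // x ∈ S}) (hst : s ≠ t) :
    Disjoint (Set.range (zG X S hSall Y hFY hcov hdisj s.1).hom)
      (Set.range (zG X S hSall Y hFY hcov hdisj t.1).hom) := by
  rw [Set.disjoint_left]
  intro p hps hpt
  have h1 : p ∈ Set.range (X.ptSubι s.1.1 ∣_ Y) := hps
  have h2 : p ∈ Set.range (X.ptSubι t.1.1 ∣_ Y) := hpt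
  rw [range_restrict_ptSubι] at h1 h2
  exact hdisj s.1 s.2 t.1 t.2 (fun h => hst (Subtype.ext h)) _ p.2 h1 h2

lemma zG_cover (p : (X.res Y).scheme) :
    ∃ s : {x // x ∈ S}, p ∈ Set.range (zG X S hSall Y hFY hcov hdisj s.1).hom := by
  obtain ⟨x, hx⟩ := hcov p.1 p.2
  refine ⟨⟨x, hSall x⟩, ?_⟩
  show p ∈ Set.range (X.ptSubι x.1 ∣_ Y)
  rw [range_restrict_ptSubι]
  exact hx

end zero

section main
variable (T : BMCoh.PreTheory V R A) (X : Obj V) [IsReduced X.scheme] (P : T.PushData X 0)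
  (M : A.Cat) (i n : ℤ) (hi : i = i + 2 * ((0 : ℕ) : ℤ)) (hn : n = n + ((0 : ℕ) : ℤ))

/-- The finite set of all points of codimension zero, and an open on which every point lies in
the closure of one of them. -/
lemma exists_all_finset :
    ∃ (S : Finset (X.cdPt 0)) (_ : ∀ x, x ∈ S) (Y₀ : X.scheme.Opens), ContainsFj X 0 Y₀ ∧
      ∀ y ∈ Y₀, ∃ x : X.cdPt 0, y ∈ closure ({x.1} : Set X.scheme) := by
  obtain ⟨hfin, Y₀, hF₀, hY₀⟩ := exists_finite_and_open' X 0 ⊥ (fun _ _ => Nat.zero_le _)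
  refine ⟨hfin.toFinset, fun x => ?_, Y₀, hF₀, fun y hy => ?_⟩
  · rw [Set.Finite.mem_toFinset]
    exact fun h => h
  · obtain ⟨x, -, hx⟩ := hY₀ y hy (fun h => h)
    exact ⟨x, hx⟩

open Classical in
theorem pushTot_surjective : Function.Surjective (P.tot M i n i n hi hn).hom := by
  intro a
  obtain ⟨U, b, rfl⟩ := exists_rep T X (ContainsFj X 0) i n M a
  obtain ⟨S, hSall, Y₀, hF₀, hY₀⟩ := exists_all_finset X
  let Y : X.scheme.Opens := (U.1 ⊓ Y₀) ⊓ (pairC' X S).compl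
  have hFY : ContainsFj X 0 Y :=
    containsFj_diff_pairC' X S _ (fun y hy => ⟨U.2.1 y hy, hF₀ y hy⟩)
  have hcov : ∀ y ∈ Y, ∃ x : X.cdPt 0, y ∈ closure ({x.1} : Set X.scheme) :=
    fun y hy => hY₀ y hy.1.2
  have hdisj := hdisj_of_le' X S Y inf_le_right
  have hle : sY' X Y hFY ≤ U := fun y hy => hy.1.1
  let b' : T.gp (X.res Y) M i n := (idxRes T X (ContainsFj X 0) i n M hle).hom b
  have hb' : ((T.fjι X 0 i n (sY' X Y hFY)).app M).hom b' =
      ((T.ocolimι X (ContainsFj X 0) i n U).app M).hom b :=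
    ocolimι_idxRes_apply T X _ i n M hle b
  have hsum := eq_sum_pushHom_pull T (X.res Y)
    (fun s : {x // x ∈ S} => (X.ptSub s.1.1).res (pieceW X s.1.1 Y))
    (fun s => zG X S hSall Y hFY hcov hdisj s.1)
    (fun s t hst => zG_disjoint X S hSall Y hFY hcov hdisj s t hst)
    (fun p => zG_cover X S hSall Y hFY hcov hdisj p) M i n b'
  refine ⟨∑ s : {x // x ∈ S}, DirectSum.lof R (X.cdPt 0) (fun x : X.cdPt 0 => T.ptGp X x.1 M i n)
    s.1 (((T.ptι X s.1.1 i n (pieceIdx X s.1.1 Y (mem_sY' X Y hFY s.1))).app M).hom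
      ((T.pull (zG X S hSall Y hFY hcov hdisj s.1) M i n).hom b')), ?_⟩
  rw [map_sum, ← hb']
  conv_rhs => rw [hsum, map_sum]
  refine Finset.sum_congr rfl (fun s _ => ?_)
  rw [PreTheory.PushData.tot_lof]
  exact sigma_push' X Y hFY T P s.1 M i n i n hi hn _

open Classical in
theorem pushTot_injective : Function.Injective (P.tot M i n i n hi hn).hom := by
  rw [injective_iff_map_eq_zero]
  intro ξ hξ
  obtain ⟨S, hSall, Y₀, hF₀, hY₀⟩ := exists_all_finset X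
  have hξS : ∀ x, x ∉ S → ξ x = 0 := fun x hx => absurd (hSall x) hx
  obtain ⟨Y₁, hF₁, h₁⟩ := exists_common_open' X S T M i n (fun x => ξ x)
  choose β₁ hβ₁ using (fun s : {x // x ∈ S} => h₁ s.1 s.2)
  have e1 := pushTot_eq' X S Y₁ hF₁ T P M i n i n hi hn ξ hξS β₁ hβ₁
  rw [hξ] at e1
  obtain ⟨Y₂, hle₂, h₂⟩ := (ι_eq_zero_iff T X (ContainsFj X 0) i n M (sY' X Y₁ hF₁) _).1 e1.symm
  have hle₂' : Y₂.1 ≤ Y₁ := hle₂
  let Y : X.scheme.Opens := (Y₂.1 ⊓ Y₀) ⊓ (pairC' X S).compl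
  have hFY : ContainsFj X 0 Y :=
    containsFj_diff_pairC' X S _ (fun y hy => ⟨Y₂.2.1 y hy, hF₀ y hy⟩)
  have hcov : ∀ y ∈ Y, ∃ x : X.cdPt 0, y ∈ closure ({x.1} : Set X.scheme) :=
    fun y hy => hY₀ y hy.1.2
  have hdisj := hdisj_of_le' X S Y inf_le_right
  have hYY₂ : Y ≤ Y₂.1 := fun y hy => hy.1.1
  have hYY₁ : Y ≤ Y₁ := hYY₂.trans hle₂'
  have hdY : WeilCoh.dim (Y : Scheme.{u}) = WeilCoh.dim (Y₁ : Scheme.{u}) :=
    (dim_sY' X Y hFY).trans (dim_sY' X Y₁ hF₁).symm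
  have hdW : ∀ s : {x // x ∈ S}, WeilCoh.dim (pieceW X s.1.1 Y : Scheme.{u}) =
      WeilCoh.dim (pieceW X s.1.1 Y₁ : Scheme.{u}) := fun s =>
    (pieceIdx X s.1.1 Y (mem_sY' X Y hFY s.1)).2.2.trans
      (pieceIdx X s.1.1 Y₁ (mem_sY' X Y₁ hF₁ s.1)).2.2.symm
  let β : ∀ s : {x // x ∈ S}, T.gp ((X.ptSub s.1.1).res (pieceW X s.1.1 Y)) M i n := fun s =>
    (T.pull ((X.ptSub s.1.1).resLE ((X.ptSubι s.1.1).preimage_mono hYY₁) (hdW s)) M i n).hom
      (β₁ s)
  have hβ : ∀ s : {x // x ∈ S},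
      ((T.ptι X s.1.1 i n (pieceIdx X s.1.1 Y (mem_sY' X Y hFY s.1))).app M).hom (β s) =
        ξ s.1 := fun s =>
    (ocolimι_idxRes_apply T (X.ptSub s.1.1) _ i n M
      (show pieceIdx X s.1.1 Y (mem_sY' X Y hFY s.1) ≤
        pieceIdx X s.1.1 Y₁ (mem_sY' X Y₁ hF₁ s.1) from
        (X.ptSubι s.1.1).preimage_mono hYY₁) (β₁ s)).trans (hβ₁ s)
  have hsum : ∑ s : {x // x ∈ S}, (T.push (X.ptSubι s.1.1 ∣_ Y) M i n i n
        (by rw [relCodim_piece_Y' X Y hFY s.1]; exact hi)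
        (by rw [relCodim_piece_Y' X Y hFY s.1]; exact hn)).hom (β s) = 0 := by
    have hbc : ∀ s : {x // x ∈ S}, (T.push (X.ptSubι s.1.1 ∣_ Y) M i n i n
        (by rw [relCodim_piece_Y' X Y hFY s.1]; exact hi)
        (by rw [relCodim_piece_Y' X Y hFY s.1]; exact hn)).hom (β s) =
        (T.pull (X.resLE hYY₁ hdY) M i n).hom
          ((T.push (X.ptSubι s.1.1 ∣_ Y₁) M i n i n
            (by rw [relCodim_piece_Y' X Y₁ hF₁ s.1]; exact hi)
            (by rw [relCodim_piece_Y' X Y₁ hF₁ s.1]; exact hn)).hom (β₁ s)) := fun s =>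
      (push_restrict_restrict T X s.1.1 hYY₁ hdY (hdW s) M i n i n _ _ _ _ (β₁ s)).symm
    rw [Finset.sum_congr rfl (fun s _ => hbc s), ← map_sum]
    have hfac : X.resLE hYY₁ hdY =
        X.resLE hYY₂ ((dim_sY' X Y hFY).trans Y₂.2.2.symm) ≫
          X.resLE hle₂' (Y₂.2.2.trans (dim_sY' X Y₁ hF₁).symm) :=
      Hom.ext (Scheme.homOfLE_homOfLE X.scheme hYY₂ hle₂').symm
    rw [hfac, pull_comp]
    show (T.pull _ M i n).hom ((idxRes T X (ContainsFj X 0) i n M hle₂).hom _) = 0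
    rw [h₂, map_zero]
  refine DFinsupp.ext fun t => ?_
  have ht := hSall t
  have h0 := pull_sum_pushHom T (X.res Y)
    (fun s : {x // x ∈ S} => (X.ptSub s.1.1).res (pieceW X s.1.1 Y))
    (fun s => zG X S hSall Y hFY hcov hdisj s.1)
    (fun s t hst => zG_disjoint X S hSall Y hFY hcov hdisj s t hst) M i n β ⟨t, ht⟩
  have hsum' : ∑ s : {x // x ∈ S},
      (pushHom T (zG X S hSall Y hFY hcov hdisj s.1) M i n).hom (β s) = 0 := hsum
  rw [hsum', map_zero] at h0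
  have := hβ ⟨t, ht⟩
  rw [← h0, map_zero] at this
  exact this.symm

theorem pushTot_bijective : Function.Bijective (P.tot M i n i n hi hn).hom :=
  ⟨pushTot_injective T X P M i n hi hn, pushTot_surjective T X P M i n hi hn⟩

end main

end Groth.Agent.Lib.helper27.BMZero
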