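import Mathlib
import Groth.Prelude.Def_BMCoh4
import Groth.Agent.Lib.Helper27.BMZero

namespace Groth.Agent.Lib.helper27.BMPtPush
universe u
set_option linter.unusedSectionVars false
set_option linter.style.haveILetI false
open CategoryTheory AlgebraicGeometry Opposite BMCoh Limits TopologicalSpace Topology Order
open Groth.Agent.Lib.helper27.BMBasic Groth.Agent.Lib.helper27.BMTop
  Groth.Agent.Lib.helper27.BMGeom Groth.Agent.Lib.helper27.BMColim
  Groth.Agent.Lib.helper27.BMCodim Groth.Agent.Lib.helper27.BMLift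
  Groth.Agent.Lib.helper27.BMDim Groth.Agent.Lib.helper27.BMVanish
  Groth.Agent.Lib.helper27.BMTopPts Groth.Agent.Lib.helper27.BMHyp
  Groth.Agent.Lib.helper27.BMPiece Groth.Agent.Lib.helper27.BMResDecomp

variable {V : ObjectProperty Scheme.{u}} [BMCoh.IsConstructible V] {R : Type u} [CommRing R]
  {A : BMCoh.Coefs R}

section top
variable {S T : Type u} [TopologicalSpace S] [TopologicalSpace T] [T0Space S] [QuasiSober S]
  [T0Space T] [QuasiSober T]

/-- Heights (dimensions of closures) do not increase along a closed continuous map. -/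
lemma ht_map_le {f : S → T} (hf : IsClosedMap f)
    (hS : topologicalKrullDim S < ⊤) (a : S) : ht (f a) ≤ ht a := by
  let _ : PartialOrder S := specializationOrder S
  let _ : PartialOrder T := specializationOrder T
  have lift : ∀ (a : S) (b : T), b < f a → ∃ a' : S, a' < a ∧ f a' = b := by
    intro a b hb
    have hb' : b ∈ closure ({f a} : Set T) := specializes_iff_mem_closure.1 hb.le
    have : b ∈ f '' closure ({a} : Set S) := by
      apply hf.closure_image_subset
      rwa [Set.image_singleton]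
    obtain ⟨a', ha', rfl⟩ := this
    exact ⟨a', lt_of_le_of_ne (specializes_iff_mem_closure.2 ha')
      (fun h => hb.ne (by rw [h])), rfl⟩
  have key : ∀ n : ℕ, ∀ a : S, height a ≤ (n : ℕ∞) → height (f a) ≤ (n : ℕ∞) := by
    intro n
    induction n with
    | zero =>
      intro a ha
      rw [height_le_coe_iff]
      intro b hb
      obtain ⟨a', hlt, rfl⟩ := lift a b hb
      have h1 := (height_le_coe_iff.1 ha) a' hlt
      simp at h1
    | succ n ih =>
      intro a ha
      rw [height_le_coe_iff]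
      intro b hb
      obtain ⟨a', hlt, rfl⟩ := lift a b hb
      have h1 : height a' < ((n + 1 : ℕ) : ℕ∞) := (height_le_coe_iff.1 ha) a' hlt
      have h2 : height a' ≤ (n : ℕ∞) := by
        have : height a' < (n : ℕ∞) + 1 := by exact_mod_cast h1
        exact Order.le_of_lt_add_one this
      have h3 : height (f a') ≤ (n : ℕ∞) := ih a' h2
      exact lt_of_le_of_lt h3 (by exact_mod_cast Nat.lt_succ_self n)
  have h2 := ht_le_natDim' hS a
  have hfin : ht a ≠ ⊤ := ne_top_of_le_ne_top (ENat.natCast_ne_top _) h2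
  have := key (ht a).toNat a (by rw [ENat.natCast_toNat hfin]; exact le_rfl)
  rwa [ENat.natCast_toNat hfin] at this

end top

lemma pdim_map_le {Y X : Obj V} (φ : Y.scheme ⟶ X.scheme) [IsProper φ] (a : Y.scheme) :
    WeilCoh.pdim X.scheme (φ a) ≤ WeilCoh.pdim Y.scheme a := by
  rw [pdim_eq_ht, pdim_eq_ht]
  have h1 := ht_map_le φ.isClosedMap (finiteDim Y) a
  have h2 := ht_le_natDim' (finiteDim Y) a
  exact ENat.toNat_le_toNat h1 (ne_top_of_le_ne_top (ENat.natCast_ne_top _) h2)

section piece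
variable {Y X : Obj V} (φ : Y.scheme ⟶ X.scheme) [IsProper φ] (y : Y.scheme) (x : X.scheme)
  (hmap : φ.base y = x)

include hmap in
lemma exists_ptMap : ∃ ψ : (Y.ptSub y).scheme ⟶ (X.ptSub x).scheme,
    ψ ≫ X.ptSubι x = Y.ptSubι y ≫ φ := by
  refine exists_lift_of_isReduced (X.ptSubι x) (Y.ptSubι y ≫ φ) ?_
  rw [range_ptSubι]
  rintro _ ⟨s, rfl⟩
  have h1 : Y.ptSubι y s ∈ closure ({y} : Set Y.scheme) := by
    rw [← range_ptSubι]; exact ⟨s, rfl⟩
  have h2 : φ (Y.ptSubι y s) ∈ closure ({φ y} : Set X.scheme) := by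
    have := image_closure_subset_closure_image φ.continuous (s := ({y} : Set Y.scheme))
      ⟨_, h1, rfl⟩
    rwa [Set.image_singleton] at this
  rw [← hmap]
  exact h2

/-- The morphism between the reduced closures induced by `φ`. -/
noncomputable def ptMap : (Y.ptSub y).scheme ⟶ (X.ptSub x).scheme :=
  (exists_ptMap φ y x hmap).choose

@[reassoc]
lemma ptMap_fac : ptMap φ y x hmap ≫ X.ptSubι x = Y.ptSubι y ≫ φ :=
  (exists_ptMap φ y x hmap).choose_spec

instance : IsProper (ptMap φ y x hmap) := by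
  haveI : IsProper (ptMap φ y x hmap ≫ X.ptSubι x) := by
    rw [ptMap_fac]; infer_instance
  exact IsProper.of_comp (ptMap φ y x hmap) (X.ptSubι x)

lemma ptMap_ptSubPt : ptMap φ y x hmap (ptSubPt Y y) = ptSubPt X x := by
  apply (X.ptSubι x).isClosedEmbedding.injective
  have := congrArg (fun f => f (ptSubPt Y y)) (ptMap_fac φ y x hmap)
  simp only [Scheme.Hom.comp_base, TopCat.hom_comp, ContinuousMap.comp_apply] at this
  rw [this, ptSubι_ptSubPt, ptSubι_ptSubPt]
  exact hmap

variable (hcod : relCodim (Y.ptSub y).scheme (X.ptSub x).scheme = 0)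

include hcod in
/-- Points of the closure of `y` other than `y` do not map to `x`. -/
lemma ptMap_ne (z : (Y.ptSub y).scheme) (hz : z ≠ ptSubPt Y y) :
    ptMap φ y x hmap z ≠ ptSubPt X x := by
  intro h
  have hsp : ptSubPt Y y ⤳ z := by
    have h1 : Y.ptSubι y z ∈ closure ({y} : Set Y.scheme) := by
      rw [← range_ptSubι]; exact ⟨z, rfl⟩
    have h2 : Y.ptSubι y (ptSubPt Y y) ⤳ Y.ptSubι y z := by
      rw [ptSubι_ptSubPt]; exact specializes_iff_mem_closure.2 h1
    exact ((Y.ptSubι y).isClosedEmbedding.isInducing.specializes_iff).1 h2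
  have h1 := pdim_lt_of_specializes_ne (Y.ptSub y) hsp hz
  have h2 := pdim_map_le (Y := Y.ptSub y) (X := X.ptSub x) (ptMap φ y x hmap) z
  rw [h] at h2
  have h3 : WeilCoh.pdim (Y.ptSub y).scheme (ptSubPt Y y) = WeilCoh.pdim Y.scheme y := by
    rw [← pdim_map_of_isClosedImmersion (Y.ptSubι y), ptSubι_ptSubPt]
  have h4 : WeilCoh.pdim (X.ptSub x).scheme (ptSubPt X x) = WeilCoh.pdim X.scheme x := by
    rw [← pdim_map_of_isClosedImmersion (X.ptSubι x), ptSubι_ptSubPt]
  have h5 := dim_ptSub Y y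
  have h6 := dim_ptSub X x
  unfold relCodim at hcod
  omega

include hmap hcod in
/-- Every piece of the closure of `y` contains a piece which maps properly onto a piece of the
closure of `x`. -/
lemma exists_proper_piece (W : ptIdx Y y) :
    ∃ (W₀ : ptIdx Y y) (_ : W₀ ≤ W) (W'₀ : ptIdx X x)
      (f : ((Y.ptSub y).res W₀.1).scheme ⟶ ((X.ptSub x).res W'₀.1).scheme) (_ : IsProper f),
      f ≫ W'₀.1.ι ≫ X.ptSubι x = W₀.1.ι ≫ Y.ptSubι y ≫ φ := by
  let ψ := ptMap φ y x hmap
  let O' : (X.ptSub x).scheme.Opens :=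
    ⟨(ψ '' (W.1 : Set (Y.ptSub y).scheme)ᶜ)ᶜ,
      (ψ.isClosedMap _ W.1.2.isClosed_compl).isOpen_compl⟩
  have hgx : ptSubPt X x ∈ O' := by
    rintro ⟨z, hz, hzx⟩
    exact ptMap_ne φ y x hmap hcod z (fun h => hz (h ▸ ptSubPt_mem Y y W)) hzx
  have hne' : (O' : Set (X.ptSub x).scheme).Nonempty := ⟨_, hgx⟩
  let W'₀ : ptIdx X x := ⟨O', hne', IsConstructible.dim_open (X.ptSub x).mem inferInstance _ hne'⟩
  have hgy : ptSubPt Y y ∈ ψ ⁻¹ᵁ O' := by
    show ψ (ptSubPt Y y) ∈ O'
    rw [ptMap_ptSubPt]; exact hgx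
  have hne : ((ψ ⁻¹ᵁ O' : (Y.ptSub y).scheme.Opens) : Set (Y.ptSub y).scheme).Nonempty :=
    ⟨_, hgy⟩
  let W₀ : ptIdx Y y := ⟨ψ ⁻¹ᵁ O', hne,
    IsConstructible.dim_open (Y.ptSub y).mem inferInstance _ hne⟩
  have hle : W₀ ≤ W := by
    intro s hs
    by_contra hsW
    exact hs ⟨s, hsW, rfl⟩
  refine ⟨W₀, hle, W'₀, ψ ∣_ O', inferInstance, ?_⟩
  rw [← Category.assoc, morphismRestrict_ι, Category.assoc, ptMap_fac]

end piece

section uniq
variable (T : BMCoh.PreTheory V R A) {Y X : Obj V} (φ : Y.scheme ⟶ X.scheme) (y : Y.scheme)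
  (x : X.scheme)

lemma relCodim_pieces (hcod : relCodim (Y.ptSub y).scheme (X.ptSub x).scheme = 0)
    (W₀ : ptIdx Y y) (W'₀ : ptIdx X x) :
    relCodim ((Y.ptSub y).res W₀.1).scheme ((X.ptSub x).res W'₀.1).scheme = 0 := by
  unfold relCodim at hcod ⊢
  have h1 : WeilCoh.dim ((Y.ptSub y).res W₀.1).scheme = WeilCoh.dim (Y.ptSub y).scheme := W₀.2.2
  have h2 : WeilCoh.dim ((X.ptSub x).res W'₀.1).scheme = WeilCoh.dim (X.ptSub x).scheme :=
    W'₀.2.2
  rw [h1, h2]
  exact hcod

/-- The value of a push-forward datum between groups of points on a class represented on a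
piece which maps properly to a piece of the target. -/
theorem ptPush_cpt_apply (L : T.PtPush φ y x) (M : A.Cat) (i n : ℤ) (W₀ : ptIdx Y y)
    (W'₀ : ptIdx X x)
    (f : ((Y.ptSub y).res W₀.1).scheme ⟶ ((X.ptSub x).res W'₀.1).scheme) [IsProper f]
    (hf : f ≫ W'₀.1.ι ≫ X.ptSubι x = W₀.1.ι ≫ Y.ptSubι y ≫ φ)
    (b : T.gp ((Y.ptSub y).res W₀.1) M i n) :
    (L.cpt M i n).hom (((T.ptι Y y i n W₀).app M).hom b) =
      ((T.ptι X x i n W'₀).app M).hom ((T.push f M i n i n
        (by rw [relCodim_pieces y x L.codim_eq W₀ W'₀]; ring)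
        (by rw [relCodim_pieces y x L.codim_eq W₀ W'₀]; ring)).hom b) := by
  have := L.cpt_spec M i n W₀ W'₀ f hf
    (by rw [relCodim_pieces y x L.codim_eq W₀ W'₀]; ring)
    (by rw [relCodim_pieces y x L.codim_eq W₀ W'₀]; ring)
  exact congrArg (fun g => g.hom b) this

theorem subsingleton_ptPush [IsProper φ] : Subsingleton (T.PtPush φ y x) := by
  refine ⟨fun L L' => ?_⟩
  have h : L.cpt = L'.cpt := by
    funext M i n
    apply ModuleCat.hom_ext
    apply LinearMap.ext
    intro a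
    obtain ⟨W, b, rfl⟩ := exists_rep T (Y.ptSub y) _ i n M a
    obtain ⟨W₀, hle, W'₀, f, hf, hfac⟩ := exists_proper_piece φ y x L.maps_pt L.codim_eq W
    rw [← ocolimι_idxRes_apply T (Y.ptSub y) _ i n M hle b]
    exact (ptPush_cpt_apply T φ y x L M i n W₀ W'₀ f hfac _).trans
      (ptPush_cpt_apply T φ y x L' M i n W₀ W'₀ f hfac _).symm
  cases L; cases L'
  simp only at h
  subst h
  rfl

end uniq

end Groth.Agent.Lib.helper27.BMPtPush
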