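import Mathlib
import Groth.Prelude.Def_BMCoh3
import Groth.Agent.Lib.Helper27.BMSigma2

namespace Groth.Agent.Lib.helper27.BMSigmaW
universe u
set_option linter.unusedSectionVars false
set_option linter.style.haveILetI false
open CategoryTheory AlgebraicGeometry Opposite BMCoh Limits TopologicalSpace Topology Order
open Groth.Agent.Lib.helper27.BMBasic Groth.Agent.Lib.helper27.BMTop
  Groth.Agent.Lib.helper27.BMGeom Groth.Agent.Lib.helper27.BMColim
  Groth.Agent.Lib.helper27.BMCodim Groth.Agent.Lib.helper27.BMLift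
  Groth.Agent.Lib.helper27.BMDim Groth.Agent.Lib.helper27.BMVanish
  Groth.Agent.Lib.helper27.BMTopPts Groth.Agent.Lib.helper27.BMHyp
  Groth.Agent.Lib.helper27.BMLocal Groth.Agent.Lib.helper27.BMLoc2
  Groth.Agent.Lib.helper27.BMFjRes Groth.Agent.Lib.helper27.BMResDecomp
  Groth.Agent.Lib.helper27.BMClosed Groth.Agent.Lib.helper27.BMFin
  Groth.Agent.Lib.helper27.BMPiece Groth.Agent.Lib.helper27.BMResEval
  Groth.Agent.Lib.helper27.BMSigma Groth.Agent.Lib.helper27.BMSigma2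

variable {V : ObjectProperty Scheme.{u}} [BMCoh.IsConstructible V] {R : Type u} [CommRing R]
  {A : BMCoh.Coefs R}

/-! The constructions of `BMSigma` under weaker hypotheses: the open `Y` contains `F_j X` and
the points of `S` (instead of all of `F_{j+1} X`). -/

section sigmaW
variable (X : Obj V) {j : ℕ} (S : Finset (X.cdPt (j + 1))) (Y : X.scheme.Opens)
  (hF0 : ContainsFj X j Y) (hSY : ∀ x ∈ S, x.1 ∈ Y)

include hF0 in
lemma containsFj_wU : ContainsFj X j (Y ⊓ (sC X S).compl) :=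
  containsFj_compl (Nat.lt_succ_self j) (fun c hc => le_codim_of_mem_sC X S hc) hF0

include hF0 in
lemma dim_wU : WeilCoh.dim ((Y ⊓ (sC X S).compl : X.scheme.Opens) : Scheme.{u}) =
    WeilCoh.dim X.scheme := dim_eq_of_containsFj X j _ (containsFj_wU X S Y hF0)

include hF0 in
lemma dim_wY : WeilCoh.dim (Y : Scheme.{u}) = WeilCoh.dim X.scheme :=
  dim_eq_of_containsFj X j _ hF0

/-- The index of the open part. -/
noncomputable abbrev wU : Idx X (ContainsFj X j) :=
  ⟨Y ⊓ (sC X S).compl, containsFj_wU X S Y hF0, dim_wU X S Y hF0⟩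

/-- The decomposition of `Y` into the union of the pieces and the rest. -/
noncomputable abbrev wD : Decomp (X.res Y) :=
  clDecomp X (sC X S) Y ((dim_wU X S Y hF0).trans (dim_wY X Y hF0).symm)

include hSY in
lemma dim_wW (hS : S.Nonempty) : WeilCoh.dim (clW X (sC X S) Y : Scheme.{u}) =
    WeilCoh.dim (redSub X (sC X S)).scheme := by
  obtain ⟨x₀, hx₀⟩ := hS
  have hmem : x₀.1 ∈ (sC X S : Set X.scheme) := (mem_sC X S).2 ⟨x₀, hx₀, subset_closure rfl⟩
  rw [← range_redSubι] at hmem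
  obtain ⟨z, hz⟩ := hmem
  have h1 := pdim_redSub X (sC X S) z
  rw [hz] at h1
  have h2 := dim_sC X S ⟨x₀, hx₀⟩
  have h3 := x₀.2
  have h4 := pdim_le_dim X x₀.1
  unfold WeilCoh.codim at h3
  refine dim_opens_eq_of_mem (redSub X (sC X S)) z (by omega) _ ?_
  show redSubι X (sC X S) z ∈ Y
  rw [hz]
  exact hSY x₀ hx₀

include hSY in
lemma wD_codim (hS : S.Nonempty) :
    relCodim (wD X S Y hF0).Z.scheme (X.res Y).scheme = ((j + 1 : ℕ) : ℤ) :=
  clDecomp_codim (dim_sC X S hS) _ (dim_wY X Y hF0) (dim_wW X S Y hSY hS)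

variable (hdisj : ∀ x ∈ S, ∀ x' ∈ S, x ≠ x' → ∀ y ∈ Y,
  y ∈ closure ({x.1} : Set X.scheme) → y ∉ closure ({x'.1} : Set X.scheme))

/-- The inclusion of a piece, as a morphism of objects. -/
noncomputable def wG (hS : S.Nonempty) (x : X.cdPt (j + 1)) (hx : x ∈ S) :
    (X.ptSub x.1).res (pieceW X x.1 Y) ⟶ (wD X S Y hF0).Z :=
  ⟨sGhom X S Y x hx, isOpenImmersion_sGhom X S Y hdisj x hx, by
    show WeilCoh.dim (pieceW X x.1 Y : Scheme.{u}) = WeilCoh.dim (clW X (sC X S) Y : Scheme.{u})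
    rw [dim_wW X S Y hSY hS]
    have h1 : WeilCoh.dim (pieceW X x.1 Y : Scheme.{u}) = WeilCoh.pdim X.scheme x.1 :=
      (pieceIdx X x.1 Y (hSY x hx)).2.2.trans (dim_ptSub X x.1)
    have h2 := dim_sC X S hS
    have h3 := x.2
    have h4 := pdim_le_dim X x.1
    unfold WeilCoh.codim at h3
    omega⟩

instance (hS : S.Nonempty) (x : X.cdPt (j + 1)) (hx : x ∈ S) :
    IsClosedImmersion (wG X S Y hF0 hSY hdisj hS x hx).hom :=
  inferInstanceAs (IsClosedImmersion (sGhom X S Y x hx))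

lemma wG_fac (hS : S.Nonempty) (x : X.cdPt (j + 1)) (hx : x ∈ S) :
    (wG X S Y hF0 hSY hdisj hS x hx).hom ≫ (wD X S Y hF0).i = X.ptSubι x.1 ∣_ Y :=
  sGhom_fac X S Y x hx

lemma wG_disjoint (hS : S.Nonempty) (s t : {x // x ∈ S}) (hst : s ≠ t) :
    Disjoint (Set.range (wG X S Y hF0 hSY hdisj hS s.1 s.2).hom)
      (Set.range (wG X S Y hF0 hSY hdisj hS t.1 t.2).hom) := by
  rw [Set.disjoint_left]
  intro z hzs hzt
  have h1 : z ∈ Set.range (sGhom X S Y s.1 s.2) := hzs
  have h2 : z ∈ Set.range (sGhom X S Y t.1 t.2) := hzt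
  rw [mem_range_sGhom] at h1 h2
  exact hdisj s.1 s.2 t.1 t.2 (fun h => hst (Subtype.ext h)) _
    (redSubι_ι_mem X Y (sC X S) z) h1 h2

lemma wG_cover (hS : S.Nonempty) (z : (wD X S Y hF0).Z.scheme) :
    ∃ s : {x // x ∈ S}, z ∈ Set.range (wG X S Y hF0 hSY hdisj hS s.1 s.2).hom := by
  obtain ⟨x, hx, hzx⟩ := (mem_sC X S).1
    (redSubι_mem X (sC X S) ((clW X (sC X S) Y).ι z))
  refine ⟨⟨x, hx⟩, ?_⟩
  show z ∈ Set.range (sGhom X S Y x hx)
  rw [mem_range_sGhom]
  exact hzx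

variable (T : BMCoh.PreTheory V R A)

/-- Residues at points of `S` are computed by the residue map of the decomposition. -/
theorem sigmaW_res (hS : S.Nonempty) (Q : T.ResData X j) (x : X.cdPt (j + 1)) (hx : x ∈ S)
    (M : A.Cat) (i n i' n' : ℤ) (hi : i' = i + 1 - 2 * ((j : ℤ) + 1))
    (hn : n' = n - ((j : ℤ) + 1)) (c : T.gp (wD X S Y hF0).U M i n) :
    (Q.cpt x M i n i' n' hi hn).hom (((T.fjι X j i n (wU X S Y hF0)).app M).hom c) =
      ((T.ptι X x.1 i' n' (pieceIdx X x.1 Y (hSY x hx))).app M).hom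
        ((T.pull (wG X S Y hF0 hSY hdisj hS x hx) M i' n').hom
          ((T.res (wD X S Y hF0) M i n i' n'
            (by
              have := wD_codim X S Y hF0 hSY hS
              rw [show (wD X S Y hF0).codim = ((j + 1 : ℕ) : ℤ) from this, hi]; push_cast; ring)
            (by
              have := wD_codim X S Y hF0 hSY hS
              rw [show (wD X S Y hF0).codim = ((j + 1 : ℕ) : ℤ) from this, hn]; push_cast; ring)).hom
            c)) := by
  have hcod : (wD X S Y hF0).codim = ((j + 1 : ℕ) : ℤ) := wD_codim X S Y hF0 hSY hS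
  have := Q.cpt_spec x M i n i' n' hi hn (X.resι Y (dim_wY X Y hF0)) (wD X S Y hF0)
    (pieceIdx X x.1 Y (hSY x hx)) (wG X S Y hF0 hSY hdisj hS x hx)
    (by
      rw [← Category.assoc, wG_fac]
      exact morphismRestrict_ι _ _)
    (wU X S Y hF0) (𝟙 _)
    (by
      show 𝟙 _ ≫ X.scheme.homOfLE (inf_le_left : Y ⊓ (sC X S).compl ≤ Y) ≫ Y.ι = _
      rw [Category.id_comp, Scheme.homOfLE_ι])
    (by rw [hcod, hi]; push_cast; ring)
    (by rw [hcod, hn]; push_cast; ring)
  have h2 := congrArg (fun φ => φ.hom c) this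
  simp only [ModuleCat.hom_comp, LinearMap.comp_apply] at h2
  have h3 : (T.pull (𝟙 (X.res (wU X S Y hF0).1)) M i n).hom c = c := by
    rw [pull_id]; rfl
  rw [h3] at h2
  exact h2

open Classical in
/-- A class on the union of the pieces is the sum of the push-forwards of its restrictions
to the pieces. -/
theorem wG_eq_sum (hS : S.Nonempty) (M : A.Cat) (i n : ℤ) (γ : T.gp (wD X S Y hF0).Z M i n) :
    γ = ∑ s : {x // x ∈ S}, (pushHom T (wG X S Y hF0 hSY hdisj hS s.1 s.2) M i n).hom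
      ((T.pull (wG X S Y hF0 hSY hdisj hS s.1 s.2) M i n).hom γ) :=
  eq_sum_pushHom_pull T (wD X S Y hF0).Z
    (fun s : {x // x ∈ S} => (X.ptSub s.1.1).res (pieceW X s.1.1 Y))
    (fun s => wG X S Y hF0 hSY hdisj hS s.1 s.2)
    (fun s t hst => wG_disjoint X S Y hF0 hSY hdisj hS s t hst)
    (fun z => wG_cover X S Y hF0 hSY hdisj hS z) M i n γ

end sigmaW

end Groth.Agent.Lib.helper27.BMSigmaW
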