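import Mathlib
import Groth.Prelude.Def_BMCoh4
import Groth.Agent.Lib.Helper27.BMPtPush
import Groth.Agent.Lib.Helper27.BMSigmaW

namespace Groth.Agent.Lib.helper27.BMNorm1
universe u
set_option linter.unusedSectionVars false
set_option linter.style.haveILetI false
open CategoryTheory AlgebraicGeometry Opposite BMCoh Limits TopologicalSpace Topology Order
open Groth.Agent.Lib.helper27.BMBasic Groth.Agent.Lib.helper27.BMTop
  Groth.Agent.Lib.helper27.BMGeom Groth.Agent.Lib.helper27.BMColim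
  Groth.Agent.Lib.helper27.BMCodim Groth.Agent.Lib.helper27.BMLift
  Groth.Agent.Lib.helper27.BMDim Groth.Agent.Lib.helper27.BMVanish
  Groth.Agent.Lib.helper27.BMTopPts Groth.Agent.Lib.helper27.BMHyp
  Groth.Agent.Lib.helper27.BMPiece Groth.Agent.Lib.helper27.BMResDecomp
  Groth.Agent.Lib.helper27.BMSigma Groth.Agent.Lib.helper27.BMSigma2
  Groth.Agent.Lib.helper27.BMLevel Groth.Agent.Lib.helper27.BMPtPush

variable {V : ObjectProperty Scheme.{u}} [BMCoh.IsConstructible V] {R : Type u} [CommRing R]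
  {A : BMCoh.Coefs R}

section norm
variable {Y X : Obj V} (φ : Y.scheme ⟶ X.scheme) [IsProper φ]
  {q : ℕ} (w : X.cdPt q) (η : Y.cdPt 0)
  (hmap : φ η.1 = w.1) (hcod : relCodim (Y.ptSub η.1).scheme (X.ptSub w.1).scheme = 0)
  (hgen : ∀ y : Y.scheme, η.1 ⤳ y)

lemma pdim_eta : WeilCoh.pdim Y.scheme η.1 = WeilCoh.dim Y.scheme := by
  have h1 := η.2
  have h2 := pdim_le_dim Y η.1
  unfold WeilCoh.codim at h1
  omega

include hcod in
lemma dim_add : WeilCoh.dim Y.scheme + q = WeilCoh.dim X.scheme := by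
  have h1 := pdim_eta η
  have h2 := dim_ptSub Y η.1
  have h3 := dim_ptSub X w.1
  have h4 := w.2
  have h5 := pdim_le_dim X w.1
  unfold relCodim at hcod
  unfold WeilCoh.codim at h4
  omega

include hgen in
lemma one_le_codim_of_ne (y : Y.scheme) (hy : y ≠ η.1) : 1 ≤ WeilCoh.codim Y.scheme y := by
  have h1 := pdim_lt_of_specializes_ne Y (hgen y) hy
  have h2 := pdim_eta η
  unfold WeilCoh.codim
  omega

include hgen in
lemma eq_eta_of_codim_le (y : Y.scheme) (hy : WeilCoh.codim Y.scheme y ≤ 0) : y = η.1 := by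
  by_contra hne
  have := one_le_codim_of_ne η hgen y hne
  omega

include hmap hgen in
lemma containsFj_preimage (O : X.scheme.Opens) (hFO : ContainsFj X q O) :
    ContainsFj Y 0 (φ ⁻¹ᵁ O) := by
  intro y hy
  rw [eq_eta_of_codim_le η hgen y hy]
  show φ η.1 ∈ O
  rw [hmap]
  exact hFO w.1 (le_of_eq w.2)

include hmap hgen hcod in
lemma relCodim_preimage (O : X.scheme.Opens) (hFO : ContainsFj X q O) :
    relCodim (Y.res (φ ⁻¹ᵁ O)).scheme (X.res O).scheme = (q : ℤ) := by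
  have h1 : WeilCoh.dim (Y.res (φ ⁻¹ᵁ O)).scheme = WeilCoh.dim Y.scheme :=
    dim_eq_of_containsFj Y 0 _ (containsFj_preimage φ w η hmap hgen O hFO)
  have h2 : WeilCoh.dim (X.res O).scheme = WeilCoh.dim X.scheme :=
    dim_eq_of_containsFj X q _ hFO
  have h3 := dim_add w η hcod
  unfold relCodim
  rw [h1, h2]
  omega

include hgen hmap in
lemma map_mem_closure (y : Y.scheme) : φ y ∈ closure ({w.1} : Set X.scheme) := by
  rw [← hmap]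
  exact specializes_iff_mem_closure.1 ((hgen y).map φ.continuous)

include hgen hmap in
lemma exists_fO (O : X.scheme.Opens) :
    ∃ f : (pieceW Y η.1 (φ ⁻¹ᵁ O) : Scheme.{u}) ⟶ (pieceW X w.1 O : Scheme.{u}),
      f ≫ (X.ptSubι w.1 ∣_ O) = (Y.ptSubι η.1 ∣_ (φ ⁻¹ᵁ O)) ≫ (φ ∣_ O) := by
  refine exists_lift_of_isReduced (X.ptSubι w.1 ∣_ O)
    ((Y.ptSubι η.1 ∣_ (φ ⁻¹ᵁ O)) ≫ (φ ∣_ O)) ?_
  rw [range_restrict_ptSubι]
  rintro _ ⟨s, rfl⟩
  show ((φ ∣_ O) ((Y.ptSubι η.1 ∣_ (φ ⁻¹ᵁ O)) s) : ↥O).1 ∈ closure ({w.1} : Set X.scheme)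
  rw [morphismRestrict_base_coe]
  exact map_mem_closure φ w η hmap hgen _

variable (T : BMCoh.PreTheory V R A)

include hgen hmap hcod in
/-- The class `ι_w (L a)` for `a` represented over the preimage of an open `O ⊇ F_q X`. -/
theorem lhs_rep (P : T.PushData X q) (L : T.PtPush φ η.1 w.1) (O : X.scheme.Opens)
    (hFO : ContainsFj X q O) (M : A.Cat) (i n i₁ n₁ i₃ n₃ : ℤ)
    (h1 : i₁ = i + 2 * (q : ℤ)) (h1' : n₁ = n + (q : ℤ))
    (h3 : i₃ = i + 2 * ((0 : ℕ) : ℤ)) (h3' : n₃ = n + ((0 : ℕ) : ℤ))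
    (γ : T.gp ((Y.ptSub η.1).res (pieceW Y η.1 (φ ⁻¹ᵁ O))) M i n) :
    (P.cpt w M i n i₁ n₁ h1 h1').hom ((L.cpt M i n).hom
        (((T.ptι Y η.1 i n (pieceIdx Y η.1 (φ ⁻¹ᵁ O)
          (mem_sY' Y (φ ⁻¹ᵁ O) (containsFj_preimage φ w η hmap hgen O hFO) η))).app M).hom γ)) =
      ((T.fjι X q i₁ n₁ (sY' X O hFO)).app M).hom
        ((T.push (X := Y.res (φ ⁻¹ᵁ O)) (Y := X.res O) (φ ∣_ O) M i₃ n₃ i₁ n₁
            (by rw [relCodim_preimage φ w η hmap hcod hgen O hFO, h1, h3]; push_cast; ring)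
            (by rw [relCodim_preimage φ w η hmap hcod hgen O hFO, h1', h3']; push_cast; ring)).hom
          ((T.push (Y.ptSubι η.1 ∣_ (φ ⁻¹ᵁ O)) M i n i₃ n₃
            (by rw [relCodim_piece_Y' Y (φ ⁻¹ᵁ O)
              (containsFj_preimage φ w η hmap hgen O hFO) η]; exact h3)
            (by rw [relCodim_piece_Y' Y (φ ⁻¹ᵁ O)
              (containsFj_preimage φ w η hmap hgen O hFO) η]; exact h3')).hom γ)) := by
  have hFOY := containsFj_preimage φ w η hmap hgen O hFO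
  obtain ⟨f, hf⟩ := exists_fO φ w η hmap hgen O
  haveI : IsProper (f ≫ (X.ptSubι w.1 ∣_ O)) := by rw [hf]; infer_instance
  haveI : IsProper f := IsProper.of_comp f (X.ptSubι w.1 ∣_ O)
  have hfac : f ≫ (pieceW X w.1 O).ι ≫ X.ptSubι w.1 =
      (pieceW Y η.1 (φ ⁻¹ᵁ O)).ι ≫ Y.ptSubι η.1 ≫ φ := by
    have e1 : (pieceW X w.1 O).ι ≫ X.ptSubι w.1 = (X.ptSubι w.1 ∣_ O) ≫ O.ι :=
      (morphismRestrict_ι _ _).symm
    have e2 : (pieceW Y η.1 (φ ⁻¹ᵁ O)).ι ≫ Y.ptSubι η.1 =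
        (Y.ptSubι η.1 ∣_ (φ ⁻¹ᵁ O)) ≫ (φ ⁻¹ᵁ O).ι := (morphismRestrict_ι _ _).symm
    have e3 : (φ ⁻¹ᵁ O).ι ≫ φ = (φ ∣_ O) ≫ O.ι := (morphismRestrict_ι _ _).symm
    calc f ≫ (pieceW X w.1 O).ι ≫ X.ptSubι w.1
        = f ≫ (X.ptSubι w.1 ∣_ O) ≫ O.ι := by rw [e1]
      _ = (f ≫ (X.ptSubι w.1 ∣_ O)) ≫ O.ι := (Category.assoc _ _ _).symm
      _ = ((Y.ptSubι η.1 ∣_ (φ ⁻¹ᵁ O)) ≫ (φ ∣_ O)) ≫ O.ι := by rw [hf]
      _ = (Y.ptSubι η.1 ∣_ (φ ⁻¹ᵁ O)) ≫ ((φ ∣_ O) ≫ O.ι) := Category.assoc _ _ _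
      _ = (Y.ptSubι η.1 ∣_ (φ ⁻¹ᵁ O)) ≫ ((φ ⁻¹ᵁ O).ι ≫ φ) := by rw [e3]
      _ = ((Y.ptSubι η.1 ∣_ (φ ⁻¹ᵁ O)) ≫ (φ ⁻¹ᵁ O).ι) ≫ φ := (Category.assoc _ _ _).symm
      _ = ((pieceW Y η.1 (φ ⁻¹ᵁ O)).ι ≫ Y.ptSubι η.1) ≫ φ := by rw [e2]
      _ = _ := Category.assoc _ _ _
  have hrc0 : relCodim ((Y.ptSub η.1).res (pieceW Y η.1 (φ ⁻¹ᵁ O))).scheme
      ((X.ptSub w.1).res (pieceW X w.1 O)).scheme = 0 := relCodim_pieces η.1 w.1 L.codim_eq
    (pieceIdx Y η.1 (φ ⁻¹ᵁ O) (mem_sY' Y (φ ⁻¹ᵁ O) hFOY η))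
    (pieceIdx X w.1 O (mem_sY' X O hFO w))
  have hrcY := relCodim_piece_Y' Y (φ ⁻¹ᵁ O) hFOY η
  have hrcX := relCodim_piece_Y' X O hFO w
  have hrcφ := relCodim_preimage φ w η hmap hcod hgen O hFO
  have hrcq : relCodim ((Y.ptSub η.1).res (pieceW Y η.1 (φ ⁻¹ᵁ O))).scheme (X.res O).scheme =
      (q : ℤ) := by
    unfold relCodim at hrc0 hrcX ⊢
    omega
  rw [ptPush_cpt_apply T φ η.1 w.1 L M i n
    (pieceIdx Y η.1 (φ ⁻¹ᵁ O) (mem_sY' Y (φ ⁻¹ᵁ O) hFOY η))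
    (pieceIdx X w.1 O (mem_sY' X O hFO w)) f hfac γ]
  rw [sigma_push' X O hFO T P w M i n i₁ n₁ h1 h1']
  congr 1
  have c1 := T.push_comp (X := (Y.ptSub η.1).res (pieceW Y η.1 (φ ⁻¹ᵁ O)))
    (Y := (X.ptSub w.1).res (pieceW X w.1 O)) (Z := X.res O) f (X.ptSubι w.1 ∣_ O) M
    i n i n i₁ n₁
    (by rw [hrc0]; ring) (by rw [hrc0]; ring)
    (by rw [hrcX]; exact h1) (by rw [hrcX]; exact h1')
    (by rw [hrcq]; exact h1) (by rw [hrcq]; exact h1')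
  have c2 := T.push_comp (X := (Y.ptSub η.1).res (pieceW Y η.1 (φ ⁻¹ᵁ O)))
    (Y := Y.res (φ ⁻¹ᵁ O)) (Z := X.res O) (Y.ptSubι η.1 ∣_ (φ ⁻¹ᵁ O)) (φ ∣_ O) M
    i n i₃ n₃ i₁ n₁
    (by rw [hrcY]; exact h3) (by rw [hrcY]; exact h3')
    (by rw [hrcφ, h1, h3]; push_cast; ring) (by rw [hrcφ, h1', h3']; push_cast; ring)
    (by rw [hrcq]; exact h1) (by rw [hrcq]; exact h1')
  have d1 := congrArg (fun ψ => ψ.hom γ) c1
  have d2 := congrArg (fun ψ => ψ.hom γ) c2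
  simp only [ModuleCat.hom_comp, LinearMap.comp_apply] at d1 d2
  rw [d1, d2]
  exact congrArg (fun ψ => ψ.hom γ)
    (push_congr T (X := (Y.ptSub η.1).res (pieceW Y η.1 (φ ⁻¹ᵁ O))) (Y := X.res O) hf
      M i n i₁ n₁ (by rw [hrcq]; exact h1) (by rw [hrcq]; exact h1'))

include hgen hmap hcod in
/-- Every class of the generic point of `Y` is represented over the preimage of every
sufficiently small open containing `F_q X`. -/
theorem exists_open_rep (M : A.Cat) (i n : ℤ) (a : T.ptGp Y η.1 M i n) :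
    ∃ (O₁ : X.scheme.Opens) (_ : ContainsFj X q O₁),
      (∀ p : X.scheme, p ∉ O₁ → p ∈ Set.range φ) ∧
      ∀ (O : X.scheme.Opens) (hFO : ContainsFj X q O), O ≤ O₁ →
        ∃ γ : T.gp ((Y.ptSub η.1).res (pieceW Y η.1 (φ ⁻¹ᵁ O))) M i n,
          ((T.ptι Y η.1 i n (pieceIdx Y η.1 (φ ⁻¹ᵁ O)
            (mem_sY' Y (φ ⁻¹ᵁ O) (containsFj_preimage φ w η hmap hgen O hFO) η))).app M).hom γ
              = a := by
  obtain ⟨W, α, rfl⟩ := exists_rep T (Y.ptSub η.1) _ i n M a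
  let h := Y.ptSubι η.1 ≫ φ
  let O₁ : X.scheme.Opens := ⟨(h '' (W.1 : Set (Y.ptSub η.1).scheme)ᶜ)ᶜ,
    (h.isClosedMap _ W.1.2.isClosed_compl).isOpen_compl⟩
  have hF₁ : ContainsFj X q O₁ := by
    intro p hp
    rintro ⟨s, hs, rfl⟩
    have hne : s ≠ ptSubPt Y η.1 := fun e => hs (e ▸ ptSubPt_mem Y η.1 W)
    have hsp : ptSubPt Y η.1 ⤳ s := by
      have h1 : Y.ptSubι η.1 s ∈ closure ({η.1} : Set Y.scheme) := by
        rw [← range_ptSubι]; exact ⟨s, rfl⟩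
      have h2 : Y.ptSubι η.1 (ptSubPt Y η.1) ⤳ Y.ptSubι η.1 s := by
        rw [ptSubι_ptSubPt]; exact specializes_iff_mem_closure.2 h1
      exact ((Y.ptSubι η.1).isClosedEmbedding.isInducing.specializes_iff).1 h2
    have h1 := pdim_lt_of_specializes_ne (Y.ptSub η.1) hsp hne
    have h2 := pdim_map_le (Y := Y.ptSub η.1) (X := X) h s
    have h3 : WeilCoh.pdim (Y.ptSub η.1).scheme (ptSubPt Y η.1) = WeilCoh.pdim Y.scheme η.1 := by
      rw [← pdim_map_of_isClosedImmersion (Y.ptSubι η.1), ptSubι_ptSubPt]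
    have h4 := pdim_eta η
    have h5 := dim_add w η hcod
    have h6 := pdim_le_dim X (h s)
    unfold WeilCoh.codim at hp
    omega
  refine ⟨O₁, hF₁, ?_, ?_⟩
  · intro p hp
    have : p ∈ h '' (W.1 : Set (Y.ptSub η.1).scheme)ᶜ := by
      by_contra hc
      exact hp hc
    obtain ⟨s, -, rfl⟩ := this
    exact ⟨Y.ptSubι η.1 s, rfl⟩
  · intro O hFO hle
    have hleW : pieceIdx Y η.1 (φ ⁻¹ᵁ O)
        (mem_sY' Y (φ ⁻¹ᵁ O) (containsFj_preimage φ w η hmap hgen O hFO) η) ≤ W := by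
      intro s hs
      by_contra hsW
      have h1 : h s ∈ O₁ := hle hs
      exact h1 ⟨s, hsW, rfl⟩
    exact ⟨(idxRes T (Y.ptSub η.1) _ i n M hleW).hom α,
      ocolimι_idxRes_apply T (Y.ptSub η.1) _ i n M hleW α⟩

end norm

end Groth.Agent.Lib.helper27.BMNorm1
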