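import Mathlib
import Groth.Prelude.Def_BMCoh4
import Groth.Agent.Lib.Helper27.BMNorm1

namespace Groth.Agent.Lib.helper27.BMNorm2
universe u
set_option linter.unusedSectionVars false
set_option linter.style.haveILetI false
open CategoryTheory AlgebraicGeometry Opposite BMCoh Limits TopologicalSpace Topology Order
open Groth.Agent.Lib.helper27.BMBasic Groth.Agent.Lib.helper27.BMTop
  Groth.Agent.Lib.helper27.BMGeom Groth.Agent.Lib.helper27.BMColim
  Groth.Agent.Lib.helper27.BMCodim Groth.Agent.Lib.helper27.BMLift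
  Groth.Agent.Lib.helper27.BMDim Groth.Agent.Lib.helper27.BMVanish
  Groth.Agent.Lib.helper27.BMTopPts Groth.Agent.Lib.helper27.BMHyp
  Groth.Agent.Lib.helper27.BMPiece Groth.Agent.Lib.helper27.BMResDecomp
  Groth.Agent.Lib.helper27.BMResEval
  Groth.Agent.Lib.helper27.BMSigma Groth.Agent.Lib.helper27.BMSigma2
  Groth.Agent.Lib.helper27.BMLevel Groth.Agent.Lib.helper27.BMPtPush
  Groth.Agent.Lib.helper27.BMNorm1

variable {V : ObjectProperty Scheme.{u}} [BMCoh.IsConstructible V] {R : Type u} [CommRing R]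
  {A : BMCoh.Coefs R}

section geom
variable {Y X : Obj V} (φ : Y.scheme ⟶ X.scheme) [IsProper φ]
  {q : ℕ} (w : X.cdPt q) (η : Y.cdPt 0)
  (hmap : φ η.1 = w.1) (hcod : relCodim (Y.ptSub η.1).scheme (X.ptSub w.1).scheme = 0)
  (hgen : ∀ y : Y.scheme, η.1 ⤳ y) (x : X.cdPt (q + 1))

include hmap in
/-- The generic point of `Y` does not map into the closure of `x`. -/
lemma eta_not_mem (p : Y.scheme) (hp : φ p ∈ closure ({x.1} : Set X.scheme)) : p ≠ η.1 := by
  rintro rfl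
  rw [hmap] at hp
  have h1 := codim_le_of_specializes X (specializes_iff_mem_closure.2 hp)
  have h2 := w.2
  have h3 := x.2
  omega

include hmap hcod hgen in
/-- Every point of the fibre of `φ` over `x` has codimension one. -/
lemma codim_fiber (p : Y.scheme) (hp : φ p = x.1) : WeilCoh.codim Y.scheme p = 0 + 1 := by
  have hne : p ≠ η.1 := eta_not_mem φ w η hmap x p (by rw [hp]; exact subset_closure rfl)
  have h1 := one_le_codim_of_ne η hgen p hne
  have h2 := pdim_map_le φ p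
  rw [hp] at h2
  have h3 := dim_add w η hcod
  have h4 := x.2
  have h5 := pdim_le_dim X x.1
  have h6 := pdim_le_dim Y p
  unfold WeilCoh.codim at h4 h1 ⊢
  omega

/-- The preimage of the closure of `x`. -/
def Fx : Closeds Y.scheme :=
  ⟨φ ⁻¹' closure ({x.1} : Set X.scheme), isClosed_closure.preimage φ.continuous⟩

include hmap hgen in
lemma one_le_codim_of_not_mem_compl (y : Y.scheme) (hy : y ∉ (Fx φ x).compl) :
    0 + 1 ≤ WeilCoh.codim Y.scheme y := by
  have hy' : φ y ∈ closure ({x.1} : Set X.scheme) := by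
    by_contra h
    exact hy h
  have := one_le_codim_of_ne η hgen y (eta_not_mem φ w η hmap x y hy')
  omega

include hmap hgen in
/-- The fibre over `x` among the points of codimension one is finite. -/
lemma finite_fiber : {y : Y.cdPt (0 + 1) | φ y.1 = x.1}.Finite := by
  obtain ⟨hfin, -⟩ := exists_finite_and_open' Y (0 + 1) (Fx φ x).compl
    (one_le_codim_of_not_mem_compl φ w η hmap hgen x)
  refine hfin.subset ?_
  intro y hy
  have hy' : φ y.1 = x.1 := hy
  show y.1 ∉ (Fx φ x).compl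
  intro h
  apply h
  show φ y.1 ∈ closure ({x.1} : Set X.scheme)
  rw [hy']
  exact subset_closure rfl

include hmap hcod hgen in
/-- A neighbourhood of `x` over which the preimage of the closure of `x` is the disjoint union
of the closures of the points of the fibre. -/
theorem exists_good_nhd (O₁ : X.scheme.Opens) (hF₁ : ContainsFj X q O₁) (hx : x.1 ∉ O₁)
    (Tx : Finset (Y.cdPt (0 + 1))) (hTx : ∀ y, y ∈ Tx ↔ φ y.1 = x.1) :
    ∃ N : X.scheme.Opens, x.1 ∈ N ∧ ContainsFj X q N ∧ openPart X x.1 N ≤ O₁ ∧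
      (∀ p : Y.scheme, φ p ∈ N → φ p ∈ closure ({x.1} : Set X.scheme) →
        p ∈ (sC Y Tx : Set Y.scheme)) ∧
      (∀ y ∈ Tx, ∀ y' ∈ Tx, y ≠ y' → ∀ p ∈ φ ⁻¹ᵁ N,
        p ∈ closure ({y.1} : Set Y.scheme) → p ∉ closure ({y'.1} : Set Y.scheme)) := by
  classical
  obtain ⟨hfin, Y₀, hFY₀, hY₀⟩ := exists_finite_and_open' Y (0 + 1) (Fx φ x).compl
    (one_le_codim_of_not_mem_compl φ w η hmap hgen x)
  have hmemT : ∀ y : Y.cdPt (0 + 1), y ∈ hfin.toFinset ↔ φ y.1 ∈ closure ({x.1} : Set X.scheme) := by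
    intro y
    rw [Set.Finite.mem_toFinset]
    constructor
    · intro h
      by_contra hc
      exact h hc
    · intro h hc
      exact hc h
  let T' : Finset (Y.cdPt (0 + 1)) := hfin.toFinset.filter (fun y => y ∉ Tx)
  let B : Set Y.scheme := (((Fx φ x : Set Y.scheme) ∩ (Y₀ : Set Y.scheme)ᶜ) ∪
    (sC' Y T' : Set Y.scheme)) ∪ (pairC' Y Tx : Set Y.scheme)
  have hBcl : IsClosed B :=
    (((Fx φ x).2.inter Y₀.2.isClosed_compl).union (sC' Y T').2).union (pairC' Y Tx).2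
  -- `B` maps into the closure of `x`
  have hBF : ∀ b ∈ B, φ b ∈ closure ({x.1} : Set X.scheme) := by
    rintro b ((⟨hb, -⟩ | hb) | hb)
    · exact hb
    · obtain ⟨y, hy, hby⟩ := (mem_sC' Y T').1 hb
      have hyT : φ y.1 ∈ closure ({x.1} : Set X.scheme) :=
        (hmemT y).1 (Finset.mem_filter.1 hy).1
      have h1 : φ y.1 ⤳ φ b := (specializes_iff_mem_closure.2 hby).map φ.continuous
      exact specializes_iff_mem_closure.1 ((specializes_iff_mem_closure.2 hyT).trans h1)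
    · obtain ⟨y, hy, -, -, -, hby, -⟩ := (mem_pairC' Y Tx).1 hb
      have h1 : φ y.1 ⤳ φ b := (specializes_iff_mem_closure.2 hby).map φ.continuous
      rw [(hTx y).1 hy] at h1
      exact specializes_iff_mem_closure.1 h1
  -- `x` is not in the image of `B`
  have hxB : x.1 ∉ φ '' B := by
    rintro ⟨p, hpB, hpx⟩
    have hc := codim_fiber φ w η hmap hcod hgen x p hpx
    rcases hpB with (⟨-, hp⟩ | hp) | hp
    · exact hp (hFY₀ p (le_of_eq hc))
    · obtain ⟨y, hy, hpy⟩ := (mem_sC' Y T').1 hp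
      obtain ⟨hyT, hyTx⟩ := Finset.mem_filter.1 hy
      have hyT' : φ y.1 ∈ closure ({x.1} : Set X.scheme) := (hmemT y).1 hyT
      have h1 : φ y.1 ⤳ φ p := (specializes_iff_mem_closure.2 hpy).map φ.continuous
      rw [hpx] at h1
      have h2 : x.1 ⤳ φ y.1 := specializes_iff_mem_closure.2 hyT'
      exact hyTx ((hTx y).2 (h1.antisymm h2).eq)
    · have := le_codim_of_mem_pairC' Y Tx hp
      omega
  obtain ⟨N₀, hxN₀, hFN₀, -, hN₀⟩ := exists_nhd_of_not_mem x
    ⟨O₁, hF₁, dim_eq_of_containsFj X q O₁ hF₁⟩ hx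
  let N₁ : X.scheme.Opens := ⟨(φ '' B)ᶜ, (φ.isClosedMap _ hBcl).isOpen_compl⟩
  have hN₁ : ∀ p : Y.scheme, φ p ∈ N₁ → p ∉ B := fun p hp hpB => hp ⟨p, hpB, rfl⟩
  refine ⟨N₀ ⊓ N₁, ⟨hxN₀, hxB⟩, ?_, ?_, ?_, ?_⟩
  · intro p hp
    refine ⟨hFN₀ p hp, ?_⟩
    rintro ⟨b, hb, rfl⟩
    have h1 := codim_le_of_specializes X (specializes_iff_mem_closure.2 (hBF b hb))
    have h2 := x.2
    omega
  · intro p hp
    exact hN₀ ⟨hp.1.1, hp.2⟩
  · intro p hpN hpx
    have hpB : p ∉ B := hN₁ p hpN.2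
    have hpY₀ : p ∈ Y₀ := by
      by_contra h
      exact hpB (Or.inl (Or.inl ⟨hpx, h⟩))
    obtain ⟨y, hy, hpy⟩ := hY₀ p hpY₀ (fun h => h hpx)
    have hyT : y ∈ hfin.toFinset := (Set.Finite.mem_toFinset _).2 hy
    by_cases hyTx : y ∈ Tx
    · exact (mem_sC Y Tx).2 ⟨y, hyTx, hpy⟩
    · exact absurd (Or.inl (Or.inr ((mem_sC' Y T').2
        ⟨y, Finset.mem_filter.2 ⟨hyT, hyTx⟩, hpy⟩))) hpB
  · refine hdisj_of_le' Y Tx (φ ⁻¹ᵁ (N₀ ⊓ N₁)) ?_
    intro p hp hpc
    exact hN₁ p hp.2 (Or.inr hpc)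

end geom

end Groth.Agent.Lib.helper27.BMNorm2
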