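import Mathlib
import Groth.Prelude.Def_BMCoh4
import Groth.Prelude.Def_BMCoh5
import Groth.Agent.Lib.Helper27.BMNorm2

namespace Groth.Agent.Lib.helper27.BMNorm3
universe u
set_option linter.unusedSectionVars false
set_option linter.style.haveILetI false
open CategoryTheory AlgebraicGeometry Opposite BMCoh Limits TopologicalSpace Topology Order
open Groth.Agent.Lib.helper27.BMBasic Groth.Agent.Lib.helper27.BMTop
  Groth.Agent.Lib.helper27.BMGeom Groth.Agent.Lib.helper27.BMColim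
  Groth.Agent.Lib.helper27.BMCodim Groth.Agent.Lib.helper27.BMLift
  Groth.Agent.Lib.helper27.BMDim Groth.Agent.Lib.helper27.BMVanish
  Groth.Agent.Lib.helper27.BMTopPts Groth.Agent.Lib.helper27.BMHyp
  Groth.Agent.Lib.helper27.BMPiece Groth.Agent.Lib.helper27.BMResDecomp
  Groth.Agent.Lib.helper27.BMResEval Groth.Agent.Lib.helper27.BMClosed
  Groth.Agent.Lib.helper27.BMSigma Groth.Agent.Lib.helper27.BMSigma2
  Groth.Agent.Lib.helper27.BMSigmaW
  Groth.Agent.Lib.helper27.BMLevel Groth.Agent.Lib.helper27.BMPtPush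
  Groth.Agent.Lib.helper27.BMNorm1 Groth.Agent.Lib.helper27.BMNorm2

variable {V : ObjectProperty Scheme.{u}} [BMCoh.IsConstructible V] {R : Type u} [CommRing R]
  {A : BMCoh.Coefs R}

/-! ### General lemmas -/

/-- The restrictions of a morphism to nested opens form a cartesian square. -/
lemma isPullback_restrict_restrict {A B : Scheme.{u}} (f : A ⟶ B) {O N : B.Opens} (hle : O ≤ N) :
    IsPullback (A.homOfLE (f.preimage_mono hle)) (f ∣_ O) (f ∣_ N) (B.homOfLE hle) := by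
  have hcomm : A.homOfLE (f.preimage_mono hle) ≫ (f ∣_ N) = (f ∣_ O) ≫ B.homOfLE hle := by
    rw [← cancel_mono N.ι]
    simp [morphismRestrict_ι]
  refine IsPullback.of_right ?_ hcomm (isPullback_morphismRestrict f N).flip
  have h1 : A.homOfLE (f.preimage_mono hle) ≫ (f ⁻¹ᵁ N).ι = (f ⁻¹ᵁ O).ι := Scheme.homOfLE_ι _ _
  have h2 : B.homOfLE hle ≫ N.ι = O.ι := Scheme.homOfLE_ι _ _
  rw [h1, h2]
  exact (isPullback_morphismRestrict f O).flip

lemma dim_eq_of_surjective_isClosedImmersion {Z Z' : Scheme.{u}} (k : Z ⟶ Z')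
    [IsClosedImmersion k] (hk : Function.Surjective k) : WeilCoh.dim Z = WeilCoh.dim Z' := by
  unfold WeilCoh.dim WeilCoh.natDim
  rw [IsHomeomorph.topologicalKrullDim_eq k
    (isHomeomorph_iff_isEmbedding_surjective.2 ⟨k.isClosedEmbedding.isEmbedding, hk⟩)]

lemma relCodim_of_add {A B : Scheme.{u}} (k : ℕ) (h : WeilCoh.dim A + k = WeilCoh.dim B) :
    relCodim A B = (k : ℤ) := by
  unfold relCodim
  omega

/-- The base change of a decomposition along a morphism, given the base change of the open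
part. -/
noncomputable abbrev pbDecomp {X' Y' : Obj V} (D : Decomp X') (f : Y'.scheme ⟶ X'.scheme)
    (U' : Obj V) (j' : U' ⟶ Y') (fU : U'.scheme ⟶ D.U.scheme)
    (hpb : IsPullback j'.hom fU f D.j.hom) : Decomp Y' where
  Z := ⟨pullback D.i f, IsConstructible.of_isClosedImmersion (pullback.snd D.i f) Y'.mem⟩
  U := U'
  i := pullback.snd D.i f
  closedImm := inferInstance
  j := j'
  range_eq := by
    have h1 : Set.range j'.hom = f ⁻¹' Set.range D.j.hom := by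
      ext p
      constructor
      · rintro ⟨s, rfl⟩
        refine ⟨fU s, ?_⟩
        have := congrArg (fun ψ => ψ s) hpb.w
        simp only [Scheme.Hom.comp_base, TopCat.hom_comp, ContinuousMap.comp_apply] at this
        exact this.symm
      · intro hp
        have hp' : p ∈ f ⁻¹' Set.range D.j.hom := hp
        rw [← Scheme.Pullback.range_fst] at hp'
        obtain ⟨t, rfl⟩ := hp'
        refine ⟨hpb.isoPullback.inv t, ?_⟩
        have := congrArg (fun ψ => ψ t) hpb.isoPullback_inv_fst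
        simp only [Scheme.Hom.comp_base, TopCat.hom_comp, ContinuousMap.comp_apply] at this
        exact this
    rw [h1, D.range_eq, Scheme.Pullback.range_snd, Set.preimage_compl]

/-! ### The situation over a good neighbourhood of `x` -/

section caseB
variable {Y X : Obj V} (φ : Y.scheme ⟶ X.scheme) [IsProper φ]
  {q : ℕ} (w : X.cdPt q) (η : Y.cdPt 0) (x : X.cdPt (q + 1)) (N : X.scheme.Opens)
  (Tx : Finset (Y.cdPt (0 + 1)))

/-- The hypotheses on a good neighbourhood `N` of `x`. -/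
structure CaseB : Prop where
  hmap : φ η.1 = w.1
  hcod : relCodim (Y.ptSub η.1).scheme (X.ptSub w.1).scheme = 0
  hgen : ∀ y : Y.scheme, η.1 ⤳ y
  hxN : x.1 ∈ N
  hFN : ContainsFj X q N
  hTx : ∀ y, y ∈ Tx ↔ φ y.1 = x.1
  hTne : Tx.Nonempty
  hcov : ∀ p : Y.scheme, φ p ∈ N → φ p ∈ closure ({x.1} : Set X.scheme) →
    p ∈ (sC Y Tx : Set Y.scheme)
  hdisj : ∀ y ∈ Tx, ∀ y' ∈ Tx, y ≠ y' → ∀ p ∈ φ ⁻¹ᵁ N,
    p ∈ closure ({y.1} : Set Y.scheme) → p ∉ closure ({y'.1} : Set Y.scheme)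

variable {φ w η x N Tx} (H : CaseB φ w η x N Tx)
include H

lemma CaseB.hFO : ContainsFj X q (openPart X x.1 N) := containsFj_openPart x.2 H.hFN

lemma CaseB.hF0 : ContainsFj Y 0 (φ ⁻¹ᵁ N) :=
  containsFj_preimage φ w η H.hmap H.hgen N H.hFN

lemma CaseB.hFOY : ContainsFj Y 0 (φ ⁻¹ᵁ (openPart X x.1 N)) :=
  containsFj_preimage φ w η H.hmap H.hgen _ H.hFO

lemma CaseB.hSY : ∀ y ∈ Tx, y.1 ∈ φ ⁻¹ᵁ N := fun y hy => by
  show φ y.1 ∈ N
  rw [(H.hTx y).1 hy]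
  exact H.hxN

lemma CaseB.map_mem_closure (p : Y.scheme) (hp : p ∈ (sC Y Tx : Set Y.scheme)) :
    φ p ∈ closure ({x.1} : Set X.scheme) := by
  obtain ⟨y, hy, hpy⟩ := (mem_sC Y Tx).1 hp
  have h1 : φ y.1 ⤳ φ p := (specializes_iff_mem_closure.2 hpy).map φ.continuous
  rw [(H.hTx y).1 hy] at h1
  exact specializes_iff_mem_closure.1 h1

lemma CaseB.hleU : φ ⁻¹ᵁ N ⊓ (sC Y Tx).compl ≤ φ ⁻¹ᵁ (openPart X x.1 N) := by
  intro p hp
  refine ⟨hp.1, fun hc => hp.2 (H.hcov p hp.1 hc)⟩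

/-- The decomposition downstairs. -/
noncomputable abbrev CaseB.D : Decomp (X.res N) := resDecomp X x.1 N H.hxN x.2 H.hFN

/-- The reduced decomposition upstairs. -/
noncomputable abbrev CaseB.W : Decomp (Y.res (φ ⁻¹ᵁ N)) := wD Y Tx (φ ⁻¹ᵁ N) H.hF0

lemma CaseB.exists_u : ∃ u : H.W.Z.scheme ⟶ H.D.Z.scheme, u ≫ H.D.i = H.W.i ≫ (φ ∣_ N) := by
  refine exists_lift_of_isReduced (X.ptSubι x.1 ∣_ N)
    ((redSubι Y (sC Y Tx) ∣_ (φ ⁻¹ᵁ N)) ≫ (φ ∣_ N)) ?_
  rw [range_restrict_ptSubι]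
  rintro _ ⟨s, rfl⟩
  show ((φ ∣_ N) ((redSubι Y (sC Y Tx) ∣_ (φ ⁻¹ᵁ N)) s) : ↥N).1 ∈ closure ({x.1} : Set X.scheme)
  rw [morphismRestrict_base_coe, morphismRestrict_base_coe]
  exact H.map_mem_closure _ (redSubι_mem Y (sC Y Tx) _)

/-- The morphism from the reduced closed part upstairs to the closed part downstairs. -/
noncomputable def CaseB.u : H.W.Z.scheme ⟶ H.D.Z.scheme := H.exists_u.choose

@[reassoc]
lemma CaseB.u_fac : H.u ≫ H.D.i = H.W.i ≫ (φ ∣_ N) := H.exists_u.choose_spec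

instance CaseB.isProper_u : IsProper H.u := by
  haveI : IsProper (H.u ≫ H.D.i) := by rw [H.u_fac]; infer_instance
  exact IsProper.of_comp H.u H.D.i

/-- The comparison from the reduced closed part to the base change of the closed part. -/
noncomputable def CaseB.k : H.W.Z.scheme ⟶ pullback H.D.i (φ ∣_ N) :=
  pullback.lift H.u H.W.i H.u_fac

@[reassoc]
lemma CaseB.k_fst : H.k ≫ pullback.fst H.D.i (φ ∣_ N) = H.u := pullback.lift_fst _ _ _

@[reassoc]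
lemma CaseB.k_snd : H.k ≫ pullback.snd H.D.i (φ ∣_ N) = H.W.i := pullback.lift_snd _ _ _

instance CaseB.isClosedImmersion_k : IsClosedImmersion H.k := by
  haveI : IsClosedImmersion (H.k ≫ pullback.snd H.D.i (φ ∣_ N)) := by
    rw [H.k_snd]; infer_instance
  exact IsClosedImmersion.of_comp H.k (pullback.snd H.D.i (φ ∣_ N))

lemma CaseB.k_surjective : Function.Surjective H.k := by
  intro p
  have hp2 : ((pullback.snd H.D.i (φ ∣_ N)) p : ↥(φ ⁻¹ᵁ N)).1 ∈ (sC Y Tx : Set Y.scheme) := by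
    refine H.hcov _ ((pullback.snd H.D.i (φ ∣_ N)) p).2 ?_
    have h1 := congrArg (fun ψ => ψ p) (pullback.condition (f := H.D.i) (g := φ ∣_ N))
    simp only [Scheme.Hom.comp_base, TopCat.hom_comp, ContinuousMap.comp_apply] at h1
    have h2 : ((φ ∣_ N) ((pullback.snd H.D.i (φ ∣_ N)) p) : ↥N).1 ∈
        closure ({x.1} : Set X.scheme) := by
      rw [← h1]
      have : (X.ptSubι x.1 ∣_ N) ((pullback.fst H.D.i (φ ∣_ N)) p) ∈
          Set.range (X.ptSubι x.1 ∣_ N) := ⟨_, rfl⟩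
      rw [range_restrict_ptSubι] at this
      exact this
    rw [morphismRestrict_base_coe] at h2
    exact h2
  have hp3 : (pullback.snd H.D.i (φ ∣_ N)) p ∈
      Set.range (redSubι Y (sC Y Tx) ∣_ (φ ⁻¹ᵁ N)) := by
    rw [range_restrict_redSubι]
    exact hp2
  obtain ⟨z, hz⟩ := hp3
  refine ⟨z, ?_⟩
  apply (pullback.snd H.D.i (φ ∣_ N)).isClosedEmbedding.injective
  rw [← hz]
  exact congrArg (fun ψ => ψ z) H.k_snd

instance CaseB.surjective_k : AlgebraicGeometry.Surjective H.k := ⟨H.k_surjective⟩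

lemma CaseB.dimOY : WeilCoh.dim ((φ ⁻¹ᵁ openPart X x.1 N : Y.scheme.Opens) : Scheme.{u}) =
    WeilCoh.dim ((φ ⁻¹ᵁ N : Y.scheme.Opens) : Scheme.{u}) :=
  (dim_eq_of_containsFj Y 0 _ H.hFOY).trans (dim_eq_of_containsFj Y 0 _ H.hF0).symm

/-- The base change of the decomposition downstairs. -/
noncomputable abbrev CaseB.D' : Decomp (Y.res (φ ⁻¹ᵁ N)) :=
  pbDecomp H.D (φ ∣_ N) (Y.res (φ ⁻¹ᵁ (openPart X x.1 N)))
    (Y.resLE (φ.preimage_mono (inf_le_left : openPart X x.1 N ≤ N)) H.dimOY)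
    (φ ∣_ (openPart X x.1 N))
    (isPullback_restrict_restrict φ inf_le_left)

/-- The identification of the open parts. -/
noncomputable abbrev CaseB.gU : H.W.U ⟶ H.D'.U :=
  Y.resLE H.hleU ((dim_wU Y Tx (φ ⁻¹ᵁ N) H.hF0).trans
    (dim_eq_of_containsFj Y 0 _ H.hFOY).symm)

lemma CaseB.gU_fac : H.gU ≫ H.D'.j = H.W.j :=
  Hom.ext (Scheme.homOfLE_homOfLE Y.scheme H.hleU
    (φ.preimage_mono (inf_le_left : openPart X x.1 N ≤ N)))

lemma CaseB.k_fac : H.k ≫ H.D'.i = H.W.i := H.k_snd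

lemma CaseB.dims :
    WeilCoh.dim H.W.Z.scheme + 1 = WeilCoh.dim Y.scheme ∧
    WeilCoh.dim H.D'.Z.scheme + 1 = WeilCoh.dim Y.scheme ∧
    WeilCoh.dim H.D.Z.scheme + (q + 1) = WeilCoh.dim X.scheme ∧
    WeilCoh.dim (Y.res (φ ⁻¹ᵁ N)).scheme = WeilCoh.dim Y.scheme ∧
    WeilCoh.dim (X.res N).scheme = WeilCoh.dim X.scheme ∧
    WeilCoh.dim (Y.res (φ ⁻¹ᵁ (openPart X x.1 N))).scheme = WeilCoh.dim Y.scheme ∧
    WeilCoh.dim (X.res (openPart X x.1 N)).scheme = WeilCoh.dim X.scheme ∧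
    WeilCoh.dim Y.scheme + q = WeilCoh.dim X.scheme := by
  have h1 : WeilCoh.dim H.W.Z.scheme + 1 = WeilCoh.dim Y.scheme := by
    have a1 : WeilCoh.dim H.W.Z.scheme = WeilCoh.dim (redSub Y (sC Y Tx)).scheme :=
      dim_wW Y Tx (φ ⁻¹ᵁ N) H.hSY H.hTne
    have a2 := dim_sC Y Tx H.hTne
    omega
  have h2 : WeilCoh.dim H.D'.Z.scheme = WeilCoh.dim H.W.Z.scheme :=
    (dim_eq_of_surjective_isClosedImmersion H.k H.k_surjective).symm
  have h3 : WeilCoh.dim H.D.Z.scheme + (q + 1) = WeilCoh.dim X.scheme := by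
    have a1 : WeilCoh.dim H.D.Z.scheme = WeilCoh.dim (X.ptSub x.1).scheme :=
      (pieceIdx X x.1 N H.hxN).2.2
    have a2 := dim_ptSub X x.1
    have a3 := x.2
    unfold WeilCoh.codim at a3
    omega
  exact ⟨h1, by omega, h3, dim_eq_of_containsFj Y 0 _ H.hF0, dim_eq_of_containsFj X q _ H.hFN,
    dim_eq_of_containsFj Y 0 _ H.hFOY, dim_eq_of_containsFj X q _ H.hFO,
    dim_add w η H.hcod⟩

lemma CaseB.W_codim : H.W.codim = ((0 : ℕ) : ℤ) + 1 := by
  obtain ⟨h1, h2, h3, h4, h5, h6, h7, h8⟩ := H.dims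
  exact (relCodim_of_add 1 (by omega :
    WeilCoh.dim H.W.Z.scheme + 1 = WeilCoh.dim (Y.res (φ ⁻¹ᵁ N)).scheme)).trans
      (by simp)

lemma CaseB.D'_codim : H.D'.codim = ((0 : ℕ) : ℤ) + 1 := by
  obtain ⟨h1, h2, h3, h4, h5, h6, h7, h8⟩ := H.dims
  exact (relCodim_of_add 1 (by omega :
    WeilCoh.dim H.D'.Z.scheme + 1 = WeilCoh.dim (Y.res (φ ⁻¹ᵁ N)).scheme)).trans
      (by simp)

lemma CaseB.D_codim : H.D.codim = (q : ℤ) + 1 := resDecomp_codim H.hxN x.2 H.hFN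

lemma CaseB.rcO : relCodim (Y.res (φ ⁻¹ᵁ (openPart X x.1 N))).scheme
    (X.res (openPart X x.1 N)).scheme = (q : ℤ) := by
  obtain ⟨h1, h2, h3, h4, h5, h6, h7, h8⟩ := H.dims
  exact relCodim_of_add q (by omega :
    WeilCoh.dim (Y.res (φ ⁻¹ᵁ (openPart X x.1 N))).scheme + q =
      WeilCoh.dim (X.res (openPart X x.1 N)).scheme)

lemma CaseB.rcZ' : relCodim H.D'.Z.scheme H.D.Z.scheme = 0 := by
  obtain ⟨h1, h2, h3, h4, h5, h6, h7, h8⟩ := H.dims
  exact (relCodim_of_add 0 (by omega :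
    WeilCoh.dim H.D'.Z.scheme + 0 = WeilCoh.dim H.D.Z.scheme)).trans (by simp)

lemma CaseB.rcWZ' : relCodim H.W.Z.scheme H.D'.Z.scheme = 0 := by
  obtain ⟨h1, h2, h3, h4, h5, h6, h7, h8⟩ := H.dims
  exact (relCodim_of_add 0 (by omega :
    WeilCoh.dim H.W.Z.scheme + 0 = WeilCoh.dim H.D'.Z.scheme)).trans (by simp)

lemma CaseB.rcWD : relCodim H.W.Z.scheme H.D.Z.scheme = 0 := by
  obtain ⟨h1, h2, h3, h4, h5, h6, h7, h8⟩ := H.dims
  exact (relCodim_of_add 0 (by omega :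
    WeilCoh.dim H.W.Z.scheme + 0 = WeilCoh.dim H.D.Z.scheme)).trans (by simp)

variable (T : BMCoh.PreTheory V R A)

/-- The residue downstairs of a push-forward is the push-forward of the residue of the reduced
decomposition upstairs. -/
theorem CaseB.res_formula [T.ResPushClosed] (M : A.Cat) (i₁ n₁ i₂ n₂ i₃ n₃ : ℤ)
    (h13 : i₁ = i₃ + 2 * (q : ℤ)) (h13' : n₁ = n₃ + (q : ℤ))
    (h2 : i₂ = i₁ + 1 - 2 * ((q : ℤ) + 1)) (h2' : n₂ = n₁ - ((q : ℤ) + 1))
    (h4 : i₂ = i₃ + 1 - 2 * (((0 : ℕ) : ℤ) + 1)) (h4' : n₂ = n₃ - (((0 : ℕ) : ℤ) + 1))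
    (c : T.gp (Y.res (φ ⁻¹ᵁ (openPart X x.1 N))) M i₃ n₃) :
    (T.res H.D M i₁ n₁ i₂ n₂ (by rw [H.D_codim]; exact h2) (by rw [H.D_codim]; exact h2')).hom
      ((T.push (X := Y.res (φ ⁻¹ᵁ (openPart X x.1 N))) (Y := X.res (openPart X x.1 N))
        (φ ∣_ (openPart X x.1 N)) M i₃ n₃ i₁ n₁
        (by rw [H.rcO]; exact h13) (by rw [H.rcO]; exact h13')).hom c) =
    (T.push (X := H.W.Z) (Y := H.D.Z) H.u M i₂ n₂ i₂ n₂
        (by rw [H.rcWD]; ring) (by rw [H.rcWD]; ring)).hom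
      ((T.res H.W M i₃ n₃ i₂ n₂ (by rw [H.W_codim]; exact h4)
        (by rw [H.W_codim]; exact h4')).hom ((T.pull H.gU M i₃ n₃).hom c)) := by
  -- base change
  have e1 := T.res_push H.D H.D' (φ ∣_ N) (pullback.fst H.D.i (φ ∣_ N))
    (φ ∣_ (openPart X x.1 N)) (IsPullback.of_hasPullback H.D.i (φ ∣_ N)).flip
    (isPullback_restrict_restrict φ inf_le_left) M i₃ n₃ i₂ n₂ i₁ n₁ i₂ n₂
    (by rw [H.D'_codim]; exact h4) (by rw [H.D'_codim]; exact h4')
    (by rw [H.rcO]; exact h13) (by rw [H.rcO]; exact h13')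
    (by rw [H.rcZ']; ring) (by rw [H.rcZ']; ring)
    (by rw [H.D_codim]; exact h2) (by rw [H.D_codim]; exact h2')
  -- reduced closed part
  have e2 := PreTheory.ResPushClosed.res_push_closed (T := T) (Y.res (φ ⁻¹ᵁ N)) H.D' H.W H.gU H.k
    H.gU_fac H.k_fac M i₃ n₃ i₂ n₂
    (by rw [H.D'_codim]; exact h4) (by rw [H.D'_codim]; exact h4')
    (by rw [H.W_codim]; exact h4) (by rw [H.W_codim]; exact h4')
    (by rw [H.rcWZ']; ring) (by rw [H.rcWZ']; ring)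
  -- composition
  have e3 := T.push_comp (X := H.W.Z) (Y := H.D'.Z) (Z := H.D.Z) H.k
    (pullback.fst H.D.i (φ ∣_ N)) M i₂ n₂ i₂ n₂ i₂ n₂
    (by rw [H.rcWZ']; ring) (by rw [H.rcWZ']; ring)
    (by rw [H.rcZ']; ring) (by rw [H.rcZ']; ring)
    (by rw [H.rcWD]; ring) (by rw [H.rcWD]; ring)
  have d1 := congrArg (fun ψ => ψ.hom c) e1
  have d2 := congrArg (fun ψ => ψ.hom c) e2
  have d3 := congrArg (fun ψ => ψ.hom ((T.res H.W M i₃ n₃ i₂ n₂ (by rw [H.W_codim]; exact h4)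
        (by rw [H.W_codim]; exact h4')).hom ((T.pull H.gU M i₃ n₃).hom c))) e3
  simp only [ModuleCat.hom_comp, LinearMap.comp_apply] at d1 d2 d3
  rw [← d1, ← d2, d3]
  exact LinearMap.congr_fun (congrArg ModuleCat.Hom.hom
    (push_congr T (X := H.W.Z) (Y := H.D.Z) H.k_fst M i₂ n₂ i₂ n₂
      (by rw [H.rcWD]; ring) (by rw [H.rcWD]; ring))) _

end caseB

end Groth.Agent.Lib.helper27.BMNorm3
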