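import Mathlib
import Groth.Prelude.Def_BMCoh4
import Groth.Agent.Lib.Helper27.BMNorm3
import Groth.Agent.Lib.Helper27.BMBirat

universe u
set_option linter.unusedSectionVars false
set_option linter.style.haveILetI false
open CategoryTheory AlgebraicGeometry Opposite BMCoh Limits TopologicalSpace Topology Order
open Groth.Agent.Lib.helper27.BMBasic Groth.Agent.Lib.helper27.BMTop
  Groth.Agent.Lib.helper27.BMGeom Groth.Agent.Lib.helper27.BMColim
  Groth.Agent.Lib.helper27.BMCodim Groth.Agent.Lib.helper27.BMLift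
  Groth.Agent.Lib.helper27.BMDim Groth.Agent.Lib.helper27.BMVanish
  Groth.Agent.Lib.helper27.BMTopPts Groth.Agent.Lib.helper27.BMHyp
  Groth.Agent.Lib.helper27.BMPiece Groth.Agent.Lib.helper27.BMResDecomp
  Groth.Agent.Lib.helper27.BMSigma2
  Groth.Agent.Lib.helper27.BMPtPush Groth.Agent.Lib.helper27.BMNorm3

namespace Groth.Agent.Lib.helper27.BMBij

variable {V : ObjectProperty Scheme.{u}} [BMCoh.IsConstructible V] {R : Type u} [CommRing R]
  {A : BMCoh.Coefs R} (T : BMCoh.PreTheory V R A)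

/-- Push-forward along an isomorphism is bijective. -/
lemma push_bijective_of_isIso {P Q : Obj V} (f : P.scheme ⟶ Q.scheme) [IsIso f] (M : A.Cat)
    (i n i' n' : ℤ) (hi : i' = i + 2 * relCodim P.scheme Q.scheme)
    (hn : n' = n + relCodim P.scheme Q.scheme) :
    Function.Bijective (T.push f M i n i' n' hi hn).hom := by
  have hrc : relCodim Q.scheme P.scheme = - relCodim P.scheme Q.scheme := by
    unfold relCodim; ring
  have h1 := T.push_comp f (inv f) M i n i' n' i n hi hn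
    (by rw [hrc, hi]; ring) (by rw [hrc, hn]; ring)
    (by rw [relCodim_self]; ring) (by rw [relCodim_self]; ring)
  have h2 := T.push_comp (inv f) f M i' n' i n i' n'
    (by rw [hrc, hi]; ring) (by rw [hrc, hn]; ring) hi hn
    (by rw [relCodim_self]; ring) (by rw [relCodim_self]; ring)
  rw [push_congr T (IsIso.hom_inv_id f), T.push_id] at h1
  rw [push_congr T (IsIso.inv_hom_id f), T.push_id] at h2
  refine Function.bijective_iff_has_inverse.2
    ⟨(T.push (inv f) M i' n' i n (by rw [hrc, hi]; ring) (by rw [hrc, hn]; ring)).hom,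
      fun z => ?_, fun z => ?_⟩
  · exact LinearMap.congr_fun (congrArg ModuleCat.Hom.hom h1) z
  · exact LinearMap.congr_fun (congrArg ModuleCat.Hom.hom h2) z

/-- An index from an open containing the generic point. -/
noncomputable abbrev mkIdx (X : Obj V) (x : X.scheme) (W : (X.ptSub x).scheme.Opens)
    (h : ptSubPt X x ∈ W) : ptIdx X x :=
  ⟨W, ⟨_, h⟩, IsConstructible.dim_open (X.ptSub x).mem inferInstance _ ⟨_, h⟩⟩

section
variable {Y X : Obj V} (φ : Y.scheme ⟶ X.scheme) [IsProper φ] (y : Y.scheme) (x : X.scheme)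
  (L : T.PtPush φ y x) (U : (X.ptSub x).scheme.Opens)
  (hiso : IsIso (ptMap φ y x L.maps_pt ∣_ U))

include hiso in
lemma isIso_restrict_of_le (W' : (X.ptSub x).scheme.Opens) (hle : W' ≤ U) :
    IsIso (ptMap φ y x L.maps_pt ∣_ W') :=
  (isPullback_restrict_restrict (ptMap φ y x L.maps_pt) hle).isIso_snd_of_isIso

lemma ptMap_restrict_fac (W' : (X.ptSub x).scheme.Opens) :
    (ptMap φ y x L.maps_pt ∣_ W') ≫ W'.ι ≫ X.ptSubι x =
      (ptMap φ y x L.maps_pt ⁻¹ᵁ W').ι ≫ Y.ptSubι y ≫ φ := by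
  rw [← Category.assoc, morphismRestrict_ι, Category.assoc, ptMap_fac]

lemma mem_preimage_ptMap (W' : (X.ptSub x).scheme.Opens) (h : ptSubPt X x ∈ W') :
    ptSubPt Y y ∈ ptMap φ y x L.maps_pt ⁻¹ᵁ W' := by
  show ptMap φ y x L.maps_pt (ptSubPt Y y) ∈ W'
  rw [ptMap_ptSubPt]
  exact h

/-- The value of the datum on classes represented over the preimage of a small open. -/
lemma cpt_apply_of_le (M : A.Cat) (i n : ℤ) (W' : (X.ptSub x).scheme.Opens)
    (h : ptSubPt X x ∈ W') (b : T.gp ((Y.ptSub y).res (ptMap φ y x L.maps_pt ⁻¹ᵁ W')) M i n) :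
    (L.cpt M i n).hom (((T.ptι Y y i n (mkIdx Y y _ (mem_preimage_ptMap T φ y x L W' h))).app M).hom b) =
      ((T.ptι X x i n (mkIdx X x W' h)).app M).hom
        ((T.push (X := (Y.ptSub y).res (ptMap φ y x L.maps_pt ⁻¹ᵁ W'))
          (Y := (X.ptSub x).res W') (ptMap φ y x L.maps_pt ∣_ W') M i n i n
          (by rw [relCodim_pieces y x L.codim_eq (mkIdx Y y _ (mem_preimage_ptMap T φ y x L W' h))
            (mkIdx X x W' h)]; ring)
          (by rw [relCodim_pieces y x L.codim_eq (mkIdx Y y _ (mem_preimage_ptMap T φ y x L W' h))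
            (mkIdx X x W' h)]; ring)).hom b) :=
  ptPush_cpt_apply T φ y x L M i n (mkIdx Y y _ (mem_preimage_ptMap T φ y x L W' h))
    (mkIdx X x W' h) (ptMap φ y x L.maps_pt ∣_ W') (ptMap_restrict_fac T φ y x L W') b

include hiso in
theorem cpt_surjective (hU : ptSubPt X x ∈ U) (M : A.Cat) (i n : ℤ) :
    Function.Surjective (L.cpt M i n).hom := by
  intro b'
  obtain ⟨W'₁, β, rfl⟩ := exists_rep T (X.ptSub x) _ i n M b'
  have hmem : ptSubPt X x ∈ W'₁.1 ⊓ U := ⟨ptSubPt_mem X x W'₁, hU⟩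
  have hle : mkIdx X x (W'₁.1 ⊓ U) hmem ≤ W'₁ := (inf_le_left : W'₁.1 ⊓ U ≤ W'₁.1)
  haveI := isIso_restrict_of_le T φ y x L U hiso (W'₁.1 ⊓ U) inf_le_right
  have hrc := relCodim_pieces y x L.codim_eq
    (mkIdx Y y _ (mem_preimage_ptMap T φ y x L (W'₁.1 ⊓ U) hmem)) (mkIdx X x (W'₁.1 ⊓ U) hmem)
  obtain ⟨α, hα⟩ := (push_bijective_of_isIso T
    (P := (Y.ptSub y).res (ptMap φ y x L.maps_pt ⁻¹ᵁ (W'₁.1 ⊓ U)))
    (Q := (X.ptSub x).res (W'₁.1 ⊓ U)) (ptMap φ y x L.maps_pt ∣_ (W'₁.1 ⊓ U)) M i n i n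
    (by rw [hrc]; ring) (by rw [hrc]; ring)).2
    ((idxRes T (X.ptSub x) _ i n M hle).hom β)
  refine ⟨((T.ptι Y y i n (mkIdx Y y _
    (mem_preimage_ptMap T φ y x L (W'₁.1 ⊓ U) hmem))).app M).hom α, ?_⟩
  rw [cpt_apply_of_le T φ y x L M i n (W'₁.1 ⊓ U) hmem α, hα]
  exact ocolimι_idxRes_apply T (X.ptSub x) _ i n M hle β

include hiso in
theorem cpt_injective (hU : ptSubPt X x ∈ U) (M : A.Cat) (i n : ℤ) :
    Function.Injective (L.cpt M i n).hom := by
  rw [injective_iff_map_eq_zero]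
  intro a ha
  obtain ⟨W₁, α, rfl⟩ := exists_rep T (Y.ptSub y) _ i n M a
  let ψ := ptMap φ y x L.maps_pt
  let O₀ : (X.ptSub x).scheme.Opens := ⟨(ψ '' (W₁.1 : Set (Y.ptSub y).scheme)ᶜ)ᶜ,
    (ψ.isClosedMap _ W₁.1.2.isClosed_compl).isOpen_compl⟩
  have hO₀ : ptSubPt X x ∈ O₀ := by
    rintro ⟨z, hz, hzx⟩
    exact ptMap_ne φ y x L.maps_pt L.codim_eq z (fun h => hz (h ▸ ptSubPt_mem Y y W₁)) hzx
  have hmem : ptSubPt X x ∈ O₀ ⊓ U := ⟨hO₀, hU⟩
  have hleW : mkIdx Y y _ (mem_preimage_ptMap T φ y x L (O₀ ⊓ U) hmem) ≤ W₁ := by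
    intro s hs
    by_contra hsW
    exact hs.1 ⟨s, hsW, rfl⟩
  rw [← ocolimι_idxRes_apply T (Y.ptSub y) _ i n M hleW α] at ha ⊢
  rw [cpt_apply_of_le T φ y x L M i n (O₀ ⊓ U) hmem] at ha
  obtain ⟨W'', hle'', hzero⟩ := (ι_eq_zero_iff T (X.ptSub x) _ i n M _ _).1 ha
  -- base change to `W''`
  have hle2 : W''.1 ≤ O₀ ⊓ U := hle''
  haveI := isIso_restrict_of_le T φ y x L U hiso W''.1 (hle2.trans inf_le_right)
  have hmem'' : ptSubPt X x ∈ W''.1 := ptSubPt_mem X x W''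
  have hrc := relCodim_pieces y x L.codim_eq
    (mkIdx Y y _ (mem_preimage_ptMap T φ y x L (O₀ ⊓ U) hmem)) (mkIdx X x (O₀ ⊓ U) hmem)
  have hrc'' := relCodim_pieces y x L.codim_eq
    (mkIdx Y y _ (mem_preimage_ptMap T φ y x L W''.1 hmem'')) (mkIdx X x W''.1 hmem'')
  have hleY : mkIdx Y y _ (mem_preimage_ptMap T φ y x L W''.1 hmem'') ≤
      mkIdx Y y _ (mem_preimage_ptMap T φ y x L (O₀ ⊓ U) hmem) :=
    ψ.preimage_mono hle2
  have hbc := T.push_pull
    (X := (Y.ptSub y).res (ψ ⁻¹ᵁ (O₀ ⊓ U))) (Y := (X.ptSub x).res (O₀ ⊓ U))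
    (X' := (Y.ptSub y).res (ψ ⁻¹ᵁ W''.1)) (Y' := (X.ptSub x).res W''.1)
    (ψ ∣_ (O₀ ⊓ U)) (ψ ∣_ W''.1)
    ((idxDiag (X.ptSub x) _).map (homOfLE hle''))
    ((idxDiag (Y.ptSub y) _).map (homOfLE hleY))
    (isPullback_restrict_restrict ψ hle2) M i n i n
    (by rw [hrc]; ring) (by rw [hrc]; ring) (by rw [hrc'']; ring) (by rw [hrc'']; ring)
  have hbc' := congrArg (fun ρ => ρ.hom ((idxRes T (Y.ptSub y) _ i n M hleW).hom α)) hbc
  simp only [ModuleCat.hom_comp, LinearMap.comp_apply] at hbc'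
  have hz2 : (T.push (X := (Y.ptSub y).res (ψ ⁻¹ᵁ W''.1)) (Y := (X.ptSub x).res W''.1)
      (ψ ∣_ W''.1) M i n i n (by rw [hrc'']; ring) (by rw [hrc'']; ring)).hom
      ((idxRes T (Y.ptSub y) _ i n M hleY).hom ((idxRes T (Y.ptSub y) _ i n M hleW).hom α)) =
      0 := hbc'.symm.trans hzero
  have hz3 := (push_bijective_of_isIso T
    (P := (Y.ptSub y).res (ψ ⁻¹ᵁ W''.1)) (Q := (X.ptSub x).res W''.1) (ψ ∣_ W''.1) M i n i n
    (by rw [hrc'']; ring) (by rw [hrc'']; ring)).1 (hz2.trans (map_zero _).symm)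
  rw [← ocolimι_idxRes_apply T (Y.ptSub y) _ i n M hleY, hz3, map_zero]

include hiso in
theorem cpt_bijective (hU : ptSubPt X x ∈ U) (M : A.Cat) (i n : ℤ) :
    Function.Bijective (L.cpt M i n).hom :=
  ⟨cpt_injective T φ y x L U hiso hU M i n, cpt_surjective T φ y x L U hiso hU M i n⟩

end

end Groth.Agent.Lib.helper27.BMBij
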