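import Mathlib
import Groth.Prelude.Def_BMCoh2
import Groth.Agent.Lib.Helper27.BMClosed

namespace Groth.Agent.Lib.helper27.BMFjRes2
universe u
set_option linter.unusedSectionVars false
set_option linter.style.haveILetI false
open CategoryTheory AlgebraicGeometry Opposite BMCoh Limits TopologicalSpace Topology Order
open Groth.Agent.Lib.helper27.BMBasic Groth.Agent.Lib.helper27.BMTop
  Groth.Agent.Lib.helper27.BMGeom Groth.Agent.Lib.helper27.BMColim
  Groth.Agent.Lib.helper27.BMCodim Groth.Agent.Lib.helper27.BMLift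
  Groth.Agent.Lib.helper27.BMDim Groth.Agent.Lib.helper27.BMVanish
  Groth.Agent.Lib.helper27.BMTopPts Groth.Agent.Lib.helper27.BMHyp
  Groth.Agent.Lib.helper27.BMLocal Groth.Agent.Lib.helper27.BMLoc2
  Groth.Agent.Lib.helper27.BMFjRes Groth.Agent.Lib.helper27.BMResDecomp
  Groth.Agent.Lib.helper27.BMClosed

variable {V : ObjectProperty Scheme.{u}} [BMCoh.IsConstructible V] {R : Type u} [CommRing R]
  {A : BMCoh.Coefs R} (T : BMCoh.PreTheory V R A)

/-- A class on a member `U` of an index family which vanishes on an open subobject whose range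
belongs to the family vanishes in the colimit. -/
lemma ι_eq_zero_of_pull (X : Obj V) (P : X.scheme.Opens → Prop) (M : A.Cat) (i n : ℤ)
    (U : Idx X P) (b : T.gp (X.res U.1) M i n) {Y'' : Obj V} (g'' : Y'' ⟶ X.res U.1)
    (hP : P (g'' ≫ X.resι U.1 U.2.2).hom.opensRange)
    (hd : WeilCoh.dim ((g'' ≫ X.resι U.1 U.2.2).hom.opensRange : Scheme.{u}) =
      WeilCoh.dim X.scheme)
    (hb : (T.pull g'' M i n).hom b = 0) :
    ((T.ocolimι X P i n U).app M).hom b = 0 := by
  let e := X.resι U.1 U.2.2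
  let U'' : X.scheme.Opens := (g'' ≫ e).hom.opensRange
  have hU''le : U'' ≤ U.1 := by
    rintro _ ⟨y, rfl⟩
    exact ((g''.hom y : ↥U.1)).2
  let I'' : Idx X P := ⟨U'', hP, hd⟩
  have hI'' : I'' ≤ U := hU''le
  rw [← ocolimι_idxRes_apply T X _ i n M hI'']
  have : (idxRes T X _ i n M hI'').hom b = 0 := by
    refine pull_resι_opensRange_eq_zero T g'' e U'' rfl hd
      (X.resLE hU''le (hd.trans U.2.2.symm)) ?_ M i n b hb
    exact Hom.ext (Scheme.homOfLE_ι X.scheme hU''le)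
  rw [this, map_zero]

/-- A class `b'` on a member `U'` of the larger family `P'` lifts to the colimit over the
smaller family `P` as soon as it agrees, on a smaller member `O` of `P'`, with a class on an
open subobject whose range is in `P`. -/
lemma exists_preimage_of_pull (X : Obj V) {P P' : X.scheme.Opens → Prop}
    (hPP' : ∀ U, P U → P' U) (M : A.Cat) (i n : ℤ)
    (U' : Idx X P') (b' : T.gp (X.res U'.1) M i n)
    {Y'' : Obj V} (g'' : Y'' ⟶ X) (hP : P g''.hom.opensRange)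
    (hd : WeilCoh.dim (g''.hom.opensRange : Scheme.{u}) = WeilCoh.dim X.scheme)
    (b'' : T.gp Y'' M i n)
    (O : Idx X P') (hO : O ≤ U') (j'' : X.res O.1 ⟶ Y'') (hfac : j'' ≫ g'' = X.resι O.1 O.2.2)
    (hb : (T.pull j'' M i n).hom b'' = (idxRes T X P' i n M hO).hom b') :
    ∃ a, ((T.ocolimMap X hPP' i n).app M).hom a = ((T.ocolimι X P' i n U').app M).hom b' := by
  let U'' : X.scheme.Opens := g''.hom.opensRange
  let I'' : Idx X P := ⟨U'', hP, hd⟩
  have hr : Set.range g''.hom = Set.range (X.resι U'' hd).hom := by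
    rw [range_resι]; rfl
  let θ : Y'' ⟶ X.res U'' := liftHom g'' (X.resι U'' hd) hr.le
  haveI : IsIso θ.hom := isIso_liftHom _ _ hr
  obtain ⟨b₃, hb₃⟩ := (pull_bijective_of_isIso T θ M i n).2 b''
  refine ⟨((T.ocolimι X P i n I'').app M).hom b₃, ?_⟩
  rw [ocolimι_map_apply]
  have hOle : O.1 ≤ U'' := by
    intro y hy
    refine ⟨j''.hom ⟨y, hy⟩, ?_⟩
    have := congrArg (fun φ => φ.hom ⟨y, hy⟩) hfac
    exact this
  have hle : O ≤ (idxIncl X hPP').obj I'' := hOle
  rw [← ocolimι_idxRes_apply T X P' i n M hle, ← ocolimι_idxRes_apply T X P' i n M hO]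
  congr 1
  rw [← hb]
  have hsq : X.resLE hOle (O.2.2.trans hd.symm) = j'' ≫ θ := by
    rw [← cancel_mono (X.resι U'' hd), Category.assoc, liftHom_fac, hfac]
    exact Hom.ext (Scheme.homOfLE_ι X.scheme hOle)
  show (T.pull (X.resLE hOle (O.2.2.trans hd.symm)) M i n).hom b₃ = _
  rw [hsq, pull_comp, ← hb₃]
  rfl


variable (X : Obj V) (M : A.Cat) (j m : ℕ) (i n : ℤ)

/-- Transport of vanishing from a member of `Idx Q` to an open of an open. -/
lemma pull_preimage_eq_zero (Q : Obj V) (W₀ W₁ : Q.scheme.Opens) (hle : W₁ ≤ W₀)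
    (hd₀ : WeilCoh.dim (W₀ : Scheme.{u}) = WeilCoh.dim Q.scheme)
    (hd₁ : WeilCoh.dim (W₁ : Scheme.{u}) = WeilCoh.dim Q.scheme)
    (hdW : WeilCoh.dim ((W₀.ι ⁻¹ᵁ W₁ : (W₀ : Scheme.{u}).Opens) : Scheme.{u}) =
      WeilCoh.dim (Q.res W₀).scheme)
    (k l : ℤ) (β : T.gp (Q.res W₀) M k l)
    (hβ : (T.pull (Q.resLE hle (hd₁.trans hd₀.symm)) M k l).hom β = 0) :
    (T.pull ((Q.res W₀).resι (W₀.ι ⁻¹ᵁ W₁) hdW) M k l).hom β = 0 := by
  have hsub : Set.range ((Q.res W₀).resι (W₀.ι ⁻¹ᵁ W₁) hdW ≫ Q.resι W₀ hd₀).hom ⊆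
      Set.range (Q.resι W₁ hd₁).hom := by
    rw [range_resι]
    rintro _ ⟨y, rfl⟩
    exact y.2
  let θ := liftHom ((Q.res W₀).resι (W₀.ι ⁻¹ᵁ W₁) hdW ≫ Q.resι W₀ hd₀) (Q.resι W₁ hd₁) hsub
  have hθ : θ ≫ Q.resLE hle (hd₁.trans hd₀.symm) = (Q.res W₀).resι (W₀.ι ⁻¹ᵁ W₁) hdW := by
    rw [← cancel_mono (Q.resι W₀ hd₀), Category.assoc]
    have : Q.resLE hle (hd₁.trans hd₀.symm) ≫ Q.resι W₀ hd₀ = Q.resι W₁ hd₁ :=
      Hom.ext (Scheme.homOfLE_ι Q.scheme hle)
    rw [this, liftHom_fac]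
  rw [← hθ, pull_comp]
  show (T.pull θ M k l).hom ((T.pull (Q.resLE hle (hd₁.trans hd₀.symm)) M k l).hom β) = 0
  rw [hβ, map_zero]

theorem fjRes2_injective (hjm : j ≤ j + 1 + m)
    (hZ : ∀ C : Closeds X.scheme,
      WeilCoh.dim (redSub X C).scheme + (j + 1) = WeilCoh.dim X.scheme →
      ∀ c : T.fjGp (redSub X C) m M (i - 2 * ((j : ℤ) + 1)) (n - ((j : ℤ) + 1)), c = 0) :
    Function.Injective ((T.fjRes X hjm i n).app M).hom := by
  rw [injective_iff_map_eq_zero]
  intro a ha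
  obtain ⟨U, b, rfl⟩ := exists_rep T X _ i n M a
  have ha' : ((T.ocolimι X (ContainsFj X j) i n
      ⟨U.1, containsFj_mono X hjm U.1 U.2.1, U.2.2⟩).app M).hom b = 0 :=
    (ocolimι_map_apply T X _ i n M _ U b).symm.trans ha
  obtain ⟨U', hle, hU'⟩ := (ι_eq_zero_iff T X (ContainsFj X j) i n M
    ⟨U.1, containsFj_mono X hjm U.1 U.2.1, U.2.2⟩ b).1 ha'
  have hle' : U'.1 ≤ U.1 := hle
  have hb : (T.pull (X.resLE hle' (U'.2.2.trans U.2.2.symm)) M i n).hom b = 0 := hU'
  by_cases hne : ((U'.1 : Set X.scheme)ᶜ).Nonempty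
  · obtain ⟨C, hCle, hdim, hcod⟩ := exists_closeds X
      ⟨(U'.1 : Set X.scheme)ᶜ, U'.1.2.isClosed_compl⟩ (j + 1) (fun c hc => by
        by_contra hlt
        exact hc (U'.2.1 c (by omega))) hne
    have hFj : ContainsFj X j (U.1 ⊓ C.compl) :=
      containsFj_compl (Nat.lt_succ_self j) hcod (containsFj_mono X hjm U.1 U.2.1)
    have hdO : WeilCoh.dim ((U.1 ⊓ C.compl : X.scheme.Opens) : Scheme.{u}) =
        WeilCoh.dim X.scheme := dim_eq_of_containsFj X j _ hFj
    have hd := hdO.trans U.2.2.symm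
    have hFW : ContainsFj (redSub X C) m (clW X C U.1) :=
      containsFj_clW (k := j + 1) hdim U.2.1
    have hdW : WeilCoh.dim (clW X C U.1 : Scheme.{u}) = WeilCoh.dim (redSub X C).scheme :=
      dim_eq_of_containsFj _ m _ hFW
    have hrc : relCodim (clDecomp X C U.1 hd).Z.scheme (X.res U.1).scheme = ((j + 1 : ℕ) : ℤ) :=
      clDecomp_codim hdim hd U.2.2 hdW
    set D := clDecomp X C U.1 hd with hD
    have hle2 : U.1 ⊓ C.compl ≤ U'.1 := by
      rintro y ⟨-, hyC⟩
      by_contra hyU'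
      exact hyC (hCle hyU')
    have hbD : (T.pull D.j M i n).hom b = 0 := by
      have : D.j = X.resLE hle2 (hdO.trans U'.2.2.symm) ≫
          X.resLE hle' (U'.2.2.trans U.2.2.symm) :=
        Hom.ext (Scheme.homOfLE_homOfLE X.scheme hle2 hle').symm
      rw [this, pull_comp]
      show (T.pull _ M i n).hom ((T.pull (X.resLE hle' (U'.2.2.trans U.2.2.symm)) M i n).hom b) = 0
      rw [hb, map_zero]
    have hi' : i = (i - 2 * ((j : ℤ) + 1)) + 2 * relCodim D.Z.scheme (X.res U.1).scheme := by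
      rw [hrc]; push_cast; ring
    have hn' : n = (n - ((j : ℤ) + 1)) + relCodim D.Z.scheme (X.res U.1).scheme := by
      rw [hrc]; push_cast; ring
    obtain ⟨β, hβ⟩ := ((exact_push_pull' T D M i n _ _ hi' hn') b).1 hbD
    -- the class of β in the groups of `F_m` of the closed part vanishes
    let IQ : Idx (redSub X C) (ContainsFj (redSub X C) m) := ⟨clW X C U.1, hFW, hdW⟩
    haveI := isCofiltered_fj (redSub X C) m
    obtain ⟨IQ', hQle, hQ'⟩ := (ι_eq_zero_iff T (redSub X C) (ContainsFj (redSub X C) m) _ _ M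
      IQ β).1 (hZ C hdim _)
    have hQle' : IQ'.1 ≤ clW X C U.1 := hQle
    let W : D.Z.scheme.Opens := (clW X C U.1).ι ⁻¹ᵁ IQ'.1
    have hFWW : ContainsFj D.Z m W := by
      intro y hy
      apply IQ'.2.1
      have := codim_hom ((redSub X C).resι (clW X C U.1) hdW) y
      exact this ▸ hy
    have hdWW : WeilCoh.dim (W : Scheme.{u}) = WeilCoh.dim D.Z.scheme :=
      dim_eq_of_containsFj D.Z m W hFWW
    have hβW : (T.pull (D.Z.resι W hdWW) M _ _).hom β = 0 :=
      pull_preimage_eq_zero T M (redSub X C) (clW X C U.1) IQ'.1 hQle' hdW IQ'.2.2 hdWW _ _ β hQ'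
    have hdL := dim_locOpen D W
    have hr : Set.range ((X.res U.1).resι _ hdL).hom = (D.i '' (W : Set D.Z.scheme)ᶜ)ᶜ := by
      rw [range_resι]; rfl
    have hb'' : (T.pull ((X.res U.1).resι _ hdL) M i n).hom b = 0 := by
      have := push_loc D W hdWW ((X.res U.1).resι _ hdL) hr T M i n _ _ hi' hn'
      have h2 := congrArg (fun φ => φ.hom β) this
      simp only [ModuleCat.hom_comp, LinearMap.comp_apply] at h2
      rw [← hβ]
      refine h2.trans ?_
      rw [hβW, map_zero]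
    have hFF : ContainsFj X (j + 1 + m)
        (((X.res U.1).resι _ hdL) ≫ X.resι U.1 U.2.2).hom.opensRange := by
      intro y hy
      have hyU : y ∈ U.1 := U.2.1 y hy
      have hmem : (⟨y, hyU⟩ : ↥U.1) ∈ (locOpen D W : Set (X.res U.1).scheme) := by
        by_cases hyC : y ∈ (C : Set X.scheme)
        · rw [← range_redSubι] at hyC
          obtain ⟨z, hz⟩ := hyC
          have hzU : z ∈ clW X C U.1 := by
            show redSubι X C z ∈ U.1
            rw [hz]; exact hyU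
          have hzQ : z ∈ IQ'.1 := by
            apply IQ'.2.1
            have := codim_redSub X C (j + 1) hdim z
            rw [hz] at this
            omega
          have hzz : (⟨z, hzU⟩ : ↥(clW X C U.1)) ∈ W := hzQ
          have h1 := mem_locOpen_of_mem D W ⟨z, hzU⟩ hzz
          have h2 : D.i ⟨z, hzU⟩ = (⟨y, hyU⟩ : ↥U.1) := by
            apply Subtype.ext
            show ((redSubι X C ∣_ U.1) ⟨z, hzU⟩ : ↥U.1).1 = y
            rw [morphismRestrict_base_coe]
            exact hz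
          rw [h2] at h1
          exact h1
        · apply range_j_subset_locOpen D W
          rw [range_resLE]
          exact ⟨hyU, hyC⟩
      exact ⟨⟨⟨y, hyU⟩, hmem⟩, rfl⟩
    exact ι_eq_zero_of_pull T X _ M i n U b ((X.res U.1).resι _ hdL) hFF
      (dim_eq_of_containsFj X _ _ hFF) hb''
  · rw [Set.not_nonempty_iff_eq_empty, Set.compl_empty_iff] at hne
    have hF : ContainsFj X (j + 1 + m) U'.1 := fun y _ => by
      show y ∈ (U'.1 : Set X.scheme)
      rw [hne]; trivial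
    let I'' : Idx X (ContainsFj X (j + 1 + m)) := ⟨U'.1, hF, U'.2.2⟩
    have hI'' : I'' ≤ U := hle'
    rw [← ocolimι_idxRes_apply T X _ i n M hI'']
    rw [show (idxRes T X _ i n M hI'').hom b = 0 from hb, map_zero]


theorem fjRes2_surjective (hjm : j ≤ j + 1 + m)
    (hZ : ∀ C : Closeds X.scheme,
      WeilCoh.dim (redSub X C).scheme + (j + 1) = WeilCoh.dim X.scheme →
      ∀ c : T.fjGp (redSub X C) m M (i + 1 - 2 * ((j : ℤ) + 1)) (n - ((j : ℤ) + 1)), c = 0) :
    Function.Surjective ((T.fjRes X hjm i n).app M).hom := by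
  intro a'
  obtain ⟨U', b', rfl⟩ := exists_rep T X (ContainsFj X j) i n M a'
  by_cases hne : ((U'.1 : Set X.scheme)ᶜ).Nonempty
  · obtain ⟨C, hCle, hdim, hcod⟩ := exists_closeds X
      ⟨(U'.1 : Set X.scheme)ᶜ, U'.1.2.isClosed_compl⟩ (j + 1) (fun c hc => by
        by_contra hlt
        exact hc (U'.2.1 c (by omega))) hne
    have hFtop : ContainsFj X (j + 1 + m) ⊤ := fun _ _ => trivial
    have hdtop : WeilCoh.dim ((⊤ : X.scheme.Opens) : Scheme.{u}) = WeilCoh.dim X.scheme :=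
      dim_top X.scheme
    have hFj : ContainsFj X j (⊤ ⊓ C.compl) :=
      containsFj_compl (Nat.lt_succ_self j) hcod (fun _ _ => trivial)
    have hdO : WeilCoh.dim ((⊤ ⊓ C.compl : X.scheme.Opens) : Scheme.{u}) =
        WeilCoh.dim X.scheme := dim_eq_of_containsFj X j _ hFj
    have hd := hdO.trans hdtop.symm
    have hFW : ContainsFj (redSub X C) m (clW X C ⊤) :=
      containsFj_clW (k := j + 1) hdim hFtop
    have hdW : WeilCoh.dim (clW X C ⊤ : Scheme.{u}) = WeilCoh.dim (redSub X C).scheme :=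
      dim_eq_of_containsFj _ m _ hFW
    have hrc : relCodim (clDecomp X C ⊤ hd).Z.scheme (X.res ⊤).scheme = ((j + 1 : ℕ) : ℤ) :=
      clDecomp_codim hdim hd hdtop hdW
    set D := clDecomp X C ⊤ hd with hD
    have hrc' : D.codim = ((j + 1 : ℕ) : ℤ) := hrc
    have hle2 : ⊤ ⊓ C.compl ≤ U'.1 := by
      rintro y ⟨-, hyC⟩
      by_contra hyU'
      exact hyC (hCle hyU')
    let O : Idx X (ContainsFj X j) := ⟨⊤ ⊓ C.compl, hFj, hdO⟩
    have hO : O ≤ U' := hle2
    let b₀ : T.gp D.U M i n := (idxRes T X (ContainsFj X j) i n M hO).hom b'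
    have hi' : i + 1 - 2 * ((j : ℤ) + 1) = i + 1 - 2 * D.codim := by
      rw [hrc']; push_cast; ring
    have hn' : n - ((j : ℤ) + 1) = n - D.codim := by
      rw [hrc']; push_cast; ring
    let IQ : Idx (redSub X C) (ContainsFj (redSub X C) m) := ⟨clW X C ⊤, hFW, hdW⟩
    haveI := isCofiltered_fj (redSub X C) m
    obtain ⟨IQ', hQle, hQ'⟩ := (ι_eq_zero_iff T (redSub X C) (ContainsFj (redSub X C) m) _ _ M
      IQ ((T.res D M i n _ _ hi' hn').hom b₀)).1 (hZ C hdim _)
    have hQle' : IQ'.1 ≤ clW X C ⊤ := hQle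
    let W : D.Z.scheme.Opens := (clW X C ⊤).ι ⁻¹ᵁ IQ'.1
    have hFWW : ContainsFj D.Z m W := by
      intro y hy
      apply IQ'.2.1
      have := codim_hom ((redSub X C).resι (clW X C ⊤) hdW) y
      exact this ▸ hy
    have hdWW : WeilCoh.dim (W : Scheme.{u}) = WeilCoh.dim D.Z.scheme :=
      dim_eq_of_containsFj D.Z m W hFWW
    have hγW : (T.pull (D.Z.resι W hdWW) M _ _).hom ((T.res D M i n _ _ hi' hn').hom b₀) = 0 :=
      pull_preimage_eq_zero T M (redSub X C) (clW X C ⊤) IQ'.1 hQle' hdW IQ'.2.2 hdWW _ _ _ hQ'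
    have hdL := dim_locOpen D W
    have hr : Set.range ((X.res ⊤).resι _ hdL).hom = (D.i '' (W : Set D.Z.scheme)ᶜ)ᶜ := by
      rw [range_resι]; rfl
    have h1 := res_loc D W hdWW ((X.res ⊤).resι _ hdL) hr T M i n _ _ hi' hn'
    have h2 := congrArg (fun φ => φ.hom b₀) h1
    simp only [ModuleCat.hom_comp, LinearMap.comp_apply] at h2
    rw [hγW] at h2
    obtain ⟨b'', hb''⟩ := ((T.exact_pull_res (locDecomp D W ((X.res ⊤).resι _ hdL) hr) M i n _ _
      (by rw [locDecomp_codim D W hdWW]; exact hi')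
      (by rw [locDecomp_codim D W hdWW]; exact hn')) b₀).1 h2.symm
    have hFF : ContainsFj X (j + 1 + m)
        (((X.res ⊤).resι _ hdL) ≫ X.resι ⊤ hdtop).hom.opensRange := by
      intro y hy
      have hyU : y ∈ (⊤ : X.scheme.Opens) := trivial
      have hmem : (⟨y, hyU⟩ : ↥(⊤ : X.scheme.Opens)) ∈
          (locOpen D W : Set (X.res ⊤).scheme) := by
        by_cases hyC : y ∈ (C : Set X.scheme)
        · rw [← range_redSubι] at hyC
          obtain ⟨z, hz⟩ := hyC
          have hzU : z ∈ clW X C ⊤ := trivial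
          have hzQ : z ∈ IQ'.1 := by
            apply IQ'.2.1
            have := codim_redSub X C (j + 1) hdim z
            rw [hz] at this
            omega
          have hzz : (⟨z, hzU⟩ : ↥(clW X C ⊤)) ∈ W := hzQ
          have h1 := mem_locOpen_of_mem D W ⟨z, hzU⟩ hzz
          have h2 : D.i ⟨z, hzU⟩ = (⟨y, hyU⟩ : ↥(⊤ : X.scheme.Opens)) := by
            apply Subtype.ext
            show ((redSubι X C ∣_ ⊤) ⟨z, hzU⟩ : ↥(⊤ : X.scheme.Opens)).1 = y
            rw [morphismRestrict_base_coe]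
            exact hz
          rw [h2] at h1
          exact h1
        · apply range_j_subset_locOpen D W
          rw [range_resLE]
          exact ⟨hyU, hyC⟩
      exact ⟨⟨⟨y, hyU⟩, hmem⟩, rfl⟩
    refine exists_preimage_of_pull T X (containsFj_mono X hjm) M i n U' b'
      (((X.res ⊤).resι _ hdL) ≫ X.resι ⊤ hdtop) hFF (dim_eq_of_containsFj X _ _ hFF) b'' O hO
      (locJ D W ((X.res ⊤).resι _ hdL) hr) ?_ hb''
    rw [← Category.assoc, locJ_fac]
    exact Hom.ext (Scheme.homOfLE_ι X.scheme (inf_le_left : ⊤ ⊓ C.compl ≤ ⊤))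
  · rw [Set.not_nonempty_iff_eq_empty, Set.compl_empty_iff] at hne
    have hF : ContainsFj X (j + 1 + m) U'.1 := fun y _ => by
      show y ∈ (U'.1 : Set X.scheme)
      rw [hne]; trivial
    refine ⟨((T.ocolimι X (ContainsFj X (j + 1 + m)) i n ⟨U'.1, hF, U'.2.2⟩).app M).hom b', ?_⟩
    rw [ocolimι_map_apply]
    rfl

theorem fjRes2_bijective (hjm : j ≤ j + 1 + m)
    (h0 : ∀ C : Closeds X.scheme,
      WeilCoh.dim (redSub X C).scheme + (j + 1) = WeilCoh.dim X.scheme →
      ∀ c : T.fjGp (redSub X C) m M (i - 2 * ((j : ℤ) + 1)) (n - ((j : ℤ) + 1)), c = 0)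
    (h1 : ∀ C : Closeds X.scheme,
      WeilCoh.dim (redSub X C).scheme + (j + 1) = WeilCoh.dim X.scheme →
      ∀ c : T.fjGp (redSub X C) m M (i + 1 - 2 * ((j : ℤ) + 1)) (n - ((j : ℤ) + 1)), c = 0) :
    Function.Bijective ((T.fjRes X hjm i n).app M).hom :=
  ⟨fjRes2_injective T X M j m i n hjm h0, fjRes2_surjective T X M j m i n hjm h1⟩

end Groth.Agent.Lib.helper27.BMFjRes2
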