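import Mathlib
import Groth.Prelude.Def_BMCoh2
import Groth.Agent.Lib.Helper27.BMFjRes

namespace Groth.Agent.Lib.helper27.BMFjVanish
universe u
set_option linter.unusedSectionVars false
set_option linter.style.haveILetI false
open CategoryTheory AlgebraicGeometry Opposite BMCoh Limits TopologicalSpace Topology Order
open Groth.Agent.Lib.helper27.BMBasic Groth.Agent.Lib.helper27.BMTop
  Groth.Agent.Lib.helper27.BMGeom Groth.Agent.Lib.helper27.BMColim
  Groth.Agent.Lib.helper27.BMCodim Groth.Agent.Lib.helper27.BMLift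
  Groth.Agent.Lib.helper27.BMDim Groth.Agent.Lib.helper27.BMVanish
  Groth.Agent.Lib.helper27.BMTopPts Groth.Agent.Lib.helper27.BMHyp
  Groth.Agent.Lib.helper27.BMLocal Groth.Agent.Lib.helper27.BMLoc2
  Groth.Agent.Lib.helper27.BMFjRes

variable {V : ObjectProperty Scheme.{u}} [BMCoh.IsConstructible V] {R : Type u} [CommRing R]
  {A : BMCoh.Coefs R} (T : BMCoh.PreTheory V R A)

/-- The groups of `F_0 X` vanish if the groups of the points of codimension zero do. -/
theorem fjGp_zero_eq_zero (X : Obj V) [IsReduced X.scheme] (M : A.Cat) (i n : ℤ)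
    (hpt : ∀ x : X.scheme, WeilCoh.codim X.scheme x = 0 → ∀ c : T.ptGp X x M i n, c = 0)
    (a : T.fjGp X 0 M i n) : a = 0 := by
  obtain ⟨U, b, rfl⟩ := exists_rep T X (ContainsFj X 0) i n M a
  by_cases hX : Nonempty X.scheme
  · let e : X.res U.1 ⟶ X := X.resι U.1 U.2.2
    have hcod : ∀ z : (X.res U.1).scheme,
        WeilCoh.pdim (X.res U.1).scheme z = WeilCoh.dim (X.res U.1).scheme →
          WeilCoh.codim X.scheme (e.hom z) = 0 := by
      intro z hz
      unfold WeilCoh.codim
      rw [← pdim_hom e z, hz]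
      have : WeilCoh.dim (X.res U.1).scheme = WeilCoh.dim X.scheme := U.2.2
      omega
    obtain ⟨W, hW, hβ⟩ := exists_open_top_points T (X.res U.1) M i n
      (fun z hz => ptHyp_of_ptGp T e (X.res U.1) (𝟙 _) z M i n (hpt _ (hcod z hz))) b
    obtain ⟨η, hη, -⟩ := exists_pdim_eq_dim X
    have hηU : η ∈ U.1 := U.2.1 η (by unfold WeilCoh.codim; omega)
    have htop : ∀ y : X.scheme, WeilCoh.codim X.scheme y = 0 → ∀ hy : y ∈ U.1,
        (⟨y, hy⟩ : (X.res U.1).scheme) ∈ W := by
      intro y hy hyU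
      apply hW
      have h1 := pdim_hom e (⟨y, hyU⟩ : (X.res U.1).scheme)
      have h2 : e.hom (⟨y, hyU⟩ : (X.res U.1).scheme) = y := rfl
      rw [h2] at h1
      rw [h1]
      have h3 : WeilCoh.dim (X.res U.1).scheme = WeilCoh.dim X.scheme := U.2.2
      have h4 := pdim_le_dim X y
      unfold WeilCoh.codim at hy
      omega
    have hηW := htop η (by unfold WeilCoh.codim; omega) hηU
    rcases hβ with rfl | ⟨hd, hβ⟩
    · exact absurd hηW (fun h => h)
    · let g'' : (X.res U.1).res W ⟶ X.res U.1 := (X.res U.1).resι W hd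
      let U'' : X.scheme.Opens := (g'' ≫ e).hom.opensRange
      have hU''le : U'' ≤ U.1 := by
        rintro _ ⟨y, rfl⟩
        exact ((g''.hom y : ↥U.1)).2
      have hF : ContainsFj X 0 U'' := by
        intro y hy
        have hyU : y ∈ U.1 := U.2.1 y hy
        exact ⟨⟨⟨y, hyU⟩, htop y (by omega) hyU⟩, rfl⟩
      have hd'' := dim_eq_of_containsFj X 0 U'' hF
      let I'' : Idx X (ContainsFj X 0) := ⟨U'', hF, hd''⟩
      have hI'' : I'' ≤ U := hU''le
      rw [← ocolimι_idxRes_apply T X _ i n M hI'']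
      have : (idxRes T X _ i n M hI'').hom b = 0 := by
        refine pull_resι_opensRange_eq_zero T g'' e U'' rfl hd''
          (X.resLE hU''le (hd''.trans U.2.2.symm)) ?_ M i n b hβ
        exact Hom.ext (Scheme.homOfLE_ι X.scheme hU''le)
      rw [this, map_zero]
  · rw [not_nonempty_iff] at hX
    haveI : IsEmpty (X.res U.1).scheme := ⟨fun x => hX.elim (U.1.ι x)⟩
    rw [gp_eq_zero_of_isEmpty T (X.res U.1) M i n b, map_zero]

/-- Vanishing of the groups of `F_j X` from the vanishing of the groups of points in high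
degrees. -/
theorem fjGp_eq_zero (M : A.Cat) (c : ℕ)
    (hc : ∀ (Y : Obj V) (y : Y.scheme) (i n : ℤ), (WeilCoh.pdim Y.scheme y : ℤ) + c < i →
      ∀ a : T.ptGp Y y M i n, a = 0)
    (X : Obj V) [IsReduced X.scheme] (j : ℕ) :
    ∀ (i n : ℤ), (WeilCoh.dim X.scheme : ℤ) + j + c < i → ∀ a : T.fjGp X j M i n, a = 0 := by
  induction j with
  | zero =>
    intro i n hi a
    refine fjGp_zero_eq_zero T X M i n (fun x hx => hc X x i n ?_) a
    have := pdim_le_dim X x
    push_cast at hi
    omega
  | succ j ih =>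
    intro i n hi a
    have hinj := fjRes_injective T X M j i n (fun x hx => hc X x _ _ (by
      have h1 := pdim_le_dim X x
      unfold WeilCoh.codim at hx
      push_cast at hi
      omega))
    apply hinj
    rw [map_zero]
    exact ih i n (by push_cast at hi ⊢; omega) _

end Groth.Agent.Lib.helper27.BMFjVanish
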