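import Mathlib
import Groth.Prelude.Def_BMCoh3
import Groth.Agent.Lib.Helper27.BMFjVanish
import Groth.Agent.Lib.Helper27.BMZero

namespace Groth.Agent.Lib.helper27.BMFjVanish2
universe u
set_option linter.unusedSectionVars false
set_option linter.style.haveILetI false
open CategoryTheory AlgebraicGeometry Opposite BMCoh Limits TopologicalSpace Topology Order
open Groth.Agent.Lib.helper27.BMBasic Groth.Agent.Lib.helper27.BMTop
  Groth.Agent.Lib.helper27.BMGeom Groth.Agent.Lib.helper27.BMColim
  Groth.Agent.Lib.helper27.BMDim Groth.Agent.Lib.helper27.BMFjRes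
  Groth.Agent.Lib.helper27.BMFjVanish

variable {V : ObjectProperty Scheme.{u}} [BMCoh.IsConstructible V] {R : Type u} [CommRing R]
  {A : BMCoh.Coefs R} (T : BMCoh.PreTheory V R A)

/-- Vanishing of the groups of `F_j X` from the vanishing of the groups of the points of `X` in
high degrees. -/
theorem fjGp_eq_zero' (M : A.Cat) (c : ℕ) (X : Obj V) [IsReduced X.scheme]
    (hc : ∀ (y : X.scheme) (i n : ℤ), (WeilCoh.pdim X.scheme y : ℤ) + c < i →
      ∀ a : T.ptGp X y M i n, a = 0) (j : ℕ) :
    ∀ (i n : ℤ), (WeilCoh.dim X.scheme : ℤ) + j + c < i → ∀ a : T.fjGp X j M i n, a = 0 := by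
  induction j with
  | zero =>
    intro i n hi a
    refine fjGp_zero_eq_zero T X M i n (fun x hx => hc x i n ?_) a
    have := pdim_le_dim X x
    push_cast at hi
    omega
  | succ j ih =>
    intro i n hi a
    have hinj := fjRes_injective T X M j i n (fun x hx => hc x _ _ (by
      have h1 := pdim_le_dim X x
      unfold WeilCoh.codim at hx
      push_cast at hi
      omega))
    apply hinj
    rw [map_zero]
    exact ih i n (by push_cast at hi ⊢; omega) _

end Groth.Agent.Lib.helper27.BMFjVanish2
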