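import Mathlib
import Groth.Prelude.Def_BMCoh4
import Groth.Prelude.Def_BMCoh5
import Groth.Agent.Lib.Helper27.BMNorm3

universe u
set_option linter.unusedSectionVars false
set_option linter.style.haveILetI false
open CategoryTheory AlgebraicGeometry Opposite BMCoh Limits TopologicalSpace Topology Order
open Groth.Agent.Lib.helper27.BMBasic Groth.Agent.Lib.helper27.BMTop
  Groth.Agent.Lib.helper27.BMGeom Groth.Agent.Lib.helper27.BMColim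
  Groth.Agent.Lib.helper27.BMCodim Groth.Agent.Lib.helper27.BMLift
  Groth.Agent.Lib.helper27.BMDim Groth.Agent.Lib.helper27.BMVanish
  Groth.Agent.Lib.helper27.BMTopPts Groth.Agent.Lib.helper27.BMHyp
  Groth.Agent.Lib.helper27.BMPiece Groth.Agent.Lib.helper27.BMResDecomp
  Groth.Agent.Lib.helper27.BMResEval Groth.Agent.Lib.helper27.BMClosed
  Groth.Agent.Lib.helper27.BMSigma Groth.Agent.Lib.helper27.BMSigma2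
  Groth.Agent.Lib.helper27.BMSigmaW
  Groth.Agent.Lib.helper27.BMLevel Groth.Agent.Lib.helper27.BMPtPush
  Groth.Agent.Lib.helper27.BMNorm1 Groth.Agent.Lib.helper27.BMNorm2
  Groth.Agent.Lib.helper27.BMNorm3

namespace Groth.Agent.Lib.helper27.BMNorm4

variable {V : ObjectProperty Scheme.{u}} [BMCoh.IsConstructible V] {R : Type u} [CommRing R]
  {A : BMCoh.Coefs R}

lemma pull_resLE_rfl (T : BMCoh.PreTheory V R A) (X : Obj V) (U : X.scheme.Opens)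
    (hd : WeilCoh.dim (U : Scheme.{u}) = WeilCoh.dim (U : Scheme.{u})) (M : A.Cat) (i n : ℤ)
    (z : T.gp (X.res U) M i n) : (T.pull (X.resLE (le_refl U) hd) M i n).hom z = z := by
  rw [resLE_rfl, pull_id]
  rfl

end Groth.Agent.Lib.helper27.BMNorm4

namespace Groth.Agent.Lib.helper27.BMNorm3
open Groth.Agent.Lib.helper27.BMNorm4

variable {V : ObjectProperty Scheme.{u}} [BMCoh.IsConstructible V] {R : Type u} [CommRing R]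
  {A : BMCoh.Coefs R}

section caseB
variable {Y X : Obj V} {φ : Y.scheme ⟶ X.scheme} [IsProper φ]
  {q : ℕ} {w : X.cdPt q} {η : Y.cdPt 0} {x : X.cdPt (q + 1)} {N : X.scheme.Opens}
  {Tx : Finset (Y.cdPt (0 + 1))} (H : CaseB φ w η x N Tx) (T : BMCoh.PreTheory V R A)
include H

/-- The inclusion of the piece of the closure of `y` into the reduced closed part. -/
noncomputable abbrev CaseB.g (s : {y // y ∈ Tx}) :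
    (Y.ptSub s.1.1).res (pieceW Y s.1.1 (φ ⁻¹ᵁ N)) ⟶ H.W.Z :=
  wG Y Tx (φ ⁻¹ᵁ N) H.hF0 H.hSY H.hdisj H.hTne s.1 s.2

lemma CaseB.g_fac (s : {y // y ∈ Tx}) :
    ((H.g s).hom ≫ H.u) ≫ (pieceW X x.1 N).ι ≫ X.ptSubι x.1 =
      (pieceW Y s.1.1 (φ ⁻¹ᵁ N)).ι ≫ Y.ptSubι s.1.1 ≫ φ := by
  have e1 : (pieceW X x.1 N).ι ≫ X.ptSubι x.1 = (X.ptSubι x.1 ∣_ N) ≫ N.ι :=
    (morphismRestrict_ι _ _).symm
  have e2 : (pieceW Y s.1.1 (φ ⁻¹ᵁ N)).ι ≫ Y.ptSubι s.1.1 =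
      (Y.ptSubι s.1.1 ∣_ (φ ⁻¹ᵁ N)) ≫ (φ ⁻¹ᵁ N).ι := (morphismRestrict_ι _ _).symm
  have e3 : (φ ∣_ N) ≫ N.ι = (φ ⁻¹ᵁ N).ι ≫ φ := morphismRestrict_ι _ _
  have e4 : (H.g s).hom ≫ H.W.i = Y.ptSubι s.1.1 ∣_ (φ ⁻¹ᵁ N) :=
    wG_fac Y Tx (φ ⁻¹ᵁ N) H.hF0 H.hSY H.hdisj H.hTne s.1 s.2
  calc ((H.g s).hom ≫ H.u) ≫ (pieceW X x.1 N).ι ≫ X.ptSubι x.1
      = ((H.g s).hom ≫ H.u) ≫ (X.ptSubι x.1 ∣_ N) ≫ N.ι := by rw [e1]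
    _ = (H.g s).hom ≫ (H.u ≫ H.D.i) ≫ N.ι := by simp only [Category.assoc]
    _ = (H.g s).hom ≫ (H.W.i ≫ (φ ∣_ N)) ≫ N.ι := by rw [H.u_fac]
    _ = ((H.g s).hom ≫ H.W.i) ≫ (φ ∣_ N) ≫ N.ι := by simp only [Category.assoc]
    _ = (Y.ptSubι s.1.1 ∣_ (φ ⁻¹ᵁ N)) ≫ (φ ⁻¹ᵁ N).ι ≫ φ := by rw [e4, e3]
    _ = ((Y.ptSubι s.1.1 ∣_ (φ ⁻¹ᵁ N)) ≫ (φ ⁻¹ᵁ N).ι) ≫ φ := (Category.assoc _ _ _).symm
    _ = ((pieceW Y s.1.1 (φ ⁻¹ᵁ N)).ι ≫ Y.ptSubι s.1.1) ≫ φ := by rw [e2]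
    _ = _ := Category.assoc _ _ _

/-- The core computation over a good neighbourhood. -/
theorem CaseB.core [T.ResPushClosed] (Q : T.ResData X q) (Q' : T.ResData Y 0)
    (G : ∀ s : {y // y ∈ Tx}, T.PtPush φ s.1.1 x.1) (M : A.Cat) (i₁ n₁ i₂ n₂ i₃ n₃ : ℤ)
    (h13 : i₁ = i₃ + 2 * (q : ℤ)) (h13' : n₁ = n₃ + (q : ℤ))
    (h2 : i₂ = i₁ + 1 - 2 * ((q : ℤ) + 1)) (h2' : n₂ = n₁ - ((q : ℤ) + 1))
    (h4 : i₂ = i₃ + 1 - 2 * (((0 : ℕ) : ℤ) + 1)) (h4' : n₂ = n₃ - (((0 : ℕ) : ℤ) + 1))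
    (c : T.gp (Y.res (φ ⁻¹ᵁ (openPart X x.1 N))) M i₃ n₃) :
    (Q.cpt x M i₁ n₁ i₂ n₂ h2 h2').hom
      (((T.fjι X q i₁ n₁ (sY' X (openPart X x.1 N) H.hFO)).app M).hom
        ((T.push (X := Y.res (φ ⁻¹ᵁ (openPart X x.1 N))) (Y := X.res (openPart X x.1 N))
          (φ ∣_ (openPart X x.1 N)) M i₃ n₃ i₁ n₁
          (by rw [H.rcO]; exact h13) (by rw [H.rcO]; exact h13')).hom c)) =
    ∑ s : {y // y ∈ Tx}, ((G s).cpt M i₂ n₂).hom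
      ((Q'.cpt s.1 M i₃ n₃ i₂ n₂ h4 h4').hom
        (((T.fjι Y 0 i₃ n₃ (sY' Y (φ ⁻¹ᵁ (openPart X x.1 N)) H.hFOY)).app M).hom c)) := by
  classical
  have s1 := resData_cpt_apply T Q x M i₁ n₁ i₂ n₂ h2 h2' N H.hxN H.hFN
    (sY' X (openPart X x.1 N) H.hFO) le_rfl
    ((T.push (X := Y.res (φ ⁻¹ᵁ (openPart X x.1 N))) (Y := X.res (openPart X x.1 N))
          (φ ∣_ (openPart X x.1 N)) M i₃ n₃ i₁ n₁
          (by rw [H.rcO]; exact h13) (by rw [H.rcO]; exact h13')).hom c)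
  rw [pull_resLE_rfl] at s1
  rw [s1, H.res_formula T M i₁ n₁ i₂ n₂ i₃ n₃ h13 h13' h2 h2' h4 h4' c]
  have hγ := wG_eq_sum Y Tx (φ ⁻¹ᵁ N) H.hF0 H.hSY H.hdisj T H.hTne M i₂ n₂
    ((T.res H.W M i₃ n₃ i₂ n₂ (by rw [H.W_codim]; exact h4)
        (by rw [H.W_codim]; exact h4')).hom ((T.pull H.gU M i₃ n₃).hom c))
  conv_lhs => rw [hγ]
  rw [map_sum, map_sum]
  refine Finset.sum_congr rfl (fun s _ => ?_)
  -- the term of `s`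
  have t3 : ((T.fjι Y 0 i₃ n₃ (wU Y Tx (φ ⁻¹ᵁ N) H.hF0)).app M).hom
      ((T.pull H.gU M i₃ n₃).hom c) =
      ((T.fjι Y 0 i₃ n₃ (sY' Y (φ ⁻¹ᵁ (openPart X x.1 N)) H.hFOY)).app M).hom c :=
    ocolimι_idxRes_apply T Y (ContainsFj Y 0) i₃ n₃ M
      (U := sY' Y (φ ⁻¹ᵁ (openPart X x.1 N)) H.hFOY) (W := wU Y Tx (φ ⁻¹ᵁ N) H.hF0) H.hleU c
  have t2 := sigmaW_res Y Tx (φ ⁻¹ᵁ N) H.hF0 H.hSY H.hdisj T H.hTne Q' s.1 s.2 M i₃ n₃ i₂ n₂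
    h4 h4' ((T.pull H.gU M i₃ n₃).hom c)
  have hrc1 : relCodim ((Y.ptSub s.1.1).res (pieceW Y s.1.1 (φ ⁻¹ᵁ N))).scheme
      H.W.Z.scheme = 0 := relCodim_eq_zero (H.g s).dim_eq
  have hrc2 : relCodim ((Y.ptSub s.1.1).res (pieceW Y s.1.1 (φ ⁻¹ᵁ N))).scheme
      H.D.Z.scheme = 0 := relCodim_pieces s.1.1 x.1 (G s).codim_eq
    (pieceIdx Y s.1.1 (φ ⁻¹ᵁ N) (H.hSY s.1 s.2)) (pieceIdx X x.1 N H.hxN)
  have t1 := ptPush_cpt_apply T φ s.1.1 x.1 (G s) M i₂ n₂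
    (pieceIdx Y s.1.1 (φ ⁻¹ᵁ N) (H.hSY s.1 s.2)) (pieceIdx X x.1 N H.hxN)
    ((H.g s).hom ≫ H.u) (H.g_fac s)
    ((T.pull (H.g s) M i₂ n₂).hom ((T.res H.W M i₃ n₃ i₂ n₂ (by rw [H.W_codim]; exact h4)
        (by rw [H.W_codim]; exact h4')).hom ((T.pull H.gU M i₃ n₃).hom c)))
  rw [← t3, t2, t1]
  congr 1
  have c1 := T.push_comp (X := (Y.ptSub s.1.1).res (pieceW Y s.1.1 (φ ⁻¹ᵁ N)))
    (Y := H.W.Z) (Z := H.D.Z) (H.g s).hom H.u M i₂ n₂ i₂ n₂ i₂ n₂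
    (by rw [hrc1]; ring) (by rw [hrc1]; ring)
    (by rw [H.rcWD]; ring) (by rw [H.rcWD]; ring)
    (by rw [hrc2]; ring) (by rw [hrc2]; ring)
  exact LinearMap.congr_fun (congrArg ModuleCat.Hom.hom c1) _

end caseB

end Groth.Agent.Lib.helper27.BMNorm3
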