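import Mathlib
import Groth.Prelude.Def_BMCoh4
import Groth.Prelude.Def_BMCoh5
import Groth.Agent.Lib.Helper27.BMNorm4

universe u
set_option linter.unusedSectionVars false
set_option linter.style.haveILetI false
open CategoryTheory AlgebraicGeometry Opposite BMCoh Limits TopologicalSpace Topology Order
open Groth.Agent.Lib.helper27.BMBasic Groth.Agent.Lib.helper27.BMTop
  Groth.Agent.Lib.helper27.BMGeom Groth.Agent.Lib.helper27.BMColim
  Groth.Agent.Lib.helper27.BMCodim Groth.Agent.Lib.helper27.BMLift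
  Groth.Agent.Lib.helper27.BMDim Groth.Agent.Lib.helper27.BMVanish
  Groth.Agent.Lib.helper27.BMTopPts Groth.Agent.Lib.helper27.BMHyp
  Groth.Agent.Lib.helper27.BMPiece Groth.Agent.Lib.helper27.BMResDecomp
  Groth.Agent.Lib.helper27.BMResEval Groth.Agent.Lib.helper27.BMClosed
  Groth.Agent.Lib.helper27.BMSigma Groth.Agent.Lib.helper27.BMSigma2
  Groth.Agent.Lib.helper27.BMSigmaW
  Groth.Agent.Lib.helper27.BMLevel Groth.Agent.Lib.helper27.BMPtPush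
  Groth.Agent.Lib.helper27.BMNorm1 Groth.Agent.Lib.helper27.BMNorm2
  Groth.Agent.Lib.helper27.BMNorm3 Groth.Agent.Lib.helper27.BMNorm4

namespace Groth.Agent.Lib.helper27.BMNorm5

variable {V : ObjectProperty Scheme.{u}} [BMCoh.IsConstructible V] {R : Type u} [CommRing R]
  {A : BMCoh.Coefs R} (T : BMCoh.PreTheory V R A)

/-- The components of `famTot`. -/
theorem famTot_apply {Y X : Obj V} {φ : Y.scheme ⟶ X.scheme} [IsProper φ] {j k : ℕ}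
    (t : Y.cdPt j → X.cdPt k) (F : ∀ y : Y.cdPt j, T.PtPush φ y.1 (t y).1) (M : A.Cat)
    (i n : ℤ) (x : X.cdPt k) (Tx : Finset (Y.cdPt j)) (hTx : ∀ y, y ∈ Tx ↔ t y = x)
    (G : ∀ s : {y // y ∈ Tx}, T.PtPush φ s.1.1 x.1)
    (ξ : DirectSum (Y.cdPt j) (fun y => T.ptGp Y y.1 M i n)) :
    ((PreTheory.PtPush.famTot t F M i n).hom ξ :
        DirectSum (X.cdPt k) (fun z => T.ptGp X z.1 M i n)) x =
      ∑ s : {y // y ∈ Tx}, ((G s).cpt M i n).hom (ξ s.1) := by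
  classical
  induction ξ using DirectSum.induction_on with
  | zero =>
    rw [map_zero]
    simp only [DirectSum.zero_apply, map_zero, Finset.sum_const_zero]
  | of y v =>
    have h1 := PreTheory.PtPush.famTot_lof t F M i n y v
    rw [DirectSum.lof_eq_of, DirectSum.lof_eq_of] at h1
    rw [h1]
    by_cases h : t y = x
    · subst h
      rw [DirectSum.of_eq_same]
      rw [Finset.sum_eq_single ⟨y, (hTx y).2 rfl⟩]
      · rw [DirectSum.of_eq_same]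
        haveI := BMPtPush.subsingleton_ptPush T φ y.1 (t y).1
        exact congrArg (fun L : T.PtPush φ y.1 (t y).1 => (L.cpt M i n).hom v)
          (Subsingleton.elim _ _)
      · intro s _ hs
        have : s.1 ≠ y := fun e => hs (Subtype.ext e)
        rw [DirectSum.of_eq_of_ne _ _ _ this, map_zero]
      · intro h
        exact absurd (Finset.mem_univ _) h
    · rw [DirectSum.of_eq_of_ne _ _ _ (Ne.symm h)]
      symm
      apply Finset.sum_eq_zero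
      intro s _
      have : s.1 ≠ y := by
        rintro rfl
        exact h ((hTx s.1).1 s.2)
      rw [DirectSum.of_eq_of_ne _ _ _ this, map_zero]
  | add ξ₁ ξ₂ h₁ h₂ =>
    rw [map_add, DirectSum.add_apply, h₁, h₂, ← Finset.sum_add_distrib]
    refine Finset.sum_congr rfl (fun s _ => ?_)
    rw [DirectSum.add_apply, map_add]

section main
variable {Y X : Obj V} (φ : Y.scheme ⟶ X.scheme) [IsProper φ] {q : ℕ} (w : X.cdPt q)
  (η : Y.cdPt 0) (hgen : ∀ y : Y.scheme, η.1 ⤳ y)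

include hgen in
/-- The component at `x` of the composite `∂ ∘ ι_w ∘ L`. -/
theorem cpt_eq [T.ResPushClosed] (P : T.PushData X q) (Q : T.ResData X q)
    (L : T.PtPush φ η.1 w.1) (P' : T.PushData Y 0) (Q' : T.ResData Y 0)
    (M : A.Cat) (i n i₁ n₁ i₂ n₂ i₃ n₃ : ℤ)
    (h1 : i₁ = i + 2 * (q : ℤ)) (h1' : n₁ = n + (q : ℤ))
    (h2 : i₂ = i₁ + 1 - 2 * ((q : ℤ) + 1)) (h2' : n₂ = n₁ - ((q : ℤ) + 1))
    (h3 : i₃ = i + 2 * ((0 : ℕ) : ℤ)) (h3' : n₃ = n + ((0 : ℕ) : ℤ))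
    (h4 : i₂ = i₃ + 1 - 2 * (((0 : ℕ) : ℤ) + 1)) (h4' : n₂ = n₃ - (((0 : ℕ) : ℤ) + 1))
    (a : T.ptGp Y η.1 M i n) (x : X.cdPt (q + 1)) (Tx : Finset (Y.cdPt (0 + 1)))
    (hTx : ∀ y, y ∈ Tx ↔ φ y.1 = x.1) (G : ∀ s : {y // y ∈ Tx}, T.PtPush φ s.1.1 x.1) :
    (Q.cpt x M i₁ n₁ i₂ n₂ h2 h2').hom
        ((P.cpt w M i n i₁ n₁ h1 h1').hom ((L.cpt M i n).hom a)) =
      ∑ s : {y // y ∈ Tx}, ((G s).cpt M i₂ n₂).hom
        ((Q'.cpt s.1 M i₃ n₃ i₂ n₂ h4 h4').hom ((P'.cpt η M i n i₃ n₃ h3 h3').hom a)) := by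
  have hmap := L.maps_pt
  have hcod := L.codim_eq
  obtain ⟨O₁, hF₁, hrange, hrep⟩ := exists_open_rep φ w η hmap hcod hgen T M i n a
  have h13 : i₁ = i₃ + 2 * (q : ℤ) := by rw [h1, h3]; push_cast; ring
  have h13' : n₁ = n₃ + (q : ℤ) := by rw [h1', h3']; push_cast; ring
  by_cases hx : x.1 ∈ O₁
  · -- both sides vanish
    obtain ⟨γ, hγ⟩ := hrep O₁ hF₁ le_rfl
    have hFOY := containsFj_preimage φ w η hmap hgen O₁ hF₁
    rw [← hγ, lhs_rep φ w η hmap hcod hgen T P L O₁ hF₁ M i n i₁ n₁ i₃ n₃ h1 h1' h3 h3' γ,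
      resData_cpt_eq_zero_of_mem T Q x M i₁ n₁ i₂ n₂ h2 h2' (sY' X O₁ hF₁) hx]
    symm
    apply Finset.sum_eq_zero
    intro s _
    rw [sigma_push' Y (φ ⁻¹ᵁ O₁) hFOY T P' η M i n i₃ n₃ h3 h3' γ,
      resData_cpt_eq_zero_of_mem T Q' s.1 M i₃ n₃ i₂ n₂ h4 h4' (sY' Y (φ ⁻¹ᵁ O₁) hFOY)
        (by show φ s.1.1 ∈ O₁; rw [(hTx s.1).1 s.2]; exact hx), map_zero]
  · -- the good neighbourhood
    have hTne : Tx.Nonempty := by
      obtain ⟨p, hp⟩ := hrange x.1 hx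
      exact ⟨⟨p, codim_fiber φ w η hmap hcod hgen x p hp⟩, (hTx _).2 hp⟩
    obtain ⟨N, hxN, hFN, hle, hcov, hdisj⟩ :=
      exists_good_nhd φ w η hmap hcod hgen x O₁ hF₁ hx Tx hTx
    have H : CaseB φ w η x N Tx := ⟨hmap, hcod, hgen, hxN, hFN, hTx, hTne, hcov, hdisj⟩
    obtain ⟨γ, hγ⟩ := hrep (openPart X x.1 N) H.hFO hle
    rw [← hγ, lhs_rep φ w η hmap hcod hgen T P L (openPart X x.1 N) H.hFO M i n i₁ n₁ i₃ n₃
      h1 h1' h3 h3' γ]
    rw [H.core T Q Q' G M i₁ n₁ i₂ n₂ i₃ n₃ h13 h13' h2 h2' h4 h4']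
    refine Finset.sum_congr rfl (fun s _ => ?_)
    rw [sigma_push' Y (φ ⁻¹ᵁ (openPart X x.1 N)) H.hFOY T P' η M i n i₃ n₃ h3 h3' γ]

include hgen in
/-- The first differential of the coniveau spectral sequence through the normalisation. -/
theorem main_eq [T.ResPushClosed] (P : T.PushData X q) (Q : T.ResData X q)
    (L : T.PtPush φ η.1 w.1) (P' : T.PushData Y 0) (Q' : T.ResData Y 0)
    (t : Y.cdPt (0 + 1) → X.cdPt (q + 1)) (F : ∀ y : Y.cdPt (0 + 1), T.PtPush φ y.1 (t y).1)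
    (M : A.Cat) (i n i₁ n₁ i₂ n₂ i₃ n₃ : ℤ)
    (h1 : i₁ = i + 2 * (q : ℤ)) (h1' : n₁ = n + (q : ℤ))
    (h2 : i₂ = i₁ + 1 - 2 * ((q : ℤ) + 1)) (h2' : n₂ = n₁ - ((q : ℤ) + 1))
    (h3 : i₃ = i + 2 * ((0 : ℕ) : ℤ)) (h3' : n₃ = n + ((0 : ℕ) : ℤ))
    (h4 : i₂ = i₃ + 1 - 2 * (((0 : ℕ) : ℤ) + 1)) (h4' : n₂ = n₃ - (((0 : ℕ) : ℤ) + 1))
    (a : T.ptGp Y η.1 M i n) :
    (Q.tot M i₁ n₁ i₂ n₂ h2 h2').hom
        ((P.cpt w M i n i₁ n₁ h1 h1').hom ((L.cpt M i n).hom a)) =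
      (PreTheory.PtPush.famTot t F M i₂ n₂).hom
        ((Q'.tot M i₃ n₃ i₂ n₂ h4 h4').hom ((P'.cpt η M i n i₃ n₃ h3 h3').hom a)) := by
  refine DFinsupp.ext (fun x => ?_)
  have hfin := finite_fiber φ w η L.maps_pt hgen x
  have hTx : ∀ y : Y.cdPt (0 + 1), y ∈ hfin.toFinset ↔ φ y.1 = x.1 := fun y =>
    (Set.Finite.mem_toFinset _)
  have htx : ∀ y : Y.cdPt (0 + 1), y ∈ hfin.toFinset ↔ t y = x := fun y => by
    rw [hTx y]
    constructor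
    · intro h
      exact Subtype.ext ((F y).maps_pt.symm.trans h)
    · intro h
      rw [← h]
      exact (F y).maps_pt
  let G : ∀ s : {y // y ∈ hfin.toFinset}, T.PtPush φ s.1.1 x.1 := fun s =>
    Eq.rec (motive := fun z _ => T.PtPush φ s.1.1 z.1) (F s.1) ((htx s.1).1 s.2)
  have e1 := famTot_apply T t F M i₂ n₂ x hfin.toFinset htx G
    ((Q'.tot M i₃ n₃ i₂ n₂ h4 h4').hom ((P'.cpt η M i n i₃ n₃ h3 h3').hom a))
  have e2 := cpt_eq T φ w η hgen P Q L P' Q' M i n i₁ n₁ i₂ n₂ i₃ n₃ h1 h1' h2 h2' h3 h3' h4 h4'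
    a x hfin.toFinset hTx G
  exact e2.trans e1.symm

end main

end Groth.Agent.Lib.helper27.BMNorm5
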