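import Mathlib
import Groth.Prelude.Def_BMCoh2
import Groth.Agent.Lib.Helper27.BMCodim

namespace Groth.Agent.Lib.helper27.BMToFj
universe u
set_option linter.unusedSectionVars false
set_option linter.style.haveILetI false
open CategoryTheory AlgebraicGeometry Opposite BMCoh Limits TopologicalSpace Topology
open Groth.Agent.Lib.helper27.BMBasic Groth.Agent.Lib.helper27.BMTop
  Groth.Agent.Lib.helper27.BMGeom Groth.Agent.Lib.helper27.BMColim
  Groth.Agent.Lib.helper27.BMVanish Groth.Agent.Lib.helper27.BMCodim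

variable {V : ObjectProperty Scheme.{u}} [BMCoh.IsConstructible V] {R : Type u} [CommRing R]
  {A : BMCoh.Coefs R}

instance (X : Obj V) : IsIso X.resTop.hom := by
  show IsIso X.scheme.topIso.hom
  infer_instance

lemma not_mem_of_codim {X : Obj V} (j : ℕ) (U : X.scheme.Opens) (hU : ContainsFj X j U)
    (hd : WeilCoh.dim (U : Scheme.{u}) = WeilCoh.dim X.scheme) (x : X.scheme)
    (hx : x ∉ Set.range (X.resι U hd).hom) : j + 1 ≤ WeilCoh.codim X.scheme x := by
  by_contra hlt
  apply hx
  have : x ∈ U := hU x (by omega)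
  exact ⟨⟨x, this⟩, rfl⟩

variable (T : BMCoh.TheoryOn V R A)

theorem pull_resι_bijective (X : Obj V) (M : A.Cat) (j : ℕ) (i n : ℤ) (hj : i ≤ 2 * (j : ℤ))
    (U : X.scheme.Opens) (hU : ContainsFj X j U)
    (hd : WeilCoh.dim (U : Scheme.{u}) = WeilCoh.dim X.scheme) :
    Function.Bijective (T.pull (X.resι U hd) M i n).hom :=
  pull_bijective_of_codim T (X.resι U hd) (j + 1) (not_mem_of_codim j U hU hd) M i n
    (by push_cast; omega)

theorem toFj_bijective (X : Obj V) (M : A.Cat) (j : ℕ) (i n : ℤ) (hj : i ≤ 2 * (j : ℤ)) :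
    Function.Bijective ((T.toFj X j i n).app M).hom := by
  let U₀ : Idx X (ContainsFj X j) := ⟨⊤, fun _ _ => trivial, dim_top X.scheme⟩
  have h1 : Function.Bijective (T.pull X.resTop M i n).hom :=
    pull_bijective_of_isIso T.toPreTheory X.resTop M i n
  have htop : ∀ U : Idx X (ContainsFj X j), U ≤ U₀ := fun U => (le_top : U.1 ≤ ⊤)
  have h2 : Function.Bijective ((T.ocolimι X (ContainsFj X j) i n U₀).app M).hom := by
    refine ι_bijective_of_top T.toPreTheory X _ i n M U₀ htop (fun U => ?_)
    have hfac : (idxDiag X (ContainsFj X j)).map (homOfLE (htop U)) ≫ X.resTop =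
        X.resι U.1 U.2.2 := Hom.ext (Scheme.homOfLE_ι X.scheme (le_top : U.1 ≤ ⊤))
    have h3 := pull_resι_bijective T X M j i n hj U.1 U.2.1 U.2.2
    have e : T.pull (X.resι U.1 U.2.2) M i n =
        T.pull X.resTop M i n ≫ idxRes T.toPreTheory X _ i n M (htop U) := by
      rw [← hfac]
      exact pull_comp T.toPreTheory _ _ M i n
    rw [e, ModuleCat.hom_comp, LinearMap.coe_comp] at h3
    exact (Function.Bijective.of_comp_iff _ h1).1 h3
  have : ((T.toFj X j i n).app M).hom =
      ((T.ocolimι X (ContainsFj X j) i n U₀).app M).hom ∘ₗ (T.pull X.resTop M i n).hom := rfl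
  rw [this, LinearMap.coe_comp]
  exact h2.comp h1

end Groth.Agent.Lib.helper27.BMToFj
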