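import Mathlib
import Groth.Prelude.Def_RDer

set_option autoImplicit false
set_option linter.unusedVariables false
set_option linter.unusedSectionVars false

/-!
helper27: abstract homological algebra for pasting base change maps defined through `RDer.edgeIn/edgeOut`.
Part 1: uniqueness up to homotopy of lifts from a resolution into a complex of injectives; naturality
properties of `RDer.homologyComparison`.
-/

namespace Groth.Agent.Lib.helper27

open CategoryTheory Limits HomologicalComplex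

universe v u v' u'

namespace BcAbs

section Uniq

variable {A : Type u} [Category.{v} A] [Abelian A]
variable {Y : A} (K : CochainComplex A ℕ) (ι : (CochainComplex.single₀ A).obj Y ⟶ K) [QuasiIso ι]
  (L : CochainComplex A ℕ) [hL : ∀ n, Injective (L.X n)]

/-- auxiliary -/
noncomputable def hZeroZero (f : K ⟶ L) (comm : ι ≫ f = 0) : K.X 1 ⟶ L.X 0 :=
  (RDer.res_exact₀ K ι).descToInjective (f.f 0)
    (congr_fun (congr_arg HomologicalComplex.Hom.f comm) 0)

@[reassoc (attr := simp)]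
lemma comp_hZeroZero (f : K ⟶ L) (comm : ι ≫ f = 0) :
    K.d 0 1 ≫ hZeroZero K ι L f comm = f.f 0 :=
  (RDer.res_exact₀ K ι).comp_descToInjective _ _

/-- auxiliary -/
noncomputable def hZeroOne (f : K ⟶ L) (comm : ι ≫ f = 0) : K.X 2 ⟶ L.X 1 :=
  (RDer.res_exact_succ K ι 0).descToInjective (f.f 1 - hZeroZero K ι L f comm ≫ L.d 0 1)
    (by rw [Preadditive.comp_sub, comp_hZeroZero_assoc, HomologicalComplex.Hom.comm, sub_self])

@[reassoc (attr := simp)]
lemma comp_hZeroOne (f : K ⟶ L) (comm : ι ≫ f = 0) :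
    K.d 1 2 ≫ hZeroOne K ι L f comm = f.f 1 - hZeroZero K ι L f comm ≫ L.d 0 1 :=
  (RDer.res_exact_succ K ι 0).comp_descToInjective _ _

/-- auxiliary -/
noncomputable def hZeroSucc (f : K ⟶ L) (n : ℕ) (g : K.X (n + 1) ⟶ L.X n)
    (g' : K.X (n + 2) ⟶ L.X (n + 1))
    (w : f.f (n + 1) = K.d (n + 1) (n + 2) ≫ g' + g ≫ L.d n (n + 1)) :
    K.X (n + 3) ⟶ L.X (n + 2) :=
  (RDer.res_exact_succ K ι (n + 1)).descToInjective (f.f (n + 2) - g' ≫ L.d _ _) (by
      dsimp
      rw [Preadditive.comp_sub, ← HomologicalComplex.Hom.comm, w, Preadditive.add_comp,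
        Category.assoc, Category.assoc, HomologicalComplex.d_comp_d, comp_zero,
        add_zero, sub_self])

@[reassoc (attr := simp)]
lemma comp_hZeroSucc (f : K ⟶ L) (n : ℕ) (g : K.X (n + 1) ⟶ L.X n)
    (g' : K.X (n + 2) ⟶ L.X (n + 1))
    (w : f.f (n + 1) = K.d (n + 1) (n + 2) ≫ g' + g ≫ L.d n (n + 1)) :
    K.d (n + 2) (n + 3) ≫ hZeroSucc K ι L f n g g' w = f.f (n + 2) - g' ≫ L.d _ _ :=
  (RDer.res_exact_succ K ι (n + 1)).comp_descToInjective _ _

/-- A cochain map from a resolution of `Y` to a complex of injectives which vanishes on `Y` is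
null-homotopic. -/
noncomputable def homotopyZero (f : K ⟶ L) (comm : ι ≫ f = 0) : Homotopy f 0 :=
  Homotopy.mkCoinductive _ (hZeroZero K ι L f comm) (by simp)
    (hZeroOne K ι L f comm) (by simp) (fun n ⟨g, g', w⟩ =>
    ⟨hZeroSucc K ι L f n g g' (by simp only [w, add_comm]), by simp⟩)

/-- Two cochain maps from a resolution of `Y` to a complex of injectives agreeing on `Y` are homotopic. -/
noncomputable def homotopyOfEq (g h : K ⟶ L) (w : ι ≫ g = ι ≫ h) : Homotopy g h :=
  Homotopy.equivSubZero.invFun (homotopyZero K ι L (g - h) (by simp [w]))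

lemma homologyMap_map_eq {C : Type u'} [Category.{v'} C] [Abelian C] (Ψ : A ⥤ C) [Ψ.Additive]
    (g h : K ⟶ L) (w : ι ≫ g = ι ≫ h) (q : ℕ) :
    homologyMap ((Ψ.mapHomologicalComplex _).map g) q =
      homologyMap ((Ψ.mapHomologicalComplex _).map h) q :=
  (Ψ.mapHomotopy (homotopyOfEq K ι L g h w)).homologyMap_eq q

end Uniq


section HC

variable {B : Type u} [Category.{v} B] [Abelian B] {C : Type u'} [Category.{v'} C] [Abelian C]
  {ι' : Type*} {c : ComplexShape ι'}

section one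

variable (Ψ : B ⥤ C) [Ψ.Additive] [PreservesFiniteLimits Ψ]

@[reassoc]
lemma cyclesComparison_naturality {K K' : HomologicalComplex B c} (u : K ⟶ K') (i : ι') :
    cyclesMap ((Ψ.mapHomologicalComplex c).map u) i ≫ RDer.cyclesComparison Ψ K' i =
      RDer.cyclesComparison Ψ K i ≫ Ψ.map (cyclesMap u i) := by
  rw [← cancel_mono (Ψ.map (K'.iCycles i))]
  rw [Category.assoc, Category.assoc, RDer.cyclesComparison_i, ← Ψ.map_comp, cyclesMap_i,
    Ψ.map_comp, RDer.cyclesComparison_i_assoc]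
  exact cyclesMap_i ((Ψ.mapHomologicalComplex c).map u) i

@[reassoc]
lemma homologyComparison_naturality {K K' : HomologicalComplex B c} (u : K ⟶ K') (i : ι') :
    homologyMap ((Ψ.mapHomologicalComplex c).map u) i ≫ RDer.homologyComparison Ψ K' i =
      RDer.homologyComparison Ψ K i ≫ Ψ.map (homologyMap u i) := by
  rw [← cancel_epi (((Ψ.mapHomologicalComplex c).obj K).homologyπ i)]
  rw [homologyπ_naturality_assoc, RDer.homologyπ_homologyComparison,
    RDer.homologyπ_homologyComparison_assoc, cyclesComparison_naturality_assoc, ← Ψ.map_comp,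
    ← Ψ.map_comp, homologyπ_naturality]

end one

section natTrans

variable {Ψ Ψ' : B ⥤ C} [Ψ.Additive] [PreservesFiniteLimits Ψ] [Ψ'.Additive] [PreservesFiniteLimits Ψ']
  (α : Ψ ⟶ Ψ')

@[reassoc]
lemma cyclesComparison_natTrans (K : HomologicalComplex B c) (i : ι') :
    cyclesMap ((NatTrans.mapHomologicalComplex α c).app K) i ≫ RDer.cyclesComparison Ψ' K i =
      RDer.cyclesComparison Ψ K i ≫ α.app (K.cycles i) := by
  rw [← cancel_mono (Ψ'.map (K.iCycles i))]
  rw [Category.assoc, Category.assoc, RDer.cyclesComparison_i, ← α.naturality,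
    RDer.cyclesComparison_i_assoc]
  exact cyclesMap_i ((NatTrans.mapHomologicalComplex α c).app K) i

@[reassoc]
lemma homologyComparison_natTrans (K : HomologicalComplex B c) (i : ι') :
    homologyMap ((NatTrans.mapHomologicalComplex α c).app K) i ≫ RDer.homologyComparison Ψ' K i =
      RDer.homologyComparison Ψ K i ≫ α.app (K.homology i) := by
  rw [← cancel_epi (((Ψ.mapHomologicalComplex c).obj K).homologyπ i)]
  rw [homologyπ_naturality_assoc, RDer.homologyπ_homologyComparison,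
    RDer.homologyπ_homologyComparison_assoc, cyclesComparison_natTrans_assoc, α.naturality]

end natTrans

section comp

variable {D : Type u} [Category.{v} D] [Abelian D]
  (Ψ₁ : B ⥤ C) [Ψ₁.Additive] [PreservesFiniteLimits Ψ₁]
  (Ψ₂ : C ⥤ D) [Ψ₂.Additive] [PreservesFiniteLimits Ψ₂]

lemma cyclesComparison_comp (K : HomologicalComplex B c) (i : ι') :
    RDer.cyclesComparison (Ψ₁ ⋙ Ψ₂) K i =
      RDer.cyclesComparison Ψ₂ ((Ψ₁.mapHomologicalComplex c).obj K) i ≫
        Ψ₂.map (RDer.cyclesComparison Ψ₁ K i) := by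
  have h1 := RDer.cyclesComparison_i (Ψ₁ ⋙ Ψ₂) K i
  have h2 := RDer.cyclesComparison_i Ψ₂ ((Ψ₁.mapHomologicalComplex c).obj K) i
  have h3 := RDer.cyclesComparison_i Ψ₁ K i
  rw [← cancel_mono ((Ψ₁ ⋙ Ψ₂).map (K.iCycles i))]
  refine h1.trans ?_
  refine Eq.trans ?_ (Category.assoc _ _ _).symm
  refine Eq.trans ?_ (congrArg (fun t => RDer.cyclesComparison Ψ₂ ((Ψ₁.mapHomologicalComplex c).obj K) i ≫ t)
    (Ψ₂.map_comp _ _))
  refine Eq.trans ?_ (congrArg (fun t => RDer.cyclesComparison Ψ₂ ((Ψ₁.mapHomologicalComplex c).obj K) i ≫ Ψ₂.map t)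
    h3.symm)
  exact h2.symm

lemma homologyComparison_comp (K : HomologicalComplex B c) (i : ι') :
    RDer.homologyComparison (Ψ₁ ⋙ Ψ₂) K i =
      RDer.homologyComparison Ψ₂ ((Ψ₁.mapHomologicalComplex c).obj K) i ≫
        Ψ₂.map (RDer.homologyComparison Ψ₁ K i) := by
  have h1 := RDer.homologyπ_homologyComparison (Ψ₁ ⋙ Ψ₂) K i
  have h2 := RDer.homologyπ_homologyComparison Ψ₂ ((Ψ₁.mapHomologicalComplex c).obj K) i
  have h3 := RDer.homologyπ_homologyComparison Ψ₁ K i
  rw [← cancel_epi ((((Ψ₁ ⋙ Ψ₂).mapHomologicalComplex c).obj K).homologyπ i)]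
  refine h1.trans ?_
  refine Eq.trans ?_ (Category.assoc _ _ _)
  refine Eq.trans ?_ (congrArg (fun t => t ≫ Ψ₂.map (RDer.homologyComparison Ψ₁ K i)) h2.symm)
  refine Eq.trans ?_ (Category.assoc _ _ _).symm
  refine Eq.trans ?_ (congrArg (fun t => RDer.cyclesComparison Ψ₂ ((Ψ₁.mapHomologicalComplex c).obj K) i ≫ t)
    (Ψ₂.map_comp _ _))
  refine Eq.trans ?_ (congrArg (fun t => RDer.cyclesComparison Ψ₂ ((Ψ₁.mapHomologicalComplex c).obj K) i ≫ Ψ₂.map t)
    h3.symm)
  refine Eq.trans ?_ (congrArg (fun t => RDer.cyclesComparison Ψ₂ ((Ψ₁.mapHomologicalComplex c).obj K) i ≫ t)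
    (Ψ₂.map_comp _ _).symm)
  refine Eq.trans ?_ (Category.assoc _ _ _)
  exact congrArg (fun t => t ≫ (Ψ₁ ⋙ Ψ₂).map (K.homologyπ i)) (cyclesComparison_comp Ψ₁ Ψ₂ K i)

end comp

end HC


section Lift

variable {A : Type u} [Category.{v} A] [Abelian A] {B : Type u'} [Category.{v'} B] [Abelian B]
  (Φ : A ⥤ B) [Φ.Additive]

lemma mapAug_f_zero {Y : A} {I : CochainComplex A ℕ} (ι : (CochainComplex.single₀ A).obj Y ⟶ I) :
    (RDer.mapAug Φ ι).f 0 = Φ.map (ι.f 0) := by
  simp [RDer.mapAug, HomologicalComplex.singleMapHomologicalComplex_inv_app_self]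
  exact Category.id_comp _

variable [Φ.PreservesInjectiveObjects]

/-- A lift of `φ : Y ⟶ Φ Z` to a cochain map from a resolution of `Y` to `Φ` of an injective resolution of `Z`. -/
noncomputable def lift {Y : B} {Z : A} (φ : Y ⟶ Φ.obj Z) (K : CochainComplex B ℕ)
    (ι : (CochainComplex.single₀ B).obj Y ⟶ K) [QuasiIso ι] (J : InjectiveResolution Z) :
    K ⟶ (Φ.mapHomologicalComplex _).obj J.cocomplex :=
  RDer.descToInjectives φ K ι ((Φ.mapHomologicalComplex _).obj J.cocomplex) (RDer.mapAug Φ J.ι)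

lemma ι_lift {Y : B} {Z : A} (φ : Y ⟶ Φ.obj Z) (K : CochainComplex B ℕ)
    (ι : (CochainComplex.single₀ B).obj Y ⟶ K) [QuasiIso ι] (J : InjectiveResolution Z) :
    ι ≫ lift Φ φ K ι J = (CochainComplex.single₀ B).map φ ≫ RDer.mapAug Φ J.ι := by
  apply HomologicalComplex.from_single_hom_ext (j := 0)
  rw [HomologicalComplex.comp_f, lift, RDer.ι_descToInjectives_f_zero, HomologicalComplex.comp_f]
  congr 1
  simp

end Lift

end BcAbs

end Groth.Agent.Lib.helper27
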