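import Mathlib
import Groth.Prelude.Def_RDer
import Groth.Agent.Lib.Helper27.BcAbs1

set_option autoImplicit false
set_option linter.unusedVariables false
set_option linter.unusedSectionVars false

/-!
helper27: the abstract base change map `bcAdj` (same recipe as `EtBC.bcQAdj`, `CohBC.bcQAdj`) and its
chain-level description through an arbitrary lift of the unit.
-/

namespace Groth.Agent.Lib.helper27

open CategoryTheory Limits HomologicalComplex

universe v u

namespace BcAbs

section BcAdj

variable {A A' B B' : Type u} [Category.{v} A] [Category.{v} A'] [Category.{v} B] [Category.{v} B']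
  [Abelian A] [Abelian A'] [Abelian B] [Abelian B']
  [HasInjectiveResolutions A] [HasInjectiveResolutions A']
  (Es : A ⥤ A') (E : A' ⥤ A) (adj : Es ⊣ E) [E.Additive] [E.PreservesInjectiveObjects]
  (P : A ⥤ B) [P.Additive] (P' : A' ⥤ B') [P'.Additive] (Q : B' ⥤ B) [Q.Additive]
  [PreservesFiniteLimits Q] (σ : E ⋙ P ≅ P' ⋙ Q) (q : ℕ)

/-- The abstract base change map in adjoint form (recipe of `EtBC.bcQAdj`). -/
noncomputable def bcAdj (F : A) :
    (P.rightDerived q).obj F ⟶ Q.obj ((P'.rightDerived q).obj (Es.obj F)) :=
  (P.rightDerived q).map (adj.unit.app F) ≫ RDer.edgeIn E P q (Es.obj F) ≫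
    (RDer.rightDerivedIso σ q).hom.app (Es.obj F) ≫ RDer.edgeOut P' Q q (Es.obj F)

/-- the chain map `P I_F ⟶ Q P' I_G` attached to a lift `θ`. -/
noncomputable def chainOf (F : A)
    (θ : (injectiveResolution F).cocomplex ⟶
      (E.mapHomologicalComplex _).obj (injectiveResolution (Es.obj F)).cocomplex) :
    (P.mapHomologicalComplex _).obj (injectiveResolution F).cocomplex ⟶
      (Q.mapHomologicalComplex _).obj
        ((P'.mapHomologicalComplex _).obj (injectiveResolution (Es.obj F)).cocomplex) :=
  (P.mapHomologicalComplex _).map θ ≫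
    (NatTrans.mapHomologicalComplex σ.hom _).app (injectiveResolution (Es.obj F)).cocomplex

theorem bcAdj_eq (F : A)
    (θ : (injectiveResolution F).cocomplex ⟶
      (E.mapHomologicalComplex _).obj (injectiveResolution (Es.obj F)).cocomplex)
    (hθ : (injectiveResolution F).ι ≫ θ =
      (CochainComplex.single₀ A).map (adj.unit.app F) ≫
        RDer.mapAug E (injectiveResolution (Es.obj F)).ι) :
    bcAdj Es E adj P P' Q σ q F =
      ((injectiveResolution F).isoRightDerivedObj P q).hom ≫
        homologyMap (chainOf Es E P P' Q σ F θ) q ≫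
        RDer.homologyComparison Q
          ((P'.mapHomologicalComplex _).obj (injectiveResolution (Es.obj F)).cocomplex) q ≫
        Q.map (((injectiveResolution (Es.obj F)).isoRightDerivedObj P' q).inv) := by
  let IF := injectiveResolution F
  let IG := injectiveResolution (Es.obj F)
  let J := injectiveResolution (E.obj (Es.obj F))
  let φt : IF.cocomplex ⟶ J.cocomplex := InjectiveResolution.desc (adj.unit.app F) J IF
  let dsc : J.cocomplex ⟶ (E.mapHomologicalComplex _).obj IG.cocomplex :=
    RDer.descToInjectives (𝟙 (E.obj (Es.obj F))) J.cocomplex J.ι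
      ((E.mapHomologicalComplex _).obj IG.cocomplex) (RDer.mapAug E IG.ι)
  have h1 : (P.rightDerived q).map (adj.unit.app F) ≫ (J.isoRightDerivedObj P q).hom =
      (IF.isoRightDerivedObj P q).hom ≫
        (P.mapHomologicalComplex _ ⋙ HomologicalComplex.homologyFunctor _ _ q).map φt :=
    InjectiveResolution.isoRightDerivedObj_hom_naturality (adj.unit.app F) IF J φt
      (InjectiveResolution.desc_commutes_zero _ _ _) P q
  have h2 : (RDer.rightDerivedIso σ q).hom.app (Es.obj F) =
      (IG.isoRightDerivedObj (E ⋙ P) q).hom ≫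
        (HomologicalComplex.homologyFunctor _ _ q).map
          ((NatTrans.mapHomologicalComplex σ.hom _).app IG.cocomplex) ≫
        (IG.isoRightDerivedObj (P' ⋙ Q) q).inv :=
    InjectiveResolution.rightDerived_app_eq σ.hom IG q
  have hd : J.ι ≫ dsc = RDer.mapAug E IG.ι := by
    apply HomologicalComplex.from_single_hom_ext (j := 0)
    rw [HomologicalComplex.comp_f, RDer.ι_descToInjectives_f_zero, Category.id_comp]
  have h3 : homologyMap ((P.mapHomologicalComplex _).map (φt ≫ dsc)) q =
      homologyMap ((P.mapHomologicalComplex _).map θ) q :=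
    homologyMap_map_eq IF.cocomplex IF.ι ((E.mapHomologicalComplex _).obj IG.cocomplex) P
      (φt ≫ dsc) θ (by
        rw [hθ, ← Category.assoc, InjectiveResolution.desc_commutes, Category.assoc, hd]) q
  dsimp only [IF, IG, J, φt, dsc] at h1 h2 h3
  dsimp only [bcAdj, RDer.edgeIn, RDer.edgeOut, chainOf]
  rw [h2]
  simp only [Category.assoc, Iso.inv_hom_id_assoc]
  rw [reassoc_of% h1]
  congr 1
  rw [homologyMap_comp, ← h3]
  simp only [Functor.map_comp, homologyFunctor_map, homologyMap_comp, Category.assoc]
  erw [Iso.inv_hom_id_assoc]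
  refine Eq.trans ?_ (Category.assoc _ _ _).symm
  refine congrArg (fun t => _ ≫ t) ?_
  exact (Category.assoc _ _ _).symm

end BcAdj

end BcAbs

end Groth.Agent.Lib.helper27
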