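import Mathlib
import Groth.Prelude.Def_RDer
import Groth.Agent.Lib.Helper27.BcAbs1
import Groth.Agent.Lib.Helper27.BcAbs2

set_option autoImplicit false
set_option linter.unusedVariables false
set_option linter.unusedSectionVars false

/-!
helper27: vertical pasting of the abstract base change maps `BcAbs.bcAdj`.
-/

namespace Groth.Agent.Lib.helper27

open CategoryTheory Limits HomologicalComplex

universe v u

namespace BcAbs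

section adjcomp

variable {A₀ A₁ A₂ : Type u} [Category.{v} A₀] [Category.{v} A₁] [Category.{v} A₂]
  {E₁s : A₀ ⥤ A₁} {E₁ : A₁ ⥤ A₀} (adj₁ : E₁s ⊣ E₁)
  {E₂s : A₁ ⥤ A₂} {E₂ : A₂ ⥤ A₁} (adj₂ : E₂s ⊣ E₂)
  {E's : A₀ ⥤ A₂} {E' : A₂ ⥤ A₀} (adj' : E's ⊣ E')
  (a : E₂ ⋙ E₁ ≅ E')

/-- comparison of left adjoints induced by an isomorphism of right adjoints -/
noncomputable def βiso : E₁s ⋙ E₂s ≅ E's :=
  (adj₁.comp adj₂).leftAdjointUniq (adj'.ofNatIsoRight a.symm)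

lemma unit_eq (F : A₀) :
    adj'.unit.app F = adj₁.unit.app F ≫ E₁.map (adj₂.unit.app (E₁s.obj F)) ≫
      a.hom.app (E₂s.obj (E₁s.obj F)) ≫ E'.map ((βiso adj₁ adj₂ adj' a).hom.app F) := by
  have h := Adjunction.unit_leftAdjointUniq_hom_app (adj₁.comp adj₂) (adj'.ofNatIsoRight a.symm) F
  rw [Adjunction.comp_unit_app] at h
  simp only [Adjunction.ofNatIsoRight_unit, NatTrans.comp_app, Functor.whiskerLeft_app, Iso.symm_hom,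
    Functor.comp_map, Category.assoc] at h
  have h' := congrArg (fun t => t ≫ a.hom.app (E's.obj F)) h
  simp only [Category.assoc, Iso.inv_hom_id_app] at h'
  have h'' : adj'.unit.app F = _ := (Category.comp_id _).symm.trans h'.symm
  refine h''.trans ?_
  have := a.hom.naturality ((βiso adj₁ adj₂ adj' a).hom.app F)
  exact congrArg (fun t => adj₁.unit.app F ≫ E₁.map (adj₂.unit.app (E₁s.obj F)) ≫ t) this

lemma deg_zero_aux {F X₀ : A₀} {G Y₀ : A₁} {H H' Z₀ W₀ : A₂}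
    (i₀ : F ⟶ X₀) (t₁ : X₀ ⟶ E₁.obj Y₀) (j₀ : G ⟶ Y₀) (u₁ : F ⟶ E₁.obj G)
    (e1 : i₀ ≫ t₁ = u₁ ≫ E₁.map j₀)
    (t₂ : Y₀ ⟶ E₂.obj Z₀) (k₀ : H ⟶ Z₀) (u₂ : G ⟶ E₂.obj H) (e2 : j₀ ≫ t₂ = u₂ ≫ E₂.map k₀)
    (g₀ : Z₀ ⟶ W₀) (l₀ : H' ⟶ W₀) (b : H ⟶ H') (e3 : k₀ ≫ g₀ = b ≫ l₀) :
    i₀ ≫ t₁ ≫ E₁.map t₂ ≫ a.hom.app Z₀ ≫ E'.map g₀ =
      (u₁ ≫ E₁.map u₂ ≫ a.hom.app H ≫ E'.map b) ≫ E'.map l₀ := by
  rw [reassoc_of% e1, ← E₁.map_comp_assoc, e2, E₁.map_comp_assoc]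
  have nat := a.hom.naturality k₀
  dsimp only [Functor.comp_map] at nat
  rw [reassoc_of% nat, ← E'.map_comp, e3, E'.map_comp]
  simp only [Category.assoc]

end adjcomp


section finalaux

variable {B₀ B₁ B₂ : Type u} [Category.{v} B₀] [Category.{v} B₁] [Category.{v} B₂]
  (Q₁ : B₁ ⥤ B₀) (Q₂ : B₂ ⥤ B₁) (Q' : B₂ ⥤ B₀) (c : Q₂ ⋙ Q₁ ≅ Q')

lemma final_aux {M N₀ N₁ N₂ N₃ N₄ : B₀} {S₁ R₁ S₂ : B₁} {T₃ T₄ R R' : B₂}
    (i₀ : M ⟶ N₀) (h₁ : N₀ ⟶ N₁) (h₂ : N₁ ⟶ N₂) (h₃ : N₂ ⟶ N₃) (h₄ : N₃ ⟶ N₄)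
    (k' : N₄ ⟶ Q'.obj T₄) (r' : T₄ ⟶ R')
    (k₁ : N₁ ⟶ Q₁.obj S₁) (r₁ : S₁ ⟶ R₁) (i₁ : R₁ ⟶ S₁) (hri : r₁ ≫ i₁ = 𝟙 S₁)
    (g₂ : S₁ ⟶ S₂) (k₂ : S₂ ⟶ Q₂.obj T₃) (r₂ : T₃ ⟶ R) (b : R ⟶ R')
    (k : N₃ ⟶ Q'.obj T₃) (v : T₃ ⟶ T₄) (k₁₂ : N₂ ⟶ Q₁.obj (Q₂.obj T₃)) (k₁' : N₂ ⟶ Q₁.obj S₂)
    (hA : h₄ ≫ k' = k ≫ Q'.map v) (hB : h₃ ≫ k = k₁₂ ≫ c.hom.app T₃)
    (hC : k₁₂ = k₁' ≫ Q₁.map k₂) (hD : h₂ ≫ k₁' = k₁ ≫ Q₁.map g₂) (hE : r₂ ≫ b = v ≫ r') :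
    i₀ ≫ (h₁ ≫ h₂ ≫ h₃ ≫ h₄) ≫ k' ≫ Q'.map r' =
      i₀ ≫ h₁ ≫ k₁ ≫ Q₁.map r₁ ≫ Q₁.map i₁ ≫ Q₁.map g₂ ≫ Q₁.map k₂ ≫
        Q₁.map (Q₂.map r₂) ≫ c.hom.app R ≫ Q'.map b := by
  have nat := c.hom.naturality r₂
  dsimp only [Functor.comp_map] at nat
  simp only [Category.assoc]
  rw [reassoc_of% hA, reassoc_of% hB, hC, ← Q'.map_comp, ← hE, Q'.map_comp]
  simp only [Category.assoc]
  rw [reassoc_of% hD, ← Q₁.map_comp_assoc r₁ i₁, hri, Q₁.map_id, Category.id_comp,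
    reassoc_of% nat]

end finalaux

section isoadj

variable {C D : Type u} [Category.{v} C] [Category.{v} D]

/-- `u : M ⟶ R N` exhibits `N` as "the value at `M` of a left adjoint of `R`". -/
def IsoAdj (R : D ⥤ C) {M : C} {N : D} (u : M ⟶ R.obj N) : Prop :=
  ∀ Z : D, Function.Bijective (fun ψ : N ⟶ Z => u ≫ R.map ψ)

lemma isoAdj_iff {L : C ⥤ D} {R : D ⥤ C} (adj : L ⊣ R) {M : C} {N : D} (u : M ⟶ R.obj N) :
    IsIso ((adj.homEquiv M N).symm u) ↔ IsoAdj R u := by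
  rw [isIso_iff_coyoneda_map_bijective]
  refine forall_congr' fun Z => ?_
  have h : (fun ψ : N ⟶ Z => u ≫ R.map ψ) =
      (adj.homEquiv M Z) ∘ (fun ψ : N ⟶ Z => (adj.homEquiv M N).symm u ≫ ψ) := by
    funext ψ
    simp [Adjunction.homEquiv_naturality_right]
  rw [h]
  exact ((adj.homEquiv M Z).bijective.of_comp_iff' _).symm

lemma IsoAdj.comp {E : Type u} [Category.{v} E] {R₁ : D ⥤ C} {R₂ : E ⥤ D} {M : C} {N₁ : D} {N : E}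
    {u₁ : M ⟶ R₁.obj N₁} {u₂ : N₁ ⟶ R₂.obj N} (h₁ : IsoAdj R₁ u₁) (h₂ : IsoAdj R₂ u₂) :
    IsoAdj (R₂ ⋙ R₁) (N := N) (u₁ ≫ R₁.map u₂) := by
  intro Z
  have : (fun ψ : N ⟶ Z => (u₁ ≫ R₁.map u₂) ≫ (R₂ ⋙ R₁).map ψ) =
      (fun φ : N₁ ⟶ R₂.obj Z => u₁ ≫ R₁.map φ) ∘ (fun ψ : N ⟶ Z => u₂ ≫ R₂.map ψ) := by
    funext ψ
    simp
  rw [this]
  exact (h₁ (R₂.obj Z)).comp (h₂ Z)

lemma IsoAdj.of_iso {R R' : D ⥤ C} (c : R ≅ R') {M : C} {N : D} {u : M ⟶ R.obj N} (h : IsoAdj R u) :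
    IsoAdj R' (u ≫ c.hom.app N) := by
  intro Z
  have : (fun ψ : N ⟶ Z => (u ≫ c.hom.app N) ≫ R'.map ψ) =
      (fun φ : M ⟶ R.obj Z => φ ≫ c.hom.app Z) ∘ (fun ψ : N ⟶ Z => u ≫ R.map ψ) := by
    funext ψ
    simp
  rw [this]
  refine Function.Bijective.comp ?_ (h Z)
  exact ⟨fun φ φ' hφ => by simpa using congrArg (fun t => t ≫ c.inv.app Z) hφ,
    fun φ => ⟨φ ≫ c.inv.app Z, by simp⟩⟩

lemma IsoAdj.comp_iso {R : D ⥤ C} {M : C} {N N' : D} {u : M ⟶ R.obj N} (h : IsoAdj R u)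
    (b : N ⟶ N') [IsIso b] : IsoAdj R (u ≫ R.map b) := by
  intro Z
  have : (fun ψ : N' ⟶ Z => (u ≫ R.map b) ≫ R.map ψ) =
      (fun ψ : N ⟶ Z => u ≫ R.map ψ) ∘ (fun ψ : N' ⟶ Z => b ≫ ψ) := by
    funext ψ
    simp
  rw [this]
  refine Function.Bijective.comp (h Z) ?_
  exact ⟨fun φ φ' hφ => (cancel_epi b).1 hφ, fun φ => ⟨inv b ≫ φ, by simp⟩⟩

end isoadj

section vcomp

variable {A₀ A₁ A₂ B₀ B₁ B₂ : Type u} [Category.{v} A₀] [Category.{v} A₁] [Category.{v} A₂]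
  [Category.{v} B₀] [Category.{v} B₁] [Category.{v} B₂]
  [Abelian A₀] [Abelian A₁] [Abelian A₂] [Abelian B₀] [Abelian B₁] [Abelian B₂]
  [HasInjectiveResolutions A₀] [HasInjectiveResolutions A₁] [HasInjectiveResolutions A₂]
  (P₀ : A₀ ⥤ B₀) [P₀.Additive] (P₁ : A₁ ⥤ B₁) [P₁.Additive] (P₂ : A₂ ⥤ B₂) [P₂.Additive]
  (E₁s : A₀ ⥤ A₁) (E₁ : A₁ ⥤ A₀) (adj₁ : E₁s ⊣ E₁) [E₁.Additive] [E₁.PreservesInjectiveObjects]
  (E₂s : A₁ ⥤ A₂) (E₂ : A₂ ⥤ A₁) (adj₂ : E₂s ⊣ E₂) [E₂.Additive] [E₂.PreservesInjectiveObjects]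
  (E's : A₀ ⥤ A₂) (E' : A₂ ⥤ A₀) (adj' : E's ⊣ E') [E'.Additive] [E'.PreservesInjectiveObjects]
  (Q₁ : B₁ ⥤ B₀) [Q₁.Additive] [PreservesFiniteLimits Q₁]
  (Q₂ : B₂ ⥤ B₁) [Q₂.Additive] [PreservesFiniteLimits Q₂]
  (Q' : B₂ ⥤ B₀) [Q'.Additive] [PreservesFiniteLimits Q']
  (σ₁ : E₁ ⋙ P₀ ≅ P₁ ⋙ Q₁) (σ₂ : E₂ ⋙ P₁ ≅ P₂ ⋙ Q₂) (σ' : E' ⋙ P₀ ≅ P₂ ⋙ Q')
  (a : E₂ ⋙ E₁ ≅ E') (c : Q₂ ⋙ Q₁ ≅ Q') (q : ℕ)

/-- the composite lift -/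
noncomputable def θ₃ (F : A₀) :
    (injectiveResolution F).cocomplex ⟶
      (E'.mapHomologicalComplex _).obj (injectiveResolution (E's.obj F)).cocomplex :=
  lift E₁ (adj₁.unit.app F) (injectiveResolution F).cocomplex (injectiveResolution F).ι
      (injectiveResolution (E₁s.obj F)) ≫
    (E₁.mapHomologicalComplex _).map
      (lift E₂ (adj₂.unit.app (E₁s.obj F)) (injectiveResolution (E₁s.obj F)).cocomplex
        (injectiveResolution (E₁s.obj F)).ι (injectiveResolution (E₂s.obj (E₁s.obj F)))) ≫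
    (NatTrans.mapHomologicalComplex a.hom _).app
      (injectiveResolution (E₂s.obj (E₁s.obj F))).cocomplex ≫
    (E'.mapHomologicalComplex _).map
      (InjectiveResolution.desc ((βiso adj₁ adj₂ adj' a).hom.app F)
        (injectiveResolution (E's.obj F)) (injectiveResolution (E₂s.obj (E₁s.obj F))))

lemma ι_θ₃ (F : A₀) :
    (injectiveResolution F).ι ≫ θ₃ E₁s E₁ adj₁ E₂s E₂ adj₂ E's E' adj' a F =
      (CochainComplex.single₀ A₀).map (adj'.unit.app F) ≫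
        RDer.mapAug E' (injectiveResolution (E's.obj F)).ι := by
  have e1 := HomologicalComplex.congr_hom (ι_lift E₁ (adj₁.unit.app F)
    (injectiveResolution F).cocomplex (injectiveResolution F).ι (injectiveResolution (E₁s.obj F))) 0
  have e2 := HomologicalComplex.congr_hom (ι_lift E₂ (adj₂.unit.app (E₁s.obj F))
    (injectiveResolution (E₁s.obj F)).cocomplex (injectiveResolution (E₁s.obj F)).ι
    (injectiveResolution (E₂s.obj (E₁s.obj F)))) 0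
  have e3 := InjectiveResolution.desc_commutes_zero ((βiso adj₁ adj₂ adj' a).hom.app F)
        (injectiveResolution (E's.obj F)) (injectiveResolution (E₂s.obj (E₁s.obj F)))
  rw [HomologicalComplex.comp_f, HomologicalComplex.comp_f, mapAug_f_zero,
    CochainComplex.single₀_map_f_zero] at e1 e2
  apply HomologicalComplex.from_single_hom_ext (j := 0)
  rw [HomologicalComplex.comp_f, HomologicalComplex.comp_f, mapAug_f_zero,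
    CochainComplex.single₀_map_f_zero, unit_eq adj₁ adj₂ adj' a F]
  dsimp only [θ₃]
  simp only [HomologicalComplex.comp_f, Functor.mapHomologicalComplex_map_f,
    NatTrans.mapHomologicalComplex_app_f, Category.assoc]
  exact deg_zero_aux a _ _ _ _ e1 _ _ _ e2 _ _ _ e3

variable (hcoh : ∀ M : A₂, P₀.map (a.hom.app M) ≫ σ'.hom.app M =
      σ₁.hom.app (E₂.obj M) ≫ Q₁.map (σ₂.hom.app M) ≫ c.hom.app (P₂.obj M))

include hcoh in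
lemma deg_n_aux {X : A₀} {Y : A₁} {Z W : A₂} (t₁ : X ⟶ E₁.obj Y) (t₂ : Y ⟶ E₂.obj Z) (g : Z ⟶ W) :
    P₀.map (t₁ ≫ E₁.map t₂ ≫ a.hom.app Z ≫ E'.map g) ≫ σ'.hom.app W =
      (P₀.map t₁ ≫ σ₁.hom.app Y) ≫ Q₁.map (P₁.map t₂ ≫ σ₂.hom.app Z) ≫
        c.hom.app (P₂.obj Z) ≫ Q'.map (P₂.map g) := by
  have n1 := σ'.hom.naturality g
  have n2 := σ₁.hom.naturality t₂
  dsimp only [Functor.comp_map] at n1 n2
  simp only [Functor.map_comp, Category.assoc]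
  rw [n1, reassoc_of% (hcoh Z), reassoc_of% n2]

include hcoh in
lemma chainOf_vcomp (F : A₀) :
    chainOf E's E' P₀ P₂ Q' σ' F (θ₃ E₁s E₁ adj₁ E₂s E₂ adj₂ E's E' adj' a F) =
      chainOf E₁s E₁ P₀ P₁ Q₁ σ₁ F (lift E₁ (adj₁.unit.app F) (injectiveResolution F).cocomplex
          (injectiveResolution F).ι (injectiveResolution (E₁s.obj F))) ≫
        (Q₁.mapHomologicalComplex _).map
          (chainOf E₂s E₂ P₁ P₂ Q₂ σ₂ (E₁s.obj F)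
            (lift E₂ (adj₂.unit.app (E₁s.obj F)) (injectiveResolution (E₁s.obj F)).cocomplex
              (injectiveResolution (E₁s.obj F)).ι (injectiveResolution (E₂s.obj (E₁s.obj F))))) ≫
        (NatTrans.mapHomologicalComplex c.hom _).app
          ((P₂.mapHomologicalComplex _).obj (injectiveResolution (E₂s.obj (E₁s.obj F))).cocomplex) ≫
        (Q'.mapHomologicalComplex _).map ((P₂.mapHomologicalComplex _).map
          (InjectiveResolution.desc ((βiso adj₁ adj₂ adj' a).hom.app F)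
            (injectiveResolution (E's.obj F)) (injectiveResolution (E₂s.obj (E₁s.obj F))))) := by
  ext n
  exact deg_n_aux P₀ P₁ P₂ E₁ E₂ E' Q₁ Q₂ Q' σ₁ σ₂ σ' a c hcoh _ _ _

include hcoh in
theorem bcAdj_vcomp (F : A₀) :
    bcAdj E's E' adj' P₀ P₂ Q' σ' q F =
      bcAdj E₁s E₁ adj₁ P₀ P₁ Q₁ σ₁ q F ≫
        Q₁.map (bcAdj E₂s E₂ adj₂ P₁ P₂ Q₂ σ₂ q (E₁s.obj F)) ≫
        c.hom.app ((P₂.rightDerived q).obj (E₂s.obj (E₁s.obj F))) ≫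
        Q'.map ((P₂.rightDerived q).map ((βiso adj₁ adj₂ adj' a).hom.app F)) := by
  rw [bcAdj_eq E's E' adj' P₀ P₂ Q' σ' q F _ (ι_θ₃ E₁s E₁ adj₁ E₂s E₂ adj₂ E's E' adj' a F),
    bcAdj_eq E₁s E₁ adj₁ P₀ P₁ Q₁ σ₁ q F _ (ι_lift E₁ (adj₁.unit.app F) _ _ _),
    bcAdj_eq E₂s E₂ adj₂ P₁ P₂ Q₂ σ₂ q (E₁s.obj F) _ (ι_lift E₂ (adj₂.unit.app (E₁s.obj F)) _ _ _),
    chainOf_vcomp P₀ P₁ P₂ E₁s E₁ adj₁ E₂s E₂ adj₂ E's E' adj' Q₁ Q₂ Q' σ₁ σ₂ σ' a c hcoh F]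
  simp only [homologyMap_comp, Category.assoc, Functor.map_comp]
  refine final_aux Q₁ Q₂ Q' c _ _ _ _ _ _ _ _ _ _ (Iso.inv_hom_id _) _ _ _ _
    (RDer.homologyComparison Q' ((P₂.mapHomologicalComplex _).obj
      (injectiveResolution (E₂s.obj (E₁s.obj F))).cocomplex) q)
    (homologyMap ((P₂.mapHomologicalComplex _).map
      (InjectiveResolution.desc ((βiso adj₁ adj₂ adj' a).hom.app F)
        (injectiveResolution (E's.obj F)) (injectiveResolution (E₂s.obj (E₁s.obj F))))) q)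
    (RDer.homologyComparison (Q₂ ⋙ Q₁) ((P₂.mapHomologicalComplex _).obj
      (injectiveResolution (E₂s.obj (E₁s.obj F))).cocomplex) q)
    (RDer.homologyComparison Q₁ ((Q₂.mapHomologicalComplex _).obj ((P₂.mapHomologicalComplex _).obj
      (injectiveResolution (E₂s.obj (E₁s.obj F))).cocomplex)) q)
    ?_ ?_ ?_ ?_ ?_
  · exact homologyComparison_naturality Q' _ q
  · exact homologyComparison_natTrans c.hom _ q
  · exact homologyComparison_comp Q₂ Q₁ _ q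
  · exact homologyComparison_naturality Q₁ _ q
  · exact InjectiveResolution.isoRightDerivedObj_inv_naturality _ _ _ _
      (InjectiveResolution.desc_commutes_zero _ _ _) P₂ q

include hcoh in
theorem isIso_vcomp {Q₁s : B₀ ⥤ B₁} (adjQ₁ : Q₁s ⊣ Q₁) {Q₂s : B₁ ⥤ B₂} (adjQ₂ : Q₂s ⊣ Q₂)
    {Q's : B₀ ⥤ B₂} (adjQ' : Q's ⊣ Q') (F : A₀)
    (h1 : IsIso ((adjQ₁.homEquiv _ _).symm (bcAdj E₁s E₁ adj₁ P₀ P₁ Q₁ σ₁ q F)))
    (h2 : IsIso ((adjQ₂.homEquiv _ _).symm (bcAdj E₂s E₂ adj₂ P₁ P₂ Q₂ σ₂ q (E₁s.obj F)))) :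
    IsIso ((adjQ'.homEquiv _ _).symm (bcAdj E's E' adj' P₀ P₂ Q' σ' q F)) := by
  rw [isoAdj_iff] at h1 h2 ⊢
  rw [bcAdj_vcomp P₀ P₁ P₂ E₁s E₁ adj₁ E₂s E₂ adj₂ E's E' adj' Q₁ Q₂ Q' σ₁ σ₂ σ' a c q hcoh F]
  have := ((h1.comp h2).of_iso c).comp_iso
    ((P₂.rightDerived q).map ((βiso adj₁ adj₂ adj' a).hom.app F))
  simpa only [Category.assoc] using this

end vcomp

end BcAbs

end Groth.Agent.Lib.helper27
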