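import Mathlib
import Groth.Agent.Lib.Helper27.BcAbs3

set_option autoImplicit false
set_option linter.unusedVariables false
set_option linter.unusedSectionVars false

/-!
helper27: degree-zero abstract base change maps `BcAbs.u0`, their vertical pasting, and cancellation
lemmas for `BcAbs.IsoAdj`.
-/

namespace Groth.Agent.Lib.helper27

open CategoryTheory Limits

universe v u

namespace BcAbs

section isoadj

variable {C D : Type u} [Category.{v} C] [Category.{v} D]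

lemma IsoAdj.iso_comp {R : D ⥤ C} {M M' : C} {N : D} {u : M ⟶ R.obj N} (h : IsoAdj R u)
    (a : M' ⟶ M) [IsIso a] : IsoAdj R (a ≫ u) := by
  intro Z
  have : (fun ψ : N ⟶ Z => (a ≫ u) ≫ R.map ψ) =
      (fun φ : M ⟶ R.obj Z => a ≫ φ) ∘ (fun ψ : N ⟶ Z => u ≫ R.map ψ) := by
    funext ψ
    simp
  rw [this]
  refine Function.Bijective.comp ?_ (h Z)
  exact ⟨fun φ φ' hφ => (cancel_epi a).1 hφ, fun φ => ⟨inv a ≫ φ, by simp⟩⟩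

lemma isoAdj_unit_comp {L : C ⥤ D} {R : D ⥤ C} (adj : L ⊣ R) (M : C) {N : D} (b : L.obj M ⟶ N)
    [IsIso b] : IsoAdj R (adj.unit.app M ≫ R.map b) := by
  rw [← isoAdj_iff adj]
  have e : (adj.homEquiv M N).symm (adj.unit.app M ≫ R.map b) = b := by
    rw [← Adjunction.homEquiv_unit]
    exact Equiv.symm_apply_apply _ _
  have h : IsIso ((adj.homEquiv M N).symm (adj.unit.app M ≫ R.map b)) := by
    rw [e]
    infer_instance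
  exact h

/-- cancellation: if a pasted map and its second factor are "isomorphisms in adjoint form", the transpose
of the first factor becomes an isomorphism after applying the second left adjoint. -/
lemma IsoAdj.cancel {E : Type u} [Category.{v} E] {L₁ : C ⥤ D} {R₁ : D ⥤ C} (adj₁ : L₁ ⊣ R₁)
    {L₂ : D ⥤ E} {R₂ : E ⥤ D} (adj₂ : L₂ ⊣ R₂) {M : C} {N₁ : D} {N : E}
    {u₁ : M ⟶ R₁.obj N₁} {u₂ : N₁ ⟶ R₂.obj N}
    (h : IsoAdj (R₂ ⋙ R₁) (N := N) (u₁ ≫ R₁.map u₂)) (h₂ : IsoAdj R₂ u₂) :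
    IsIso (L₂.map ((adj₁.homEquiv M N₁).symm u₁)) := by
  have key : ∀ Z : E, Function.Bijective (fun φ : N₁ ⟶ R₂.obj Z => u₁ ≫ R₁.map φ) := by
    intro Z
    have e : (fun ψ : N ⟶ Z => (u₁ ≫ R₁.map u₂) ≫ (R₂ ⋙ R₁).map ψ) =
        (fun φ : N₁ ⟶ R₂.obj Z => u₁ ≫ R₁.map φ) ∘ (fun ψ : N ⟶ Z => u₂ ≫ R₂.map ψ) := by
      funext ψ
      simp
    have hZ := h Z
    rw [e] at hZ
    exact (Function.Bijective.of_comp_iff _ (h₂ Z)).1 hZ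
  rw [isIso_iff_coyoneda_map_bijective]
  intro Z
  have e : (fun x : L₂.obj N₁ ⟶ Z => L₂.map ((adj₁.homEquiv M N₁).symm u₁) ≫ x) =
      (adj₂.homEquiv _ _).symm ∘ (adj₁.homEquiv _ _).symm ∘
        (fun φ : N₁ ⟶ R₂.obj Z => u₁ ≫ R₁.map φ) ∘ (adj₂.homEquiv N₁ Z) := by
    funext x
    simp only [Function.comp_apply]
    rw [Adjunction.homEquiv_naturality_right_symm, Adjunction.homEquiv_naturality_left_symm,
      Equiv.symm_apply_apply]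
  rw [e]
  exact (adj₂.homEquiv _ _).symm.bijective.comp ((adj₁.homEquiv _ _).symm.bijective.comp
    ((key Z).comp (adj₂.homEquiv N₁ Z).bijective))

end isoadj

section u0

variable {A A' B B' : Type u} [Category.{v} A] [Category.{v} A'] [Category.{v} B] [Category.{v} B']
  (Es : A ⥤ A') (E : A' ⥤ A) (adj : Es ⊣ E)
  (P : A ⥤ B) (P' : A' ⥤ B') (Q : B' ⥤ B) (σ : E ⋙ P ≅ P' ⋙ Q)

/-- the degree-zero base change map in adjoint form. -/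
def u0 (F : A) : P.obj F ⟶ Q.obj (P'.obj (Es.obj F)) :=
  P.map (adj.unit.app F) ≫ σ.hom.app (Es.obj F)

lemma u0_congr {Es' : A ⥤ A'} (adj' : Es' ⊣ E) (F : A) :
    u0 Es E adj P P' Q σ F = u0 Es' E adj' P P' Q σ F ≫
      Q.map (P'.map ((adj'.leftAdjointUniq adj).hom.app F)) := by
  have h := Adjunction.unit_leftAdjointUniq_hom_app adj' adj F
  have nat := σ.hom.naturality ((adj'.leftAdjointUniq adj).hom.app F)
  dsimp only [Functor.comp_map] at nat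
  dsimp only [u0]
  rw [← h, P.map_comp, Category.assoc, nat, Category.assoc]

@[reassoc]
lemma u0_naturality {F G : A} (φ : F ⟶ G) :
    P.map φ ≫ u0 Es E adj P P' Q σ G = u0 Es E adj P P' Q σ F ≫ Q.map (P'.map (Es.map φ)) := by
  have nat := σ.hom.naturality (Es.map φ)
  have nu := adj.unit.naturality φ
  dsimp only [Functor.comp_map, Functor.id_map, Functor.comp_obj, Functor.id_obj] at nat nu
  dsimp only [u0]
  rw [← P.map_comp_assoc, nu, P.map_comp_assoc, nat, Category.assoc]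

end u0

section u0vcomp

variable {A₀ A₁ A₂ B₀ B₁ B₂ : Type u} [Category.{v} A₀] [Category.{v} A₁] [Category.{v} A₂]
  [Category.{v} B₀] [Category.{v} B₁] [Category.{v} B₂]
  (P₀ : A₀ ⥤ B₀) (P₁ : A₁ ⥤ B₁) (P₂ : A₂ ⥤ B₂)
  (E₁s : A₀ ⥤ A₁) (E₁ : A₁ ⥤ A₀) (adj₁ : E₁s ⊣ E₁)
  (E₂s : A₁ ⥤ A₂) (E₂ : A₂ ⥤ A₁) (adj₂ : E₂s ⊣ E₂)
  (E's : A₀ ⥤ A₂) (E' : A₂ ⥤ A₀) (adj' : E's ⊣ E')
  (Q₁ : B₁ ⥤ B₀) (Q₂ : B₂ ⥤ B₁) (Q' : B₂ ⥤ B₀)
  (σ₁ : E₁ ⋙ P₀ ≅ P₁ ⋙ Q₁) (σ₂ : E₂ ⋙ P₁ ≅ P₂ ⋙ Q₂) (σ' : E' ⋙ P₀ ≅ P₂ ⋙ Q')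
  (a : E₂ ⋙ E₁ ≅ E') (c : Q₂ ⋙ Q₁ ≅ Q')
  (hcoh : ∀ M : A₂, P₀.map (a.hom.app M) ≫ σ'.hom.app M =
      σ₁.hom.app (E₂.obj M) ≫ Q₁.map (σ₂.hom.app M) ≫ c.hom.app (P₂.obj M))

include hcoh in
theorem u0_vcomp (F : A₀) :
    u0 E's E' adj' P₀ P₂ Q' σ' F =
      u0 E₁s E₁ adj₁ P₀ P₁ Q₁ σ₁ F ≫
        Q₁.map (u0 E₂s E₂ adj₂ P₁ P₂ Q₂ σ₂ (E₁s.obj F)) ≫
        c.hom.app (P₂.obj (E₂s.obj (E₁s.obj F))) ≫
        Q'.map (P₂.map ((βiso adj₁ adj₂ adj' a).hom.app F)) := by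
  have n1 := σ'.hom.naturality ((βiso adj₁ adj₂ adj' a).hom.app F)
  have n2 := σ₁.hom.naturality (adj₂.unit.app (E₁s.obj F))
  dsimp only [Functor.comp_map, Functor.comp_obj] at n1 n2
  dsimp only [u0]
  rw [unit_eq adj₁ adj₂ adj' a F]
  simp only [Functor.map_comp, Category.assoc, Functor.comp_obj]
  rw [n1, reassoc_of% (hcoh (E₂s.obj (E₁s.obj F))), reassoc_of% n2]

include hcoh in
theorem u0_isoAdj_vcomp (F : A₀)
    (h1 : IsoAdj Q₁ (u0 E₁s E₁ adj₁ P₀ P₁ Q₁ σ₁ F))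
    (h2 : IsoAdj Q₂ (u0 E₂s E₂ adj₂ P₁ P₂ Q₂ σ₂ (E₁s.obj F))) :
    IsoAdj Q' (u0 E's E' adj' P₀ P₂ Q' σ' F) := by
  rw [u0_vcomp P₀ P₁ P₂ E₁s E₁ adj₁ E₂s E₂ adj₂ E's E' adj' Q₁ Q₂ Q' σ₁ σ₂ σ' a c hcoh F]
  have := ((h1.comp h2).of_iso c).comp_iso
    (P₂.map ((βiso adj₁ adj₂ adj' a).hom.app F))
  simpa only [Category.assoc] using this

end u0vcomp

section cancel

variable {B₀ B₁ B₂ : Type u} [Category.{v} B₀] [Category.{v} B₁] [Category.{v} B₂]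
  {Q₁ : B₁ ⥤ B₀} {Q₂ : B₂ ⥤ B₁} {Q' : B₂ ⥤ B₀} (c : Q₂ ⋙ Q₁ ≅ Q')

/-- from a pasting formula `uO = u₁ ≫ Q₁ u₂ ≫ c ≫ Q' b` with `b` invertible: if `uO` and `u₂` are
isomorphisms in adjoint form, then the transpose of `u₁` becomes an isomorphism after the second
left adjoint. -/
theorem isIso_map_of_pasting {Q₁s : B₀ ⥤ B₁} (adjQ₁ : Q₁s ⊣ Q₁) {Q₂s : B₁ ⥤ B₂} (adjQ₂ : Q₂s ⊣ Q₂)
    {M : B₀} {N₁ : B₁} {N N' : B₂} (uO : M ⟶ Q'.obj N') (u₁ : M ⟶ Q₁.obj N₁)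
    (u₂ : N₁ ⟶ Q₂.obj N) (b : N ⟶ N') [IsIso b]
    (hv : uO = u₁ ≫ Q₁.map u₂ ≫ c.hom.app N ≫ Q'.map b)
    (hO : IsoAdj Q' uO) (h2 : IsoAdj Q₂ u₂) :
    IsIso (Q₂s.map ((adjQ₁.homEquiv M N₁).symm u₁)) := by
  refine IsoAdj.cancel adjQ₁ adjQ₂ ?_ h2
  have h3 := (hO.comp_iso (inv b)).of_iso c.symm
  have e : (uO ≫ Q'.map (inv b)) ≫ c.symm.hom.app N = u₁ ≫ Q₁.map u₂ := by
    rw [hv]
    simp only [Category.assoc, Iso.symm_hom]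
    rw [← Q'.map_comp_assoc, IsIso.hom_inv_id, Q'.map_id, Category.id_comp, Iso.hom_inv_id_app]
    exact congrArg (fun t => u₁ ≫ t) (Category.comp_id _)
  rw [e] at h3
  exact h3

end cancel

end BcAbs

end Groth.Agent.Lib.helper27
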