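import Mathlib
import Groth.Prelude.Def_RDer
import Groth.Agent.Lib.Helper27.BcAbs4

set_option autoImplicit false
set_option linter.unusedVariables false
set_option linter.unusedSectionVars false

/-!
helper27: the abstract derived base change map `BcAbs.bcAdj` is an isomorphism (in adjoint form) in every
degree when the inverse images are exact, `Es` preserves injectives and the degree-zero base change map
is an isomorphism on injective objects ("localisation" case).
-/

namespace Groth.Agent.Lib.helper27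

open CategoryTheory Limits HomologicalComplex

universe v u

namespace BcAbs

section hcIso

variable {B C : Type u} [Category.{v} B] [Category.{v} C] [Abelian B] [Abelian C]
  (Ψ : B ⥤ C) [Ψ.Additive] [PreservesFiniteLimits Ψ]
  {ι' : Type*} {c : ComplexShape ι'} (K : HomologicalComplex B c) (i : ι')

/-- the comparison of cycles is an isomorphism for a left exact functor -/
instance isIso_cyclesComparison' : IsIso (RDer.cyclesComparison Ψ K i) := by
  let h1 := KernelFork.mapIsLimit _ (K.cyclesIsKernel i (c.next i) rfl) Ψ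
  let h2 := ((Ψ.mapHomologicalComplex c).obj K).cyclesIsKernel i (c.next i) rfl
  let e := IsLimit.conePointUniqueUpToIso h2 h1
  have : RDer.cyclesComparison Ψ K i = e.hom := by
    apply Fork.IsLimit.hom_ext h1
    erw [IsLimit.conePointUniqueUpToIso_hom_comp h2 h1 WalkingParallelPair.zero]
  rw [this]
  infer_instance

variable [PreservesFiniteColimits Ψ]

/-- the comparison of homology is an isomorphism for an exact functor -/
theorem isIso_homologyComparison_of_exact : IsIso (RDer.homologyComparison Ψ K i) := by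
  let L := (Ψ.mapHomologicalComplex c).obj K
  have h1 := CokernelCofork.mapIsColimit _ (K.homologyIsCokernel (c.prev i) i rfl) Ψ
  have e1 : L.toCycles (c.prev i) i ≫ RDer.cyclesComparison Ψ K i =
      Ψ.map (K.toCycles (c.prev i) i) := RDer.toCycles_cyclesComparison Ψ K i
  set κ := RDer.cyclesComparison Ψ K i with hκ
  have hcomp : L.homologyπ i ≫ RDer.homologyComparison Ψ K i = κ ≫ Ψ.map (K.homologyπ i) :=
    RDer.homologyπ_homologyComparison Ψ K i
  have w : Ψ.map (K.toCycles (c.prev i) i) ≫ (inv κ ≫ L.homologyπ i) = 0 := by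
    have h0 : (L.toCycles (c.prev i) i ≫ κ) ≫ (inv κ ≫ L.homologyπ i) = 0 := by
      rw [Category.assoc, IsIso.hom_inv_id_assoc, L.toCycles_comp_homologyπ]
    exact (congrArg (fun z => z ≫ (inv κ ≫ L.homologyπ i)) e1).symm.trans h0
  let inv' : Ψ.obj (K.homology i) ⟶ L.homology i :=
    h1.desc (CokernelCofork.ofπ (inv κ ≫ L.homologyπ i) w)
  have hinv' : Ψ.map (K.homologyπ i) ≫ inv' = inv κ ≫ L.homologyπ i :=
    h1.fac _ WalkingParallelPair.one
  refine ⟨inv', ?_, ?_⟩
  · rw [← cancel_epi (L.homologyπ i), reassoc_of% hcomp, hinv', IsIso.hom_inv_id_assoc,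
      Category.comp_id]
  · apply Cofork.IsColimit.hom_ext h1
    show Ψ.map (K.homologyπ i) ≫ inv' ≫ RDer.homologyComparison Ψ K i =
      Ψ.map (K.homologyπ i) ≫ 𝟙 _
    rw [reassoc_of% hinv', hcomp, IsIso.inv_hom_id_assoc, Category.comp_id]

end hcIso

section unithom

variable {B B' : Type u} [Category.{v} B] [Category.{v} B'] [Preadditive B] [Preadditive B']
  {Qs : B ⥤ B'} {Q : B' ⥤ B} (adjQ : Qs ⊣ Q) [Qs.Additive] [Q.Additive]
  {ι' : Type*} {c : ComplexShape ι'}

/-- the unit as a morphism of complexes -/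
def unitHom (M : HomologicalComplex B c) :
    M ⟶ (Q.mapHomologicalComplex c).obj ((Qs.mapHomologicalComplex c).obj M) where
  f n := adjQ.unit.app (M.X n)
  comm' i j _ := by
    have := adjQ.unit.naturality (M.d i j)
    dsimp at this ⊢
    exact this.symm

@[simp]
lemma unitHom_f (M : HomologicalComplex B c) (n : ι') :
    (unitHom adjQ M).f n = adjQ.unit.app (M.X n) := rfl

end unithom

section adjhom

variable {B B' : Type u} [Category.{v} B] [Category.{v} B'] [Abelian B] [Abelian B']
  {Qs : B ⥤ B'} {Q : B' ⥤ B} (adjQ : Qs ⊣ Q) [Qs.Additive] [Q.Additive]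
  [PreservesFiniteLimits Qs] [PreservesFiniteLimits Q]
  {ι' : Type*} {c : ComplexShape ι'}

lemma unit_cycles (M : HomologicalComplex B c) (i : ι') :
    cyclesMap (unitHom adjQ M) i ≫
      RDer.cyclesComparison Q ((Qs.mapHomologicalComplex c).obj M) i ≫
        Q.map (RDer.cyclesComparison Qs M i) = adjQ.unit.app (M.cycles i) := by
  have hm : Mono (Q.map (Qs.map (M.iCycles i))) := inferInstance
  rw [← cancel_mono (Q.map (Qs.map (M.iCycles i)))]
  have e0 : RDer.cyclesComparison Qs M i ≫ Qs.map (M.iCycles i) =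
      ((Qs.mapHomologicalComplex c).obj M).iCycles i := RDer.cyclesComparison_i Qs M i
  have e1 := RDer.cyclesComparison_i Q ((Qs.mapHomologicalComplex c).obj M) i
  have e2 := cyclesMap_i (unitHom adjQ M) i
  have e3 := adjQ.unit.naturality (M.iCycles i)
  refine (Category.assoc _ _ _).trans ?_
  refine (congrArg (fun t => cyclesMap (unitHom adjQ M) i ≫ t) ((Category.assoc _ _ _).trans
    (congrArg (fun t => RDer.cyclesComparison Q ((Qs.mapHomologicalComplex c).obj M) i ≫ t)
      ((Q.map_comp _ _).symm.trans (congrArg (fun t => Q.map t) e0))))).trans ?_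
  refine (congrArg (fun t => cyclesMap (unitHom adjQ M) i ≫ t) e1).trans ?_
  exact e2.trans e3

lemma unit_homology (M : HomologicalComplex B c) (i : ι') :
    homologyMap (unitHom adjQ M) i ≫
      RDer.homologyComparison Q ((Qs.mapHomologicalComplex c).obj M) i ≫
        Q.map (RDer.homologyComparison Qs M i) = adjQ.unit.app (M.homology i) := by
  rw [← cancel_epi (M.homologyπ i)]
  have e0 : ((Qs.mapHomologicalComplex c).obj M).homologyπ i ≫ RDer.homologyComparison Qs M i =
      RDer.cyclesComparison Qs M i ≫ Qs.map (M.homologyπ i) :=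
    RDer.homologyπ_homologyComparison Qs M i
  have e1 := RDer.homologyπ_homologyComparison Q ((Qs.mapHomologicalComplex c).obj M) i
  have e2 := homologyπ_naturality (unitHom adjQ M) i
  have e3 := adjQ.unit.naturality (M.homologyπ i)
  have e4 := unit_cycles adjQ M i
  -- π ≫ H(unit) ≫ hcQ ≫ Q hcQs = cyc(unit) ≫ π' ≫ hcQ ≫ Q hcQs
  refine (Category.assoc _ _ _).symm.trans ?_
  refine (congrArg (fun t => t ≫ RDer.homologyComparison Q ((Qs.mapHomologicalComplex c).obj M) i ≫
    Q.map (RDer.homologyComparison Qs M i)) e2).trans ?_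
  refine (Category.assoc _ _ _).trans ?_
  refine (congrArg (fun t => cyclesMap (unitHom adjQ M) i ≫ t) ((Category.assoc _ _ _).symm.trans
    ((congrArg (fun t => t ≫ Q.map (RDer.homologyComparison Qs M i)) e1).trans
      ((Category.assoc _ _ _).trans
        (congrArg (fun t => RDer.cyclesComparison Q ((Qs.mapHomologicalComplex c).obj M) i ≫ t)
          (((Q.map_comp _ _).symm.trans (congrArg (fun t => Q.map t) e0)).trans
            (Q.map_comp _ _))))))).trans ?_
  -- cyc(unit) ≫ cycQ ≫ Q cycQs ≫ Q Qs π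
  refine (congrArg (fun t => cyclesMap (unitHom adjQ M) i ≫ t) (Category.assoc _ _ _).symm).trans ?_
  refine (Category.assoc _ _ _).symm.trans ?_
  refine (congrArg (fun t => t ≫ Q.map (Qs.map (M.homologyπ i))) e4).trans ?_
  exact e3.symm

/-- the transposed chain map -/
def transposeHom {M : HomologicalComplex B c} {K : HomologicalComplex B' c}
    (U : M ⟶ (Q.mapHomologicalComplex c).obj K) : (Qs.mapHomologicalComplex c).obj M ⟶ K where
  f n := (adjQ.homEquiv _ _).symm (U.f n)
  comm' i j _ := by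
    exact ((adjQ.homEquiv_naturality_left_symm (M.d i j) (U.f j)).symm.trans
      ((congrArg (adjQ.homEquiv _ _).symm (U.comm i j).symm).trans
        (adjQ.homEquiv_naturality_right_symm (U.f i) (K.d i j)))).symm

lemma unitHom_comp_transposeHom {M : HomologicalComplex B c} {K : HomologicalComplex B' c}
    (U : M ⟶ (Q.mapHomologicalComplex c).obj K) :
    unitHom adjQ M ≫ (Q.mapHomologicalComplex c).map (transposeHom adjQ U) = U := by
  ext n
  exact (Adjunction.homEquiv_unit adjQ (M.X n) (K.X n) ((adjQ.homEquiv _ _).symm (U.f n))).symm.trans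
    (Equiv.apply_symm_apply _ _)

variable [PreservesFiniteColimits Qs]

/-- **Key lemma**: a chain map `U : M ⟶ Q K` whose components are isomorphisms in adjoint form induces
isomorphisms in adjoint form `H^i(M) ⟶ Q (H^i K)`. -/
theorem isoAdj_homologyMap {M : HomologicalComplex B c} {K : HomologicalComplex B' c}
    (U : M ⟶ (Q.mapHomologicalComplex c).obj K)
    (hU : ∀ n, IsIso ((adjQ.homEquiv _ _).symm (U.f n))) (i : ι') :
    IsoAdj Q (homologyMap U i ≫ RDer.homologyComparison Q K i) := by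
  have hV : ∀ n, IsIso ((transposeHom adjQ U).f n) := hU
  have hV' : IsIso (transposeHom adjQ U) := HomologicalComplex.Hom.isIso_of_components _
  have hc : IsIso (RDer.homologyComparison Qs M i) := isIso_homologyComparison_of_exact Qs M i
  have e1 := unit_homology adjQ M i
  have e2 := homologyComparison_naturality Q (transposeHom adjQ U) i
  have e3 : homologyMap U i = homologyMap (unitHom adjQ M) i ≫
      homologyMap ((Q.mapHomologicalComplex c).map (transposeHom adjQ U)) i := by
    rw [← homologyMap_comp, unitHom_comp_transposeHom]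
  have e4 : homologyMap (unitHom adjQ M) i ≫
      RDer.homologyComparison Q ((Qs.mapHomologicalComplex c).obj M) i =
        adjQ.unit.app (M.homology i) ≫ Q.map (inv (RDer.homologyComparison Qs M i)) := by
    rw [← e1]
    simp only [Category.assoc]
    rw [← Q.map_comp, IsIso.hom_inv_id, Q.map_id]
    exact (congrArg (fun t => homologyMap (unitHom adjQ M) i ≫ t) (Category.comp_id _)).symm
  have e5 : homologyMap U i ≫ RDer.homologyComparison Q K i =
      adjQ.unit.app (M.homology i) ≫ Q.map (inv (RDer.homologyComparison Qs M i) ≫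
        homologyMap (transposeHom adjQ U) i) := by
    rw [e3, Category.assoc, e2, reassoc_of% e4, ← Q.map_comp]
  rw [e5]
  exact isoAdj_unit_comp adjQ _ _

end adjhom

section aux

variable {C D : Type u} [Category.{v} C] [Category.{v} D] (Q : D ⥤ C)

lemma final_aux5 {M N₀ N₁ N₂ : C} {T₁ T₂ R : D} (a : M ⟶ N₀) (x : N₀ ⟶ N₁) (y : N₁ ⟶ N₂)
    (hJ : N₂ ⟶ Q.obj T₂) (hK : N₁ ⟶ Q.obj T₁) (z : T₁ ⟶ T₂) (jinv : T₂ ⟶ R) (kinv : T₁ ⟶ R)
    (e2 : y ≫ hJ = hK ≫ Q.map z) (e3 : kinv = z ≫ jinv) :
    (a ≫ x ≫ hK) ≫ Q.map kinv = a ≫ (x ≫ y) ≫ hJ ≫ Q.map jinv := by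
  subst e3
  simp only [Category.assoc, Functor.map_comp]
  rw [reassoc_of% e2]

end aux

section main

variable {A A' B B' : Type u} [Category.{v} A] [Category.{v} A'] [Category.{v} B] [Category.{v} B']
  [Abelian A] [Abelian A'] [Abelian B] [Abelian B']
  [HasInjectiveResolutions A] [HasInjectiveResolutions A']
  (Es : A ⥤ A') (E : A' ⥤ A) (adj : Es ⊣ E) [E.Additive] [E.PreservesInjectiveObjects]
  [Es.Additive] [PreservesFiniteLimits Es] [PreservesFiniteColimits Es]
  [Es.PreservesInjectiveObjects]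
  (P : A ⥤ B) [P.Additive] (P' : A' ⥤ B') [P'.Additive] (Q : B' ⥤ B) [Q.Additive]
  [PreservesFiniteLimits Q] (σ : E ⋙ P ≅ P' ⋙ Q)
  {Qs : B ⥤ B'} (adjQ : Qs ⊣ Q) [Qs.Additive] [PreservesFiniteLimits Qs] [PreservesFiniteColimits Qs]

/-- `Es I` as an injective resolution of `Es F`, for `Es` exact and preserving injectives -/
noncomputable def mapResExact {F : A} (I : InjectiveResolution F) :
    InjectiveResolution (Es.obj F) where
  cocomplex := (Es.mapHomologicalComplex _).obj I.cocomplex
  injective n := Es.injective_obj _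
  ι := RDer.mapAug Es I.ι
  quasiIso := by
    have : QuasiIso ((Es.mapHomologicalComplex _).map I.ι) := inferInstance
    dsimp only [RDer.mapAug]
    infer_instance

/-- the chain map with components `u0` -/
noncomputable def u0Hom (K : CochainComplex A ℕ) :
    (P.mapHomologicalComplex _).obj K ⟶ (Q.mapHomologicalComplex _).obj
      ((P'.mapHomologicalComplex _).obj ((Es.mapHomologicalComplex _).obj K)) where
  f n := u0 Es E adj P P' Q σ (K.X n)
  comm' i j _ := (u0_naturality Es E adj P P' Q σ (K.d i j)).symm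

omit [HasInjectiveResolutions A] [HasInjectiveResolutions A'] [E.PreservesInjectiveObjects]
  [PreservesFiniteLimits Es] [PreservesFiniteColimits Es] [Es.PreservesInjectiveObjects] in
lemma ι_unit_lift {F : A} (I : InjectiveResolution F) (J : InjectiveResolution (Es.obj F))
    (φ : (Es.mapHomologicalComplex _).obj I.cocomplex ⟶ J.cocomplex)
    (hφ : Es.map (I.ι.f 0) ≫ φ.f 0 = J.ι.f 0) :
    I.ι ≫ (unitHom adj I.cocomplex ≫ (E.mapHomologicalComplex _).map φ) =
      (CochainComplex.single₀ A).map (adj.unit.app F) ≫ RDer.mapAug E J.ι := by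
  apply HomologicalComplex.from_single_hom_ext (j := 0)
  rw [HomologicalComplex.comp_f, HomologicalComplex.comp_f, HomologicalComplex.comp_f,
    mapAug_f_zero, CochainComplex.single₀_map_f_zero, unitHom_f,
    Functor.mapHomologicalComplex_map_f]
  have n1 := adj.unit.naturality (I.ι.f 0)
  refine (Category.assoc _ _ _).symm.trans ?_
  refine (congrArg (fun t => t ≫ E.map (φ.f 0)) n1).trans ?_
  refine (Category.assoc _ _ _).trans ?_
  refine congrArg (fun t => adj.unit.app _ ≫ t) ?_
  exact (E.map_comp _ _).symm.trans (congrArg (fun t => E.map t) hφ)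

omit [PreservesFiniteLimits Es] [PreservesFiniteColimits Es] [Es.PreservesInjectiveObjects] in
lemma chainOf_unit_lift (F : A)
    (φ : (Es.mapHomologicalComplex _).obj (injectiveResolution F).cocomplex ⟶
      (injectiveResolution (Es.obj F)).cocomplex) :
    chainOf Es E P P' Q σ F (unitHom adj (injectiveResolution F).cocomplex ≫
        (E.mapHomologicalComplex _).map φ) =
      u0Hom Es E adj P P' Q σ (injectiveResolution F).cocomplex ≫
        (Q.mapHomologicalComplex _).map ((P'.mapHomologicalComplex _).map φ) := by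
  ext n
  have nat := σ.hom.naturality (φ.f n)
  dsimp only [Functor.comp_map] at nat
  show P.map (adj.unit.app _ ≫ E.map (φ.f n)) ≫ σ.hom.app _ =
    (P.map (adj.unit.app _) ≫ σ.hom.app _) ≫ Q.map (P'.map (φ.f n))
  rw [P.map_comp, Category.assoc, Category.assoc]
  exact congrArg (fun t => P.map (adj.unit.app _) ≫ t) nat

include adjQ in
theorem isoAdj_bcAdj_of_exact
    (h0 : ∀ I : A, Injective I → IsoAdj Q (u0 Es E adj P P' Q σ I)) (q : ℕ) (F : A) :
    IsoAdj Q (bcAdj Es E adj P P' Q σ q F) := by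
  obtain ⟨φ, hφ⟩ : ∃ φ : (Es.mapHomologicalComplex _).obj (injectiveResolution F).cocomplex ⟶
      (injectiveResolution (Es.obj F)).cocomplex,
      Es.map ((injectiveResolution F).ι.f 0) ≫ φ.f 0 = (injectiveResolution (Es.obj F)).ι.f 0 := by
    refine ⟨InjectiveResolution.desc (𝟙 _) (injectiveResolution (Es.obj F))
      (mapResExact Es (injectiveResolution F)), ?_⟩
    have h := InjectiveResolution.desc_commutes_zero (𝟙 _) (injectiveResolution (Es.obj F))
      (mapResExact Es (injectiveResolution F))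
    have hK : (mapResExact Es (injectiveResolution F)).ι.f 0 =
        Es.map ((injectiveResolution F).ι.f 0) := mapAug_f_zero Es (injectiveResolution F).ι
    rw [hK, Category.id_comp] at h
    exact h
  rw [bcAdj_eq Es E adj P P' Q σ q F _
    (ι_unit_lift Es E adj (injectiveResolution F) (injectiveResolution (Es.obj F)) φ hφ),
    chainOf_unit_lift Es E adj P P' Q σ F φ]
  have e2 := homologyComparison_naturality Q ((P'.mapHomologicalComplex _).map φ) q
  have e3 := InjectiveResolution.isoRightDerivedObj_inv_naturality (𝟙 _)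
    (mapResExact Es (injectiveResolution F)) (injectiveResolution (Es.obj F)) φ
    (by
      have hK : (mapResExact Es (injectiveResolution F)).ι.f 0 =
        Es.map ((injectiveResolution F).ι.f 0) := mapAug_f_zero Es (injectiveResolution F).ι
      rw [hK, Category.id_comp]
      exact hφ) P' q
  have hU : ∀ n, IsIso ((adjQ.homEquiv _ _).symm
      ((u0Hom Es E adj P P' Q σ (injectiveResolution F).cocomplex).f n)) := by
    intro n
    exact (isoAdj_iff adjQ _).2 (h0 ((injectiveResolution F).cocomplex.X n)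
      ((injectiveResolution F).injective n))
  have main := ((isoAdj_homologyMap adjQ (u0Hom Es E adj P P' Q σ (injectiveResolution F).cocomplex)
    hU q).iso_comp ((injectiveResolution F).isoRightDerivedObj P q).hom).comp_iso
      (((mapResExact Es (injectiveResolution F)).isoRightDerivedObj P' q).inv ≫
        (P'.rightDerived q).map (𝟙 _))
  refine Eq.mp (congrArg (IsoAdj Q) ?_) main
  rw [homologyMap_comp]
  exact final_aux5 Q _ _ _ _ _ _ _ _ e2 e3

end main

section vcompIsoAdj

variable {A₀ A₁ A₂ B₀ B₁ B₂ : Type u} [Category.{v} A₀] [Category.{v} A₁] [Category.{v} A₂]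
  [Category.{v} B₀] [Category.{v} B₁] [Category.{v} B₂]
  [Abelian A₀] [Abelian A₁] [Abelian A₂] [Abelian B₀] [Abelian B₁] [Abelian B₂]
  [HasInjectiveResolutions A₀] [HasInjectiveResolutions A₁] [HasInjectiveResolutions A₂]
  (P₀ : A₀ ⥤ B₀) [P₀.Additive] (P₁ : A₁ ⥤ B₁) [P₁.Additive] (P₂ : A₂ ⥤ B₂) [P₂.Additive]
  (E₁s : A₀ ⥤ A₁) (E₁ : A₁ ⥤ A₀) (adj₁ : E₁s ⊣ E₁) [E₁.Additive] [E₁.PreservesInjectiveObjects]
  (E₂s : A₁ ⥤ A₂) (E₂ : A₂ ⥤ A₁) (adj₂ : E₂s ⊣ E₂) [E₂.Additive] [E₂.PreservesInjectiveObjects]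
  (E's : A₀ ⥤ A₂) (E' : A₂ ⥤ A₀) (adj' : E's ⊣ E') [E'.Additive] [E'.PreservesInjectiveObjects]
  (Q₁ : B₁ ⥤ B₀) [Q₁.Additive] [PreservesFiniteLimits Q₁]
  (Q₂ : B₂ ⥤ B₁) [Q₂.Additive] [PreservesFiniteLimits Q₂]
  (Q' : B₂ ⥤ B₀) [Q'.Additive] [PreservesFiniteLimits Q']
  (σ₁ : E₁ ⋙ P₀ ≅ P₁ ⋙ Q₁) (σ₂ : E₂ ⋙ P₁ ≅ P₂ ⋙ Q₂) (σ' : E' ⋙ P₀ ≅ P₂ ⋙ Q')
  (a : E₂ ⋙ E₁ ≅ E') (c : Q₂ ⋙ Q₁ ≅ Q') (q : ℕ)
  (hcoh : ∀ M : A₂, P₀.map (a.hom.app M) ≫ σ'.hom.app M =
      σ₁.hom.app (E₂.obj M) ≫ Q₁.map (σ₂.hom.app M) ≫ c.hom.app (P₂.obj M))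

include hcoh in
theorem bcAdj_isoAdj_vcomp (F : A₀)
    (h1 : IsoAdj Q₁ (bcAdj E₁s E₁ adj₁ P₀ P₁ Q₁ σ₁ q F))
    (h2 : IsoAdj Q₂ (bcAdj E₂s E₂ adj₂ P₁ P₂ Q₂ σ₂ q (E₁s.obj F))) :
    IsoAdj Q' (bcAdj E's E' adj' P₀ P₂ Q' σ' q F) := by
  rw [bcAdj_vcomp P₀ P₁ P₂ E₁s E₁ adj₁ E₂s E₂ adj₂ E's E' adj' Q₁ Q₂ Q' σ₁ σ₂ σ' a c q hcoh F]
  have := ((h1.comp h2).of_iso c).comp_iso
    ((P₂.rightDerived q).map ((βiso adj₁ adj₂ adj' a).hom.app F))
  simpa only [Category.assoc] using this

end vcompIsoAdj

end BcAbs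

end Groth.Agent.Lib.helper27
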