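import Mathlib
import Groth.Prelude.Def_RDer
import Groth.Agent.Lib.Helper27.BcAbs2

set_option autoImplicit false
set_option linter.unusedVariables false
set_option linter.unusedSectionVars false

/-!
helper27: the abstract base change map `bcAdj` computed with arbitrary injective resolutions, and
its naturality.
-/

namespace Groth.Agent.Lib.helper27

open CategoryTheory Limits HomologicalComplex

universe v u

namespace BcAbs

section aux

variable {C : Type*} [Category C]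

lemma aux4 {X0 X1 X2 X3 Y Z : C} (x : X0 ⟶ X1) (y : X1 ⟶ X2) (u : X2 ⟶ X3) (s₂ : X3 ⟶ Z)
    (s₁ : X2 ⟶ Y) (w : Y ⟶ Z) (h : u ≫ s₂ = s₁ ≫ w) :
    x ≫ y ≫ u ≫ s₂ = x ≫ (y ≫ s₁) ≫ w := by
  rw [h, Category.assoc]

lemma iso_aux {X Y Z : C} (e₁ : X ≅ Y) (e₂ : X ≅ Z) (m : Z ⟶ Y) (h : e₁.hom = e₂.hom ≫ m) :
    m ≫ e₁.inv = e₂.inv := by
  rw [← cancel_epi e₂.hom, ← Category.assoc, ← h, Iso.hom_inv_id, Iso.hom_inv_id]

lemma final_aux6 {X0 X1 X2 X3 X4 X5 X6 Y5 : C} (i0 : X0 ⟶ X1) (ma : X1 ⟶ X2) (mθ : X2 ⟶ X3)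
    (mb : X3 ⟶ X4) (hcG : X4 ⟶ X5) (qG : X5 ⟶ X6) (i : X0 ⟶ X2) (hc' : X3 ⟶ Y5) (qm : Y5 ⟶ X5)
    (q' : Y5 ⟶ X6) (h1 : i0 ≫ ma = i) (h2 : mb ≫ hcG = hc' ≫ qm) (h3 : qm ≫ qG = q') :
    i0 ≫ (ma ≫ mθ ≫ mb) ≫ hcG ≫ qG = i ≫ mθ ≫ hc' ≫ q' := by
  subst h1 h3
  simp only [Category.assoc]
  rw [reassoc_of% h2]

lemma w_aux {Y X1 X2 W Y2 V1 V2 Z1 : C} (i1 : Y ⟶ X1) (φ : X1 ⟶ X2) (t2 : X2 ⟶ W) (f : Y ⟶ Y2)
    (i2 : Y2 ⟶ X2) (hφ : i1 ≫ φ = f ≫ i2) (u2 : Y2 ⟶ V2) (e2 : V2 ⟶ W) (h2 : i2 ≫ t2 = u2 ≫ e2)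
    (t1 : X1 ⟶ Z1) (eφ : Z1 ⟶ W) (u1 : Y ⟶ V1) (e1 : V1 ⟶ Z1) (h1 : i1 ≫ t1 = u1 ≫ e1)
    (ef : V1 ⟶ V2) (hn : f ≫ u2 = u1 ≫ ef) (hE : e1 ≫ eφ = ef ≫ e2) :
    i1 ≫ φ ≫ t2 = i1 ≫ t1 ≫ eφ := by
  rw [reassoc_of% hφ, h2, reassoc_of% hn, ← hE, reassoc_of% h1]

lemma iso_sq {X X' Y Y' : C} (e : X ≅ Y) (e' : X' ≅ Y') (r : X ⟶ X') (m : Y ⟶ Y')
    (h : r ≫ e'.hom = e.hom ≫ m) : m ≫ e'.inv = e.inv ≫ r := by
  rw [← cancel_epi e.hom, ← reassoc_of% h, Iso.hom_inv_id, Category.comp_id, Iso.hom_inv_id_assoc]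

lemma nat_aux2 {X0 X1 X2 X3 X4 X5 Y1 Y3 Y4 Y5 : C} (r : X0 ⟶ X1) (i2 : X1 ⟶ X2) (m2 : X2 ⟶ X3)
    (h2 : X3 ⟶ X4) (j2 : X4 ⟶ X5) (i1 : X0 ⟶ Y1) (pφ : Y1 ⟶ X2) (hr : r ≫ i2 = i1 ≫ pφ)
    (m1 : Y1 ⟶ Y3) (qφ : Y3 ⟶ X3) (hm : pφ ≫ m2 = m1 ≫ qφ)
    (h1 : Y3 ⟶ Y4) (k : Y4 ⟶ X4) (hh : qφ ≫ h2 = h1 ≫ k) (j1 : Y4 ⟶ Y5) (l : Y5 ⟶ X5)
    (hj : k ≫ j2 = j1 ≫ l) :
    r ≫ i2 ≫ m2 ≫ h2 ≫ j2 = (i1 ≫ m1 ≫ h1 ≫ j1) ≫ l := by
  rw [reassoc_of% hr, reassoc_of% hm, reassoc_of% hh, hj]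
  simp only [Category.assoc]

end aux

section BcAdj'

variable {A A' B B' : Type u} [Category.{v} A] [Category.{v} A'] [Category.{v} B] [Category.{v} B']
  [Abelian A] [Abelian A'] [Abelian B] [Abelian B']
  [HasInjectiveResolutions A] [HasInjectiveResolutions A']
  (Es : A ⥤ A') (E : A' ⥤ A) (adj : Es ⊣ E) [E.Additive] [E.PreservesInjectiveObjects]
  (P : A ⥤ B) [P.Additive] (P' : A' ⥤ B') [P'.Additive] (Q : B' ⥤ B) [Q.Additive]
  [PreservesFiniteLimits Q] (σ : E ⋙ P ≅ P' ⋙ Q) (q : ℕ)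

/-- the chain map `P I ⟶ Q P' I'` attached to a lift `θ : I ⟶ E I'`, for arbitrary complexes. -/
noncomputable def chainOf' {K : CochainComplex A ℕ} {K' : CochainComplex A' ℕ}
    (θ : K ⟶ (E.mapHomologicalComplex _).obj K') :
    (P.mapHomologicalComplex _).obj K ⟶
      (Q.mapHomologicalComplex _).obj ((P'.mapHomologicalComplex _).obj K') :=
  (P.mapHomologicalComplex _).map θ ≫ (NatTrans.mapHomologicalComplex σ.hom _).app K'

lemma chainOf'_f {K : CochainComplex A ℕ} {K' : CochainComplex A' ℕ}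
    (θ : K ⟶ (E.mapHomologicalComplex _).obj K') (n : ℕ) :
    (chainOf' E P P' Q σ θ).f n = P.map (θ.f n) ≫ σ.hom.app (K'.X n) := rfl

lemma chainOf'_comp {K₁ K₂ : CochainComplex A ℕ} {K₁' K₂' : CochainComplex A' ℕ}
    (a : K₁ ⟶ K₂) (θ : K₂ ⟶ (E.mapHomologicalComplex _).obj K₁') (b : K₁' ⟶ K₂') :
    chainOf' E P P' Q σ (a ≫ θ ≫ (E.mapHomologicalComplex _).map b) =
      (P.mapHomologicalComplex _).map a ≫ chainOf' E P P' Q σ θ ≫
        (Q.mapHomologicalComplex _).map ((P'.mapHomologicalComplex _).map b) := by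
  ext n
  have hn : P.map (E.map (b.f n)) ≫ σ.hom.app (K₂'.X n) =
      σ.hom.app (K₁'.X n) ≫ Q.map (P'.map (b.f n)) := σ.hom.naturality (b.f n)
  simp only [chainOf'_f, HomologicalComplex.comp_f, Functor.mapHomologicalComplex_map_f,
    CategoryTheory.Functor.map_comp, Category.assoc]
  exact aux4 _ _ _ _ _ _ hn

theorem bcAdj_eq' (F : A) (I : InjectiveResolution F) (I' : InjectiveResolution (Es.obj F))
    (θ : I.cocomplex ⟶ (E.mapHomologicalComplex _).obj I'.cocomplex)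
    (hθ : I.ι ≫ θ = (CochainComplex.single₀ A).map (adj.unit.app F) ≫ RDer.mapAug E I'.ι) :
    bcAdj Es E adj P P' Q σ q F =
      (I.isoRightDerivedObj P q).hom ≫ homologyMap (chainOf' E P P' Q σ θ) q ≫
        RDer.homologyComparison Q ((P'.mapHomologicalComplex _).obj I'.cocomplex) q ≫
        Q.map ((I'.isoRightDerivedObj P' q).inv) := by
  let IF := injectiveResolution F
  let IG := injectiveResolution (Es.obj F)
  let a : IF.cocomplex ⟶ I.cocomplex := InjectiveResolution.desc (𝟙 F) I IF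
  let b : I'.cocomplex ⟶ IG.cocomplex := InjectiveResolution.desc (𝟙 (Es.obj F)) IG I'
  have ha : IF.ι ≫ a = I.ι := by
    have := InjectiveResolution.desc_commutes (𝟙 F) I IF
    rw [CategoryTheory.Functor.map_id, Category.id_comp] at this
    exact this
  have hb : I'.ι ≫ b = IG.ι := by
    have := InjectiveResolution.desc_commutes (𝟙 (Es.obj F)) IG I'
    rw [CategoryTheory.Functor.map_id, Category.id_comp] at this
    exact this
  have hθ₀ : IF.ι ≫ (a ≫ θ ≫ (E.mapHomologicalComplex _).map b) =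
      (CochainComplex.single₀ A).map (adj.unit.app F) ≫ RDer.mapAug E IG.ι := by
    rw [← Category.assoc, ha, ← Category.assoc, hθ, Category.assoc]
    congr 1
    dsimp only [RDer.mapAug]
    rw [Category.assoc, ← Functor.map_comp, hb]
  have h0 := bcAdj_eq Es E adj P P' Q σ q F (a ≫ θ ≫ (E.mapHomologicalComplex _).map b) hθ₀
  have hc : chainOf Es E P P' Q σ F (a ≫ θ ≫ (E.mapHomologicalComplex _).map b) =
      chainOf' E P P' Q σ (a ≫ θ ≫ (E.mapHomologicalComplex _).map b) := rfl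
  rw [hc, chainOf'_comp, homologyMap_comp, homologyMap_comp] at h0
  -- the three compatibilities
  have h1 : (IF.isoRightDerivedObj P q).hom ≫ homologyMap ((P.mapHomologicalComplex _).map a) q =
      (I.isoRightDerivedObj P q).hom := by
    have := InjectiveResolution.isoRightDerivedObj_hom_naturality (𝟙 F) IF I a
      (by
        have := congrArg (fun t => t.f 0) ha
        simpa using this) P q
    rw [CategoryTheory.Functor.map_id, Category.id_comp] at this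
    exact this.symm
  have h2 : homologyMap ((Q.mapHomologicalComplex _).map ((P'.mapHomologicalComplex _).map b)) q ≫
      RDer.homologyComparison Q ((P'.mapHomologicalComplex _).obj IG.cocomplex) q =
      RDer.homologyComparison Q ((P'.mapHomologicalComplex _).obj I'.cocomplex) q ≫
        Q.map (homologyMap ((P'.mapHomologicalComplex _).map b) q) :=
    homologyComparison_naturality Q ((P'.mapHomologicalComplex _).map b) q
  have h3 : homologyMap ((P'.mapHomologicalComplex _).map b) q ≫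
      (IG.isoRightDerivedObj P' q).inv = (I'.isoRightDerivedObj P' q).inv := by
    have := InjectiveResolution.isoRightDerivedObj_hom_naturality (𝟙 (Es.obj F)) I' IG b
      (by
        have := congrArg (fun t => t.f 0) hb
        simpa using this) P' q
    rw [CategoryTheory.Functor.map_id, Category.id_comp] at this
    exact iso_aux (IG.isoRightDerivedObj P' q) (I'.isoRightDerivedObj P' q) _ this
  have h3' : Q.map (homologyMap ((P'.mapHomologicalComplex _).map b) q) ≫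
      Q.map ((IG.isoRightDerivedObj P' q).inv) = Q.map ((I'.isoRightDerivedObj P' q).inv) :=
    (Q.map_comp _ _).symm.trans (congrArg Q.map h3)
  refine h0.trans ?_
  exact final_aux6 _ _ _ _ _ _ _ _ _ _ h1 h2 h3'


lemma hθ_of_zero (F : A) (I : InjectiveResolution F) (I' : InjectiveResolution (Es.obj F))
    (θ : I.cocomplex ⟶ (E.mapHomologicalComplex _).obj I'.cocomplex)
    (h0 : I.ι.f 0 ≫ θ.f 0 = adj.unit.app F ≫ E.map (I'.ι.f 0)) :
    I.ι ≫ θ = (CochainComplex.single₀ A).map (adj.unit.app F) ≫ RDer.mapAug E I'.ι := by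
  apply HomologicalComplex.from_single_hom_ext (j := 0)
  rw [HomologicalComplex.comp_f, HomologicalComplex.comp_f, mapAug_f_zero, h0]
  congr 1
  exact (CochainComplex.single₀_map_f_zero _).symm

lemma zero_of_hθ (F : A) (I : InjectiveResolution F) (I' : InjectiveResolution (Es.obj F))
    (θ : I.cocomplex ⟶ (E.mapHomologicalComplex _).obj I'.cocomplex)
    (hθ : I.ι ≫ θ = (CochainComplex.single₀ A).map (adj.unit.app F) ≫ RDer.mapAug E I'.ι) :
    I.ι.f 0 ≫ θ.f 0 = adj.unit.app F ≫ E.map (I'.ι.f 0) := by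
  have e1 : (I.ι ≫ θ).f 0 =
      ((CochainComplex.single₀ A).map (adj.unit.app F) ≫ RDer.mapAug E I'.ι).f 0 :=
    congrArg (fun t => t.f 0) hθ
  have e2 : (RDer.mapAug E I'.ι).f 0 = E.map (I'.ι.f 0) := mapAug_f_zero E I'.ι
  have e3 : ((CochainComplex.single₀ A).map (adj.unit.app F)).f 0 = adj.unit.app F :=
    CochainComplex.single₀_map_f_zero _
  calc I.ι.f 0 ≫ θ.f 0 = (I.ι ≫ θ).f 0 := rfl
    _ = ((CochainComplex.single₀ A).map (adj.unit.app F)).f 0 ≫ (RDer.mapAug E I'.ι).f 0 := e1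
    _ = _ := congrArg₂ (· ≫ ·) e3 e2

/-- general form of the naturality of `bcAdj`, with arbitrary resolutions and lifts. -/
theorem bcAdj_nat' {F₁ F₂ : A} (f : F₁ ⟶ F₂)
    (I₁ : InjectiveResolution F₁) (I₂ : InjectiveResolution F₂)
    (I₁' : InjectiveResolution (Es.obj F₁)) (I₂' : InjectiveResolution (Es.obj F₂))
    (θ₁ : I₁.cocomplex ⟶ (E.mapHomologicalComplex _).obj I₁'.cocomplex)
    (h₁ : I₁.ι.f 0 ≫ θ₁.f 0 = adj.unit.app F₁ ≫ E.map (I₁'.ι.f 0))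
    (θ₂ : I₂.cocomplex ⟶ (E.mapHomologicalComplex _).obj I₂'.cocomplex)
    (h₂ : I₂.ι.f 0 ≫ θ₂.f 0 = adj.unit.app F₂ ≫ E.map (I₂'.ι.f 0))
    (φ : I₁.cocomplex ⟶ I₂.cocomplex) (hφ : I₁.ι.f 0 ≫ φ.f 0 = f ≫ I₂.ι.f 0)
    (φ' : I₁'.cocomplex ⟶ I₂'.cocomplex) (hφ' : I₁'.ι.f 0 ≫ φ'.f 0 = Es.map f ≫ I₂'.ι.f 0) :
    homologyMap (chainOf' E P P' Q σ (φ ≫ θ₂)) q =
      homologyMap (chainOf' E P P' Q σ (θ₁ ≫ (E.mapHomologicalComplex _).map φ')) q := by
  have : ∀ n, Injective (((E.mapHomologicalComplex (ComplexShape.up ℕ)).obj I₂'.cocomplex).X n) :=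
    fun n => inferInstanceAs (Injective (E.obj (I₂'.cocomplex.X n)))
  have w : I₁.ι ≫ (φ ≫ θ₂) = I₁.ι ≫ (θ₁ ≫ (E.mapHomologicalComplex _).map φ') := by
    apply HomologicalComplex.from_single_hom_ext (j := 0)
    simp only [HomologicalComplex.comp_f, Functor.mapHomologicalComplex_map_f]
    exact w_aux _ _ _ _ _ hφ _ _ h₂ _ _ _ _ h₁ _ (adj.unit.naturality f)
      ((E.map_comp _ _).symm.trans ((congrArg E.map hφ').trans (E.map_comp _ _)))
  have := homologyMap_map_eq I₁.cocomplex I₁.ι _ P (φ ≫ θ₂)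
    (θ₁ ≫ (E.mapHomologicalComplex _).map φ') w q
  dsimp only [chainOf']
  rw [homologyMap_comp, homologyMap_comp, this]


theorem bcAdj_naturality {F₁ F₂ : A} (f : F₁ ⟶ F₂) :
    (P.rightDerived q).map f ≫ bcAdj Es E adj P P' Q σ q F₂ =
      bcAdj Es E adj P P' Q σ q F₁ ≫ Q.map ((P'.rightDerived q).map (Es.map f)) := by
  let I₁ := injectiveResolution F₁
  let I₂ := injectiveResolution F₂
  let I₁' := injectiveResolution (Es.obj F₁)
  let I₂' := injectiveResolution (Es.obj F₂)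
  let θ₁ := lift E (adj.unit.app F₁) I₁.cocomplex I₁.ι I₁'
  let θ₂ := lift E (adj.unit.app F₂) I₂.cocomplex I₂.ι I₂'
  have hθ₁ : I₁.ι ≫ θ₁ = (CochainComplex.single₀ A).map (adj.unit.app F₁) ≫ RDer.mapAug E I₁'.ι :=
    ι_lift E _ _ _ _
  have hθ₂ : I₂.ι ≫ θ₂ = (CochainComplex.single₀ A).map (adj.unit.app F₂) ≫ RDer.mapAug E I₂'.ι :=
    ι_lift E _ _ _ _
  let φ : I₁.cocomplex ⟶ I₂.cocomplex := InjectiveResolution.desc f I₂ I₁
  let φ' : I₁'.cocomplex ⟶ I₂'.cocomplex := InjectiveResolution.desc (Es.map f) I₂' I₁'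
  have hφ : I₁.ι.f 0 ≫ φ.f 0 = f ≫ I₂.ι.f 0 := InjectiveResolution.desc_commutes_zero _ _ _
  have hφ' : I₁'.ι.f 0 ≫ φ'.f 0 = Es.map f ≫ I₂'.ι.f 0 :=
    InjectiveResolution.desc_commutes_zero _ _ _
  have key := bcAdj_nat' Es E adj P P' Q σ q f I₁ I₂ I₁' I₂' θ₁ (zero_of_hθ Es E adj _ _ _ _ hθ₁)
    θ₂ (zero_of_hθ Es E adj _ _ _ _ hθ₂) φ hφ φ' hφ'
  have c1 : chainOf' E P P' Q σ (φ ≫ θ₂) =
      (P.mapHomologicalComplex _).map φ ≫ chainOf' E P P' Q σ θ₂ := by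
    dsimp only [chainOf']
    rw [Functor.map_comp, Category.assoc]
  have c2 : chainOf' E P P' Q σ (θ₁ ≫ (E.mapHomologicalComplex _).map φ') =
      chainOf' E P P' Q σ θ₁ ≫
        (Q.mapHomologicalComplex _).map ((P'.mapHomologicalComplex _).map φ') := by
    have := chainOf'_comp E P P' Q σ (𝟙 _) θ₁ φ'
    rw [Category.id_comp, CategoryTheory.Functor.map_id, Category.id_comp] at this
    exact this
  rw [c1, c2, homologyMap_comp, homologyMap_comp] at key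
  rw [bcAdj_eq' Es E adj P P' Q σ q F₂ I₂ I₂' θ₂ hθ₂, bcAdj_eq' Es E adj P P' Q σ q F₁ I₁ I₁' θ₁ hθ₁]
  have h1 : (P.rightDerived q).map f ≫ (I₂.isoRightDerivedObj P q).hom =
      (I₁.isoRightDerivedObj P q).hom ≫ homologyMap ((P.mapHomologicalComplex _).map φ) q :=
    InjectiveResolution.isoRightDerivedObj_hom_naturality f I₁ I₂ φ hφ P q
  have h2 : homologyMap ((Q.mapHomologicalComplex _).map ((P'.mapHomologicalComplex _).map φ')) q ≫
      RDer.homologyComparison Q ((P'.mapHomologicalComplex _).obj I₂'.cocomplex) q =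
      RDer.homologyComparison Q ((P'.mapHomologicalComplex _).obj I₁'.cocomplex) q ≫
        Q.map (homologyMap ((P'.mapHomologicalComplex _).map φ') q) :=
    homologyComparison_naturality Q ((P'.mapHomologicalComplex _).map φ') q
  have h3 : homologyMap ((P'.mapHomologicalComplex _).map φ') q ≫
      (I₂'.isoRightDerivedObj P' q).inv =
      (I₁'.isoRightDerivedObj P' q).inv ≫ (P'.rightDerived q).map (Es.map f) := by
    have := InjectiveResolution.isoRightDerivedObj_hom_naturality (Es.map f) I₁' I₂' φ' hφ' P' q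
    exact iso_sq (I₁'.isoRightDerivedObj P' q) (I₂'.isoRightDerivedObj P' q) _ _ this
  have h3' : Q.map (homologyMap ((P'.mapHomologicalComplex _).map φ') q) ≫
      Q.map ((I₂'.isoRightDerivedObj P' q).inv) =
      Q.map ((I₁'.isoRightDerivedObj P' q).inv) ≫ Q.map ((P'.rightDerived q).map (Es.map f)) :=
    (Q.map_comp _ _).symm.trans ((congrArg Q.map h3).trans (Q.map_comp _ _))
  exact nat_aux2 _ _ _ _ _ _ _ h1 _ _ key _ _ h2 _ _ h3'

end BcAdj'

end BcAbs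

end Groth.Agent.Lib.helper27
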