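import Mathlib
import Groth.Prelude.Def_RDerDelta
import Groth.Agent.Lib.Helper27.Horseshoe3
import Groth.Agent.Lib.Helper27.BcDelta1

set_option autoImplicit false
set_option linter.unusedSectionVars false
set_option linter.unusedVariables false

/-!
helper27: a generalisation of `Horseshoe.exists_morphism`: morphisms from a resolution of a short
exact sequence into an arbitrary degreewise split short exact sequence of complexes with injective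
first terms (no exactness of the target needed).
-/

namespace Groth.Agent.Lib.helper27

open CategoryTheory Limits

universe v u v' u'

namespace Horseshoe

variable {C : Type u} [Category.{v} C] [Abelian C]

lemma sq_aux {X Y UX UY V1 V2 : C} (f : X ⟶ Y) (uX : X ⟶ UX) (uY : Y ⟶ UY) (ef : UX ⟶ UY)
    (e1 : UX ⟶ V1) (t : V1 ⟶ V2) (e2 : UY ⟶ V2) (e : e1 ≫ t = ef ≫ e2) (n : f ≫ uY = uX ≫ ef) :
    (uX ≫ e1) ≫ t = f ≫ (uY ≫ e2) := by
  rw [Category.assoc, e, ← Category.assoc, ← n, Category.assoc]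

section Gen

variable {S : ShortComplex C} (T : RDer.SESRes S) (W : SplitSES C)

theorem exists_morphism' (hS : S.ShortExact) [∀ n, Injective (W.sc.X₁.X n)]
    (u₁ : S.X₁ ⟶ W.sc.X₁.X 0) (u₂ : S.X₂ ⟶ W.sc.X₂.X 0) (u₃ : S.X₃ ⟶ W.sc.X₃.X 0)
    (hu₁ : u₁ ≫ W.sc.f.f 0 = S.f ≫ u₂) (hu₂ : u₂ ≫ W.sc.g.f 0 = S.g ≫ u₃)
    (hu₂d : u₂ ≫ W.sc.X₂.d 0 1 = 0)
    (a : T.I₁.cocomplex ⟶ W.sc.X₁) (ha : ε₁ T ≫ a.f 0 = u₁)
    (c : T.I₃.cocomplex ⟶ W.sc.X₃) (hc : ε₃ T ≫ c.f 0 = u₃) :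
    ∃ Φ : T.cx ⟶ W.sc, Φ.τ₁ = a ∧ Φ.τ₃ = c := by
  have := hS.epi_g
  let m' : S.X₂ ⟶ W.sc.X₁.X 0 := u₂ ≫ W.r 0
  have F4' : S.f ≫ m' = u₁ := by
    dsimp only [m']
    rw [← Category.assoc, ← hu₁, Category.assoc, W.f_r, Category.comp_id]
  have F5' : m' ≫ W.sc.X₁.d 0 1 + S.g ≫ u₃ ≫ W.θ 0 = 0 := by
    have h0 : u₂ ≫ W.sc.X₂.d 0 1 ≫ W.r 1 = 0 := by
      rw [reassoc_of% hu₂d, zero_comp]
    have h2 := W.F2 0
    rw [h2, Preadditive.comp_add, reassoc_of% hu₂] at h0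
    rw [← h0]
    dsimp only [m']
    rw [Category.assoc]
  -- the map `k`
  let κ : S.X₂ ⟶ W.sc.X₁.X 0 := m' - m T ≫ a.f 0
  have hκ : S.f ≫ κ = 0 := by
    dsimp only [κ]
    rw [Preadditive.comp_sub, F4', F4_assoc, ha, sub_self]
  let k : S.X₃ ⟶ W.sc.X₁.X 0 := hS.exact.desc κ hκ
  have hk : S.g ≫ k = κ := hS.exact.g_desc κ hκ
  let ψ : ∀ n, T.I₃.cocomplex.X n ⟶ W.sc.X₁.X (n + 1) := fun n =>
    c.f n ≫ W.θ n - (toSplit T).θ n ≫ a.f (n + 1)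
  have hψ : ∀ n, T.I₃.cocomplex.d n (n + 1) ≫ ψ (n + 1) +
      ψ n ≫ W.sc.X₁.d (n + 1) (n + 1 + 1) = 0 := by
    intro n
    dsimp only [ψ]
    have e1 := (toSplit T).F3 n
    have e2 := W.F3 n
    change (toSplit T).θ n ≫ T.I₁.cocomplex.d (n + 1) (n + 1 + 1) +
      T.I₃.cocomplex.d n (n + 1) ≫ (toSplit T).θ (n + 1) = 0 at e1
    have e3 := c.comm n (n + 1)
    have e4 := a.comm (n + 1) (n + 1 + 1)
    simp only [Preadditive.comp_sub, Preadditive.sub_comp, Category.assoc]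
    rw [← reassoc_of% e3, e4]
    have e1' : T.I₃.cocomplex.d n (n + 1) ≫ (toSplit T).θ (n + 1) ≫ a.f (n + 1 + 1) =
        - (toSplit T).θ n ≫ T.I₁.cocomplex.d (n + 1) (n + 1 + 1) ≫ a.f (n + 1 + 1) := by
      rw [← Category.assoc, ← Category.assoc, eq_neg_of_add_eq_zero_right e1,
        Preadditive.neg_comp, Category.assoc]
    have e2' : c.f n ≫ W.sc.X₃.d n (n + 1) ≫ W.θ (n + 1) =
        - c.f n ≫ W.θ n ≫ W.sc.X₁.d (n + 1) (n + 1 + 1) := by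
      rw [eq_neg_of_add_eq_zero_right e2, Preadditive.comp_neg]
    rw [e1', e2']
    abel
  have hk2 : ε₃ T ≫ ψ 0 + k ≫ W.sc.X₁.d 0 1 = 0 := by
    rw [← cancel_epi S.g, comp_zero, Preadditive.comp_add, ← Category.assoc S.g k, hk]
    dsimp only [κ, ψ]
    simp only [Preadditive.comp_sub, Preadditive.sub_comp, Category.assoc]
    have e5 := F5 T
    have e6 := a.comm 0 1
    rw [e6, ← Category.assoc (m T), eq_neg_of_add_eq_zero_left e5,
      eq_neg_of_add_eq_zero_left F5', ← Category.assoc (ε₃ T), hc]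
    simp only [Preadditive.neg_comp, Category.assoc]
    abel
  have : Mono (ε₃ T) := inferInstanceAs (Mono (T.I₃.ι.f 0))
  obtain ⟨h, h0, hh⟩ := exists_lift_with_error
    (K := fun n => T.I₃.cocomplex.X n) (dK := fun n => T.I₃.cocomplex.d n (n + 1))
    (ι := ε₃ T) T.I₃.ι_f_zero_comp_complex_d
    (fun n => T.I₃.cocomplex.d_comp_d n (n + 1) (n + 2)) T.I₃.exact₀ T.I₃.exact_succ
    (fun n => W.sc.X₁.X n) (fun n => W.sc.X₁.d n (n + 1))
    (fun n => W.sc.X₁.d_comp_d n (n + 1) (n + 2)) ψ hψ k hk2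
  refine SplitSES.exists_middle (E := toSplit T) (E' := W) a c h ?_
  intro n
  change (toSplit T).θ n ≫ a.f (n + 1) + T.I₃.cocomplex.d n (n + 1) ≫ h (n + 1) =
      c.f n ≫ W.θ n + h n ≫ W.sc.X₁.d n (n + 1)
  rw [hh n]
  dsimp only [ψ]
  abel

end Gen

section MapSplit

variable {D : Type u'} [Category.{v'} D] [Abelian D]

/-- the image of a degreewise split short complex of complexes under an additive functor -/
noncomputable def SplitSES.map (W : SplitSES C) (Φ : C ⥤ D) [Φ.Additive] : SplitSES D where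
  sc := W.sc.map (Φ.mapHomologicalComplex _)
  σ n := (W.σ n).map Φ

lemma SplitSES.map_r (W : SplitSES C) (Φ : C ⥤ D) [Φ.Additive] (n : ℕ) :
    (W.map Φ).r n = Φ.map (W.r n) := rfl

lemma SplitSES.map_s (W : SplitSES C) (Φ : C ⥤ D) [Φ.Additive] (n : ℕ) :
    (W.map Φ).s n = Φ.map (W.s n) := rfl

lemma SplitSES.map_θ (W : SplitSES C) (Φ : C ⥤ D) [Φ.Additive] (n : ℕ) :
    (W.map Φ).θ n = Φ.map (W.θ n) := by
  dsimp only [SplitSES.θ]
  rw [SplitSES.map_r, SplitSES.map_s, Functor.map_comp, Functor.map_comp]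
  rfl

end MapSplit

section Strict

variable {A A' : Type u} [Category.{v} A] [Category.{v} A'] [Abelian A] [Abelian A']
  (Es : A ⥤ A') (E : A' ⥤ A) (adj : Es ⊣ E) [E.Additive] [E.PreservesInjectiveObjects]
  [Es.PreservesZeroMorphisms] [HasInjectiveResolutions A] [HasInjectiveResolutions A']

theorem exists_strict {S : ShortComplex A} (hS : S.ShortExact) (T : RDer.SESRes S)
    (T' : RDer.SESRes (S.map Es)) :
    ∃ Φ : T.cx ⟶ T'.cx.map (E.mapHomologicalComplex _),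
      (T.I₁.ι.f 0 ≫ Φ.τ₁.f 0 = adj.unit.app S.X₁ ≫ E.map (T'.I₁.ι.f 0)) ∧
      (T.I₃.ι.f 0 ≫ Φ.τ₃.f 0 = adj.unit.app S.X₃ ≫ E.map (T'.I₃.ι.f 0)) := by
  let W : SplitSES A := (toSplit T').map E
  have hW : ∀ n, Injective (W.sc.X₁.X n) := fun n =>
    inferInstanceAs (Injective (E.obj (T'.I₁.cocomplex.X n)))
  let a : T.I₁.cocomplex ⟶ W.sc.X₁ := BcAbs.lift E (adj.unit.app S.X₁) T.I₁.cocomplex T.I₁.ι T'.I₁
  let c : T.I₃.cocomplex ⟶ W.sc.X₃ := BcAbs.lift E (adj.unit.app S.X₃) T.I₃.cocomplex T.I₃.ι T'.I₃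
  have ha : ε₁ T ≫ a.f 0 = adj.unit.app S.X₁ ≫ E.map (ε₁ T') :=
    BcAbs.zero_of_hθ Es E adj S.X₁ T.I₁ T'.I₁ _ (BcAbs.ι_lift E _ _ _ _)
  have hc : ε₃ T ≫ c.f 0 = adj.unit.app S.X₃ ≫ E.map (ε₃ T') :=
    BcAbs.zero_of_hθ Es E adj S.X₃ T.I₃ T'.I₃ _ (BcAbs.ι_lift E _ _ _ _)
  have hu₁ : (adj.unit.app S.X₁ ≫ E.map (ε₁ T')) ≫ W.sc.f.f 0 =
      S.f ≫ (adj.unit.app S.X₂ ≫ E.map (ε₂ T')) := by
    have e : E.map (ε₁ T') ≫ E.map (T'.f.f 0) = E.map (Es.map S.f) ≫ E.map (ε₂ T') :=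
      (E.map_comp _ _).symm.trans ((congrArg E.map (ε₁_f T')).trans (E.map_comp _ _))
    have n := adj.unit.naturality S.f
    exact sq_aux _ _ _ _ _ _ _ e n
  have hu₂ : (adj.unit.app S.X₂ ≫ E.map (ε₂ T')) ≫ W.sc.g.f 0 =
      S.g ≫ (adj.unit.app S.X₃ ≫ E.map (ε₃ T')) := by
    have e : E.map (ε₂ T') ≫ E.map (T'.g.f 0) = E.map (Es.map S.g) ≫ E.map (ε₃ T') :=
      (E.map_comp _ _).symm.trans ((congrArg E.map (ε₂_g T')).trans (E.map_comp _ _))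
    have n := adj.unit.naturality S.g
    exact sq_aux _ _ _ _ _ _ _ e n
  have hu₂d : (adj.unit.app S.X₂ ≫ E.map (ε₂ T')) ≫ W.sc.X₂.d 0 1 = 0 := by
    have e : E.map (ε₂ T') ≫ E.map (T'.I₂.cocomplex.d 0 1) = 0 :=
      (E.map_comp _ _).symm.trans ((congrArg E.map (ε₂_d T')).trans (E.map_zero _ _))
    exact (Category.assoc _ _ _).trans ((congrArg (adj.unit.app S.X₂ ≫ ·) e).trans comp_zero)
  obtain ⟨Φ, h1, h3⟩ := exists_morphism' T W hS _ _ _ hu₁ hu₂ hu₂d a ha c hc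
  refine ⟨Φ, ?_, ?_⟩
  · rw [h1]
    exact ha
  · rw [h3]
    exact hc

end Strict

end Horseshoe

end Groth.Agent.Lib.helper27
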