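import Mathlib
import Groth.Prelude.Def_RDer
import Groth.Prelude.Def_RDerDelta
import Groth.Agent.Lib.Helper27.BcDelta2
import Groth.Agent.Lib.Helper27.Horseshoe5

set_option autoImplicit false
set_option linter.unusedSectionVars false
set_option linter.unusedVariables false

/-!
helper27: compatibility of the homology comparison map of a left exact functor with connecting
morphisms, and compatibility of the abstract base change map `bcAdj` with connecting morphisms.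
-/

namespace Groth.Agent.Lib.helper27

open CategoryTheory Limits HomologicalComplex

universe v u v' u'

namespace BcAbs

section SplitDelta

variable {B : Type u} [Category.{v} B] [Abelian B]
  {ι' : Type*} {c : ComplexShape ι'}
  {K : ShortComplex (HomologicalComplex B c)} (hK : K.ShortExact)
  (i j : ι') (hij : c.Rel i j)
  (s : K.X₃.X i ⟶ K.X₂.X i) (hs : s ≫ K.g.f i = 𝟙 _)
  (θ : K.X₃.X i ⟶ K.X₁.X j) (s' : K.X₃.X j ⟶ K.X₂.X j)
  (hθ : s ≫ K.X₂.d i j = θ ≫ K.f.f j + K.X₃.d i j ≫ s')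

include hK hθ in
lemma lift_cond : (K.X₃.iCycles i ≫ θ) ≫ K.X₁.d j (c.next j) = 0 := by
  have := hK.mono_f
  have hm : Mono (K.f.f (c.next j)) := inferInstance
  have hx₁ : (K.X₃.iCycles i ≫ θ) ≫ K.f.f j = (K.X₃.iCycles i ≫ s) ≫ K.X₂.d i j := by
    rw [Category.assoc, Category.assoc, hθ, Preadditive.comp_add, iCycles_d_assoc, zero_comp,
      add_zero]
  rw [← cancel_mono (K.f.f (c.next j)), Category.assoc, ← K.f.comm, ← Category.assoc, hx₁,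
    Category.assoc, d_comp_d, comp_zero, zero_comp]

include hs in
lemma π_δ_split :
    K.X₃.homologyπ i ≫ hK.δ i j hij =
      K.X₁.liftCycles (K.X₃.iCycles i ≫ θ) (c.next j) rfl (lift_cond hK i j θ s' (s := s) hθ) ≫
        K.X₁.homologyπ j := by
  have hx₁ : (K.X₃.iCycles i ≫ θ) ≫ K.f.f j = (K.X₃.iCycles i ≫ s) ≫ K.X₂.d i j := by
    rw [Category.assoc, Category.assoc, hθ, Preadditive.comp_add, iCycles_d_assoc, zero_comp,
      add_zero]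
  have h := hK.δ_eq i j hij (K.X₃.iCycles i) (K.X₃.iCycles_d i j) (K.X₃.iCycles i ≫ s)
    (by rw [Category.assoc, hs, Category.comp_id]) (K.X₃.iCycles i ≫ θ) hx₁ (c.next j) rfl
  have hid : K.X₃.liftCycles (K.X₃.iCycles i) j (c.next_eq' hij) (K.X₃.iCycles_d i j) = 𝟙 _ := by
    rw [← cancel_mono (K.X₃.iCycles i), liftCycles_i, Category.id_comp]
  rw [hid, Category.id_comp] at h
  exact h

end SplitDelta

section HCδ

section aux

variable {C : Type*} [Category C] {D : Type*} [Category D] (Q : C ⥤ D)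

lemma hcδ_aux {H3Q Z3Q Z1Q H1Q : D} {Z3 Z1 H3 H1 : C} (π3Q : Z3Q ⟶ H3Q) [Epi π3Q]
    (δQ : H3Q ⟶ H1Q) (hc1 : H1Q ⟶ Q.obj H1) (hc3 : H3Q ⟶ Q.obj H3) (δ : H3 ⟶ H1)
    (L : Z3Q ⟶ Z1Q) (π1Q : Z1Q ⟶ H1Q) (e2 : π3Q ≫ δQ = L ≫ π1Q) (π3 : Z3 ⟶ H3) (π1 : Z1 ⟶ H1)
    (L' : Z3 ⟶ Z1) (e1 : π3 ≫ δ = L' ≫ π1) (cc1 : Z1Q ⟶ Q.obj Z1) (cc3 : Z3Q ⟶ Q.obj Z3)
    (h1 : π1Q ≫ hc1 = cc1 ≫ Q.map π1) (h3 : π3Q ≫ hc3 = cc3 ≫ Q.map π3)
    (key : L ≫ cc1 = cc3 ≫ Q.map L') : δQ ≫ hc1 = hc3 ≫ Q.map δ := by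
  rw [← cancel_epi π3Q, reassoc_of% e2, h1, reassoc_of% key, reassoc_of% h3, ← Q.map_comp,
    ← Q.map_comp, e1]

lemma key_aux {Z3Q Z1Q : D} {Z3 Z1 X3 X1 : C} (L : Z3Q ⟶ Z1Q) (cc1 : Z1Q ⟶ Q.obj Z1)
    (cc3 : Z3Q ⟶ Q.obj Z3) (L' : Z3 ⟶ Z1) (i1 : Z1 ⟶ X1) [Mono (Q.map i1)] (i3 : Z3 ⟶ X3)
    (θ : X3 ⟶ X1) (i1Q : Z1Q ⟶ Q.obj X1) (i3Q : Z3Q ⟶ Q.obj X3)
    (hL : L ≫ i1Q = i3Q ≫ Q.map θ) (hL' : L' ≫ i1 = i3 ≫ θ) (hc1 : cc1 ≫ Q.map i1 = i1Q)
    (hc3 : cc3 ≫ Q.map i3 = i3Q) : L ≫ cc1 = cc3 ≫ Q.map L' := by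
  rw [← cancel_mono (Q.map i1), Category.assoc, hc1, hL, Category.assoc, ← Q.map_comp, hL',
    Q.map_comp, reassoc_of% hc3]

end aux

variable {B' : Type u} [Category.{v} B'] [Abelian B'] {B : Type u'} [Category.{v'} B] [Abelian B]
  (Q : B' ⥤ B) [Q.Additive] [PreservesFiniteLimits Q]
  {ι' : Type*} {c : ComplexShape ι'}
  {K : ShortComplex (HomologicalComplex B' c)} (hK : K.ShortExact)
  (hQK : (K.map (Q.mapHomologicalComplex c)).ShortExact)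
  (i j : ι') (hij : c.Rel i j)
  (s : K.X₃.X i ⟶ K.X₂.X i) (hs : s ≫ K.g.f i = 𝟙 _)
  (θ : K.X₃.X i ⟶ K.X₁.X j) (s' : K.X₃.X j ⟶ K.X₂.X j)
  (hθ : s ≫ K.X₂.d i j = θ ≫ K.f.f j + K.X₃.d i j ≫ s')

include hs hθ in
theorem δ_homologyComparison :
    hQK.δ i j hij ≫ RDer.homologyComparison Q K.X₁ j =
      RDer.homologyComparison Q K.X₃ i ≫ Q.map (hK.δ i j hij) := by
  have hsQ : Q.map s ≫ Q.map (K.g.f i) = 𝟙 _ :=
    (Q.map_comp _ _).symm.trans ((congrArg Q.map hs).trans (Q.map_id _))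
  have hθQ : Q.map s ≫ Q.map (K.X₂.d i j) =
      Q.map θ ≫ Q.map (K.f.f j) + Q.map (K.X₃.d i j) ≫ Q.map s' :=
    (Q.map_comp _ _).symm.trans ((congrArg Q.map hθ).trans
      ((Q.map_add).trans (congrArg₂ (· + ·) (Q.map_comp _ _) (Q.map_comp _ _))))
  have e1 := π_δ_split hK i j hij s hs θ s' hθ
  have e2 := π_δ_split hQK i j hij (Q.map s) hsQ (Q.map θ) (Q.map s') hθQ
  have : Mono (Q.map (K.X₁.iCycles j)) := inferInstance
  refine hcδ_aux Q _ _ _ _ _ _ _ e2 _ _ _ e1 _ _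
    (RDer.homologyπ_homologyComparison Q K.X₁ j) (RDer.homologyπ_homologyComparison Q K.X₃ i) ?_
  exact key_aux Q _ _ _ _ (K.X₁.iCycles j) (K.X₃.iCycles i) θ _ _
    (liftCycles_i _ _ _ _ _) (liftCycles_i _ _ _ _ _)
    (RDer.cyclesComparison_i Q K.X₁ j) (RDer.cyclesComparison_i Q K.X₃ i)

end HCδ

section DeltaCompat

section aux

variable {C : Type*} [Category C] {D : Type*} [Category D] (Q : C ⥤ D)

lemma assemble_aux {R3 H3 H1 R1 H1Q H3Q : D} {H1' R1' H3' R3' : C}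
    (i3 : R3 ≅ H3) (δ1 : H3 ⟶ H1) (i1 : R1 ≅ H1) (c1 : H1 ⟶ H1Q) (hc1 : H1Q ⟶ Q.obj H1')
    (j1 : R1' ≅ H1') (c3 : H3 ⟶ H3Q) (δ2 : H3Q ⟶ H1Q) (hc3 : H3Q ⟶ Q.obj H3') (δK : H3' ⟶ H1')
    (j3 : R3' ≅ H3') (nat : δ1 ≫ c1 = c3 ≫ δ2) (hcδ : δ2 ≫ hc1 = hc3 ≫ Q.map δK) :
    (i3.hom ≫ δ1 ≫ i1.inv) ≫ (i1.hom ≫ c1 ≫ hc1 ≫ Q.map j1.inv) =
      (i3.hom ≫ c3 ≫ hc3 ≫ Q.map j3.inv) ≫ Q.map (j3.hom ≫ δK ≫ j1.inv) := by
  simp only [Category.assoc, Iso.inv_hom_id_assoc, Functor.map_comp]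
  rw [reassoc_of% nat, reassoc_of% hcδ, ← Q.map_comp_assoc j3.inv, Iso.inv_hom_id,
    CategoryTheory.Functor.map_id, Category.id_comp]

end aux

variable {A A' B B' : Type u} [Category.{v} A] [Category.{v} A'] [Category.{v} B] [Category.{v} B']
  [Abelian A] [Abelian A'] [Abelian B] [Abelian B']
  [HasInjectiveResolutions A] [HasInjectiveResolutions A']
  (Es : A ⥤ A') (E : A' ⥤ A) (adj : Es ⊣ E) [E.Additive] [E.PreservesInjectiveObjects]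
  [Es.PreservesZeroMorphisms]
  (P : A ⥤ B) [P.Additive] (P' : A' ⥤ B') [P'.Additive] (Q : B' ⥤ B) [Q.Additive]
  [PreservesFiniteLimits Q] (σ : E ⋙ P ≅ P' ⋙ Q)

/-- the short exact sequence `Q P' T'` -/
lemma shortExact_QP' {S' : ShortComplex A'} (T' : RDer.SESRes S') :
    ((T'.cx.map (P'.mapHomologicalComplex (ComplexShape.up ℕ))).map
      (Q.mapHomologicalComplex (ComplexShape.up ℕ))).ShortExact := by
  apply HomologicalComplex.shortExact_of_degreewise_shortExact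
  intro n
  exact (((T'.splitting n).map P').map Q).shortExact

/-- the morphism of short complexes of complexes `P T ⟶ Q P' T'` attached to a strict lift. -/
noncomputable def chainMor {S : ShortComplex A} (T : RDer.SESRes S) (T' : RDer.SESRes (S.map Es))
    (Φ : T.cx ⟶ T'.cx.map (E.mapHomologicalComplex _)) :
    T.cx.map (P.mapHomologicalComplex (ComplexShape.up ℕ)) ⟶
      (T'.cx.map (P'.mapHomologicalComplex (ComplexShape.up ℕ))).map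
        (Q.mapHomologicalComplex (ComplexShape.up ℕ)) where
  τ₁ := chainOf' E P P' Q σ Φ.τ₁
  τ₂ := chainOf' E P P' Q σ Φ.τ₂
  τ₃ := chainOf' E P P' Q σ Φ.τ₃
  comm₁₂ := by
    have h1 := chainOf'_comp E P P' Q σ (𝟙 _) Φ.τ₁ T'.f
    rw [Category.id_comp, CategoryTheory.Functor.map_id, Category.id_comp] at h1
    have h2 := chainOf'_comp E P P' Q σ T.f Φ.τ₂ (𝟙 _)
    rw [CategoryTheory.Functor.map_id, Category.comp_id, CategoryTheory.Functor.map_id,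
      CategoryTheory.Functor.map_id, Category.comp_id] at h2
    have h3 : Φ.τ₁ ≫ (E.mapHomologicalComplex _).map T'.f = T.f ≫ Φ.τ₂ := Φ.comm₁₂
    exact h1.symm.trans ((congrArg (chainOf' E P P' Q σ) h3).trans h2)
  comm₂₃ := by
    have h1 := chainOf'_comp E P P' Q σ (𝟙 _) Φ.τ₂ T'.g
    rw [Category.id_comp, CategoryTheory.Functor.map_id, Category.id_comp] at h1
    have h2 := chainOf'_comp E P P' Q σ T.g Φ.τ₃ (𝟙 _)
    rw [CategoryTheory.Functor.map_id, Category.comp_id, CategoryTheory.Functor.map_id,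
      CategoryTheory.Functor.map_id, Category.comp_id] at h2
    have h3 : Φ.τ₂ ≫ (E.mapHomologicalComplex _).map T'.g = T.g ≫ Φ.τ₃ := Φ.comm₂₃
    exact h1.symm.trans ((congrArg (chainOf' E P P' Q σ) h3).trans h2)

theorem delta_compat {S : ShortComplex A} (hS : S.ShortExact) (T : RDer.SESRes S)
    (T' : RDer.SESRes (S.map Es)) (n₀ n₁ : ℕ) (h : n₀ + 1 = n₁) :
    T.delta P n₀ n₁ h ≫ bcAdj Es E adj P P' Q σ n₁ S.X₁ =
      bcAdj Es E adj P P' Q σ n₀ S.X₃ ≫ Q.map (T'.delta P' n₀ n₁ h) := by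
  obtain ⟨Φ, h1, h3⟩ := Horseshoe.exists_strict Es E adj hS T T'
  have e1 := bcAdj_eq' Es E adj P P' Q σ n₁ S.X₁ T.I₁ T'.I₁ Φ.τ₁
    (hθ_of_zero Es E adj _ _ _ _ h1)
  have e3 := bcAdj_eq' Es E adj P P' Q σ n₀ S.X₃ T.I₃ T'.I₃ Φ.τ₃
    (hθ_of_zero Es E adj _ _ _ _ h3)
  have nat := HomologicalComplex.HomologySequence.δ_naturality
    (chainMor Es E P P' Q σ T T' Φ) (T.map_shortExact P) (shortExact_QP' P' Q T') n₀ n₁ h
  subst h
  have hcδ := δ_homologyComparison Q (T'.map_shortExact P') (shortExact_QP' P' Q T') n₀ (n₀ + 1) rfl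
    (P'.map ((Horseshoe.toSplit T').s n₀))
    ((P'.map_comp _ _).symm.trans ((congrArg P'.map ((Horseshoe.toSplit T').s_g n₀)).trans
      (P'.map_id _)))
    (P'.map ((Horseshoe.toSplit T').θ n₀)) (P'.map ((Horseshoe.toSplit T').s (n₀ + 1)))
    ((P'.map_comp _ _).symm.trans ((congrArg P'.map ((Horseshoe.toSplit T').F1 n₀)).trans
      ((P'.map_add).trans (congrArg₂ (· + ·) (P'.map_comp _ _) (P'.map_comp _ _)))))
  rw [e1, e3]
  exact assemble_aux Q (T.I₃.isoRightDerivedObj P n₀) _ (T.I₁.isoRightDerivedObj P (n₀ + 1)) _ _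
    (T'.I₁.isoRightDerivedObj P' (n₀ + 1)) _ _ _ _ (T'.I₃.isoRightDerivedObj P' n₀) nat hcδ

end DeltaCompat

end BcAbs

end Groth.Agent.Lib.helper27
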