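import Mathlib
import Groth.Prelude.Def_RDer
import Groth.Prelude.Def_RDerDelta
import Groth.Agent.Lib.Helper27.BcDelta3
import Groth.Agent.Lib.Helper27.Horseshoe5

set_option autoImplicit false
set_option linter.unusedSectionVars false
set_option linter.unusedVariables false

/-!
helper27: the inductive step "base change isomorphism in degrees `< q` implies injectivity (and
control of the cokernel) in degree `q`", in the abstract setting of `BcAbs`.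
-/

namespace Groth.Agent.Lib.helper27

open CategoryTheory Limits HomologicalComplex

universe v u v' u'

namespace BcAbs

section TwoRow

variable {C : Type*} [Category C] [Abelian C]

lemma two_row_mono {X₁ X₂ X₃ Y₁ Y₂ Y₃ : C} (a₁ : X₁ ⟶ X₂) (a₂ : X₂ ⟶ X₃) (ha : a₁ ≫ a₂ = 0)
    (ha₂ : Epi a₂) (b₁ : Y₁ ⟶ Y₂) (b₂ : Y₂ ⟶ Y₃) (hb : b₁ ≫ b₂ = 0)
    (hbe : (ShortComplex.mk b₁ b₂ hb).Exact)
    (v₁ : X₁ ⟶ Y₁) (v₂ : X₂ ⟶ Y₂) (v₃ : X₃ ⟶ Y₃) (hv₁ : Epi v₁) (hv₂ : Mono v₂)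
    (sq₁ : a₁ ≫ v₂ = v₁ ≫ b₁) (sq₂ : a₂ ≫ v₃ = v₂ ≫ b₂) : Mono v₃ := by
  rw [Preadditive.mono_iff_cancel_zero]
  intro W k hk
  obtain ⟨W₁, π₁, hπ₁, y, hy⟩ := surjective_up_to_refinements_of_epi a₂ k
  have h1 : (y ≫ v₂) ≫ b₂ = 0 := by
    rw [Category.assoc, ← sq₂, ← Category.assoc, ← hy, Category.assoc, hk, comp_zero]
  obtain ⟨W₂, π₂, hπ₂, z', hz'⟩ := hbe.exact_up_to_refinements (y ≫ v₂) h1
  obtain ⟨W₃, π₃, hπ₃, z, hz⟩ := surjective_up_to_refinements_of_epi v₁ z'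
  have hz'' : π₂ ≫ y ≫ v₂ = z' ≫ b₁ := hz'
  have h2 : (π₃ ≫ π₂ ≫ y) ≫ v₂ = (z ≫ a₁) ≫ v₂ := by
    rw [Category.assoc, Category.assoc, hz'', ← Category.assoc, hz, Category.assoc, ← sq₁,
      Category.assoc]
  have h3 : π₃ ≫ π₂ ≫ y = z ≫ a₁ := (cancel_mono v₂).1 h2
  have h4 : (π₃ ≫ π₂ ≫ π₁) ≫ k = 0 := by
    have e : (π₃ ≫ π₂ ≫ π₁) ≫ k = (π₃ ≫ π₂ ≫ y) ≫ a₂ := by
      simp only [Category.assoc, hy]
    rw [e, h3, Category.assoc, ha, comp_zero]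
  exact (cancel_epi (π₃ ≫ π₂ ≫ π₁)).1 (h4.trans comp_zero.symm)

lemma two_row_exact {X₂ X₃ Y₂ Y₃ Y₄ : C} (a₂ : X₂ ⟶ X₃) (ha₂ : Epi a₂) (b₂ : Y₂ ⟶ Y₃)
    (b₃ : Y₃ ⟶ Y₄)
    (hb : b₂ ≫ b₃ = 0) (hbe : (ShortComplex.mk b₂ b₃ hb).Exact) (v₂ : X₂ ⟶ Y₂) (v₃ : X₃ ⟶ Y₃)
    (hv₂ : Epi v₂) (sq₂ : a₂ ≫ v₃ = v₂ ≫ b₂) :
    ∃ w : v₃ ≫ b₃ = 0, (ShortComplex.mk v₃ b₃ w).Exact := by
  have w : v₃ ≫ b₃ = 0 := by
    rw [← cancel_epi a₂, ← Category.assoc, sq₂, Category.assoc, hb, comp_zero, comp_zero]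
  refine ⟨w, ?_⟩
  rw [ShortComplex.exact_iff_exact_up_to_refinements]
  intro W x hx
  obtain ⟨W₁, π₁, hπ₁, y', hy'⟩ := hbe.exact_up_to_refinements x hx
  obtain ⟨W₂, π₂, hπ₂, y, hy⟩ := surjective_up_to_refinements_of_epi v₂ y'
  have hy'' : π₁ ≫ x = y' ≫ b₂ := hy'
  refine ⟨W₂, π₂ ≫ π₁, epi_comp _ _, y ≫ a₂, ?_⟩
  change (π₂ ≫ π₁) ≫ x = (y ≫ a₂) ≫ v₃
  rw [Category.assoc, hy'', ← Category.assoc, hy, Category.assoc, Category.assoc, sq₂]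

lemma transpose_sq {C D : Type*} [Category C] [Category D] {L : C ⥤ D} {R : D ⥤ C} (adj : L ⊣ R)
    {M₁ M₂ : C} {N₁ N₂ : D} (a : M₁ ⟶ M₂) (u₁ : M₁ ⟶ R.obj N₁) (u₂ : M₂ ⟶ R.obj N₂) (b : N₁ ⟶ N₂)
    (h : a ≫ u₂ = u₁ ≫ R.map b) :
    L.map a ≫ (adj.homEquiv _ _).symm u₂ = (adj.homEquiv _ _).symm u₁ ≫ b := by
  rw [← Adjunction.homEquiv_naturality_left_symm, h, Adjunction.homEquiv_naturality_right_symm]

end TwoRow

section BcT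

variable {A A' B B' : Type u} [Category.{v} A] [Category.{v} A'] [Category.{v} B] [Category.{v} B']
  [Abelian A] [Abelian A'] [Abelian B] [Abelian B']
  [HasInjectiveResolutions A] [HasInjectiveResolutions A']
  (Es : A ⥤ A') (E : A' ⥤ A) (adj : Es ⊣ E) [E.Additive] [E.PreservesInjectiveObjects]
  [Es.PreservesZeroMorphisms]
  (P : A ⥤ B) [P.Additive] (P' : A' ⥤ B') [P'.Additive] (Q : B' ⥤ B) [Q.Additive]
  [PreservesFiniteLimits Q] (σ : E ⋙ P ≅ P' ⋙ Q) (Qs : B ⥤ B') (adjQ : Qs ⊣ Q)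

/-- the base change map `Qs R^qP F ⟶ R^qP' (Es F)` (the transpose of `bcAdj`). -/
noncomputable def bcT (q : ℕ) (F : A) :
    Qs.obj ((P.rightDerived q).obj F) ⟶ (P'.rightDerived q).obj (Es.obj F) :=
  (adjQ.homEquiv _ _).symm (bcAdj Es E adj P P' Q σ q F)

lemma bcT_naturality (q : ℕ) {F₁ F₂ : A} (f : F₁ ⟶ F₂) :
    Qs.map ((P.rightDerived q).map f) ≫ bcT Es E adj P P' Q σ Qs adjQ q F₂ =
      bcT Es E adj P P' Q σ Qs adjQ q F₁ ≫ (P'.rightDerived q).map (Es.map f) :=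
  transpose_sq adjQ _ _ _ _ (bcAdj_naturality Es E adj P P' Q σ q f)

lemma bcT_delta {S : ShortComplex A} (hS : S.ShortExact) (T : RDer.SESRes S)
    (T' : RDer.SESRes (S.map Es)) (n₀ n₁ : ℕ) (h : n₀ + 1 = n₁) :
    Qs.map (T.delta P n₀ n₁ h) ≫ bcT Es E adj P P' Q σ Qs adjQ n₁ S.X₁ =
      bcT Es E adj P P' Q σ Qs adjQ n₀ S.X₃ ≫ T'.delta P' n₀ n₁ h :=
  transpose_sq adjQ _ _ _ _ (delta_compat Es E adj P P' Q σ hS T T' n₀ n₁ h)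

theorem key {S : ShortComplex A} (hS : S.ShortExact) (hS' : (S.map Es).ShortExact)
    (n₀ n₁ : ℕ) (h : n₀ + 1 = n₁) (hK : IsZero ((P.rightDerived n₁).obj S.X₂))
    (h2 : Epi (bcT Es E adj P P' Q σ Qs adjQ n₀ S.X₂))
    (h3m : Mono (bcT Es E adj P P' Q σ Qs adjQ n₀ S.X₃))
    (h3e : Epi (bcT Es E adj P P' Q σ Qs adjQ n₀ S.X₃)) :
    Mono (bcT Es E adj P P' Q σ Qs adjQ n₁ S.X₁) ∧
      ∃ w : bcT Es E adj P P' Q σ Qs adjQ n₁ S.X₁ ≫ (P'.rightDerived n₁).map (Es.map S.f) = 0,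
        (ShortComplex.mk _ _ w).Exact := by
  let T := Horseshoe.chosenRes S hS
  let T' := Horseshoe.chosenRes (S.map Es) hS'
  have : Qs.PreservesEpimorphisms := Functor.preservesEpimorphisms_of_adjunction adjQ
  have : Qs.Additive := adjQ.left_adjoint_additive
  have hδe : Epi (T.delta P n₀ n₁ h) :=
    (Horseshoe.les_exact₁ P T n₀ n₁ h).epi_f (hK.eq_of_tgt _ _)
  have hδe' : Epi (Qs.map (T.delta P n₀ n₁ h)) := inferInstance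
  have ha : Qs.map ((P.rightDerived n₀).map S.g) ≫ Qs.map (T.delta P n₀ n₁ h) = 0 := by
    rw [← Qs.map_comp, Horseshoe.les_comp_δ, Qs.map_zero]
  have sq₁ := bcT_naturality Es E adj P P' Q σ Qs adjQ n₀ S.g
  have sq₂ := bcT_delta Es E adj P P' Q σ Qs adjQ hS T T' n₀ n₁ h
  refine ⟨?_, ?_⟩
  · exact two_row_mono _ _ ha hδe' _ _ _ (Horseshoe.les_exact₃ P' T' n₀ n₁ h) _ _ _ h2 h3m sq₁ sq₂
  · exact two_row_exact _ hδe' _ _ _ (Horseshoe.les_exact₁ P' T' n₀ n₁ h) _ _ h3e sq₂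

theorem coker_mono {F G K : A} (ι : F ⟶ G) (j : G ⟶ K) (n₁ : ℕ)
    (hK : IsZero ((P.rightDerived n₁).obj K))
    (hex : ∃ w : bcT Es E adj P P' Q σ Qs adjQ n₁ F ≫ (P'.rightDerived n₁).map (Es.map (ι ≫ j)) = 0,
        (ShortComplex.mk _ _ w).Exact) :
    ∃ φ : cokernel (bcT Es E adj P P' Q σ Qs adjQ n₁ F) ⟶
        cokernel (bcT Es E adj P P' Q σ Qs adjQ n₁ G), Mono φ ∧
      cokernel.π (bcT Es E adj P P' Q σ Qs adjQ n₁ F) ≫ φ =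
        (P'.rightDerived n₁).map (Es.map ι) ≫ cokernel.π (bcT Es E adj P P' Q σ Qs adjQ n₁ G) := by
  obtain ⟨w, hw⟩ := hex
  have : Qs.Additive := adjQ.left_adjoint_additive
  have hZ : IsZero (Qs.obj ((P.rightDerived n₁).obj K)) := Qs.map_isZero hK
  have wG : bcT Es E adj P P' Q σ Qs adjQ n₁ G ≫ (P'.rightDerived n₁).map (Es.map j) = 0 := by
    rw [← bcT_naturality, hZ.eq_of_tgt (Qs.map ((P.rightDerived n₁).map j)) 0, zero_comp]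
  let φ : cokernel (bcT Es E adj P P' Q σ Qs adjQ n₁ F) ⟶
      cokernel (bcT Es E adj P P' Q σ Qs adjQ n₁ G) :=
    cokernel.map _ _ (Qs.map ((P.rightDerived n₁).map ι)) ((P'.rightDerived n₁).map (Es.map ι))
      (bcT_naturality Es E adj P P' Q σ Qs adjQ n₁ ι).symm
  have hφ : cokernel.π (bcT Es E adj P P' Q σ Qs adjQ n₁ F) ≫ φ =
      (P'.rightDerived n₁).map (Es.map ι) ≫ cokernel.π (bcT Es E adj P P' Q σ Qs adjQ n₁ G) :=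
    cokernel.π_desc _ _ _
  refine ⟨φ, ?_, hφ⟩
  let ψG : cokernel (bcT Es E adj P P' Q σ Qs adjQ n₁ G) ⟶ (P'.rightDerived n₁).obj (Es.obj K) :=
    cokernel.desc _ _ wG
  have hψ : φ ≫ ψG = cokernel.desc _ _ w := by
    apply coequalizer.hom_ext
    rw [← Category.assoc, hφ, Category.assoc, cokernel.π_desc, cokernel.π_desc,
      ← Functor.map_comp, ← Functor.map_comp]
  have hm : Mono (cokernel.desc _ _ w) := (ShortComplex.exact_iff_mono_cokernel_desc _).1 hw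
  have : Mono (φ ≫ ψG) := by
    rw [hψ]
    exact hm
  exact mono_of_mono φ ψG

end BcT

end BcAbs

end Groth.Agent.Lib.helper27
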