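import Mathlib
import Groth.Prelude.Def_EtBC2

set_option autoImplicit false
set_option linter.unusedVariables false
set_option linter.unusedSectionVars false

/-!
helper27: coherence of the composition isomorphisms `EtCoh.pushComp` / `EtCoh.pushCongr` for direct images of
abelian etale sheaves (pasting of two commutative squares).
-/

namespace Groth.Agent.Lib.helper27

open CategoryTheory Limits AlgebraicGeometry Opposite

universe u

namespace EtPushCoh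

variable {X Y Z : Scheme.{u}}

/-- the projection `U ×_Y X ⟶ U` -/
noncomputable def pr (f : X ⟶ Y) (U : Y.Etale) : ((EtCoh.bc f).obj U).left ⟶ U.left :=
  pullback.fst U.hom f

lemma bc_hom_ext (f : X ⟶ Y) {V : X.Etale} {U : Y.Etale} (φ ψ : V ⟶ (EtCoh.bc f).obj U)
    (h : φ.left ≫ pr f U = ψ.left ≫ pr f U) : φ = ψ := by
  apply MorphismProperty.Over.Hom.ext
  apply pullback.hom_ext h
  have h1 := MorphismProperty.Over.w φ
  have h2 := MorphismProperty.Over.w ψ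
  exact h1.trans h2.symm

@[reassoc (attr := simp)]
lemma map_pr (f : X ⟶ Y) {U V : Y.Etale} (φ : U ⟶ V) :
    ((EtCoh.bc f).map φ).left ≫ pr f V = pr f U ≫ φ.left := by
  dsimp [EtCoh.bc, pr]
  exact pullback.lift_fst _ _ _


@[reassoc]
lemma pr_hom (f : X ⟶ Y) (U : Y.Etale) : pr f U ≫ U.hom = ((EtCoh.bc f).obj U).hom ≫ f :=
  pullback.condition

lemma left_ext (f : X ⟶ Y) {V' : Scheme.{u}} {U : Y.Etale} (a b : V' ⟶ ((EtCoh.bc f).obj U).left)
    (h1 : a ≫ pr f U = b ≫ pr f U)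
    (h2 : a ≫ ((EtCoh.bc f).obj U).hom = b ≫ ((EtCoh.bc f).obj U).hom) : a = b :=
  pullback.hom_ext h1 h2

@[simp]
lemma comp_left' {A B C : X.Etale} (φ : A ⟶ B) (ψ : B ⟶ C) : (φ ≫ ψ).left = φ.left ≫ ψ.left := rfl

lemma left_pr_hom (f : X ⟶ Y) {V : X.Etale} {U : Y.Etale} (φ : V ⟶ (EtCoh.bc f).obj U) :
    φ.left ≫ pr f U ≫ U.hom = V.hom ≫ f :=
  (congrArg (fun t => φ.left ≫ t) (pr_hom f U)).trans
    ((Category.assoc _ _ _).symm.trans (congrArg (fun t => t ≫ f) (MorphismProperty.Over.w φ)))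

lemma bc_hom_ext₃ {X₁ X₂ X₃ X₄ : Scheme.{u}} (f₁ : X₂ ⟶ X₁) (f₂ : X₃ ⟶ X₂) (f₃ : X₄ ⟶ X₃)
    {V : X₄.Etale} {U : X₁.Etale}
    (φ ψ : V ⟶ (EtCoh.bc f₃).obj ((EtCoh.bc f₂).obj ((EtCoh.bc f₁).obj U)))
    (h : φ.left ≫ pr f₃ _ ≫ pr f₂ _ ≫ pr f₁ U = ψ.left ≫ pr f₃ _ ≫ pr f₂ _ ≫ pr f₁ U) : φ = ψ := by
  have hφ := left_pr_hom f₃ φ
  have hψ := left_pr_hom f₃ ψ
  apply bc_hom_ext
  apply left_ext f₂
  · apply left_ext f₁
    · simpa only [Category.assoc] using h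
    · have e1 : ∀ (a : V.left ⟶ ((EtCoh.bc f₃).obj ((EtCoh.bc f₂).obj ((EtCoh.bc f₁).obj U))).left),
          a ≫ pr f₃ _ ≫ ((EtCoh.bc f₂).obj ((EtCoh.bc f₁).obj U)).hom = V.hom ≫ f₃ →
          ((a ≫ pr f₃ _) ≫ pr f₂ _) ≫ ((EtCoh.bc f₁).obj U).hom = (V.hom ≫ f₃) ≫ f₂ := by
        intro a ha
        calc ((a ≫ pr f₃ _) ≫ pr f₂ _) ≫ ((EtCoh.bc f₁).obj U).hom
            = (a ≫ pr f₃ _) ≫ (pr f₂ _ ≫ ((EtCoh.bc f₁).obj U).hom) := Category.assoc _ _ _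
          _ = (a ≫ pr f₃ _) ≫ (((EtCoh.bc f₂).obj ((EtCoh.bc f₁).obj U)).hom ≫ f₂) := by
              rw [pr_hom]
          _ = ((a ≫ pr f₃ _) ≫ ((EtCoh.bc f₂).obj ((EtCoh.bc f₁).obj U)).hom) ≫ f₂ :=
              (Category.assoc _ _ _).symm
          _ = (a ≫ pr f₃ _ ≫ ((EtCoh.bc f₂).obj ((EtCoh.bc f₁).obj U)).hom) ≫ f₂ :=
              congrArg (fun t => t ≫ f₂) (Category.assoc _ _ _)
          _ = (V.hom ≫ f₃) ≫ f₂ := by rw [ha]
      exact (e1 _ hφ).trans (e1 _ hψ).symm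
  · exact ((Category.assoc _ _ _).trans hφ).trans ((Category.assoc _ _ _).trans hψ).symm

/-- component of the composition isomorphism of base change functors -/
noncomputable def cmp (f : X ⟶ Y) (g : Z ⟶ X) (U : Y.Etale) :
    (EtCoh.bc (g ≫ f)).obj U ⟶ (EtCoh.bc g).obj ((EtCoh.bc f).obj U) :=
  (MorphismProperty.Over.pullbackComp (P := EtCoh.etaleMP) (Q := ⊤) g f).hom.app U

/-- component of the inverse composition isomorphism of base change functors -/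
noncomputable def cmpInv (f : X ⟶ Y) (g : Z ⟶ X) (U : Y.Etale) :
    (EtCoh.bc g).obj ((EtCoh.bc f).obj U) ⟶ (EtCoh.bc (g ≫ f)).obj U :=
  (MorphismProperty.Over.pullbackComp (P := EtCoh.etaleMP) (Q := ⊤) g f).inv.app U

/-- component of the congruence isomorphism -/
noncomputable def cgr {f f' : X ⟶ Y} (h : f = f') (U : Y.Etale) :
    (EtCoh.bc f).obj U ⟶ (EtCoh.bc f').obj U :=
  (MorphismProperty.Over.pullbackCongr (P := EtCoh.etaleMP) (Q := ⊤) h).hom.app U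

/-- component of the inverse congruence isomorphism -/
noncomputable def cgrInv {f f' : X ⟶ Y} (h : f = f') (U : Y.Etale) :
    (EtCoh.bc f').obj U ⟶ (EtCoh.bc f).obj U :=
  (MorphismProperty.Over.pullbackCongr (P := EtCoh.etaleMP) (Q := ⊤) h).inv.app U

@[reassoc (attr := simp)]
lemma cmp_pr (f : X ⟶ Y) (g : Z ⟶ X) (U : Y.Etale) :
    (cmp f g U).left ≫ pr g ((EtCoh.bc f).obj U) ≫ pr f U = pr (g ≫ f) U :=
  MorphismProperty.Over.pullbackComp_left_fst_fst g f U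

lemma cmpInv_cmp (f : X ⟶ Y) (g : Z ⟶ X) (U : Y.Etale) : cmpInv f g U ≫ cmp f g U = 𝟙 _ :=
  Iso.inv_hom_id_app _ U

lemma cgrInv_cgr {f f' : X ⟶ Y} (h : f = f') (U : Y.Etale) : cgrInv h U ≫ cgr h U = 𝟙 _ :=
  Iso.inv_hom_id_app _ U

@[reassoc (attr := simp)]
lemma cmpInv_pr (f : X ⟶ Y) (g : Z ⟶ X) (U : Y.Etale) :
    (cmpInv f g U).left ≫ pr (g ≫ f) U = pr g ((EtCoh.bc f).obj U) ≫ pr f U := by
  have h := congrArg (fun t : (EtCoh.bc g).obj ((EtCoh.bc f).obj U) ⟶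
    (EtCoh.bc g).obj ((EtCoh.bc f).obj U) => t.left ≫ pr g ((EtCoh.bc f).obj U) ≫ pr f U)
    (cmpInv_cmp f g U)
  rw [← cmp_pr f g U]
  exact ((Category.assoc _ _ _).symm.trans h).trans (Category.id_comp _)

@[reassoc (attr := simp)]
lemma cgr_pr {f f' : X ⟶ Y} (h : f = f') (U : Y.Etale) :
    (cgr h U).left ≫ pr f' U = pr f U :=
  MorphismProperty.Over.pullbackCongr_hom_app_left_fst h U

@[reassoc (attr := simp)]
lemma cgrInv_pr {f f' : X ⟶ Y} (h : f = f') (U : Y.Etale) :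
    (cgrInv h U).left ≫ pr f U = pr f' U := by
  have h' := congrArg (fun t : (EtCoh.bc f').obj U ⟶ (EtCoh.bc f').obj U => t.left ≫ pr f' U)
    (cgrInv_cgr h U)
  rw [← cgr_pr h U]
  exact ((Category.assoc _ _ _).symm.trans h').trans (Category.id_comp _)

section sections

lemma pushComp_hom_app (f : X ⟶ Y) (g : Z ⟶ X) (M : EtCoh.Ab Z) (U : Y.Etale) :
    ((EtCoh.pushComp f g).hom.app M).hom.app (op U) = M.obj.map (cmp f g U).op := by
  dsimp [EtCoh.pushComp]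
  simp
  rfl

lemma pushComp_inv_app (f : X ⟶ Y) (g : Z ⟶ X) (M : EtCoh.Ab Z) (U : Y.Etale) :
    ((EtCoh.pushComp f g).inv.app M).hom.app (op U) = M.obj.map (cmpInv f g U).op := by
  dsimp [EtCoh.pushComp]
  simp
  rfl

lemma pushCongr_hom_app {f f' : X ⟶ Y} (h : f = f') (M : EtCoh.Ab X) (U : Y.Etale) :
    ((EtCoh.pushCongr h).hom.app M).hom.app (op U) = M.obj.map (cgrInv h U).op := by
  dsimp [EtCoh.pushCongr]
  simp
  rfl

lemma push_map_app (f : X ⟶ Y) {M N : EtCoh.Ab X} (φ : M ⟶ N) (U : Y.Etale) :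
    ((EtCoh.push f).map φ).hom.app (op U) = φ.hom.app (op ((EtCoh.bc f).obj U)) := rfl

lemma push_obj_map (f : X ⟶ Y) (M : EtCoh.Ab X) {U V : Y.Etale} (ψ : U ⟶ V) :
    ((EtCoh.push f).obj M).obj.map ψ.op = M.obj.map ((EtCoh.bc f).map ψ).op := rfl

end sections

section main

variable {X S Y T W Z : Scheme.{u}} (f : X ⟶ S) (g : T ⟶ S) (h : Y ⟶ X) (e : Y ⟶ T)
  (w₁ : e ≫ g = h ≫ f) (i : W ⟶ X) (j : Z ⟶ W) (k : Z ⟶ Y) (w₂ : k ≫ h = j ≫ i)
  (w₃ : (k ≫ e) ≫ g = j ≫ (i ≫ f))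

theorem coh (M : EtCoh.Ab Z) :
    (EtCoh.push g).map ((EtCoh.pushComp e k).hom.app M) ≫
      (EtCoh.pushComp g (k ≫ e) ≪≫ EtCoh.pushCongr w₃ ≪≫ (EtCoh.pushComp (i ≫ f) j).symm).hom.app M =
    (EtCoh.pushComp g e ≪≫ EtCoh.pushCongr w₁ ≪≫ (EtCoh.pushComp f h).symm).hom.app
        ((EtCoh.push k).obj M) ≫
      (EtCoh.push f).map
        ((EtCoh.pushComp h k ≪≫ EtCoh.pushCongr w₂ ≪≫ (EtCoh.pushComp i j).symm).hom.app M) ≫
      (EtCoh.pushComp f i).hom.app ((EtCoh.push j).obj M) := by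
  apply Sheaf.hom_ext
  apply NatTrans.ext
  funext U'
  induction U' using Opposite.rec with
  | _ U =>
  simp only [Iso.trans_hom, Iso.symm_hom, NatTrans.comp_app, Functor.map_comp,
    ObjectProperty.FullSubcategory.comp_hom,
    Category.assoc, push_map_app, pushComp_hom_app, pushComp_inv_app, pushCongr_hom_app]
  change M.obj.map (cmp e k ((EtCoh.bc g).obj U)).op ≫ M.obj.map (cmp g (k ≫ e) U).op ≫
      M.obj.map (cgrInv w₃ U).op ≫ M.obj.map (cmpInv (i ≫ f) j U).op =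
    M.obj.map ((EtCoh.bc k).map (cmp g e U)).op ≫ M.obj.map ((EtCoh.bc k).map (cgrInv w₁ U)).op ≫
      M.obj.map ((EtCoh.bc k).map (cmpInv f h U)).op ≫ M.obj.map (cmp h k ((EtCoh.bc f).obj U)).op ≫
      M.obj.map (cgrInv w₂ ((EtCoh.bc f).obj U)).op ≫ M.obj.map (cmpInv i j ((EtCoh.bc f).obj U)).op ≫
      M.obj.map ((EtCoh.bc j).map (cmp f i U)).op
  simp only [← Functor.map_comp, ← op_comp]
  congr 2
  apply bc_hom_ext₃
  simp only [comp_left', Category.assoc, map_pr, map_pr_assoc, cmp_pr,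
    cmp_pr_assoc, cmpInv_pr, cmpInv_pr_assoc, cgr_pr, cgr_pr_assoc, cgrInv_pr, cgrInv_pr_assoc]

end main

end EtPushCoh

end Groth.Agent.Lib.helper27
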