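import Mathlib
import Groth.Prelude.Def_EtBC2
import Groth.Prelude.Def_EtShriek2
import Groth.Agent.S0651
import Groth.Agent.S0649
import Groth.Agent.Lib.Helper18.JCont
import Groth.Agent.Lib.Helper27.EtPushCoh
import Groth.Agent.Lib.Helper27.BcAbs4

set_option autoImplicit false
set_option linter.unusedVariables false
set_option linter.unusedSectionVars false

/-!
helper27: etale localisation on small etale sites, for sheaves with values in an arbitrary category `A`
(morphisms in `Type (u+1)`): direct image, restriction along an etale morphism, their adjunction, section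
formulas, coherence of the composition isomorphisms.
-/

namespace Groth.Agent.Lib.helper27

open CategoryTheory Limits AlgebraicGeometry Opposite
open Groth.Agent.Lib.Helper18.JCont

universe w u

namespace EtLoc

open EtPushCoh

variable (A : Type w) [Category.{u + 1} A]

/-- `A`-valued sheaves on the small etale site -/
abbrev ShA (X : Scheme.{u}) := Sheaf X.smallEtaleTopology A

variable {X Y Z : Scheme.{u}}

/-- direct image -/
noncomputable abbrev gpush (f : X ⟶ Y) : ShA A X ⥤ ShA A Y :=
  (EtCoh.bc f).sheafPushforwardContinuous A Y.smallEtaleTopology X.smallEtaleTopology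

/-- restriction along an etale morphism -/
noncomputable abbrev grestr (j : X ⟶ Y) [Etale j] : ShA A Y ⥤ ShA A X :=
  (EtShriek.compEtale j).sheafPushforwardContinuous A X.smallEtaleTopology Y.smallEtaleTopology

/-- restriction is left adjoint to direct image -/
noncomputable def gadj (j : X ⟶ Y) [Etale j] : grestr A j ⊣ gpush A j :=
  (Groth.Agent.S0651.adj0 j).sheafPushforwardContinuous (E := A) X.smallEtaleTopology
    Y.smallEtaleTopology

set_option backward.isDefEq.respectTransparency.types false in
/-- direct images compose -/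
noncomputable def gpushComp (f : X ⟶ Y) (g : Z ⟶ X) : gpush A g ⋙ gpush A f ≅ gpush A (g ≫ f) :=
  Functor.sheafPushforwardContinuousComp' (F := EtCoh.bc f) (G := EtCoh.bc g) (FG := EtCoh.bc (g ≫ f))
    ((MorphismProperty.Over.pullbackComp (P := EtCoh.etaleMP) (Q := ⊤) g f).symm :
      EtCoh.bc f ⋙ EtCoh.bc g ≅ EtCoh.bc (g ≫ f))
    A Y.smallEtaleTopology X.smallEtaleTopology Z.smallEtaleTopology

set_option backward.isDefEq.respectTransparency.types false in
/-- transport along an equality -/
noncomputable def gpushCongr {f f' : X ⟶ Y} (h : f = f') : gpush A f ≅ gpush A f' :=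
  Functor.sheafPushforwardContinuousIso (F := EtCoh.bc f) (F' := EtCoh.bc f')
    ((MorphismProperty.Over.pullbackCongr (P := EtCoh.etaleMP) (Q := ⊤) h) : EtCoh.bc f ≅ EtCoh.bc f')
    A Y.smallEtaleTopology X.smallEtaleTopology

/-- the isomorphism of direct images attached to a commutative square -/
noncomputable def gσ {X S X' S' : Scheme.{u}} (f : X ⟶ S) (g : S' ⟶ S) (f' : X' ⟶ S') (g' : X' ⟶ X)
    (w : g' ≫ f = f' ≫ g) : gpush A g' ⋙ gpush A f ≅ gpush A f' ⋙ gpush A g :=
  gpushComp A f g' ≪≫ gpushCongr A w ≪≫ (gpushComp A g f').symm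

section sections

variable {A}

lemma gpushComp_hom_app (f : X ⟶ Y) (g : Z ⟶ X) (M : ShA A Z) (U : Y.Etale) :
    ((gpushComp A f g).hom.app M).hom.app (op U) = M.obj.map (cmp f g U).op := by
  dsimp [gpushComp]
  simp
  rfl

lemma gpushComp_inv_app (f : X ⟶ Y) (g : Z ⟶ X) (M : ShA A Z) (U : Y.Etale) :
    ((gpushComp A f g).inv.app M).hom.app (op U) = M.obj.map (cmpInv f g U).op := by
  dsimp [gpushComp]
  simp
  rfl

lemma gpushCongr_hom_app {f f' : X ⟶ Y} (h : f = f') (M : ShA A X) (U : Y.Etale) :
    ((gpushCongr A h).hom.app M).hom.app (op U) = M.obj.map (cgrInv h U).op := by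
  dsimp [gpushCongr]
  simp
  rfl

lemma gpush_map_app (f : X ⟶ Y) {M N : ShA A X} (φ : M ⟶ N) (U : Y.Etale) :
    ((gpush A f).map φ).hom.app (op U) = φ.hom.app (op ((EtCoh.bc f).obj U)) := rfl

lemma grestr_map_app (j : X ⟶ Y) [Etale j] {M N : ShA A Y} (φ : M ⟶ N) (U : X.Etale) :
    ((grestr A j).map φ).hom.app (op U) = φ.hom.app (op ((EtShriek.compEtale j).obj U)) := rfl

lemma gadj_unit_app (j : X ⟶ Y) [Etale j] (M : ShA A Y) (V : Y.Etale) :
    ((gadj A j).unit.app M).hom.app (op V) =
      M.obj.map ((Groth.Agent.S0651.adj0 j).counit.app V).op := by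
  dsimp [gadj]
  simp

lemma gadj_counit_app (j : X ⟶ Y) [Etale j] (M : ShA A X) (W : X.Etale) :
    ((gadj A j).counit.app M).hom.app (op W) =
      M.obj.map ((Groth.Agent.S0651.adj0 j).unit.app W).op := by
  dsimp [gadj]
  simp

end sections

section adj0

lemma adj0_counit_left (j : X ⟶ Y) [Etale j] (V : Y.Etale) :
    ((Groth.Agent.S0651.adj0 j).counit.app V).left = pr j V := rfl

lemma adj0_unit_left_pr (j : X ⟶ Y) [Etale j] (W : X.Etale) :
    ((Groth.Agent.S0651.adj0 j).unit.app W).left ≫ pr j ((EtShriek.compEtale j).obj W) = 𝟙 _ := by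
  change (pullback.lift (𝟙 W.left) W.hom (by simp) : W.left ⟶ pullback (W.hom ≫ j) j) ≫
    pullback.fst _ _ = 𝟙 _
  exact pullback.lift_fst _ _ _

end adj0

section etaleBC

variable {A}
variable {S T V T' : Scheme.{u}} (g : T ⟶ S) (j : V ⟶ S) [Etale j] (g' : T' ⟶ V) (t : T' ⟶ T)
  [Etale t] (h : IsPullback t g' g j)

/-- the comparison of base change functors attached to the square -/
noncomputable def mm (w : t ≫ g = g' ≫ j) (W' : S.Etale) :
    (EtCoh.bc g').obj ((EtCoh.bc j).obj W') ⟶ (EtCoh.bc t).obj ((EtCoh.bc g).obj W') :=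
  cmpInv j g' W' ≫ cgrInv w W' ≫ cmp g t W'

lemma mm_pr (w : t ≫ g = g' ≫ j) (W' : S.Etale) :
    (mm g j g' t w W').left ≫ pr t _ ≫ pr g W' = pr g' _ ≫ pr j W' := by
  dsimp only [mm]
  simp only [comp_left', Category.assoc, cmp_pr, cgrInv_pr, cmpInv_pr]

lemma gσ_hom_app (w : t ≫ g = g' ≫ j) (N : ShA A T') (W' : S.Etale) :
    ((gσ A g j g' t w).hom.app N).hom.app (op W') = N.obj.map (mm g j g' t w W').op := by
  dsimp only [gσ, mm]
  simp only [Iso.trans_hom, Iso.symm_hom, NatTrans.comp_app, ObjectProperty.FullSubcategory.comp_hom,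
    gpushComp_hom_app, gpushComp_inv_app, gpushCongr_hom_app, op_comp, Functor.map_comp, Category.assoc]
  rfl

/-- the morphism of `T.Etale` inducing the transposed base change map on sections -/
noncomputable def θ (w : t ≫ g = g' ≫ j) (W : V.Etale) :
    (EtShriek.compEtale t).obj ((EtCoh.bc g').obj W) ⟶
      (EtCoh.bc g).obj ((EtShriek.compEtale j).obj W) :=
  (EtShriek.compEtale t).map ((EtCoh.bc g').map ((Groth.Agent.S0651.adj0 j).unit.app W)) ≫
    (EtShriek.compEtale t).map (mm g j g' t w ((EtShriek.compEtale j).obj W)) ≫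
    (Groth.Agent.S0651.adj0 t).counit.app ((EtCoh.bc g).obj ((EtShriek.compEtale j).obj W))

lemma θ_left_pr (w : t ≫ g = g' ≫ j) (W : V.Etale) :
    (θ g j g' t w W).left ≫ pr g ((EtShriek.compEtale j).obj W) = pr g' W := by
  dsimp only [θ]
  simp only [comp_left', EtShriek.compEtale_map_left, Category.assoc, adj0_counit_left]
  refine (congrArg (fun x => ((EtCoh.bc g').map ((Groth.Agent.S0651.adj0 j).unit.app W)).left ≫ x)
    (mm_pr g j g' t w ((EtShriek.compEtale j).obj W))).trans ?_
  refine (Category.assoc _ _ _).symm.trans ?_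
  refine (congrArg (fun x => x ≫ pr j ((EtShriek.compEtale j).obj W))
    (map_pr g' ((Groth.Agent.S0651.adj0 j).unit.app W))).trans ?_
  refine (Category.assoc _ _ _).trans ?_
  refine (congrArg (fun x => pr g' W ≫ x) (adj0_unit_left_pr j W)).trans ?_
  exact Category.comp_id _

include h in
lemma isIso_θ (W : V.Etale) : IsIso (θ g j g' t h.w W) := by
  have hp := Groth.Agent.S0649.isPullback_paste j g t g' h W
  have e : (θ g j g' t h.w W).left = hp.flip.isoPullback.hom := by
    apply pullback.hom_ext
    · exact (θ_left_pr g j g' t h.w W).trans (hp.flip.isoPullback_hom_fst).symm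
    · exact (MorphismProperty.Over.w (θ g j g' t h.w W)).trans (hp.flip.isoPullback_hom_snd).symm
  have h1 : IsIso ((Scheme.Etale.forget T ⋙ CategoryTheory.Over.forget T).map (θ g j g' t h.w W)) := by
    change IsIso (θ g j g' t h.w W).left
    rw [e]
    infer_instance
  exact isIso_of_reflects_iso _ (Scheme.Etale.forget T ⋙ CategoryTheory.Over.forget T)

lemma transpose_app (w : t ≫ g = g' ≫ j) (F : ShA A T) (W : V.Etale) :
    (((gadj A j).homEquiv _ _).symm
      (BcAbs.u0 (grestr A t) (gpush A t) (gadj A t) (gpush A g) (gpush A g') (gpush A j)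
        (gσ A g j g' t w) F)).hom.app (op W) = F.obj.map (θ g j g' t w W).op := by
  rw [Adjunction.homEquiv_counit]
  dsimp only [BcAbs.u0]
  simp only [Functor.map_comp, ObjectProperty.FullSubcategory.comp_hom, NatTrans.comp_app,
    Category.assoc, grestr_map_app, gpush_map_app, gadj_counit_app, gadj_unit_app, gσ_hom_app]
  dsimp only [θ]
  simp only [op_comp, Functor.map_comp, Category.assoc]
  rfl

include h in
/-- **Etale base change in degree zero** (restriction form): for a cartesian square with `j` etale, the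
degree-zero base change map in adjoint form is an isomorphism in adjoint form. -/
theorem isoAdj_u0_restr (F : ShA A T) :
    BcAbs.IsoAdj (gpush A j)
      (BcAbs.u0 (grestr A t) (gpush A t) (gadj A t) (gpush A g) (gpush A g') (gpush A j)
        (gσ A g j g' t h.w) F) := by
  rw [← BcAbs.isoAdj_iff (gadj A j)]
  have h2 : IsIso ((sheafToPresheaf _ _).map (((gadj A j).homEquiv _ _).symm
      (BcAbs.u0 (grestr A t) (gpush A t) (gadj A t) (gpush A g) (gpush A g') (gpush A j)
        (gσ A g j g' t h.w) F))) := by
    have h3 : ∀ W, IsIso (((sheafToPresheaf _ _).map (((gadj A j).homEquiv _ _).symm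
      (BcAbs.u0 (grestr A t) (gpush A t) (gadj A t) (gpush A g) (gpush A g') (gpush A j)
        (gσ A g j g' t h.w) F))).app W) := by
      intro W
      induction W using Opposite.rec with
      | _ W =>
      change IsIso ((((gadj A j).homEquiv _ _).symm
        (BcAbs.u0 (grestr A t) (gpush A t) (gadj A t) (gpush A g) (gpush A g') (gpush A j)
          (gσ A g j g' t h.w) F)).hom.app (op W))
      rw [transpose_app]
      have := isIso_θ g j g' t h W
      have h4 : IsIso (θ g j g' t h.w W).op := inferInstance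
      exact Functor.map_isIso F.obj (θ g j g' t h.w W).op
    exact NatIso.isIso_of_isIso_app _
  exact isIso_of_reflects_iso _ (sheafToPresheaf _ _)

end etaleBC

end EtLoc

end Groth.Agent.Lib.helper27
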