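import Mathlib
import Groth.Agent.Lib.Helper27.EtLoc1
import Groth.Agent.Lib.Helper1.EtGerm

set_option autoImplicit false
set_option linter.unusedVariables false
set_option linter.unusedSectionVars false

/-!
helper27: coherence of the composition isomorphisms of direct images (generic coefficients) and the
etale-local criterion for isomorphisms of sheaves on the small etale site.
-/

namespace Groth.Agent.Lib.helper27

open CategoryTheory Limits AlgebraicGeometry Opposite
open Groth.Agent.Lib.Helper18.JCont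

universe w u

namespace EtLoc

open EtPushCoh

section coh

variable {A : Type w} [Category.{u + 1} A]
variable {X S Y T W Z : Scheme.{u}} (f : X ⟶ S) (g : T ⟶ S) (h : Y ⟶ X) (e : Y ⟶ T)
  (w₁ : e ≫ g = h ≫ f) (i : W ⟶ X) (j : Z ⟶ W) (k : Z ⟶ Y) (w₂ : k ≫ h = j ≫ i)
  (w₃ : (k ≫ e) ≫ g = j ≫ (i ≫ f))

theorem gcoh (M : ShA A Z) :
    (gpush A g).map ((gpushComp A e k).hom.app M) ≫ (gσ A g (i ≫ f) j (k ≫ e) w₃).hom.app M =
    (gσ A g f h e w₁).hom.app ((gpush A k).obj M) ≫
      (gpush A f).map ((gσ A h i j k w₂).hom.app M) ≫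
      (gpushComp A f i).hom.app ((gpush A j).obj M) := by
  apply Sheaf.hom_ext
  apply NatTrans.ext
  funext U'
  induction U' using Opposite.rec with
  | _ U =>
  dsimp only [gσ]
  simp only [Iso.trans_hom, Iso.symm_hom, NatTrans.comp_app, Functor.map_comp,
    ObjectProperty.FullSubcategory.comp_hom,
    Category.assoc, gpush_map_app, gpushComp_hom_app, gpushComp_inv_app, gpushCongr_hom_app]
  change M.obj.map (cmp e k ((EtCoh.bc g).obj U)).op ≫ M.obj.map (cmp g (k ≫ e) U).op ≫
      M.obj.map (cgrInv w₃ U).op ≫ M.obj.map (cmpInv (i ≫ f) j U).op =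
    M.obj.map ((EtCoh.bc k).map (cmp g e U)).op ≫ M.obj.map ((EtCoh.bc k).map (cgrInv w₁ U)).op ≫
      M.obj.map ((EtCoh.bc k).map (cmpInv f h U)).op ≫ M.obj.map (cmp h k ((EtCoh.bc f).obj U)).op ≫
      M.obj.map (cgrInv w₂ ((EtCoh.bc f).obj U)).op ≫ M.obj.map (cmpInv i j ((EtCoh.bc f).obj U)).op ≫
      M.obj.map ((EtCoh.bc j).map (cmp f i U)).op
  simp only [← Functor.map_comp, ← op_comp]
  congr 2
  apply bc_hom_ext₃
  simp only [comp_left', Category.assoc, map_pr, map_pr_assoc, cmp_pr,
    cmp_pr_assoc, cmpInv_pr, cmpInv_pr_assoc, cgr_pr, cgr_pr_assoc, cgrInv_pr, cgrInv_pr_assoc]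

end coh

section loc

variable {X : Scheme.{u}}

instance etale_hom (V : X.Etale) : Etale V.hom := V.prop

/-- sieve of morphisms whose source maps to some member of the family -/
def famSieve {ι : Type*} (U : ι → X.Etale) (W : X.Etale) : Sieve W where
  arrows V _ := ∃ i, Nonempty (V ⟶ U i)
  downward_closed := by
    rintro V V' f ⟨i, ⟨k⟩⟩ g
    exact ⟨i, ⟨g ≫ k⟩⟩

set_option backward.isDefEq.respectTransparency.types false in
lemma famSieve_mem {ι : Type u} (U : ι → X.Etale) (hU : EtCoh.Covers U) (W : X.Etale) :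
    famSieve U W ∈ X.smallEtaleTopology W := by
  have eX : X.smallEtaleTopology =
      (X.smallPretopology (P := EtCoh.etaleMP) (Q := EtCoh.etaleMP)).toGrothendieck :=
    Scheme.smallGrothendieckTopology_eq_toGrothendieck_smallPretopology X le_rfl
  rw [eX]
  refine (Scheme.mem_toGrothendieck_smallPretopology W _).2 ?_
  intro x
  obtain ⟨i, y, hy⟩ := hU (W.hom.base x)
  obtain ⟨z, hz1, hz2⟩ := Scheme.Pullback.exists_preimage_pullback (f := W.hom) (g := (U i).hom)
    x y hy.symm
  refine ⟨(EtShriek.compEtale (U i).hom).obj ((EtCoh.bc (U i).hom).obj W),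
    (Groth.Agent.S0651.adj0 (U i).hom).counit.app W, z,
    ⟨i, ⟨MorphismProperty.Over.homMk ((EtCoh.bc (U i).hom).obj W).hom rfl⟩⟩, ?_, hz1⟩
  change Etale (pullback.fst W.hom (U i).hom)
  infer_instance

section

variable {A : Type w} [Category.{u + 1} A]

lemma isIso_app_of_isIso {F G : ShA A X} (ψ : F ⟶ G) [IsIso ψ] (W : X.Etaleᵒᵖ) :
    IsIso (ψ.hom.app W) := by
  have : IsIso ((sheafToPresheaf _ _).map ψ) := inferInstance
  exact NatIso.isIso_app_of_isIso ((sheafToPresheaf _ _).map ψ) W

lemma isIso_app_of_iso {C : Type*} [Category C] {A : Type*} [Category A] {F G : Cᵒᵖ ⥤ A} (τ : F ⟶ G)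
    {V₁ V₂ : C} (e : V₁ ≅ V₂) (h : IsIso (τ.app (op V₁))) : IsIso (τ.app (op V₂)) := by
  have nat := τ.naturality e.hom.op
  have e2 : τ.app (op V₂) = F.map e.hom.op ≫ τ.app (op V₁) ≫ G.map e.inv.op := by
    rw [reassoc_of% nat, ← G.map_comp, ← op_comp, e.inv_hom_id, op_id, G.map_id,
      Category.comp_id]
  rw [e2]
  infer_instance

lemma isIso_app_of_factor {F G : ShA A X} (φ : F ⟶ G) (U : X.Etale)
    (h : IsIso ((grestr A U.hom).map φ)) {V : X.Etale} (k : V ⟶ U) :
    IsIso (φ.hom.app (op V)) := by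
  have hk : Etale k.left := Groth.Agent.H1.EtGerm.etale_left k
  let V' : U.left.Etale := MorphismProperty.Over.mk ⊤ k.left hk
  let e : (EtShriek.compEtale U.hom).obj V' ≅ V :=
    MorphismProperty.Over.isoMk (Iso.refl _)
      ((Category.id_comp V.hom).trans (MorphismProperty.Over.w k).symm)
  have h1 : IsIso (φ.hom.app (op ((EtShriek.compEtale U.hom).obj V'))) :=
    isIso_app_of_isIso ((grestr A U.hom).map φ) (op V')
  exact isIso_app_of_iso φ.hom e h1

end

section


/-- **Etale-local criterion**: a morphism of sheaves on the small etale site of `X` which becomes an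
isomorphism after restriction to every member of a jointly surjective family of etale `X`-schemes is an
isomorphism. -/
theorem isIso_of_isIso_grestr {A : Type w} [Category.{u + 1} A] {FA : A → A → Type*}
    {CA : A → Type (u + 1)}
    [∀ X Y, FunLike (FA X Y) (CA X) (CA Y)] [ConcreteCategory.{u + 1} A FA]
    [(forget A).ReflectsIsomorphisms] [X.smallEtaleTopology.HasSheafCompose (forget A)]
    {F G : ShA A X} (φ : F ⟶ G) {ι : Type u} (U : ι → X.Etale)
    (hU : EtCoh.Covers U) (h : ∀ i, IsIso ((grestr A (U i).hom).map φ)) : IsIso φ := by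
  refine (Sheaf.isLocallyBijective_iff_isIso (A := A) (FA := FA) (CA := CA) φ).1 ?_
  have key : ∀ (W V : X.Etale) (f : V ⟶ W), famSieve U W f →
      Function.Bijective (φ.hom.app (op V)) := by
    rintro W V f ⟨i, ⟨k⟩⟩
    have := isIso_app_of_factor φ (U i) (h i) k
    exact ConcreteCategory.bijective_of_isIso _
  constructor
  · constructor
    intro W x y hxy
    induction W using Opposite.rec with
    | _ W =>
    refine X.smallEtaleTopology.superset_covering ?_ (famSieve_mem U hU W)
    intro V f hf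
    apply (key W V f hf).1
    change (φ.hom.app (op V)) (F.obj.map f.op x) = (φ.hom.app (op V)) (F.obj.map f.op y)
    rw [NatTrans.naturality_apply, NatTrans.naturality_apply]
    exact congrArg _ hxy
  · constructor
    intro W s
    refine X.smallEtaleTopology.superset_covering ?_ (famSieve_mem U hU W)
    intro V f hf
    exact (key W V f hf).2 _

end

end loc

end EtLoc

end Groth.Agent.Lib.helper27
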