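import Mathlib
import Groth.Prelude.Def_EtBC2
import Groth.Agent.Lib.Helper27.EtLoc2
import Groth.Agent.Lib.Helper27.BcAbs5
import Groth.Agent.S0101
import Groth.Agent.S0623

set_option autoImplicit false
set_option linter.unusedVariables false
set_option linter.style.haveILetI false

/-!
helper27: etale-local nature of the degree-`q` base change map for abelian sheaves on small etale sites:
etale base change in every degree, and `EtBC.bcQ` is an isomorphism if it is one etale-locally.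
-/

universe u
open CategoryTheory CategoryTheory.Limits AlgebraicGeometry Opposite
open EtBC

namespace Groth.Agent.Lib.helper27

namespace EtLocAb

/-- the coefficient category -/
abbrev AA := AddCommGrpCat.{u + 1}

lemma bcQ_iff {X S X' S' : Scheme.{u}} (f : X ⟶ S) (g : S' ⟶ S) (f' : X' ⟶ S') (g' : X' ⟶ X)
    (w : g' ≫ f = f' ≫ g) [PreservesFiniteLimits (EtCoh.pull g')] (q : ℕ) (F : EtCoh.Ab X) :
    IsIso (EtBC.bcQ f g f' g' w q F) ↔
      BcAbs.IsoAdj (EtCoh.push g)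
        (BcAbs.bcAdj (EtCoh.pull g') (EtCoh.push g') (EtCoh.pullPushAdj g') (EtCoh.push f)
          (EtCoh.push f') (EtCoh.push g) (EtLoc.gσ AA.{u} f g f' g' w) q F) := by
  rw [← BcAbs.isoAdj_iff (EtCoh.pullPushAdj g)]
  rfl

/-- etale base change in degree zero for abelian sheaves, in adjoint form -/
lemma isoAdj_etale0 {S T V T' : Scheme.{u}} (g : T ⟶ S) (j : V ⟶ S) [Etale j] (g' : T' ⟶ V)
    (t : T' ⟶ T) (h : IsPullback t g' g j) (F : EtCoh.Ab T) :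
    BcAbs.IsoAdj (EtCoh.push j)
      (BcAbs.u0 (EtCoh.pull t) (EtCoh.push t) (EtCoh.pullPushAdj t) (EtCoh.push g)
        (EtCoh.push g') (EtCoh.push j) (EtLoc.gσ AA.{u} g j g' t h.w) F) := by
  have : Etale t := MorphismProperty.of_isPullback (P := @Etale) h.flip inferInstance
  rw [BcAbs.u0_congr (EtCoh.pull t) (EtCoh.push t) (EtCoh.pullPushAdj t) (EtCoh.push g)
    (EtCoh.push g') (EtCoh.push j) (EtLoc.gσ AA.{u} g j g' t h.w) (EtLoc.gadj AA.{u} t) F]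
  exact (EtLoc.isoAdj_u0_restr g j g' t h F).comp_iso _

/-- **etale base change in every degree**, in adjoint form -/
theorem isoAdj_etale {S T V T' : Scheme.{u}} (g : T ⟶ S) (j : V ⟶ S) [Etale j] (g' : T' ⟶ V)
    (t : T' ⟶ T) (h : IsPullback t g' g j) [PreservesFiniteLimits (EtCoh.pull t)] (q : ℕ)
    (F : EtCoh.Ab T) :
    BcAbs.IsoAdj (EtCoh.push j)
      (BcAbs.bcAdj (EtCoh.pull t) (EtCoh.push t) (EtCoh.pullPushAdj t) (EtCoh.push g)
        (EtCoh.push g') (EtCoh.push j) (EtLoc.gσ AA.{u} g j g' t h.w) q F) := by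
  have ht : Etale t := MorphismProperty.of_isPullback (P := @Etale) h.flip inferInstance
  haveI : (EtCoh.pull t).Additive := (EtCoh.pullPushAdj t).left_adjoint_additive
  haveI : (EtCoh.pull j).Additive := (EtCoh.pullPushAdj j).left_adjoint_additive
  haveI : PreservesFiniteColimits (EtCoh.pull t) := by
    have : PreservesColimitsOfSize.{0, 0} (EtCoh.pull t) :=
      (EtCoh.pullPushAdj t).leftAdjoint_preservesColimits
    exact PreservesColimitsOfSize.preservesFiniteColimits _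
  haveI : PreservesFiniteColimits (EtCoh.pull j) := by
    have : PreservesColimitsOfSize.{0, 0} (EtCoh.pull j) :=
      (EtCoh.pullPushAdj j).leftAdjoint_preservesColimits
    exact PreservesColimitsOfSize.preservesFiniteColimits _
  haveI : PreservesFiniteLimits (EtCoh.pull j) := Groth.Agent.S0101.result j
  haveI : (EtCoh.pull t).PreservesInjectiveObjects :=
    ⟨fun {J} hJ => Groth.Agent.S0623.injective_pull_of_etale t J⟩
  exact BcAbs.isoAdj_bcAdj_of_exact (EtCoh.pull t) (EtCoh.push t) (EtCoh.pullPushAdj t) (EtCoh.push g)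
    (EtCoh.push g') (EtCoh.push j) (EtLoc.gσ AA.{u} g j g' t h.w) (EtCoh.pullPushAdj j)
    (fun I _ => isoAdj_etale0 g j g' t h I) q F

lemma isoAdj_congr {X S Y T : Scheme.{u}} (g : T ⟶ S) (h : Y ⟶ X) {f₁ f₂ : X ⟶ S} (hf : f₁ = f₂)
    {e₁ e₂ : Y ⟶ T} (he : e₁ = e₂) (w₁ : e₁ ≫ g = h ≫ f₁) (w₂ : e₂ ≫ g = h ≫ f₂)
    [PreservesFiniteLimits (EtCoh.pull e₁)] [PreservesFiniteLimits (EtCoh.pull e₂)] (q : ℕ)
    (F : EtCoh.Ab T)
    (H : BcAbs.IsoAdj (EtCoh.push f₁)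
      (BcAbs.bcAdj (EtCoh.pull e₁) (EtCoh.push e₁) (EtCoh.pullPushAdj e₁) (EtCoh.push g)
        (EtCoh.push h) (EtCoh.push f₁) (EtLoc.gσ AA.{u} g f₁ h e₁ w₁) q F)) :
    BcAbs.IsoAdj (EtCoh.push f₂)
      (BcAbs.bcAdj (EtCoh.pull e₂) (EtCoh.push e₂) (EtCoh.pullPushAdj e₂) (EtCoh.push g)
        (EtCoh.push h) (EtCoh.push f₂) (EtLoc.gσ AA.{u} g f₂ h e₂ w₂) q F) := by
  subst hf
  subst he
  exact H

theorem main {X S Y T : Scheme.{u}} (f : X ⟶ S) (g : T ⟶ S) (h : Y ⟶ X) (e : Y ⟶ T)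
    (c : IsPullback e h g f) [PreservesFiniteLimits (EtCoh.pull e)] (F : EtCoh.Ab T) (q : ℕ)
    {ι : Type u} (U : ι → X.Etale) (hU : EtCoh.Covers U) (V : ι → S.Etale)
    (a : ∀ i, (U i).left ⟶ (V i).left) (ha : ∀ i, a i ≫ (V i).hom = (U i).hom ≫ f)
    (Ti Yi : ι → Scheme.{u}) (gi : ∀ i, Ti i ⟶ (V i).left) (ti : ∀ i, Ti i ⟶ T)
    (cT : ∀ i, IsPullback (ti i) (gi i) g (V i).hom)
    (hi : ∀ i, Yi i ⟶ (U i).left) (ei : ∀ i, Yi i ⟶ Ti i) (cY : ∀ i, IsPullback (ei i) (hi i) (gi i) (a i))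
    [∀ i, PreservesFiniteLimits (EtCoh.pull (ei i))]
    (hloc : ∀ i, IsIso (EtBC.bcQ (gi i) (a i) (hi i) (ei i) (cY i).w q ((EtCoh.pull (ti i)).obj F))) :
    IsIso (EtBC.bcQ g f h e c.w q F) := by
  refine EtLoc.isIso_of_isIso_grestr (A := AA.{u}) _ U hU (fun i => ?_)
  have hwk : (ei i ≫ ti i) ≫ g = (hi i ≫ (U i).hom) ≫ f := by
    rw [Category.assoc, (cT i).w, ← Category.assoc, (cY i).w, Category.assoc, ha i, Category.assoc]
  let k : Yi i ⟶ Y := c.lift (ei i ≫ ti i) (hi i ≫ (U i).hom) hwk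
  have hke : k ≫ e = ei i ≫ ti i := c.lift_fst _ _ _
  have hkh : k ≫ h = hi i ≫ (U i).hom := c.lift_snd _ _ _
  have hbig : IsPullback (k ≫ e) (hi i) g ((U i).hom ≫ f) := by
    have := (cY i).paste_horiz (cT i)
    rw [ha i, ← hke] at this
    exact this
  have hD : IsPullback k (hi i) h (U i).hom := IsPullback.of_right hbig hkh c
  haveI : PreservesFiniteLimits (EtCoh.pull (ti i)) := Groth.Agent.S0101.result _
  haveI : PreservesFiniteLimits (EtCoh.pull (ei i ≫ ti i)) := Groth.Agent.S0101.result _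
  haveI : PreservesFiniteLimits (EtCoh.pull k) := Groth.Agent.S0101.result _
  haveI : PreservesFiniteLimits (EtCoh.pull (k ≫ e)) := Groth.Agent.S0101.result _
  -- outer rectangle through V
  have hO₂ := BcAbs.bcAdj_isoAdj_vcomp (EtCoh.push g) (EtCoh.push (gi i)) (EtCoh.push (hi i))
    (EtCoh.pull (ti i)) (EtCoh.push (ti i)) (EtCoh.pullPushAdj (ti i))
    (EtCoh.pull (ei i)) (EtCoh.push (ei i)) (EtCoh.pullPushAdj (ei i))
    (EtCoh.pull (ei i ≫ ti i)) (EtCoh.push (ei i ≫ ti i)) (EtCoh.pullPushAdj (ei i ≫ ti i))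
    (EtCoh.push (V i).hom) (EtCoh.push (a i)) (EtCoh.push (a i ≫ (V i).hom))
    (EtLoc.gσ AA.{u} g (V i).hom (gi i) (ti i) (cT i).w)
    (EtLoc.gσ AA.{u} (gi i) (a i) (hi i) (ei i) (cY i).w)
    (EtLoc.gσ AA.{u} g (a i ≫ (V i).hom) (hi i) (ei i ≫ ti i) ((cY i).paste_horiz (cT i)).w)
    (EtLoc.gpushComp AA.{u} (ti i) (ei i)) (EtLoc.gpushComp AA.{u} (V i).hom (a i)) q
    (fun M => EtLoc.gcoh (V i).hom g (gi i) (ti i) (cT i).w (a i) (hi i) (ei i) (cY i).w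
      ((cY i).paste_horiz (cT i)).w M) F
    (isoAdj_etale g (V i).hom (gi i) (ti i) (cT i) q F)
    ((bcQ_iff (gi i) (a i) (hi i) (ei i) (cY i).w q _).1 (hloc i))
  have hO₁ := isoAdj_congr g (hi i) (ha i) hke.symm ((cY i).paste_horiz (cT i)).w hbig.w q F hO₂
  -- cancellation
  have hv := BcAbs.bcAdj_vcomp (EtCoh.push g) (EtCoh.push h) (EtCoh.push (hi i))
    (EtCoh.pull e) (EtCoh.push e) (EtCoh.pullPushAdj e)
    (EtCoh.pull k) (EtCoh.push k) (EtCoh.pullPushAdj k)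
    (EtCoh.pull (k ≫ e)) (EtCoh.push (k ≫ e)) (EtCoh.pullPushAdj (k ≫ e))
    (EtCoh.push f) (EtCoh.push (U i).hom) (EtCoh.push ((U i).hom ≫ f))
    (EtLoc.gσ AA.{u} g f h e c.w)
    (EtLoc.gσ AA.{u} h (U i).hom (hi i) k hD.w)
    (EtLoc.gσ AA.{u} g ((U i).hom ≫ f) (hi i) (k ≫ e) hbig.w)
    (EtLoc.gpushComp AA.{u} e k) (EtLoc.gpushComp AA.{u} f (U i).hom) q
    (fun M => EtLoc.gcoh f g h e c.w (U i).hom (hi i) k hD.w hbig.w M) F
  exact BcAbs.isIso_map_of_pasting (EtLoc.gpushComp AA.{u} f (U i).hom) (EtCoh.pullPushAdj f)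
    (EtLoc.gadj AA.{u} (U i).hom) _ _ _ _ hv hO₁
    (isoAdj_etale h (U i).hom (hi i) k hD q ((EtCoh.pull e).obj F))

end EtLocAb

end Groth.Agent.Lib.helper27
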