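import Mathlib
import Groth.Prelude.Def_EtBC2
import Groth.Agent.Lib.Helper27.EtLocAb
import Groth.Agent.Lib.Helper27.BcDelta4
import Groth.Agent.Lib.Helper27.Horseshoe7
import Groth.Agent.Lib.Helper1.Efface

set_option autoImplicit false
set_option linter.unusedVariables false
set_option linter.style.haveILetI false

/-!
helper27: the inductive step for the base change map `EtBC.bcQ` of abelian etale sheaves killed
by `n`: isomorphism in degrees `< q` implies injectivity in degree `q` and injectivity of the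
induced maps on cokernels.
-/

universe u
open CategoryTheory CategoryTheory.Limits AlgebraicGeometry Opposite
open EtBC

namespace Groth.Agent.Lib.helper27

namespace BcDelta5

open Groth.Agent.H1.Efface Groth.Agent.H1.ConstrGen

/-- the coefficient category -/
abbrev AA := AddCommGrpCat.{u + 1}

section Emb

variable {T S' : Scheme.{u}} (g : T ⟶ S')

lemma killedBy_kernel (I : EtCoh.Ab T) (n : ℕ) : EtCoh.KilledBy n (kernel (n • 𝟙 I)) := by
  apply killedBy_of_smul_id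
  rw [← cancel_mono (kernel.ι (n • 𝟙 I)), Preadditive.nsmul_comp, Category.id_comp, zero_comp]
  have := kernel.condition (n • 𝟙 I)
  rw [Preadditive.comp_nsmul, Category.comp_id] at this
  exact this

lemma killedBy_cokernel {F K : EtCoh.Ab T} (ι : F ⟶ K) (n : ℕ) (hK : EtCoh.KilledBy n K) :
    EtCoh.KilledBy n (cokernel ι) := by
  apply killedBy_of_smul_id
  rw [← cancel_epi (cokernel.π ι), Preadditive.comp_nsmul, Category.comp_id, comp_zero,
    ← Category.id_comp (cokernel.π ι), ← Preadditive.nsmul_comp, smul_id_of_killedBy n hK,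
    zero_comp]

/-- embedding of a sheaf killed by `n` into a `g_*`-acyclic sheaf killed by `n`. -/
theorem exists_acyclic_embedding (n : ℕ) (F : EtCoh.Ab T) (hF : EtCoh.KilledBy n F) :
    ∃ (K : EtCoh.Ab T) (ι : F ⟶ K), Mono ι ∧ EtCoh.KilledBy n K ∧
      ∀ i : ℕ, 0 < i → IsZero ((EtCoh.Rpush g i).obj K) := by
  obtain ⟨I, hI⟩ : ∃ I : EtCoh.Ab T, I = Injective.under F := ⟨_, rfl⟩
  haveI : Injective I := hI ▸ inferInstance
  obtain ⟨ι, hιm⟩ : ∃ ι : F ⟶ I, Mono ι := by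
    subst hI
    exact ⟨Injective.ι F, inferInstance⟩
  rcases Nat.eq_zero_or_pos n with hn | hn
  · subst hn
    refine ⟨I, ι, hιm, fun U s => zero_smul _ _, fun i hi => ?_⟩
    obtain ⟨i, rfl⟩ : ∃ j, i = j + 1 := ⟨i - 1, by omega⟩
    exact Functor.isZero_rightDerived_obj_injective_succ _ i _
  · have hι : ι ≫ (n • 𝟙 I) = 0 := by
      rw [Preadditive.comp_nsmul, Category.comp_id, ← Category.id_comp ι, ← Preadditive.nsmul_comp,
        smul_id_of_killedBy n hF, zero_comp]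
    let u₀ : F ⟶ kernel (n • 𝟙 I) := kernel.lift _ ι hι
    have hu₀ : u₀ ≫ kernel.ι (n • 𝟙 I) = ι := kernel.lift_ι _ ι hι
    haveI : Mono (u₀ ≫ kernel.ι (n • 𝟙 I)) := hu₀ ▸ hιm
    have hm : Mono u₀ := mono_of_mono u₀ (kernel.ι (n • 𝟙 I))
    refine ⟨kernel (n • 𝟙 I), u₀, hm, killedBy_kernel I n, ?_⟩
    -- acyclicity
    haveI : PreservesFiniteLimits (EtCoh.push g) := by
      have : PreservesLimitsOfSize.{0, 0} (EtCoh.push g) :=
        (EtCoh.pullPushAdj g).rightAdjoint_preservesLimits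
      exact PreservesLimitsOfSize.preservesFiniteLimits _
    haveI : (EtCoh.push g).Additive := Functor.additive_of_preserves_binary_products _
    have hS := torsSeq_shortExact I n hn
    have hacyc : ∀ i : ℕ, 0 < i → IsZero (((EtCoh.push g).rightDerived i).obj I) := by
      intro i hi
      obtain ⟨i, rfl⟩ : ∃ j, i = j + 1 := ⟨i - 1, by omega⟩
      exact Functor.isZero_rightDerived_obj_injective_succ _ i _
    haveI : Injective ((EtCoh.push g).obj I) := Groth.Agent.S0623.injective_push g I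
    have hepi : Epi ((EtCoh.push g).map (torsSeq I n).g) := by
      have h1 : (EtCoh.push g).map (torsSeq I n).g = n • 𝟙 ((EtCoh.push g).obj I) := by
        change (EtCoh.push g).map (n • 𝟙 I) = _
        rw [Functor.map_nsmul, CategoryTheory.Functor.map_id]
      have h2 : Epi (n • 𝟙 ((EtCoh.push g).obj I)) := epi_nsmul ((EtCoh.push g).obj I) n hn
      rw [h1]
      exact h2
    exact ((Horseshoe.rightAcyclic_shortExact (EtCoh.push g) hS).2.2 hacyc hacyc hepi).1

end Emb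

section Main

variable {S' X' T Y : Scheme.{u}} (g : T ⟶ S') (f' : X' ⟶ S') (h : Y ⟶ X') (e : Y ⟶ T)
  (w : e ≫ g = h ≫ f') [PreservesFiniteLimits (EtCoh.pull e)]

/-- `EtBC.bcQ` is the abstract `bcT` -/
lemma bcQ_eq_bcT (q : ℕ) (F : EtCoh.Ab T) :
    EtBC.bcQ g f' h e w q F =
      BcAbs.bcT (EtCoh.pull e) (EtCoh.push e) (EtCoh.pullPushAdj e) (EtCoh.push g) (EtCoh.push h)
        (EtCoh.push f') (EtLoc.gσ AA.{u} g f' h e w) (EtCoh.pull f') (EtCoh.pullPushAdj f') q F :=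
  rfl

/-- the inductive step for a monomorphism into an acyclic sheaf -/
theorem step (q : ℕ) (hq : 1 ≤ q) {F K : EtCoh.Ab T} (ι : F ⟶ K) [Mono ι]
    (hK : IsZero ((EtCoh.Rpush g q).obj K))
    (h2 : IsIso (EtBC.bcQ g f' h e w (q - 1) K))
    (h3 : IsIso (EtBC.bcQ g f' h e w (q - 1) (cokernel ι))) :
    Mono (EtBC.bcQ g f' h e w q F) ∧
      ∃ z : EtBC.bcQ g f' h e w q F ≫ (EtCoh.Rpush h q).map ((EtCoh.pull e).map ι) = 0,
        (ShortComplex.mk _ _ z).Exact := by
  haveI : (EtCoh.pull e).Additive := (EtCoh.pullPushAdj e).left_adjoint_additive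
  haveI : PreservesFiniteColimits (EtCoh.pull e) := by
    have : PreservesColimitsOfSize.{0, 0} (EtCoh.pull e) :=
      (EtCoh.pullPushAdj e).leftAdjoint_preservesColimits
    exact PreservesColimitsOfSize.preservesFiniteColimits _
  let S : ShortComplex (EtCoh.Ab T) := ShortComplex.mk ι (cokernel.π ι) (cokernel.condition ι)
  have hS : S.ShortExact :=
    { exact := ShortComplex.exact_cokernel ι
      mono_f := inferInstanceAs (Mono ι)
      epi_g := inferInstanceAs (Epi (cokernel.π ι)) }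
  have hS' : (S.map (EtCoh.pull e)).ShortExact := hS.map_of_exact (EtCoh.pull e)
  have hq' : q - 1 + 1 = q := by omega
  have h2e : Epi (EtBC.bcQ g f' h e w (q - 1) K) := inferInstance
  have h3m : Mono (EtBC.bcQ g f' h e w (q - 1) (cokernel ι)) := inferInstance
  have h3e : Epi (EtBC.bcQ g f' h e w (q - 1) (cokernel ι)) := inferInstance
  exact BcAbs.key (EtCoh.pull e) (EtCoh.push e) (EtCoh.pullPushAdj e) (EtCoh.push g) (EtCoh.push h)
    (EtCoh.push f') (EtLoc.gσ AA.{u} g f' h e w) (EtCoh.pull f') (EtCoh.pullPushAdj f')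
    (S := S) hS hS' (q - 1) q hq' hK h2e h3m h3e

end Main

section Result

theorem main {X S : Scheme.{u}} (f : X ⟶ S) (n q : ℕ) (hq : 1 ≤ q)
    (hBC : (∀ ⦃S₁ X₁ T₁ Y₁ : Scheme.{u}⦄ (p₁ : S₁ ⟶ S) (f₁ : X₁ ⟶ S₁) (r₁ : X₁ ⟶ X),
        IsPullback r₁ f₁ f p₁ →
        ∀ (g₁ : T₁ ⟶ S₁) (h₁ : Y₁ ⟶ X₁) (e₁ : Y₁ ⟶ T₁) (c₁ : IsPullback e₁ h₁ g₁ f₁)
          [QuasiCompact g₁] [QuasiSeparated g₁] [PreservesFiniteLimits (EtCoh.pull e₁)]
          (G₁ : EtCoh.Ab T₁), EtCoh.KilledBy n G₁ →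
          ∀ q₁ : ℕ, q₁ ≤ q - 1 → IsIso (EtBC.bcQ g₁ f₁ h₁ e₁ c₁.w q₁ G₁)))
    {S' X' T Y : Scheme.{u}} (p : S' ⟶ S) (f' : X' ⟶ S') (r : X' ⟶ X) (hX : IsPullback r f' f p)
    (g : T ⟶ S') (h : Y ⟶ X') (e : Y ⟶ T) (c : IsPullback e h g f') [QuasiCompact g] [QuasiSeparated g]
    [PreservesFiniteLimits (EtCoh.pull e)] (F : EtCoh.Ab T) (hF : EtCoh.KilledBy n F) :
    Mono (EtBC.bcQ g f' h e c.w q F) ∧
      ∀ (G : EtCoh.Ab T) (ι : F ⟶ G) [Mono ι], EtCoh.KilledBy n G →
        ∃ φ : cokernel (EtBC.bcQ g f' h e c.w q F) ⟶ cokernel (EtBC.bcQ g f' h e c.w q G), Mono φ ∧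
          cokernel.π (EtBC.bcQ g f' h e c.w q F) ≫ φ =
            (EtCoh.Rpush h q).map ((EtCoh.pull e).map ι) ≫ cokernel.π (EtBC.bcQ g f' h e c.w q G) := by
  have hiso : ∀ (M : EtCoh.Ab T), EtCoh.KilledBy n M → IsIso (EtBC.bcQ g f' h e c.w (q - 1) M) :=
    fun M hM => hBC p f' r hX g h e c M hM (q - 1) le_rfl
  have hq0 : 0 < q := hq
  refine ⟨?_, ?_⟩
  · obtain ⟨K, ι, hι, hKn, hK⟩ := exists_acyclic_embedding g n F hF
    exact (step g f' h e c.w q hq ι (hK q hq0) (hiso K hKn)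
      (hiso _ (killedBy_cokernel ι n hKn))).1
  · intro G ι hι hG
    obtain ⟨K, j, hj, hKn, hK⟩ := exists_acyclic_embedding g n G hG
    haveI : Mono (ι ≫ j) := mono_comp ι j
    have hex := (step g f' h e c.w q hq (ι ≫ j) (hK q hq0) (hiso K hKn)
      (hiso _ (killedBy_cokernel (ι ≫ j) n hKn))).2
    exact BcAbs.coker_mono (EtCoh.pull e) (EtCoh.push e) (EtCoh.pullPushAdj e) (EtCoh.push g)
      (EtCoh.push h) (EtCoh.push f') (EtLoc.gσ AA.{u} g f' h e c.w) (EtCoh.pull f')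
      (EtCoh.pullPushAdj f') ι j q (hK q hq0) hex

end Result

end BcDelta5

end Groth.Agent.Lib.helper27
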