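import Mathlib
import Groth.Prelude.Def_FibDesc
import Groth.Agent.Lib.Helper27.BaseCh

set_option autoImplicit false
set_option linter.unusedSectionVars false
set_option linter.unusedVariables false
set_option linter.style.haveILetI false
set_option backward.isDefEq.respectTransparency false
set_option backward.isDefEq.respectTransparency.types false

namespace Groth.Agent.Lib.helper27

open CategoryTheory Limits Opposite Pseudofunctor Pseudofunctor.CoGrothendieck
open FibDesc TopologicalSpace

universe u

namespace BiAug

open BigSec TotSide TAug RanV SqSec PullConst DecDef GPull DecNat GPullK PushSec ResTr BaseCh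

variable {D₁ D₂ : Type} [SmallCategory D₁] [SmallCategory D₂]

/-- morphisms out of the pair of initial objects are unique -/
lemma hom_star_ext {x : WithInitial D₁ × WithInitial D₂}
    (f g : ((WithInitial.star, WithInitial.star) : WithInitial D₁ × WithInitial D₂) ⟶ x) :
    f = g := by
  apply Prod.ext
  · exact Subsingleton.elim _ _
  · exact Subsingleton.elim _ _

variable (D₁ D₂) in
/-- the inclusion of the first augmented factor -/
def inA : WithInitial D₁ ⥤ WithInitial D₁ × WithInitial D₂ :=
  Functor.prod' (𝟭 _) ((Functor.const _).obj WithInitial.star)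

variable (D₁) in
/-- the inclusion of a row -/
def inRow (m : D₁) : WithInitial D₂ ⥤ WithInitial D₁ × WithInitial D₂ :=
  Functor.prod' ((Functor.const _).obj (WithInitial.of m)) (𝟭 _)

variable (D₁ D₂) in
/-- the inclusion of the product of the index categories -/
def inZ : WithInitial (D₁ × D₂) ⥤ WithInitial D₁ × WithInitial D₂ :=
  WithInitial.lift (Z := ((WithInitial.star, WithInitial.star) : WithInitial D₁ × WithInitial D₂))
    ((WithInitial.incl (C := D₁)).prod (WithInitial.incl (C := D₂)))
    (fun x => (WithInitial.starInitial.to _, WithInitial.starInitial.to _))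
    (fun x y f => hom_star_ext _ _)

variable (W : (WithInitial D₁ × WithInitial D₂)ᵒᵖ ⥤ TopCat.{u})

/-- the first augmented factor -/
abbrev bA : (WithInitial D₁)ᵒᵖ ⥤ TopCat.{u} := (inA D₁ D₂).op ⋙ W

/-- the total diagram -/
abbrev bZ : (WithInitial (D₁ × D₂))ᵒᵖ ⥤ TopCat.{u} := (inZ D₁ D₂).op ⋙ W

/-- the rows -/
abbrev bRow (m : D₁) : (WithInitial D₂)ᵒᵖ ⥤ TopCat.{u} := (inRow D₁ m).op ⋙ W

/-- equality of composites of images of morphisms -/
lemma map_sq {x₁ x₂ x₃ x₄ : WithInitial D₁ × WithInitial D₂} (a : x₂ ⟶ x₁) (b : x₃ ⟶ x₂)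
    (c : x₄ ⟶ x₁) (d : x₃ ⟶ x₄) (h : b ≫ a = d ≫ c) :
    W.map a.op ≫ W.map b.op = W.map c.op ≫ W.map d.op := by
  rw [← W.map_comp, ← W.map_comp, ← op_comp, ← op_comp, h]

/-- the vertical morphisms of the index category -/
abbrev vert (m : D₁) (n : D₂) :
    ((WithInitial.of m, WithInitial.star) : WithInitial D₁ × WithInitial D₂) ⟶
      (WithInitial.of m, WithInitial.of n) :=
  (𝟙 _, WithInitial.starInitial.to _)

/-- the projection of the total diagram to the first factor -/
noncomputable def cA : AData (bA W) (bZ W) where
  sh := (CategoryTheory.Prod.fst D₁ D₂).op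
  e n := W.map (vert n.unop.1 n.unop.2).op
  e_nat {n' n} θ := by
    apply map_sq
    apply Prod.ext
    · show (𝟙 (WithInitial.of n.unop.1 : WithInitial D₁)) ≫ WithInitial.incl.map θ.unop.1 =
        WithInitial.incl.map θ.unop.1 ≫ 𝟙 _
      rw [Category.id_comp, Category.comp_id]
    · exact Subsingleton.elim _ _
  j := 𝟙 _
  e_aug n := by
    rw [Category.comp_id]
    show W.map _ = W.map _ ≫ W.map _
    rw [← W.map_comp]
    refine congrArg W.map ?_
    apply Quiver.Hom.unop_inj
    exact hom_star_ext _ _

/-- the rows over the levels of the first factor -/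
noncomputable def cRow (m : D₁) : AData (bA W) (bRow W m) where
  sh := (Functor.const _).obj (op m)
  e n := W.map (vert m n.unop).op
  e_nat {n' n} θ := by
    apply map_sq
    apply Prod.ext
    · rfl
    · exact Subsingleton.elim _ _
  j := aP (bA W) (op m)
  e_aug n := rfl

/-- the inclusion of a row in the total diagram -/
noncomputable def iRow (m : D₁) : AData (bZ W) (bRow W m) where
  sh := (Functor.prod' ((Functor.const _).obj m) (𝟭 D₂)).op
  e n := 𝟙 _
  e_nat {n' n} θ := by
    rw [Category.comp_id, Category.id_comp]
    rfl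
  j := aP (bA W) (op m)
  e_aug n := by
    rw [Category.id_comp]
    show W.map _ ≫ W.map _ = W.map _
    rw [← W.map_comp]
    refine congrArg W.map ?_
    apply Quiver.Hom.unop_inj
    exact hom_star_ext _ _

end BiAug

end Groth.Agent.Lib.helper27
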