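import Mathlib
import Groth.Prelude.Def_CohTop
import Groth.Agent.Lib.Helper27.StalkAb
import Groth.Agent.Lib.Helper27.SqSec

set_option autoImplicit false
set_option linter.unusedSectionVars false
set_option linter.unusedVariables false
set_option linter.style.haveILetI false
set_option backward.isDefEq.respectTransparency false

namespace Groth.Agent.Lib.helper27

open CategoryTheory Limits Opposite TopologicalSpace

universe u

namespace DblPull

open StalkAb BigSec SqSec

variable {X' S' X S : TopCat.{u}} (a' : X' ⟶ S') (j : S' ⟶ S) (e : X' ⟶ X) (a : X ⟶ S)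
  (w : a' ≫ j = e ≫ a) (G : CohTop.Ab S)

include w in
lemma le_sq (V : Opens S) :
    (Opens.map a').obj ((Opens.map j).obj V) ≤ (Opens.map e).obj ((Opens.map a).obj V) := by
  intro z hz
  have h1 : j (a' z) ∈ V := hz
  have h2 : j (a' z) = a (e z) := ConcreteCategory.congr_hom w z
  rw [h2] at h1
  exact h1

/-- germs of double pullbacks -/
lemma germ_ρρ (V : Opens S) (g : G.obj.obj (op V)) (z : X') (hz : a (e z) ∈ V) :
    TopCat.Presheaf.germ ((CohTop.pull e).obj ((CohTop.pull a).obj G)).obj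
        ((Opens.map e).obj ((Opens.map a).obj V)) z hz
        (ρ e ((CohTop.pull a).obj G) ((Opens.map a).obj V) (ρ a G V g)) =
      PullGerm.Φ e ((CohTop.pull a).obj G) z
        (PullGerm.Φ a G (e z) (TopCat.Presheaf.germ G.obj V (a (e z)) hz g)) := by
  rw [PullGerm.germ_unit_apply, PullGerm.germ_unit_apply]

include w in
/-- a morphism between double pullbacks which is the expected one on sections coming from the
base is an isomorphism -/
theorem isIso_of_ρρ (lam : (CohTop.pull a').obj ((CohTop.pull j).obj G) ⟶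
      (CohTop.pull e).obj ((CohTop.pull a).obj G))
    (h : ∀ (V : Opens S) (g : G.obj.obj (op V)),
      lam.hom.app (op ((Opens.map a').obj ((Opens.map j).obj V)))
          (ρ a' ((CohTop.pull j).obj G) ((Opens.map j).obj V) (ρ j G V g)) =
        ((CohTop.pull e).obj ((CohTop.pull a).obj G)).obj.map (homOfLE (le_sq a' j e a w V)).op
          (ρ e ((CohTop.pull a).obj G) ((Opens.map a).obj V) (ρ a G V g))) :
    IsIso lam := by
  apply isIso_of_stk
  intro z
  have hpt : j (a' z) = a (e z) := ConcreteCategory.congr_hom w z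
  -- the key formula on germs
  have key : ∀ (V : Opens S) (g : G.obj.obj (op V)) (hz : j (a' z) ∈ V),
      (stk z).map lam (TopCat.Presheaf.germ ((CohTop.pull a').obj ((CohTop.pull j).obj G)).obj
        ((Opens.map a').obj ((Opens.map j).obj V)) z hz
        (ρ a' ((CohTop.pull j).obj G) ((Opens.map j).obj V) (ρ j G V g))) =
      PullGerm.Φ e ((CohTop.pull a).obj G) z
        (PullGerm.Φ a G (e z) (TopCat.Presheaf.germ G.obj V (a (e z)) (hpt ▸ hz) g)) := by
    intro V g hz
    have e1 := TopCat.Presheaf.stalkFunctor_map_germ_apply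
      ((Opens.map a').obj ((Opens.map j).obj V)) z hz lam.hom
      (ρ a' ((CohTop.pull j).obj G) ((Opens.map j).obj V) (ρ j G V g))
    refine e1.trans ?_
    rw [h V g]
    have e2 := TopCat.Presheaf.germ_res_apply ((CohTop.pull e).obj ((CohTop.pull a).obj G)).obj
      (homOfLE (le_sq a' j e a w V)) z hz
      (ρ e ((CohTop.pull a).obj G) ((Opens.map a).obj V) (ρ a G V g))
    refine e2.trans ?_
    exact germ_ρρ e a G V g z (hpt ▸ hz)
  refine (ConcreteCategory.isIso_iff_bijective _).2 ⟨?_, ?_⟩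
  · rw [injective_iff_map_eq_zero]
    intro ξ hξ
    obtain ⟨η, rfl⟩ := (PullGerm.Φ_bijective a' ((CohTop.pull j).obj G) z).2 ξ
    obtain ⟨γ, rfl⟩ := (PullGerm.Φ_bijective j G (a' z)).2 η
    obtain ⟨V, hz, g, rfl⟩ := TopCat.Presheaf.exists_germ_eq G.obj γ
    rw [PullGerm.germ_unit_apply, PullGerm.germ_unit_apply] at hξ
    have k := key V g hz
    have k' : PullGerm.Φ e ((CohTop.pull a).obj G) z
        (PullGerm.Φ a G (e z) (TopCat.Presheaf.germ G.obj V (a (e z)) (hpt ▸ hz) g)) = 0 :=
      k.symm.trans hξ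
    have k1 := (PullGerm.Φ_bijective e ((CohTop.pull a).obj G) z).1 (k'.trans (map_zero _).symm)
    have k2 := (PullGerm.Φ_bijective a G (e z)).1 (k1.trans (map_zero _).symm)
    have k3 : TopCat.Presheaf.germ G.obj V (a (e z)) (hpt ▸ hz) g =
        TopCat.Presheaf.germ G.obj V (a (e z)) (hpt ▸ hz) 0 := by
      rw [map_zero]; exact k2
    obtain ⟨V₁, hzV₁, iU, iV, e3⟩ := TopCat.Presheaf.germ_eq G.obj (a (e z)) (hpt ▸ hz) (hpt ▸ hz)
      g 0 k3
    rw [map_zero] at e3
    have hz1 : j (a' z) ∈ V₁ := hpt ▸ hzV₁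
    have e4 := TopCat.Presheaf.germ_res_apply G.obj iU (j (a' z)) hz1 g
    rw [e3, map_zero] at e4
    rw [← e4, map_zero, map_zero]
  · intro ζ
    obtain ⟨η, rfl⟩ := (PullGerm.Φ_bijective e ((CohTop.pull a).obj G) z).2 ζ
    obtain ⟨γ, rfl⟩ := (PullGerm.Φ_bijective a G (e z)).2 η
    obtain ⟨V, hz, g, rfl⟩ := TopCat.Presheaf.exists_germ_eq G.obj γ
    have hz' : j (a' z) ∈ V := hpt.symm ▸ hz
    exact ⟨_, key V g hz'⟩

end DblPull

end Groth.Agent.Lib.helper27
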