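import Mathlib
import Groth.Prelude.Def_CohTop
import Groth.Agent.Lib.Helper27.DblPull
import Groth.Agent.Lib.Helper27.BigSec

set_option autoImplicit false
set_option linter.unusedSectionVars false
set_option linter.unusedVariables false
set_option linter.style.haveILetI false
set_option backward.isDefEq.respectTransparency false

namespace Groth.Agent.Lib.helper27

open CategoryTheory Limits Opposite TopologicalSpace

universe u

namespace RhoId

open StalkAb BigSec SqSec

variable {X : TopCat.{u}} (G : CohTop.Ab X)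

/-- the unit of the pullback along the identity is injective on sections -/
theorem ρ_id_injective (U : Opens X) : Function.Injective (ρ (𝟙 X) G U) := by
  intro s t hst
  apply TopCat.Presheaf.section_ext G U
  intro x hx
  have h1 := PullGerm.germ_unit_apply (𝟙 X) G x U hx s
  have h2 := PullGerm.germ_unit_apply (𝟙 X) G x U hx t
  have h3 : PullGerm.Φ (𝟙 X) G x (TopCat.Presheaf.germ G.obj U ((𝟙 X) x) hx s) =
      PullGerm.Φ (𝟙 X) G x (TopCat.Presheaf.germ G.obj U ((𝟙 X) x) hx t) := by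
    rw [h1, h2]
    exact congrArg _ hst
  exact (PullGerm.Φ_bijective (𝟙 X) G x).1 h3

/-- the unit of the pullback along the identity is surjective on sections -/
theorem ρ_id_surjective (U : Opens X) : Function.Surjective (ρ (𝟙 X) G U) := by
  intro t
  let P := (CohTop.pull (𝟙 X)).obj G
  -- local data
  have hloc : ∀ x : U, ∃ (W : Opens X) (hxW : x.1 ∈ W) (hWU : W ≤ U) (g : G.obj.obj (op W)),
      ρ (𝟙 X) G W g = P.obj.map (homOfLE hWU).op t := by
    intro x
    obtain ⟨γ, hγ⟩ := (PullGerm.Φ_bijective (𝟙 X) G x.1).2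
      (TopCat.Presheaf.germ P.obj ((Opens.map (𝟙 X)).obj U) x.1 x.2 t)
    obtain ⟨V, hxV, g, rfl⟩ := TopCat.Presheaf.exists_germ_eq G.obj γ
    have h1 := PullGerm.germ_unit_apply (𝟙 X) G x.1 V hxV g
    have h2 : TopCat.Presheaf.germ P.obj ((Opens.map (𝟙 X)).obj V) x.1 hxV (ρ (𝟙 X) G V g) =
        TopCat.Presheaf.germ P.obj ((Opens.map (𝟙 X)).obj U) x.1 x.2 t := h1.symm.trans hγ
    obtain ⟨W, hxW, iV, iU, e⟩ := TopCat.Presheaf.germ_eq P.obj x.1 hxV x.2 _ _ h2
    refine ⟨W, hxW, leOfHom iU, G.obj.map (show W ⟶ V from iV).op g, ?_⟩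
    have h3 := ConcreteCategory.congr_hom (ρ_res (𝟙 X) G (show W ⟶ V from iV)) g
    exact h3.trans e
  choose W hxW hWU g hg using hloc
  -- compatibility
  have hcomp : TopCat.Presheaf.IsCompatible G.obj W g := by
    intro x y
    apply ρ_id_injective G
    have a1 := ConcreteCategory.congr_hom (ρ_res (𝟙 X) G (Opens.infLELeft (W x) (W y))) (g x)
    have a2 := ConcreteCategory.congr_hom (ρ_res (𝟙 X) G (Opens.infLERight (W x) (W y))) (g y)
    refine a1.trans (Eq.trans ?_ a2.symm)
    show P.obj.map _ (ρ (𝟙 X) G (W x) (g x)) = P.obj.map _ (ρ (𝟙 X) G (W y) (g y))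
    rw [hg x, hg y]
    have b1 := map_map_apply P.obj (hWU x) (inf_le_left : W x ⊓ W y ≤ W x)
      ((inf_le_left : W x ⊓ W y ≤ W x).trans (hWU x)) t
    have b2 := map_map_apply P.obj (hWU y) (inf_le_right : W x ⊓ W y ≤ W y)
      ((inf_le_left : W x ⊓ W y ≤ W x).trans (hWU x)) t
    exact b1.trans b2.symm
  have hcov : U ≤ iSup W := by
    intro x hx
    rw [Opens.mem_iSup]
    exact ⟨⟨x, hx⟩, hxW ⟨x, hx⟩⟩
  obtain ⟨s, hs, -⟩ := TopCat.Sheaf.existsUnique_gluing' G W U (fun x => homOfLE (hWU x)) hcov g hcomp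
  refine ⟨s, ?_⟩
  apply TopCat.Sheaf.eq_of_locally_eq' P W U (fun x => homOfLE (hWU x)) hcov
  intro x
  have a1 := ConcreteCategory.congr_hom (ρ_res (𝟙 X) G (homOfLE (hWU x))) s
  refine a1.symm.trans ?_
  rw [ConcreteCategory.comp_apply, hs x]
  exact hg x

theorem ρ_id_bijective (U : Opens X) : Function.Bijective (ρ (𝟙 X) G U) :=
  ⟨ρ_id_injective G U, ρ_id_surjective G U⟩

end RhoId

end Groth.Agent.Lib.helper27
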