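import Mathlib
import Groth.Prelude.Def_FibDesc
import Groth.Agent.Lib.Helper27.BaseCh
import Groth.Agent.Lib.Helper27.RhoId

set_option autoImplicit false
set_option linter.unusedSectionVars false
set_option linter.unusedVariables false
set_option linter.style.haveILetI false
set_option backward.isDefEq.respectTransparency false
set_option backward.isDefEq.respectTransparency.types false

namespace Groth.Agent.Lib.helper27

open CategoryTheory Limits Opposite Pseudofunctor Pseudofunctor.CoGrothendieck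
open FibDesc TopologicalSpace

universe u

namespace IdPull

open BigSec TotSide TAug RanV SqSec PullConst DecDef GPull DecNat GPullK PushSec ResTr BaseCh

variable {D D' : Type} [SmallCategory D] [SmallCategory D']
  {Y : (WithInitial D)ᵒᵖ ⥤ TopCat.{u}} {Y' : (WithInitial D')ᵒᵖ ⥤ TopCat.{u}}

/-- the level maps behave like identities (homeomorphisms) -/
structure IdLike (c : PData Y Y') : Prop where
  bij : ∀ (n : D'ᵒᵖ) (F : CohTop.Ab (Xs Y (c.sh.obj n))) (U : Opens (Xs Y (c.sh.obj n))),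
    Function.Bijective (ρ (c.e n) F U)
  surj : ∀ (n : D'ᵒᵖ) (W' : Opens (Xs Y' n)),
    ∃ U : Opens (Xs Y (c.sh.obj n)), W' = (Opens.map (c.e n)).obj U
  mono : ∀ (n : D'ᵒᵖ) (U₁ U₂ : Opens (Xs Y (c.sh.obj n))),
    (Opens.map (c.e n)).obj U₂ ≤ (Opens.map (c.e n)).obj U₁ → U₂ ≤ U₁

variable {c : PData Y Y'} (hc : IdLike c) (M : DShY Y)

include hc in
/-- pulling back sections is bijective -/
theorem γsec_bijective (n : D'ᵒᵖ) (U : Opens (Xs Y (c.sh.obj n))) (W' : Opens (Xs Y' n))
    (h : W' ≤ (Opens.map (c.e n)).obj U) (h' : (Opens.map (c.e n)).obj U ≤ W') :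
    Function.Bijective (γsec c M n U W' h) := by
  obtain rfl : W' = (Opens.map (c.e n)).obj U := le_antisymm h h'
  have h1 : γsec c M n U _ h = ρ (c.e n) ((restrP Y (c.sh.obj n)).obj M) U := by
    ext x
    rw [γsec_apply]
    have : (POb c M n).obj.map (homOfLE h).op = 𝟙 _ := CategoryTheory.Functor.map_id _ _
    exact ConcreteCategory.congr_hom this _
  rw [h1]
  exact hc.bij n _ U

lemma isFlasque_of_iso {X : TopCat.{u}} {F G : CohTop.Ab X} (e : F ≅ G)
    [hF : TopCat.Sheaf.IsFlasque F] : TopCat.Sheaf.IsFlasque G where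
  epi {U V} i := by
    have h1 : Epi (F.obj.map i) := hF.epi i
    rw [AddCommGrpCat.epi_iff_surjective] at h1 ⊢
    intro y
    obtain ⟨x, hx⟩ := h1 (e.inv.hom.app V y)
    refine ⟨e.hom.hom.app U x, ?_⟩
    have h2 := ConcreteCategory.congr_hom (e.hom.hom.naturality i) x
    refine h2.symm.trans ?_
    rw [ConcreteCategory.comp_apply, hx]
    have h3 : e.inv.hom.app V ≫ e.hom.hom.app V = 𝟙 _ := by
      have := congrArg (fun m => m.hom.app V) e.inv_hom_id
      exact this
    exact ConcreteCategory.congr_hom h3 y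

include hc in
/-- the levels of the pullback of a sheaf with flasque levels are flasque -/
theorem isFlasque_POb (n : D'ᵒᵖ) [hF : TopCat.Sheaf.IsFlasque ((restrP Y (c.sh.obj n)).obj M)] :
    TopCat.Sheaf.IsFlasque (POb c M n) where
  epi {W₁ W₂} i := by
    obtain ⟨W₁'⟩ := W₁
    obtain ⟨W₂'⟩ := W₂
    obtain ⟨U₁, rfl⟩ := hc.surj n W₁'
    obtain ⟨U₂, rfl⟩ := hc.surj n W₂'
    have hU : U₂ ≤ U₁ := hc.mono n U₁ U₂ (leOfHom i.unop)
    rw [AddCommGrpCat.epi_iff_surjective]
    intro y
    obtain ⟨x₂, rfl⟩ := (hc.bij n ((restrP Y (c.sh.obj n)).obj M) U₂).2 y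
    have h1 : Epi (((restrP Y (c.sh.obj n)).obj M).obj.map (homOfLE hU).op) := hF.epi _
    rw [AddCommGrpCat.epi_iff_surjective] at h1
    obtain ⟨x₁, rfl⟩ := h1 x₂
    refine ⟨ρ (c.e n) ((restrP Y (c.sh.obj n)).obj M) U₁ x₁, ?_⟩
    have h2 := ConcreteCategory.congr_hom
      (ρ_res (c.e n) ((restrP Y (c.sh.obj n)).obj M) (homOfLE hU)) x₁
    refine Eq.trans ?_ h2.symm
    have h3 : i = ((Opens.map (c.e n)).map (homOfLE hU)).op := Subsingleton.elim _ _
    rw [h3]
    rfl

include hc in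
theorem isFlasque_level (n : D'ᵒᵖ) [hF : TopCat.Sheaf.IsFlasque ((restrP Y (c.sh.obj n)).obj M)] :
    TopCat.Sheaf.IsFlasque ((restrP Y' n).obj ((Pull c).obj M)) := by
  haveI : TopCat.Sheaf.IsFlasque ((restrP Y (c.sh.obj n) ⋙ CohTop.pull (c.e n)).obj M) :=
    isFlasque_POb hc M n
  exact isFlasque_of_iso ((GPull.levelIso c n).app M).symm

section KV

variable (c' : AData Y Y') (V : Opens (Y.obj (bot D)))

lemma e_WV_le (n : D'ᵒᵖ) :
    (Opens.map (c'.e n)).obj (WV Y V (c'.sh.obj n)) ≤ WV Y' (jV c' V) n := by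
  intro y hy
  have h1 : (aP Y (c'.sh.obj n)) ((c'.e n) y) ∈ V := hy
  have h2 : c'.j ((aP Y' n) y) = (aP Y (c'.sh.obj n)) ((c'.e n) y) :=
    ConcreteCategory.congr_hom (c'.e_aug n) y
  rw [← h2] at h1
  exact h1

/-- pulling back sections over the preimages of `V`, as a morphism of diagrams -/
noncomputable def γKapp (M : DShY Y) :
    c'.sh.op ⋙ (KV Y V).obj M ⟶ (KV Y' (jV c' V)).obj ((Pull c'.toPData).obj M) where
  app n := γsec c'.toPData M n.unop (WV Y V (c'.sh.obj n.unop)) (WV Y' (jV c' V) n.unop)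
    (WV_le_e c' V n.unop)
  naturality n n' f := by
    ext x
    have h1 := γsec_natural c'.toPData M f.unop (WV Y V (c'.sh.obj n.unop))
      (WV Y' (jV c' V) n.unop) (WV_le_e c' V n.unop) (WV Y V (c'.sh.obj n'.unop))
      (WV Y' (jV c' V) n'.unop) (WV_le_e c' V n'.unop) (WV_le Y V (c'.sh.map f.unop))
      (WV_le Y' (jV c' V) f.unop) x
    exact h1.symm

/-- pulling back sections over the preimages of `V`, as a natural transformation -/
noncomputable def γK :
    KV Y V ⋙ (Functor.whiskeringLeft _ _ _).obj c'.sh.op ⟶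
      Pull c'.toPData ⋙ KV Y' (jV c' V) where
  app M := γKapp c' V M
  naturality M M' φ := by
    apply NatTrans.ext
    funext n
    ext x
    exact γsec_natural_M c'.toPData φ n.unop (WV Y V (c'.sh.obj n.unop)) (WV Y' (jV c' V) n.unop)
      (WV_le_e c' V n.unop) x

lemma isIso_γKapp (hc' : IdLike c'.toPData) (M : DShY Y) : IsIso (γKapp c' V M) := by
  haveI : ∀ n, IsIso ((γKapp c' V M).app n) := by
    intro n
    exact (ConcreteCategory.isIso_iff_bijective _).2
      (γsec_bijective hc' M n.unop _ _ (WV_le_e c' V n.unop) (e_WV_le c' V n.unop))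
  exact NatIso.isIso_of_isIso_app _

lemma isIso_γK (hc' : IdLike c'.toPData) : IsIso (γK c' V) := by
  haveI : ∀ M, IsIso ((γK c' V).app M) := fun M => isIso_γKapp c' V hc' M
  exact NatIso.isIso_of_isIso_app _

/-- the diagram of sections of the pullback -/
noncomputable def KVPullIso (hc' : IdLike c'.toPData) :
    KV Y V ⋙ (Functor.whiskeringLeft _ _ _).obj c'.sh.op ≅
      Pull c'.toPData ⋙ KV Y' (jV c' V) :=
  haveI := isIso_γK c' V hc'
  asIso (γK c' V)

end KV

end IdPull

end Groth.Agent.Lib.helper27
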