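import Mathlib
import Groth.Prelude.Def_FibDesc
import Groth.Agent.Lib.Helper27.RanV

set_option autoImplicit false
set_option linter.unusedSectionVars false
set_option linter.unusedVariables false
set_option linter.style.haveILetI false
set_option backward.isDefEq.respectTransparency false
set_option backward.isDefEq.respectTransparency.types false

namespace Groth.Agent.Lib.helper27

open CategoryTheory Limits Opposite Pseudofunctor Pseudofunctor.CoGrothendieck
open FibDesc TopologicalSpace

universe w w' u

namespace LanKV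

section lan

variable {C₁ : Type w} [Category.{w'} C₁] {D₁ : Type u} [Category.{u} D₁] (L : C₁ ⥤ D₁)
  [∀ X : D₁, HasColimitsOfShape (CostructuredArrow L X) AddCommGrpCat.{u}]

/-- every comma category of `L` has a terminal object or is empty -/
def SieveLike : Prop := ∀ X : D₁,
  (∃ t : CostructuredArrow L X, Nonempty (IsTerminal t)) ∨ IsEmpty (CostructuredArrow L X)

/-- the comparison iso, typed at `lan` -/
noncomputable def lanIso (P : C₁ ⥤ AddCommGrpCat.{u}) (X : D₁) :
    (L.lan.obj P).obj X ≅ colimit (CostructuredArrow.proj L X ⋙ P) :=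
  L.leftKanExtensionObjIsoColimit P X

lemma ι_lanIso_inv (P : C₁ ⥤ AddCommGrpCat.{u}) (X : D₁) (f : CostructuredArrow L X) :
    colimit.ι _ f ≫ (lanIso L P X).inv =
      (L.lanUnit.app P).app f.left ≫ (L.lan.obj P).map f.hom :=
  L.ι_leftKanExtensionObjIsoColimit_inv P X f

lemma lan_map_app {P Q : C₁ ⥤ AddCommGrpCat.{u}} (α : P ⟶ Q) (X : D₁) :
    (L.lan.map α).app X = (lanIso L P X).hom ≫
      colimMap (Functor.whiskerLeft (CostructuredArrow.proj L X) α) ≫
      (lanIso L Q X).inv := by
  rw [← Iso.inv_comp_eq]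
  apply colimit.hom_ext
  intro f
  have h1 : (L.lan.obj P).map f.hom ≫ (L.lan.map α).app X =
      (L.lan.map α).app (L.obj f.left) ≫ (L.lan.obj Q).map f.hom :=
    (L.lan.map α).naturality f.hom
  have h2 : α ≫ L.lanUnit.app Q =
      L.lanUnit.app P ≫ Functor.whiskerLeft L (L.lan.map α) :=
    L.lanUnit.naturality α
  have h3 : α.app f.left ≫ (L.lanUnit.app Q).app f.left =
      (L.lanUnit.app P).app f.left ≫ (L.lan.map α).app (L.obj f.left) :=
    congrArg (fun β => β.app f.left) h2
  ext x
  have e1 := ConcreteCategory.congr_hom (ι_lanIso_inv L P X f) x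
  have e2 := ConcreteCategory.congr_hom (ι_lanIso_inv L Q X f) (α.app f.left x)
  have e3 := ConcreteCategory.congr_hom h1 ((L.lanUnit.app P).app f.left x)
  have e4 := ConcreteCategory.congr_hom h3 x
  have e5 := ConcreteCategory.congr_hom
    (ι_colimMap (Functor.whiskerLeft (CostructuredArrow.proj L X) α) f) x
  show (L.lan.map α).app X ((lanIso L P X).inv
      (colimit.ι (CostructuredArrow.proj L X ⋙ P) f x)) =
    (lanIso L Q X).inv (colimMap (Functor.whiskerLeft (CostructuredArrow.proj L X) α)
      (colimit.ι (CostructuredArrow.proj L X ⋙ P) f x))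
  refine (congrArg ((L.lan.map α).app X) e1).trans ?_
  refine e3.trans ?_
  refine (congrArg ((L.lan.obj Q).map f.hom) e4.symm).trans ?_
  refine e2.symm.trans ?_
  exact congrArg (lanIso L Q X).inv e5.symm

theorem lan_mono (hL : SieveLike L) {P Q : C₁ ⥤ AddCommGrpCat.{u}} (α : P ⟶ Q) [Mono α] :
    Mono (L.lan.map α) := by
  haveI : ∀ Y, Mono (α.app Y) := fun Y => inferInstance
  suffices h : ∀ X, Mono ((L.lan.map α).app X) from NatTrans.mono_of_mono_app _
  intro X
  rw [lan_map_app]
  suffices h : Mono (colimMap (Functor.whiskerLeft (CostructuredArrow.proj L X) α)) by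
    haveI := h
    haveI : Mono (colimMap (Functor.whiskerLeft (CostructuredArrow.proj L X) α) ≫
      (lanIso L Q X).inv) := mono_comp _ _
    exact mono_comp _ _
  rcases hL X with ⟨t, ⟨ht⟩⟩ | hE
  · let ιP : P.obj t.left ⟶ colimit (CostructuredArrow.proj L X ⋙ P) :=
      colimit.ι (CostructuredArrow.proj L X ⋙ P) t
    let ιQ : Q.obj t.left ⟶ colimit (CostructuredArrow.proj L X ⋙ Q) :=
      colimit.ι (CostructuredArrow.proj L X ⋙ Q) t
    haveI h1 : IsIso ιP := isIso_ι_of_isTerminal ht _
    haveI h2 : IsIso ιQ := isIso_ι_of_isTerminal ht _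
    have : colimMap (Functor.whiskerLeft (CostructuredArrow.proj L X) α) =
        inv ιP ≫ α.app t.left ≫ ιQ := by
      rw [IsIso.eq_inv_comp]
      exact ι_colimMap (Functor.whiskerLeft (CostructuredArrow.proj L X) α) t
    rw [this]
    haveI : Mono (α.app t.left ≫ ιQ) := mono_comp _ _
    exact mono_comp _ _
  · have hi : IsInitial (colimit (CostructuredArrow.proj L X ⋙ P)) :=
      isColimitEquivIsInitialOfIsEmpty _ _ (colimit.isColimit _)
    have hz : IsZero (colimit (CostructuredArrow.proj L X ⋙ P)) :=
      IsZero.of_iso (isZero_zero _) (hi.uniqueUpToIso (isZero_zero _).isInitial)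
    exact hz.mono _

end lan

open BigSec TotSide TAug RanV

variable {D : Type} [SmallCategory D] (Y : (WithInitial D)ᵒᵖ ⥤ TopCat.{u})
  (V : Opens (Y.obj (bot D)))

instance hasColimits_costr (X : (∫ᶜ (part (topAug Y)))ᵒᵖ) :
    HasColimitsOfShape (CostructuredArrow (σV Y V).op X) AddCommGrpCat.{u} := by
  haveI : HasColimitsOfSize.{0, u} AddCommGrpCat.{u} := hasColimitsOfSizeShrink.{0, u, u, u} _
  infer_instance

lemma sieveLike_σV : SieveLike (σV Y V).op := by
  intro X
  by_cases hX : fibP Y X.unop ≤ WV Y V X.unop.base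
  · left
    have hle : fibP Y X.unop ≤ (Opens.map (Ym Y (𝟙 X.unop.base))).obj (WV Y V X.unop.base) := by
      have hid : Ym Y (𝟙 X.unop.base) = 𝟙 _ := by
        show Y.map ((toAug D).map (𝟙 _)) = 𝟙 _
        rw [(toAug D).map_id, Y.map_id]
      rw [hid]
      exact hX
    let f0 : X.unop ⟶ (σV Y V).obj X.unop.base := tpHom Y (𝟙 X.unop.base) hle
    let t : CostructuredArrow (σV Y V).op X := CostructuredArrow.mk (Y := op X.unop.base) f0.op
    refine ⟨t, ⟨IsTerminal.ofUniqueHom (fun A => CostructuredArrow.homMk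
      (show A.left ⟶ op X.unop.base from (A.hom.unop.base).op) ?_) (fun A m => ?_)⟩⟩
    · apply Quiver.Hom.unop_inj
      apply tp_hom_ext
      show 𝟙 _ ≫ A.hom.unop.base = A.hom.unop.base
      exact Category.id_comp _
    · apply CostructuredArrow.hom_ext
      apply Quiver.Hom.unop_inj
      have hw := CostructuredArrow.w m
      have hw2 : ((σV Y V).op.map m.left ≫ t.hom).unop.base = A.hom.unop.base := by
        rw [hw]
      have hw3 : ((σV Y V).op.map m.left ≫ t.hom).unop.base = 𝟙 _ ≫ m.left.unop := rfl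
      rw [hw3, Category.id_comp] at hw2
      exact hw2
  · right
    constructor
    intro A
    apply hX
    intro y hy
    have h1 := fibP_le Y A.hom.unop hy
    have h2 : (Ym Y A.hom.unop.base) y ∈ WV Y V A.left.unop := h1
    have h3 : (aP Y A.left.unop) ((Ym Y A.hom.unop.base) y) ∈ V := h2
    have h4 : (aP Y A.left.unop) ((Ym Y A.hom.unop.base) y) = (aP Y X.unop.base) y :=
      ConcreteCategory.congr_hom (Ym_aP Y A.hom.unop.base) y
    rw [h4] at h3
    exact h3

/-- the left adjoint of the functor of sections over the preimages of `V` -/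
noncomputable def LK : (Dᵒᵖᵒᵖ ⥤ AddCommGrpCat.{u}) ⥤ DShY Y :=
  (σV Y V).op.lan ⋙ presheafToSheaf (totPart (topAug Y) (topAugTop Y)) AddCommGrpCat.{u}

noncomputable def adjKV : LK Y V ⊣ KV Y V :=
  ((σV Y V).op.lanAdjunction AddCommGrpCat.{u}).comp
    (sheafificationAdjunction (totPart (topAug Y) (topAugTop Y)) AddCommGrpCat.{u})

instance preservesMono_LK : (LK Y V).PreservesMonomorphisms := by
  constructor
  intro P Q α hα
  haveI := lan_mono (σV Y V).op (sieveLike_σV Y V) α
  show Mono ((presheafToSheaf _ AddCommGrpCat.{u}).map ((σV Y V).op.lan.map α))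
  infer_instance

/-- the functor of sections over the preimages of `V` preserves injective objects -/
theorem injective_KV (I : DShY Y) [Injective I] : Injective ((KV Y V).obj I) :=
  Injective.injective_of_adjoint (adjKV Y V) I

end LanKV

end Groth.Agent.Lib.helper27
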