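import Mathlib

set_option autoImplicit false
set_option linter.unusedSectionVars false
set_option linter.unusedVariables false
set_option linter.style.haveILetI false

namespace Groth.Agent.Lib.helper27

open CategoryTheory Limits

universe u

namespace FunInj

variable {C : Type} [SmallCategory C]

/-- the injective functor receiving a given functor -/
noncomputable def E (F : C ⥤ AddCommGrpCat.{u}) : C ⥤ AddCommGrpCat.{u} :=
  ∏ᶜ fun c : C => (evaluationRightAdjoint AddCommGrpCat.{u} c).obj (Injective.under (F.obj c))

instance injective_right (c : C) (I : AddCommGrpCat.{u}) [Injective I] :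
    Injective ((evaluationRightAdjoint AddCommGrpCat.{u} c).obj I) :=
  Injective.injective_of_adjoint (evaluationAdjunctionLeft AddCommGrpCat.{u} c) I

instance injective_E (F : C ⥤ AddCommGrpCat.{u}) : Injective (E F) := by
  unfold E
  infer_instance

/-- the embedding -/
noncomputable def ι (F : C ⥤ AddCommGrpCat.{u}) : F ⟶ E F :=
  Pi.lift (fun c => ((evaluationAdjunctionLeft AddCommGrpCat.{u} c).homEquiv F _)
    (Injective.ι (F.obj c)))

instance mono_ι (F : C ⥤ AddCommGrpCat.{u}) : Mono (ι F) := by
  haveI : ∀ c, Mono ((ι F).app c) := by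
    intro c
    have h1 : ι F ≫ Pi.π _ c = ((evaluationAdjunctionLeft AddCommGrpCat.{u} c).homEquiv F _)
        (Injective.ι (F.obj c)) := Pi.lift_π _ _
    have h2 : ((evaluationAdjunctionLeft AddCommGrpCat.{u} c).homEquiv F _).symm
        (ι F ≫ Pi.π _ c) = Injective.ι (F.obj c) := by
      rw [h1]
      exact Equiv.symm_apply_apply _ _
    rw [Adjunction.homEquiv_counit] at h2
    have h3 : (ι F).app c ≫ ((Pi.π (fun c : C => (evaluationRightAdjoint AddCommGrpCat.{u} c).obj
        (Injective.under (F.obj c))) c).app c ≫
        (evaluationAdjunctionLeft AddCommGrpCat.{u} c).counit.app _) = Injective.ι (F.obj c) := by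
      rw [← Category.assoc]
      exact h2
    exact mono_of_mono_fac h3
  exact NatTrans.mono_of_mono_app _

instance enoughInjectives : EnoughInjectives (C ⥤ AddCommGrpCat.{u}) where
  presentation F := ⟨InjectivePresentation.mk (E F) inferInstance (ι F) inferInstance⟩

end FunInj

end Groth.Agent.Lib.helper27
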