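import Mathlib
import Groth.Prelude.Def_FibDesc
import Groth.Agent.Lib.Helper27.DecDef
import Groth.Agent.Lib.Helper27.ResTr
import Groth.Agent.Lib.Helper7.FreeYoneda

set_option autoImplicit false
set_option linter.unusedSectionVars false
set_option linter.unusedVariables false
set_option linter.style.haveILetI false
set_option backward.isDefEq.respectTransparency false
set_option backward.isDefEq.respectTransparency.types false

namespace Groth.Agent.Lib.helper27

open CategoryTheory Limits Opposite Pseudofunctor Pseudofunctor.CoGrothendieck
open FibDesc TopologicalSpace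

universe v u

namespace InjLev

open BigSec TotSide TAug RanV ResTr DecDef
open Groth.Agent.Lib.helper7

section general

variable {C : Type u} [Category.{v} C] (J : GrothendieckTopology C)
  [HasSheafify J AddCommGrpCat.{v}]

/-- injective abelian sheaves restrict surjectively along monomorphisms -/
lemma surjective_of_injective (I : Sheaf J AddCommGrpCat.{v}) [Injective I] {U V : C} (i : V ⟶ U)
    [Mono i] : Function.Surjective (I.obj.map i.op) := by
  intro z
  let b : (FreeYoneda.freeSheaf J).obj V ⟶ I := (FreeYoneda.homEquiv J V I).symm z
  haveI : Mono ((FreeYoneda.freeSheaf J).map i) := FreeYoneda.mono_freeSheaf_map J i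
  let c : (FreeYoneda.freeSheaf J).obj U ⟶ I := Injective.factorThru b ((FreeYoneda.freeSheaf J).map i)
  have hc : (FreeYoneda.freeSheaf J).map i ≫ c = b := Injective.comp_factorThru _ _
  refine ⟨FreeYoneda.homEquiv J U I c, ?_⟩
  rw [← FreeYoneda.homEquiv_naturality_left, hc]
  exact (FreeYoneda.homEquiv J V I).apply_symm_apply z

end general

variable {D : Type} [SmallCategory D] (Y : (WithInitial D)ᵒᵖ ⥤ TopCat.{u})

instance mono_vertP (n : Dᵒᵖ) {W W' : Opens (Xs Y n)} (hW : W' ≤ W) : Mono (vertP Y n hW) := by
  constructor
  intro Z f g hfg
  apply tp_hom_ext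
  have h1 : f.base ≫ 𝟙 n = g.base ≫ 𝟙 n := congrArg (fun m => m.base) hfg
  rw [Category.comp_id, Category.comp_id] at h1
  exact h1

/-- the levels of an injective sheaf on the total site are flasque -/
instance isFlasque_restrP (I : DShY Y) [Injective I] (n : Dᵒᵖ) :
    TopCat.Sheaf.IsFlasque ((restrP Y n).obj I) where
  epi {U V} i := by
    rw [AddCommGrpCat.epi_iff_surjective]
    have hle : V.unop ≤ U.unop := leOfHom i.unop
    have h1 : ((restrP Y n).obj I).obj.map i = I.obj.map (vertP Y n hle).op := by
      have h2 : i = (homOfLE hle).op := Subsingleton.elim _ _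
      rw [h2]
      exact restrP_map_eq I n hle _
    rw [h1]
    exact surjective_of_injective _ I (vertP Y n hle)

end InjLev

end Groth.Agent.Lib.helper27
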