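import Mathlib
import Groth.Prelude.Def_FibDesc
import Groth.Agent.Lib.Helper27.InjLev
import Groth.Agent.Lib.Helper27.LanKV
import Groth.Agent.Lib.Helper27.DescCrit
import Groth.Agent.Lib.Helper27.ResTr
import Groth.Agent.Lib.Helper27.AcyclicClass2
import Groth.Agent.Lib.Helper27.Horseshoe7
import Groth.Agent.Lib.Helper27.FlasqueAcyc
import Groth.Agent.Lib.Helper27.FunInj

set_option autoImplicit false
set_option linter.unusedSectionVars false
set_option linter.unusedVariables false
set_option linter.style.haveILetI false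
set_option backward.isDefEq.respectTransparency false
set_option backward.isDefEq.respectTransparency.types false

namespace Groth.Agent.Lib.helper27

open CategoryTheory Limits Opposite Pseudofunctor Pseudofunctor.CoGrothendieck
open FibDesc TopologicalSpace

universe u

namespace LevAcyc

open BigSec TotSide TAug RanV DecDef ResTr

section functorCategory

variable {J : Type*} [Category J] {E : Type*} [Category E] [Abelian E]

/-- exactness in a functor category can be checked objectwise -/
theorem exact_of_evaluation (T : ShortComplex (J ⥤ E))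
    (h : ∀ j, (T.map ((evaluation J E).obj j)).Exact) : T.Exact := by
  rw [ShortComplex.exact_iff_isZero_homology]
  apply Functor.isZero
  intro j
  have e := T.mapHomologyIso ((evaluation J E).obj j)
  exact IsZero.of_iso ((ShortComplex.exact_iff_isZero_homology _).1 (h j)) e.symm

/-- short exactness in a functor category can be checked objectwise -/
theorem shortExact_of_evaluation (T : ShortComplex (J ⥤ E))
    (h : ∀ j, (T.map ((evaluation J E).obj j)).ShortExact) : T.ShortExact := by
  haveI : ∀ j, Mono (T.f.app j) := fun j => (h j).mono_f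
  haveI : ∀ j, Epi (T.g.app j) := fun j => (h j).epi_g
  haveI : Mono T.f := NatTrans.mono_of_mono_app _
  haveI : Epi T.g := NatTrans.epi_of_epi_app _
  exact ShortComplex.ShortExact.mk (exact_of_evaluation T (fun j => (h j).exact))

end functorCategory

instance lim_additive {J : Type} [SmallCategory J] :
    (lim : (J ⥤ AddCommGrpCat.{u}) ⥤ AddCommGrpCat.{u}).Additive :=
  Functor.additive_of_preserves_binary_products _

variable {D : Type} [SmallCategory D] (Y : (WithInitial D)ᵒᵖ ⥤ TopCat.{u})
  (V : Opens (Y.obj (bot D)))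

/-- sections over an open subset -/
noncomputable abbrev ΓW {X : TopCat.{u}} (W : Opens X) : CohTop.Ab X ⥤ AddCommGrpCat.{u} :=
  (sheafSections (Opens.grothendieckTopology X) AddCommGrpCat.{u}).obj (op W)

instance {X : TopCat.{u}} (W : Opens X) : (ΓW W).Additive := LemU.additive_sheafSections _ _

instance {X : TopCat.{u}} (W : Opens X) : PreservesFiniteLimits (ΓW W) := by
  show PreservesFiniteLimits (sheafToPresheaf _ _ ⋙ (evaluation _ _).obj (op W))
  infer_instance

/-- flasque sheaves are acyclic for sections over an open subset -/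
theorem isZero_ΓW_flasque {X : TopCat.{u}} (W : Opens X) (F : CohTop.Ab X)
    [TopCat.Sheaf.IsFlasque F] (q : ℕ) : IsZero (((ΓW W).rightDerived (q + 1)).obj F) :=
  Horseshoe.isZero_rightDerived_succ_of_class (ΓW W)
    (fun G => TopCat.Sheaf.IsFlasque G) FlasqueAcyc.h1
    (fun S hS a b => by
      haveI : TopCat.Sheaf.IsFlasque S.X₁ := a
      haveI : TopCat.Sheaf.IsFlasque S.X₂ := b
      refine ⟨TopCat.Sheaf.IsFlasque.of_shortExact_of_isFlasque₁₂ hS, ?_⟩
      have hepi : Epi (S.g.1.app (op W)) := TopCat.Sheaf.IsFlasque.epi_of_shortExact hS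
      exact Horseshoe.map_shortExact_of_epi (ΓW W) hS hepi) q F inferInstance

/-- evaluation of the sections functor at a level -/
noncomputable def evIso (s : Dᵒᵖᵒᵖ) :
    KV Y V ⋙ (evaluation Dᵒᵖᵒᵖ AddCommGrpCat.{u}).obj s ≅
      restrP Y s.unop ⋙ ΓW (WV Y V s.unop) :=
  NatIso.ofComponents (fun M => Iso.refl _) (by
    intro M M' φ
    exact (Category.comp_id _).trans (Category.id_comp _).symm)

/-- the class of sheaves with flasque levels and acyclic diagram of sections -/
def LevCl : ObjectProperty (DShY Y) := fun N =>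
  (∀ s, TopCat.Sheaf.IsFlasque ((restrP Y s).obj N)) ∧
    ∀ q : ℕ, 0 < q → IsZero (((lim : (Dᵒᵖᵒᵖ ⥤ AddCommGrpCat.{u}) ⥤
      AddCommGrpCat.{u}).rightDerived q).obj ((KV Y V).obj N))

instance : PreservesFiniteLimits (KV Y V) := by
  unfold KV
  infer_instance

instance : (KV Y V).Additive := Functor.additive_of_preserves_binary_products _

lemma levCl_injective (I : DShY Y) [Injective I] : LevCl Y V I := by
  refine ⟨fun s => inferInstance, fun q hq => ?_⟩
  haveI := LanKV.injective_KV Y V I
  obtain ⟨p, rfl⟩ : ∃ p, q = p + 1 := ⟨q - 1, by omega⟩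
  exact Functor.isZero_rightDerived_obj_injective_succ _ p _

lemma shortExact_KV (S : ShortComplex (DShY Y)) (hS : S.ShortExact)
    (h1 : ∀ s, TopCat.Sheaf.IsFlasque ((restrP Y s).obj S.X₁)) :
    (S.map (KV Y V)).ShortExact := by
  apply shortExact_of_evaluation
  intro s
  have hs : (S.map (restrP Y s.unop)).ShortExact := hS.map_of_exact (restrP Y s.unop)
  haveI : TopCat.Sheaf.IsFlasque (S.map (restrP Y s.unop)).X₁ := h1 s.unop
  have hepi : Epi ((S.map (restrP Y s.unop)).g.1.app (op (WV Y V s.unop))) :=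
    TopCat.Sheaf.IsFlasque.epi_of_shortExact hs
  have h2 : ((S.map (restrP Y s.unop)).map (ΓW (WV Y V s.unop))).ShortExact :=
    Horseshoe.map_shortExact_of_epi (ΓW (WV Y V s.unop)) hs hepi
  have e : S.map (KV Y V ⋙ (evaluation Dᵒᵖᵒᵖ AddCommGrpCat.{u}).obj s) ≅
      S.map (restrP Y s.unop ⋙ ΓW (WV Y V s.unop)) := S.mapNatIso (evIso Y V s)
  exact ShortComplex.shortExact_of_iso e.symm h2

/-- **Levelwise acyclicity**: a sheaf on the total site with flasque levels whose diagram of
sections over the preimages of `V` is acyclic for the limit is acyclic for the sections over the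
preimages of `V` -/
theorem isZero_of_levCl (N : DShY Y) (hN : LevCl Y V N) (q : ℕ) :
    IsZero (((KV Y V ⋙ (lim : (Dᵒᵖᵒᵖ ⥤ AddCommGrpCat.{u}) ⥤
      AddCommGrpCat.{u})).rightDerived (q + 1)).obj N) := by
  refine Horseshoe.isZero_rightDerived_succ_of_class
    (KV Y V ⋙ (lim : (Dᵒᵖᵒᵖ ⥤ AddCommGrpCat.{u}) ⥤ AddCommGrpCat.{u})) (LevCl Y V)
    (fun X => ⟨Injective.under X, Injective.ι X, levCl_injective Y V _, inferInstance⟩)
    (fun S hS a b => ?_) q N hN
  have hS' := shortExact_KV Y V S hS a.1
  have key := (Horseshoe.rightAcyclic_shortExact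
    (lim : (Dᵒᵖᵒᵖ ⥤ AddCommGrpCat.{u}) ⥤ AddCommGrpCat.{u}) hS').2.1 a.2 b.2
  refine ⟨⟨fun s => ?_, key.1⟩, key.2⟩
  have hs : (S.map (restrP Y s)).ShortExact := hS.map_of_exact (restrP Y s)
  haveI : TopCat.Sheaf.IsFlasque (S.map (restrP Y s)).X₁ := a.1 s
  haveI : TopCat.Sheaf.IsFlasque (S.map (restrP Y s)).X₂ := b.1 s
  exact TopCat.Sheaf.IsFlasque.of_shortExact_of_isFlasque₁₂ hs

end LevAcyc

end Groth.Agent.Lib.helper27
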