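import Mathlib

set_option autoImplicit false
set_option linter.unusedSectionVars false
set_option linter.unusedVariables false
set_option linter.style.haveILetI false

namespace Groth.Agent.Lib.helper27

namespace ConvFF

open CategoryTheory Limits Abelian

universe w w' t t' v v' u u'

variable {A : Type u} [Category.{v} A] [Abelian A] {B : Type u'} [Category.{v'} B] [Abelian B]
  [HasDerivedCategory.{t} A] [HasDerivedCategory.{t'} B]
  (T : A ⥤ B) [T.Additive] [PreservesFiniteLimits T] [PreservesFiniteColimits T]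

/-- full faithfulness of the derived functor on bounded below objects -/
def FFPlus : Prop := ∀ (K L : DerivedCategory A), (∃ n : ℤ, K.IsGE n) → (∃ n : ℤ, L.IsGE n) →
  Function.Bijective (T.mapDerivedCategory.map : (K ⟶ L) → _)

variable {T}

lemma bijective_iso_comp {C : Type*} [Category C] {X X' Y Y' : C} (a : X' ⟶ X) [IsIso a]
    (b : Y ⟶ Y') [IsIso b] : Function.Bijective (fun f : X ⟶ Y => a ≫ f ≫ b) := by
  constructor
  · intro f g h
    have h1 : f ≫ b = g ≫ b := (cancel_epi a).1 h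
    exact (cancel_mono b).1 h1
  · intro g
    exact ⟨inv a ≫ g ≫ inv b, by simp⟩

lemma mapExt_bijective [HasExt.{w} A] [HasExt.{w'} B] (h : FFPlus T) (X Y : A) (n : ℕ) :
    Function.Bijective (fun e : Ext.{w} X Y n => (e.mapExactFunctor T : Ext.{w'} _ _ n)) := by
  let SX := (DerivedCategory.singleFunctor A 0).obj X
  let SY := (DerivedCategory.singleFunctor A 0).obj Y
  have hb : Function.Bijective
      (T.mapDerivedCategory.map : (SX ⟶ SY⟦(n : ℤ)⟧) → _) := by
    apply h
    · exact ⟨0, inferInstance⟩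
    · exact ⟨-n, DerivedCategory.TStructure.t.isGE_shift SY 0 n (-n) (by lia)⟩
  let a := (T.mapDerivedCategorySingleFunctor 0).inv.app X
  let b := ((T.mapDerivedCategorySingleFunctor 0).hom.app Y)⟦(n : ℤ)⟧'
  let c := (T.mapDerivedCategory.commShiftIso (n : ℤ)).hom.app SY
  let φ : (SX ⟶ SY⟦(n : ℤ)⟧) → (_ ⟶ _) := fun f => a ≫ (T.mapDerivedCategory.map f ≫ c) ≫ b
  have hφ : Function.Bijective φ := by
    have h1 : Function.Bijective (fun g : _ ⟶ _ => a ≫ g ≫ b) := bijective_iso_comp a b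
    have h2 : Function.Bijective (fun g : T.mapDerivedCategory.obj SX ⟶ _ => 𝟙 _ ≫ g ≫ c) :=
      bijective_iso_comp (𝟙 _) c
    have : φ = (fun g : _ ⟶ _ => a ≫ g ≫ b) ∘ (fun g : _ ⟶ _ => 𝟙 _ ≫ g ≫ c) ∘
        T.mapDerivedCategory.map := by
      funext f
      simp [φ]
    rw [this]
    exact h1.comp (h2.comp hb)
  have key : ∀ e : Ext.{w} X Y n, (e.mapExactFunctor T : Ext.{w'} _ _ n).hom = φ e.hom := by
    intro e
    rw [Ext.mapExactFunctor_hom]
    rfl
  constructor
  · intro e₁ e₂ he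
    have h1 : φ e₁.hom = φ e₂.hom := by
      rw [← key, ← key]
      exact congrArg _ he
    exact Ext.homEquiv.injective (hφ.1 h1)
  · intro e'
    obtain ⟨f, hf⟩ := hφ.2 e'.hom
    refine ⟨Ext.homEquiv.symm f, ?_⟩
    apply Ext.homEquiv.injective
    show ((Ext.homEquiv.symm f).mapExactFunctor T : Ext.{w'} _ _ n).hom = e'.hom
    rw [key, ← hf]
    congr 1
    exact Ext.homEquiv.apply_symm_apply f

lemma map_bijective [HasExt.{w} A] [HasExt.{w'} B] (h : FFPlus T) (X Y : A) :
    Function.Bijective (T.map : (X ⟶ Y) → _) := by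
  have h0 := mapExt_bijective.{w, w'} h X Y 0
  have h1 : (fun e : Ext.{w} X Y 0 => (e.mapExactFunctor T : Ext.{w'} _ _ 0)) =
      Ext.homEquiv₀.symm ∘ T.map ∘ Ext.homEquiv₀ := Ext.mapExactFunctor₀ T X Y
  rw [h1] at h0
  have h2 : Function.Bijective (T.map ∘ (Ext.homEquiv₀ : Ext.{w} X Y 0 ≃ _)) :=
    (Equiv.comp_bijective _ Ext.homEquiv₀.symm).1 h0
  exact (Equiv.bijective_comp Ext.homEquiv₀ _).1 h2

lemma full_faithful [HasExt.{w} A] [HasExt.{w'} B] (h : FFPlus T) : T.Full ∧ T.Faithful :=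
  ⟨⟨fun {X Y} f => (map_bijective.{w, w'} h X Y).2 f⟩,
    ⟨fun {X Y} => (map_bijective.{w, w'} h X Y).1⟩⟩

section adj

variable {U : B ⥤ A} (adj : T ⊣ U) [U.Additive] [EnoughInjectives A] [EnoughInjectives B]

include adj in
theorem isIso_unit [HasExt.{w} A] [HasExt.{w'} B] (h : FFPlus T) (X : A) :
    IsIso (adj.unit.app X) := by
  obtain ⟨h1, h2⟩ := full_faithful.{w, w'} h
  infer_instance

include adj in
theorem isZero_rightDerived [HasExt.{w} A] [HasExt.{w'} B] (h : FFPlus T) (I : A) [Injective I]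
    (q : ℕ) (hq : 0 < q) : IsZero ((U.rightDerived q).obj (T.obj I)) := by
  obtain ⟨p, rfl⟩ : ∃ p, q = p + 1 := ⟨q - 1, by lia⟩
  let R : InjectiveResolution (T.obj I) := Classical.choice (HasInjectiveResolution.out (Z := T.obj I))
  refine IsZero.of_iso ?_ (R.isoRightDerivedObj U (p + 1))
  let K := (U.mapHomologicalComplex (ComplexShape.up ℕ)).obj R.cocomplex
  show IsZero (K.homology (p + 1))
  rw [← HomologicalComplex.exactAt_iff_isZero_homology]
  rw [HomologicalComplex.exactAt_iff' K p (p + 1) (p + 2) (by simp) (by simp)]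
  rw [ShortComplex.exact_iff_exact_up_to_refinements]
  intro Z x₂ hx₂
  refine ⟨Z, 𝟙 Z, inferInstance, ?_⟩
  -- transpose
  let f : T.obj Z ⟶ R.cocomplex.X (p + 1) := (adj.homEquiv Z _).symm x₂
  have hf : f ≫ R.cocomplex.d (p + 1) (p + 2) = 0 := by
    have : (adj.homEquiv Z _).symm (x₂ ≫ U.map (R.cocomplex.d (p + 1) (p + 2))) =
        f ≫ R.cocomplex.d (p + 1) (p + 2) := adj.homEquiv_naturality_right_symm _ _
    rw [← this]
    have h0 : x₂ ≫ U.map (R.cocomplex.d (p + 1) (p + 2)) = 0 := hx₂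
    rw [h0]
    simp
  have hsub : ∀ e : Ext.{w'} (T.obj Z) (T.obj I) (p + 1), e = 0 := by
    intro e
    obtain ⟨e₀, rfl⟩ := (mapExt_bijective.{w, w'} h Z I (p + 1)).2 e
    have : e₀ = 0 := Ext.eq_zero_of_injective e₀
    rw [this]
    simp
  have hz : R.extMk f (p + 2) rfl hf = 0 := hsub _
  rw [R.extMk_eq_zero_iff f (p + 2) rfl hf p rfl] at hz
  obtain ⟨g, hg⟩ := hz
  refine ⟨adj.homEquiv Z _ g, ?_⟩
  have h1 : adj.homEquiv Z _ (g ≫ R.cocomplex.d p (p + 1)) =
      adj.homEquiv Z _ g ≫ U.map (R.cocomplex.d p (p + 1)) := adj.homEquiv_naturality_right _ _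
  rw [hg] at h1
  simp only [Category.id_comp]
  show x₂ = adj.homEquiv Z _ g ≫ U.map (R.cocomplex.d p (p + 1))
  rw [← h1]
  simp [f]

end adj

end ConvFF

end Groth.Agent.Lib.helper27
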