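import Mathlib
import Groth.Agent.Lib.Helper27.ConvFF
import Groth.Agent.Lib.Helper27.DeltaSeq

set_option autoImplicit false
set_option linter.unusedSectionVars false
set_option linter.unusedVariables false
set_option linter.style.haveILetI false

namespace Groth.Agent.Lib.helper27

open CategoryTheory Limits

universe w w' t t' v v' u u'

namespace ConvFF

open DeltaSeq

variable {A : Type u} [Category.{v} A] [Abelian A] {B : Type u'} [Category.{v'} B] [Abelian B]
  [HasDerivedCategory.{t} A] [HasDerivedCategory.{t'} B]
  {T : A ⥤ B} [T.Additive] [PreservesFiniteLimits T] [PreservesFiniteColimits T]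
  {U : B ⥤ A} (adj : T ⊣ U) [U.Additive] [PreservesFiniteLimits U]
  [EnoughInjectives A] [EnoughInjectives B]

include adj in
/-- for a fully faithful exact left adjoint, the higher derived functors of the right adjoint
vanish on the whole essential image -/
theorem isZero_rightDerived_all [HasExt.{w} A] [HasExt.{w'} B] (h : FFPlus T) (q : ℕ) :
    ∀ X : A, IsZero ((U.rightDerived (q + 1)).obj (T.obj X)) := by
  have hT : IsExSeq (fun i => T ⋙ U.rightDerived i) :=
    (isExSeq_rightDerived U).precomp T (fun I hI i => by
      haveI := hI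
      exact isZero_rightDerived adj h I (i + 1) (Nat.succ_pos i))
  haveI : ∀ X : A, IsIso (adj.unit.app X) := fun X => isIso_unit adj h X
  haveI : IsIso adj.unit := NatIso.isIso_of_isIso_app _
  let e : T ⋙ U.rightDerived 0 ≅ 𝟭 A :=
    Functor.isoWhiskerLeft T U.rightDerivedZeroIsoSelf ≪≫ (asIso adj.unit).symm
  induction q with
  | zero =>
    intro X
    have hS : (cokerSES (Injective.ι X)).ShortExact := cokerSES_shortExact _
    have hI : Injective (cokerSES (Injective.ι X)).X₂ :=
      inferInstanceAs (Injective (Injective.under X))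
    obtain ⟨a⟩ := one_iso hT _ hS hI
    refine IsZero.of_iso ?_ a
    haveI : Epi (cokerSES (Injective.ι X)).g := hS.epi_g
    let gg := (cokerSES (Injective.ι X)).g
    have hnat : (T ⋙ U.rightDerived 0).map gg ≫ e.hom.app _ = e.hom.app _ ≫ gg :=
      e.hom.naturality gg
    haveI : Epi ((T ⋙ U.rightDerived 0).map gg) := by
      haveI : Epi (gg) := hS.epi_g
      have h5 : Epi (e.hom.app (cokerSES (Injective.ι X)).X₂ ≫ gg) := epi_comp _ _
      haveI : Epi ((T ⋙ U.rightDerived 0).map gg ≫ e.hom.app _) := by
        rw [hnat]; exact h5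
      have h3 : (T ⋙ U.rightDerived 0).map gg =
          ((T ⋙ U.rightDerived 0).map gg ≫ e.hom.app _) ≫ e.inv.app _ := by
        rw [Category.assoc, ← NatTrans.comp_app, Iso.hom_inv_id]
        exact (Category.comp_id _).symm
      rw [h3]
      exact epi_comp _ _
    exact isZero_cokernel_of_epi _
  | succ i ih =>
    intro X
    have hS : (cokerSES (Injective.ι X)).ShortExact := cokerSES_shortExact _
    have hI : Injective (cokerSES (Injective.ι X)).X₂ :=
      inferInstanceAs (Injective (Injective.under X))
    obtain ⟨a⟩ := shift_iso hT _ hS hI i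
    exact IsZero.of_iso (ih (cokerSES (Injective.ι X)).X₃) a.symm

end ConvFF

end Groth.Agent.Lib.helper27
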