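import Mathlib
import Groth.Prelude.Def_CohTop
import Groth.Agent.Lib.Helper27.ExtZero

set_option autoImplicit false
set_option linter.unusedSectionVars false
set_option linter.unusedVariables false
set_option linter.style.haveILetI false

namespace Groth.Agent.Lib.helper27

open CategoryTheory Limits Opposite TopologicalSpace

universe u

namespace OpenInj

variable {S' S : TopCat.{u}} (j : S' ⟶ S) (hj : Topology.IsOpenEmbedding j)

include hj in
lemma sieveLike_functor : ExtZero.SieveLike hj.isOpenMap.functor.op := by
  intro X
  by_cases hX : (X.unop : Set S) ⊆ Set.range j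
  · left
    have hle : X.unop ≤ hj.isOpenMap.functor.obj ((Opens.map j).obj X.unop) := by
      intro y hy
      obtain ⟨x, rfl⟩ := hX hy
      exact ⟨x, hy, rfl⟩
    let t : CostructuredArrow hj.isOpenMap.functor.op X :=
      CostructuredArrow.mk (Y := op ((Opens.map j).obj X.unop)) (homOfLE hle).op
    refine ⟨t, ⟨IsTerminal.ofUniqueHom (fun A => CostructuredArrow.homMk (homOfLE ?_).op
      (Subsingleton.elim _ _)) (fun A m => ?_)⟩⟩
    · -- j⁻¹ X ≤ A.left
      intro x hx
      have h1 : X.unop ≤ hj.isOpenMap.functor.obj A.left.unop := A.hom.unop.le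
      obtain ⟨x', hx', hxx⟩ := h1 hx
      rw [← hj.injective hxx]
      exact hx'
    · apply CostructuredArrow.hom_ext
      exact Subsingleton.elim _ _
  · right
    constructor
    intro A
    apply hX
    intro y hy
    have h1 : X.unop ≤ hj.isOpenMap.functor.obj A.left.unop := A.hom.unop.le
    obtain ⟨x', hx', hxx⟩ := h1 hy
    exact ⟨x', hxx⟩

include hj in
/-- the inverse image along an open embedding preserves injective abelian sheaves -/
theorem injective_pull (I : CohTop.Ab S) [Injective I] : Injective ((CohTop.pull j).obj I) := by
  haveI := hj.functor_isContinuous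
  have h1 : Injective ((hj.isOpenMap.functor.sheafPushforwardContinuous AddCommGrpCat.{u}
      (Opens.grothendieckTopology S') (Opens.grothendieckTopology S)).obj I) :=
    ExtZero.injective_restrict _ _ _ (sieveLike_functor j hj) I
  exact Injective.of_iso ((hj.sheafPullbackIso AddCommGrpCat.{u}).app I).symm h1

end OpenInj

end Groth.Agent.Lib.helper27
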