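import Mathlib
import Groth.Prelude.Def_FibDesc
import Groth.Agent.Lib.Helper27.ResTr
import Groth.Agent.Lib.Helper27.ConvFF
import Groth.Agent.Lib.Helper27.LocSp
import Groth.Agent.Lib.Helper27.OpenInj

set_option autoImplicit false
set_option linter.unusedSectionVars false
set_option linter.unusedVariables false
set_option linter.style.haveILetI false
set_option backward.isDefEq.respectTransparency false
set_option backward.isDefEq.respectTransparency.types false

namespace Groth.Agent.Lib.helper27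

open CategoryTheory Limits Opposite Pseudofunctor Pseudofunctor.CoGrothendieck
open FibDesc TopologicalSpace

universe u

namespace LocCrit

open BigSec TotSide TAug RanV ResGeo TpFun ResTau ResTr

attribute [local instance] HasDerivedCategory.standard

variable {D : Type} [SmallCategory D] (Y : (WithInitial D)ᵒᵖ ⥤ TopCat.{u})

/-- cohomological descent gives full faithfulness on bounded below objects -/
theorem ffPlus_of (hY : IsCohDescentTop Y) :
    ConvFF.FFPlus (pull (topAug Y) (topAugTop Y) AddCommGrpCat.{u}) := by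
  obtain ⟨i1, i2, i3, i4, i5, i6, hb⟩ := hY
  intro K L hK hL
  exact hb ⟨K, hK⟩ ⟨L, hL⟩

/-- converse of `isIso_unit_app` -/
theorem limP_of_isIso (V : Opens (Y.obj (bot D))) (N : ShA Y)
    (hN : IsIso (((inclAdj Y).unit.app N).hom.app (B₀ Y V))) : LimP Y V N := by
  haveI := hN
  refine ⟨IsLimit.ofIsoLimit (isLimitConeV Y V ((inclRes Y).obj N).obj)
    (Cone.ext (asIso (((inclAdj Y).unit.app N).hom.app (B₀ Y V))) ?_).symm⟩
  intro s
  exact (unit_comp_π Y V N s).symm

/-- converse: descent gives the limit property for the extended sheaves -/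
theorem limP_of_descent (hY : IsCohDescentTop Y) (I : CohTop.Ab (Y.obj (bot D)))
    (V : Opens (Y.obj (bot D))) : LimP Y V (Taug Y I) := by
  haveI : HasExt.{u + 1} (BSh Y) := HasExt.standard _
  haveI : HasExt.{u + 1} (DShY Y) := HasExt.standard _
  have hu : IsIso ((adj (topAug Y) (topAugTop Y) AddCommGrpCat.{u}).unit.app (toB Y I)) :=
    ConvFF.isIso_unit.{u + 1, u + 1} (adj (topAug Y) (topAugTop Y) AddCommGrpCat.{u})
      (ffPlus_of Y hY) _
  have h2 := (isIso_unit_iff Y I).1 hu
  apply limP_of_isIso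
  have h3 : IsIso ((sheafToPresheaf _ _).map
      ((FibSite.restr (topAug Y) (topAugTop Y) AddCommGrpCat.{u} (bot D)).map
        ((inclAdj Y).unit.app (Taug Y I)))) := inferInstance
  exact NatIso.isIso_app_of_isIso ((sheafToPresheaf _ _).map
      ((FibSite.restr (topAug Y) (topAugTop Y) AddCommGrpCat.{u} (bot D)).map
        ((inclAdj Y).unit.app (Taug Y I)))) (op V)

/-- converse: descent gives the vanishing of the derived functors of sections over preimages -/
theorem isZero_of_descent (hY : IsCohDescentTop Y) (I : CohTop.Ab (Y.obj (bot D))) [Injective I]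
    (V : Opens (Y.obj (bot D))) (q : ℕ) (hq : 0 < q) :
    IsZero (((KV Y V ⋙ (lim : (Dᵒᵖᵒᵖ ⥤ AddCommGrpCat.{u}) ⥤
      AddCommGrpCat.{u})).rightDerived q).obj (Tp Y I)) := by
  haveI : HasExt.{u + 1} (BSh Y) := HasExt.standard _
  haveI : HasExt.{u + 1} (DShY Y) := HasExt.standard _
  have hz : IsZero (((push (topAug Y) (topAugTop Y) AddCommGrpCat.{u}).rightDerived q).obj
      ((pull (topAug Y) (topAugTop Y) AddCommGrpCat.{u}).obj (toB Y I))) :=
    ConvFF.isZero_rightDerived.{u + 1, u + 1} (adj (topAug Y) (topAugTop Y) AddCommGrpCat.{u})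
      (ffPlus_of Y hY) (toB Y I) q hq
  have hacyc : CompAcyc.Acyc (push (topAug Y) (topAugTop Y) AddCommGrpCat.{u}) (Tp Y I) := by
    intro i hi
    have := ConvFF.isZero_rightDerived.{u + 1, u + 1}
      (adj (topAug Y) (topAugTop Y) AddCommGrpCat.{u}) (ffPlus_of Y hY) (toB Y I) i hi
    exact IsZero.of_iso this (((push (topAug Y) (topAugTop Y) AddCommGrpCat.{u}).rightDerived i).mapIso
      ((pullIso Y).app I).symm)
  haveI : (ΓV Y V).Additive := LemU.additive_sheafSections _ _
  haveI : PreservesFiniteLimits (ΓV Y V) := by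
    show PreservesFiniteLimits (sheafToPresheaf _ _ ⋙ (evaluation _ _).obj (op V))
    infer_instance
  obtain ⟨e1⟩ := CompAcyc.rightDerived_comp_iso (push (topAug Y) (topAugTop Y) AddCommGrpCat.{u})
    (ΓV Y V) (fun J hJ => by
      haveI := hJ
      exact FFThm.injective_U_obj (adj (topAug Y) (topAugTop Y) AddCommGrpCat.{u}) J)
    (Tp Y I) hacyc q
  have e2 := (DescCrit.rdIso (pushΓIso Y V) q).app (Tp Y I)
  refine IsZero.of_iso ?_ (e2.symm ≪≫ e1.symm)
  -- the push-forward of the pull-back is the injective sheaf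
  have hu : IsIso ((adj (topAug Y) (topAugTop Y) AddCommGrpCat.{u}).unit.app (toB Y I)) :=
    ConvFF.isIso_unit.{u + 1, u + 1} (adj (topAug Y) (topAugTop Y) AddCommGrpCat.{u})
      (ffPlus_of Y hY) _
  have e3 : (push (topAug Y) (topAugTop Y) AddCommGrpCat.{u}).obj (Tp Y I) ≅ toB Y I :=
    (push (topAug Y) (topAugTop Y) AddCommGrpCat.{u}).mapIso ((pullIso Y).app I).symm ≪≫
      (asIso ((adj (topAug Y) (topAugTop Y) AddCommGrpCat.{u}).unit.app (toB Y I))).symm
  refine IsZero.of_iso ?_ (((ΓV Y V).rightDerived q).mapIso e3)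
  obtain ⟨p, rfl⟩ : ∃ p, q = p + 1 := ⟨q - 1, by lia⟩
  haveI : Injective (toB Y I) := ‹Injective I›
  exact Functor.isZero_rightDerived_obj_injective_succ _ p _

/-- the local criterion for cohomological descent -/
theorem isCohDescentTop_of_local
    (h1 : ∀ (I : CohTop.Ab (Y.obj (bot D))), Injective I → ∀ x : Y.obj (bot D),
      ∃ W₀ : Opens (Y.obj (bot D)), x ∈ W₀ ∧ ∀ V : Opens (Y.obj (bot D)), V ≤ W₀ →
        LimP Y V (Taug Y I))
    (h2 : ∀ (I : CohTop.Ab (Y.obj (bot D))), Injective I → ∀ x : Y.obj (bot D),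
      ∃ W₀ : Opens (Y.obj (bot D)), x ∈ W₀ ∧ ∀ V : Opens (Y.obj (bot D)), V ≤ W₀ →
        ∀ q : ℕ, 0 < q → IsZero (((KV Y V ⋙ (lim : (Dᵒᵖᵒᵖ ⥤ AddCommGrpCat.{u}) ⥤
          AddCommGrpCat.{u})).rightDerived q).obj (Tp Y I))) :
    IsCohDescentTop Y := by
  refine ⟨inferInstance, inferInstance, inferInstance, inferInstance, inferInstance,
    inferInstance, ?_⟩
  intro K L
  obtain ⟨n, hn⟩ := L.property
  haveI : L.obj.IsGE n := hn
  refine FFThm.main (adj (topAug Y) (topAugTop Y) AddCommGrpCat.{u}) ?_ ?_ K.obj L.obj n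
  · intro I hI
    refine (isIso_unit_iff Y I).2 ?_
    apply LocSp.isIso_of_local (X := Y.obj (bot D))
    intro x
    obtain ⟨W₀, hx, hW⟩ := h1 I hI x
    refine ⟨W₀, hx, ?_⟩
    intro V hV
    exact isIso_unit_app Y V (Taug Y I) (hW V hV).some
  · intro I hI q hq
    refine IsZero.of_iso ?_
      (((push (topAug Y) (topAugTop Y) AddCommGrpCat.{u}).rightDerived q).mapIso
        ((pullIso Y).app I))
    apply LocSp.isZero_rightDerived_local (X := Y.obj (bot D))
    intro x
    obtain ⟨W₀, hx, hW⟩ := h2 I hI x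
    refine ⟨W₀, hx, ?_⟩
    intro V hV
    exact IsZero.of_iso (hW V hV q hq) ((DescCrit.rdIso (pushΓIso Y V) q).app (Tp Y I))

lemma eq_kS_of_le {Y' : (WithInitial D)ᵒᵖ ⥤ TopCat.{u}} {φ : Y' ⟶ Y} (h : OpenCart φ)
    (V : Opens (Y.obj (bot D))) (hV : V ≤ kS h ⊤) :
    V = kS h ((Opens.map (jB φ)).obj V) := by
  apply le_antisymm
  · intro y hy
    obtain ⟨x, -, rfl⟩ := hV hy
    exact ⟨x, hy, rfl⟩
  · rintro y ⟨x, hx, rfl⟩
    exact hx

/-- **Locality on the base**: an augmented family which is of cohomological descent over the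
members of an open cover of the base is of cohomological descent -/
theorem isCohDescentTop_of_cover {ι : Type*} (Y' : ι → ((WithInitial D)ᵒᵖ ⥤ TopCat.{u}))
    (φ : ∀ i, Y' i ⟶ Y) (hφ : ∀ i, OpenCart (φ i))
    (hcov : ∀ x : Y.obj (bot D), ∃ i, x ∈ Set.range ((φ i).app (bot D)))
    (hd : ∀ i, IsCohDescentTop (Y' i)) : IsCohDescentTop Y := by
  apply isCohDescentTop_of_local
  · intro I hI x
    obtain ⟨i, hi⟩ := hcov x
    refine ⟨kS (hφ i) ⊤, ?_, ?_⟩
    · obtain ⟨x', rfl⟩ := hi
      exact ⟨x', trivial, rfl⟩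
    · intro V hV
      rw [eq_kS_of_le Y (hφ i) V hV]
      exact limP_transfer (hφ i) I _ (limP_of_descent (Y' i) (hd i) _ _)
  · intro I hI x
    obtain ⟨i, hi⟩ := hcov x
    refine ⟨kS (hφ i) ⊤, ?_, ?_⟩
    · obtain ⟨x', rfl⟩ := hi
      exact ⟨x', trivial, rfl⟩
    · intro V hV q hq
      rw [eq_kS_of_le Y (hφ i) V hV]
      haveI := hI
      haveI : Injective ((CohTop.pull (jB (φ i))).obj I) :=
        OpenInj.injective_pull (jB (φ i)) ((hφ i).emb (bot D)) I
      exact isZero_transfer (hφ i) I _ q (isZero_of_descent (Y' i) (hd i) _ _ q hq)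

end LocCrit

end Groth.Agent.Lib.helper27
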