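import Mathlib
import Groth.Prelude.Def_FibDesc
import Groth.Agent.Lib.Helper27.DecNat

set_option autoImplicit false
set_option linter.unusedSectionVars false
set_option linter.unusedVariables false
set_option linter.style.haveILetI false
set_option backward.isDefEq.respectTransparency false
set_option backward.isDefEq.respectTransparency.types false

namespace Groth.Agent.Lib.helper27

open CategoryTheory Limits Opposite Pseudofunctor Pseudofunctor.CoGrothendieck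
open FibDesc TopologicalSpace

universe u

namespace DecNat

open BigSec TotSide TAug RanV SqSec PullConst DecDef TpFun

variable {D : Type} [SmallCategory D] {Y : (WithInitial D)ᵒᵖ ⥤ TopCat.{u}} (c : Contr Y)

/-- the functor `M ↦ s⁻¹(M_z)` -/
noncomputable def Sg : DShY Y ⥤ CohTop.Ab (Y.obj (bot D)) := restrP Y c.z ⋙ CohTop.pull c.s

variable (M : DShY Y)

/-- the first square -/
noncomputable def Θ₁ (n : Dᵒᵖ) :
    (Sg c).obj M ⟶ (CohTop.push (aP Y n)).obj (DecOb c M n) :=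
  Θ (Ym Y (c.v n)) (strM Y M (c.v n)) (aP Y n) c.s (c.e n) (c.e_v n).symm

/-- the levels of `α` -/
noncomputable def an (n : Dᵒᵖ) : (CohTop.pull (aP Y n)).obj ((Sg c).obj M) ⟶ DecOb c M n :=
  ((pbAdj (aP Y n)).homEquiv _ _).symm (Θ₁ c M n)

lemma ρ_an (n : Dᵒᵖ) (V : Opens (Y.obj (bot D))) (y : ((Sg c).obj M).obj.obj (op V)) :
    (an c M n).hom.app (op ((Opens.map (aP Y n)).obj V)) (ρ (aP Y n) ((Sg c).obj M) V y) =
      Θsec (Ym Y (c.v n)) (strM Y M (c.v n)) (aP Y n) c.s (c.e n) (c.e_v n).symm V y := by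
  have h1 := ((pbAdj (aP Y n)).homEquiv _ _).apply_symm_apply (Θ₁ c M n)
  rw [Adjunction.homEquiv_unit] at h1
  have h2 := congrArg (fun m => m.hom.app (op V)) h1
  exact ConcreteCategory.congr_hom h2 y

/-- the components of `α` on sections -/
noncomputable def αsec (n : Dᵒᵖ) (W : Opens (Xs Y n)) :
    ((CohTop.pull (aP Y n)).obj ((Sg c).obj M)).obj.obj (op W) ⟶ (DecOb c M n).obj.obj (op W) :=
  (an c M n).hom.app (op W)

lemma an_res (n : Dᵒᵖ) {W W' : Opens (Xs Y n)} (h : W' ≤ W)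
    (x : ((CohTop.pull (aP Y n)).obj ((Sg c).obj M)).obj.obj (op W)) :
    (an c M n).hom.app (op W')
        (((CohTop.pull (aP Y n)).obj ((Sg c).obj M)).obj.map (homOfLE h).op x) =
      (DecOb c M n).obj.map (homOfLE h).op ((an c M n).hom.app (op W) x) :=
  ConcreteCategory.congr_hom ((an c M n).hom.naturality (homOfLE h).op) x

/-- the compatibility of the squares -/
lemma sq_compat {n n' : Dᵒᵖ} (θ : n' ⟶ n) (V : Opens (Y.obj (bot D)))
    (y : ((Sg c).obj M).obj.obj (op V))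
    (hle : (Opens.map (Ym Y θ)).obj ((Opens.map (aP Y n)).obj V) ≤ (Opens.map (aP Y n')).obj V) :
    Θsec (Ym Y (c.sh.map θ)) (strM Y M (c.sh.map θ)) (Ym Y θ) (c.e n) (c.e n') (c.e_nat θ)
        ((Opens.map (aP Y n)).obj V)
        (Θsec (Ym Y (c.v n)) (strM Y M (c.v n)) (aP Y n) c.s (c.e n) (c.e_v n).symm V y) =
      (DecOb c M n').obj.map (homOfLE hle).op
        (Θsec (Ym Y (c.v n')) (strM Y M (c.v n')) (aP Y n') c.s (c.e n') (c.e_v n').symm V y) := by
  have w'' : (Ym Y θ ≫ aP Y n) ≫ c.s = c.e n' ≫ (Ym Y (c.sh.map θ) ≫ Ym Y (c.v n)) := by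
    rw [Category.assoc, ← c.e_v n, ← Category.assoc, c.e_nat θ, Category.assoc]
  have e2 := Θsec_comp (Ym Y (c.v n)) (Ym Y (c.sh.map θ)) (strM Y M (c.v n))
    (strM Y M (c.sh.map θ)) (aP Y n) (Ym Y θ) c.s (c.e n) (c.e n') (c.e_v n).symm
    (c.e_nat θ) w'' V y
  rw [← e2]
  have hrfl : (Opens.map (Ym Y θ)).obj ((Opens.map (aP Y n)).obj V) ≤
      (Opens.map (Ym Y θ ≫ aP Y n)).obj V := le_rfl
  have e3 := Θsec_congr (Ym Y (c.v n')) (Ym Y (c.sh.map θ) ≫ Ym Y (c.v n))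
    (by rw [← Ym_comp, c.v_nat]) (aP Y n') (Ym Y θ ≫ aP Y n) (Ym_aP Y θ).symm
    (strM Y M (c.v n'))
    (show (restrP Y c.z).obj M ⟶
      (CohTop.push (Ym Y (c.sh.map θ) ≫ Ym Y (c.v n))).obj ((restrP Y (c.sh.obj n')).obj M) from
      strM Y M (c.v n) ≫ (CohTop.push (Ym Y (c.v n))).map (strM Y M (c.sh.map θ)))
    (by
      intro U hU z
      have hU' : (Opens.map (Ym Y (c.v n'))).obj U ≤
          (Opens.map (Ym Y (𝟙 (c.sh.obj n')))).obj
            ((Opens.map (Ym Y (c.sh.map θ) ≫ Ym Y (c.v n))).obj U) := by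
        rw [Ym_id]
        exact hU
      rw [restrP_map_eq M (c.sh.obj n') hU hU']
      let U₁ : Opens (Xs Y (c.sh.obj n)) := (Opens.map (Ym Y (c.v n))).obj U
      let U₂ : Opens (Xs Y (c.sh.obj n')) := (Opens.map (Ym Y (c.sh.map θ))).obj U₁
      let U₃ : Opens (Xs Y (c.sh.obj n')) := (Opens.map (Ym Y (c.v n'))).obj U
      let fa : tpOb Y (c.sh.obj n') U₃ ⟶ tpOb Y c.z U := tpHom Y (c.v n') le_rfl
      let fb : tpOb Y (c.sh.obj n') U₃ ⟶ tpOb Y (c.sh.obj n') U₂ :=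
        tpHom Y (𝟙 (c.sh.obj n')) hU'
      let fc : tpOb Y (c.sh.obj n') U₂ ⟶ tpOb Y (c.sh.obj n) U₁ := tpHom Y (c.sh.map θ) le_rfl
      let fd : tpOb Y (c.sh.obj n) U₁ ⟶ tpOb Y c.z U := tpHom Y (c.v n) le_rfl
      let fk : tpOb Y (c.sh.obj n') U₂ ⟶ tpOb Y c.z U :=
        tpHom Y (c.sh.map θ ≫ c.v n) (by
          rw [Ym_comp]
          exact le_rfl)
      have s1 : M.obj.map fc.op (M.obj.map fd.op z) = M.obj.map fk.op z :=
        mapP_comp_apply Y M fc fd fk rfl z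
      have s2 : M.obj.map fb.op (M.obj.map fk.op z) = M.obj.map fa.op z :=
        mapP_comp_apply Y M fb fk fa (by
          show 𝟙 _ ≫ (c.sh.map θ ≫ c.v n) = c.v n'
          rw [Category.id_comp, c.v_nat]) z
      exact ((congrArg (fun t => M.obj.map fb.op t) s1).trans s2).symm)
    c.s (c.e n') (c.e_v n').symm w'' hle hrfl y
  have h2 : (DecOb c M n').obj.map (homOfLE hrfl).op = 𝟙 _ :=
    CategoryTheory.Functor.map_id _ _
  exact (e3.trans (ConcreteCategory.congr_hom h2 _)).symm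

lemma αsec_natural {n n' : Dᵒᵖ} (θ : n' ⟶ n) (W : Opens (Xs Y n)) (W' : Opens (Xs Y n'))
    (h : W' ≤ (Opens.map (Ym Y θ)).obj W)
    (x : ((CohTop.pull (aP Y n)).obj ((Sg c).obj M)).obj.obj (op W)) :
    decT c M θ W W' h (αsec c M n W x) =
      αsec c M n' W' (((CohTop.pull (aP Y n')).obj ((Sg c).obj M)).obj.map (homOfLE h).op
        (θsec ((Sg c).obj M) (Ym Y θ) (aP Y n) (aP Y n') (Ym_aP Y θ) W x)) := by
  let G := (Sg c).obj M
  let Ψ₁ : (CohTop.pull (aP Y n)).obj G ⟶ (CohTop.push (Ym Y θ)).obj (DecOb c M n') :=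
    an c M n ≫ Θ (Ym Y (c.sh.map θ)) (strM Y M (c.sh.map θ)) (Ym Y θ) (c.e n) (c.e n') (c.e_nat θ)
  let Ψ₂ : (CohTop.pull (aP Y n)).obj G ⟶ (CohTop.push (Ym Y θ)).obj (DecOb c M n') :=
    PullFunTop.θ G (Ym Y θ) (aP Y n) (aP Y n') (Ym_aP Y θ) ≫ (CohTop.push (Ym Y θ)).map (an c M n')
  have key : Ψ₁ = Ψ₂ := by
    apply pull_hom_ext'
    intro V y
    have hle : (Opens.map (Ym Y θ)).obj ((Opens.map (aP Y n)).obj V) ≤
        (Opens.map (aP Y n')).obj V := by
      intro p hp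
      have : (Ym Y θ ≫ aP Y n) p ∈ V := hp
      rw [Ym_aP] at this
      exact this
    show Θsec (Ym Y (c.sh.map θ)) (strM Y M (c.sh.map θ)) (Ym Y θ) (c.e n) (c.e n') (c.e_nat θ)
        ((Opens.map (aP Y n)).obj V)
        ((an c M n).hom.app (op ((Opens.map (aP Y n)).obj V)) (ρ (aP Y n) G V y)) =
      (an c M n').hom.app (op ((Opens.map (Ym Y θ)).obj ((Opens.map (aP Y n)).obj V)))
        (θsec G (Ym Y θ) (aP Y n) (aP Y n') (Ym_aP Y θ) ((Opens.map (aP Y n)).obj V)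
          (ρ (aP Y n) G V y))
    rw [ρ_an]
    have e1 : θsec G (Ym Y θ) (aP Y n) (aP Y n') (Ym_aP Y θ) ((Opens.map (aP Y n)).obj V)
        (ρ (aP Y n) G V y) =
        ((CohTop.pull (aP Y n')).obj G).obj.map (homOfLE hle).op (ρ (aP Y n') G V y) :=
      ConcreteCategory.congr_hom (ρ_θsec G (Ym Y θ) (aP Y n) (aP Y n') (Ym_aP Y θ) V hle) y
    rw [e1, an_res, ρ_an]
    exact sq_compat c M θ V y hle
  have k1 := ConcreteCategory.congr_hom (congrArg (fun m => m.hom.app (op W)) key) x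
  have k2 : Θsec (Ym Y (c.sh.map θ)) (strM Y M (c.sh.map θ)) (Ym Y θ) (c.e n) (c.e n') (c.e_nat θ)
      W ((an c M n).hom.app (op W) x) =
      (an c M n').hom.app (op ((Opens.map (Ym Y θ)).obj W))
        (θsec G (Ym Y θ) (aP Y n) (aP Y n') (Ym_aP Y θ) W x) := k1
  rw [decT_apply]
  show (DecOb c M n').obj.map (homOfLE h).op
      (Θsec (Ym Y (c.sh.map θ)) (strM Y M (c.sh.map θ)) (Ym Y θ) (c.e n) (c.e n') (c.e_nat θ) W
        ((an c M n).hom.app (op W) x)) = _
  rw [k2]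
  exact (an_res c M n' h _).symm

/-- the morphism `Tp (Sg M) ⟶ Dec M` -/
noncomputable def αM : (TpF Y).obj ((Sg c).obj M) ⟶ (Dec c).obj M where
  hom :=
    { app := fun X => αsec c M X.unop.base (fibP Y X.unop)
      naturality := by
        intro X X' f
        ext x
        exact (αsec_natural c M f.unop.base (fibP Y X.unop) (fibP Y X'.unop)
          (fibP_le Y f.unop) x).symm }

variable {M}

lemma an_natural {M M' : DShY Y} (φ : M ⟶ M') (n : Dᵒᵖ) :
    (CohTop.pull (aP Y n)).map ((Sg c).map φ) ≫ an c M' n =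
      an c M n ≫ (CohTop.pull (c.e n)).map ((restrP Y (c.sh.obj n)).map φ) := by
  apply pull_hom_ext'
  intro V y
  have e1 : ((CohTop.pull (aP Y n)).map ((Sg c).map φ)).hom.app
      (op ((Opens.map (aP Y n)).obj V)) (ρ (aP Y n) ((Sg c).obj M) V y) =
      ρ (aP Y n) ((Sg c).obj M') V (((Sg c).map φ).hom.app (op V) y) :=
    ConcreteCategory.congr_hom (ρ_naturality (aP Y n) ((Sg c).map φ) V) y
  show (an c M' n).hom.app (op ((Opens.map (aP Y n)).obj V))
      (((CohTop.pull (aP Y n)).map ((Sg c).map φ)).hom.app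
        (op ((Opens.map (aP Y n)).obj V)) (ρ (aP Y n) ((Sg c).obj M) V y)) =
    ((CohTop.pull (c.e n)).map ((restrP Y (c.sh.obj n)).map φ)).hom.app
      (op ((Opens.map (aP Y n)).obj V))
      ((an c M n).hom.app (op ((Opens.map (aP Y n)).obj V)) (ρ (aP Y n) ((Sg c).obj M) V y))
  rw [e1, ρ_an, ρ_an]
  exact Θsec_natural (Ym Y (c.v n)) (strM Y M (c.v n)) (strM Y M' (c.v n))
    ((restrP Y c.z).map φ) ((restrP Y (c.sh.obj n)).map φ) (strM_natural Y φ (c.v n))
    (aP Y n) c.s (c.e n) (c.e_v n).symm V y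

/-- the natural transformation `Sg ⋙ TpF ⟶ Dec` -/
noncomputable def α : Sg c ⋙ TpF Y ⟶ Dec c where
  app M := αM c M
  naturality {M M'} φ := by
    apply Sheaf.hom_ext
    apply NatTrans.ext
    funext X
    exact congrArg (fun m => m.hom.app (op (fibP Y X.unop))) (an_natural c φ X.unop.base)

end DecNat

end Groth.Agent.Lib.helper27
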