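import Mathlib
import Groth.Prelude.Def_FibDesc
import Groth.Agent.Lib.Helper27.DecNat2

set_option autoImplicit false
set_option linter.unusedSectionVars false
set_option linter.unusedVariables false
set_option linter.style.haveILetI false
set_option backward.isDefEq.respectTransparency false
set_option backward.isDefEq.respectTransparency.types false

namespace Groth.Agent.Lib.helper27

open CategoryTheory Limits Opposite Pseudofunctor Pseudofunctor.CoGrothendieck
open FibDesc TopologicalSpace

universe u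

namespace DecNat

open BigSec TotSide TAug RanV SqSec PullConst DecDef TpFun

variable {D : Type} [SmallCategory D] {Y : (WithInitial D)ᵒᵖ ⥤ TopCat.{u}}

section level

variable (K : CohTop.Ab (Y.obj (bot D)))

/-- the levels of `Tp K` -/
noncomputable abbrev Gl (n : Dᵒᵖ) : CohTop.Ab (Xs Y n) := (restrP Y n).obj ((TpF Y).obj K)

lemma level_map (n : Dᵒᵖ) {W W' : Opens (Xs Y n)} (h : W' ≤ W)
    (x : ((CohTop.pull (aP Y n)).obj K).obj.obj (op W)) :
    (Gl K n).obj.map (homOfLE h).op x =
      ((CohTop.pull (aP Y n)).obj K).obj.map (homOfLE h).op x := by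
  have h' : W' ≤ (Opens.map (Ym Y (𝟙 n))).obj W := by
    rw [Ym_id]
    exact h
  rw [restrP_map_eq ((TpF Y).obj K) n h h']
  have e1 := Tp_map K (tpHom Y (𝟙 n) h') x
  refine e1.trans ?_
  exact ConcreteCategory.congr_hom
    (TAug.θsec_of_eq_id K (Ym Y (𝟙 n)) (Ym_id Y n) (aP Y n) (Ym_aP Y (𝟙 n)) h' h) x

/-- the levels of `Tp K` are the pullbacks of `K` -/
noncomputable def levelIso (n : Dᵒᵖ) : Gl K n ≅ (CohTop.pull (aP Y n)).obj K where
  hom := ⟨{ app := fun W => 𝟙 _
            naturality := by
              intro W W' i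
              ext x
              exact level_map K n (leOfHom i.unop) x }⟩
  inv := ⟨{ app := fun W => 𝟙 _
            naturality := by
              intro W W' i
              ext x
              exact (level_map K n (leOfHom i.unop) x).symm }⟩
  hom_inv_id := by
    apply Sheaf.hom_ext
    apply NatTrans.ext
    funext W
    exact Category.id_comp _
  inv_hom_id := by
    apply Sheaf.hom_ext
    apply NatTrans.ext
    funext W
    exact Category.id_comp _

end level

/-- isomorphisms are detected on the levels -/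
lemma isIso_of_levels {M M' : DShY Y} (f : M ⟶ M')
    (h : ∀ n, IsIso ((restrP Y n).map f)) : IsIso f := by
  haveI : IsIso f.hom := by
    apply (config := { allowSynthFailures := true }) NatIso.isIso_of_isIso_app
    intro X
    haveI := h X.unop.base
    haveI : IsIso ((restrP Y X.unop.base).map f).hom :=
      (sheafToPresheaf _ _).map_isIso ((restrP Y X.unop.base).map f)
    exact inferInstanceAs (IsIso (((restrP Y X.unop.base).map f).hom.app (op (fibP Y X.unop))))
  haveI : IsIso ((sheafToPresheaf (totPart (topAug Y) (topAugTop Y)) AddCommGrpCat.{u}).map f) :=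
    ‹IsIso f.hom›
  exact isIso_of_reflects_iso f (sheafToPresheaf _ _)

variable (c : Contr Y)

section cinv

variable (K : CohTop.Ab (Y.obj (bot D)))

lemma hs (V : Opens (Y.obj (bot D))) :
    V ≤ (Opens.map c.s).obj ((Opens.map (aP Y c.z)).obj V) := by
  intro p hp
  show (c.s ≫ aP Y c.z) p ∈ V
  rw [c.s_a]
  exact hp

lemma hs' (V : Opens (Y.obj (bot D))) :
    (Opens.map c.s).obj ((Opens.map (aP Y c.z)).obj V) ≤ V := by
  intro p hp
  have : (c.s ≫ aP Y c.z) p ∈ V := hp
  rw [c.s_a] at this
  exact this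

/-- the sections of the inverse of `c` -/
noncomputable def cinvSec (V : Opens (Y.obj (bot D))) :
    K.obj.obj (op V) ⟶ ((Sg c).obj ((TpF Y).obj K)).obj.obj (op V) :=
  ρ (aP Y c.z) K V ≫ (show ((CohTop.pull (aP Y c.z)).obj K).obj.obj
      (op ((Opens.map (aP Y c.z)).obj V)) ⟶ _ from
    ρ c.s (Gl K c.z) ((Opens.map (aP Y c.z)).obj V)) ≫
    ((CohTop.pull c.s).obj (Gl K c.z)).obj.map (homOfLE (hs c V)).op

lemma cinvSec_apply (V : Opens (Y.obj (bot D))) (y : K.obj.obj (op V)) :
    cinvSec c K V y = ((CohTop.pull c.s).obj (Gl K c.z)).obj.map (homOfLE (hs c V)).op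
      (ρ c.s (Gl K c.z) ((Opens.map (aP Y c.z)).obj V) (ρ (aP Y c.z) K V y)) := rfl

/-- the inverse of `c` -/
noncomputable def cinv : K ⟶ (Sg c).obj ((TpF Y).obj K) where
  hom :=
    { app := fun V => cinvSec c K V.unop
      naturality := by
        intro V V' i
        ext y
        have hi : V'.unop ≤ V.unop := leOfHom i.unop
        let U : Opens (Xs Y c.z) := (Opens.map (aP Y c.z)).obj V.unop
        let U' : Opens (Xs Y c.z) := (Opens.map (aP Y c.z)).obj V'.unop
        have hU : U' ≤ U := (Opens.map (aP Y c.z)).monotone hi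
        let m := ρ (aP Y c.z) K V.unop y
        have e1 : ρ (aP Y c.z) K V'.unop (K.obj.map i y) =
            ((CohTop.pull (aP Y c.z)).obj K).obj.map (homOfLE hU).op m :=
          ConcreteCategory.congr_hom (ρ_res (aP Y c.z) K i.unop) y
        have e2 := level_map K c.z hU m
        have e3 := ρ_res_eq c.s (Gl K c.z) hU m ((hs c V'.unop).trans
          ((Opens.map c.s).monotone hU)) (hs c V'.unop)
        show cinvSec c K V'.unop (K.obj.map i y) =
          ((CohTop.pull c.s).obj (Gl K c.z)).obj.map i (cinvSec c K V.unop y)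
        rw [cinvSec_apply, cinvSec_apply, e1, ← e2, ← e3]
        exact (map_map_hom ((CohTop.pull c.s).obj (Gl K c.z)).obj (homOfLE (hs c V.unop)) i.unop
          (homOfLE ((hs c V'.unop).trans ((Opens.map c.s).monotone hU))) _).symm }

end cinv

/-- the natural transformation `𝟭 ⟶ TpF ⋙ Sg` -/
noncomputable def cInv : 𝟭 (CohTop.Ab (Y.obj (bot D))) ⟶ TpF Y ⋙ Sg c where
  app K := cinv c K
  naturality {K K'} φ := by
    apply Sheaf.hom_ext
    apply NatTrans.ext
    funext V
    ext y
    let U : Opens (Xs Y c.z) := (Opens.map (aP Y c.z)).obj V.unop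
    let κ := (restrP Y c.z).map ((TpF Y).map φ)
    let m := ρ (aP Y c.z) K V.unop y
    have e1 : ((CohTop.pull c.s).map κ).hom.app V
        (((CohTop.pull c.s).obj (Gl K c.z)).obj.map (homOfLE (hs c V.unop)).op
          (ρ c.s (Gl K c.z) U m)) =
        ((CohTop.pull c.s).obj (Gl K' c.z)).obj.map (homOfLE (hs c V.unop)).op
          (((CohTop.pull c.s).map κ).hom.app (op ((Opens.map c.s).obj U))
            (ρ c.s (Gl K c.z) U m)) :=
      ConcreteCategory.congr_hom
        (((CohTop.pull c.s).map κ).hom.naturality (homOfLE (hs c V.unop)).op) _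
    have e2 : ((CohTop.pull c.s).map κ).hom.app (op ((Opens.map c.s).obj U))
        (ρ c.s (Gl K c.z) U m) = ρ c.s (Gl K' c.z) U (κ.hom.app (op U) m) :=
      ConcreteCategory.congr_hom (ρ_naturality c.s κ U) m
    have e3 : κ.hom.app (op U) m = ρ (aP Y c.z) K' V.unop (φ.hom.app V y) :=
      ConcreteCategory.congr_hom (ρ_naturality (aP Y c.z) φ V.unop) y
    show cinvSec c K' V.unop (φ.hom.app V y) =
      ((CohTop.pull c.s).map κ).hom.app V (cinvSec c K V.unop y)
    rw [cinvSec_apply, cinvSec_apply, e1, e2, e3]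

lemma isIso_app_of_isIso {X : TopCat.{u}} {F G : CohTop.Ab X} (f : F ⟶ G) [IsIso f]
    (U : (Opens X)ᵒᵖ) : IsIso (f.hom.app U) := by
  haveI : IsIso f.hom := (sheafToPresheaf _ _).map_isIso f
  infer_instance

lemma isIso_res_of_eq {X : TopCat.{u}} (P : (Opens X)ᵒᵖ ⥤ AddCommGrpCat.{u}) {U V : Opens X}
    (h : V ≤ U) (h' : U ≤ V) : IsIso (P.map (homOfLE h).op) :=
  ⟨⟨P.map (homOfLE h').op, by
    rw [← Functor.map_comp]
    exact CategoryTheory.Functor.map_id _ _, by
    rw [← Functor.map_comp]
    exact CategoryTheory.Functor.map_id _ _⟩⟩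

instance isIso_cinv (K : CohTop.Ab (Y.obj (bot D))) : IsIso (cinv c K) := by
  let adjC := (pbAdj (aP Y c.z)).comp (pbAdj c.s)
  let eR : CohTop.push c.s ⋙ CohTop.push (aP Y c.z) ≅ 𝟭 _ :=
    PullFunTop.pushCompIso c.s (aP Y c.z) ≪≫
      eqToIso (congrArg (fun f => CohTop.push f) c.s_a) ≪≫ PullFunTop.pushIdIso _
  haveI : (CohTop.push c.s ⋙ CohTop.push (aP Y c.z)).IsEquivalence :=
    Functor.isEquivalence_of_iso eR.symm
  haveI : (CohTop.pull (aP Y c.z) ⋙ CohTop.pull c.s).IsEquivalence :=
    adjC.isEquivalence_left_of_isEquivalence_right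
  haveI : IsIso (adjC.unit.app K) := inferInstance
  let L := (CohTop.pull c.s).map (levelIso K c.z).inv
  haveI : IsIso L := inferInstance
  haveI : IsIso (cinv c K).hom := by
    apply (config := { allowSynthFailures := true }) NatIso.isIso_of_isIso_app
    intro V
    let U : Opens (Xs Y c.z) := (Opens.map (aP Y c.z)).obj V.unop
    haveI h1 : IsIso ((adjC.unit.app K).hom.app V) := isIso_app_of_isIso _ V
    haveI h2 : IsIso (L.hom.app (op ((Opens.map c.s).obj U))) := isIso_app_of_isIso _ _
    haveI h3 : IsIso (((CohTop.pull c.s).obj (Gl K c.z)).obj.map (homOfLE (hs c V.unop)).op) :=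
      isIso_res_of_eq _ (hs c V.unop) (hs' c V.unop)
    have e : cinvSec c K V.unop = (adjC.unit.app K).hom.app V ≫
        L.hom.app (op ((Opens.map c.s).obj U)) ≫
        ((CohTop.pull c.s).obj (Gl K c.z)).obj.map (homOfLE (hs c V.unop)).op := by
      ext y
      let m := ρ (aP Y c.z) K V.unop y
      have e1 : L.hom.app (op ((Opens.map c.s).obj U))
          (ρ c.s ((CohTop.pull (aP Y c.z)).obj K) U m) =
          ρ c.s (Gl K c.z) U ((levelIso K c.z).inv.hom.app (op U) m) :=
        ConcreteCategory.congr_hom (ρ_naturality c.s (levelIso K c.z).inv U) m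
      rw [cinvSec_apply]
      show _ = ((CohTop.pull c.s).obj (Gl K c.z)).obj.map (homOfLE (hs c V.unop)).op
        (L.hom.app (op ((Opens.map c.s).obj U))
          (ρ c.s ((CohTop.pull (aP Y c.z)).obj K) U m))
      rw [e1]
      rfl
    show IsIso (cinvSec c K V.unop)
    rw [e]
    infer_instance
  haveI : IsIso ((sheafToPresheaf (Opens.grothendieckTopology (Y.obj (bot D)))
      AddCommGrpCat.{u}).map (cinv c K)) := ‹IsIso (cinv c K).hom›
  exact isIso_of_reflects_iso (cinv c K) (sheafToPresheaf _ _)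

/-- the natural isomorphism `TpF ⋙ Sg ≅ 𝟭` -/
noncomputable def cIso : TpF Y ⋙ Sg c ≅ 𝟭 (CohTop.Ab (Y.obj (bot D))) :=
  haveI : IsIso (cInv c) := by
    apply (config := { allowSynthFailures := true }) NatIso.isIso_of_isIso_app
    intro K
    exact isIso_cinv c K
  (asIso (cInv c)).symm

end DecNat

end Groth.Agent.Lib.helper27
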