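import Mathlib
import Groth.Prelude.Def_FibDesc
import Groth.Agent.Lib.Helper27.PushSec
import Groth.Agent.Lib.Helper27.TpFun

set_option autoImplicit false
set_option linter.unusedSectionVars false
set_option linter.unusedVariables false
set_option linter.style.haveILetI false
set_option backward.isDefEq.respectTransparency false
set_option backward.isDefEq.respectTransparency.types false

namespace Groth.Agent.Lib.helper27

open CategoryTheory Limits Opposite Pseudofunctor Pseudofunctor.CoGrothendieck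
open FibDesc TopologicalSpace

universe u

namespace TpUniv

open BigSec TotSide TAug RanV ResTr PushSec TpFun

variable {D : Type} [SmallCategory D] (Y : (WithInitial D)ᵒᵖ ⥤ TopCat.{u})
  (G : CohTop.Ab (Y.obj (bot D)))

/-- the canonical map from a sheaf on the base to the direct image of its family of pullbacks -/
noncomputable def uT : toB Y G ⟶ (pushY Y).obj (Tp Y G) :=
  uG Y G ≫ (FibSite.restr (topAug Y) (topAugTop Y) AddCommGrpCat.{u} (bot D)).map
    ((inclAdj Y).unit.app (Taug Y G))

lemma unit_pullIso :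
    (adj (topAug Y) (topAugTop Y) AddCommGrpCat.{u}).unit.app (toB Y G) ≫
      (pushY Y).map ((pullIso Y).hom.app G) = uT Y G := by
  let R := FibSite.restr (topAug Y) (topAugTop Y) AddCommGrpCat.{u} (bot D)
  let A := (adj (topAug Y) (topAugTop Y) AddCommGrpCat.{u}).unit.app (toB Y G)
  let e := extIso Y G
  have he := extIso_spec Y G
  have h1 : A = ((eps (topAug Y)).sheafAdjunctionContinuous AddCommGrpCat.{u}
      (topAugTop Y (bot D)) (totAug (topAug Y) (topAugTop Y))).unit.app (toB Y G) ≫
      R.map ((inclAdj Y).unit.app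
        ((FibSite.extend (topAug Y) (topAugTop Y) AddCommGrpCat.{u} (bot D)).obj (toB Y G))) :=
    rfl
  have h2 := (inclAdj Y).unit.naturality e.hom
  show A ≫ R.map ((inclRes Y ⋙ inclRan Y).map e.hom) = _
  rw [h1, Category.assoc, ← Functor.map_comp]
  erw [← h2]
  rw [Functor.map_comp, ← Category.assoc]
  erw [he]
  rfl

lemma πs_uT (V : Opens (Y.obj (bot D))) (n : Dᵒᵖ) (h : G.obj.obj (op V)) :
    πs Y (Tp Y G) V n ((uT Y G).hom.app (op V) h) = ρ (aP Y n) G V h := by
  have h1 := ConcreteCategory.congr_hom (unit_comp_π Y V (Taug Y G) (op n))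
    ((uG Y G).hom.app (op V) h)
  refine h1.trans ?_
  have h2 := key Y G (Taug Y G) (𝟙 _) ((toAug D).obj n) V
  have h3 := ConcreteCategory.congr_hom h2 h
  refine Eq.trans ?_ h3.symm
  rw [CategoryTheory.Functor.map_id, Category.comp_id]
  rfl

variable {Y G} in
/-- the map to the direct image associated with a map out of the family of pullbacks -/
noncomputable def adjT {M : DShY Y} (Ψ : Tp Y G ⟶ M) : toB Y G ⟶ (pushY Y).obj M :=
  uT Y G ≫ (pushY Y).map Ψ

variable {Y G} in
lemma adjT_eq {M : DShY Y} (Ψ : Tp Y G ⟶ M) :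
    adjT Ψ = ((adj (topAug Y) (topAugTop Y) AddCommGrpCat.{u}).homEquiv (toB Y G) M)
      ((pullIso Y).hom.app G ≫ Ψ) := by
  rw [Adjunction.homEquiv_unit]
  have h1 := unit_pullIso Y G
  have h2 : (pushY Y).map ((pullIso Y).hom.app G ≫ Ψ) =
      (pushY Y).map ((pullIso Y).hom.app G) ≫ (pushY Y).map Ψ := Functor.map_comp _ _ _
  calc adjT Ψ = uT Y G ≫ (pushY Y).map Ψ := rfl
    _ = ((adj (topAug Y) (topAugTop Y) AddCommGrpCat.{u}).unit.app (toB Y G) ≫
        (pushY Y).map ((pullIso Y).hom.app G)) ≫ (pushY Y).map Ψ := by rw [h1]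
    _ = (adj (topAug Y) (topAugTop Y) AddCommGrpCat.{u}).unit.app (toB Y G) ≫
        ((pushY Y).map ((pullIso Y).hom.app G) ≫ (pushY Y).map Ψ) := Category.assoc _ _ _
    _ = _ := by rw [← h2]

variable {Y G} in
/-- the level formula -/
lemma adjT_π {M : DShY Y} (Ψ : Tp Y G ⟶ M) (V : Opens (Y.obj (bot D))) (n : Dᵒᵖ)
    (h : G.obj.obj (op V)) :
    πs Y M V n ((adjT Ψ).hom.app (op V) h) =
      Ψ.hom.app (op (tpOb Y n (WV Y V n))) (ρ (aP Y n) G V h) := by
  have h1 := πs_natural Y V Ψ n ((uT Y G).hom.app (op V) h)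
  rw [πs_uT] at h1
  exact h1

variable {Y G} in
/-- the map out of the family of pullbacks associated with a map to the direct image -/
noncomputable def ofAdjT {M : DShY Y} (φ : toB Y G ⟶ (pushY Y).obj M) : Tp Y G ⟶ M :=
  (pullIso Y).inv.app G ≫
    ((adj (topAug Y) (topAugTop Y) AddCommGrpCat.{u}).homEquiv (toB Y G) M).symm φ

variable {Y G} in
lemma adjT_ofAdjT {M : DShY Y} (φ : toB Y G ⟶ (pushY Y).obj M) : adjT (ofAdjT φ) = φ := by
  rw [adjT_eq, ofAdjT, ← Category.assoc]
  have : (pullIso Y).hom.app G ≫ (pullIso Y).inv.app G = 𝟙 _ := by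
    rw [← NatTrans.comp_app, Iso.hom_inv_id]
    rfl
  rw [this, Category.id_comp]
  exact Equiv.apply_symm_apply _ _

end TpUniv

end Groth.Agent.Lib.helper27
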