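import Mathlib
import Groth.Prelude.Def_FibDesc
import Groth.Agent.Lib.Helper27.BaseCh
import Groth.Agent.Lib.Helper27.TpUniv
import Groth.Agent.Lib.Helper27.DecNat3
import Groth.Agent.Lib.Helper27.DblPull

set_option autoImplicit false
set_option linter.unusedSectionVars false
set_option linter.unusedVariables false
set_option linter.style.haveILetI false
set_option backward.isDefEq.respectTransparency false
set_option backward.isDefEq.respectTransparency.types false

namespace Groth.Agent.Lib.helper27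

open CategoryTheory Limits Opposite Pseudofunctor Pseudofunctor.CoGrothendieck
open FibDesc TopologicalSpace

universe u

namespace TpPull

open BigSec TotSide TAug RanV SqSec PullConst DecDef GPull DecNat GPullK PushSec ResTr BaseCh
  TpFun TpUniv

variable {D D' : Type} [SmallCategory D] [SmallCategory D']
  {Y : (WithInitial D)ᵒᵖ ⥤ TopCat.{u}} {Y' : (WithInitial D')ᵒᵖ ⥤ TopCat.{u}}
  (c : AData Y Y') (G : CohTop.Ab (Y.obj (bot D)))

/-- the pulled back sheaf on the base -/
noncomputable abbrev Gp : CohTop.Ab (Y'.obj (bot D')) := (CohTop.pull c.j).obj G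

/-- the pullback of the family of pullbacks -/
noncomputable abbrev Np : DShY Y' := (Pull c.toPData).obj (Tp Y G)

noncomputable def φ₀ : toB Y G ⟶ (CohTop.push c.j).obj ((pushY Y').obj (Np c G)) :=
  uT Y G ≫ cflat c (Tp Y G)

noncomputable def φ : toB Y' (Gp c G) ⟶ (pushY Y').obj (Np c G) :=
  ((pbAdj c.j).homEquiv _ _).symm (φ₀ c G)

/-- the comparison map -/
noncomputable def κ : Tp Y' (Gp c G) ⟶ Np c G := ofAdjT (φ c G)

lemma unit_φ : (pbAdj c.j).unit.app G ≫ (CohTop.push c.j).map (φ c G) = φ₀ c G := by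
  have h := ((pbAdj c.j).homEquiv _ _).apply_symm_apply (φ₀ c G)
  rw [Adjunction.homEquiv_unit] at h
  exact h

lemma φ_ρ (V : Opens (Y.obj (bot D))) (g : G.obj.obj (op V)) :
    (φ c G).hom.app (op (jV c V)) (ρ c.j G V g) =
      cfl c (Tp Y G) V ((uT Y G).hom.app (op V) g) := by
  have h := congrArg (fun m => m.hom.app (op V)) (unit_φ c G)
  exact ConcreteCategory.congr_hom h g

lemma κ_ρρ (V : Opens (Y.obj (bot D))) (n : D'ᵒᵖ) (g : G.obj.obj (op V)) :
    (κ c G).hom.app (op (tpOb Y' n (WV Y' (jV c V) n)))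
        (ρ (aP Y' n) (Gp c G) (jV c V) (ρ c.j G V g)) =
      γsec c.toPData (Tp Y G) n (WV Y V (c.sh.obj n)) (WV Y' (jV c V) n) (WV_le_e c V n)
        (ρ (aP Y (c.sh.obj n)) G V g) := by
  have h1 := adjT_π (κ c G) (jV c V) n (ρ c.j G V g)
  rw [κ, adjT_ofAdjT] at h1
  rw [← κ] at h1
  rw [← h1, φ_ρ, πs_cfl, πs_uT]

/-- the level `n` comparison between honest pullbacks -/
noncomputable def lam (n : D'ᵒᵖ) : (CohTop.pull (aP Y' n)).obj (Gp c G) ⟶
    (CohTop.pull (c.e n)).obj ((CohTop.pull (aP Y (c.sh.obj n))).obj G) :=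
  (DecNat.levelIso (Gp c G) n).inv ≫ (restrP Y' n).map (κ c G) ≫
    (GPull.levelIso c.toPData n).hom.app (Tp Y G) ≫
    (CohTop.pull (c.e n)).map (DecNat.levelIso G (c.sh.obj n)).hom

lemma lam_app (n : D'ᵒᵖ) (W' : Opens (Xs Y' n))
    (t : ((CohTop.pull (aP Y' n)).obj (Gp c G)).obj.obj (op W')) :
    (lam c G n).hom.app (op W') t =
      ((CohTop.pull (c.e n)).map (DecNat.levelIso G (c.sh.obj n)).hom).hom.app (op W')
        ((κ c G).hom.app (op (tpOb Y' n W')) t) := rfl

lemma lam_ρρ (n : D'ᵒᵖ) (V : Opens (Y.obj (bot D))) (g : G.obj.obj (op V)) :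
    (lam c G n).hom.app (op ((Opens.map (aP Y' n)).obj ((Opens.map c.j).obj V)))
        (ρ (aP Y' n) (Gp c G) ((Opens.map c.j).obj V) (ρ c.j G V g)) =
      ((CohTop.pull (c.e n)).obj ((CohTop.pull (aP Y (c.sh.obj n))).obj G)).obj.map
        (homOfLE (DblPull.le_sq (aP Y' n) c.j (c.e n) (aP Y (c.sh.obj n)) (c.e_aug n) V)).op
        (ρ (c.e n) ((CohTop.pull (aP Y (c.sh.obj n))).obj G)
          ((Opens.map (aP Y (c.sh.obj n))).obj V) (ρ (aP Y (c.sh.obj n)) G V g)) := by
  rw [lam_app]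
  have h1 := κ_ρρ c G V n g
  rw [γsec_apply] at h1
  refine (congrArg _ h1).trans ?_
  let φ := (CohTop.pull (c.e n)).map (DecNat.levelIso G (c.sh.obj n)).hom
  have h2 := ConcreteCategory.congr_hom (φ.hom.naturality (homOfLE (WV_le_e c V n)).op)
    (ρ (c.e n) ((restrP Y (c.sh.obj n)).obj (Tp Y G)) (WV Y V (c.sh.obj n))
      (ρ (aP Y (c.sh.obj n)) G V g))
  refine h2.trans ?_
  have h3 := ConcreteCategory.congr_hom
    (ρ_naturality (c.e n) (DecNat.levelIso G (c.sh.obj n)).hom (WV Y V (c.sh.obj n)))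
    (ρ (aP Y (c.sh.obj n)) G V g)
  exact congrArg _ h3

instance isIso_lam (n : D'ᵒᵖ) : IsIso (lam c G n) :=
  DblPull.isIso_of_ρρ (aP Y' n) c.j (c.e n) (aP Y (c.sh.obj n)) (c.e_aug n) G (lam c G n)
    (lam_ρρ c G n)

/-- the comparison map is an isomorphism -/
instance isIso_κ : IsIso (κ c G) := by
  apply DecNat.isIso_of_levels
  intro n
  have h := isIso_lam c G n
  unfold lam at h
  haveI := h
  haveI h1 : IsIso ((restrP Y' n).map (κ c G) ≫
      (GPull.levelIso c.toPData n).hom.app (Tp Y G) ≫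
      (CohTop.pull (c.e n)).map (DecNat.levelIso G (c.sh.obj n)).hom) :=
    IsIso.of_isIso_comp_left (DecNat.levelIso (Gp c G) n).inv _
  haveI h2 : IsIso ((GPull.levelIso c.toPData n).hom.app (Tp Y G) ≫
      (CohTop.pull (c.e n)).map (DecNat.levelIso G (c.sh.obj n)).hom) := inferInstance
  exact IsIso.of_isIso_comp_right _ ((GPull.levelIso c.toPData n).hom.app (Tp Y G) ≫
      (CohTop.pull (c.e n)).map (DecNat.levelIso G (c.sh.obj n)).hom)

/-- compatibility of the canonical maps with base change -/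
lemma pull_uT_bc :
    (CohTop.pull c.j).map (uT Y G) ≫ bc c (Tp Y G) =
      uT Y' (Gp c G) ≫ (pushY Y').map (κ c G) := by
  have h1 : uT Y' (Gp c G) ≫ (pushY Y').map (κ c G) = φ c G := adjT_ofAdjT (φ c G)
  rw [h1]
  exact ((pbAdj c.j).homEquiv_naturality_left_symm (uT Y G) (cflat c (Tp Y G))).symm

end TpPull

end Groth.Agent.Lib.helper27
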