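import Mathlib
import Groth.Prelude.Def_FibDesc
import Groth.Agent.Lib.Helper27.BiAug
import Groth.Agent.Lib.Helper27.TpPull
import Groth.Agent.Lib.Helper27.IdPull
import Groth.Agent.Lib.Helper27.SimpEq

set_option autoImplicit false
set_option linter.unusedSectionVars false
set_option linter.unusedVariables false
set_option linter.style.haveILetI false
set_option backward.isDefEq.respectTransparency false
set_option backward.isDefEq.respectTransparency.types false

namespace Groth.Agent.Lib.helper27

open CategoryTheory Limits Opposite Pseudofunctor Pseudofunctor.CoGrothendieck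
open FibDesc TopologicalSpace

universe u

namespace RowKappa

open BigSec TotSide TAug RanV SqSec PullConst DecDef GPull DecNat GPullK PushSec ResTr BaseCh
  TpFun TpUniv BiAug

variable {D₁ D₂ : Type} [SmallCategory D₁] [SmallCategory D₂]
  (W : (WithInitial D₁ × WithInitial D₂)ᵒᵖ ⥤ TopCat.{u}) (m : D₁) (G : DShY (bA W))

lemma mapP_self' {D : Type} [SmallCategory D] (Y : (WithInitial D)ᵒᵖ ⥤ TopCat.{u}) (M : DShY Y)
    {X : ∫ᶜ (part (topAug Y))} (f : X ⟶ X) (hf : f.base = 𝟙 _)
    (x : M.obj.obj (op X)) : M.obj.map f.op x = x := by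
  have : f = 𝟙 X := tp_hom_ext Y _ _ hf
  rw [this, op_id, M.obj.map_id]
  rfl

/-- the level `m` of a sheaf on the total site of the first factor, as a sheaf on the base of the
row -/
noncomputable abbrev Hm : CohTop.Ab ((bRow W m).obj (bot D₂)) := (restrP (bA W) (op m)).obj G

/-- the pullback of `G` to the row -/
noncomputable abbrev Pr : DShY (bRow W m) := (Pull (cRow W m).toPData).obj G

/-- the components of the canonical map to the direct image -/
noncomputable def φCone (U : Opens ((bRow W m).obj (bot D₂))) :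
    Cone ((σV (bRow W m) U).op ⋙ (Pr W m G).obj) where
  pt := (Hm W m G).obj.obj (op U)
  π :=
    { app := fun s => γsec (cRow W m).toPData G s.unop U (WV (bRow W m) U s.unop) le_rfl
      naturality := by
        intro s s' θ
        ext x
        have hU : U ≤ (Opens.map (Ym (bA W) ((cRow W m).sh.map θ.unop))).obj U := by
          intro y hy
          have h2 : Ym (bA W) ((cRow W m).sh.map θ.unop) = 𝟙 _ := Ym_id (bA W) (op m)
          show (Ym (bA W) ((cRow W m).sh.map θ.unop)) y ∈ U
          rw [h2]
          exact hy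
        have h1 := γsec_natural (cRow W m).toPData G θ.unop U (WV (bRow W m) U s.unop) le_rfl U
          (WV (bRow W m) U s'.unop) le_rfl hU (WV_le (bRow W m) U θ.unop) x
        have h3 : G.obj.map (tpHom (bA W) ((cRow W m).sh.map θ.unop) hU).op x = x :=
          mapP_self' (bA W) G _ rfl x
        rw [h3] at h1
        exact h1.symm }

/-- the canonical map to the direct image, on sections -/
noncomputable def φsec (U : Opens ((bRow W m).obj (bot D₂))) :
    (Hm W m G).obj.obj (op U) ⟶ PS (bRow W m) (Pr W m G) U :=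
  (isLimitConeV (bRow W m) U (Pr W m G).obj).lift (φCone W m G U)

lemma πs_φsec (U : Opens ((bRow W m).obj (bot D₂))) (n : D₂ᵒᵖ) (x : (Hm W m G).obj.obj (op U)) :
    πs (bRow W m) (Pr W m G) U n (φsec W m G U x) =
      γsec (cRow W m).toPData G n U (WV (bRow W m) U n) le_rfl x :=
  ConcreteCategory.congr_hom
    ((isLimitConeV (bRow W m) U (Pr W m G).obj).fac (φCone W m G U) (op n)) x

lemma φsec_res (U U₁ : Opens ((bRow W m).obj (bot D₂))) (hle : U₁ ≤ U)
    (x : (Hm W m G).obj.obj (op U)) :
    φsec W m G U₁ ((Hm W m G).obj.map (homOfLE hle).op x) =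
      resPS (bRow W m) (Pr W m G) U hle (φsec W m G U x) := by
  apply PS_ext
  intro n
  rw [πs_res, πs_φsec, πs_φsec]
  have e1 := γsec_res (cRow W m) G n U U₁ (WV (bRow W m) U n)
    (WV (bRow W m) U₁ n) le_rfl le_rfl hle (WV_mono (bRow W m) U hle n) x
  have e2 : (Hm W m G).obj.map (homOfLE hle).op x =
      G.obj.map (vertP (bA W) ((cRow W m).sh.obj n) hle).op x :=
    ConcreteCategory.congr_hom (restrP_map_eq G (op m) hle _) x
  rw [e2, ← e1]
  exact (pT_id (cRow W m).toPData G n _ _ _ _ _).symm

/-- the canonical map to the direct image -/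
noncomputable def φ : toB (bRow W m) (Hm W m G) ⟶ (pushY (bRow W m)).obj (Pr W m G) where
  hom :=
    { app := fun U => φsec W m G U.unop
      naturality := by
        intro U U₁ i
        ext x
        let V : Opens ((bRow W m).obj (bot D₂)) := U.unop
        let V₁ : Opens ((bRow W m).obj (bot D₂)) := U₁.unop
        have hle : V₁ ≤ V := leOfHom i.unop
        have : i = (homOfLE hle).op := Subsingleton.elim _ _
        rw [this]
        exact φsec_res W m G V V₁ hle x }

lemma φ_app (U : Opens ((bRow W m).obj (bot D₂))) :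
    (φ W m G).hom.app (op U) = φsec W m G U := rfl

/-- the comparison map from the family of pullbacks of the level `m` -/
noncomputable def κr : Tp (bRow W m) (Hm W m G) ⟶ Pr W m G := ofAdjT (φ W m G)

lemma κr_ρ (U : Opens ((bRow W m).obj (bot D₂))) (n : D₂ᵒᵖ) (x : (Hm W m G).obj.obj (op U)) :
    (κr W m G).hom.app (op (tpOb (bRow W m) n (WV (bRow W m) U n)))
        (ρ (aP (bRow W m) n) (Hm W m G) U x) =
      γsec (cRow W m).toPData G n U (WV (bRow W m) U n) le_rfl x := by
  have h1 := adjT_π (κr W m G) U n x
  rw [κr, adjT_ofAdjT] at h1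
  rw [← κr] at h1
  have h2 := πs_φsec W m G U n x
  exact h1.symm.trans h2

/-- the level `n` comparison -/
noncomputable def lamr (n : D₂ᵒᵖ) : (CohTop.pull (aP (bRow W m) n)).obj (Hm W m G) ⟶
    (CohTop.pull (aP (bRow W m) n)).obj (Hm W m G) :=
  (DecNat.levelIso (Hm W m G) n).inv ≫ (restrP (bRow W m) n).map (κr W m G) ≫
    (GPull.levelIso (cRow W m).toPData n).hom.app G

lemma lamr_eq_id (n : D₂ᵒᵖ) : lamr W m G n = 𝟙 _ := by
  apply pull_hom_ext'
  intro V x
  have h1 := κr_ρ W m G V n x
  rw [γsec_apply] at h1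
  refine Eq.trans (b := (κr W m G).hom.app (op (tpOb (bRow W m) n (WV (bRow W m) V n)))
    (ρ (aP (bRow W m) n) (Hm W m G) V x)) rfl ?_
  refine h1.trans ?_
  have h2 : (POb (cRow W m).toPData G n).obj.map (homOfLE (le_refl (WV (bRow W m) V n))).op =
      𝟙 _ := CategoryTheory.Functor.map_id _ _
  exact ConcreteCategory.congr_hom h2 _

instance isIso_κr : IsIso (κr W m G) := by
  apply DecNat.isIso_of_levels
  intro n
  have h : IsIso (lamr W m G n) := by
    rw [lamr_eq_id]
    infer_instance
  unfold lamr at h
  haveI := h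
  haveI h1 : IsIso ((restrP (bRow W m) n).map (κr W m G) ≫
      (GPull.levelIso (cRow W m).toPData n).hom.app G) :=
    IsIso.of_isIso_comp_left (DecNat.levelIso (Hm W m G) n).inv _
  exact IsIso.of_isIso_comp_right _ ((GPull.levelIso (cRow W m).toPData n).hom.app G)

end RowKappa

end Groth.Agent.Lib.helper27
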