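import Mathlib
import Groth.Prelude.Def_FibDesc
import Groth.Agent.Lib.Helper27.RowKappa
import Groth.Agent.Lib.Helper27.LocCrit
import Groth.Agent.Lib.Helper27.ConvFF2
import Groth.Agent.Lib.Helper27.LevAcyc

set_option autoImplicit false
set_option linter.unusedSectionVars false
set_option linter.unusedVariables false
set_option linter.style.haveILetI false
set_option backward.isDefEq.respectTransparency false
set_option backward.isDefEq.respectTransparency.types false

namespace Groth.Agent.Lib.helper27

open CategoryTheory Limits Opposite Pseudofunctor Pseudofunctor.CoGrothendieck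
open FibDesc TopologicalSpace

universe u

namespace RowDesc

open BigSec TotSide TAug RanV SqSec PullConst DecDef GPull DecNat GPullK PushSec ResTr BaseCh
  TpFun TpUniv BiAug RowKappa

attribute [local instance] HasDerivedCategory.standard

section general

variable {D : Type} [SmallCategory D] (Y : (WithInitial D)ᵒᵖ ⥤ TopCat.{u})

/-- cohomological descent makes the canonical map to the direct image of the family of pullbacks
an isomorphism -/
lemma isIso_uT_of_descent (hdesc : IsCohDescentTop Y) (G' : CohTop.Ab (Y.obj (bot D))) :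
    IsIso (uT Y G') := by
  haveI : HasExt.{u + 1} (BSh Y) := HasExt.standard _
  haveI : HasExt.{u + 1} (DShY Y) := HasExt.standard _
  haveI hu : IsIso ((adj (topAug Y) (topAugTop Y) AddCommGrpCat.{u}).unit.app (toB Y G')) :=
    ConvFF.isIso_unit.{u + 1, u + 1} (adj (topAug Y) (topAugTop Y) AddCommGrpCat.{u})
      (LocCrit.ffPlus_of Y hdesc) _
  rw [← unit_pullIso Y G']
  infer_instance

/-- cohomological descent: the derived functors of the sections over the preimages of `V` of the
family of pullbacks of a sheaf which is acyclic on `V` vanish -/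
theorem isZero_of_descent_acyc (hY : IsCohDescentTop Y) (I : CohTop.Ab (Y.obj (bot D)))
    (V : Opens (Y.obj (bot D))) (q : ℕ)
    (hI : IsZero (((ΓV Y V).rightDerived (q + 1)).obj (toB Y I))) :
    IsZero (((KV Y V ⋙ (lim : (Dᵒᵖᵒᵖ ⥤ AddCommGrpCat.{u}) ⥤
      AddCommGrpCat.{u})).rightDerived (q + 1)).obj (Tp Y I)) := by
  haveI : HasExt.{u + 1} (BSh Y) := HasExt.standard _
  haveI : HasExt.{u + 1} (DShY Y) := HasExt.standard _
  have hacyc : CompAcyc.Acyc (push (topAug Y) (topAugTop Y) AddCommGrpCat.{u}) (Tp Y I) := by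
    intro i hi
    obtain ⟨p, rfl⟩ : ∃ p, i = p + 1 := ⟨i - 1, by omega⟩
    have := ConvFF.isZero_rightDerived_all.{u + 1, u + 1}
      (adj (topAug Y) (topAugTop Y) AddCommGrpCat.{u}) (LocCrit.ffPlus_of Y hY) p (toB Y I)
    exact IsZero.of_iso this
      (((push (topAug Y) (topAugTop Y) AddCommGrpCat.{u}).rightDerived (p + 1)).mapIso
        ((pullIso Y).app I).symm)
  haveI : (ΓV Y V).Additive := LemU.additive_sheafSections _ _
  haveI : PreservesFiniteLimits (ΓV Y V) := by
    show PreservesFiniteLimits (sheafToPresheaf _ _ ⋙ (evaluation _ _).obj (op V))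
    infer_instance
  obtain ⟨e1⟩ := CompAcyc.rightDerived_comp_iso (push (topAug Y) (topAugTop Y) AddCommGrpCat.{u})
    (ΓV Y V) (fun J hJ => by
      haveI := hJ
      exact FFThm.injective_U_obj (adj (topAug Y) (topAugTop Y) AddCommGrpCat.{u}) J)
    (Tp Y I) hacyc (q + 1)
  have e2 := (DescCrit.rdIso (pushΓIso Y V) (q + 1)).app (Tp Y I)
  refine IsZero.of_iso ?_ (e2.symm ≪≫ e1.symm)
  haveI := isIso_uT_of_descent Y hY I
  have e3 : (push (topAug Y) (topAugTop Y) AddCommGrpCat.{u}).obj (Tp Y I) ≅ toB Y I :=
    (asIso (uT Y I)).symm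
  exact IsZero.of_iso hI (((ΓV Y V).rightDerived (q + 1)).mapIso e3)

end general

variable {D₁ D₂ : Type} [SmallCategory D₁] [SmallCategory D₂]
  (W : (WithInitial D₁ × WithInitial D₂)ᵒᵖ ⥤ TopCat.{u}) (m : D₁) (G : DShY (bA W))
  (hR : IsCohDescentTop (bRow W m))

include hR in
lemma isIso_φ : IsIso (φ W m G) := by
  have h1 : adjT (κr W m G) = φ W m G := adjT_ofAdjT (φ W m G)
  rw [← h1]
  haveI := isIso_uT_of_descent (bRow W m) hR (Hm W m G)
  show IsIso (uT (bRow W m) (Hm W m G) ≫ (pushY (bRow W m)).map (κr W m G))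
  infer_instance

include hR in
/-- **Row descent on sections**: sections of the level `m` over `U` are the compatible families
of sections of the pullback along the row -/
theorem bijective_φsec (U : Opens ((bRow W m).obj (bot D₂))) :
    Function.Bijective (φsec W m G U) := by
  haveI := isIso_φ W m G hR
  haveI : IsIso (φ W m G).hom :=
    (sheafToPresheaf _ _).map_isIso (φ W m G)
  have : IsIso ((φ W m G).hom.app (op U)) := inferInstance
  exact (ConcreteCategory.isIso_iff_bijective _).1 this

include hR in
/-- **Row acyclicity**: the pullback along the row of a sheaf whose level `m` is flasque is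
acyclic for the sections over the preimages of `U` -/
theorem isZero_row (U : Opens ((bRow W m).obj (bot D₂)))
    [TopCat.Sheaf.IsFlasque (Hm W m G)] (q : ℕ) :
    IsZero (((KV (bRow W m) U ⋙ (lim : (D₂ᵒᵖᵒᵖ ⥤ AddCommGrpCat.{u}) ⥤
      AddCommGrpCat.{u})).rightDerived (q + 1)).obj (Pr W m G)) := by
  have h1 := isZero_of_descent_acyc (bRow W m) hR (Hm W m G) U q
    (LevAcyc.isZero_ΓW_flasque U (Hm W m G) q)
  exact IsZero.of_iso h1 (((KV (bRow W m) U ⋙ (lim : (D₂ᵒᵖᵒᵖ ⥤ AddCommGrpCat.{u}) ⥤
      AddCommGrpCat.{u})).rightDerived (q + 1)).mapIso (asIso (κr W m G)).symm)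

end RowDesc

end Groth.Agent.Lib.helper27
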