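import Mathlib
import Groth.Prelude.Def_FibDesc
import Groth.Agent.Lib.Helper27.TpPull
import Groth.Agent.Lib.Helper27.RowDesc
import Groth.Agent.Lib.Helper27.DeltaSeq

set_option autoImplicit false
set_option linter.unusedSectionVars false
set_option linter.unusedVariables false
set_option linter.style.haveILetI false
set_option backward.isDefEq.respectTransparency false
set_option backward.isDefEq.respectTransparency.types false

namespace Groth.Agent.Lib.helper27

open CategoryTheory Limits Opposite Pseudofunctor Pseudofunctor.CoGrothendieck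
open FibDesc TopologicalSpace

universe u

namespace Transfer

open BigSec TotSide TAug RanV SqSec PullConst DecDef GPull DecNat GPullK PushSec ResTr BaseCh
  TpFun TpUniv TpPull

attribute [local instance] HasDerivedCategory.standard

section defs

variable {D : Type} [SmallCategory D] (Y : (WithInitial D)ᵒᵖ ⥤ TopCat.{u})

/-- sections over the preimages of `V` -/
noncomputable abbrev TV (V : Opens (Y.obj (bot D))) : DShY Y ⥤ AddCommGrpCat.{u} :=
  KV Y V ⋙ (lim : (Dᵒᵖᵒᵖ ⥤ AddCommGrpCat.{u}) ⥤ AddCommGrpCat.{u})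

/-- the descent conditions for a sheaf `G` on the base over an open subset `V` -/
def Q (G : CohTop.Ab (Y.obj (bot D))) (V : Opens (Y.obj (bot D))) : Prop :=
  Function.Bijective ((uT Y G).hom.app (op V)) ∧
    ∀ q : ℕ, IsZero (((TV Y V).rightDerived (q + 1)).obj (Tp Y G))

/-- cohomological descent follows from the descent conditions for injective sheaves -/
theorem isCohDescentTop_of_Q
    (h : ∀ (I : CohTop.Ab (Y.obj (bot D))), Injective I → ∀ V : Opens (Y.obj (bot D)), Q Y I V) :
    IsCohDescentTop Y := by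
  apply DescCrit.isCohDescentTop_of
  · intro I hI V
    apply LocCrit.limP_of_isIso
    have hb := (h I hI V).1
    haveI : IsIso (uG Y I) := isIso_uG Y I
    haveI : IsIso (uG Y I).hom := (sheafToPresheaf _ _).map_isIso (uG Y I)
    have h1 : IsIso ((uG Y I).hom.app (op V)) := inferInstance
    have h2 : IsIso ((uT Y I).hom.app (op V)) := (ConcreteCategory.isIso_iff_bijective _).2 hb
    have e : (uT Y I).hom.app (op V) = (uG Y I).hom.app (op V) ≫
        ((inclAdj Y).unit.app (Taug Y I)).hom.app (B₀ Y V) := rfl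
    rw [e] at h2
    exact IsIso.of_isIso_comp_left ((uG Y I).hom.app (op V)) _
  · intro I hI V q hq
    obtain ⟨p, rfl⟩ : ∃ p, q = p + 1 := ⟨q - 1, by omega⟩
    exact (h I hI V).2 p

/-- cohomological descent gives the descent conditions for injective sheaves -/
theorem Q_of_descent (hY : IsCohDescentTop Y) (I : CohTop.Ab (Y.obj (bot D))) [Injective I]
    (V : Opens (Y.obj (bot D))) : Q Y I V := by
  refine ⟨?_, fun q => LocCrit.isZero_of_descent Y hY I V (q + 1) (Nat.succ_pos q)⟩
  haveI := RowDesc.isIso_uT_of_descent Y hY I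
  haveI : IsIso (uT Y I).hom := (sheafToPresheaf _ _).map_isIso (uT Y I)
  have : IsIso ((uT Y I).hom.app (op V)) := inferInstance
  exact (ConcreteCategory.isIso_iff_bijective _).1 this

end defs

variable {D D' : Type} [SmallCategory D] [SmallCategory D']
  {Y : (WithInitial D)ᵒᵖ ⥤ TopCat.{u}} {Y' : (WithInitial D')ᵒᵖ ⥤ TopCat.{u}}

/-- the hypotheses under which the descent conditions transfer along a morphism of augmented
diagrams -/
structure Good (c : AData Y Y') : Prop where
  bc : ∀ (M : DShY Y) (V : Opens (Y.obj (bot D))), Function.Bijective (cfl c M V)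
  acyc : ∀ (J : DShY Y), Injective J → ∀ (V : Opens (Y.obj (bot D))) (i : ℕ),
    IsZero (((TV Y' (jV c V)).rightDerived (i + 1)).obj ((Pull c.toPData).obj J))
  ρbij : ∀ (G : CohTop.Ab (Y.obj (bot D))) (V : Opens (Y.obj (bot D))),
    Function.Bijective (ρ c.j G V)

variable (c : AData Y Y') (hc : Good c) (V : Opens (Y.obj (bot D)))

include hc in
/-- the base change isomorphism on sections, as a natural isomorphism -/
noncomputable def cflIso : pushY Y ⋙ ΓV Y V ≅
    Pull c.toPData ⋙ pushY Y' ⋙ ΓV Y' (jV c V) :=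
  NatIso.ofComponents
    (fun M => by
      haveI : IsIso (cfl c M V) := (ConcreteCategory.isIso_iff_bijective _).2 (hc.bc M V)
      exact asIso (cfl c M V))
    (by
      intro M M' φ
      ext x
      exact cfl_natural c V φ x)

include hc in
/-- the sections over the preimages, before and after pulling back -/
noncomputable def T0iso : TV Y V ≅ Pull c.toPData ⋙ TV Y' (jV c V) :=
  (pushΓIso Y V).symm ≪≫ cflIso c hc V ≪≫
    Functor.isoWhiskerLeft (Pull c.toPData) (pushΓIso Y' (jV c V))

include hc in
/-- the derived functors of the sections over the preimages, before and after pulling back -/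
theorem derived_iso (M : DShY Y) (q : ℕ) :
    Nonempty (((TV Y V).rightDerived q).obj M ≅
      ((TV Y' (jV c V)).rightDerived q).obj ((Pull c.toPData).obj M)) := by
  have hT : DeltaSeq.IsExSeq (fun i => (TV Y V).rightDerived i) :=
    DeltaSeq.isExSeq_rightDerived (TV Y V)
  have hT' : DeltaSeq.IsExSeq (fun i => Pull c.toPData ⋙ (TV Y' (jV c V)).rightDerived i) :=
    (DeltaSeq.isExSeq_rightDerived (TV Y' (jV c V))).precomp (Pull c.toPData)
      (fun J hJ i => hc.acyc J hJ V i)
  let e : (TV Y V).rightDerived 0 ≅ Pull c.toPData ⋙ (TV Y' (jV c V)).rightDerived 0 :=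
    (TV Y V).rightDerivedZeroIsoSelf ≪≫ T0iso c hc V ≪≫
      (Functor.isoWhiskerLeft (Pull c.toPData) (TV Y' (jV c V)).rightDerivedZeroIsoSelf).symm
  exact DeltaSeq.iso hT hT' e q M

/-- the key compatibility of the canonical maps -/
lemma cfl_uT (G : CohTop.Ab (Y.obj (bot D))) (g : G.obj.obj (op V)) :
    cfl c (Tp Y G) V ((uT Y G).hom.app (op V) g) =
      ((pushY Y').map (κ c G)).hom.app (op (jV c V))
        ((uT Y' (Gp c G)).hom.app (op (jV c V)) (ρ c.j G V g)) := by
  have h := pull_uT_bc c G
  have h1 := congrArg (fun m => m.hom.app (op (jV c V))) h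
  have h2 := ConcreteCategory.congr_hom h1 (ρ c.j G V g)
  refine Eq.trans ?_ h2
  have h3 := ConcreteCategory.congr_hom (ρ_naturality c.j (uT Y G) V) g
  have h4 := bc_ρ c (Tp Y G) V ((uT Y G).hom.app (op V) g)
  refine h4.symm.trans ?_
  exact (congrArg ((bc c (Tp Y G)).hom.app (op (jV c V))) h3).symm

include hc in
/-- **Transfer** of the descent conditions -/
theorem Q_iff (G : CohTop.Ab (Y.obj (bot D))) : Q Y G V ↔ Q Y' (Gp c G) (jV c V) := by
  haveI := isIso_κ c G
  have hκ : Function.Bijective (((pushY Y').map (κ c G)).hom.app (op (jV c V))) := by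
    haveI : IsIso ((pushY Y').map (κ c G)).hom :=
      (sheafToPresheaf _ _).map_isIso ((pushY Y').map (κ c G))
    have : IsIso (((pushY Y').map (κ c G)).hom.app (op (jV c V))) := inferInstance
    exact (ConcreteCategory.isIso_iff_bijective _).1 this
  have hcomp : (cfl c (Tp Y G) V) ∘ ((uT Y G).hom.app (op V)) =
      (((pushY Y').map (κ c G)).hom.app (op (jV c V))) ∘
        ((uT Y' (Gp c G)).hom.app (op (jV c V))) ∘ (ρ c.j G V) := by
    funext g
    exact cfl_uT c V G g
  have hz : ∀ q : ℕ, (IsZero (((TV Y V).rightDerived (q + 1)).obj (Tp Y G)) ↔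
      IsZero (((TV Y' (jV c V)).rightDerived (q + 1)).obj (Tp Y' (Gp c G)))) := by
    intro q
    obtain ⟨e1⟩ := derived_iso c hc V (Tp Y G) (q + 1)
    have e2 := ((TV Y' (jV c V)).rightDerived (q + 1)).mapIso (asIso (κ c G))
    exact ⟨fun h => IsZero.of_iso h (e2 ≪≫ e1.symm), fun h => IsZero.of_iso h (e1 ≪≫ e2.symm)⟩
  constructor
  · rintro ⟨hb, hv⟩
    refine ⟨?_, fun q => (hz q).1 (hv q)⟩
    have h1 : Function.Bijective ((cfl c (Tp Y G) V) ∘ ((uT Y G).hom.app (op V))) :=
      (hc.bc (Tp Y G) V).comp hb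
    rw [hcomp] at h1
    have h2 : Function.Bijective (((uT Y' (Gp c G)).hom.app (op (jV c V))) ∘ (ρ c.j G V)) :=
      (Function.Bijective.of_comp_iff' hκ _).1 h1
    exact (Function.Bijective.of_comp_iff _ (hc.ρbij G V)).1 h2
  · rintro ⟨hb, hv⟩
    refine ⟨?_, fun q => (hz q).2 (hv q)⟩
    have h1 : Function.Bijective ((((pushY Y').map (κ c G)).hom.app (op (jV c V))) ∘
        ((uT Y' (Gp c G)).hom.app (op (jV c V))) ∘ (ρ c.j G V)) :=
      hκ.comp (hb.comp (hc.ρbij G V))
    rw [← hcomp] at h1
    exact (Function.Bijective.of_comp_iff' (hc.bc (Tp Y G) V) _).1 h1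

end Transfer

end Groth.Agent.Lib.helper27
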