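import Mathlib
import Groth.Prelude.Def_FibDesc
import Groth.Agent.Lib.Helper27.Transfer
import Groth.Agent.Lib.Helper27.IdPull
import Groth.Agent.Lib.Helper27.LevAcyc
import Groth.Agent.Lib.Helper27.LanKV

set_option autoImplicit false
set_option linter.unusedSectionVars false
set_option linter.unusedVariables false
set_option linter.style.haveILetI false
set_option backward.isDefEq.respectTransparency false
set_option backward.isDefEq.respectTransparency.types false

namespace Groth.Agent.Lib.helper27

open CategoryTheory Limits Opposite Pseudofunctor Pseudofunctor.CoGrothendieck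
open FibDesc TopologicalSpace

universe u

namespace EquivGood

open BigSec TotSide TAug RanV SqSec PullConst DecDef GPull DecNat GPullK PushSec ResTr BaseCh
  TpFun TpUniv TpPull IdPull

attribute [local instance] HasDerivedCategory.standard

variable {D D' : Type} [SmallCategory D] [SmallCategory D']
  {Y : (WithInitial D)ᵒᵖ ⥤ TopCat.{u}} {Y' : (WithInitial D')ᵒᵖ ⥤ TopCat.{u}}
  (c : AData Y Y') (hc : IdLike c.toPData) [c.sh.IsEquivalence]

include hc in
/-- base change for a reindexing along an equivalence with identity-like levels -/
theorem cfl_bijective (M : DShY Y) (V : Opens (Y.obj (bot D))) :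
    Function.Bijective (cfl c M V) := by
  haveI : c.sh.op.IsEquivalence := inferInstance
  haveI : c.sh.op.Initial := inferInstance
  have h0 : IsLimit ((coneV Y V M.obj).whisker c.sh.op) :=
    (Functor.Initial.isLimitWhiskerEquiv c.sh.op _).symm (isLimitConeV Y V M.obj)
  haveI := isIso_γKapp c V hc M
  let γ : c.sh.op ⋙ (KV Y V).obj M ≅ (KV Y' (jV c V)).obj ((Pull c.toPData).obj M) :=
    asIso (γKapp c V M)
  have h1 : IsLimit ((Cone.postcompose γ.hom).obj ((coneV Y V M.obj).whisker c.sh.op)) :=
    (IsLimit.postcomposeHomEquiv γ _).symm h0
  have h2 : IsLimit (cflCone c M V) :=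
    h1.ofIsoLimit (Cone.ext (Iso.refl _) (by
      intro s
      exact (Category.id_comp _).symm))
  have e : cfl c M V = (IsLimit.conePointUniqueUpToIso h2
      (isLimitConeV Y' (jV c V) ((Pull c.toPData).obj M).obj)).hom := rfl
  rw [e]
  exact (ConcreteCategory.isIso_iff_bijective _).1 inferInstance

include hc in
/-- the pullback of an injective sheaf is acyclic for the sections over the preimages -/
theorem acyc (J : DShY Y) [Injective J] (V : Opens (Y.obj (bot D))) (i : ℕ) :
    IsZero (((Transfer.TV Y' (jV c V)).rightDerived (i + 1)).obj ((Pull c.toPData).obj J)) := by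
  apply LevAcyc.isZero_of_levCl Y' (jV c V)
  refine ⟨fun k => ?_, fun p hp => ?_⟩
  · exact IdPull.isFlasque_level hc J k
  · haveI := LanKV.injective_KV Y V J
    haveI : c.sh.op.IsEquivalence := inferInstance
    let E := (c.sh.op.asEquivalence.symm.congrLeft (E := AddCommGrpCat.{u}))
    haveI h1 : Injective (E.functor.obj ((KV Y V).obj J)) :=
      (E.map_injective_iff _).2 inferInstance
    have e2 := (KVPullIso c V hc).app J
    haveI : Injective ((KV Y' (jV c V)).obj ((Pull c.toPData).obj J)) :=
      Injective.of_iso e2 h1
    obtain ⟨p', rfl⟩ : ∃ p', p = p' + 1 := ⟨p - 1, by omega⟩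
    exact Functor.isZero_rightDerived_obj_injective_succ _ p' _

include hc in
/-- a reindexing along an equivalence with identity-like levels and identity-like base map is
good for the transfer of descent conditions -/
theorem good (hj : ∀ (G : CohTop.Ab (Y.obj (bot D))) (V : Opens (Y.obj (bot D))),
    Function.Bijective (ρ c.j G V)) : Transfer.Good c where
  bc := fun M V => cfl_bijective c hc M V
  acyc := fun J hJ V i => by
    haveI := hJ
    exact acyc c hc J V i
  ρbij := hj

end EquivGood

end Groth.Agent.Lib.helper27
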