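import Mathlib
import Groth.Agent.Lib.Helper27.DeltaSeq
import Groth.Agent.Lib.Helper27.DeltaFPre
import Groth.Agent.Lib.Helper27.DescCrit

set_option autoImplicit false
set_option linter.unusedSectionVars false
set_option linter.unusedVariables false
set_option linter.style.haveILetI false

namespace Groth.Agent.Lib.helper27

open CategoryTheory Limits

universe u v₁ u₁ v₂ u₂ v₃ u₃

namespace EvalDer

open DeltaSeq

variable {𝒜 : Type u₁} [Category.{v₁} 𝒜] [Abelian 𝒜] [EnoughInjectives 𝒜]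
  {C : Type u₂} [Category.{v₂} C]
  {ℬ : Type u₃} [Category.{v₃} ℬ] [Abelian ℬ] [HasInjectiveResolutions ℬ]
  (K : 𝒜 ⥤ (C ⥤ AddCommGrpCat.{u})) [K.Additive] [PreservesFiniteLimits K] (k : C)
  (E : 𝒜 ⥤ ℬ) [E.Additive] [PreservesFiniteLimits E] [PreservesFiniteColimits E]
  (Gm : ℬ ⥤ AddCommGrpCat.{u}) [Gm.Additive] [PreservesFiniteLimits Gm]
  (e : K ⋙ (evaluation C AddCommGrpCat.{u}).obj k ≅ E ⋙ Gm)
  (hE : ∀ I : 𝒜, Injective I → ∀ q : ℕ, IsZero ((Gm.rightDerived (q + 1)).obj (E.obj I)))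

include e hE in
/-- the values of the derived functors of a functor to a functor category, when the evaluation
factors through an exact functor sending injectives to acyclics -/
theorem evalDer (q : ℕ) (N : 𝒜) :
    Nonempty (((K.rightDerived q).obj N).obj k ≅ (Gm.rightDerived q).obj (E.obj N)) := by
  let ev := (evaluation C AddCommGrpCat.{u}).obj k
  have hT : IsExSeq (fun i => K.rightDerived i ⋙ ev) := (isExSeq_rightDerived K).comp ev
  let e0 : K.rightDerived 0 ⋙ ev ≅ K ⋙ ev := Functor.isoWhiskerRight K.rightDerivedZeroIsoSelf ev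
  obtain ⟨a⟩ := rightDerived_iso (K ⋙ ev) hT e0 q N
  let b := (DescCrit.rdIso e q).app N
  obtain ⟨c⟩ := DeltaFPre.rightDerived_comp_exact_iso E Gm hE q
  exact ⟨a.symm ≪≫ b ≪≫ c.app N⟩

end EvalDer

end Groth.Agent.Lib.helper27
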