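import Mathlib
import Groth.Agent.Lib.Helper27.FunInj
import Groth.Agent.Lib.Helper27.LevAcyc

set_option autoImplicit false
set_option linter.unusedSectionVars false
set_option linter.unusedVariables false
set_option linter.style.haveILetI false
set_option backward.isDefEq.respectTransparency false

namespace Groth.Agent.Lib.helper27

open CategoryTheory Limits

universe u

namespace Fubini

variable (I₁ I₂ : Type) [SmallCategory I₁] [SmallCategory I₂]

/-- the partial limit along the second factor -/
noncomputable def plim : (I₁ × I₂ ⥤ AddCommGrpCat.{u}) ⥤ (I₁ ⥤ AddCommGrpCat.{u}) :=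
  Functor.curry ⋙
    (Functor.whiskeringRight I₁ (I₂ ⥤ AddCommGrpCat.{u}) AddCommGrpCat.{u}).obj lim

/-- the left adjoint of the partial limit -/
noncomputable def pconst : (I₁ ⥤ AddCommGrpCat.{u}) ⥤ (I₁ × I₂ ⥤ AddCommGrpCat.{u}) :=
  (Functor.whiskeringRight I₁ AddCommGrpCat.{u} (I₂ ⥤ AddCommGrpCat.{u})).obj (Functor.const I₂) ⋙
    Functor.uncurry

noncomputable def plimAdj : pconst.{u} I₁ I₂ ⊣ plim.{u} I₁ I₂ :=
  (Adjunction.whiskerRight I₁ (constLimAdj (J := I₂) (C := AddCommGrpCat.{u}))).comp
    (Functor.currying (C := I₁) (D := I₂) (E := AddCommGrpCat.{u})).toAdjunction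

instance : (pconst.{u} I₁ I₂).PreservesMonomorphisms where
  preserves {F G} f hf := by
    haveI : ∀ x, Mono (((pconst.{u} I₁ I₂).map f).app x) := by
      intro x
      have : Mono (f.app x.1) := inferInstance
      exact this
    exact NatTrans.mono_of_mono_app _

/-- the partial limit preserves injective objects -/
theorem injective_plim (F : I₁ × I₂ ⥤ AddCommGrpCat.{u}) [Injective F] :
    Injective ((plim.{u} I₁ I₂).obj F) :=
  Injective.injective_of_adjoint (plimAdj.{u} I₁ I₂) F

instance : (plim.{u} I₁ I₂).IsRightAdjoint := (plimAdj.{u} I₁ I₂).isRightAdjoint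

instance : PreservesFiniteLimits (plim.{u} I₁ I₂) := by
  have : PreservesLimitsOfSize.{0, 0} (plim.{u} I₁ I₂) :=
    (plimAdj.{u} I₁ I₂).rightAdjoint_preservesLimits
  exact PreservesLimitsOfSize.preservesFiniteLimits _

instance : (plim.{u} I₁ I₂).Additive := Functor.additive_of_preserves_binary_products _

/-- the left adjoint of the iterated limit is the constant functor -/
noncomputable def constIso : Functor.const I₁ ⋙ pconst.{u} I₁ I₂ ≅
    (Functor.const (I₁ × I₂) : AddCommGrpCat.{u} ⥤ _) :=
  NatIso.ofComponents (fun a => NatIso.ofComponents (fun x => Iso.refl _)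
    (by
      intro x y f
      simp [pconst]))
    (by
      intro a b f
      ext x
      simp [pconst])

/-- **Fubini**: the limit over a product is the iterated limit, naturally -/
noncomputable def fubiniIso : plim.{u} I₁ I₂ ⋙ lim ≅
    (lim : (I₁ × I₂ ⥤ AddCommGrpCat.{u}) ⥤ AddCommGrpCat.{u}) :=
  Adjunction.rightAdjointUniq
    (((constLimAdj (J := I₁) (C := AddCommGrpCat.{u})).comp (plimAdj.{u} I₁ I₂)).ofNatIsoLeft
      (constIso.{u} I₁ I₂))
    constLimAdj

lemma mono_sigmaMap {𝒜 : Type*} [Category 𝒜] {β : Type} [HasColimitsOfShape (Discrete β) 𝒜]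
    [HasFiniteLimits 𝒜] [HasExactColimitsOfShape (Discrete β) 𝒜] {f g : β → 𝒜} (p : ∀ b, f b ⟶ g b)
    [∀ b, Mono (p b)] : Mono (Limits.Sigma.map p) := by
  haveI : ∀ b, Mono ((Discrete.natTrans (fun b => p b.as) :
      Discrete.functor f ⟶ Discrete.functor g).app b) := fun b => inferInstanceAs (Mono (p b.as))
  haveI : Mono (Discrete.natTrans (fun b => p b.as) :
      Discrete.functor f ⟶ Discrete.functor g) := NatTrans.mono_of_mono_app _
  exact (inferInstance : Mono ((colim : (Discrete β ⥤ 𝒜) ⥤ 𝒜).map
    (Discrete.natTrans (fun b => p b.as) : Discrete.functor f ⟶ Discrete.functor g)))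

/-- evaluation of an injective functor on a product at an object of the first factor -/
theorem injective_row (F : I₁ × I₂ ⥤ AddCommGrpCat.{u}) [Injective F] (a : I₁) :
    Injective ((Functor.curry.obj F).obj a) := by
  haveI : Injective (Functor.curry.obj F) :=
    Injective.injective_of_adjoint
      (Functor.currying (C := I₁) (D := I₂) (E := AddCommGrpCat.{u})).toAdjunction F
  haveI : (evaluationLeftAdjoint (I₂ ⥤ AddCommGrpCat.{u}) a).PreservesMonomorphisms := by
    constructor
    intro G G' f hf
    haveI : ∀ b, Mono (((evaluationLeftAdjoint (I₂ ⥤ AddCommGrpCat.{u}) a).map f).app b) := by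
      intro b
      have h1 : ((evaluationLeftAdjoint (I₂ ⥤ AddCommGrpCat.{u}) a).map f).app b =
          Limits.Sigma.map (fun _ : a ⟶ b => f) := by
        apply Limits.Sigma.hom_ext
        intro h
        have e1 : Sigma.ι (fun _ : a ⟶ b => G) h ≫
            ((evaluationLeftAdjoint (I₂ ⥤ AddCommGrpCat.{u}) a).map f).app b =
            f ≫ Sigma.ι (fun _ : a ⟶ b => G') h :=
          Limits.Sigma.ι_desc _ _
        have e2 : Sigma.ι (fun _ : a ⟶ b => G) h ≫ Limits.Sigma.map (fun _ : a ⟶ b => f) =
            f ≫ Sigma.ι (fun _ : a ⟶ b => G') h := Limits.Sigma.ι_map _ _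
        exact e1.trans e2.symm
      rw [h1]
      exact mono_sigmaMap _
    exact NatTrans.mono_of_mono_app _
  exact Injective.injective_of_adjoint
    (evaluationAdjunctionRight (I₂ ⥤ AddCommGrpCat.{u}) a) (Functor.curry.obj F)

end Fubini

end Groth.Agent.Lib.helper27
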