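import Mathlib
import Groth.Prelude.Def_FibDesc
import Groth.Agent.Lib.Helper27.RowDesc

set_option autoImplicit false
set_option linter.unusedSectionVars false
set_option linter.unusedVariables false
set_option linter.style.haveILetI false
set_option backward.isDefEq.respectTransparency false
set_option backward.isDefEq.respectTransparency.types false

namespace Groth.Agent.Lib.helper27

open CategoryTheory Limits Opposite Pseudofunctor Pseudofunctor.CoGrothendieck
open FibDesc TopologicalSpace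

universe u

namespace ProjBC

open BigSec TotSide TAug RanV SqSec PullConst DecDef GPull DecNat GPullK PushSec ResTr BaseCh
  TpFun TpUniv BiAug RowKappa RowDesc

variable {D₁ D₂ : Type} [SmallCategory D₁] [SmallCategory D₂]
  (W : (WithInitial D₁ × WithInitial D₂)ᵒᵖ ⥤ TopCat.{u}) (G : DShY (bA W))
  (V : Opens ((bA W).obj (bot D₁)))

/-- the preimage of `V` in the level `m` -/
abbrev Um (m : D₁) : Opens ((bRow W m).obj (bot D₂)) := WV (bA W) V (op m)

/-- the pullback of `G` to the total diagram -/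
noncomputable abbrev NN : DShY (bZ W) := (Pull (cA W).toPData).obj G

lemma wz_le (m : D₁) (k : D₂ᵒᵖ) :
    WV (bZ W) (jV (cA W) V) ((iRow W m).sh.obj k) ≤ WV (bRow W m) (Um W V m) k :=
  WV_le_e (cA W) V ((iRow W m).sh.obj k)

lemma le_wz (m : D₁) (k : D₂ᵒᵖ) :
    WV (bRow W m) (Um W V m) k ≤ WV (bZ W) (jV (cA W) V) ((iRow W m).sh.obj k) :=
  IdPull.e_WV_le (cA W) V ((iRow W m).sh.obj k)

/-- restriction between equal open subsets is injective -/
lemma vert_injective {D : Type} [SmallCategory D] (Y : (WithInitial D)ᵒᵖ ⥤ TopCat.{u})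
    (M : DShY Y) (s : Dᵒᵖ) {W₁ W₂ : Opens (Xs Y s)} (h : W₁ ≤ W₂) (h' : W₂ ≤ W₁) :
    Function.Injective (M.obj.map (vertP Y s h).op) := by
  intro a b hab
  have e1 := mapP_comp_apply Y M (vertP Y s h') (vertP Y s h) (vertP Y s le_rfl)
    (Category.comp_id _) a
  have e2 := mapP_comp_apply Y M (vertP Y s h') (vertP Y s h) (vertP Y s le_rfl)
    (Category.comp_id _) b
  have e3 := mapP_self' Y M (vertP Y s (le_refl W₂)) rfl a
  have e4 := mapP_self' Y M (vertP Y s (le_refl W₂)) rfl b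
  rw [← e3, ← e4, ← e1, ← e2, hab]

/-- pulling back sections to a smaller open subset -/
lemma γsec_mono {D D' : Type} [SmallCategory D] [SmallCategory D']
    {Y : (WithInitial D)ᵒᵖ ⥤ TopCat.{u}} {Y' : (WithInitial D')ᵒᵖ ⥤ TopCat.{u}} (c : PData Y Y')
    (M : DShY Y) (n : D'ᵒᵖ) (U : Opens (Xs Y (c.sh.obj n))) (W' W₁' : Opens (Xs Y' n))
    (h : W' ≤ (Opens.map (c.e n)).obj U) (hW : W₁' ≤ W')
    (x : M.obj.obj (op (tpOb Y (c.sh.obj n) U))) :
    γsec c M n U W₁' (hW.trans h) x =
      ((Pull c).obj M).obj.map (vertP Y' n hW).op (γsec c M n U W' h x) := by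
  rw [γsec_apply, γsec_apply]
  have e1 := map_map_apply (POb c M n).obj h hW (hW.trans h)
    (ρ (c.e n) ((restrP Y (c.sh.obj n)).obj M) U x)
  refine e1.symm.trans ?_
  exact (pT_id c M n _ _ _ hW _).symm

variable (hrow : ∀ m, IsCohDescentTop (bRow W m))

include hrow in
theorem cfl_injective : Function.Injective (cfl (cA W) G V) := by
  intro x y hxy
  apply PS_ext
  intro s
  apply (bijective_φsec W s.unop G (hrow s.unop) (Um W V s.unop)).1
  apply PS_ext
  intro k
  rw [πs_φsec, πs_φsec]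
  have h1 := congrArg (πs (bZ W) (NN W G) (jV (cA W) V) ((iRow W s.unop).sh.obj k)) hxy
  rw [πs_cfl, πs_cfl] at h1
  have a1 := γsec_mono (cA W).toPData G ((iRow W s.unop).sh.obj k) (Um W V s.unop) _ _
    (wz_le W V s.unop k) (le_wz W V s.unop k) (πs (bA W) G V s x)
  have a2 := γsec_mono (cA W).toPData G ((iRow W s.unop).sh.obj k) (Um W V s.unop) _ _
    (wz_le W V s.unop k) (le_wz W V s.unop k) (πs (bA W) G V s y)
  exact a1.trans ((congrArg _ h1).trans a2.symm)

/-- the column morphisms of the index category -/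
abbrev colHom {s s' : D₁ᵒᵖ} (θ : s' ⟶ s) (k : D₂ᵒᵖ) :
    (op (s'.unop, k.unop) : (D₁ × D₂)ᵒᵖ) ⟶ op (s.unop, k.unop) :=
  Quiver.Hom.op ((θ.unop, 𝟙 k.unop) : (s.unop, k.unop) ⟶ (s'.unop, k.unop))

include hrow in
theorem cfl_surjective : Function.Surjective (cfl (cA W) G V) := by
  intro y
  -- the row families
  let t : ∀ (m : D₁) (k : D₂ᵒᵖ),
      (Pr W m G).obj.obj (op (tpOb (bRow W m) k (WV (bRow W m) (Um W V m) k))) :=
    fun m k => (NN W G).obj.map (vertP (bZ W) ((iRow W m).sh.obj k) (le_wz W V m k)).op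
      (πs (bZ W) (NN W G) (jV (cA W) V) ((iRow W m).sh.obj k) y)
  have ht : ∀ (m : D₁) {k k' : D₂ᵒᵖ} (θ : k' ⟶ k),
      (Pr W m G).obj.map (tpHom (bRow W m) θ (WV_le (bRow W m) (Um W V m) θ)).op (t m k) =
        t m k' := by
    intro m k k' θ
    have hle : WV (bRow W m) (Um W V m) k' ≤
        (Opens.map (Ym (bZ W) ((iRow W m).sh.map θ))).obj
          (WV (bZ W) (jV (cA W) V) ((iRow W m).sh.obj k)) :=
      (le_wz W V m k').trans (WV_le (bZ W) (jV (cA W) V) ((iRow W m).sh.map θ))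
    have e1 := mapP_comp_apply (bZ W) (NN W G)
      (tpHom (bZ W) ((iRow W m).sh.map θ) (WV_le (bRow W m) (Um W V m) θ))
      (vertP (bZ W) ((iRow W m).sh.obj k) (le_wz W V m k))
      (tpHom (bZ W) ((iRow W m).sh.map θ) hle) (Category.comp_id _)
      (πs (bZ W) (NN W G) (jV (cA W) V) ((iRow W m).sh.obj k) y)
    have e2 := mapP_comp_apply (bZ W) (NN W G)
      (vertP (bZ W) ((iRow W m).sh.obj k') (le_wz W V m k'))
      (tpHom (bZ W) ((iRow W m).sh.map θ) (WV_le (bZ W) (jV (cA W) V) ((iRow W m).sh.map θ)))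
      (tpHom (bZ W) ((iRow W m).sh.map θ) hle) (Category.id_comp _)
      (πs (bZ W) (NN W G) (jV (cA W) V) ((iRow W m).sh.obj k) y)
    have e3 := πs_compat (bZ W) (NN W G) (jV (cA W) V) ((iRow W m).sh.map θ) y
    rw [e3] at e2
    exact e1.trans e2.symm
  -- the sections of the levels
  have hg : ∀ m : D₁, ∃ g : (Hm W m G).obj.obj (op (Um W V m)), ∀ k : D₂ᵒᵖ,
      γsec (cRow W m).toPData G k (Um W V m) (WV (bRow W m) (Um W V m) k) le_rfl g = t m k := by
    intro m
    obtain ⟨ym, hym⟩ := PS_mk (bRow W m) (Pr W m G) (Um W V m) (t m) (ht m)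
    obtain ⟨g, hg⟩ := (bijective_φsec W m G (hrow m) (Um W V m)).2 ym
    refine ⟨g, fun k => ?_⟩
    rw [← πs_φsec, hg, hym]
  choose g hg using hg
  -- compatibility of the sections of the levels
  have hcomp : ∀ {s s' : D₁ᵒᵖ} (θ : s' ⟶ s),
      G.obj.map (tpHom (bA W) θ (WV_le (bA W) V θ)).op (g s.unop) = g s'.unop := by
    intro s s' θ
    apply (bijective_φsec W s'.unop G (hrow s'.unop) (Um W V s'.unop)).1
    apply PS_ext
    intro k
    rw [πs_φsec, πs_φsec, hg s'.unop k]
    have hW : WV (bRow W s'.unop) (Um W V s'.unop) k ≤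
        (Opens.map (Ym (bZ W) (colHom θ k))).obj (WV (bRow W s.unop) (Um W V s.unop) k) :=
      (le_wz W V s'.unop k).trans ((WV_le (bZ W) (jV (cA W) V) (colHom θ k)).trans
        ((Opens.map (Ym (bZ W) (colHom θ k))).monotone (wz_le W V s.unop k)))
    have h1 := γsec_natural (cA W).toPData G (colHom θ k) (Um W V s.unop)
      (WV (bRow W s.unop) (Um W V s.unop) k) le_rfl (Um W V s'.unop)
      (WV (bRow W s'.unop) (Um W V s'.unop) k) le_rfl (WV_le (bA W) V θ) hW (g s.unop)
    refine h1.symm.trans ?_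
    have h2 : γsec (cA W).toPData G ((iRow W s.unop).sh.obj k) (Um W V s.unop)
        (WV (bRow W s.unop) (Um W V s.unop) k) le_rfl (g s.unop) = t s.unop k := hg s.unop k
    refine (congrArg _ h2).trans ?_
    have hle : WV (bRow W s'.unop) (Um W V s'.unop) k ≤
        (Opens.map (Ym (bZ W) (colHom θ k))).obj
          (WV (bZ W) (jV (cA W) V) ((iRow W s.unop).sh.obj k)) :=
      (le_wz W V s'.unop k).trans (WV_le (bZ W) (jV (cA W) V) (colHom θ k))
    have e1 := mapP_comp_apply (bZ W) (NN W G) (tpHom (bZ W) (colHom θ k) hW)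
      (vertP (bZ W) ((iRow W s.unop).sh.obj k) (le_wz W V s.unop k))
      (tpHom (bZ W) (colHom θ k) hle) (Category.comp_id _)
      (πs (bZ W) (NN W G) (jV (cA W) V) ((iRow W s.unop).sh.obj k) y)
    have e2 := mapP_comp_apply (bZ W) (NN W G)
      (vertP (bZ W) ((iRow W s'.unop).sh.obj k) (le_wz W V s'.unop k))
      (tpHom (bZ W) (colHom θ k) (WV_le (bZ W) (jV (cA W) V) (colHom θ k)))
      (tpHom (bZ W) (colHom θ k) hle) (Category.id_comp _)
      (πs (bZ W) (NN W G) (jV (cA W) V) ((iRow W s.unop).sh.obj k) y)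
    have e3 := πs_compat (bZ W) (NN W G) (jV (cA W) V) (colHom θ k) y
    have e2' := (congrArg (fun z => (NN W G).obj.map
      (vertP (bZ W) ((iRow W s'.unop).sh.obj k) (le_wz W V s'.unop k)).op z) e3).symm.trans e2
    exact e1.trans e2'.symm
  obtain ⟨x, hx⟩ := PS_mk (bA W) G V (fun s => g s.unop) hcomp
  refine ⟨x, ?_⟩
  apply PS_ext
  intro n
  rw [πs_cfl]
  apply vert_injective (bZ W) (NN W G) n (le_wz W V n.unop.1 (op n.unop.2))
    (wz_le W V n.unop.1 (op n.unop.2))
  have a1 := γsec_mono (cA W).toPData G n (Um W V n.unop.1) _ _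
    (wz_le W V n.unop.1 (op n.unop.2)) (le_wz W V n.unop.1 (op n.unop.2))
    (πs (bA W) G V ((cA W).sh.obj n) x)
  refine a1.symm.trans ?_
  rw [hx ((cA W).sh.obj n)]
  exact hg n.unop.1 (op n.unop.2)

include hrow in
/-- **Base change for the projection to the first factor** (degree zero): sections of the direct
image of a sheaf on the first factor agree with those of its pullback to the total diagram -/
theorem cfl_bijective : Function.Bijective (cfl (cA W) G V) :=
  ⟨cfl_injective W G V hrow, cfl_surjective W G V hrow⟩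

end ProjBC

end Groth.Agent.Lib.helper27
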