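import Mathlib
import Groth.Prelude.Def_FibDesc
import Groth.Agent.Lib.Helper27.ProjBC
import Groth.Agent.Lib.Helper27.Fubini
import Groth.Agent.Lib.Helper27.EvalDer
import Groth.Agent.Lib.Helper27.CompAcyc

set_option autoImplicit false
set_option linter.unusedSectionVars false
set_option linter.unusedVariables false
set_option linter.style.haveILetI false
set_option backward.isDefEq.respectTransparency false
set_option backward.isDefEq.respectTransparency.types false

namespace Groth.Agent.Lib.helper27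

open CategoryTheory Limits Opposite Pseudofunctor Pseudofunctor.CoGrothendieck
open FibDesc TopologicalSpace

universe u

namespace ProjAcyc

open BigSec TotSide TAug RanV SqSec PullConst DecDef GPull DecNat GPullK PushSec ResTr BaseCh
  TpFun TpUniv BiAug RowKappa RowDesc ProjBC IdPull

variable (D₁ D₂ : Type) [SmallCategory D₁] [SmallCategory D₂]

/-- the reindexing equivalence -/
def PP : D₁ᵒᵖᵒᵖ × D₂ᵒᵖᵒᵖ ⥤ (D₁ × D₂)ᵒᵖᵒᵖ where
  obj x := op (op (x.1.unop.unop, x.2.unop.unop))
  map {x y} f := Quiver.Hom.op (Quiver.Hom.op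
    ((f.1.unop.unop, f.2.unop.unop) : (x.1.unop.unop, x.2.unop.unop) ⟶ (y.1.unop.unop, y.2.unop.unop)))

/-- its inverse -/
def QQ : (D₁ × D₂)ᵒᵖᵒᵖ ⥤ D₁ᵒᵖᵒᵖ × D₂ᵒᵖᵒᵖ where
  obj x := (op (op x.unop.unop.1), op (op x.unop.unop.2))
  map {x y} f := (Quiver.Hom.op (Quiver.Hom.op f.unop.unop.1), Quiver.Hom.op (Quiver.Hom.op f.unop.unop.2))

/-- the reindexing equivalence -/
def PE : D₁ᵒᵖᵒᵖ × D₂ᵒᵖᵒᵖ ≌ (D₁ × D₂)ᵒᵖᵒᵖ where
  functor := PP D₁ D₂
  inverse := QQ D₁ D₂
  unitIso := NatIso.ofComponents (fun x => Iso.refl _)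
  counitIso := NatIso.ofComponents (fun x => Iso.refl _)

instance : (PP D₁ D₂).IsEquivalence := (PE D₁ D₂).isEquivalence_functor

variable {D₁ D₂}
variable (W : (WithInitial D₁ × WithInitial D₂)ᵒᵖ ⥤ TopCat.{u})
  (V : Opens ((bA W).obj (bot D₁)))

/-- reindexing of diagrams -/
noncomputable abbrev wP : ((D₁ × D₂)ᵒᵖᵒᵖ ⥤ AddCommGrpCat.{u}) ⥤
    (D₁ᵒᵖᵒᵖ × D₂ᵒᵖᵒᵖ ⥤ AddCommGrpCat.{u}) :=
  (Functor.whiskeringLeft _ _ _).obj (PP D₁ D₂)

/-- the diagram of the partial limits along the rows of the sections over the preimages of `V` -/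
noncomputable def Φ : DShY (bZ W) ⥤ (D₁ᵒᵖᵒᵖ ⥤ AddCommGrpCat.{u}) :=
  KV (bZ W) (jV (cA W) V) ⋙ wP ⋙ Fubini.plim D₁ᵒᵖᵒᵖ D₂ᵒᵖᵒᵖ

instance : PreservesFiniteLimits (Φ W V) := by
  unfold Φ
  infer_instance

instance : (Φ W V).Additive := Functor.additive_of_preserves_binary_products _

/-- the sections over the preimages of `V` are the limit of the partial limits -/
noncomputable def ΦlimIso :
    Φ W V ⋙ (lim : (D₁ᵒᵖᵒᵖ ⥤ AddCommGrpCat.{u}) ⥤ AddCommGrpCat.{u}) ≅
      KV (bZ W) (jV (cA W) V) ⋙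
        (lim : ((D₁ × D₂)ᵒᵖᵒᵖ ⥤ AddCommGrpCat.{u}) ⥤ AddCommGrpCat.{u}) :=
  Functor.associator _ _ _ ≪≫
    Functor.isoWhiskerLeft (KV (bZ W) (jV (cA W) V))
      (Functor.associator _ _ _ ≪≫
        Functor.isoWhiskerLeft wP (Fubini.fubiniIso D₁ᵒᵖᵒᵖ D₂ᵒᵖᵒᵖ) ≪≫
        Functor.Initial.limIso (PP D₁ D₂))

theorem injective_wP (F : (D₁ × D₂)ᵒᵖᵒᵖ ⥤ AddCommGrpCat.{u}) [Injective F] :
    Injective ((wP : _ ⥤ (D₁ᵒᵖᵒᵖ × D₂ᵒᵖᵒᵖ ⥤ AddCommGrpCat.{u})).obj F) :=
  Injective.injective_of_adjoint ((PE D₁ D₂).congrLeft (E := AddCommGrpCat.{u})).toAdjunction F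

theorem injective_Φ (I : DShY (bZ W)) [Injective I] : Injective ((Φ W V).obj I) := by
  haveI := LanKV.injective_KV (bZ W) (jV (cA W) V) I
  haveI := injective_wP ((KV (bZ W) (jV (cA W) V)).obj I)
  exact Fubini.injective_plim _ _ _

/-- the inclusion of a row behaves like an identity on the levels -/
lemma idLike_iRow (m : D₁) : IdLike (iRow W m).toPData where
  bij n F U := RhoId.ρ_id_bijective F U
  surj n W' := ⟨W', rfl⟩
  mono n U₁ U₂ h := h

/-- the rows of a reindexed diagram -/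
noncomputable def rowDiag (m : D₁) :
    (wP : _ ⥤ (D₁ᵒᵖᵒᵖ × D₂ᵒᵖᵒᵖ ⥤ AddCommGrpCat.{u})) ⋙ Functor.curry ⋙
      (evaluation D₁ᵒᵖᵒᵖ (D₂ᵒᵖᵒᵖ ⥤ AddCommGrpCat.{u})).obj (op (op m)) ≅
      (Functor.whiskeringLeft _ _ _).obj (iRow W m).sh.op :=
  NatIso.ofComponents (fun F => NatIso.ofComponents (fun b => Iso.refl _)
    (by
      intro b b' g
      exact (Category.comp_id _).trans (Category.id_comp _).symm))
    (by
      intro F F' α
      apply NatTrans.ext
      funext b
      exact (Category.comp_id _).trans (Category.id_comp _).symm)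

/-- the sections functor of a row -/
noncomputable abbrev Trow (m : D₁) : DShY (bRow W m) ⥤ AddCommGrpCat.{u} :=
  KV (bRow W m) (Um W V m) ⋙ (lim : (D₂ᵒᵖᵒᵖ ⥤ AddCommGrpCat.{u}) ⥤ AddCommGrpCat.{u})

/-- evaluation of the diagram of partial limits at a level -/
noncomputable def evΦ (m : D₁) :
    Φ W V ⋙ (evaluation D₁ᵒᵖᵒᵖ AddCommGrpCat.{u}).obj (op (op m)) ≅
      Pull (iRow W m).toPData ⋙ Trow W V m :=
  (Iso.refl _ : Φ W V ⋙ (evaluation D₁ᵒᵖᵒᵖ AddCommGrpCat.{u}).obj (op (op m)) ≅
    KV (bZ W) (jV (cA W) V) ⋙ ((wP ⋙ Functor.curry ⋙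
      (evaluation D₁ᵒᵖᵒᵖ (D₂ᵒᵖᵒᵖ ⥤ AddCommGrpCat.{u})).obj (op (op m))) ⋙ lim)) ≪≫
    Functor.isoWhiskerLeft (KV (bZ W) (jV (cA W) V))
      (Functor.isoWhiskerRight (rowDiag W m) lim) ≪≫
    (Functor.associator _ _ _).symm ≪≫
    Functor.isoWhiskerRight (KVPullIso (iRow W m) V (idLike_iRow W m)) lim ≪≫
    Functor.associator _ _ _

/-- the restriction to a row of an injective sheaf is acyclic for the sections functor of the
row -/
theorem isZero_row_injective (m : D₁) (I : DShY (bZ W)) [Injective I] (q : ℕ) :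
    IsZero (((Trow W V m).rightDerived (q + 1)).obj ((Pull (iRow W m).toPData).obj I)) := by
  apply LevAcyc.isZero_of_levCl (bRow W m) (Um W V m)
  refine ⟨fun k => ?_, fun p hp => ?_⟩
  · exact IdPull.isFlasque_level (idLike_iRow W m) I k
  · haveI := LanKV.injective_KV (bZ W) (jV (cA W) V) I
    haveI := injective_wP ((KV (bZ W) (jV (cA W) V)).obj I)
    haveI h1 : Injective ((Functor.curry.obj ((wP : _ ⥤
        (D₁ᵒᵖᵒᵖ × D₂ᵒᵖᵒᵖ ⥤ AddCommGrpCat.{u})).obj ((KV (bZ W) (jV (cA W) V)).obj I))).obj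
        (op (op m))) := Fubini.injective_row _ _ _ _
    have e1 := (rowDiag W m).app ((KV (bZ W) (jV (cA W) V)).obj I)
    have e2 := (KVPullIso (iRow W m) V (idLike_iRow W m)).app I
    haveI : Injective ((KV (bRow W m) (Um W V m)).obj ((Pull (iRow W m).toPData).obj I)) :=
      Injective.of_iso (e1 ≪≫ e2) h1
    obtain ⟨p', rfl⟩ : ∃ p', p = p' + 1 := ⟨p - 1, by omega⟩
    exact Functor.isZero_rightDerived_obj_injective_succ _ p' _

/-- the restriction to a row of the pullback to the total diagram is the pullback to the row -/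
noncomputable def rowPull (m : D₁) (G : DShY (bA W)) :
    Pr W m G ⟶ (Pull (iRow W m).toPData).obj (NN W G) where
  hom :=
    { app := fun X => γsec (iRow W m).toPData (NN W G) X.unop.base (fibP (bRow W m) X.unop)
        (fibP (bRow W m) X.unop) le_rfl
      naturality := by
        intro X X' f
        ext x
        have h1 := γsec_natural (iRow W m).toPData (NN W G) f.unop.base (fibP (bRow W m) X.unop)
          (fibP (bRow W m) X.unop) le_rfl (fibP (bRow W m) X'.unop) (fibP (bRow W m) X'.unop)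
          le_rfl (fibP_le (bRow W m) f.unop) (fibP_le (bRow W m) f.unop) x
        exact h1.symm }

instance isIso_rowPull (m : D₁) (G : DShY (bA W)) : IsIso (rowPull W m G) := by
  haveI : IsIso (rowPull W m G).hom := by
    apply (config := { allowSynthFailures := true }) NatIso.isIso_of_isIso_app
    intro X
    exact (ConcreteCategory.isIso_iff_bijective _).2
      (IdPull.γsec_bijective (idLike_iRow W m) (NN W G) X.unop.base _ _ le_rfl le_rfl)
  haveI : IsIso ((sheafToPresheaf (totPart (topAug (bRow W m)) (topAugTop (bRow W m)))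
      AddCommGrpCat.{u}).map (rowPull W m G)) := ‹IsIso (rowPull W m G).hom›
  exact isIso_of_reflects_iso (rowPull W m G) (sheafToPresheaf _ _)

variable (hrow : ∀ m, IsCohDescentTop (bRow W m))

include hrow in
/-- the pullback to the total diagram of an injective sheaf on the first factor is acyclic for
the diagram of partial limits -/
theorem acyc_Φ (J : DShY (bA W)) [Injective J] : CompAcyc.Acyc (Φ W V) (NN W J) := by
  intro i hi
  obtain ⟨q, rfl⟩ : ∃ q, i = q + 1 := ⟨i - 1, by omega⟩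
  apply Functor.isZero
  intro a
  obtain ⟨e⟩ := EvalDer.evalDer (Φ W V) (op (op a.unop.unop)) (Pull (iRow W a.unop.unop).toPData)
    (Trow W V a.unop.unop) (evΦ W V a.unop.unop)
    (fun I hI q => by
      haveI := hI
      exact isZero_row_injective W V a.unop.unop I q) (q + 1) (NN W J)
  refine IsZero.of_iso ?_ e
  refine IsZero.of_iso ?_ (((Trow W V a.unop.unop).rightDerived (q + 1)).mapIso
    (asIso (rowPull W a.unop.unop J)).symm)
  exact isZero_row W a.unop.unop J (hrow a.unop.unop) (Um W V a.unop.unop) q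

section rows

variable (G : DShY (bA W)) (m : D₁)

include hrow in
/-- sections of the level `m` are determined by their pullbacks along the row -/
theorem rowInj (g g' : (Hm W m G).obj.obj (op (Um W V m)))
    (h : ∀ k : D₂ᵒᵖ, γsec (cA W).toPData G ((iRow W m).sh.obj k) (Um W V m)
        (WV (bZ W) (jV (cA W) V) ((iRow W m).sh.obj k)) (wz_le W V m k) g =
      γsec (cA W).toPData G ((iRow W m).sh.obj k) (Um W V m)
        (WV (bZ W) (jV (cA W) V) ((iRow W m).sh.obj k)) (wz_le W V m k) g') : g = g' := by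
  apply (bijective_φsec W m G (hrow m) (Um W V m)).1
  apply PS_ext
  intro k
  rw [πs_φsec, πs_φsec]
  have a1 := γsec_mono (cA W).toPData G ((iRow W m).sh.obj k) (Um W V m) _ _
    (wz_le W V m k) (le_wz W V m k) g
  have a2 := γsec_mono (cA W).toPData G ((iRow W m).sh.obj k) (Um W V m) _ _
    (wz_le W V m k) (le_wz W V m k) g'
  exact a1.trans ((congrArg _ (h k)).trans a2.symm)

include hrow in
/-- compatible families of sections of the pullback along the row come from the level `m` -/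
theorem rowSurj
    (t : ∀ k : D₂ᵒᵖ, (NN W G).obj.obj (op (tpOb (bZ W) ((iRow W m).sh.obj k)
      (WV (bZ W) (jV (cA W) V) ((iRow W m).sh.obj k)))))
    (ht : ∀ {k k' : D₂ᵒᵖ} (θ : k' ⟶ k),
      (NN W G).obj.map (tpHom (bZ W) ((iRow W m).sh.map θ)
        (WV_le (bZ W) (jV (cA W) V) ((iRow W m).sh.map θ))).op (t k) = t k') :
    ∃ g : (Hm W m G).obj.obj (op (Um W V m)), ∀ k : D₂ᵒᵖ,
      γsec (cA W).toPData G ((iRow W m).sh.obj k) (Um W V m)
        (WV (bZ W) (jV (cA W) V) ((iRow W m).sh.obj k)) (wz_le W V m k) g = t k := by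
  let t' : ∀ k : D₂ᵒᵖ,
      (Pr W m G).obj.obj (op (tpOb (bRow W m) k (WV (bRow W m) (Um W V m) k))) :=
    fun k => (NN W G).obj.map (vertP (bZ W) ((iRow W m).sh.obj k) (le_wz W V m k)).op (t k)
  have ht' : ∀ {k k' : D₂ᵒᵖ} (θ : k' ⟶ k),
      (Pr W m G).obj.map (tpHom (bRow W m) θ (WV_le (bRow W m) (Um W V m) θ)).op (t' k) =
        t' k' := by
    intro k k' θ
    have hle : WV (bRow W m) (Um W V m) k' ≤
        (Opens.map (Ym (bZ W) ((iRow W m).sh.map θ))).obj
          (WV (bZ W) (jV (cA W) V) ((iRow W m).sh.obj k)) :=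
      (le_wz W V m k').trans (WV_le (bZ W) (jV (cA W) V) ((iRow W m).sh.map θ))
    have e1 := mapP_comp_apply (bZ W) (NN W G)
      (tpHom (bZ W) ((iRow W m).sh.map θ) (WV_le (bRow W m) (Um W V m) θ))
      (vertP (bZ W) ((iRow W m).sh.obj k) (le_wz W V m k))
      (tpHom (bZ W) ((iRow W m).sh.map θ) hle) (Category.comp_id _) (t k)
    have e2 := mapP_comp_apply (bZ W) (NN W G)
      (vertP (bZ W) ((iRow W m).sh.obj k') (le_wz W V m k'))
      (tpHom (bZ W) ((iRow W m).sh.map θ) (WV_le (bZ W) (jV (cA W) V) ((iRow W m).sh.map θ)))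
      (tpHom (bZ W) ((iRow W m).sh.map θ) hle) (Category.id_comp _) (t k)
    have e2' := (congrArg (fun z => (NN W G).obj.map
      (vertP (bZ W) ((iRow W m).sh.obj k') (le_wz W V m k')).op z) (ht θ)).symm.trans e2
    exact e1.trans e2'.symm
  obtain ⟨ym, hym⟩ := PS_mk (bRow W m) (Pr W m G) (Um W V m) t' ht'
  obtain ⟨g, hg⟩ := (bijective_φsec W m G (hrow m) (Um W V m)).2 ym
  refine ⟨g, fun k => ?_⟩
  apply vert_injective (bZ W) (NN W G) ((iRow W m).sh.obj k) (le_wz W V m k) (wz_le W V m k)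
  have a1 := γsec_mono (cA W).toPData G ((iRow W m).sh.obj k) (Um W V m) _ _
    (wz_le W V m k) (le_wz W V m k) g
  refine a1.symm.trans ?_
  have a2 := πs_φsec W m G (Um W V m) k g
  rw [hg, hym] at a2
  exact a2.symm

end rows

section nu

variable (G : DShY (bA W))

/-- the diagram of the sections of the pullback along a row -/
noncomputable abbrev Ka (a : D₁ᵒᵖᵒᵖ) : D₂ᵒᵖᵒᵖ ⥤ AddCommGrpCat.{u} :=
  (Functor.curry.obj ((wP : _ ⥤ (D₁ᵒᵖᵒᵖ × D₂ᵒᵖᵒᵖ ⥤ AddCommGrpCat.{u})).obj
    ((KV (bZ W) (jV (cA W) V)).obj (NN W G)))).obj a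

/-- the cone of pullbacks of sections of a level along the row -/
noncomputable def νCone (a : D₁ᵒᵖᵒᵖ) : Cone (Ka W V G a) where
  pt := ((KV (bA W) V).obj G).obj a
  π :=
    { app := fun b => γsec (cA W).toPData G ((iRow W a.unop.unop).sh.obj b.unop)
        (Um W V a.unop.unop) (WV (bZ W) (jV (cA W) V) ((iRow W a.unop.unop).sh.obj b.unop))
        (wz_le W V a.unop.unop b.unop)
      naturality := by
        intro b b' g
        ext x
        have hU : Um W V a.unop.unop ≤ (Opens.map (Ym (bA W)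
            ((cA W).sh.map ((iRow W a.unop.unop).sh.map g.unop)))).obj (Um W V a.unop.unop) := by
          intro y hy
          have h2 : Ym (bA W) ((cA W).sh.map ((iRow W a.unop.unop).sh.map g.unop)) = 𝟙 _ :=
            Ym_id (bA W) (op a.unop.unop)
          show (Ym (bA W) ((cA W).sh.map ((iRow W a.unop.unop).sh.map g.unop))) y ∈
            Um W V a.unop.unop
          rw [h2]
          exact hy
        have h1 := γsec_natural (cA W).toPData G ((iRow W a.unop.unop).sh.map g.unop)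
          (Um W V a.unop.unop) _ (wz_le W V a.unop.unop b.unop) (Um W V a.unop.unop) _
          (wz_le W V a.unop.unop b'.unop) hU
          (WV_le (bZ W) (jV (cA W) V) ((iRow W a.unop.unop).sh.map g.unop)) x
        have h3 : G.obj.map (tpHom (bA W)
            ((cA W).sh.map ((iRow W a.unop.unop).sh.map g.unop)) hU).op x = x :=
          mapP_self' (bA W) G _ rfl x
        rw [h3] at h1
        exact h1.symm }

/-- the comparison of the diagram of sections of a sheaf on the first factor with the diagram of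
partial limits of its pullback -/
noncomputable def ν : (KV (bA W) V).obj G ⟶ (Φ W V).obj (NN W G) where
  app a := limit.lift (Ka W V G a) (νCone W V G a)
  naturality a a' f := by
    apply limit.hom_ext
    intro b
    have e1 : (((KV (bA W) V).obj G).map f ≫ limit.lift (Ka W V G a') (νCone W V G a')) ≫
        limit.π (Ka W V G a') b =
        ((KV (bA W) V).obj G).map f ≫ (νCone W V G a').π.app b := by
      rw [Category.assoc, limit.lift_π]
    have e2 : (limit.lift (Ka W V G a) (νCone W V G a) ≫ ((Φ W V).obj (NN W G)).map f) ≫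
        limit.π (Ka W V G a') b =
        (νCone W V G a).π.app b ≫ ((Functor.curry.obj
          ((wP : _ ⥤ (D₁ᵒᵖᵒᵖ × D₂ᵒᵖᵒᵖ ⥤ AddCommGrpCat.{u})).obj
            ((KV (bZ W) (jV (cA W) V)).obj (NN W G)))).map f).app b := by
      rw [Category.assoc]
      have : ((Φ W V).obj (NN W G)).map f ≫ limit.π (Ka W V G a') b =
          limit.π (Ka W V G a) b ≫ ((Functor.curry.obj
          ((wP : _ ⥤ (D₁ᵒᵖᵒᵖ × D₂ᵒᵖᵒᵖ ⥤ AddCommGrpCat.{u})).obj
            ((KV (bZ W) (jV (cA W) V)).obj (NN W G)))).map f).app b := limMap_π _ _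
      rw [this, ← Category.assoc, limit.lift_π]
    refine e1.trans (Eq.trans ?_ e2.symm)
    ext x
    have hW := WV_le (bZ W) (jV (cA W) V) (colHom f.unop b.unop)
    have h1 := γsec_natural (cA W).toPData G (colHom f.unop b.unop)
      (Um W V a.unop.unop) _ (wz_le W V a.unop.unop b.unop) (Um W V a'.unop.unop) _
      (wz_le W V a'.unop.unop b.unop) (WV_le (bA W) V f.unop) hW x
    exact h1.symm

include hrow in
lemma isIso_ν : IsIso (ν W V G) := by
  haveI : ∀ a, IsIso ((ν W V G).app a) := by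
    intro a
    refine (ConcreteCategory.isIso_iff_bijective _).2 ⟨?_, ?_⟩
    · intro x x' hxx
      apply rowInj W V hrow G a.unop.unop x x'
      intro k
      have h1 := congrArg (limit.π (Ka W V G a) (op k)) hxx
      have e1 := ConcreteCategory.congr_hom
        (limit.lift_π (νCone W V G a) (op k)) x
      have e2 := ConcreteCategory.congr_hom
        (limit.lift_π (νCone W V G a) (op k)) x'
      exact e1.symm.trans (h1.trans e2)
    · intro z
      obtain ⟨g, hg⟩ := rowSurj W V hrow G a.unop.unop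
        (fun k => limit.π (Ka W V G a) (op k) z)
        (by
          intro k k' θ
          exact ConcreteCategory.congr_hom (limit.w (Ka W V G a) θ.op) z)
      refine ⟨g, ?_⟩
      apply Concrete.limit_ext
      intro b
      have e1 := ConcreteCategory.congr_hom (limit.lift_π (νCone W V G a) b) g
      exact e1.trans (hg b.unop)
  exact NatIso.isIso_of_isIso_app _

end nu

include hrow in
/-- **Effaceability for the projection to the first factor**: the pullback to the total diagram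
of an injective sheaf on the first factor is acyclic for the sections over the preimages of `V` -/
theorem isZero_proj (J : DShY (bA W)) [Injective J] (i : ℕ) :
    IsZero (((KV (bZ W) (jV (cA W) V) ⋙ (lim : ((D₁ × D₂)ᵒᵖᵒᵖ ⥤ AddCommGrpCat.{u}) ⥤
      AddCommGrpCat.{u})).rightDerived (i + 1)).obj (NN W J)) := by
  refine IsZero.of_iso ?_ ((DescCrit.rdIso (ΦlimIso W V) (i + 1)).app (NN W J)).symm
  obtain ⟨e⟩ := CompAcyc.rightDerived_comp_iso (Φ W V)
    (lim : (D₁ᵒᵖᵒᵖ ⥤ AddCommGrpCat.{u}) ⥤ AddCommGrpCat.{u})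
    (fun I hI => by haveI := hI; exact injective_Φ W V I) (NN W J) (acyc_Φ W V hrow J) (i + 1)
  refine IsZero.of_iso ?_ e.symm
  haveI := isIso_ν W V hrow J
  haveI := LanKV.injective_KV (bA W) V J
  haveI : Injective ((Φ W V).obj (NN W J)) := Injective.of_iso (asIso (ν W V J)) inferInstance
  exact Functor.isZero_rightDerived_obj_injective_succ _ i _

end ProjAcyc

end Groth.Agent.Lib.helper27
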