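import Mathlib
import Groth.Prelude.Def_FibDesc
import Groth.Agent.Lib.Helper27.Transfer
import Groth.Agent.Lib.Helper27.ProjAcyc
import Groth.Agent.Lib.Helper27.RhoId

set_option autoImplicit false
set_option linter.unusedSectionVars false
set_option linter.unusedVariables false
set_option linter.style.haveILetI false
set_option backward.isDefEq.respectTransparency false
set_option backward.isDefEq.respectTransparency.types false

namespace Groth.Agent.Lib.helper27

open CategoryTheory Limits Opposite Pseudofunctor Pseudofunctor.CoGrothendieck
open FibDesc TopologicalSpace

universe u

namespace ProjGood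

open BigSec TotSide TAug RanV SqSec PullConst DecDef GPull DecNat GPullK PushSec ResTr BaseCh
  TpFun TpUniv TpPull BiAug

attribute [local instance] HasDerivedCategory.standard

variable {D₁ D₂ : Type} [SmallCategory D₁] [SmallCategory D₂]
  (W : (WithInitial D₁ × WithInitial D₂)ᵒᵖ ⥤ TopCat.{u})

/-- the projection from the total diagram of a bi-augmented object with cohomological descent rows
to its first edge is good for the transfer of descent conditions -/
theorem good_cA (hrow : ∀ m, IsCohDescentTop (bRow W m)) : Transfer.Good (cA W) where
  bc := fun M V => ProjBC.cfl_bijective W M V hrow
  acyc := fun J hJ V i => by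
    haveI := hJ
    exact ProjAcyc.isZero_proj W V hrow J i
  ρbij := fun G V => RhoId.ρ_id_bijective G V

end ProjGood

end Groth.Agent.Lib.helper27
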