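import Mathlib
import Groth.Prelude.Def_FibDesc
import Groth.Agent.Lib.Helper27.ProjGood
import Groth.Agent.Lib.Helper27.EquivGood

set_option autoImplicit false
set_option linter.unusedSectionVars false
set_option linter.unusedVariables false
set_option linter.style.haveILetI false
set_option backward.isDefEq.respectTransparency false
set_option backward.isDefEq.respectTransparency.types false

namespace Groth.Agent.Lib.helper27

open CategoryTheory Limits Opposite Pseudofunctor Pseudofunctor.CoGrothendieck
open FibDesc TopologicalSpace

universe u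

namespace BiMain

open BigSec TotSide TAug RanV SqSec PullConst DecDef GPull DecNat GPullK PushSec ResTr BaseCh
  TpFun TpUniv TpPull BiAug IdPull

attribute [local instance] HasDerivedCategory.standard

section pullId

variable (X : TopCat.{u})

/-- the direct image along the identity is the identity -/
noncomputable def pushIdIso : 𝟭 (CohTop.Ab X) ≅ CohTop.push (𝟙 X) :=
  NatIso.ofComponents (fun F => Iso.refl F)
    (by
      intro F G f
      exact (Category.comp_id _).trans (Category.id_comp _).symm)

/-- the inverse image along the identity is the identity -/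
noncomputable def pullIdIso : 𝟭 (CohTop.Ab X) ≅ CohTop.pull (𝟙 X) :=
  Adjunction.leftAdjointUniq ((Adjunction.id (C := CohTop.Ab X)).ofNatIsoRight (pushIdIso X))
    (pbAdj (𝟙 X))

instance injective_pullId (I : CohTop.Ab X) [Injective I] :
    Injective ((CohTop.pull (𝟙 X)).obj I) :=
  Injective.of_iso ((pullIdIso X).app I) inferInstance

end pullId

variable {D₁ D₂ : Type} [SmallCategory D₁] [SmallCategory D₂]
  (W : (WithInitial D₁ × WithInitial D₂)ᵒᵖ ⥤ TopCat.{u})

/-- the transposed bi-augmented object -/
abbrev Wsw : (WithInitial D₂ × WithInitial D₁)ᵒᵖ ⥤ TopCat.{u} :=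
  (CategoryTheory.Prod.swap (WithInitial D₂) (WithInitial D₁)).op ⋙ W

/-- the transposition of the total diagram -/
noncomputable def sw : AData (bZ W) (bZ (Wsw W)) where
  sh := (CategoryTheory.Prod.swap D₂ D₁).op
  e n := 𝟙 _
  e_nat {n' n} θ := by
    rw [Category.comp_id, Category.id_comp]
    rfl
  j := 𝟙 _
  e_aug n := by
    rw [Category.comp_id, Category.id_comp]
    show W.map _ = W.map _
    refine congrArg W.map ?_
    apply Quiver.Hom.unop_inj
    exact hom_star_ext _ _

instance : (sw W).sh.IsEquivalence := by
  show ((CategoryTheory.Prod.swap D₂ D₁).op).IsEquivalence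
  infer_instance

lemma idLike_sw : IdLike (sw W).toPData where
  bij n F U := RhoId.ρ_id_bijective F U
  surj n W' := ⟨W', rfl⟩
  mono n U₁ U₂ h := h

theorem good_sw : Transfer.Good (sw W) :=
  EquivGood.good (sw W) (idLike_sw W) (fun G V => RhoId.ρ_id_bijective G V)

/-- **The bisimplicial comparison**: if the rows and the columns of a bi-augmented object are of
cohomological descent, and so is the second edge, then so is the first edge. -/
theorem isCohDescentTop_bA (hrow : ∀ m, IsCohDescentTop (bRow W m))
    (hcol : ∀ n, IsCohDescentTop (bRow (Wsw W) n)) (hB : IsCohDescentTop (bA (Wsw W))) :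
    IsCohDescentTop (bA W) := by
  apply Transfer.isCohDescentTop_of_Q
  intro I hI V
  haveI := hI
  refine (Transfer.Q_iff (cA W) (ProjGood.good_cA W hrow) V I).2 ?_
  refine (Transfer.Q_iff (sw W) (good_sw W) _ _).2 ?_
  have h1 := Transfer.Q_of_descent (bA (Wsw W)) hB
    ((CohTop.pull (𝟙 (W.obj (op (WithInitial.star, WithInitial.star))))).obj I) V
  exact (Transfer.Q_iff (cA (Wsw W)) (ProjGood.good_cA (Wsw W) hcol) V _).1 h1

end BiMain

end Groth.Agent.Lib.helper27
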