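import Mathlib
import Groth.Prelude.Def_FibDesc
import Groth.Agent.Lib.Helper27.BiMain
import Groth.Agent.Lib.Helper27.LocCrit

set_option autoImplicit false
set_option linter.unusedSectionVars false
set_option linter.unusedVariables false
set_option linter.style.haveILetI false
set_option backward.isDefEq.respectTransparency false
set_option backward.isDefEq.respectTransparency.types false

namespace Groth.Agent.Lib.helper27

open CategoryTheory Limits Opposite
open FibDesc TopologicalSpace

universe u

namespace AugIso

open RanV ResGeo TAug TotSide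

variable {D : Type} [SmallCategory D] {Y' Y : (WithInitial D)ᵒᵖ ⥤ TopCat.{u}}

/-- a levelwise isomorphism is a levelwise open embedding, cartesian over the base -/
theorem openCart_of_iso (φ : Y' ⟶ Y) [∀ s, IsIso (φ.app s)] : OpenCart φ where
  emb s := (TopCat.homeoOfIso (asIso (φ.app s))).isOpenEmbedding
  cart s := by
    have h1 : Set.range (φ.app s) = Set.univ :=
      Set.range_eq_univ.2 (TopCat.homeoOfIso (asIso (φ.app s))).surjective
    have h2 : Set.range (φ.app (bot D)) = Set.univ :=
      Set.range_eq_univ.2 (TopCat.homeoOfIso (asIso (φ.app (bot D)))).surjective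
    rw [h1, h2]
    rfl

/-- cohomological descent is invariant under isomorphisms of augmented indexed spaces -/
theorem isCohDescentTop_of_iso (e : Y' ≅ Y) (h : IsCohDescentTop Y') : IsCohDescentTop Y := by
  haveI : ∀ s, IsIso (e.hom.app s) := fun s => inferInstance
  refine LocCrit.isCohDescentTop_of_cover Y (fun _ : Unit => Y') (fun _ => e.hom)
    (fun _ => openCart_of_iso e.hom) (fun x => ⟨(), ?_⟩) (fun _ => h)
  have h2 : Set.range (e.hom.app (bot D)) = Set.univ :=
    Set.range_eq_univ.2 (TopCat.homeoOfIso (asIso (e.hom.app (bot D)))).surjective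
  rw [h2]
  trivial

end AugIso

namespace BiPb

open RanV ResGeo TAug TotSide BiAug BiMain

variable {D₁ D₂ : Type} [SmallCategory D₁] [SmallCategory D₂]
  {A : (WithInitial D₁)ᵒᵖ ⥤ TopCat.{u}} {B : (WithInitial D₂)ᵒᵖ ⥤ TopCat.{u}} {S : TopCat.{u}}
  (α : A ⟶ (Functor.const _).obj S) (β : B ⟶ (Functor.const _).obj S)

lemma α_nat {x y : (WithInitial D₁)ᵒᵖ} (g : x ⟶ y) : A.map g ≫ α.app y = α.app x :=
  (α.naturality g).trans (Category.comp_id _)

/-- the bi-augmented object of fibre products of two augmented objects over the same space -/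
noncomputable def W : (WithInitial D₁ × WithInitial D₂)ᵒᵖ ⥤ TopCat.{u} where
  obj p := pullback (α.app (op p.unop.1)) (β.app (op p.unop.2))
  map {p q} f := pullback.map _ _ _ _ (A.map f.unop.1.op) (B.map f.unop.2.op) (𝟙 S)
    ((Category.comp_id _).trans (α_nat α f.unop.1.op).symm)
    ((Category.comp_id _).trans (α_nat β f.unop.2.op).symm)
  map_id p := by
    apply pullback.hom_ext
    · rw [pullback.lift_fst, Category.id_comp]
      show _ ≫ A.map (𝟙 _) = _
      rw [A.map_id, Category.comp_id]
    · rw [pullback.lift_snd, Category.id_comp]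
      show _ ≫ B.map (𝟙 _) = _
      rw [B.map_id, Category.comp_id]
  map_comp {p q r} f g := by
    apply pullback.hom_ext
    · rw [pullback.lift_fst, Category.assoc, pullback.lift_fst, ← Category.assoc,
        pullback.lift_fst, Category.assoc, ← A.map_comp]
      rfl
    · rw [pullback.lift_snd, Category.assoc, pullback.lift_snd, ← Category.assoc,
        pullback.lift_snd, Category.assoc, ← B.map_comp]
      rfl

lemma W_map_fst {p q : (WithInitial D₁ × WithInitial D₂)ᵒᵖ} (f : p ⟶ q) :
    (W α β).map f ≫ pullback.fst _ _ = pullback.fst _ _ ≫ A.map f.unop.1.op :=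
  pullback.lift_fst _ _ _

lemma W_map_snd {p q : (WithInitial D₁ × WithInitial D₂)ᵒᵖ} (f : p ⟶ q) :
    (W α β).map f ≫ pullback.snd _ _ = pullback.snd _ _ ≫ B.map f.unop.2.op :=
  pullback.lift_snd _ _ _

/-- the first edge of the bi-augmented object of fibre products -/
noncomputable def edgeA [hβ : IsIso (β.app (bot D₂))] : bA (W α β) ≅ A :=
  NatIso.ofComponents
    (fun x => by
      haveI : IsIso (pullback.fst (α.app (op x.unop)) (β.app (op WithInitial.star))) :=
        pullback_fst_iso_of_right_iso _ _
      exact asIso (pullback.fst (α.app (op x.unop)) (β.app (op WithInitial.star))))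
    (by
      intro x y f
      exact W_map_fst α β _)

/-- the second edge of the bi-augmented object of fibre products -/
noncomputable def edgeB [hα : IsIso (α.app (bot D₁))] : bA (Wsw (W α β)) ≅ B :=
  NatIso.ofComponents
    (fun y => by
      haveI : IsIso (pullback.snd (α.app (op WithInitial.star)) (β.app (op y.unop))) :=
        pullback_snd_iso_of_left_iso _ _
      exact asIso (pullback.snd (α.app (op WithInitial.star)) (β.app (op y.unop))))
    (by
      intro x y f
      exact W_map_snd α β _)

/-- the rows of the bi-augmented object of fibre products -/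
noncomputable def rowIso (m : D₁) (C : (WithInitial D₂)ᵒᵖ ⥤ TopCat.{u}) (φ : C ⟶ B)
    (p : C ⟶ (Functor.const _).obj (A.obj (op (WithInitial.of m))))
    (hsq : ∀ y, IsPullback (p.app y) (φ.app y) (α.app (op (WithInitial.of m))) (β.app y)) :
    C ≅ bRow (W α β) m :=
  NatIso.ofComponents (fun y => (hsq y).isoPullback)
    (by
      intro y y' f
      have a1 : (hsq y').isoPullback.hom ≫ pullback.fst _ _ = p.app y' :=
        IsPullback.isoPullback_hom_fst _
      have a2 : (hsq y).isoPullback.hom ≫ pullback.fst _ _ = p.app y :=
        IsPullback.isoPullback_hom_fst _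
      have b1 : (hsq y').isoPullback.hom ≫ pullback.snd _ _ = φ.app y' :=
        IsPullback.isoPullback_hom_snd _
      have b2 : (hsq y).isoPullback.hom ≫ pullback.snd _ _ = φ.app y :=
        IsPullback.isoPullback_hom_snd _
      have a3 := W_map_fst α β ((inRow D₁ m).op.map f)
      have b3 := W_map_snd α β ((inRow D₁ m).op.map f)
      have a4 : A.map (((inRow D₁ m).op.map f).unop.1.op) = 𝟙 _ := A.map_id _
      apply pullback.hom_ext
      · refine (Category.assoc _ _ _).trans
          (((congrArg (fun t => C.map f ≫ t) a1).trans (α_nat p f)).trans ?_)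
        refine Eq.symm ((Category.assoc _ _ _).trans ?_)
        exact (congrArg (fun t => (hsq y).isoPullback.hom ≫ t)
          (a3.trans ((congrArg (fun t => pullback.fst _ _ ≫ t) a4).trans
            (Category.comp_id _)))).trans a2
      · refine (Category.assoc _ _ _).trans
          (((congrArg (fun t => C.map f ≫ t) b1).trans (φ.naturality f)).trans ?_)
        refine Eq.symm ((Category.assoc _ _ _).trans ?_)
        refine (congrArg (fun t => (hsq y).isoPullback.hom ≫ t) b3).trans ?_
        refine (Category.assoc _ _ _).symm.trans ?_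
        exact congrArg (fun t => t ≫ B.map f) b2)

/-- the columns of the bi-augmented object of fibre products -/
noncomputable def colIso (n : D₂) (C : (WithInitial D₁)ᵒᵖ ⥤ TopCat.{u}) (φ : C ⟶ A)
    (p : C ⟶ (Functor.const _).obj (B.obj (op (WithInitial.of n))))
    (hsq : ∀ x, IsPullback (φ.app x) (p.app x) (α.app x) (β.app (op (WithInitial.of n)))) :
    C ≅ bRow (Wsw (W α β)) n :=
  NatIso.ofComponents (fun x => (hsq x).isoPullback)
    (by
      intro x x' f
      have a1 : (hsq x').isoPullback.hom ≫ pullback.fst _ _ = φ.app x' :=
        IsPullback.isoPullback_hom_fst _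
      have a2 : (hsq x).isoPullback.hom ≫ pullback.fst _ _ = φ.app x :=
        IsPullback.isoPullback_hom_fst _
      have b1 : (hsq x').isoPullback.hom ≫ pullback.snd _ _ = p.app x' :=
        IsPullback.isoPullback_hom_snd _
      have b2 : (hsq x).isoPullback.hom ≫ pullback.snd _ _ = p.app x :=
        IsPullback.isoPullback_hom_snd _
      have a3 := W_map_fst α β
        ((CategoryTheory.Prod.swap (WithInitial D₂) (WithInitial D₁)).op.map
          ((inRow D₂ n).op.map f))
      have b3 := W_map_snd α β
        ((CategoryTheory.Prod.swap (WithInitial D₂) (WithInitial D₁)).op.map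
          ((inRow D₂ n).op.map f))
      have b4 : B.map (((CategoryTheory.Prod.swap (WithInitial D₂) (WithInitial D₁)).op.map
          ((inRow D₂ n).op.map f)).unop.2.op) = 𝟙 _ := B.map_id _
      apply pullback.hom_ext
      · refine (Category.assoc _ _ _).trans
          (((congrArg (fun t => C.map f ≫ t) a1).trans (φ.naturality f)).trans ?_)
        refine Eq.symm ((Category.assoc _ _ _).trans ?_)
        refine (congrArg (fun t => (hsq x).isoPullback.hom ≫ t) a3).trans ?_
        refine (Category.assoc _ _ _).symm.trans ?_
        exact congrArg (fun t => t ≫ A.map f) a2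
      · refine (Category.assoc _ _ _).trans
          (((congrArg (fun t => C.map f ≫ t) b1).trans (α_nat p f)).trans ?_)
        refine Eq.symm ((Category.assoc _ _ _).trans ?_)
        exact (congrArg (fun t => (hsq x).isoPullback.hom ≫ t)
          (b3.trans ((congrArg (fun t => pullback.snd _ _ ≫ t) b4).trans
            (Category.comp_id _)))).trans b2)

/-- **the comparison of two augmented objects over the same space** -/
theorem isCohDescentTop_of_fibreProducts [hα : IsIso (α.app (bot D₁))]
    [hβ : IsIso (β.app (bot D₂))] (hB : IsCohDescentTop B)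
    (hrow : ∀ m, IsCohDescentTop (bRow (W α β) m))
    (hcol : ∀ n, IsCohDescentTop (bRow (Wsw (W α β)) n)) : IsCohDescentTop A :=
  AugIso.isCohDescentTop_of_iso (edgeA α β)
    (isCohDescentTop_bA (W α β) hrow hcol
      (AugIso.isCohDescentTop_of_iso (edgeB α β).symm hB))

end BiPb

end Groth.Agent.Lib.helper27
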