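import Mathlib

set_option linter.unusedSectionVars false

namespace Groth.Agent.Lib.helper27

open CategoryTheory Limits Pretriangulated

universe v u

section bousfield

variable {D : Type u} [Category.{v} D] [Preadditive D] [HasZeroObject D] [HasShift D ℤ]
  [∀ n : ℤ, (shiftFunctor D n).Additive] [Pretriangulated D]

lemma eq_zero_of_shift_inj' {A B : D} (f : A ⟶ B) (W : D)
    (hf : ∀ g : W⟦(-1 : ℤ)⟧ ⟶ A, g ≫ f = 0 → g = 0) (g : W ⟶ A⟦(1 : ℤ)⟧)
    (hg : g ≫ f⟦(1 : ℤ)⟧' = 0) : g = 0 := by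
  apply (shiftFunctor D (-1 : ℤ)).map_injective
  rw [Functor.map_zero, ← cancel_mono ((shiftFunctorCompIsoId D (1 : ℤ) (-1)
    (by norm_num)).hom.app A)]
  rw [zero_comp]
  apply hf
  have nat := (shiftFunctorCompIsoId D (1 : ℤ) (-1) (by norm_num)).hom.naturality f
  dsimp at nat
  rw [Category.assoc, ← nat, ← Functor.map_comp_assoc, hg, Functor.map_zero, zero_comp]

variable (P : ObjectProperty D) [P.IsTriangulated]

theorem ι_isLeftAdjoint_iff :
    P.ι.IsLeftAdjoint ↔ ∀ X : D, ∃ (A B : D) (f : A ⟶ X) (g : X ⟶ B)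
      (h : B ⟶ (shiftFunctor D (1 : ℤ)).obj A),
      Triangle.mk f g h ∈ distTriang D ∧ P A ∧ P.rightOrthogonal B := by
  constructor
  · intro hadj X
    let R := P.ι.rightAdjoint
    let adj : P.ι ⊣ R := Adjunction.ofIsLeftAdjoint P.ι
    let A : D := (R.obj X).obj
    let f : A ⟶ X := adj.counit.app X
    obtain ⟨B, g, h, hT⟩ := distinguished_cocone_triangle f
    refine ⟨A, B, f, g, h, hT, (R.obj X).property, ?_⟩
    -- bijectivity from the adjunction
    have hbij : ∀ (Y : D), P Y → Function.Bijective (fun a : Y ⟶ A => a ≫ f) := by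
      intro Y hY
      have h1 := (adj.homEquiv ⟨Y, hY⟩ X).symm.bijective
      have h2 := (P.fullyFaithfulι.homEquiv (X := ⟨Y, hY⟩) (Y := R.obj X)).symm.bijective
      have : (fun a : Y ⟶ A => a ≫ f) =
          (adj.homEquiv ⟨Y, hY⟩ X).symm ∘
            (P.fullyFaithfulι.homEquiv (X := ⟨Y, hY⟩) (Y := R.obj X)).symm := by
        funext a
        dsimp
        rw [Adjunction.homEquiv_counit]
        rfl
      rw [this]
      exact h1.comp h2
    intro Y y hY
    have h31 : h ≫ f⟦(1 : ℤ)⟧' = 0 := comp_distTriang_mor_zero₃₁ _ hT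
    have hyh : y ≫ h = 0 := by
      apply eq_zero_of_shift_inj' f Y _ (y ≫ h) (by rw [Category.assoc, h31, comp_zero])
      intro a ha
      exact (hbij _ (P.le_shift (-1) _ hY)).1 (by dsimp; rw [ha, zero_comp])
    obtain ⟨x, hx⟩ : ∃ x : Y ⟶ X, y = x ≫ g := Triangle.coyoneda_exact₃ _ hT y hyh
    obtain ⟨a, ha⟩ := (hbij Y hY).2 x
    dsimp at ha
    have hfg : f ≫ g = 0 := comp_distTriang_mor_zero₁₂ _ hT
    rw [hx, ← ha, Category.assoc, hfg, comp_zero]
  · intro hdec
    apply Functor.isLeftAdjoint_of_rightAdjointObjIsDefined_eq_top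
    ext X
    simp only [Pi.top_apply, Prop.top_eq_true, iff_true]
    rw [Functor.rightAdjointObjIsDefined_iff]
    obtain ⟨A, B, f, g, h, hT, hA, hB⟩ := hdec X
    have hbij : ∀ (Y : D), P Y → Function.Bijective (fun a : Y ⟶ A => a ≫ f) := by
      intro Y hY
      constructor
      · intro a a' haa'
        dsimp at haa'
        have h0 : (a - a') ≫ f = 0 := by rw [Preadditive.sub_comp, haa', sub_self]
        have hinv := inv_rot_of_distTriang _ hT
        obtain ⟨b, hb⟩ := Triangle.coyoneda_exact₂ _ hinv (a - a') h0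
        have hB' : P.rightOrthogonal (B⟦(-1 : ℤ)⟧) := P.rightOrthogonal.le_shift (-1) _ hB
        have : b = 0 := hB' b hY
        rw [this, zero_comp] at hb
        exact sub_eq_zero.1 hb
      · intro x
        have : x ≫ g = 0 := hB _ hY
        obtain ⟨a, ha⟩ := Triangle.coyoneda_exact₂ _ hT x this
        exact ⟨a, ha.symm⟩
    let e : ∀ (Y : P.FullSubcategory), (Y ⟶ ⟨A, hA⟩) ≃ (Y.obj ⟶ X) := fun Y =>
      (P.fullyFaithfulι.homEquiv (X := Y) (Y := ⟨A, hA⟩)).trans
        (Equiv.ofBijective _ (hbij Y.obj Y.property))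
    exact (Functor.RepresentableBy.isRepresentable
      (Y := (⟨A, hA⟩ : P.FullSubcategory))
      { homEquiv := fun {Y} => e Y
        homEquiv_comp := by
          intro Y Y' φ ψ
          dsimp [e]
          rw [Functor.FullyFaithful.homEquiv_apply, Functor.FullyFaithful.homEquiv_apply,
            Functor.map_comp, Category.assoc]
          rfl })

end bousfield

end Groth.Agent.Lib.helper27
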