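import Mathlib

/-!
# helper27: one step of a Cartan–Eilenberg resolution

For a cochain complex `C` in an abelian category with enough injectives we construct a complex `J C` and a
morphism `j C : C ⟶ J C` such that the terms, cycles and homology of `J C` are injective, `j C` is a
degreewise monomorphism and induces monomorphisms in homology, and `J C` vanishes where `C` does.
-/

set_option autoImplicit false

namespace Groth.Agent.Lib.helper27

open CategoryTheory Limits ZeroObject

universe v u

namespace CEStep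

variable {A : Type u} [Category.{v} A] [Abelian A] [EnoughInjectives A]

lemma exists_emb (X : A) : ∃ (E : A) (i : X ⟶ E), Injective E ∧ Mono i ∧ (IsZero X → IsZero E) := by
  by_cases h : IsZero X
  · exact ⟨0, 0, inferInstance, ⟨fun _ _ _ => h.eq_of_tgt _ _⟩, fun _ => isZero_zero A⟩
  · exact ⟨Injective.under X, Injective.ι X, inferInstance, inferInstance, fun h' => absurd h' h⟩

/-- a zero-preserving choice of injective embedding -/
noncomputable def emb (X : A) : A := (exists_emb X).choose

/-- the embedding -/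
noncomputable def embι (X : A) : X ⟶ emb X := (exists_emb X).choose_spec.choose

instance (X : A) : Injective (emb X) := (exists_emb X).choose_spec.choose_spec.1

instance (X : A) : Mono (embι X) := (exists_emb X).choose_spec.choose_spec.2.1

lemma isZero_emb (X : A) (h : IsZero X) : IsZero (emb X) :=
  (exists_emb X).choose_spec.choose_spec.2.2 h

variable (C : CochainComplex A ℤ)

/-- the boundaries -/
noncomputable abbrev B (p : ℤ) : A := kernel (C.pOpcycles p)

/-- the injective receiving the boundaries -/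
noncomputable abbrev F (p : ℤ) : A := emb (B C p)

/-- the injective receiving the cokernel of the differential -/
noncomputable abbrev E' (p : ℤ) : A := emb (C.opcycles p)

/-- an extension of `B p ⟶ F p` to `C.X p` -/
noncomputable def f (p : ℤ) : C.X p ⟶ F C p :=
  Injective.factorThru (embι (B C p)) (kernel.ι (C.pOpcycles p))

lemma ι_f (p : ℤ) : kernel.ι (C.pOpcycles p) ≫ f C p = embι (B C p) :=
  Injective.comp_factorThru _ _

/-- the terms of `J` -/
noncomputable abbrev JX (p : ℤ) : A := F C p ⊞ (F C (p + 1) ⊞ E' C p)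

/-- the differential of `J` -/
noncomputable def Jd (p : ℤ) : JX C p ⟶ JX C (p + 1) :=
  biprod.snd ≫ biprod.fst ≫ biprod.inl

lemma Jd_comp (p : ℤ) : Jd C p ≫ Jd C (p + 1) = 0 := by
  simp [Jd]

/-- the complex `J` -/
noncomputable def J : CochainComplex A ℤ := CochainComplex.of (JX C) (Jd C) (Jd_comp C)

lemma J_d (p : ℤ) : (J C).d p (p + 1) = Jd C p := CochainComplex.of_d _ _ _

/-- the components of the embedding -/
noncomputable def jf (p : ℤ) : C.X p ⟶ JX C p :=
  biprod.lift (f C p) (biprod.lift (C.d p (p + 1) ≫ f C (p + 1)) (C.pOpcycles p ≫ embι _))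

lemma jf_Jd (p : ℤ) : jf C p ≫ Jd C p = C.d p (p + 1) ≫ jf C (p + 1) := by
  dsimp only [jf, Jd]
  apply biprod.hom_ext
  · simp only [Category.assoc, biprod.inl_fst, biprod.lift_fst, biprod.lift_snd_assoc,
      biprod.lift_fst_assoc, Category.comp_id]
  · apply biprod.hom_ext
    · simp only [Category.assoc, biprod.inl_snd_assoc, biprod.lift_snd_assoc,
        biprod.lift_fst, zero_comp, comp_zero, HomologicalComplex.d_comp_d_assoc]
    · simp only [Category.assoc, biprod.inl_snd_assoc, biprod.lift_snd_assoc,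
        biprod.lift_snd, zero_comp, comp_zero, HomologicalComplex.d_pOpcycles_assoc]

/-- the embedding -/
noncomputable def j : C ⟶ J C where
  f p := jf C p
  comm' p q hpq := by
    obtain rfl : p + 1 = q := hpq
    have h : (J C).d p (p + 1) = Jd C p := J_d C p
    have h2 : jf C p ≫ (J C).d p (p + 1) = jf C p ≫ Jd C p := congrArg (fun x => jf C p ≫ x) h
    exact h2.trans (jf_Jd C p)

instance mono_jf (p : ℤ) : Mono (jf C p) := by
  apply Preadditive.mono_of_cancel_zero
  intro T k hk
  have h1 : k ≫ f C p = 0 := by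
    have := congrArg (fun x => x ≫ biprod.fst) hk
    simpa only [jf, Category.assoc, biprod.lift_fst, zero_comp] using this
  have h3 : k ≫ C.pOpcycles p ≫ embι (C.opcycles p) = 0 := by
    have := congrArg (fun x => x ≫ biprod.snd ≫ biprod.snd) hk
    simpa only [jf, Category.assoc, biprod.lift_snd_assoc, biprod.lift_snd, zero_comp] using this
  have h3' : k ≫ C.pOpcycles p = 0 := by
    rw [← cancel_mono (embι (C.opcycles p)), Category.assoc, h3, zero_comp]
  have hk' : k = kernel.lift _ k h3' ≫ kernel.ι _ := (kernel.lift_ι _ _ _).symm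
  rw [hk', Category.assoc, ι_f] at h1
  have h4 : kernel.lift _ k h3' = 0 := by
    rw [← cancel_mono (embι (B C p)), h1, zero_comp]
  rw [hk', h4, zero_comp]

instance mono_j_f (p : ℤ) : Mono ((j C).f p) := mono_jf C p

instance mono_j : Mono (j C) := HomologicalComplex.mono_of_mono_f _ (fun p => mono_j_f C p)

instance injective_X (p : ℤ) : Injective ((J C).X p) := by
  show Injective (JX C p)
  infer_instance

/-- the contracting homotopy on the acyclic part -/
noncomputable def hh (p : ℤ) : JX C (p + 1) ⟶ JX C p :=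
  biprod.fst ≫ (biprod.inl : F C (p + 1) ⟶ F C (p + 1) ⊞ E' C p) ≫ biprod.inr

lemma Jd_hh_Jd (p : ℤ) : Jd C p ≫ hh C p ≫ Jd C p = Jd C p := by
  dsimp only [Jd, hh]
  simp only [Category.assoc, biprod.inl_fst_assoc, biprod.inr_snd_assoc, biprod.inl_fst,
    Category.comp_id]

/-- the third projection -/
noncomputable def π₃ (p : ℤ) : JX C p ⟶ E' C p := biprod.snd ≫ biprod.snd

lemma Jd_π₃ (p : ℤ) : Jd C p ≫ π₃ C (p + 1) = 0 := by
  dsimp only [Jd, π₃]
  simp only [Category.assoc, biprod.inl_snd_assoc, zero_comp, comp_zero]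

lemma jf_π₃ (p : ℤ) : jf C p ≫ π₃ C p = C.pOpcycles p ≫ embι (C.opcycles p) := by
  dsimp only [jf, π₃]
  simp only [biprod.lift_snd_assoc, biprod.lift_snd]

/-- `hh` retyped -/
noncomputable def hJ (p : ℤ) : (J C).X (p + 1) ⟶ (J C).X p := hh C p

lemma d_hJ_d (p : ℤ) : (J C).d p (p + 1) ≫ hJ C p ≫ (J C).d p (p + 1) = (J C).d p (p + 1) := by
  rw [J_d]
  exact Jd_hh_Jd C p

/-- the retraction onto the cycles -/
noncomputable def rZ (p : ℤ) : (J C).X p ⟶ (J C).cycles p :=
  (J C).liftCycles (𝟙 _ - (J C).d p (p + 1) ≫ hJ C p) (p + 1) (by simp) (by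
    rw [Preadditive.sub_comp, Category.id_comp, Category.assoc, d_hJ_d, sub_self])

lemma iCycles_rZ (p : ℤ) : (J C).iCycles p ≫ rZ C p = 𝟙 _ := by
  rw [← cancel_mono ((J C).iCycles p), Category.assoc, rZ, HomologicalComplex.liftCycles_i,
    Preadditive.comp_sub, Category.comp_id, HomologicalComplex.iCycles_d_assoc, zero_comp, sub_zero,
    Category.id_comp]

instance injective_cycles (p : ℤ) : Injective ((J C).cycles p) :=
  Retract.injective ⟨(J C).iCycles p, rZ C p, iCycles_rZ C p⟩

/-- the projection onto the homology part, as an endomorphism -/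
noncomputable def qq (i : ℤ) : (J C).X (i + 1) ⟶ (J C).X (i + 1) :=
  𝟙 _ - (J C).d (i + 1) (i + 1 + 1) ≫ hJ C (i + 1) - hJ C i ≫ (J C).d i (i + 1)

lemma d_qq (i : ℤ) : (J C).d i (i + 1) ≫ qq C i = 0 := by
  rw [qq, Preadditive.comp_sub, Preadditive.comp_sub, Category.comp_id,
    HomologicalComplex.d_comp_d_assoc, zero_comp, sub_zero, d_hJ_d, sub_self]

lemma qq_d (i : ℤ) : qq C i ≫ (J C).d (i + 1) (i + 1 + 1) = 0 := by
  rw [qq, Preadditive.sub_comp, Preadditive.sub_comp, Category.id_comp, Category.assoc,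
    d_hJ_d, sub_self, Category.assoc, HomologicalComplex.d_comp_d, comp_zero, sub_zero]

/-- `qq` with values in the cycles -/
noncomputable def qZ (i : ℤ) : (J C).X (i + 1) ⟶ (J C).cycles (i + 1) :=
  (J C).liftCycles (qq C i) (i + 1 + 1) (by simp) (qq_d C i)

lemma d_qZ (i : ℤ) : (J C).d i (i + 1) ≫ qZ C i = 0 := by
  rw [← cancel_mono ((J C).iCycles (i + 1)), Category.assoc, qZ, HomologicalComplex.liftCycles_i,
    d_qq, zero_comp]

/-- the section of the projection from cycles to homology -/
noncomputable def σ (i : ℤ) : (J C).homology (i + 1) ⟶ (J C).cycles (i + 1) :=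
  (J C).homologyι (i + 1) ≫ (J C).descOpcycles (qZ C i) i (by simp) (d_qZ C i)

lemma iCycles_qZ (i : ℤ) : (J C).iCycles (i + 1) ≫ qZ C i =
    𝟙 _ - ((J C).iCycles (i + 1) ≫ hJ C i) ≫ (J C).toCycles i (i + 1) := by
  rw [← cancel_mono ((J C).iCycles (i + 1)), Category.assoc, qZ, HomologicalComplex.liftCycles_i,
    Preadditive.sub_comp, Category.id_comp, Category.assoc, HomologicalComplex.toCycles_i, qq,
    Preadditive.comp_sub, Preadditive.comp_sub, Category.comp_id,
    HomologicalComplex.iCycles_d_assoc, zero_comp, sub_zero, Category.assoc]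

lemma σ_π (i : ℤ) : σ C i ≫ (J C).homologyπ (i + 1) = 𝟙 _ := by
  rw [← cancel_epi ((J C).homologyπ (i + 1)), σ, Category.assoc, HomologicalComplex.homology_π_ι_assoc,
    HomologicalComplex.p_descOpcycles_assoc, ← Category.assoc, iCycles_qZ, Preadditive.sub_comp, Category.id_comp,
    Category.assoc, HomologicalComplex.toCycles_comp_homologyπ, comp_zero, sub_zero,
    Category.comp_id]

instance injective_homology (p : ℤ) : Injective ((J C).homology p) := by
  obtain ⟨i, rfl⟩ : ∃ i, p = i + 1 := ⟨p - 1, by ring⟩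
  exact Retract.injective ⟨σ C i, (J C).homologyπ (i + 1), σ_π C i⟩

lemma d_π₃ (i p : ℤ) : (J C).d i p ≫ π₃ C p = 0 := by
  by_cases h : i + 1 = p
  · subst h
    rw [J_d]
    exact Jd_π₃ C i
  · rw [(J C).shape i p h, zero_comp]

/-- the map from the cokernel of the differential of `J` to its homology part -/
noncomputable def uu (p : ℤ) : (J C).opcycles p ⟶ E' C p :=
  (J C).descOpcycles (π₃ C p) _ rfl (d_π₃ C _ p)

lemma opcyclesMap_uu (p : ℤ) :
    HomologicalComplex.opcyclesMap (j C) p ≫ uu C p = embι (C.opcycles p) := by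
  rw [← cancel_epi (C.pOpcycles p), HomologicalComplex.p_opcyclesMap_assoc, uu,
    HomologicalComplex.p_descOpcycles]
  exact jf_π₃ C p

instance mono_opcyclesMap (p : ℤ) : Mono (HomologicalComplex.opcyclesMap (j C) p) :=
  mono_of_mono_fac (opcyclesMap_uu C p)

instance mono_homologyMap (p : ℤ) : Mono (HomologicalComplex.homologyMap (j C) p) := by
  have h := HomologicalComplex.homologyι_naturality (j C) p
  have : Mono (HomologicalComplex.homologyMap (j C) p ≫ (J C).homologyι p) := by
    rw [h]
    infer_instance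
  exact mono_of_mono _ ((J C).homologyι p)

lemma isZero_B (p : ℤ) (h : IsZero (C.X p)) : IsZero (B C p) :=
  IsZero.of_mono (kernel.ι (C.pOpcycles p)) h

lemma isZero_opcycles (p : ℤ) (h : IsZero (C.X p)) : IsZero (C.opcycles p) :=
  IsZero.of_epi (C.pOpcycles p) h

lemma isZero_B_succ (p : ℤ) (h : IsZero (C.X p)) : IsZero (B C (p + 1)) := by
  have : IsIso (C.pOpcycles (p + 1)) :=
    C.isIso_pOpcycles p (p + 1) (by simp) (h.eq_of_src _ _)
  exact isZero_kernel_of_mono _

lemma isZero_JX (p : ℤ) (h : IsZero (C.X p)) : IsZero ((J C).X p) := by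
  show IsZero (JX C p)
  have h1 : IsZero (F C p) := isZero_emb _ (isZero_B C p h)
  have h2 : IsZero (F C (p + 1)) := isZero_emb _ (isZero_B_succ C p h)
  have h3 : IsZero (E' C p) := isZero_emb _ (isZero_opcycles C p h)
  rw [IsZero.iff_id_eq_zero]
  apply biprod.hom_ext
  · exact h1.eq_of_tgt _ _
  · apply biprod.hom_ext
    · exact h2.eq_of_tgt _ _
    · exact h3.eq_of_tgt _ _

instance isStrictlyGE_J (n : ℤ) [C.IsStrictlyGE n] : (J C).IsStrictlyGE n := by
  rw [CochainComplex.isStrictlyGE_iff]
  intro p hp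
  exact isZero_JX C p (C.isZero_of_isStrictlyGE n p hp)

end CEStep

end Groth.Agent.Lib.helper27
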