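import Mathlib
import Groth.Agent.Lib.Helper27.CEStep

/-!
# helper27: the short exact sequence `0 → C → J C → Q C → 0` stays exact on terms, cycles and homology
-/

set_option autoImplicit false

namespace Groth.Agent.Lib.helper27

open CategoryTheory Limits ZeroObject

universe v u

namespace CEStep

variable {A : Type u} [Category.{v} A] [Abelian A] [EnoughInjectives A] (C : CochainComplex A ℤ)

/-- the cokernel of the embedding -/
noncomputable def Q : CochainComplex A ℤ := cokernel (j C)

/-- the projection -/
noncomputable def π : J C ⟶ Q C := cokernel.π (j C)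

instance : Epi (π C) := by
  show Epi (cokernel.π (j C))
  infer_instance

/-- the short exact sequence -/
noncomputable def S : ShortComplex (CochainComplex A ℤ) :=
  ShortComplex.mk (j C) (π C) (cokernel.condition _)

lemma S_shortExact : (S C).ShortExact where
  exact := ShortComplex.exact_cokernel (j C)
  mono_f := mono_j C
  epi_g := inferInstanceAs (Epi (π C))

lemma S_eval (p : ℤ) : ((S C).map (HomologicalComplex.eval A (ComplexShape.up ℤ) p)).ShortExact :=
  (HomologicalComplex.shortExact_iff_degreewise_shortExact (S C)).1 (S_shortExact C) p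

lemma δ_eq_zero (p q : ℤ) (hpq : p + 1 = q) : (S_shortExact C).δ p q hpq = 0 := by
  have h := (S_shortExact C).δ_comp p q hpq
  have : Mono (HomologicalComplex.homologyMap (S C).f q) := mono_homologyMap C q
  exact zero_of_comp_mono _ h

instance epi_homologyMap_π (p : ℤ) : Epi (HomologicalComplex.homologyMap (π C) p) := by
  have h := (S_shortExact C).homology_exact₃ p (p + 1) rfl
  exact h.epi_f (δ_eq_zero C p (p + 1) rfl)

lemma S_homology (p : ℤ) :
    ((S C).map (HomologicalComplex.homologyFunctor A (ComplexShape.up ℤ) p)).ShortExact where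
  exact := (S_shortExact C).homology_exact₂ p
  mono_f := mono_homologyMap C p
  epi_g := epi_homologyMap_π C p

instance mono_cyclesMap_j (p : ℤ) : Mono (HomologicalComplex.cyclesMap (j C) p) := by
  have h : HomologicalComplex.cyclesMap (j C) p ≫ (J C).iCycles p = C.iCycles p ≫ (j C).f p :=
    HomologicalComplex.cyclesMap_i (j C) p
  have : Mono (HomologicalComplex.cyclesMap (j C) p ≫ (J C).iCycles p) := by
    rw [h]
    infer_instance
  exact mono_of_mono _ ((J C).iCycles p)

instance epi_cyclesMap_π (p : ℤ) : Epi (HomologicalComplex.cyclesMap (π C) p) := by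
  obtain ⟨i, rfl⟩ : ∃ i, p = i + 1 := ⟨p - 1, by ring⟩
  let T₁ : ShortComplex A := ShortComplex.mk ((J C).toCycles i (i + 1)) ((J C).homologyπ (i + 1))
    (by simp)
  let T₂ : ShortComplex A := ShortComplex.mk ((Q C).toCycles i (i + 1)) ((Q C).homologyπ (i + 1))
    (by simp)
  let ψ : T₁ ⟶ T₂ :=
    { τ₁ := (π C).f i
      τ₂ := HomologicalComplex.cyclesMap (π C) (i + 1)
      τ₃ := HomologicalComplex.homologyMap (π C) (i + 1)
      comm₁₂ := by
        dsimp only [T₁, T₂]
        rw [← cancel_mono ((Q C).iCycles (i + 1)), Category.assoc, Category.assoc,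
          HomologicalComplex.cyclesMap_i, HomologicalComplex.toCycles_i_assoc,
          HomologicalComplex.toCycles_i, HomologicalComplex.Hom.comm]
      comm₂₃ := by
        dsimp only [T₁, T₂]
        exact (HomologicalComplex.homologyπ_naturality (π C) (i + 1)).symm }
  have hT₂ : T₂.Exact :=
    ShortComplex.exact_of_g_is_cokernel _ ((Q C).homologyIsCokernel i (i + 1) (by simp))
  have : Epi T₁.g := inferInstanceAs (Epi ((J C).homologyπ (i + 1)))
  have : Epi T₂.g := inferInstanceAs (Epi ((Q C).homologyπ (i + 1)))
  have : Epi ψ.τ₁ := inferInstanceAs (Epi ((π C).f i))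
  have : Epi ψ.τ₃ := epi_homologyMap_π C (i + 1)
  exact ShortComplex.epi_τ₂_of_exact_of_epi ψ hT₂

lemma S_cycles (p : ℤ) :
    ((S C).map (HomologicalComplex.cyclesFunctor A (ComplexShape.up ℤ) p)).ShortExact where
  exact := by
    have : Mono (S C).f := mono_j C
    exact HomologicalComplex.cycles_left_exact (S C) (S_shortExact C).exact p
  mono_f := mono_cyclesMap_j C p
  epi_g := epi_cyclesMap_π C p

instance isStrictlyGE_Q (n : ℤ) [C.IsStrictlyGE n] : (Q C).IsStrictlyGE n := by
  rw [CochainComplex.isStrictlyGE_iff]
  intro p hp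
  exact IsZero.of_epi ((π C).f p) ((J C).isZero_of_isStrictlyGE n p hp)

end CEStep

end Groth.Agent.Lib.helper27
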