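import Mathlib
import Groth.Prelude.Def_CE
import Groth.Agent.Lib.Helper27.CEStep2

/-!
# helper27: existence of Cartan–Eilenberg resolutions
-/

set_option autoImplicit false

namespace Groth.Agent.Lib.helper27

open CategoryTheory Limits ZeroObject

universe v u

namespace CEMain

section zcx

variable {V : Type*} [Category V] [HasZeroMorphisms V] [HasZeroObject V]

/-- the `ℤ`-indexed family attached to an `ℕ`-indexed family -/
noncomputable def zX (X : ℕ → V) : ℤ → V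
  | Int.ofNat m => X m
  | Int.negSucc _ => 0

/-- the differentials -/
noncomputable def zd (X : ℕ → V) (d : ∀ m, X m ⟶ X (m + 1)) : ∀ q : ℤ, zX X q ⟶ zX X (q + 1)
  | Int.ofNat m => d m
  | Int.negSucc _ => 0

/-- the `ℤ`-indexed cochain complex attached to an `ℕ`-indexed sequence -/
noncomputable def zCx (X : ℕ → V) (d : ∀ m, X m ⟶ X (m + 1)) (sq : ∀ m, d m ≫ d (m + 1) = 0) :
    CochainComplex V ℤ :=
  CochainComplex.of (zX X) (zd X d) (by
    rintro (m | k)
    · exact sq m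
    · exact zero_comp)

variable (X : ℕ → V) (d : ∀ m, X m ⟶ X (m + 1)) (sq : ∀ m, d m ≫ d (m + 1) = 0)

lemma zCx_d (m : ℕ) : (zCx X d sq).d (m : ℤ) ((m + 1 : ℕ) : ℤ) = d m :=
  CochainComplex.of_d _ _ (m : ℤ)

lemma isZero_zCx_X (k : ℕ) : IsZero ((zCx X d sq).X (Int.negSucc k)) :=
  isZero_zero V

end zcx

section splice

variable {A : Type u} [Category.{v} A] [Abelian A]
  (c i : ℕ → A) (a : ∀ m, c m ⟶ i m) (b : ∀ m, i m ⟶ c (m + 1))
  (hab : ∀ m, a m ≫ b m = 0) (hS : ∀ m, (ShortComplex.mk (a m) (b m) (hab m)).ShortExact)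

include hS in
lemma splice_exact (m : ℕ) :
    (ShortComplex.mk (b m ≫ a (m + 1)) (b (m + 1) ≫ a (m + 1 + 1))
      (by rw [Category.assoc, reassoc_of% (hab (m + 1)), zero_comp, comp_zero])).Exact := by
  have hm : Epi (b m) := (hS m).epi_g
  have hm' : Mono (a (m + 1 + 1)) := (hS (m + 1 + 1)).mono_f
  let S₁ : ShortComplex A := ShortComplex.mk (b m ≫ a (m + 1)) (b (m + 1) ≫ a (m + 1 + 1))
      (by rw [Category.assoc, reassoc_of% (hab (m + 1)), zero_comp, comp_zero])
  let S₂ : ShortComplex A := ShortComplex.mk (a (m + 1)) (b (m + 1)) (hab (m + 1))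
  let S₃ : ShortComplex A := ShortComplex.mk (a (m + 1)) (b (m + 1) ≫ a (m + 1 + 1))
      (by rw [reassoc_of% (hab (m + 1)), zero_comp])
  let φ : S₁ ⟶ S₃ := { τ₁ := b m, τ₂ := 𝟙 _, τ₃ := 𝟙 _ }
  let ψ : S₂ ⟶ S₃ := { τ₁ := 𝟙 _, τ₂ := 𝟙 _, τ₃ := a (m + 1 + 1) }
  have : Epi φ.τ₁ := hm
  have : IsIso φ.τ₂ := inferInstanceAs (IsIso (𝟙 _))
  have : Mono φ.τ₃ := inferInstanceAs (Mono (𝟙 _))
  have : Epi ψ.τ₁ := inferInstanceAs (Epi (𝟙 _))
  have : IsIso ψ.τ₂ := inferInstanceAs (IsIso (𝟙 _))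
  have : Mono ψ.τ₃ := hm'
  exact (ShortComplex.exact_iff_of_epi_of_isIso_of_mono φ).2
    ((ShortComplex.exact_iff_of_epi_of_isIso_of_mono ψ).1 (hS (m + 1)).exact)

include hS in
lemma splice_exact₀ :
    (ShortComplex.mk (a 0) (b 0 ≫ a 1) (by rw [reassoc_of% (hab 0), zero_comp])).Exact := by
  have hm' : Mono (a 1) := (hS 1).mono_f
  let S₂ : ShortComplex A := ShortComplex.mk (a 0) (b 0) (hab 0)
  let S₃ : ShortComplex A := ShortComplex.mk (a 0) (b 0 ≫ a 1) (by rw [reassoc_of% (hab 0), zero_comp])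
  let ψ : S₂ ⟶ S₃ := { τ₁ := 𝟙 _, τ₂ := 𝟙 _, τ₃ := a 1 }
  have : Epi ψ.τ₁ := inferInstanceAs (Epi (𝟙 _))
  have : IsIso ψ.τ₂ := inferInstanceAs (IsIso (𝟙 _))
  have : Mono ψ.τ₃ := hm'
  exact (ShortComplex.exact_iff_of_epi_of_isIso_of_mono ψ).1 (hS 0).exact

end splice

section column

lemma exact_congr {A : Type*} [Category A] [HasZeroMorphisms A] {X₁ X₂ X₃ : A} {f f' : X₁ ⟶ X₂}
    {g g' : X₂ ⟶ X₃} (hf : f = f') (hg : g = g') (w : f ≫ g = 0) (w' : f' ≫ g' = 0)
    (h : (ShortComplex.mk f g w).Exact) : (ShortComplex.mk f' g' w').Exact := by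
  subst hf hg
  exact h

variable {V : Type*} [Category V] [Preadditive V] [HasZeroObject V]
  {A : Type u} [Category.{v} A] [Abelian A]
  (Φ : V ⥤ A) [Φ.Additive]
  (X : ℕ → V) (d : ∀ m, X m ⟶ X (m + 1)) (sq : ∀ m, d m ≫ d (m + 1) = 0)
  (M : A) (a : M ⟶ Φ.obj (X 0))
  (h0 : a ≫ Φ.map (d 0) = 0)
  (hinj : ∀ m, Injective (Φ.obj (X m)))
  (hmono : Mono a)
  (hex0 : (ShortComplex.mk a (Φ.map (d 0)) h0).Exact)
  (hex : ∀ m, (ShortComplex.mk (Φ.map (d m)) (Φ.map (d (m + 1)))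
    (by rw [← Φ.map_comp, sq, Φ.map_zero])).Exact)

include hinj hmono hex0 hex in
theorem column :
    CE.IsInjResolutionVia ((Φ.mapHomologicalComplex (ComplexShape.up ℤ)).obj (zCx X d sq)) M a := by
  have hd0 : ((Φ.mapHomologicalComplex (ComplexShape.up ℤ)).obj (zCx X d sq)).d 0 1 = Φ.map (d 0) :=
    congrArg Φ.map (zCx_d X d sq 0)
  have hzero : ∀ k : ℕ, IsZero (((Φ.mapHomologicalComplex (ComplexShape.up ℤ)).obj
      (zCx X d sq)).X (Int.negSucc k)) := fun k => Φ.map_isZero (isZero_zCx_X X d sq k)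
  refine ⟨by rw [hd0]; exact h0, ?_, ?_, ?_, hmono, ?_⟩
  · rw [CochainComplex.isStrictlyGE_iff]
    rintro (m | k) hq
    · exact absurd hq (by simp)
    · exact hzero k
  · rintro (m | k)
    · exact hinj m
    · exact (hzero k).injective
  · rintro (m | k) hq
    · obtain _ | m := m
      · exact absurd rfl hq
      · show HomologicalComplex.ExactAt _ ((m + 1 : ℕ) : ℤ)
        refine (HomologicalComplex.exactAt_iff' _ ((m : ℕ) : ℤ) ((m + 1 : ℕ) : ℤ)
          ((m + 1 + 1 : ℕ) : ℤ) (by rw [CochainComplex.prev]; push_cast; ring)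
          (by rw [CochainComplex.next]; push_cast; ring)).2 ?_
        have e1 : ((Φ.mapHomologicalComplex (ComplexShape.up ℤ)).obj (zCx X d sq)).d
            ((m : ℕ) : ℤ) ((m + 1 : ℕ) : ℤ) = Φ.map (d m) := congrArg Φ.map (zCx_d X d sq m)
        have e2 : ((Φ.mapHomologicalComplex (ComplexShape.up ℤ)).obj (zCx X d sq)).d
            ((m + 1 : ℕ) : ℤ) ((m + 1 + 1 : ℕ) : ℤ) = Φ.map (d (m + 1)) :=
          congrArg Φ.map (zCx_d X d sq (m + 1))
        exact exact_congr e1.symm e2.symm _ _ (hex m)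
    · exact ShortComplex.exact_of_isZero_X₂ _ (hzero k)
  · exact exact_congr rfl hd0.symm _ _ hex0

end column

section main

open CEStep

instance cyclesFunctor_additive {A : Type u} [Category.{v} A] [Abelian A] {ι : Type*}
    (c : ComplexShape ι) (p : ι) : (HomologicalComplex.cyclesFunctor A c p).Additive where
  map_add {K L} {f g} := by
    show HomologicalComplex.cyclesMap (f + g) p =
      HomologicalComplex.cyclesMap f p + HomologicalComplex.cyclesMap g p
    rw [← cancel_mono (L.iCycles p), Preadditive.add_comp, HomologicalComplex.cyclesMap_i,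
      HomologicalComplex.cyclesMap_i, HomologicalComplex.cyclesMap_i,
      HomologicalComplex.add_f_apply, Preadditive.comp_add]

variable {A : Type u} [Category.{v} A] [Abelian A] [EnoughInjectives A] (K : CochainComplex A ℤ)

/-- the iterated cokernels -/
noncomputable def Cq : ℕ → CochainComplex A ℤ
  | 0 => K
  | (q + 1) => Q (Cq q)

/-- the rows of the Cartan–Eilenberg resolution -/
noncomputable def Iq (q : ℕ) : CochainComplex A ℤ := J (Cq K q)

/-- the projection `I_q ⟶ C_{q+1}` -/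
noncomputable def pq (q : ℕ) : Iq K q ⟶ Cq K (q + 1) := π (Cq K q)

/-- the embedding `C_q ⟶ I_q` -/
noncomputable def jq (q : ℕ) : Cq K q ⟶ Iq K q := j (Cq K q)

lemma jq_pq (q : ℕ) : jq K q ≫ pq K q = 0 := (S (Cq K q)).zero

/-- the vertical differential -/
noncomputable def dv (q : ℕ) : Iq K q ⟶ Iq K (q + 1) := pq K q ≫ jq K (q + 1)

lemma dv_comp (q : ℕ) : dv K q ≫ dv K (q + 1) = 0 := by
  rw [dv, dv, Category.assoc, reassoc_of% (jq_pq K (q + 1)), zero_comp, comp_zero]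

/-- the Cartan–Eilenberg resolution -/
noncomputable def I : CochainComplex (CochainComplex A ℤ) ℤ := zCx (Iq K) (dv K) (dv_comp K)

/-- the augmentation -/
noncomputable def ε : K ⟶ (I K).X 0 := jq K 0

lemma I_d : (I K).d 0 1 = dv K 0 := zCx_d (Iq K) (dv K) (dv_comp K) 0

lemma ε_d : ε K ≫ (I K).d 0 1 = 0 := by
  rw [I_d]
  show jq K 0 ≫ pq K 0 ≫ jq K (0 + 1) = 0
  exact (Category.assoc _ _ _).symm.trans
    ((congrArg (fun x => x ≫ jq K (0 + 1)) (jq_pq K 0)).trans zero_comp)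

lemma isStrictlyGE_Cq (n : ℤ) [K.IsStrictlyGE n] : ∀ q, (Cq K q).IsStrictlyGE n
  | 0 => inferInstanceAs (K.IsStrictlyGE n)
  | (q + 1) => by
    have := isStrictlyGE_Cq n q
    exact isStrictlyGE_Q (Cq K q) n

lemma isZero_I (n : ℤ) [K.IsStrictlyGE n] (p q : ℤ) (hp : p < n) : IsZero (((I K).X q).X p) := by
  obtain m | k := q
  · have := isStrictlyGE_Cq K n m
    have : (Iq K m).IsStrictlyGE n := isStrictlyGE_J (Cq K m) n
    exact (Iq K m).isZero_of_isStrictlyGE n p hp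
  · exact (HomologicalComplex.eval A (ComplexShape.up ℤ) p).map_isZero
      (isZero_zCx_X (Iq K) (dv K) (dv_comp K) k)

variable (Φ : CochainComplex A ℤ ⥤ A) [Φ.Additive]
  (hΦ : ∀ C : CochainComplex A ℤ, ((S C).map Φ).ShortExact)
  (hinj : ∀ C : CochainComplex A ℤ, Injective (Φ.obj (J C)))

include hΦ hinj in
theorem column_main :
    CE.IsInjResolutionVia ((Φ.mapHomologicalComplex (ComplexShape.up ℤ)).obj (I K)) (Φ.obj K)
      (Φ.map (ε K)) := by
  have hab : ∀ m, Φ.map (jq K m) ≫ Φ.map (pq K m) = 0 := fun m => by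
    rw [← Φ.map_comp, jq_pq, Φ.map_zero]
  have hS : ∀ m, (ShortComplex.mk (Φ.map (jq K m)) (Φ.map (pq K m)) (hab m)).ShortExact :=
    fun m => hΦ (Cq K m)
  have hdv : ∀ m, Φ.map (dv K m) = Φ.map (pq K m) ≫ Φ.map (jq K (m + 1)) := fun m => by
    rw [dv, Φ.map_comp]
  refine column Φ (Iq K) (dv K) (dv_comp K) (Φ.obj K) (Φ.map (ε K)) ?_ (fun m => hinj _)
    (hS 0).mono_f ?_ ?_
  · rw [hdv]
    show Φ.map (jq K 0) ≫ Φ.map (pq K 0) ≫ Φ.map (jq K (0 + 1)) = 0
    exact (Category.assoc _ _ _).symm.trans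
      ((congrArg (fun x => x ≫ Φ.map (jq K (0 + 1))) (hab 0)).trans zero_comp)
  · exact exact_congr rfl (hdv 0).symm _ _
      (splice_exact₀ (fun m => Φ.obj (Cq K m)) (fun m => Φ.obj (Iq K m))
        (fun m => Φ.map (jq K m)) (fun m => Φ.map (pq K m)) hab hS)
  · intro m
    exact exact_congr (hdv m).symm (hdv (m + 1)).symm _ _
      (splice_exact (fun m => Φ.obj (Cq K m)) (fun m => Φ.obj (Iq K m))
        (fun m => Φ.map (jq K m)) (fun m => Φ.map (pq K m)) hab hS m)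

end main

/-- **Existence of Cartan–Eilenberg resolutions.** -/
theorem main {A : Type u} [Category.{v} A] [Abelian A] [EnoughInjectives A]
    (K : CochainComplex A ℤ) (n : ℤ) [K.IsStrictlyGE n] :
    ∃ (I : CochainComplex (CochainComplex A ℤ) ℤ) (ε : K ⟶ I.X 0) (hε : ε ≫ I.d 0 1 = 0),
      (∃ i : ℤ, ∀ p q : ℤ, p < i → IsZero ((I.X q).X p)) ∧
      (∀ p : ℤ, CE.IsInjResolutionVia (((HomologicalComplex.eval A (ComplexShape.up ℤ) p).mapHomologicalComplex (ComplexShape.up ℤ)).obj I) (K.X p) (ε.f p)) ∧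
      (∀ p : ℤ, CE.IsInjResolutionVia (((HomologicalComplex.cyclesFunctor A (ComplexShape.up ℤ) p).mapHomologicalComplex (ComplexShape.up ℤ)).obj I) (K.cycles p) (HomologicalComplex.cyclesMap ε p)) ∧
      (∀ p : ℤ, CE.IsInjResolutionVia (((HomologicalComplex.homologyFunctor A (ComplexShape.up ℤ) p).mapHomologicalComplex (ComplexShape.up ℤ)).obj I) (K.homology p) (HomologicalComplex.homologyMap ε p)) := by
  refine ⟨I K, ε K, ε_d K, ⟨n, fun p q hp => isZero_I K n p q hp⟩, fun p => ?_, fun p => ?_, fun p => ?_⟩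
  · exact column_main K (HomologicalComplex.eval A (ComplexShape.up ℤ) p)
      (fun C => CEStep.S_eval C p) (fun C => CEStep.injective_X C p)
  · exact column_main K (HomologicalComplex.cyclesFunctor A (ComplexShape.up ℤ) p)
      (fun C => CEStep.S_cycles C p) (fun C => CEStep.injective_cycles C p)
  · exact column_main K (HomologicalComplex.homologyFunctor A (ComplexShape.up ℤ) p)
      (fun C => CEStep.S_homology C p) (fun C => CEStep.injective_homology C p)

end CEMain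

end Groth.Agent.Lib.helper27
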