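import Mathlib
import Groth.Prelude.Def_FibCat2

open CategoryTheory CategoryTheory.Functor CategoryTheory.Limits

universe v u

namespace Groth.Agent.Lib.helper27.CatPbFibGrpd

variable {S : Type u} [Category.{v} S] {X : Type u} [Category.{v} X]
    {Y : Type u} [Category.{v} Y]

lemma strongly (πX : X ⥤ S) (hX : FibCat.IsFibGrpd πX) {R S' : S} {a b : X} (h : R ⟶ S')
    (k : a ⟶ b) [πX.IsHomLift h k] : πX.IsStronglyCartesian h k := by
  subst_hom_lift πX h k
  exact hX.isStronglyCartesian k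

lemma lift_comp (πX : X ⥤ S) (F : Y ⥤ X) {R S' : S} {a b : Y} (h : R ⟶ S')
    (ψ : a ⟶ b) [(F ⋙ πX).IsHomLift h ψ] : πX.IsHomLift h (F.map ψ) := by
  subst_hom_lift (F ⋙ πX) h ψ
  exact (inferInstance : πX.IsHomLift (πX.map (F.map ψ)) (F.map ψ))

theorem claim1 (πX : X ⥤ S) (F : Y ⥤ X) (hX : FibCat.IsFibGrpd πX)
    (hY : FibCat.IsFibGrpd (F ⋙ πX)) :
    FibCat.IsFibGrpd (CategoricalPullback.π₂ F (𝟭 X)) where
  exists_lift := by
    intro p₁ x₀ f
    let φ : F.obj p₁.fst ≅ p₁.snd := p₁.iso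
    let f' : x₀ ⟶ p₁.snd := f
    let h : πX.obj x₀ ⟶ (F ⋙ πX).obj p₁.fst := πX.map (f' ≫ φ.inv)
    obtain ⟨y₀, ψ, hψ⟩ := hY.exists_lift h
    have : πX.IsHomLift h (F.map ψ) := lift_comp πX F h ψ
    have : πX.IsStronglyCartesian h (F.map ψ) := strongly πX hX h (F.map ψ)
    have : πX.IsHomLift h (f' ≫ φ.inv) := (inferInstance : πX.IsHomLift (πX.map _) _)
    let χ : x₀ ⟶ F.obj y₀ :=
      IsStronglyCartesian.map πX h (F.map ψ) (g := 𝟙 _) (Category.id_comp h).symm (f' ≫ φ.inv)
    have hχ : χ ≫ F.map ψ = f' ≫ φ.inv := IsStronglyCartesian.fac _ _ _ _ _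
    have : πX.IsStronglyCartesian (𝟙 (πX.obj x₀)) χ := strongly πX hX _ χ
    have : IsIso χ := IsStronglyCartesian.isIso_of_base_isIso πX (𝟙 (πX.obj x₀)) χ
    let p₀ : CategoricalPullback F (𝟭 X) := ⟨y₀, x₀, (asIso χ).symm⟩
    let m : p₀ ⟶ p₁ := ⟨ψ, f', by
      show F.map ψ ≫ φ.hom = inv χ ≫ f'
      rw [IsIso.eq_inv_comp, ← Category.assoc, hχ, Category.assoc, Iso.inv_hom_id,
        Category.comp_id]⟩
    exact ⟨p₀, m, (inferInstance :
      (CategoricalPullback.π₂ F (𝟭 X)).IsHomLift ((CategoricalPullback.π₂ F (𝟭 X)).map m) m)⟩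
  isStronglyCartesian := by
    intro p' p m
    refine { toIsHomLift := inferInstance, universal_property' := ?_ }
    intro p'' g m' hm'
    -- the second component of `m'`
    have hd : m'.snd = g ≫ m.snd := by
      have := IsHomLift.fac (CategoricalPullback.π₂ F (𝟭 X))
        (g ≫ (CategoricalPullback.π₂ F (𝟭 X)).map m) m'
      simp only [eqToHom_refl, Category.id_comp, Category.comp_id] at this
      exact this.symm
    let g' : p''.snd ⟶ p'.snd := g
    have hd' : m'.snd = g' ≫ m.snd := hd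
    let k₀ : F.obj p''.fst ⟶ F.obj p'.fst := p''.iso.hom ≫ g' ≫ p'.iso.inv
    let k : (F ⋙ πX).obj p''.fst ⟶ (F ⋙ πX).obj p'.fst := πX.map k₀
    have hFa : F.map m.fst = p'.iso.hom ≫ m.snd ≫ p.iso.inv := by
      have := m.w
      simp only [Functor.id_map] at this
      rw [← Category.assoc, Iso.eq_comp_inv, this]
    have hFc : F.map m'.fst = p''.iso.hom ≫ m'.snd ≫ p.iso.inv := by
      have := m'.w
      simp only [Functor.id_map] at this
      rw [← Category.assoc, Iso.eq_comp_inv, this]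
    have hk₀ : k₀ ≫ F.map m.fst = F.map m'.fst := by
      rw [hFa, hFc, hd']
      simp only [k₀, Category.assoc, Iso.inv_hom_id_assoc]
    have hk : (F ⋙ πX).map m'.fst = k ≫ (F ⋙ πX).map m.fst := by
      show πX.map (F.map m'.fst) = πX.map k₀ ≫ πX.map (F.map m.fst)
      rw [← πX.map_comp, hk₀]
    have : (F ⋙ πX).IsStronglyCartesian ((F ⋙ πX).map m.fst) m.fst :=
      hY.isStronglyCartesian m.fst
    let e : p''.fst ⟶ p'.fst :=
      IsStronglyCartesian.map (F ⋙ πX) ((F ⋙ πX).map m.fst) m.fst (g := k) hk m'.fst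
    have he : e ≫ m.fst = m'.fst := IsStronglyCartesian.fac _ _ _ _ _
    have heL : (F ⋙ πX).IsHomLift k e := IsStronglyCartesian.map_isHomLift _ _ _ _ _
    -- `F.map e = k₀`
    have : πX.IsStronglyCartesian (πX.map (F.map m.fst)) (F.map m.fst) :=
      hX.isStronglyCartesian _
    have hk' : πX.map (F.map m'.fst) = k ≫ πX.map (F.map m.fst) := hk
    have h1 : πX.IsHomLift k (F.map e) := lift_comp πX F k e
    have h2 : πX.IsHomLift k k₀ := (inferInstance : πX.IsHomLift (πX.map k₀) k₀)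
    have hFe : F.map e = k₀ := by
      have u1 := IsStronglyCartesian.map_uniq πX (πX.map (F.map m.fst)) (F.map m.fst) hk'
        (F.map m'.fst) (F.map e) (by rw [← F.map_comp, he])
      have u2 := IsStronglyCartesian.map_uniq πX (πX.map (F.map m.fst)) (F.map m.fst) hk'
        (F.map m'.fst) k₀ hk₀
      rw [u1, u2]
    let χ : p'' ⟶ p' := ⟨e, g', by
      show F.map e ≫ p'.iso.hom = p''.iso.hom ≫ g'
      rw [hFe]
      simp [k₀]⟩
    refine ⟨χ, ⟨(inferInstance : (CategoricalPullback.π₂ F (𝟭 X)).IsHomLift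
      ((CategoricalPullback.π₂ F (𝟭 X)).map χ) χ), ?_⟩, ?_⟩
    · ext
      · exact he
      · exact hd.symm
    · rintro χ' ⟨hχ'₁, hχ'₂⟩
      have hs : χ'.snd = g' := by
        have := IsHomLift.fac (CategoricalPullback.π₂ F (𝟭 X)) g χ'
        simp only [eqToHom_refl, Category.id_comp, Category.comp_id] at this
        exact this.symm
      have hFχ : F.map χ'.fst = k₀ := by
        have := χ'.w
        simp only [Functor.id_map] at this
        rw [hs] at this
        show F.map χ'.fst = p''.iso.hom ≫ g' ≫ p'.iso.inv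
        rw [← Category.assoc, Iso.eq_comp_inv, this]
      have hL : (F ⋙ πX).IsHomLift k χ'.fst := by
        have : k = (F ⋙ πX).map χ'.fst := by
          show πX.map k₀ = πX.map (F.map χ'.fst)
          rw [hFχ]
        rw [this]
        infer_instance
      have hc : χ'.fst ≫ m.fst = m'.fst := by
        rw [← hχ'₂]
        rfl
      ext
      · exact IsStronglyCartesian.map_uniq (F ⋙ πX) ((F ⋙ πX).map m.fst) m.fst hk m'.fst χ'.fst hc
      · exact hs

end Groth.Agent.Lib.helper27.CatPbFibGrpd
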