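import Mathlib
import Groth.Agent.Lib.Helper27.AFCMap
import Groth.Agent.Lib.Helper27.QIsoEval

set_option autoImplicit false
set_option linter.unusedSectionVars false

namespace Groth.Agent.Lib.helper27

open CategoryTheory Limits Opposite Simplicial SimplicialObject AlgebraicTopology

namespace CechAbs

section joint

variable {𝒜 ℬ : Type*} [Category 𝒜] [Category ℬ] [Abelian 𝒜] [Abelian ℬ] {ι : Type*}
  (G : ι → 𝒜 ⥤ ℬ) [∀ x, (G x).Additive] [∀ x, (G x).PreservesHomology]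
  (hG : ∀ {A B : 𝒜} (f : A ⟶ B), (∀ x, IsIso ((G x).map f)) → IsIso f)

include hG in
lemma shortComplex_quasiIso_of_joint {S₁ S₂ : ShortComplex 𝒜} (ψ : S₁ ⟶ S₂)
    (h : ∀ x, ShortComplex.QuasiIso ((G x).mapShortComplex.map ψ)) :
    ShortComplex.QuasiIso ψ := by
  rw [ShortComplex.quasiIso_iff]
  apply hG
  intro x
  have hx := h x
  rw [ShortComplex.quasiIso_iff] at hx
  have nat := ShortComplex.mapHomologyIso_hom_naturality ψ (G x)
  exact QIsoEval.isIso_of_comm _ _ _ _ nat hx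

include hG in
lemma quasiIso_of_joint {κ : Type*} {c : ComplexShape κ}
    {K L : HomologicalComplex 𝒜 c} (φ : K ⟶ L)
    (h : ∀ x, QuasiIso (((G x).mapHomologicalComplex c).map φ)) :
    QuasiIso φ := by
  rw [quasiIso_iff]
  intro i
  rw [quasiIsoAt_iff]
  apply shortComplex_quasiIso_of_joint G hG
  intro x
  have hx := h x
  rw [quasiIso_iff] at hx
  have := hx i
  rw [quasiIsoAt_iff] at this
  exact this

end joint

section Complex

variable {D : Type*} [Category D] {𝒜 : Type*} [Category 𝒜] [Abelian 𝒜]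
  (Y : SimplicialObject.Augmented D) (Φ : Dᵒᵖ ⥤ 𝒜)

/-- the augmented simplicial object in `𝒜ᵒᵖ` obtained by applying `Φ` -/
noncomputable def X' : SimplicialObject.Augmented 𝒜ᵒᵖ :=
  ((Augmented.whiskering _ _).obj Φ.rightOp).obj Y

/-- the chain complex in `𝒜ᵒᵖ` -/
noncomputable def K' : ChainComplex 𝒜ᵒᵖ ℕ :=
  AlgebraicTopology.AlternatingFaceMapComplex.obj (Augmented.drop.obj (X' Y Φ))

/-- the cochain complex `p ↦ Φ(Y_p)` with the alternating sum of the cofaces as differential -/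
noncomputable def K : CochainComplex 𝒜 ℕ := (K' Y Φ).unop

lemma K_X (p : ℕ) : (K Y Φ).X p = Φ.obj (op (Y.left.obj (op ⦋p⦌))) := rfl

/-- the augmentation -/
noncomputable def ε' :
    K' Y Φ ⟶ (ChainComplex.single₀ 𝒜ᵒᵖ).obj (Augmented.point.obj (X' Y Φ)) :=
  AlternatingFaceMapComplex.ε.app (X' Y Φ)

variable {Y Φ}

theorem K_homology_zero (h : QuasiIso (ε' Y Φ)) :
    Nonempty ((K Y Φ).homology 0 ≅ Φ.obj (op Y.right)) := by
  let e1 := isoOfQuasiIsoAt (ε' Y Φ) 0
  let e2 := HomologicalComplex.singleObjHomologySelfIso (ComplexShape.down ℕ) 0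
    (Augmented.point.obj (X' Y Φ))
  let e3 := (K' Y Φ).homologyUnop 0
  exact ⟨e3 ≪≫ (e1 ≪≫ e2).unop.symm⟩

theorem K_homology_succ (h : QuasiIso (ε' Y Φ)) (p : ℕ) :
    IsZero ((K Y Φ).homology (p + 1)) := by
  let e1 := isoOfQuasiIsoAt (ε' Y Φ) (p + 1)
  have hz : IsZero (((ChainComplex.single₀ 𝒜ᵒᵖ).obj
      (Augmented.point.obj (X' Y Φ))).homology (p + 1)) :=
    HomologicalComplex.isZero_single_obj_homology (ComplexShape.down ℕ) 0 _ (p + 1) (by omega)
  have hz' : IsZero ((K' Y Φ).homology (p + 1)) := hz.of_iso e1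
  exact hz'.unop.of_iso ((K' Y Φ).homologyUnop (p + 1))

end Complex

section detect

variable {D : Type*} [Category D] {𝒜 ℬ : Type*} [Category 𝒜] [Abelian 𝒜] [Category ℬ] [Abelian ℬ]
  (Y : SimplicialObject.Augmented D) (Φ : Dᵒᵖ ⥤ 𝒜)

lemma op_preservesHomology (G : 𝒜 ⥤ ℬ) [G.Additive] [PreservesFiniteLimits G]
    [PreservesFiniteColimits G] : G.op.PreservesHomology := by
  have : PreservesFiniteLimits G.op := preservesFiniteLimits_op G
  have : PreservesFiniteColimits G.op := preservesFiniteColimits_op G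
  infer_instance

theorem quasiIso_of_joint' {ι : Type*} (G : ι → 𝒜 ⥤ ℬ) [∀ x, (G x).Additive]
    [∀ x, PreservesFiniteLimits (G x)] [∀ x, PreservesFiniteColimits (G x)]
    (hG : ∀ {A B : 𝒜} (f : A ⟶ B), (∀ x, IsIso ((G x).map f)) → IsIso f)
    (h : ∀ x, QuasiIso (ε' Y (Φ ⋙ G x))) : QuasiIso (ε' Y Φ) := by
  have : ∀ x, (G x).op.PreservesHomology := fun x => op_preservesHomology (G x)
  apply quasiIso_of_joint (fun x => (G x).op)
  · intro A B f hf
    have : IsIso f.unop := hG f.unop (fun x => by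
      have := hf x
      exact (isIso_unop_iff ((G x).op.map f)).2 this)
    exact (isIso_unop_iff f).1 this
  · intro x
    exact (AFCMap.quasiIso_iff Φ.rightOp (G x).op Y).2 (h x)

end detect

section ed

variable {D : Type*} [Category D] {ℬ : Type*} [Category ℬ] [Abelian ℬ]
  (Y : SimplicialObject.Augmented D) {E : Type*} [Category E] (Λ : D ⥤ E) (Ψ : Eᵒᵖ ⥤ ℬ)

/-- double whiskering -/
noncomputable def whiskIso :
    ((Augmented.whiskering _ _).obj Ψ.rightOp).obj (((Augmented.whiskering _ _).obj Λ).obj Y) ≅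
      X' Y (Λ.op ⋙ Ψ) :=
  Comma.isoMk (Iso.refl _) (Iso.refl _) (by
    apply NatTrans.ext
    funext n
    simp [X', Augmented.whiskering, Augmented.whiskeringObj]
    exact Category.id_comp _)

lemma quasiIso_ed (ed : Augmented.ExtraDegeneracy (((Augmented.whiskering _ _).obj Λ).obj Y)) :
    QuasiIso (ε' Y (Λ.op ⋙ Ψ)) :=
  (Augmented.ExtraDegeneracy.ofIso (whiskIso Y Λ Ψ) (ed.map Ψ.rightOp)).homotopyEquiv.quasiIso_hom

variable (Φ' : Dᵒᵖ ⥤ ℬ) (τ : Φ' ⟶ Λ.op ⋙ Ψ)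

/-- the morphism of augmented simplicial objects induced by `τ` -/
noncomputable def θhom : X' Y (Λ.op ⋙ Ψ) ⟶ X' Y Φ' :=
  ((Augmented.whiskering _ _).map (NatTrans.rightOp τ)).app Y

theorem quasiIso_of_ed (hτ : ∀ n, IsIso (τ.app (op (Y.left.obj n))))
    (hτ' : IsIso (τ.app (op Y.right)))
    (ed : Augmented.ExtraDegeneracy (((Augmented.whiskering _ _).obj Λ).obj Y)) :
    QuasiIso (ε' Y Φ') := by
  have h := quasiIso_ed Y Λ Ψ ed
  have h1 : ∀ n, IsIso ((θhom Y Λ Ψ Φ' τ).left.app n) := fun n => by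
    have := hτ n
    exact (isIso_op_iff (τ.app (op (Y.left.obj n)))).2 this
  have h2 : IsIso (θhom Y Λ Ψ Φ' τ).left := NatIso.isIso_of_isIso_app _
  have h3 : IsIso (θhom Y Λ Ψ Φ' τ).right :=
    (isIso_op_iff (τ.app (op Y.right))).2 hτ'
  let θ : X' Y (Λ.op ⋙ Ψ) ≅ X' Y Φ' :=
    Comma.isoMk (@asIso _ _ _ _ _ h2) (@asIso _ _ _ _ _ h3) (θhom Y Λ Ψ Φ' τ).w
  have e : Arrow.mk (ε' Y (Λ.op ⋙ Ψ)) ≅ Arrow.mk (ε' Y Φ') :=
    Arrow.isoMk ((Augmented.drop ⋙ alternatingFaceMapComplex _).mapIso θ)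
      ((Augmented.point ⋙ ChainComplex.single₀ _).mapIso θ)
      (AlternatingFaceMapComplex.ε.naturality θ.hom)
  exact (quasiIso_iff_of_arrow_mk_iso _ _ e).1 h

end ed

end CechAbs

end Groth.Agent.Lib.helper27
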