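import Mathlib
import Groth.Prelude.Def_FibDesc
import Groth.Agent.Lib.Helper27.DecNat3

set_option autoImplicit false
set_option linter.unusedSectionVars false
set_option linter.unusedVariables false
set_option linter.style.haveILetI false
set_option backward.isDefEq.respectTransparency false
set_option backward.isDefEq.respectTransparency.types false

namespace Groth.Agent.Lib.helper27

open CategoryTheory Limits Opposite Pseudofunctor Pseudofunctor.CoGrothendieck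
open FibDesc TopologicalSpace

universe u

namespace DecNat

open BigSec TotSide TAug RanV SqSec PullConst DecDef TpFun

variable {D : Type} [SmallCategory D] {Y : (WithInitial D)ᵒᵖ ⥤ TopCat.{u}} (c : Contr Y)
  (K : CohTop.Ab (Y.obj (bot D)))

lemma e_aP (n : Dᵒᵖ) : c.e n ≫ aP Y (c.sh.obj n) = aP Y n := by
  rw [← Ym_aP Y (dm c n), ← Category.assoc, c.e_d, Category.id_comp]

lemma hDD (n : Dᵒᵖ) (V : Opens (Y.obj (bot D))) :
    (Opens.map (aP Y n)).obj V ≤
      (Opens.map (c.e n)).obj ((Opens.map (aP Y (c.sh.obj n))).obj V) := by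
  intro p hp
  show (c.e n ≫ aP Y (c.sh.obj n)) p ∈ V
  rw [e_aP]
  exact hp

/-- the image of a section of `K` under the double unit -/
noncomputable def DD (n : Dᵒᵖ) (V : Opens (Y.obj (bot D))) (y₀ : K.obj.obj (op V)) :
    (DecOb c ((TpF Y).obj K) n).obj.obj (op ((Opens.map (aP Y n)).obj V)) :=
  (DecOb c ((TpF Y).obj K) n).obj.map (homOfLE (hDD c n V)).op
    (ρ (c.e n) (Gl K (c.sh.obj n)) ((Opens.map (aP Y (c.sh.obj n))).obj V)
      (ρ (aP Y (c.sh.obj n)) K V y₀))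

lemma DD_eq (n : Dᵒᵖ) (V : Opens (Y.obj (bot D))) (y₀ : K.obj.obj (op V))
    (U₁ : Opens (Xs Y (c.sh.obj n))) (h₁ : U₁ ≤ (Opens.map (aP Y (c.sh.obj n))).obj V)
    (hW : (Opens.map (aP Y n)).obj V ≤ (Opens.map (c.e n)).obj U₁) :
    (DecOb c ((TpF Y).obj K) n).obj.map (homOfLE hW).op
      (ρ (c.e n) (Gl K (c.sh.obj n)) U₁
        (((CohTop.pull (aP Y (c.sh.obj n))).obj K).obj.map (homOfLE h₁).op
          (ρ (aP Y (c.sh.obj n)) K V y₀))) = DD c K n V y₀ := by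
  have e1 := level_map K (c.sh.obj n) h₁ (ρ (aP Y (c.sh.obj n)) K V y₀)
  rw [← e1]
  exact (ρ_res_eq (c.e n) (Gl K (c.sh.obj n)) h₁ (ρ (aP Y (c.sh.obj n)) K V y₀)
    (hDD c n V) hW).symm

lemma β_DD (n : Dᵒᵖ) (V : Opens (Y.obj (bot D))) (y₀ : K.obj.obj (op V)) :
    βsec c ((TpF Y).obj K) n ((Opens.map (aP Y n)).obj V) (ρ (aP Y n) K V y₀) =
      DD c K n V y₀ := by
  rw [βsec_apply]
  let W : Opens (Xs Y n) := (Opens.map (aP Y n)).obj V
  let U₀ : Opens (Xs Y (c.sh.obj n)) := (Opens.map (Ym Y (dm c n))).obj W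
  have hle : U₀ ≤ (Opens.map (aP Y (c.sh.obj n))).obj V := by
    intro p hp
    have : (Ym Y (dm c n) ≫ aP Y n) p ∈ V := hp
    rw [Ym_aP] at this
    exact this
  have e1 := Tp_map K (tpHom Y (dm c n) (le_refl U₀)) (ρ (aP Y n) K V y₀)
  have e2 : θsec K (Ym Y (dm c n)) (aP Y n) (aP Y (c.sh.obj n)) (Ym_aP Y (dm c n)) W
      (ρ (aP Y n) K V y₀) =
      ((CohTop.pull (aP Y (c.sh.obj n))).obj K).obj.map (homOfLE hle).op
        (ρ (aP Y (c.sh.obj n)) K V y₀) :=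
    ConcreteCategory.congr_hom
      (ρ_θsec K (Ym Y (dm c n)) (aP Y n) (aP Y (c.sh.obj n)) (Ym_aP Y (dm c n)) V hle) y₀
  have e3 : ((TpF Y).obj K).obj.map (tpHom Y (dm c n) (le_refl U₀)).op (ρ (aP Y n) K V y₀) =
      ((CohTop.pull (aP Y (c.sh.obj n))).obj K).obj.map (homOfLE hle).op
        (ρ (aP Y (c.sh.obj n)) K V y₀) := by
    refine e1.trans ?_
    show ((CohTop.pull (aP Y (c.sh.obj n))).obj K).obj.map _
      (θsec K (Ym Y (dm c n)) (aP Y n) (aP Y (c.sh.obj n)) (Ym_aP Y (dm c n)) W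
        (ρ (aP Y n) K V y₀)) = _
    rw [e2]
    exact map_map_hom ((CohTop.pull (aP Y (c.sh.obj n))).obj K).obj (homOfLE hle) _
      (homOfLE hle) _
  rw [e3]
  exact DD_eq c K n V y₀ U₀ hle (hd c n W)

lemma α_DD (n : Dᵒᵖ) (V : Opens (Y.obj (bot D))) (y₀ : K.obj.obj (op V)) :
    Θsec (Ym Y (c.v n)) (strM Y ((TpF Y).obj K) (c.v n)) (aP Y n) c.s (c.e n) (c.e_v n).symm V
      (cinvSec c K V y₀) = DD c K n V y₀ := by
  rw [cinvSec_apply]
  let U : Opens (Xs Y c.z) := (Opens.map (aP Y c.z)).obj V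
  let U₁ : Opens (Xs Y (c.sh.obj n)) := (Opens.map (Ym Y (c.v n))).obj U
  let m := ρ (aP Y c.z) K V y₀
  have hle : U₁ ≤ (Opens.map (aP Y (c.sh.obj n))).obj V := by
    intro p hp
    have : (Ym Y (c.v n) ≫ aP Y c.z) p ∈ V := hp
    rw [Ym_aP] at this
    exact this
  have hsq := sq_le (Ym Y (c.v n)) c.s (c.e n) (aP Y n) (c.e_v n).symm U
  have e1 := Θsec_res_apply (Ym Y (c.v n)) (strM Y ((TpF Y).obj K) (c.v n)) (aP Y n) c.s (c.e n)
    (c.e_v n).symm (homOfLE (hs c V)) (ρ c.s (Gl K c.z) U m)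
  have e2 := ρ_Θsec (Ym Y (c.v n)) (strM Y ((TpF Y).obj K) (c.v n)) (aP Y n) c.s (c.e n)
    (c.e_v n).symm U hsq m
  have e3a := Tp_map K (tpHom Y (c.v n) (le_refl U₁)) m
  have e3b : θsec K (Ym Y (c.v n)) (aP Y c.z) (aP Y (c.sh.obj n)) (Ym_aP Y (c.v n)) U m =
      ((CohTop.pull (aP Y (c.sh.obj n))).obj K).obj.map (homOfLE hle).op
        (ρ (aP Y (c.sh.obj n)) K V y₀) :=
    ConcreteCategory.congr_hom
      (ρ_θsec K (Ym Y (c.v n)) (aP Y c.z) (aP Y (c.sh.obj n)) (Ym_aP Y (c.v n)) V hle) y₀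
  have e3 : (strM Y ((TpF Y).obj K) (c.v n)).hom.app (op U) m =
      ((CohTop.pull (aP Y (c.sh.obj n))).obj K).obj.map (homOfLE hle).op
        (ρ (aP Y (c.sh.obj n)) K V y₀) := by
    refine e3a.trans ?_
    show ((CohTop.pull (aP Y (c.sh.obj n))).obj K).obj.map _
      (θsec K (Ym Y (c.v n)) (aP Y c.z) (aP Y (c.sh.obj n)) (Ym_aP Y (c.v n)) U m) = _
    rw [e3b]
    exact map_map_hom ((CohTop.pull (aP Y (c.sh.obj n))).obj K).obj (homOfLE hle) _
      (homOfLE hle) _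
  rw [e1, e2, e3]
  have hW : (Opens.map (aP Y n)).obj V ≤ (Opens.map (c.e n)).obj U₁ :=
    le_trans ((Opens.map (aP Y n)).monotone (hs c V)) hsq
  have e4 := map_map_hom (DecOb c ((TpF Y).obj K) n).obj (homOfLE hsq)
    ((Opens.map (aP Y n)).map (homOfLE (hs c V))) (homOfLE hW)
    (ρ (c.e n) (Gl K (c.sh.obj n)) U₁
      (((CohTop.pull (aP Y (c.sh.obj n))).obj K).obj.map (homOfLE hle).op
        (ρ (aP Y (c.sh.obj n)) K V y₀)))
  exact e4.trans (DD_eq c K n V y₀ U₁ hle hW)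

/-- the level `n` of `β` at `Tp K` -/
noncomputable def bn (n : Dᵒᵖ) : (CohTop.pull (aP Y n)).obj K ⟶ DecOb c ((TpF Y).obj K) n :=
  (levelIso K n).inv ≫ (restrP Y n).map (βM c ((TpF Y).obj K)) ≫
    (decLevel c n).hom.app ((TpF Y).obj K)

lemma bn_app (n : Dᵒᵖ) (W : Opens (Xs Y n)) (x : ((CohTop.pull (aP Y n)).obj K).obj.obj (op W)) :
    (bn c K n).hom.app (op W) x = βsec c ((TpF Y).obj K) n W x := rfl

lemma bn_res (n : Dᵒᵖ) {W W' : Opens (Xs Y n)} (h : W' ≤ W)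
    (x : ((CohTop.pull (aP Y n)).obj K).obj.obj (op W)) :
    (bn c K n).hom.app (op W') (((CohTop.pull (aP Y n)).obj K).obj.map (homOfLE h).op x) =
      (DecOb c ((TpF Y).obj K) n).obj.map (homOfLE h).op ((bn c K n).hom.app (op W) x) :=
  ConcreteCategory.congr_hom ((bn c K n).hom.naturality (homOfLE h).op) x

/-- the identity relating `α` and `β` on the levels -/
lemma α_β_level (n : Dᵒᵖ) :
    (CohTop.pull (aP Y n)).map (cinv c K) ≫ an c ((TpF Y).obj K) n = bn c K n := by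
  apply pull_hom_ext'
  intro V y₀
  have e1 : ((CohTop.pull (aP Y n)).map (cinv c K)).hom.app (op ((Opens.map (aP Y n)).obj V))
      (ρ (aP Y n) K V y₀) =
      ρ (aP Y n) ((Sg c).obj ((TpF Y).obj K)) V (cinvSec c K V y₀) :=
    ConcreteCategory.congr_hom (ρ_naturality (aP Y n) (cinv c K) V) y₀
  show (an c ((TpF Y).obj K) n).hom.app (op ((Opens.map (aP Y n)).obj V))
      (((CohTop.pull (aP Y n)).map (cinv c K)).hom.app (op ((Opens.map (aP Y n)).obj V))
        (ρ (aP Y n) K V y₀)) =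
    (bn c K n).hom.app (op ((Opens.map (aP Y n)).obj V)) (ρ (aP Y n) K V y₀)
  rw [e1, ρ_an, α_DD, bn_app, β_DD]

/-- the identity relating `α` and `β` -/
lemma α_β : (TpF Y).map (cinv c K) ≫ (α c).app ((TpF Y).obj K) = (β c).app ((TpF Y).obj K) := by
  apply Sheaf.hom_ext
  apply NatTrans.ext
  funext X
  exact congrArg (fun m => m.hom.app (op (fibP Y X.unop))) (α_β_level c K X.unop.base)

/-- the inverse of `bn` -/
noncomputable def invn (n : Dᵒᵖ) : DecOb c ((TpF Y).obj K) n ⟶ (CohTop.pull (aP Y n)).obj K :=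
  ((pbAdj (c.e n)).homEquiv _ _).symm
    ((levelIso K (c.sh.obj n)).hom ≫
      PullFunTop.θ K (c.e n) (aP Y (c.sh.obj n)) (aP Y n) (e_aP c n))

lemma unit_invn (n : Dᵒᵖ) :
    (pbAdj (c.e n)).unit.app (Gl K (c.sh.obj n)) ≫ (CohTop.push (c.e n)).map (invn c K n) =
      (levelIso K (c.sh.obj n)).hom ≫
        PullFunTop.θ K (c.e n) (aP Y (c.sh.obj n)) (aP Y n) (e_aP c n) := by
  have h1 := ((pbAdj (c.e n)).homEquiv _ _).apply_symm_apply
    ((levelIso K (c.sh.obj n)).hom ≫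
      PullFunTop.θ K (c.e n) (aP Y (c.sh.obj n)) (aP Y n) (e_aP c n))
  rw [Adjunction.homEquiv_unit] at h1
  exact h1

lemma ρ_invn (n : Dᵒᵖ) (U : Opens (Xs Y (c.sh.obj n)))
    (y : ((CohTop.pull (aP Y (c.sh.obj n))).obj K).obj.obj (op U)) :
    (invn c K n).hom.app (op ((Opens.map (c.e n)).obj U)) (ρ (c.e n) (Gl K (c.sh.obj n)) U y) =
      θsec K (c.e n) (aP Y (c.sh.obj n)) (aP Y n) (e_aP c n) U y :=
  ConcreteCategory.congr_hom (congrArg (fun m => m.hom.app (op U)) (unit_invn c K n)) y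

lemma invn_res (n : Dᵒᵖ) {W W' : Opens (Xs Y n)} (h : W' ≤ W)
    (x : (DecOb c ((TpF Y).obj K) n).obj.obj (op W)) :
    (invn c K n).hom.app (op W') ((DecOb c ((TpF Y).obj K) n).obj.map (homOfLE h).op x) =
      ((CohTop.pull (aP Y n)).obj K).obj.map (homOfLE h).op ((invn c K n).hom.app (op W) x) :=
  ConcreteCategory.congr_hom ((invn c K n).hom.naturality (homOfLE h).op) x

lemma hDD' (n : Dᵒᵖ) (V : Opens (Y.obj (bot D))) :
    (Opens.map (c.e n)).obj ((Opens.map (aP Y (c.sh.obj n))).obj V) ≤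
      (Opens.map (aP Y n)).obj V := by
  intro p hp
  have : (c.e n ≫ aP Y (c.sh.obj n)) p ∈ V := hp
  rw [e_aP] at this
  exact this

lemma bn_invn (n : Dᵒᵖ) : bn c K n ≫ invn c K n = 𝟙 _ := by
  apply pull_hom_ext'
  intro V y₀
  show (invn c K n).hom.app (op ((Opens.map (aP Y n)).obj V))
      ((bn c K n).hom.app (op ((Opens.map (aP Y n)).obj V)) (ρ (aP Y n) K V y₀)) =
    ρ (aP Y n) K V y₀
  rw [bn_app, β_DD]
  unfold DD
  rw [invn_res, ρ_invn]
  have e1 : θsec K (c.e n) (aP Y (c.sh.obj n)) (aP Y n) (e_aP c n)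
      ((Opens.map (aP Y (c.sh.obj n))).obj V) (ρ (aP Y (c.sh.obj n)) K V y₀) =
      ((CohTop.pull (aP Y n)).obj K).obj.map (homOfLE (hDD' c n V)).op (ρ (aP Y n) K V y₀) :=
    ConcreteCategory.congr_hom
      (ρ_θsec K (c.e n) (aP Y (c.sh.obj n)) (aP Y n) (e_aP c n) V (hDD' c n V)) y₀
  rw [e1]
  have e2 := map_map_hom ((CohTop.pull (aP Y n)).obj K).obj (homOfLE (hDD' c n V))
    (homOfLE (hDD c n V)) (homOfLE (le_refl _)) (ρ (aP Y n) K V y₀)
  refine e2.trans ?_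
  have e3 : ((CohTop.pull (aP Y n)).obj K).obj.map
      (homOfLE (le_refl ((Opens.map (aP Y n)).obj V))).op = 𝟙 _ :=
    CategoryTheory.Functor.map_id _ _
  exact ConcreteCategory.congr_hom e3 _

lemma hΦ (n : Dᵒᵖ) :
    PullFunTop.θ K (c.e n) (aP Y (c.sh.obj n)) (aP Y n) (e_aP c n) ≫
        (CohTop.push (c.e n)).map (bn c K n) =
      (levelIso K (c.sh.obj n)).inv ≫ (pbAdj (c.e n)).unit.app (Gl K (c.sh.obj n)) := by
  apply pull_hom_ext'
  intro V y₀
  let Ub : Opens (Xs Y (c.sh.obj n)) := (Opens.map (aP Y (c.sh.obj n))).obj V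
  let yb := ρ (aP Y (c.sh.obj n)) K V y₀
  show (bn c K n).hom.app (op ((Opens.map (c.e n)).obj Ub))
      (θsec K (c.e n) (aP Y (c.sh.obj n)) (aP Y n) (e_aP c n) Ub yb) =
    ρ (c.e n) (Gl K (c.sh.obj n)) Ub yb
  have e1 : θsec K (c.e n) (aP Y (c.sh.obj n)) (aP Y n) (e_aP c n) Ub yb =
      ((CohTop.pull (aP Y n)).obj K).obj.map (homOfLE (hDD' c n V)).op (ρ (aP Y n) K V y₀) :=
    ConcreteCategory.congr_hom
      (ρ_θsec K (c.e n) (aP Y (c.sh.obj n)) (aP Y n) (e_aP c n) V (hDD' c n V)) y₀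
  rw [e1, bn_res, bn_app, β_DD]
  unfold DD
  have e2 := map_map_hom (DecOb c ((TpF Y).obj K) n).obj (homOfLE (hDD c n V))
    (homOfLE (hDD' c n V)) (homOfLE (le_refl _)) (ρ (c.e n) (Gl K (c.sh.obj n)) Ub yb)
  refine e2.trans ?_
  have e3 : (DecOb c ((TpF Y).obj K) n).obj.map
      (homOfLE (le_refl ((Opens.map (c.e n)).obj Ub))).op = 𝟙 _ :=
    CategoryTheory.Functor.map_id _ _
  exact ConcreteCategory.congr_hom e3 _

lemma invn_bn (n : Dᵒᵖ) : invn c K n ≫ bn c K n = 𝟙 _ := by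
  apply ((pbAdj (c.e n)).homEquiv _ _).injective
  rw [Adjunction.homEquiv_unit, Adjunction.homEquiv_unit, Functor.map_comp, ← Category.assoc,
    unit_invn, Category.assoc, hΦ, ← Category.assoc, Iso.hom_inv_id, Category.id_comp,
    CategoryTheory.Functor.map_id]
  exact (Category.comp_id _).symm

instance isIso_bn (n : Dᵒᵖ) : IsIso (bn c K n) :=
  ⟨⟨invn c K n, bn_invn c K n, invn_bn c K n⟩⟩

/-- `β` is an isomorphism on the families of pullbacks -/
theorem isIso_β : IsIso ((β c).app ((TpF Y).obj K)) := by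
  apply isIso_of_levels
  intro n
  have h1 : (restrP Y n).map ((β c).app ((TpF Y).obj K)) =
      (levelIso K n).hom ≫ bn c K n ≫ (decLevel c n).inv.app ((TpF Y).obj K) := by
    unfold bn
    simp only [Category.assoc, Iso.hom_inv_id_assoc, Iso.hom_inv_id_app]
    rfl
  rw [h1]
  infer_instance

/-- `α` is an isomorphism on the families of pullbacks -/
theorem isIso_α : IsIso ((α c).app ((TpF Y).obj K)) := by
  haveI := isIso_β c K
  haveI : IsIso ((TpF Y).map (cinv c K)) := inferInstance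
  haveI : IsIso ((TpF Y).map (cinv c K) ≫ (α c).app ((TpF Y).obj K)) := by
    rw [α_β]
    infer_instance
  exact IsIso.of_isIso_comp_left ((TpF Y).map (cinv c K)) _

end DecNat

end Groth.Agent.Lib.helper27
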