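import Mathlib

set_option autoImplicit false
set_option linter.unusedSectionVars false
set_option linter.unusedVariables false
set_option linter.style.haveILetI false

namespace Groth.Agent.Lib.helper27

open CategoryTheory Limits

namespace DerNat

section abstract

universe v₁ u₁ v₂ u₂

variable {𝒟₁ : Type u₁} [Category.{v₁} 𝒟₁] {𝒟₂ : Type u₂} [Category.{v₂} 𝒟₂]
  (P : 𝒟₁ ⥤ 𝒟₂) (Sg : 𝒟₂ ⥤ 𝒟₁) (Dl : 𝒟₂ ⥤ 𝒟₂)
  (c : P ⋙ Sg ≅ 𝟭 𝒟₁) (β : 𝟭 𝒟₂ ⟶ Dl) (α : Sg ⋙ P ⟶ Dl)
  (hβ : ∀ K, IsIso (β.app (P.obj K))) (hα : ∀ K, IsIso (α.app (P.obj K)))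

include c in
lemma map_injective (K L : 𝒟₁) : Function.Injective (P.map : (K ⟶ L) → _) := by
  intro f g h
  have hf := c.hom.naturality f
  have hg := c.hom.naturality g
  have h1 : (P ⋙ Sg).map f = (P ⋙ Sg).map g := congrArg Sg.map h
  rw [h1] at hf
  have h2 : c.hom.app K ≫ (𝟭 𝒟₁).map f = c.hom.app K ≫ (𝟭 𝒟₁).map g := hf.symm.trans hg
  exact (cancel_epi (c.hom.app K)).1 h2

include c hβ hα in
lemma map_surjective (K L : 𝒟₁) : Function.Surjective (P.map : (K ⟶ L) → _) := by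
  intro φ
  haveI := hβ
  haveI := hα
  let w : ∀ X : 𝒟₁, P.obj (Sg.obj (P.obj X)) ⟶ P.obj X :=
    fun X => α.app (P.obj X) ≫ inv (β.app (P.obj X))
  haveI : ∀ X, IsIso (w X) := fun X => IsIso.comp_isIso
  -- the key relation
  have star : ∀ {X X' : 𝒟₁} (χ : P.obj X ⟶ P.obj X'), P.map (Sg.map χ) ≫ w X' = w X ≫ χ := by
    intro X X' χ
    have h1 : P.map (Sg.map χ) ≫ α.app (P.obj X') = α.app (P.obj X) ≫ Dl.map χ := α.naturality χ
    have h2 : χ ≫ β.app (P.obj X') = β.app (P.obj X) ≫ Dl.map χ := β.naturality χ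
    have h3 : Dl.map χ ≫ inv (β.app (P.obj X')) = inv (β.app (P.obj X)) ≫ χ := by
      rw [IsIso.comp_inv_eq, Category.assoc, h2, IsIso.inv_hom_id_assoc]
    calc P.map (Sg.map χ) ≫ w X' = (P.map (Sg.map χ) ≫ α.app (P.obj X')) ≫ inv (β.app (P.obj X')) :=
          (Category.assoc _ _ _).symm
      _ = (α.app (P.obj X) ≫ Dl.map χ) ≫ inv (β.app (P.obj X')) := by rw [h1]
      _ = α.app (P.obj X) ≫ (Dl.map χ ≫ inv (β.app (P.obj X'))) := Category.assoc _ _ _
      _ = α.app (P.obj X) ≫ (inv (β.app (P.obj X)) ≫ χ) := by rw [h3]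
      _ = w X ≫ χ := (Category.assoc _ _ _).symm
  let ψ : K ⟶ L := c.inv.app K ≫ Sg.map φ ≫ c.hom.app L
  refine ⟨ψ, ?_⟩
  let n : ∀ X : 𝒟₁, P.obj X ⟶ P.obj X := fun X => inv (w X) ≫ P.map (c.hom.app X)
  haveI : ∀ X, IsIso (n X) := fun X => IsIso.comp_isIso
  -- (1) `n K ≫ P.map ψ = φ ≫ n L`
  have e1 : n K ≫ P.map ψ = φ ≫ n L := by
    have h1 : P.map ψ = P.map (c.inv.app K) ≫ P.map (Sg.map φ) ≫ P.map (c.hom.app L) := by
      simp only [ψ, Functor.map_comp]
    have h2 : P.map (Sg.map φ) = w K ≫ φ ≫ inv (w L) := by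
      rw [← Category.assoc, ← star φ, Category.assoc, IsIso.hom_inv_id, Category.comp_id]
    have h3 : P.map (c.hom.app K) ≫ P.map (c.inv.app K) = 𝟙 _ := by
      rw [← Functor.map_comp, Iso.hom_inv_id_app, CategoryTheory.Functor.map_id]
    calc n K ≫ P.map ψ
        = inv (w K) ≫ (P.map (c.hom.app K) ≫ P.map (c.inv.app K)) ≫ P.map (Sg.map φ) ≫
            P.map (c.hom.app L) := by
          rw [h1]
          simp only [n, Category.assoc]
      _ = inv (w K) ≫ P.map (Sg.map φ) ≫ P.map (c.hom.app L) := by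
          rw [h3]
          exact congrArg (fun t => inv (w K) ≫ t) (Category.id_comp _)
      _ = inv (w K) ≫ (w K ≫ φ ≫ inv (w L)) ≫ P.map (c.hom.app L) := by rw [h2]
      _ = φ ≫ n L := by
          simp only [n, Category.assoc, IsIso.inv_hom_id_assoc]
  -- (2) naturality of `n` along `ψ`
  have e2 : n K ≫ P.map ψ = P.map ψ ≫ n L := by
    have h1 : c.hom.app K ≫ ψ = Sg.map (P.map ψ) ≫ c.hom.app L := (c.hom.naturality ψ).symm
    have h2 : P.map (Sg.map (P.map ψ)) = w K ≫ P.map ψ ≫ inv (w L) := by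
      rw [← Category.assoc, ← star (P.map ψ), Category.assoc, IsIso.hom_inv_id, Category.comp_id]
    calc n K ≫ P.map ψ = inv (w K) ≫ P.map (c.hom.app K ≫ ψ) := by
          simp only [n, Category.assoc, Functor.map_comp]
      _ = inv (w K) ≫ P.map (Sg.map (P.map ψ)) ≫ P.map (c.hom.app L) := by
          rw [h1, Functor.map_comp]
      _ = inv (w K) ≫ (w K ≫ P.map ψ ≫ inv (w L)) ≫ P.map (c.hom.app L) := by rw [h2]
      _ = P.map ψ ≫ n L := by
          simp only [n, Category.assoc, IsIso.inv_hom_id_assoc]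
  have e3 : P.map ψ ≫ n L = φ ≫ n L := e2.symm.trans e1
  exact (cancel_mono (n L)).1 e3

include c hβ hα in
theorem map_bijective (K L : 𝒟₁) : Function.Bijective (P.map : (K ⟶ L) → _) :=
  ⟨map_injective P Sg c K L, map_surjective P Sg Dl c β α hβ hα K L⟩

end abstract

section derived

universe w₁ w₂ w₃ v₁ v₂ v₃ u₁ u₂ u₃

variable {C₁ : Type u₁} [Category.{v₁} C₁] [Abelian C₁] [HasDerivedCategory.{w₁} C₁]
  {C₂ : Type u₂} [Category.{v₂} C₂] [Abelian C₂] [HasDerivedCategory.{w₂} C₂]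
  {C₃ : Type u₃} [Category.{v₃} C₃] [Abelian C₃] [HasDerivedCategory.{w₃} C₃]

/-- the natural transformation on derived categories induced by a natural transformation of exact
functors -/
noncomputable def mapDC {F G : C₁ ⥤ C₂} [F.Additive] [PreservesFiniteLimits F]
    [PreservesFiniteColimits F] [G.Additive] [PreservesFiniteLimits G] [PreservesFiniteColimits G]
    (τ : F ⟶ G) : F.mapDerivedCategory ⟶ G.mapDerivedCategory :=
  Localization.liftNatTrans DerivedCategory.Q (HomologicalComplex.quasiIso C₁ (ComplexShape.up ℤ))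
    (F.mapHomologicalComplex _ ⋙ DerivedCategory.Q) (G.mapHomologicalComplex _ ⋙ DerivedCategory.Q)
    F.mapDerivedCategory G.mapDerivedCategory
    (Functor.whiskerRight (NatTrans.mapHomologicalComplex τ (ComplexShape.up ℤ)) DerivedCategory.Q)

lemma mapDC_app_Q {F G : C₁ ⥤ C₂} [F.Additive] [PreservesFiniteLimits F]
    [PreservesFiniteColimits F] [G.Additive] [PreservesFiniteLimits G] [PreservesFiniteColimits G]
    (τ : F ⟶ G) (K : CochainComplex C₁ ℤ) :
    (mapDC τ).app (DerivedCategory.Q.obj K) =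
      F.mapDerivedCategoryFactors.hom.app K ≫
        DerivedCategory.Q.map ((NatTrans.mapHomologicalComplex τ (ComplexShape.up ℤ)).app K) ≫
          G.mapDerivedCategoryFactors.inv.app K :=
  Localization.liftNatTrans_app _ _ _ _ _ _ _ _

lemma isIso_mapDC_app_Q {F G : C₁ ⥤ C₂} [F.Additive] [PreservesFiniteLimits F]
    [PreservesFiniteColimits F] [G.Additive] [PreservesFiniteLimits G] [PreservesFiniteColimits G]
    (τ : F ⟶ G) (K : CochainComplex C₁ ℤ) (h : ∀ i, IsIso (τ.app (K.X i))) :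
    IsIso ((mapDC τ).app (DerivedCategory.Q.obj K)) := by
  rw [mapDC_app_Q]
  haveI : IsIso ((NatTrans.mapHomologicalComplex τ (ComplexShape.up ℤ)).app K) := by
    haveI : ∀ i, IsIso (((NatTrans.mapHomologicalComplex τ (ComplexShape.up ℤ)).app K).f i) :=
      fun i => h i
    exact HomologicalComplex.Hom.isIso_of_components _
  infer_instance

/-- iso-ness on the essential image of an exact functor -/
lemma isIso_mapDC_app_map {E : C₃ ⥤ C₁} [E.Additive] [PreservesFiniteLimits E]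
    [PreservesFiniteColimits E] {F G : C₁ ⥤ C₂} [F.Additive] [PreservesFiniteLimits F]
    [PreservesFiniteColimits F] [G.Additive] [PreservesFiniteLimits G] [PreservesFiniteColimits G]
    (τ : F ⟶ G) (h : ∀ X : C₃, IsIso (τ.app (E.obj X))) (K : DerivedCategory C₃) :
    IsIso ((mapDC τ).app (E.mapDerivedCategory.obj K)) := by
  obtain ⟨K', ⟨e⟩⟩ : ∃ K' : CochainComplex C₃ ℤ, Nonempty (DerivedCategory.Q.obj K' ≅ K) :=
    ⟨_, ⟨DerivedCategory.Q.objObjPreimageIso K⟩⟩
  let e' : E.mapDerivedCategory.obj K ≅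
      DerivedCategory.Q.obj ((E.mapHomologicalComplex (ComplexShape.up ℤ)).obj K') :=
    E.mapDerivedCategory.mapIso e.symm ≪≫ E.mapDerivedCategoryFactors.app K'
  rw [NatTrans.isIso_app_iff_of_iso (mapDC τ) e']
  apply isIso_mapDC_app_Q
  intro i
  exact h _

/-- `mapDerivedCategory` of the identity -/
noncomputable def idIso : (𝟭 C₁).mapDerivedCategory ≅ 𝟭 (DerivedCategory C₁) :=
  Localization.liftNatIso DerivedCategory.Q (HomologicalComplex.quasiIso C₁ (ComplexShape.up ℤ))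
    ((𝟭 C₁).mapHomologicalComplex _ ⋙ DerivedCategory.Q) DerivedCategory.Q
    (𝟭 C₁).mapDerivedCategory (𝟭 _)
    (Functor.isoWhiskerRight (Functor.mapHomologicalComplexIdIso C₁ (ComplexShape.up ℤ)) _ ≪≫
      Functor.leftUnitor _)

/-- `mapDerivedCategory` of a composition -/
noncomputable def compIso (F : C₁ ⥤ C₂) [F.Additive] [PreservesFiniteLimits F]
    [PreservesFiniteColimits F] (G : C₂ ⥤ C₃) [G.Additive] [PreservesFiniteLimits G]
    [PreservesFiniteColimits G] :
    (F ⋙ G).mapDerivedCategory ≅ F.mapDerivedCategory ⋙ G.mapDerivedCategory :=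
  haveI : Localization.Lifting DerivedCategory.Q
      (HomologicalComplex.quasiIso C₁ (ComplexShape.up ℤ))
      ((F ⋙ G).mapHomologicalComplex (ComplexShape.up ℤ) ⋙ DerivedCategory.Q)
      (F.mapDerivedCategory ⋙ G.mapDerivedCategory) :=
    ⟨(Functor.associator _ _ _).symm ≪≫
      Functor.isoWhiskerRight F.mapDerivedCategoryFactors G.mapDerivedCategory ≪≫
      Functor.associator _ _ _ ≪≫
      Functor.isoWhiskerLeft _ G.mapDerivedCategoryFactors ≪≫
      (Functor.associator _ _ _).symm⟩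
  Localization.liftNatIso DerivedCategory.Q (HomologicalComplex.quasiIso C₁ (ComplexShape.up ℤ))
    ((F ⋙ G).mapHomologicalComplex _ ⋙ DerivedCategory.Q)
    ((F ⋙ G).mapHomologicalComplex _ ⋙ DerivedCategory.Q)
    (F ⋙ G).mapDerivedCategory (F.mapDerivedCategory ⋙ G.mapDerivedCategory) (Iso.refl _)

/-- the induced isomorphism -/
noncomputable def mapDCIso {F G : C₁ ⥤ C₂} [F.Additive] [PreservesFiniteLimits F]
    [PreservesFiniteColimits F] [G.Additive] [PreservesFiniteLimits G] [PreservesFiniteColimits G]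
    (e : F ≅ G) : F.mapDerivedCategory ≅ G.mapDerivedCategory :=
  Localization.liftNatIso DerivedCategory.Q (HomologicalComplex.quasiIso C₁ (ComplexShape.up ℤ))
    (F.mapHomologicalComplex _ ⋙ DerivedCategory.Q) (G.mapHomologicalComplex _ ⋙ DerivedCategory.Q)
    F.mapDerivedCategory G.mapDerivedCategory
    (Functor.isoWhiskerRight (NatIso.mapHomologicalComplex e (ComplexShape.up ℤ)) DerivedCategory.Q)

end derived

section main

universe w₁ w₂ v₁ v₂ u₁ u₂

variable {𝒜 : Type u₁} [Category.{v₁} 𝒜] [Abelian 𝒜] [HasDerivedCategory.{w₁} 𝒜]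
  {ℬ : Type u₂} [Category.{v₂} ℬ] [Abelian ℬ] [HasDerivedCategory.{w₂} ℬ]
  (P : 𝒜 ⥤ ℬ) [P.Additive] [PreservesFiniteLimits P] [PreservesFiniteColimits P]
  (Sg : ℬ ⥤ 𝒜) [Sg.Additive] [PreservesFiniteLimits Sg] [PreservesFiniteColimits Sg]
  (Dl : ℬ ⥤ ℬ) [Dl.Additive] [PreservesFiniteLimits Dl] [PreservesFiniteColimits Dl]
  (c : P ⋙ Sg ≅ 𝟭 𝒜) (β : 𝟭 ℬ ⟶ Dl) (α : Sg ⋙ P ⟶ Dl)
  (hβ : ∀ K, IsIso (β.app (P.obj K))) (hα : ∀ K, IsIso (α.app (P.obj K)))

include c hβ hα in
/-- an exact functor with a homotopy contraction is fully faithful on derived categories -/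
theorem mapDerivedCategory_bijective (K L : DerivedCategory 𝒜) :
    Function.Bijective (P.mapDerivedCategory.map : (K ⟶ L) → _) := by
  let cD : P.mapDerivedCategory ⋙ Sg.mapDerivedCategory ≅ 𝟭 (DerivedCategory 𝒜) :=
    (compIso P Sg).symm ≪≫ mapDCIso c ≪≫ idIso
  let βD : 𝟭 (DerivedCategory ℬ) ⟶ Dl.mapDerivedCategory := idIso.inv ≫ mapDC β
  let αD : Sg.mapDerivedCategory ⋙ P.mapDerivedCategory ⟶ Dl.mapDerivedCategory :=
    (compIso Sg P).inv ≫ mapDC α
  refine map_bijective P.mapDerivedCategory Sg.mapDerivedCategory Dl.mapDerivedCategory cD βD αD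
    ?_ ?_ K L
  · intro K
    haveI := isIso_mapDC_app_map (E := P) β hβ K
    show IsIso (idIso.inv.app _ ≫ (mapDC β).app _)
    infer_instance
  · intro K
    haveI := isIso_mapDC_app_map (E := P) α hα K
    show IsIso ((compIso Sg P).inv.app _ ≫ (mapDC α).app _)
    infer_instance

end main

end DerNat

end Groth.Agent.Lib.helper27
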