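import Mathlib
import Groth.Prelude.Def_FibDesc
import Groth.Agent.Lib.Helper27.DecNat4
import Groth.Agent.Lib.Helper27.DerNat
import Groth.Agent.Lib.Helper27.TotSide

set_option autoImplicit false
set_option linter.unusedSectionVars false
set_option linter.unusedVariables false
set_option linter.style.haveILetI false
set_option backward.isDefEq.respectTransparency false
set_option backward.isDefEq.respectTransparency.types false

namespace Groth.Agent.Lib.helper27

open CategoryTheory Limits Opposite Pseudofunctor Pseudofunctor.CoGrothendieck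
open FibDesc TopologicalSpace

universe u

namespace DecMain

open BigSec TotSide TAug RanV SqSec PullConst DecDef TpFun DecNat

attribute [local instance] HasDerivedCategory.standard

variable {D : Type} [SmallCategory D] {Y : (WithInitial D)ᵒᵖ ⥤ TopCat.{u}} (c : Contr Y)

instance additive_Sg : (Sg c).Additive := by
  unfold Sg
  infer_instance

instance pfl_Sg : PreservesFiniteLimits (Sg c) := by
  unfold Sg
  exact comp_preservesFiniteLimits _ _

instance pfc_Sg : PreservesFiniteColimits (Sg c) := by
  unfold Sg
  exact comp_preservesFiniteColimits _ _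

/-- an augmented diagram of spaces with a contraction is of cohomological descent -/
theorem isCohDescentTop_of_contr (c : Contr Y) : IsCohDescentTop Y := by
  refine ⟨inferInstance, inferInstance, inferInstance, inferInstance, inferInstance,
    inferInstance, ?_⟩
  intro K L
  let P : BaseSh (topAug Y) (topAugTop Y) AddCommGrpCat.{u} ⥤ DShY Y :=
    pull (topAug Y) (topAugTop Y) AddCommGrpCat.{u}
  let Sg' : DShY Y ⥤ BaseSh (topAug Y) (topAugTop Y) AddCommGrpCat.{u} := Sg c
  haveI : Sg'.Additive := additive_Sg c
  haveI : PreservesFiniteLimits Sg' := pfl_Sg c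
  haveI : PreservesFiniteColimits Sg' := pfc_Sg c
  let cP : P ⋙ Sg' ≅ 𝟭 _ := Functor.isoWhiskerRight (pullIso Y) (Sg c) ≪≫ cIso c
  let αP : Sg' ⋙ P ⟶ Dec c := Functor.whiskerLeft (Sg c) (pullIso Y).hom ≫ α c
  refine DerNat.mapDerivedCategory_bijective P Sg' (Dec c) cP (β c) αP ?_ ?_ K.obj L.obj
  · intro G
    rw [NatTrans.isIso_app_iff_of_iso (β c) ((pullIso Y).app G)]
    exact isIso_β c G
  · intro G
    haveI : IsIso ((α c).app (P.obj G)) := by
      rw [NatTrans.isIso_app_iff_of_iso (α c) ((pullIso Y).app G)]
      exact isIso_α c G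
    show IsIso ((pullIso Y).hom.app ((Sg c).obj (P.obj G)) ≫ (α c).app (P.obj G))
    infer_instance

end DecMain

end Groth.Agent.Lib.helper27
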