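import Mathlib

set_option autoImplicit false

namespace Groth.Agent.Lib.helper27

open CategoryTheory

namespace ShiftDelta

/-- the underlying monotone map of the shift of a morphism -/
def shFun {a b : ℕ} (θ : Fin (a + 1) →o Fin (b + 1)) : Fin (a + 1 + 1) →o Fin (b + 1 + 1) where
  toFun i := Fin.lastCases (Fin.last _) (fun j => (θ j).castSucc) i
  monotone' := by
    intro i i' hii
    induction i' using Fin.lastCases with
    | last => simp only [Fin.lastCases_last]; exact Fin.le_last _
    | cast j' =>
      induction i using Fin.lastCases with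
      | last =>
        exfalso
        have h1 : (Fin.last (a + 1)) ≤ j'.castSucc := hii
        have h2 : j'.castSucc < Fin.last (a + 1) := Fin.castSucc_lt_last j'
        exact absurd h1 (not_le.2 h2)
      | cast j =>
        simp only [Fin.lastCases_castSucc]
        have : j ≤ j' := Fin.castSucc_le_castSucc_iff.1 hii
        exact Fin.castSucc_le_castSucc_iff.2 (θ.monotone this)

@[simp] lemma shFun_last {a b : ℕ} (θ : Fin (a + 1) →o Fin (b + 1)) :
    shFun θ (Fin.last _) = Fin.last _ := by
  simp [shFun]

@[simp] lemma shFun_castSucc {a b : ℕ} (θ : Fin (a + 1) →o Fin (b + 1)) (j : Fin (a + 1)) :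
    shFun θ j.castSucc = (θ j).castSucc := by
  simp [shFun]

/-- the shift functor of the simplex category: add a new last vertex -/
def shΔ : SimplexCategory ⥤ SimplexCategory where
  obj n := SimplexCategory.mk (n.len + 1)
  map {n m} θ := SimplexCategory.Hom.mk (shFun θ.toOrderHom)
  map_id n := by
    apply SimplexCategory.Hom.ext
    apply OrderHom.ext
    funext i
    induction i using Fin.lastCases with
    | last => exact shFun_last _
    | cast j => exact shFun_castSucc _ j
  map_comp {a b d} θ θ' := by
    apply SimplexCategory.Hom.ext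
    apply OrderHom.ext
    funext i
    induction i using Fin.lastCases with
    | last =>
      show shFun _ (Fin.last _) = shFun _ (shFun _ (Fin.last _))
      rw [shFun_last, shFun_last, shFun_last]
    | cast j =>
      show shFun _ j.castSucc = shFun _ (shFun _ j.castSucc)
      rw [shFun_castSucc, shFun_castSucc, shFun_castSucc]
      rfl

lemma shΔ_map_last {n m : SimplexCategory} (θ : n ⟶ m) :
    (shΔ.map θ).toOrderHom (Fin.last _) = Fin.last _ := shFun_last _

lemma shΔ_map_castSucc {n m : SimplexCategory} (θ : n ⟶ m) (j : Fin (n.len + 1)) :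
    (shΔ.map θ).toOrderHom j.castSucc = (θ.toOrderHom j).castSucc := shFun_castSucc _ j

/-- the inclusion missing the new vertex -/
def dΔ (n : SimplexCategory) : n ⟶ shΔ.obj n :=
  SimplexCategory.Hom.mk ⟨fun i => i.castSucc, fun i j h => Fin.castSucc_le_castSucc_iff.2 h⟩

lemma dΔ_apply (n : SimplexCategory) (i : Fin (n.len + 1)) :
    (dΔ n).toOrderHom i = i.castSucc := rfl

lemma dΔ_nat {n m : SimplexCategory} (θ : n ⟶ m) : θ ≫ dΔ m = dΔ n ≫ shΔ.map θ := by
  apply SimplexCategory.Hom.ext
  apply OrderHom.ext
  funext i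
  show (θ.toOrderHom i).castSucc = (shΔ.map θ).toOrderHom (i.castSucc)
  rw [shΔ_map_castSucc]

/-- the new vertex -/
def vΔ (n : SimplexCategory) : SimplexCategory.mk 0 ⟶ shΔ.obj n :=
  SimplexCategory.Hom.mk ⟨fun _ => Fin.last _, fun _ _ _ => le_rfl⟩

lemma vΔ_apply (n : SimplexCategory) (i : Fin 1) : (vΔ n).toOrderHom i = Fin.last _ := rfl

lemma vΔ_nat {n m : SimplexCategory} (θ : n ⟶ m) : vΔ n ≫ shΔ.map θ = vΔ m := by
  apply SimplexCategory.Hom.ext
  apply OrderHom.ext
  funext i
  show (shΔ.map θ).toOrderHom (Fin.last _) = Fin.last _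
  rw [shΔ_map_last]

end ShiftDelta

end Groth.Agent.Lib.helper27
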