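import Mathlib
import Groth.Prelude.Def_FibDesc
import Groth.Agent.Lib.Helper27.DecMain
import Groth.Agent.Lib.Helper27.ShiftDelta

set_option autoImplicit false
set_option linter.unusedSectionVars false
set_option linter.unusedVariables false
set_option linter.style.haveILetI false
set_option backward.isDefEq.respectTransparency false
set_option backward.isDefEq.respectTransparency.types false

namespace Groth.Agent.Lib.helper27

open CategoryTheory Limits Opposite
open FibDesc TopologicalSpace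

universe u

namespace CechContr

open RanV DecDef ShiftDelta

variable {X S : TopCat.{u}} (f : X ⟶ S) (s : S ⟶ X) (hs : s ≫ f = 𝟙 S)

/-- the fibre powers -/
noncomputable abbrev Lw (k : ℕ) : TopCat.{u} :=
  widePullback S (fun _ : Fin (k + 1) => X) (fun _ => f)

noncomputable abbrev bs (k : ℕ) : Lw f k ⟶ S := WidePullback.base _

noncomputable abbrev pr (k : ℕ) (i : Fin (k + 1)) : Lw f k ⟶ X := WidePullback.π _ i

lemma pr_f (k : ℕ) (i : Fin (k + 1)) : pr f k i ≫ f = bs f k := WidePullback.π_arrow _ i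

lemma hom_ext' {k : ℕ} {T : TopCat.{u}} (g₁ g₂ : T ⟶ Lw f k)
    (h : ∀ i, g₁ ≫ pr f k i = g₂ ≫ pr f k i) (hb : g₁ ≫ bs f k = g₂ ≫ bs f k) : g₁ = g₂ :=
  WidePullback.hom_ext _ _ _ h hb

/-- the maps of the Cech nerve -/
noncomputable def Yo {a b : ℕ} (g : Fin (a + 1) →o Fin (b + 1)) : Lw f b ⟶ Lw f a :=
  WidePullback.lift (bs f b) (fun i => pr f b (g i)) (fun i => pr_f f b (g i))

lemma Yo_bs {a b : ℕ} (g : Fin (a + 1) →o Fin (b + 1)) : Yo f g ≫ bs f a = bs f b :=
  WidePullback.lift_base _ _ _ _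

lemma Yo_pr {a b : ℕ} (g : Fin (a + 1) →o Fin (b + 1)) (i : Fin (a + 1)) :
    Yo f g ≫ pr f a i = pr f b (g i) :=
  WidePullback.lift_π _ _ _ _ _

/-- the family defining the extra degeneracy -/
noncomputable def eFam (k : ℕ) (i : Fin (k + 1 + 1)) : Lw f k ⟶ X :=
  Fin.lastCases (bs f k ≫ s) (fun j => pr f k j) i

lemma eFam_last (k : ℕ) : eFam f s k (Fin.last (k + 1)) = bs f k ≫ s := Fin.lastCases_last

lemma eFam_castSucc (k : ℕ) (j : Fin (k + 1)) : eFam f s k j.castSucc = pr f k j :=
  Fin.lastCases_castSucc _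

include hs in
lemma eFam_f (k : ℕ) (i : Fin (k + 1 + 1)) : eFam f s k i ≫ f = bs f k := by
  induction i using Fin.lastCases with
  | last => rw [eFam_last, Category.assoc, hs, Category.comp_id]
  | cast j => rw [eFam_castSucc, pr_f]

/-- the extra degeneracy: add `s(p)` as a new last coordinate -/
noncomputable def eK (k : ℕ) : Lw f k ⟶ Lw f (k + 1) :=
  WidePullback.lift (bs f k) (eFam f s k) (eFam_f f s hs k)

lemma eK_bs (k : ℕ) : eK f s hs k ≫ bs f (k + 1) = bs f k := WidePullback.lift_base _ _ _ _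

lemma eK_pr (k : ℕ) (i : Fin (k + 1 + 1)) : eK f s hs k ≫ pr f (k + 1) i = eFam f s k i :=
  WidePullback.lift_π _ _ _ _ _

lemma eK_nat {a b : ℕ} (g : Fin (a + 1) →o Fin (b + 1)) :
    Yo f g ≫ eK f s hs a = eK f s hs b ≫ Yo f (shFun g) := by
  apply hom_ext'
  · intro i
    rw [Category.assoc, Category.assoc, eK_pr, Yo_pr, eK_pr]
    induction i using Fin.lastCases with
    | last => rw [eFam_last, shFun_last, eFam_last, ← Category.assoc, Yo_bs]
    | cast j => rw [eFam_castSucc, shFun_castSucc, eFam_castSucc, Yo_pr]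
  · rw [Category.assoc, Category.assoc, eK_bs, Yo_bs, Yo_bs, eK_bs]

/-- the inclusion missing the last vertex -/
def dO (k : ℕ) : Fin (k + 1) →o Fin (k + 1 + 1) :=
  ⟨fun i => i.castSucc, fun i j h => Fin.castSucc_le_castSucc_iff.2 h⟩

lemma eK_d (k : ℕ) : eK f s hs k ≫ Yo f (dO k) = 𝟙 _ := by
  apply hom_ext'
  · intro i
    rw [Category.assoc, Yo_pr, Category.id_comp, eK_pr]
    exact eFam_castSucc f s k i
  · rw [Category.assoc, Yo_bs, eK_bs, Category.id_comp]

/-- the last vertex -/
def vO (k : ℕ) : Fin (0 + 1) →o Fin (k + 1 + 1) := ⟨fun _ => Fin.last _, fun _ _ _ => le_rfl⟩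

/-- the section into the zeroth level -/
noncomputable def s₀ : S ⟶ Lw f 0 := WidePullback.lift (𝟙 S) (fun _ => s) (fun _ => hs)

lemma s₀_bs : s₀ f s hs ≫ bs f 0 = 𝟙 S := WidePullback.lift_base _ _ _ _

lemma s₀_pr (i : Fin (0 + 1)) : s₀ f s hs ≫ pr f 0 i = s := WidePullback.lift_π _ _ _ _ _

lemma eK_v (k : ℕ) : eK f s hs k ≫ Yo f (vO k) = bs f k ≫ s₀ f s hs := by
  apply hom_ext'
  · intro i
    rw [Category.assoc, Yo_pr, Category.assoc, s₀_pr, eK_pr]
    exact eFam_last f s k
  · rw [Category.assoc, Yo_bs, eK_bs, Category.assoc, s₀_bs, Category.comp_id]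

lemma Ym_eq {n n' : SimplexCategoryᵒᵖ} (θ : n' ⟶ n) :
    Ym (cechAug f) θ = Yo f θ.unop.toOrderHom := rfl

lemma aP_eq (n : SimplexCategoryᵒᵖ) : aP (cechAug f) n = bs f n.unop.len := rfl

/-- the contraction of the Cech nerve of a map with a section -/
noncomputable def contr : Contr (cechAug f) where
  sh := shΔ.op
  d :=
    { app := fun n => (dΔ n.unop).op
      naturality := by
        intro n' n θ
        show (shΔ.map θ.unop).op ≫ (dΔ n.unop).op = (dΔ n'.unop).op ≫ θ
        have := dΔ_nat θ.unop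
        rw [← op_comp, ← this]
        rfl }
  z := op (SimplexCategory.mk 0)
  v := fun n => (vΔ n.unop).op
  v_nat := by
    intro n' n θ
    show (shΔ.map θ.unop).op ≫ (vΔ n.unop).op = (vΔ n'.unop).op
    rw [← op_comp, vΔ_nat]
  e := fun n => eK f s hs n.unop.len
  e_nat := fun {n' n} θ => eK_nat f s hs θ.unop.toOrderHom
  e_d := fun n => eK_d f s hs n.unop.len
  s := s₀ f s hs
  s_a := s₀_bs f s hs
  e_v := fun n => eK_v f s hs n.unop.len

include s hs in
/-- a continuous map with a section is of cohomological descent -/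
theorem isCohDescentMap_of_section : IsCohDescentMap f :=
  DecMain.isCohDescentTop_of_contr (contr f s hs)

end CechContr

end Groth.Agent.Lib.helper27
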