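import Mathlib
import Groth.Prelude.Def_FibDesc
import Groth.Agent.Lib.Helper27.LocCrit
import Groth.Agent.Lib.Helper27.CechContr

set_option autoImplicit false
set_option linter.unusedSectionVars false
set_option linter.unusedVariables false
set_option linter.style.haveILetI false
set_option backward.isDefEq.respectTransparency false
set_option backward.isDefEq.respectTransparency.types false

namespace Groth.Agent.Lib.helper27

open CategoryTheory Limits Opposite
open FibDesc TopologicalSpace

universe u

namespace CechOpen

open RanV ResGeo CechContr TAug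

variable {X S S' : TopCat.{u}} (f : X ⟶ S) (j : S' ⟶ S)

/-- the morphism of arrows from the base change -/
noncomputable def arrowHom : Arrow.mk (pullback.snd f j) ⟶ Arrow.mk f :=
  Arrow.homMk (pullback.fst f j) j pullback.condition

/-- the morphism of augmented Cech nerves -/
noncomputable def φC : cechAug (pullback.snd f j) ⟶ cechAug f :=
  AugmentedSimplexCategory.equivAugmentedSimplicialObject.inverse.map
    (Arrow.mapAugmentedCechNerve (arrowHom f j))

/-- the levels of the morphism of Cech nerves -/
noncomputable def φk (k : ℕ) : Lw (pullback.snd f j) k ⟶ Lw f k :=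
  WidePullback.lift (bs (pullback.snd f j) k ≫ j)
    (fun i => pr (pullback.snd f j) k i ≫ pullback.fst f j)
    (fun i => by
      show (pr (pullback.snd f j) k i ≫ pullback.fst f j) ≫ f = _
      rw [Category.assoc, pullback.condition, ← Category.assoc, pr_f])

lemma φC_bot : (φC f j).app (bot _) = j := rfl

lemma φC_level (k : ℕ) :
    (φC f j).app ((toAug _).obj (op (SimplexCategory.mk k))) = φk f j k := rfl

lemma φk_bs (k : ℕ) : φk f j k ≫ bs f k = bs (pullback.snd f j) k ≫ j :=
  WidePullback.lift_base _ _ _ _

lemma φk_pr (k : ℕ) (i : Fin (k + 1)) :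
    φk f j k ≫ pr f k i = pr (pullback.snd f j) k i ≫ pullback.fst f j :=
  WidePullback.lift_π _ _ _ _ _

/-- the Cech nerve of the base change is the base change of the Cech nerve -/
theorem isPullback_φk (k : ℕ) :
    IsPullback (φk f j k) (bs (pullback.snd f j) k) (bs f k) j := by
  refine ⟨⟨φk_bs f j k⟩, ⟨PullbackCone.IsLimit.mk _
    (fun s => WidePullback.lift s.snd
      (fun i => pullback.lift (s.fst ≫ pr f k i) s.snd (by
        rw [Category.assoc, pr_f, s.condition]))
      (fun i => pullback.lift_snd _ _ _)) ?_ ?_ ?_⟩⟩
  · intro s
    apply hom_ext'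
    · intro i
      rw [Category.assoc, φk_pr, ← Category.assoc, WidePullback.lift_π, pullback.lift_fst]
    · rw [Category.assoc, φk_bs, ← Category.assoc, WidePullback.lift_base, s.condition]
  · intro s
    exact WidePullback.lift_base _ _ _ _
  · intro s m h1 h2
    apply hom_ext'
    · intro i
      rw [WidePullback.lift_π]
      apply pullback.hom_ext
      · rw [pullback.lift_fst, Category.assoc, ← φk_pr, ← Category.assoc, h1]
      · rw [pullback.lift_snd, Category.assoc, pr_f, h2]
    · rw [WidePullback.lift_base, h2]

section top

variable {P X₁ S₁ S₂ : TopCat.{u}} {a : P ⟶ X₁} {b : P ⟶ S₂} {g : X₁ ⟶ S₁} {i : S₂ ⟶ S₁}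

lemma isOpenEmbedding_of_isPullback (h : IsPullback a b g i) (hi : Topology.IsOpenEmbedding i) :
    Topology.IsOpenEmbedding a := by
  have h1 : a = h.isoPullback.hom ≫ pullback.fst g i := h.isoPullback_hom_fst.symm
  rw [h1]
  exact (TopCat.fst_isOpenEmbedding_of_right g hi).comp
    (TopCat.homeoOfIso h.isoPullback).isOpenEmbedding

lemma range_of_isPullback (h : IsPullback a b g i) :
    Set.range a = g ⁻¹' Set.range i := by
  have h1 : a = h.isoPullback.hom ≫ pullback.fst g i := h.isoPullback_hom_fst.symm
  rw [h1]
  have h2 : Set.range (h.isoPullback.hom ≫ pullback.fst g i) = Set.range (pullback.fst g i) := by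
    show Set.range ((pullback.fst g i) ∘ h.isoPullback.hom) = _
    have h3 : Set.range (h.isoPullback.hom) = Set.univ :=
      Set.range_eq_univ.2 (TopCat.homeoOfIso h.isoPullback).surjective
    rw [Set.range_comp, h3, Set.image_univ]
  rw [h2, TopCat.pullback_fst_range]
  ext x
  constructor
  · rintro ⟨y, hy⟩
    exact ⟨y, hy.symm⟩
  · rintro ⟨y, hy⟩
    exact ⟨y, hy.symm⟩

end top

/-- the morphism of Cech nerves induced by an open embedding of the bases is a levelwise open
embedding, cartesian over the base -/
theorem openCart_φC (hj : Topology.IsOpenEmbedding j) : OpenCart (φC f j) where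
  emb s := by
    induction s using Opposite.rec with
    | op s =>
      cases s with
      | star => exact hj
      | of n => exact isOpenEmbedding_of_isPullback (isPullback_φk f j n.len) hj
  cart s := by
    induction s using Opposite.rec with
    | op s =>
      cases s with
      | star =>
        show Set.range j = (aMap (cechAug f) (bot _)) ⁻¹' Set.range j
        rw [hbot]
        rfl
      | of n => exact range_of_isPullback (isPullback_φk f j n.len)

/-- **cohomological descent of a map is local on the base** (for open embeddings covering the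
base) -/
theorem isCohDescentMap_of_cover {ι : Type*} (S' : ι → TopCat.{u}) (j : ∀ i, S' i ⟶ S)
    (hj : ∀ i, Topology.IsOpenEmbedding (j i)) (hcov : ∀ x : S, ∃ i, x ∈ Set.range (j i))
    (h : ∀ i, IsCohDescentMap (pullback.snd f (j i))) : IsCohDescentMap f :=
  LocCrit.isCohDescentTop_of_cover (cechAug f) (fun i => cechAug (pullback.snd f (j i)))
    (fun i => φC f (j i)) (fun i => openCart_φC f (j i) (hj i)) hcov h

end CechOpen

end Groth.Agent.Lib.helper27
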