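import Mathlib
import Groth.Prelude.Def_FibDesc
import Groth.Agent.Lib.Helper27.BiPb
import Groth.Agent.Lib.Helper27.CechOpen

set_option autoImplicit false
set_option linter.unusedSectionVars false
set_option linter.unusedVariables false
set_option linter.style.haveILetI false
set_option backward.isDefEq.respectTransparency false
set_option backward.isDefEq.respectTransparency.types false

namespace Groth.Agent.Lib.helper27

open CategoryTheory Limits Opposite
open FibDesc TopologicalSpace

universe u

namespace CechBi

open RanV ResGeo TAug TotSide BiAug BiMain BiPb CechOpen CechContr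

/-- the augmentation cone of the Cech nerve -/
noncomputable def augCone {X S : TopCat.{u}} (f : X ⟶ S) :
    cechAug f ⟶ (Functor.const _).obj S where
  app s := aMap (cechAug f) s
  naturality s t θ := (aMap_comp (cechAug f) θ).trans (Category.comp_id _).symm

instance isIso_augCone_bot {X S : TopCat.{u}} (f : X ⟶ S) :
    IsIso ((augCone f).app (bot SimplexCategory)) := by
  have h : (augCone f).app (bot SimplexCategory) = 𝟙 _ := hbot (cechAug f)
  rw [h]
  infer_instance

variable {X S S' : TopCat.{u}} (f : X ⟶ S) (j : S' ⟶ S)

/-- the Cech nerve of a base change is the base change of the Cech nerve, as an augmented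
simplicial space -/
theorem isPullback_φC (y : (WithInitial SimplexCategory)ᵒᵖ) :
    IsPullback ((φC f j).app y) ((augCone (pullback.snd f j)).app y) ((augCone f).app y) j := by
  induction y using Opposite.rec with
  | op s =>
    cases s with
    | star =>
      have h1 : (augCone (pullback.snd f j)).app (bot SimplexCategory) = 𝟙 _ :=
        hbot (cechAug (pullback.snd f j))
      have h2 : (augCone f).app (bot SimplexCategory) = 𝟙 _ := hbot (cechAug f)
      show IsPullback j ((augCone (pullback.snd f j)).app (bot SimplexCategory))
        ((augCone f).app (bot SimplexCategory)) j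
      rw [h1, h2]
      haveI : IsIso (𝟙 ((cechAug (pullback.snd f j)).obj (bot SimplexCategory))) := IsIso.id _
      haveI : IsIso (𝟙 ((cechAug f).obj (bot SimplexCategory))) := IsIso.id _
      exact IsPullback.of_vert_isIso ⟨(Category.comp_id _).trans (Category.id_comp _).symm⟩
    | of n => exact isPullback_φk f j n.len

/-- cohomological descent of a map which is universally of cohomological descent -/
theorem isCohDescentMap_of_univ (hf : IsUnivCohDescentMap f) : IsCohDescentMap f := by
  have h1 : IsCohDescentMap (pullback.snd f (𝟙 S)) := hf S (𝟙 S)
  haveI : ∀ y, IsIso ((φC f (𝟙 S)).app y) := fun y =>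
    (isPullback_φC f (𝟙 S) y).isIso_fst_of_isIso (IsIso.id S)
  haveI : IsIso (φC f (𝟙 S)) := NatIso.isIso_of_isIso_app _
  exact AugIso.isCohDescentTop_of_iso (asIso (φC f (𝟙 S))) h1

section main

variable {X Y S : TopCat.{u}} (u : X ⟶ S) (v : Y ⟶ S)

/-- **Comparison of the Cech nerves of two maps to the same space**: if `v` is universally of
cohomological descent and `u` becomes of cohomological descent after the base changes to the
levels of the Cech nerve of `v`, then `u` is of cohomological descent. -/
theorem isCohDescentMap_of_levels (hv : IsUnivCohDescentMap v)
    (h : ∀ n : SimplexCategory, IsCohDescentMap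
      (pullback.snd u ((augCone v).app (op (WithInitial.of n))))) :
    IsCohDescentMap u := by
  refine BiPb.isCohDescentTop_of_fibreProducts (augCone u) (augCone v)
    (isCohDescentMap_of_univ v hv) ?_ ?_
  · intro m
    exact AugIso.isCohDescentTop_of_iso
      (rowIso (augCone u) (augCone v) m
        (cechAug (pullback.snd v ((augCone u).app (op (WithInitial.of m)))))
        (φC v ((augCone u).app (op (WithInitial.of m))))
        (augCone (pullback.snd v ((augCone u).app (op (WithInitial.of m)))))
        (fun y => (isPullback_φC v ((augCone u).app (op (WithInitial.of m))) y).flip))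
      (hv _ _)
  · intro n
    exact AugIso.isCohDescentTop_of_iso
      (colIso (augCone u) (augCone v) n
        (cechAug (pullback.snd u ((augCone v).app (op (WithInitial.of n)))))
        (φC u ((augCone v).app (op (WithInitial.of n))))
        (augCone (pullback.snd u ((augCone v).app (op (WithInitial.of n)))))
        (fun x => isPullback_φC u ((augCone v).app (op (WithInitial.of n))) x))
      (h n)

end main

end CechBi

end Groth.Agent.Lib.helper27
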