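import Mathlib

set_option autoImplicit false

namespace Groth.Agent.Lib.helper27.CechCosk

open CategoryTheory Limits Opposite Functor SimplexCategory

universe v u

variable {C : Type u} [Category.{v} C] [HasFiniteProducts C] (A : C) (n : ℕ)

/-- the structured arrow given by the `j`-th vertex of `⦋m⦌` -/
noncomputable def vtx (m : SimplexCategory) (j : Fin (m.len + 1)) :
    StructuredArrow (op m) (Truncated.inclusion n).op :=
  StructuredArrow.mk (Y := op (⟨(SimplexCategory.mk 0), by simp⟩ : Truncated n))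
    (SimplexCategory.const (SimplexCategory.mk 0) m j).op

lemma map_π {a b : SimplexCategoryᵒᵖ} (f : a ⟶ b) (i : Fin (b.unop.len + 1)) :
    (cechNerveTerminalFrom A).map f ≫ Pi.π (fun _ : Fin (b.unop.len + 1) => A) i =
      Pi.π (fun _ : Fin (a.unop.len + 1) => A) (f.unop.toOrderHom i) := by
  dsimp only [cechNerveTerminalFrom]
  exact Pi.lift_π _ _

lemma coneAt_π (m : SimplexCategory) (g : StructuredArrow (op m) (Truncated.inclusion n).op)
    (i : Fin (g.right.unop.obj.len + 1)) :
    ((RightExtension.mk _ (𝟙 ((Truncated.inclusion n).op ⋙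
      cechNerveTerminalFrom A))).coneAt (op m)).π.app g ≫
        Pi.π (fun _ : Fin (g.right.unop.obj.len + 1) => A) i =
      Pi.π (fun _ : Fin (m.len + 1) => A) (g.hom.unop.toOrderHom i) := by
  show ((cechNerveTerminalFrom A).map g.hom ≫ 𝟙 _) ≫ Pi.π _ i = _
  rw [Category.comp_id]
  exact map_π A g.hom i

/-- the Čech nerve `[m] ↦ A^{m+1}` is a pointwise right Kan extension of its `n`-truncation -/
noncomputable def isPointwise :
    (RightExtension.mk _ (𝟙 ((Truncated.inclusion n).op ⋙ cechNerveTerminalFrom A))).IsPointwiseRightKanExtension := by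
  intro Y
  obtain ⟨m⟩ := Y
  refine
    { lift := fun s => Pi.lift fun j => s.π.app (vtx n m j) ≫ Pi.π (fun _ : Fin (0 + 1) => A) 0
      fac := ?_
      uniq := ?_ }
  · intro s g
    apply Pi.hom_ext
    intro i
    -- the morphism of structured arrows `g ⟶ vtx (g i)`
    let φ : g ⟶ vtx n m (g.hom.unop.toOrderHom i) :=
      StructuredArrow.homMk
        ((ObjectProperty.homMk (SimplexCategory.const (SimplexCategory.mk 0) g.right.unop.obj i) :
          (⟨SimplexCategory.mk 0, by simp⟩ : Truncated n) ⟶ g.right.unop).op)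
        (by
          apply Quiver.Hom.unop_inj
          exact SimplexCategory.const_comp _ g.hom.unop i)
    have hw := s.w φ
    have h1 : (StructuredArrow.proj (op m) (Truncated.inclusion n).op ⋙
        (Truncated.inclusion n).op ⋙ cechNerveTerminalFrom A).map φ ≫
          Pi.π (fun _ : Fin (0 + 1) => A) 0 =
        Pi.π (fun _ : Fin (g.right.unop.obj.len + 1) => A) i :=
      map_π A (SimplexCategory.const (SimplexCategory.mk 0) g.right.unop.obj i).op 0
    have e1 := Category.assoc
      (Pi.lift fun j => s.π.app (vtx n m j) ≫ Pi.π (fun _ : Fin (0 + 1) => A) 0)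
      (((RightExtension.mk _ (𝟙 ((Truncated.inclusion n).op ⋙
        cechNerveTerminalFrom A))).coneAt (op m)).π.app g)
      (Pi.π (fun _ : Fin (g.right.unop.obj.len + 1) => A) i)
    have e2 := congrArg
      (fun z => (Pi.lift fun j => s.π.app (vtx n m j) ≫ Pi.π (fun _ : Fin (0 + 1) => A) 0) ≫ z)
      (coneAt_π A n m g i)
    have e3 : (Pi.lift fun j => s.π.app (vtx n m j) ≫ Pi.π (fun _ : Fin (0 + 1) => A) 0) ≫
        Pi.π (fun _ : Fin (m.len + 1) => A) (g.hom.unop.toOrderHom i) =
        s.π.app (vtx n m (g.hom.unop.toOrderHom i)) ≫ Pi.π (fun _ : Fin (0 + 1) => A) 0 :=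
      Pi.lift_π _ _
    have e4 := congrArg (fun z => z ≫ Pi.π (fun _ : Fin (0 + 1) => A) 0) hw.symm
    have e5 := Category.assoc (s.π.app g)
      ((StructuredArrow.proj (op m) (Truncated.inclusion n).op ⋙
        (Truncated.inclusion n).op ⋙ cechNerveTerminalFrom A).map φ)
      (Pi.π (fun _ : Fin (0 + 1) => A) 0)
    have e6 := congrArg (fun z => s.π.app g ≫ z) h1
    exact e1.trans (e2.trans (e3.trans (e4.trans (e5.trans e6))))
  · intro s t ht
    apply Pi.hom_ext
    intro j
    have e1 : (Pi.lift fun j => s.π.app (vtx n m j) ≫ Pi.π (fun _ : Fin (0 + 1) => A) 0) ≫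
        Pi.π (fun _ : Fin (m.len + 1) => A) j =
        s.π.app (vtx n m j) ≫ Pi.π (fun _ : Fin (0 + 1) => A) 0 := Pi.lift_π _ _
    have e2 := congrArg (fun z => z ≫ Pi.π (fun _ : Fin (0 + 1) => A) 0) (ht (vtx n m j))
    have e3 := Category.assoc t
      (((RightExtension.mk _ (𝟙 ((Truncated.inclusion n).op ⋙
        cechNerveTerminalFrom A))).coneAt (op m)).π.app (vtx n m j))
      (Pi.π (fun _ : Fin (0 + 1) => A) 0)
    have e4 := congrArg (fun z => t ≫ z) (coneAt_π A n m (vtx n m j) 0)
    exact (e4.symm.trans (e3.symm.trans e2)).trans e1.symm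

theorem main : SimplicialObject.IsCoskeletal (cechNerveTerminalFrom A) n :=
  ⟨(isPointwise A n).isRightKanExtension⟩

end Groth.Agent.Lib.helper27.CechCosk
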