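import Mathlib
import Groth.Prelude.Def_CechEdge
import Groth.Agent.Lib.Helper27.CechSite
import Groth.Agent.Lib.Helper27.CechInj
import Groth.Agent.Lib.Helper27.ExtDelta

set_option autoImplicit false
set_option linter.unusedSectionVars false
set_option linter.unusedVariables false

namespace Groth.Agent.Lib.helper27

open CategoryTheory Limits Opposite DeltaF Abelian

universe u

namespace CechEdgeA

variable {C : Type u} [SmallCategory C] [HasPullbacks C] (J : GrothendieckTopology C)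
  {U : C} {ι : Type u} (Y : ι → Over U)

/-- abelian presheaves -/
abbrev PSh (C : Type u) [SmallCategory C] := Cᵒᵖ ⥤ AddCommGrpCat.{u}

lemma cx_map_f {P Q : PSh C} (φ : P ⟶ Q) (n : ℕ) :
    ((CechEdge.cxFunctor Y).map φ).f n =
      (Limits.Pi.map fun a : Fin (n + 1) → ι => φ.app (op (∏ᶜ (Y ∘ a)).left) :
        (∏ᶜ fun a : Fin (n + 1) → ι => P.obj (op (∏ᶜ (Y ∘ a)).left) : AddCommGrpCat.{u}) ⟶
          ∏ᶜ fun a : Fin (n + 1) → ι => Q.obj (op (∏ᶜ (Y ∘ a)).left)) := rfl

/-- the Cech complex functor is exact on presheaves -/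
lemma cx_shortExact (S : ShortComplex (PSh C)) (hS : S.ShortExact) :
    (S.map (CechEdge.cxFunctor Y)).ShortExact := by
  apply HomologicalComplex.shortExact_of_degreewise_shortExact
  intro n
  have hev : ∀ V : C, (S.map ((evaluation Cᵒᵖ AddCommGrpCat.{u}).obj (op V))).ShortExact :=
    fun V => hS.map_of_exact _
  exact CechLeray.prod_shortExact _ _ _
    (fun a : Fin (n + 1) → ι => S.f.app (op (∏ᶜ (Y ∘ a)).left))
    (fun a : Fin (n + 1) → ι => S.g.app (op (∏ᶜ (Y ∘ a)).left))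
    (fun a => by rw [← NatTrans.comp_app, S.zero]; rfl) _ (fun a => hev _)

/-- Cech cohomology as a cohomological delta-functor on presheaves -/
noncomputable def Tc : CohDeltaFunctor (PSh C) AddCommGrpCat.{u} ℕ where
  F p := CechEdge.cxFunctor Y ⋙ HomologicalComplex.homologyFunctor _ _ p
  additive p := inferInstance
  δ S hS n₀ n₁ h := (cx_shortExact Y S hS).δ n₀ n₁ h
  δ_natural {S S'} hS hS' φ n₀ n₁ h :=
    (HomologicalComplex.HomologySequence.δ_naturality
      ((CechEdge.cxFunctor Y).mapShortComplex.map φ) (cx_shortExact Y S hS)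
      (cx_shortExact Y S' hS') n₀ n₁ h).symm
  exact₂ S hS n := (cx_shortExact Y S hS).homology_exact₂ n
  comp_δ S hS n₀ n₁ h := (cx_shortExact Y S hS).comp_δ n₀ n₁ h
  exact₃ S hS n₀ n₁ h := (cx_shortExact Y S hS).homology_exact₃ n₀ n₁ h
  δ_comp S hS n₀ n₁ h := (cx_shortExact Y S hS).δ_comp n₀ n₁ h
  exact₁ S hS n₀ n₁ h := (cx_shortExact Y S hS).homology_exact₁ n₀ n₁ h

lemma Tc_isEffaceable : (Tc Y).IsEffaceable := by
  intro n X
  let M : C → AddCommGrpCat.{u} := fun V => X.obj (op V)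
  refine ⟨Cech.R M, Cech.η X, inferInstance, ?_⟩
  have hex : ((CechEdge.cxFunctor Y).obj (Cech.R M)).ExactAt (n + 1) :=
    Cech.exactAt_of_retract Y _ _ (Cech.overι U M) (Cech.overρ U M) (Cech.overι_ρ U M) n
  rw [HomologicalComplex.exactAt_iff_isZero_homology] at hex
  exact hex.eq_of_tgt _ _

/-- cohomology over `U` of the associated sheaf, as a delta-functor on presheaves -/
noncomputable def Ts : CohDeltaFunctor (PSh C) AddCommGrpCat.{u} ℕ :=
  DeltaFPre.precomp (ExtDelta.extDelta.{u} (CohCx.freeSheaf J U)) (presheafToSheaf J AddCommGrpCat.{u})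

lemma Tc_F_obj (p : ℕ) (P : PSh C) : ((Tc Y).F p).obj P = CohCx.cechH P Y p := rfl

lemma Ts_F_obj (p : ℕ) (P : PSh C) :
    ((Ts J (U := U)).F p).obj P = AddCommGrpCat.of (CohSite.HU (CechEdge.shf J P) p U) := rfl

lemma Tc_F_map (p : ℕ) {P Q : PSh C} (φ : P ⟶ Q) :
    (((Tc Y).F p).map φ).hom = CechEdge.cechHMap Y φ p := rfl

lemma Ts_F_map (p : ℕ) {P Q : PSh C} (φ : P ⟶ Q) :
    (((Ts J (U := U)).F p).map φ).hom = CechEdge.HUmap (CechEdge.shfMap J φ) p U := rfl

lemma Tc_δ (S : ShortComplex (PSh C)) (hS : S.ShortExact)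
    (hC : (S.map (CechEdge.cxFunctor Y)).ShortExact) (p : ℕ) :
    (Tc Y).δ S hS p (p + 1) rfl = hC.δ p (p + 1) rfl := rfl

lemma Ts_δ (S : ShortComplex (PSh C)) (hS : S.ShortExact) (p : ℕ) :
    ((Ts J (U := U)).δ S hS p (p + 1) rfl).hom =
      CechEdge.extδ (hS.map_of_exact (presheafToSheaf J AddCommGrpCat.{u})) U p := rfl

end CechEdgeA

end Groth.Agent.Lib.helper27
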