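import Mathlib
import Groth.Prelude.Def_CechEdge
import Groth.Agent.Lib.Helper27.CechEdgeA
import Groth.Agent.Lib.Helper27.CechCartan

set_option autoImplicit false
set_option linter.unusedSectionVars false
set_option linter.unusedVariables false

namespace Groth.Agent.Lib.helper27

open CategoryTheory Limits Opposite DeltaF Abelian

universe u

namespace CechEdgeA

variable {C : Type u} [SmallCategory C] [HasPullbacks C] (J : GrothendieckTopology C)
  {U : C} {ι : Type u} (Y : ι → Over U)

/-- naturality of the restriction to degree zero cochains -/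
lemma toCech₀_naturality {P Q : PSh C} (φ : P ⟶ Q) :
    CechEdge.toCech₀ P Y ≫ ((CechEdge.cxFunctor Y).map φ).f 0 =
      φ.app (op U) ≫ CechEdge.toCech₀ Q Y := by
  rw [cx_map_f]
  apply Pi.hom_ext
  intro a
  erw [Category.assoc, Pi.map_π, Pi.lift_π_assoc, Category.assoc, Pi.lift_π]
  exact φ.naturality (∏ᶜ Y ∘ a).hom.op

lemma toCycles_naturality {P Q : PSh C} (φ : P ⟶ Q) :
    CechEdge.toCycles P Y ≫ HomologicalComplex.cyclesMap ((CechEdge.cxFunctor Y).map φ) 0 =
      φ.app (op U) ≫ CechEdge.toCycles Q Y := by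
  rw [← cancel_mono ((CechEdge.cx Q Y).iCycles 0), Category.assoc, Category.assoc,
    CechEdge.toCycles_i]
  erw [HomologicalComplex.cyclesMap_i]
  rw [← Category.assoc]
  show (CechEdge.toCycles P Y ≫ (CechEdge.cx P Y).iCycles 0) ≫ _ = _
  rw [CechEdge.toCycles_i]
  exact toCech₀_naturality Y φ

/-- naturality of `toCech` -/
lemma toCech_naturality {P Q : PSh C} (φ : P ⟶ Q) (s : P.obj (op U)) :
    CechEdge.cechHMap Y φ 0 (CechEdge.toCech Y P s) = CechEdge.toCech Y Q (φ.app (op U) s) := by
  have h : (CechEdge.toCycles P Y ≫ (CechEdge.cx P Y).homologyπ 0) ≫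
      HomologicalComplex.homologyMap ((CechEdge.cxFunctor Y).map φ) 0 =
      φ.app (op U) ≫ CechEdge.toCycles Q Y ≫ (CechEdge.cx Q Y).homologyπ 0 := by
    rw [Category.assoc, HomologicalComplex.homologyπ_naturality, ← Category.assoc,
      toCycles_naturality, Category.assoc]
    rfl
  exact ConcreteCategory.congr_hom h s


section sheaf

variable (hY : Sieve.ofArrows (fun i => (Y i).left) (fun i => (Y i).hom) ∈ J U)
  (F : Sheaf J AddCommGrpCat.{u})

lemma toCech₀_eq_augQ :
    CechEdge.toCech₀ F.obj Y =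
      Cech.augQ Y ((Over.forget U).op ⋙ F.obj) (F.obj.obj (op U))
        (CechSite.ε J (Over.forget U) Y (fun i => (Y i).hom) F) := by
  apply Pi.hom_ext
  intro a
  erw [Pi.lift_π, Pi.lift_π]
  show F.obj.map _ = F.obj.map _
  congr 2
  exact (Over.w (Pi.π (Y ∘ a) 0)).symm

include hY in
/-- restriction to the members of a covering family is a kernel of the first Cech differential
of a sheaf -/
noncomputable def toCech₀IsKernel :
    IsLimit (KernelFork.ofι (CechEdge.toCech₀ F.obj Y) (CechEdge.toCech₀_d F.obj Y)) := by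
  let 𝒰 := CechSite.datumOver J Y hY
  have h := Cech.augQIsKernel Y ((Over.forget U).op ⋙ F.obj) (F.obj.obj (op U))
    (CechSite.ε J (Over.forget U) Y (fun i => (Y i).hom) F)
    (CechSite.hε J (Over.forget U) Y (fun i => (Y i).hom) 𝒰.hπ F)
    (CechSite.hG J (Over.forget U) Y (fun i => (Y i).hom) 𝒰.hcov 𝒰.hlift F)
  refine IsLimit.ofIsoLimit h (Fork.ext (Iso.refl _) ?_)
  show 𝟙 _ ≫ _ = _
  rw [Category.id_comp]
  exact toCech₀_eq_augQ J Y F

include hY in
lemma isIso_toCycles : IsIso (CechEdge.toCycles F.obj Y) := by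
  let e := IsLimit.conePointUniqueUpToIso (toCech₀IsKernel J Y hY F)
    ((CechEdge.cx F.obj Y).cyclesIsKernel 0 1 (by simp))
  have he : e.hom = CechEdge.toCycles F.obj Y := by
    rw [← cancel_mono ((CechEdge.cx F.obj Y).iCycles 0), CechEdge.toCycles_i]
    exact IsLimit.conePointUniqueUpToIso_hom_comp (toCech₀IsKernel J Y hY F)
      ((CechEdge.cx F.obj Y).cyclesIsKernel 0 1 (by simp)) WalkingParallelPair.zero
  rw [← he]
  infer_instance

include hY in
/-- for a sheaf and a covering family, `toCech` is bijective -/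
theorem toCech_bijective : Function.Bijective (CechEdge.toCech Y F.obj) := by
  have h1 := isIso_toCycles J Y hY F
  have h2 : IsIso ((CechEdge.cx F.obj Y).homologyπ 0) := inferInstance
  have : IsIso (CechEdge.toCycles F.obj Y ≫ (CechEdge.cx F.obj Y).homologyπ 0) := inferInstance
  exact ConcreteCategory.bijective_of_isIso
    (CechEdge.toCycles F.obj Y ≫ (CechEdge.cx F.obj Y).homologyπ 0)

/-- the inverse of `toCech` for a sheaf -/
noncomputable def toCechEquiv : F.obj.obj (op U) ≃+ CohCx.cechH F.obj Y 0 :=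
  AddEquiv.ofBijective (CechEdge.toCech Y F.obj) (toCech_bijective J Y hY F)

lemma toCechEquiv_apply (s : F.obj.obj (op U)) :
    toCechEquiv J Y hY F s = CechEdge.toCech Y F.obj s := rfl

end sheaf

section sectH0

/-- naturality of `sectH0` in the sheaf -/
lemma sectH0_naturality {F G : Sheaf J AddCommGrpCat.{u}} (ψ : F ⟶ G) (s : F.obj.obj (op U)) :
    CechEdge.HUmap ψ 0 U (CechEdge.sectH0 J U F s) =
      CechEdge.sectH0 J U G ((ψ.hom.app (op U)).hom s) := by
  have h1 : CechEdge.sectH0 J U F s = Ext.mk₀ (CohFree.ofSect J U F s) := rfl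
  have h2 : CechEdge.sectH0 J U G ((ψ.hom.app (op U)).hom s) =
      Ext.mk₀ (CohFree.ofSect J U G ((ψ.hom.app (op U)).hom s)) := rfl
  rw [h1, h2]
  show (Ext.mk₀ (CohFree.ofSect J U F s)).comp (Ext.mk₀ ψ) (add_zero 0) = _
  rw [Ext.mk₀_comp_mk₀]
  congr 1
  apply (CohFree.homEquivSect J U G).injective
  rw [CohFree.homEquivSect_apply, CohFree.homEquivSect_apply, CohFree.evalGen_ofSect]
  show (ψ.hom.app (op U)).hom (CohFree.evalGen J U F (CohFree.ofSect J U F s)) = _
  rw [CohFree.evalGen_ofSect]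

end sectH0

end CechEdgeA

end Groth.Agent.Lib.helper27
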