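import Mathlib
import Groth.Prelude.Def_CechEdge
import Groth.Agent.Lib.Helper27.CechEdgeB

set_option autoImplicit false
set_option linter.unusedSectionVars false
set_option linter.unusedVariables false

namespace Groth.Agent.Lib.helper27

open CategoryTheory Limits Opposite DeltaF Abelian

universe u

namespace CechEdgeA

variable {C : Type u} [SmallCategory C] [HasPullbacks C] (J : GrothendieckTopology C)
  {U : C} {ι : Type u} (Y : ι → Over U)
  (hY : Sieve.ofArrows (fun i => (Y i).left) (fun i => (Y i).hom) ∈ J U)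

/-- the unit of sheafification as a morphism to the underlying presheaf of the associated sheaf -/
noncomputable abbrev η (P : PSh C) : P ⟶ (CechEdge.shf J P).obj := toSheafify J P

lemma η_naturality {P Q : PSh C} (φ : P ⟶ Q) :
    φ ≫ η J Q = η J P ≫ (CechEdge.shfMap J φ).hom :=
  toSheafify_naturality J φ

/-- the degree zero comparison on a presheaf, as an additive map -/
noncomputable def t0Hom (P : PSh C) :
    CohCx.cechH P Y 0 →+ CohSite.HU (CechEdge.shf J P) 0 U :=
  ((CechEdge.sectH0 J U (CechEdge.shf J P)).toAddMonoidHom.comp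
    (toCechEquiv J Y hY (CechEdge.shf J P)).symm.toAddMonoidHom).comp
    (CechEdge.cechHMap Y (η J P) 0)

lemma t0Hom_apply (P : PSh C) (x : CohCx.cechH P Y 0) :
    t0Hom J Y hY P x = CechEdge.sectH0 J U (CechEdge.shf J P)
      ((toCechEquiv J Y hY (CechEdge.shf J P)).symm (CechEdge.cechHMap Y (η J P) 0 x)) := rfl

lemma cechHMap_comp {P Q R : PSh C} (φ : P ⟶ Q) (ψ : Q ⟶ R) (p : ℕ) (x : CohCx.cechH P Y p) :
    CechEdge.cechHMap Y (φ ≫ ψ) p x = CechEdge.cechHMap Y ψ p (CechEdge.cechHMap Y φ p x) := by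
  have h : ((Tc Y).F p).map (φ ≫ ψ) = ((Tc Y).F p).map φ ≫ ((Tc Y).F p).map ψ :=
    Functor.map_comp _ _ _
  exact ConcreteCategory.congr_hom h x

lemma t0Hom_naturality {P Q : PSh C} (φ : P ⟶ Q) (x : CohCx.cechH P Y 0) :
    t0Hom J Y hY Q (CechEdge.cechHMap Y φ 0 x) =
      CechEdge.HUmap (CechEdge.shfMap J φ) 0 U (t0Hom J Y hY P x) := by
  rw [t0Hom_apply, t0Hom_apply, sectH0_naturality]
  congr 1
  rw [AddEquiv.symm_apply_eq, toCechEquiv_apply, ← toCech_naturality, ← toCechEquiv_apply J Y hY,
    AddEquiv.apply_symm_apply, ← cechHMap_comp, ← cechHMap_comp, η_naturality]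

lemma t0Hom_toCech (P : PSh C) (s : P.obj (op U)) :
    t0Hom J Y hY P (CechEdge.toCech Y P s) =
      CechEdge.sectH0 J U (CechEdge.shf J P) (((toSheafify J P).app (op U)).hom s) := by
  rw [t0Hom_apply]
  congr 1
  rw [AddEquiv.symm_apply_eq, toCechEquiv_apply, toCech_naturality]

/-- the degree zero natural transformation -/
noncomputable def t0 : (Tc Y).F 0 ⟶ (Ts J (U := U)).F 0 where
  app P := AddCommGrpCat.ofHom (t0Hom J Y hY P)
  naturality P Q φ := by
    apply AddCommGrpCat.hom_ext
    apply AddMonoidHom.ext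
    intro x
    exact t0Hom_naturality J Y hY φ x

/-- the morphism of delta-functors from Cech cohomology to cohomology of the associated sheaf -/
noncomputable def τ : Tc Y ⟶ Ts J (U := U) := extHom (Ts J) (Tc_isEffaceable Y) (t0 J Y hY)

/-- the canonical edge family -/
noncomputable def edge (P : PSh C) (p : ℕ) :
    CohCx.cechH P Y p →+ CohSite.HU (CechEdge.shf J P) p U :=
  (((τ J Y hY).app p).app P).hom

theorem edge_isEdge : CechEdge.IsEdge J Y (edge J Y hY) where
  cover := hY
  zero P s := t0Hom_toCech J Y hY P s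
  natural P Q φ p x :=
    ConcreteCategory.congr_hom (((τ J Y hY).app p).naturality φ) x
  delta S hS hC p x :=
    ConcreteCategory.congr_hom ((τ J Y hY).comm S hS p (p + 1) rfl) x

end CechEdgeA

end Groth.Agent.Lib.helper27
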