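import Mathlib
import Groth.Prelude.Def_CechEdge
import Groth.Agent.Lib.Helper27.CechEdgeC

set_option autoImplicit false
set_option linter.unusedSectionVars false
set_option linter.unusedVariables false

namespace Groth.Agent.Lib.helper27

open CategoryTheory Limits Opposite DeltaF Abelian

universe u

namespace CechEdgeA

variable {C : Type u} [SmallCategory C] [HasPullbacks C] (J : GrothendieckTopology C)
  {U : C} {ι : Type u} (Y : ι → Over U)

section ofEdge

variable (e : ∀ (P : PSh C) (p : ℕ), CohCx.cechH P Y p →+ CohSite.HU (CechEdge.shf J P) p U)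
  (he : CechEdge.IsEdge J Y e)

include he in
/-- an edge family is a morphism of delta-functors -/
noncomputable def ofEdge : Tc Y ⟶ Ts J (U := U) where
  app p :=
    { app := fun P => AddCommGrpCat.ofHom (e P p)
      naturality := fun P Q φ => by
        apply AddCommGrpCat.hom_ext
        apply AddMonoidHom.ext
        intro x
        exact he.natural P Q φ p x }
  comm S hS n₀ n₁ h := by
    subst h
    apply AddCommGrpCat.hom_ext
    apply AddMonoidHom.ext
    intro x
    exact he.delta S hS (cx_shortExact Y S hS) n₀ x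

lemma ofEdge_app (P : PSh C) (p : ℕ) : (((ofEdge J Y e he).app p).app P).hom = e P p := rfl

end ofEdge

/-- sheafification inverts the unit -/
instance isIso_shfMap_η (P : PSh C) : IsIso (CechEdge.shfMap J (η J P)) := by
  have h : CechEdge.shfMap J (η J P) ≫
      (sheafificationAdjunction J AddCommGrpCat.{u}).counit.app (CechEdge.shf J P) = 𝟙 _ :=
    (sheafificationAdjunction J AddCommGrpCat.{u}).left_triangle_components P
  have : IsIso ((sheafificationAdjunction J AddCommGrpCat.{u}).counit.app (CechEdge.shf J P)) :=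
    inferInstance
  have h2 : IsIso (CechEdge.shfMap J (η J P) ≫
      (sheafificationAdjunction J AddCommGrpCat.{u}).counit.app (CechEdge.shf J P)) := by
    rw [h]; infer_instance
  exact IsIso.of_isIso_comp_right _
    ((sheafificationAdjunction J AddCommGrpCat.{u}).counit.app (CechEdge.shf J P))

lemma HUmap_bijective_of_isIso {F G : Sheaf J AddCommGrpCat.{u}} (ψ : F ⟶ G) [IsIso ψ] (p : ℕ) :
    Function.Bijective (CechEdge.HUmap ψ p U) :=
  ConcreteCategory.bijective_of_isIso
    (((extFunctor.{u} p).obj (op (CohCx.freeSheaf J U))).map ψ)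

/-- an edge family is determined in degree zero -/
lemma edge_zero_eq
    (e : ∀ (P : PSh C) (p : ℕ), CohCx.cechH P Y p →+ CohSite.HU (CechEdge.shf J P) p U)
    (he : CechEdge.IsEdge J Y e) (P : PSh C) (x : CohCx.cechH P Y 0) :
    e P 0 x = t0Hom J Y he.cover P x := by
  apply (HUmap_bijective_of_isIso J (CechEdge.shfMap J (η J P)) 0).1
  rw [← he.natural P _ (η J P) 0 x, ← t0Hom_naturality J Y he.cover (η J P) x]
  obtain ⟨s, hs⟩ := (toCech_bijective J Y he.cover (CechEdge.shf J P)).2
    (CechEdge.cechHMap Y (η J P) 0 x)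
  rw [← hs, he.zero, t0Hom_toCech]

/-- **uniqueness of edge families** -/
theorem isEdge_unique
    (e e' : ∀ (P : PSh C) (p : ℕ), CohCx.cechH P Y p →+ CohSite.HU (CechEdge.shf J P) p U)
    (he : CechEdge.IsEdge J Y e) (he' : CechEdge.IsEdge J Y e') : e = e' := by
  have huniv := isUniversal_of_isEffaceable (Tc_isEffaceable Y) (Ts J (U := U))
    ((ofEdge J Y e he).app 0)
  obtain ⟨τ₀, -, huniq⟩ := huniv
  have h1 : ofEdge J Y e he = τ₀ := huniq _ rfl
  have h2 : ofEdge J Y e' he' = τ₀ := huniq _ (by
    ext P x
    show e' P 0 x = e P 0 x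
    rw [edge_zero_eq J Y e he, edge_zero_eq J Y e' he'])
  funext P p
  rw [← ofEdge_app J Y e he, ← ofEdge_app J Y e' he', h1, h2]

end CechEdgeA

end Groth.Agent.Lib.helper27
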