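import Mathlib
import Groth.Prelude.Def_CechEdge
import Groth.Agent.Lib.Helper27.CechEdgeD

set_option autoImplicit false
set_option linter.unusedSectionVars false
set_option linter.unusedVariables false

namespace Groth.Agent.Lib.helper27

open CategoryTheory Limits Opposite DeltaF Abelian

universe u

namespace CechEdgeA

variable {C : Type u} [SmallCategory C] [HasPullbacks C] (J : GrothendieckTopology C)
  {U : C} {ι κ : Type u} (Y : ι → Over U) (Y' : κ → Over U)
  (f : FormalCoproduct.mk ι Y ⟶ FormalCoproduct.mk κ Y')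

/-- the refinement natural transformation on Cech complex functors of `Over U` -/
noncomputable def refineNat :
    FormalCoproduct.cochainComplexFunctor (A := AddCommGrpCat.{u}) (FormalCoproduct.mk κ Y').cech ⟶
      FormalCoproduct.cochainComplexFunctor (A := AddCommGrpCat.{u}) (FormalCoproduct.mk ι Y).cech :=
  Functor.whiskerRight
    (Functor.whiskerLeft (FormalCoproduct.evalOp.{u} (Over U) AddCommGrpCat.{u})
      ((Functor.whiskeringLeft _ _ _).map (NatTrans.rightOp (FormalCoproduct.cechFunctor.map f))))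
    (AlgebraicTopology.alternatingCofaceMapComplex AddCommGrpCat.{u})

/-- the refinement natural transformation on Cech complex functors of presheaves on `C` -/
noncomputable def ρ : CechEdge.cxFunctor (C := C) Y' ⟶ CechEdge.cxFunctor Y :=
  Functor.whiskerLeft _ (refineNat Y Y' f)

lemma ρ_app (P : PSh C) : (ρ Y Y' f).app P = CohCx.cechRefine P f := rfl

lemma ρ_app_f (P : PSh C) (n : ℕ) :
    ((ρ Y Y' f).app P).f n =
      ((FormalCoproduct.evalOp.{u} (Over U) AddCommGrpCat.{u}).obj ((Over.forget U).op ⋙ P)).map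
        (FormalCoproduct.powerMap f (Fin (n + 1))).op := rfl

lemma toCech₀_ρ (P : PSh C) :
    CechEdge.toCech₀ P Y' ≫ ((ρ Y Y' f).app P).f 0 = CechEdge.toCech₀ P Y := by
  rw [ρ_app_f, FormalCoproduct.evalOp_obj_map]
  apply Pi.hom_ext
  intro i
  erw [Category.assoc, Pi.lift_π, Pi.lift_π, Pi.lift_π_assoc]
  change P.map _ ≫ P.map _ = P.map _
  rw [← P.map_comp]
  congr 1
  exact congrArg Quiver.Hom.op (Over.w ((FormalCoproduct.powerMap f (Fin (0 + 1))).φ i))


lemma toCycles_ρ (P : PSh C) :
    CechEdge.toCycles P Y' ≫ HomologicalComplex.cyclesMap ((ρ Y Y' f).app P) 0 =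
      CechEdge.toCycles P Y := by
  rw [← cancel_mono ((CechEdge.cx P Y).iCycles 0), Category.assoc, CechEdge.toCycles_i]
  erw [HomologicalComplex.cyclesMap_i]
  rw [← Category.assoc]
  show (CechEdge.toCycles P Y' ≫ (CechEdge.cx P Y').iCycles 0) ≫ _ = _
  rw [CechEdge.toCycles_i]
  exact toCech₀_ρ Y Y' f P

lemma toCech_ρ (P : PSh C) (s : P.obj (op U)) :
    (HomologicalComplex.homologyMap ((ρ Y Y' f).app P) 0).hom (CechEdge.toCech Y' P s) =
      CechEdge.toCech Y P s := by
  have h : (CechEdge.toCycles P Y' ≫ (CechEdge.cx P Y').homologyπ 0) ≫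
      HomologicalComplex.homologyMap ((ρ Y Y' f).app P) 0 =
      CechEdge.toCycles P Y ≫ (CechEdge.cx P Y).homologyπ 0 := by
    rw [Category.assoc, HomologicalComplex.homologyπ_naturality, ← Category.assoc]
    erw [toCycles_ρ]
    rfl
  exact ConcreteCategory.congr_hom h s

/-- the family obtained from an edge family for `Y` by composing with refinement -/
noncomputable def refineEdge
    (e : ∀ (P : PSh C) (p : ℕ), CohCx.cechH P Y p →+ CohSite.HU (CechEdge.shf J P) p U)
    (P : PSh C) (p : ℕ) : CohCx.cechH P Y' p →+ CohSite.HU (CechEdge.shf J P) p U :=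
  (e P p).comp (HomologicalComplex.homologyMap ((ρ Y Y' f).app P) p).hom

lemma refineEdge_apply
    (e : ∀ (P : PSh C) (p : ℕ), CohCx.cechH P Y p →+ CohSite.HU (CechEdge.shf J P) p U)
    (P : PSh C) (p : ℕ) (x : CohCx.cechH P Y' p) :
    refineEdge J Y Y' f e P p x =
      e P p ((HomologicalComplex.homologyMap ((ρ Y Y' f).app P) p).hom x) := rfl

lemma homologyMap_ρ_naturality {P Q : PSh C} (φ : P ⟶ Q) (p : ℕ) (x : CohCx.cechH P Y' p) :
    (HomologicalComplex.homologyMap ((ρ Y Y' f).app Q) p).hom (CechEdge.cechHMap Y' φ p x) =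
      CechEdge.cechHMap Y φ p ((HomologicalComplex.homologyMap ((ρ Y Y' f).app P) p).hom x) := by
  have h : HomologicalComplex.homologyMap ((CechEdge.cxFunctor Y').map φ) p ≫
      HomologicalComplex.homologyMap ((ρ Y Y' f).app Q) p =
      HomologicalComplex.homologyMap ((ρ Y Y' f).app P) p ≫
        HomologicalComplex.homologyMap ((CechEdge.cxFunctor Y).map φ) p := by
    rw [← HomologicalComplex.homologyMap_comp, ← HomologicalComplex.homologyMap_comp,
      (ρ Y Y' f).naturality φ]
  exact ConcreteCategory.congr_hom h x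

lemma δ_ρ (S : ShortComplex (PSh C))
    (hC : (S.map (CechEdge.cxFunctor Y)).ShortExact)
    (hC' : (S.map (CechEdge.cxFunctor Y')).ShortExact) (p : ℕ) (x : CohCx.cechH S.X₃ Y' p) :
    (HomologicalComplex.homologyMap ((ρ Y Y' f).app S.X₁) (p + 1)).hom
        ((hC'.δ p (p + 1) rfl).hom x) =
      (hC.δ p (p + 1) rfl).hom
        ((HomologicalComplex.homologyMap ((ρ Y Y' f).app S.X₃) p).hom x) := by
  have h := HomologicalComplex.HomologySequence.δ_naturality
    (S.mapNatTrans (ρ Y Y' f)) hC' hC p (p + 1) rfl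
  exact ConcreteCategory.congr_hom h x

theorem refineEdge_isEdge
    (e : ∀ (P : PSh C) (p : ℕ), CohCx.cechH P Y p →+ CohSite.HU (CechEdge.shf J P) p U)
    (he : CechEdge.IsEdge J Y e)
    (hY' : Sieve.ofArrows (fun i => (Y' i).left) (fun i => (Y' i).hom) ∈ J U) :
    CechEdge.IsEdge J Y' (refineEdge J Y Y' f e) where
  cover := hY'
  zero P s := by
    rw [refineEdge_apply, toCech_ρ, he.zero]
  natural P Q φ p x := by
    rw [refineEdge_apply, refineEdge_apply, homologyMap_ρ_naturality, he.natural]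
  delta S hS hC' p x := by
    rw [refineEdge_apply, refineEdge_apply, δ_ρ Y Y' f S (cx_shortExact Y S hS) hC',
      he.delta S hS (cx_shortExact Y S hS)]

/-- **compatibility of edge families with refinement** -/
theorem edge_refine
    (e : ∀ (P : PSh C) (p : ℕ), CohCx.cechH P Y p →+ CohSite.HU (CechEdge.shf J P) p U)
    (e' : ∀ (P : PSh C) (p : ℕ), CohCx.cechH P Y' p →+ CohSite.HU (CechEdge.shf J P) p U)
    (he : CechEdge.IsEdge J Y e) (he' : CechEdge.IsEdge J Y' e')
    (P : PSh C) (p : ℕ) (x : CohCx.cechH P Y' p) :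
    e P p ((HomologicalComplex.homologyMap (CohCx.cechRefine P f) p).hom x) = e' P p x := by
  have h := isEdge_unique J Y' _ _ (refineEdge_isEdge J Y Y' f e he he'.cover) he'
  rw [← h]
  rfl

theorem edgeSh_refine
    (e : ∀ (P : PSh C) (p : ℕ), CohCx.cechH P Y p →+ CohSite.HU (CechEdge.shf J P) p U)
    (e' : ∀ (P : PSh C) (p : ℕ), CohCx.cechH P Y' p →+ CohSite.HU (CechEdge.shf J P) p U)
    (he : CechEdge.IsEdge J Y e) (he' : CechEdge.IsEdge J Y' e')
    (F : Sheaf J AddCommGrpCat.{u}) (p : ℕ) (x : CohCx.cechH F.obj Y' p) :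
    CechEdge.edgeSh e F p ((HomologicalComplex.homologyMap (CohCx.cechRefine F.obj f) p).hom x) =
      CechEdge.edgeSh e' F p x := by
  show CechEdge.HUmap _ p U (e F.obj p _) = CechEdge.HUmap _ p U (e' F.obj p x)
  rw [edge_refine J Y Y' f e e' he he']

end CechEdgeA

end Groth.Agent.Lib.helper27
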