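import Mathlib
import Groth.Prelude.Def_DeltaF
import Groth.Agent.Lib.Helper27.DeltaF

set_option linter.unusedSectionVars false
set_option linter.unusedVariables false

namespace Groth.Agent.Lib.helper27

open CategoryTheory Limits DeltaF

universe v u v' u'

section

variable {A : Type u} [Category.{v} A] [Abelian A] {B : Type u'} [Category.{v'} B] [Abelian B]
variable {T T' : CohDeltaFunctor A B ℕ} (φ : T ⟶ T')

lemma hom_naturality (i : ℕ) {X Y : A} (f : X ⟶ Y) :
    (T.F i).map f ≫ (φ.app i).app Y = (φ.app i).app X ≫ (T'.F i).map f :=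
  (φ.app i).naturality f

/-- the mono step of the four lemma on the long exact sequences -/
lemma mono_step_core (i : ℕ) (S : ShortComplex A) (hS : S.ShortExact)
    (h2 : Epi ((φ.app i).app S.X₂)) (h3 : Mono ((φ.app i).app S.X₃))
    {K : B} (k : K ⟶ (T.F (i + 1)).obj S.X₁) (hk : k ≫ (φ.app (i + 1)).app S.X₁ = 0)
    (hk2 : k ≫ (T.F (i + 1)).map S.f = 0) : k = 0 := by
  obtain ⟨K₁, π₁, hπ₁, z, hz⟩ := (T.exact₁ S hS i (i + 1) rfl).exact_up_to_refinements k hk2
  have hz2 : (z ≫ (φ.app i).app S.X₃) ≫ T'.δ S hS i (i + 1) rfl = 0 := by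
    rw [Category.assoc, ← φ.comm S hS i (i + 1) rfl, ← Category.assoc]
    erw [← hz]
    rw [Category.assoc, hk, comp_zero]
  obtain ⟨K₂, π₂, hπ₂, y', hy'⟩ :=
    (T'.exact₃ S hS i (i + 1) rfl).exact_up_to_refinements _ hz2
  obtain ⟨K₃, π₃, hπ₃, y, hy⟩ := surjective_up_to_refinements_of_epi ((φ.app i).app S.X₂) y'
  have e : y ≫ (T.F i).map S.g = π₃ ≫ π₂ ≫ z := by
    rw [← cancel_mono ((φ.app i).app S.X₃), Category.assoc, hom_naturality, ← Category.assoc, ← hy,
      Category.assoc, Category.assoc, Category.assoc]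
    erw [← hy']
  rw [← cancel_epi π₁, ← cancel_epi π₂, ← cancel_epi π₃, comp_zero, comp_zero, comp_zero]
  erw [hz]
  rw [← Category.assoc, ← Category.assoc, Category.assoc π₃, ← e, Category.assoc]
  erw [T.comp_δ]
  rw [comp_zero]

lemma mono_step (i : ℕ) (S : ShortComplex A) (hS : S.ShortExact)
    (h2 : Epi ((φ.app i).app S.X₂)) (h3 : Mono ((φ.app i).app S.X₃))
    (h2' : Mono ((φ.app (i + 1)).app S.X₂)) :
    Mono ((φ.app (i + 1)).app S.X₁) := by
  apply Preadditive.mono_of_cancel_zero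
  intro K k hk
  have hk2 : k ≫ (T.F (i + 1)).map S.f = 0 := by
    rw [← cancel_mono ((φ.app (i + 1)).app S.X₂), Category.assoc, hom_naturality, ← Category.assoc,
      hk, zero_comp, zero_comp]
  exact mono_step_core φ i S hS h2 h3 k hk hk2

lemma mono_step_eff (i : ℕ) (S : ShortComplex A) (hS : S.ShortExact)
    (h2 : Epi ((φ.app i).app S.X₂)) (h3 : Mono ((φ.app i).app S.X₃))
    (h0 : (T.F (i + 1)).map S.f = 0) :
    Mono ((φ.app (i + 1)).app S.X₁) := by
  apply Preadditive.mono_of_cancel_zero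
  intro K k hk
  exact mono_step_core φ i S hS h2 h3 k hk (by rw [h0, comp_zero])

/-- epi step when the target is effaced -/
lemma epi_step_eff (i : ℕ) (S : ShortComplex A) (hS : S.ShortExact)
    (h3 : Epi ((φ.app i).app S.X₃)) (h0 : (T'.F (i + 1)).map S.f = 0) :
    Epi ((φ.app (i + 1)).app S.X₁) := by
  have : Epi (T'.δ S hS i (i + 1) rfl) := epi_δ_of_eff T' i S hS h0
  have : Epi (T.δ S hS i (i + 1) rfl ≫ (φ.app (i + 1)).app S.X₁) := by
    rw [φ.comm S hS i (i + 1) rfl]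
    exact epi_comp _ _
  exact epi_of_epi (T.δ S hS i (i + 1) rfl) _

/-- the epi step of the four lemma on the long exact sequences -/
lemma epi_step (i : ℕ) (S : ShortComplex A) (hS : S.ShortExact)
    (h3 : Epi ((φ.app i).app S.X₃)) (h2' : Epi ((φ.app (i + 1)).app S.X₂))
    (h3' : Mono ((φ.app (i + 1)).app S.X₃)) :
    Epi ((φ.app (i + 1)).app S.X₁) := by
  rw [epi_iff_surjective_up_to_refinements]
  intro K a'
  obtain ⟨K₁, π₁, hπ₁, m, hm⟩ := surjective_up_to_refinements_of_epi ((φ.app (i + 1)).app S.X₂)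
    (a' ≫ (T'.F (i + 1)).map S.f)
  have hm2 : m ≫ (T.F (i + 1)).map S.g = 0 := by
    rw [← cancel_mono ((φ.app (i + 1)).app S.X₃), Category.assoc, hom_naturality, ← Category.assoc,
      ← hm, Category.assoc, Category.assoc, ← Functor.map_comp, S.zero, Functor.map_zero,
      comp_zero, comp_zero, zero_comp]
  obtain ⟨K₂, π₂, hπ₂, a₀, ha₀⟩ := (T.exact₂ S hS (i + 1)).exact_up_to_refinements m hm2
  have he : (π₂ ≫ π₁ ≫ a' - a₀ ≫ (φ.app (i + 1)).app S.X₁) ≫ (T'.F (i + 1)).map S.f = 0 := by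
    rw [Preadditive.sub_comp, Category.assoc, Category.assoc, Category.assoc, hm,
      ← hom_naturality, ← Category.assoc π₂, ← Category.assoc a₀]
    erw [ha₀]
    simp
  obtain ⟨K₃, π₃, hπ₃, z', hz'⟩ := (T'.exact₁ S hS i (i + 1) rfl).exact_up_to_refinements _ he
  obtain ⟨K₄, π₄, hπ₄, z, hz⟩ := surjective_up_to_refinements_of_epi ((φ.app i).app S.X₃) z'
  refine ⟨K₄, π₄ ≫ π₃ ≫ π₂ ≫ π₁, inferInstance, π₄ ≫ π₃ ≫ a₀ + z ≫ T.δ S hS i (i + 1) rfl, ?_⟩
  have : π₄ ≫ π₃ ≫ (π₂ ≫ π₁ ≫ a' - a₀ ≫ (φ.app (i + 1)).app S.X₁) =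
      z ≫ T.δ S hS i (i + 1) rfl ≫ (φ.app (i + 1)).app S.X₁ := by
    erw [hz']
    rw [φ.comm S hS i (i + 1) rfl, ← Category.assoc, hz, Category.assoc]
  rw [Preadditive.add_comp, Category.assoc z, ← this]
  simp

lemma isIso_nat_iff {F G : A ⥤ B} (α : F ⟶ G) : IsIso α ↔ ∀ X, IsIso (α.app X) :=
  NatTrans.isIso_iff_isIso_app α

theorem iso_le_mono_succ_iff (hT : T.IsEffaceable) (n : ℕ) :
    ((∀ i : ℕ, i ≤ n → IsIso (φ.app i)) ∧ Mono (φ.app (n + 1)) ↔
      (Mono (φ.app 0) ∧ ∀ i : ℕ, i ≤ n → Epi (φ.app i))) ∧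
    ((∀ i : ℕ, i ≤ n → IsIso (φ.app i)) ∧ Mono (φ.app (n + 1)) ↔
      (IsIso (φ.app 0) ∧ ∀ i : ℕ, 0 < i → i ≤ n → ∀ X : A, ∃ (Y : A) (u : X ⟶ Y),
        Mono u ∧ (T'.F i).map u = 0)) := by
  -- the mono step
  have L1 : ∀ i, IsIso (φ.app i) → Mono (φ.app (i + 1)) := by
    intro i hi
    rw [NatTrans.mono_iff_mono_app]
    rw [isIso_nat_iff] at hi
    intro X
    exact mono_step_eff φ i (cokerSES (effMap hT i X)) (cokerSES_shortExact _)
      (by have := hi (cokerSES (effMap hT i X)).X₂; infer_instance)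
      (by have := hi (cokerSES (effMap hT i X)).X₃; infer_instance) (effMap_eff hT i X)
  have L2 : ∀ (i : ℕ) (f : T.F i ⟶ T'.F i), Mono f → Epi f → IsIso f := by
    intro i f h1 h2
    rw [isIso_nat_iff]
    rw [NatTrans.mono_iff_mono_app] at h1
    rw [NatTrans.epi_iff_epi_app] at h2
    intro X
    have := h1 X
    have := h2 X
    exact isIso_of_mono_of_epi _
  refine ⟨⟨?_, ?_⟩, ⟨?_, ?_⟩⟩
  · rintro ⟨h1, h2⟩
    refine ⟨?_, fun i hi => ?_⟩
    · have := h1 0 (Nat.zero_le _); infer_instance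
    · have := h1 i hi; infer_instance
  · rintro ⟨h1, h2⟩
    have key : ∀ i, i ≤ n → IsIso (φ.app i) := by
      intro i
      induction i with
      | zero => intro _; exact L2 0 _ h1 (h2 0 (Nat.zero_le _))
      | succ i ih =>
        intro hi
        exact L2 _ _ (L1 i (ih (by omega))) (h2 _ hi)
    exact ⟨key, L1 n (key n le_rfl)⟩
  · rintro ⟨h1, h2⟩
    refine ⟨h1 0 (Nat.zero_le _), ?_⟩
    intro i hi0 hin X
    obtain ⟨j, rfl⟩ : ∃ j, i = j + 1 := ⟨i - 1, by omega⟩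
    have hiso := (isIso_nat_iff _).1 (h1 _ hin)
    refine ⟨effObj hT j X, effMap hT j X, inferInstance, ?_⟩
    have h3 : IsIso ((φ.app (j + 1)).app X) := hiso X
    have h4 : Epi ((φ.app (j + 1)).app X) := IsIso.epi_of_iso _
    rw [← cancel_epi ((φ.app (j + 1)).app X), ← hom_naturality, effMap_eff, zero_comp, comp_zero]
  · rintro ⟨h1, h2⟩
    have key : ∀ i, i ≤ n → IsIso (φ.app i) := by
      intro i
      induction i with
      | zero => intro _; exact h1
      | succ i ih =>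
        intro hi
        have hiso := ih (by omega)
        refine L2 _ _ (L1 i hiso) ?_
        rw [NatTrans.epi_iff_epi_app]
        intro X
        obtain ⟨Y, u, hu, hu0⟩ := h2 (i + 1) (by omega) hi X
        rw [isIso_nat_iff] at hiso
        exact epi_step_eff φ i (cokerSES u) (cokerSES_shortExact _)
          (by
            have h3 : IsIso ((φ.app i).app (cokerSES u).X₃) := hiso (cokerSES u).X₃
            exact IsIso.epi_of_iso _) hu0
    exact ⟨key, L1 n (key n le_rfl)⟩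

end

end Groth.Agent.Lib.helper27
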