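import Mathlib
import Groth.Prelude.Def_CechEdge
import Groth.Agent.Lib.Helper27.CechEdgeD
import Groth.Agent.Lib.Helper27.CechLeray
import Groth.Agent.Lib.Helper27.DeltaF2

set_option autoImplicit false
set_option linter.unusedSectionVars false
set_option linter.unusedVariables false

namespace Groth.Agent.Lib.helper27

open CategoryTheory Limits Opposite DeltaF Abelian

universe u

namespace CechEdgeA

section four

variable {A₁ A₂ A₃ B₁ B₂ B₃ : Type*} [AddCommGroup A₁] [AddCommGroup A₂] [AddCommGroup A₃]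
  [AddCommGroup B₁] [AddCommGroup B₂] [AddCommGroup B₃]
  (f₁ : A₁ →+ A₂) (g₁ : A₂ →+ A₃) (f₂ : B₁ →+ B₂) (g₂ : B₂ →+ B₃)
  (τ₁ : A₁ →+ B₁) (τ₂ : A₂ →+ B₂) (τ₃ : A₃ →+ B₃)
  (c₁ : ∀ x, τ₂ (f₁ x) = f₂ (τ₁ x)) (c₂ : ∀ x, τ₃ (g₁ x) = g₂ (τ₂ x))

include c₁ c₂ in
lemma four_inj (z₁ : ∀ x, g₁ (f₁ x) = 0) (hg₁ : Function.Surjective g₁)
    (ex₂ : ∀ y, g₂ y = 0 → ∃ z, f₂ z = y)
    (h₁ : Function.Surjective τ₁) (h₂ : Function.Injective τ₂) : Function.Injective τ₃ := by
  rw [injective_iff_map_eq_zero]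
  intro x hx
  obtain ⟨y, rfl⟩ := hg₁ x
  rw [c₂] at hx
  obtain ⟨z, hz⟩ := ex₂ _ hx
  obtain ⟨w, rfl⟩ := h₁ z
  rw [← c₁] at hz
  rw [← h₂ hz, z₁]

include c₂ in
lemma four_surj (hg₂ : Function.Surjective g₂) (h₂ : Function.Surjective τ₂) :
    Function.Surjective τ₃ := by
  intro z
  obtain ⟨y, rfl⟩ := hg₂ z
  obtain ⟨y', rfl⟩ := h₂ y
  exact ⟨g₁ y', c₂ y'⟩

end four

variable {C : Type u} [SmallCategory C] [HasPullbacks C] (J : GrothendieckTopology C)
  {U : C} {ι : Type u} (Y : ι → Over U)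

section sections

variable (S : ShortComplex (PSh C)) (hS : S.ShortExact)

include hS in
lemma psh_g_surjective (V : C) : Function.Surjective (S.g.app (op V)) := by
  have h := hS.map_of_exact ((evaluation Cᵒᵖ AddCommGrpCat.{u}).obj (op V))
  exact (AddCommGrpCat.epi_iff_surjective _).1 h.epi_g

lemma psh_zero (V : C) (x : S.X₁.obj (op V)) : S.g.app (op V) (S.f.app (op V) x) = 0 := by
  have h : S.f.app (op V) ≫ S.g.app (op V) = 0 := by
    rw [← NatTrans.comp_app, S.zero]; rfl
  exact ConcreteCategory.congr_hom h x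

lemma shf_exact (T : ShortComplex (Sheaf J AddCommGrpCat.{u})) (hT : T.ShortExact) (V : C)
    (y : T.X₂.obj.obj (op V)) (hy : T.g.hom.app (op V) y = 0) :
    ∃ z, T.f.hom.app (op V) z = y := by
  have hΓ : PreservesFiniteLimits ((sheafSections J AddCommGrpCat.{u}).obj (op V)) := by
    show PreservesFiniteLimits (sheafToPresheaf J AddCommGrpCat.{u} ⋙ (evaluation _ _).obj (op V))
    infer_instance
  have hadd : ((sheafSections J AddCommGrpCat.{u}).obj (op V)).Additive := ⟨fun {_ _ _ _} => rfl⟩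
  have key : ∀ (S : ShortComplex (Sheaf J AddCommGrpCat.{u})), S.ShortExact →
      (S.map ((sheafSections J AddCommGrpCat.{u}).obj (op V))).Exact ∧
        Mono (((sheafSections J AddCommGrpCat.{u}).obj (op V)).map S.f) :=
    ((Functor.preservesFiniteLimits_tfae
      ((sheafSections J AddCommGrpCat.{u}).obj (op V))).out 3 0).1 hΓ
  obtain ⟨hex, -⟩ := key T hT
  rw [ShortComplex.ab_exact_iff] at hex
  exact hex y hy

lemma η_app_comm {P Q : PSh C} (φ : P ⟶ Q) (V : C) (x : P.obj (op V)) :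
    (η J Q).app (op V) (φ.app (op V) x) =
      ((CechEdge.shfMap J φ).hom.app (op V)) ((η J P).app (op V) x) := by
  have h : φ.app (op V) ≫ (η J Q).app (op V) =
      (η J P).app (op V) ≫ (CechEdge.shfMap J φ).hom.app (op V) := by
    rw [← NatTrans.comp_app, ← NatTrans.comp_app, η_naturality]
  exact ConcreteCategory.congr_hom h x

lemma η_app_bijective_of_isSheaf (P : PSh C) (hP : Presheaf.IsSheaf J P) (V : C) :
    Function.Bijective ((η J P).app (op V)) := by
  have : IsIso (η J P) := isIso_toSheafify J hP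
  exact ConcreteCategory.bijective_of_isIso ((η J P).app (op V))

include hS in
/-- the presheaf cokernel of a monomorphism of sheaves is separated -/
lemma η_app_injective (h₁ : Presheaf.IsSheaf J S.X₁) (h₂ : Presheaf.IsSheaf J S.X₂) (V : C) :
    Function.Injective ((η J S.X₃).app (op V)) :=
  four_inj (S.f.app (op V)).hom (S.g.app (op V)).hom
    ((CechEdge.shfMap J S.f).hom.app (op V)).hom ((CechEdge.shfMap J S.g).hom.app (op V)).hom
    ((η J S.X₁).app (op V)).hom ((η J S.X₂).app (op V)).hom ((η J S.X₃).app (op V)).hom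
    (fun x => η_app_comm J S.f V x) (fun x => η_app_comm J S.g V x)
    (psh_zero S V) (psh_g_surjective S hS V)
    (shf_exact J (S.map (presheafToSheaf J AddCommGrpCat.{u}))
      (hS.map_of_exact (presheafToSheaf J AddCommGrpCat.{u})) V)
    (η_app_bijective_of_isSheaf J _ h₁ V).2 (η_app_bijective_of_isSheaf J _ h₂ V).1

include hS in
lemma η_app_surjective (h₂ : Presheaf.IsSheaf J S.X₂) (V : C)
    (hV : Subsingleton (CohSite.HU (CechEdge.shf J S.X₁) 1 V)) :
    Function.Surjective ((η J S.X₃).app (op V)) :=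
  four_surj (S.g.app (op V)).hom ((CechEdge.shfMap J S.g).hom.app (op V)).hom
    ((η J S.X₂).app (op V)).hom ((η J S.X₃).app (op V)).hom
    (fun x => η_app_comm J S.g V x)
    (CechLeray.surjective_of_ext_one J (S.map (presheafToSheaf J AddCommGrpCat.{u}))
      (hS.map_of_exact (presheafToSheaf J AddCommGrpCat.{u})) V hV)
    (η_app_bijective_of_isSheaf J _ h₂ V).2

end sections

end CechEdgeA

end Groth.Agent.Lib.helper27
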