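import Mathlib
import Groth.Prelude.Def_CechEdge
import Groth.Agent.Lib.Helper27.CechEdgeF

set_option autoImplicit false
set_option linter.unusedSectionVars false
set_option linter.unusedVariables false

namespace Groth.Agent.Lib.helper27

open CategoryTheory Limits Opposite DeltaF Abelian

universe u

namespace CechEdgeA

variable {C : Type u} [SmallCategory C] [HasPullbacks C] (J : GrothendieckTopology C)
  {U : C} {ι : Type u} (Y : ι → Over U)

section cechmaps

variable {P Q : PSh C} (φ : P ⟶ Q)

lemma isIso_cx_map (h : ∀ (n : ℕ) (a : Fin (n + 1) → ι), IsIso (φ.app (op (∏ᶜ (Y ∘ a)).left))) :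
    IsIso ((CechEdge.cxFunctor Y).map φ) := by
  have : ∀ n, IsIso (((CechEdge.cxFunctor Y).map φ).f n) := by
    intro n
    rw [cx_map_f]
    have := h n
    exact inferInstanceAs (IsIso (Limits.Pi.mapIso
      (fun a : Fin (n + 1) → ι => asIso (φ.app (op (∏ᶜ (Y ∘ a)).left)))).hom)
  exact HomologicalComplex.Hom.isIso_of_components _

lemma cechHMap_bijective
    (h : ∀ (n : ℕ) (a : Fin (n + 1) → ι), Function.Bijective (φ.app (op (∏ᶜ (Y ∘ a)).left)))
    (p : ℕ) : Function.Bijective (CechEdge.cechHMap Y φ p) := by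
  have := isIso_cx_map Y φ (fun n a => (ConcreteCategory.isIso_iff_bijective _).2 (h n a))
  exact ConcreteCategory.bijective_of_isIso
    ((HomologicalComplex.homologyFunctor _ _ p).map ((CechEdge.cxFunctor Y).map φ))

lemma mono_pi_map {A : Type u} (X₁ X₂ : A → AddCommGrpCat.{u}) (f : ∀ a, X₁ a ⟶ X₂ a)
    (h : ∀ a, Function.Injective (f a)) : Mono (Limits.Pi.map f) := by
  rw [AddCommGrpCat.mono_iff_injective]
  intro x y hxy
  apply CechLeray.prod_ext
  intro a
  apply h a
  rw [← CechLeray.π_map_apply, ← CechLeray.π_map_apply, hxy]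

lemma cechHMap_zero_injective
    (h : ∀ (a : Fin 1 → ι), Function.Injective (φ.app (op (∏ᶜ (Y ∘ a)).left))) :
    Function.Injective (CechEdge.cechHMap Y φ 0) := by
  rw [← AddCommGrpCat.mono_iff_injective]
  have h0 : Mono (((CechEdge.cxFunctor Y).map φ).f 0) := by
    rw [cx_map_f]
    exact mono_pi_map _ _ _ h
  have h1 : Mono (HomologicalComplex.cyclesMap ((CechEdge.cxFunctor Y).map φ) 0) := by
    have : Mono (HomologicalComplex.cyclesMap ((CechEdge.cxFunctor Y).map φ) 0 ≫
        (CechEdge.cx Q Y).iCycles 0) := by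
      erw [HomologicalComplex.cyclesMap_i]
      exact mono_comp _ _
    exact mono_of_mono _ ((CechEdge.cx Q Y).iCycles 0)
  have h2 : Mono ((CechEdge.cx P Y).homologyπ 0 ≫
      HomologicalComplex.homologyMap ((CechEdge.cxFunctor Y).map φ) 0) := by
    rw [HomologicalComplex.homologyπ_naturality]
    exact mono_comp _ _
  have h3 : HomologicalComplex.homologyMap ((CechEdge.cxFunctor Y).map φ) 0 =
      inv ((CechEdge.cx P Y).homologyπ 0) ≫ ((CechEdge.cx P Y).homologyπ 0 ≫
      HomologicalComplex.homologyMap ((CechEdge.cxFunctor Y).map φ) 0) := by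
    rw [IsIso.inv_hom_id_assoc]
  rw [h3]
  exact mono_comp _ _

end cechmaps

section edge

variable (e : ∀ (P : PSh C) (p : ℕ), CohCx.cechH P Y p →+ CohSite.HU (CechEdge.shf J P) p U)
  (he : CechEdge.IsEdge J Y e)

include he in
lemma edge_zero_injective (P : PSh C)
    (h : Function.Injective (CechEdge.cechHMap Y (η J P) 0)) : Function.Injective (e P 0) := by
  have : ⇑(e P 0) = ⇑(t0Hom J Y he.cover P) := funext (edge_zero_eq J Y e he P)
  rw [this]
  intro x y hxy
  rw [t0Hom_apply, t0Hom_apply] at hxy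
  exact h ((toCechEquiv J Y he.cover _).symm.injective
    ((CechEdge.sectH0 J U _).injective hxy))

include he in
lemma edge_zero_bijective (G : Sheaf J AddCommGrpCat.{u}) : Function.Bijective (e G.obj 0) := by
  have : ⇑(e G.obj 0) = ⇑(t0Hom J Y he.cover G.obj) := funext (edge_zero_eq J Y e he G.obj)
  rw [this]
  have hb : Function.Bijective (CechEdge.cechHMap Y (η J G.obj) 0) :=
    cechHMap_bijective Y _ (fun n a => η_app_bijective_of_isSheaf J _ G.cond _) 0
  exact ((CechEdge.sectH0 J U _).bijective.comp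
    (toCechEquiv J Y he.cover _).symm.bijective).comp hb

include he in
lemma edge_bijective_of_η (P : PSh C) (n : ℕ)
    (h1 : Function.Bijective (CechEdge.cechHMap Y (η J P) n))
    (h2 : Function.Bijective (e (CechEdge.shf J P).obj n)) : Function.Bijective (e P n) := by
  have hb := HUmap_bijective_of_isIso J (U := U) (CechEdge.shfMap J (η J P)) n
  rw [← Function.Bijective.of_comp_iff' hb]
  have : ⇑(CechEdge.HUmap (CechEdge.shfMap J (η J P)) n U) ∘ ⇑(e P n) =
      ⇑(e (CechEdge.shf J P).obj n) ∘ ⇑(CechEdge.cechHMap Y (η J P) n) := by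
    funext x
    exact (he.natural P _ (η J P) n x).symm
  rw [this]
  exact h2.comp h1

end edge

end CechEdgeA

end Groth.Agent.Lib.helper27
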