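import Mathlib
import Groth.Prelude.Def_CechEdge
import Groth.Agent.Lib.Helper27.CechEdgeG

set_option autoImplicit false
set_option linter.unusedSectionVars false
set_option linter.unusedVariables false
set_option linter.deprecated false

namespace Groth.Agent.Lib.helper27

open CategoryTheory Limits Opposite DeltaF Abelian

universe u

namespace CechEdgeA

variable {C : Type u} [SmallCategory C] [HasPullbacks C] (J : GrothendieckTopology C)
  {U : C} {ι : Type u} (Y : ι → Over U)

section hull

/-- the presheaf-level short complex of an injective hull of a sheaf -/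
noncomputable def hullS (F : Sheaf J AddCommGrpCat.{u}) : ShortComplex (PSh C) :=
  ShortComplex.mk (Injective.ι F).hom (cokernel.π (Injective.ι F).hom) (cokernel.condition _)

lemma hullS_shortExact (F : Sheaf J AddCommGrpCat.{u}) : (hullS J F).ShortExact := by
  have : Mono (Injective.ι F).hom :=
    (sheafToPresheaf J AddCommGrpCat.{u}).map_mono (Injective.ι F)
  have : Mono (hullS J F).f := this
  have : Epi (hullS J F).g := inferInstanceAs (Epi (cokernel.π (Injective.ι F).hom))
  exact ShortComplex.ShortExact.mk' (ShortComplex.exact_cokernel _) inferInstance inferInstance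

instance injective_obj (I : Sheaf J AddCommGrpCat.{u}) [Injective I] : Injective I.obj :=
  Injective.injective_of_adjoint (sheafificationAdjunction J AddCommGrpCat.{u}) I

lemma Tc_map_eq_zero_of_injective (I : PSh C) [Injective I] {P : PSh C} (f : P ⟶ I) (n : ℕ) :
    ((Tc Y).F (n + 1)).map f = 0 := by
  have hex := Cech.exactAt_over_of_injective U Y I n
  rw [HomologicalComplex.exactAt_iff_isZero_homology] at hex
  exact hex.eq_of_tgt _ _

instance isIso_counit (G : Sheaf J AddCommGrpCat.{u}) :
    IsIso ((sheafificationAdjunction J AddCommGrpCat.{u}).counit.app G) := inferInstance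

lemma injective_shf_obj (I : Sheaf J AddCommGrpCat.{u}) [Injective I] :
    Injective (CechEdge.shf J I.obj) :=
  Injective.of_iso (asIso ((sheafificationAdjunction J AddCommGrpCat.{u}).counit.app I)).symm
    inferInstance

lemma Ts_map_eq_zero_of_injective (I : Sheaf J AddCommGrpCat.{u}) [Injective I] {P : PSh C}
    (f : P ⟶ I.obj) (n : ℕ) : ((Ts J (U := U)).F (n + 1)).map f = 0 := by
  have := injective_shf_obj J I
  have hsub : Subsingleton (CohSite.HU (CechEdge.shf J I.obj) (n + 1) U) :=
    subsingleton_of_forall_eq 0 (fun x => Ext.eq_zero_of_injective x)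
  have hsub' : Subsingleton ↑(((Ts J (U := U)).F (n + 1)).obj I.obj) := hsub
  have hz : IsZero (((Ts J (U := U)).F (n + 1)).obj I.obj) :=
    AddCommGrpCat.isZero_of_subsingleton _
  exact hz.eq_of_tgt _ _

end hull

section main

variable (e : ∀ (P : PSh C) (p : ℕ), CohCx.cechH P Y p →+ CohSite.HU (CechEdge.shf J P) p U)
  (he : CechEdge.IsEdge J Y e)

include he in
/-- the degree one edge map of a sheaf is injective -/
theorem edge_one_injective (F : Sheaf J AddCommGrpCat.{u}) : Function.Injective (e F.obj 1) := by
  have hS := hullS_shortExact J F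
  have h2 : Epi (((ofEdge J Y e he).app 0).app (hullS J F).X₂) :=
    (AddCommGrpCat.epi_iff_surjective _).2 (edge_zero_bijective J Y e he (Injective.under F)).2
  have h3 : Mono (((ofEdge J Y e he).app 0).app (hullS J F).X₃) :=
    (AddCommGrpCat.mono_iff_injective _).2 (edge_zero_injective J Y e he _
      (cechHMap_zero_injective Y _ (fun a => η_app_injective J (hullS J F) hS F.cond
        (Injective.under F).cond _)))
  have h0 : ((Tc Y).F (0 + 1)).map (hullS J F).f = 0 :=
    Tc_map_eq_zero_of_injective Y (Injective.under F).obj _ 0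
  have := mono_step_eff (ofEdge J Y e he) 0 (hullS J F) hS h2 h3 h0
  exact (AddCommGrpCat.mono_iff_injective _).1 this

include he in
theorem edgeSh_one_injective (F : Sheaf J AddCommGrpCat.{u}) :
    Function.Injective (CechEdge.edgeSh e F 1) := by
  have h1 := edge_one_injective J Y e he F
  have h2 := (HUmap_bijective_of_isIso J (U := U)
    ((sheafificationAdjunction J AddCommGrpCat.{u}).counit.app F) 1).1
  exact h2.comp h1

/-- acyclicity on the finite fibre products of the family -/
def AcycY (G : Sheaf J AddCommGrpCat.{u}) : Prop :=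
  ∀ (p : ℕ) (a : Fin (p + 1) → ι) (q : ℕ),
    Subsingleton (CohSite.HU G (q + 1) (∏ᶜ fun k => Y (a k)).left)

lemma acyc_of_iso {G G' : Sheaf J AddCommGrpCat.{u}} (ψ : G ⟶ G') [IsIso ψ]
    (h : AcycY J Y G') : AcycY J Y G := by
  intro p a q
  have := h p a q
  exact (HUmap_bijective_of_isIso J ψ (q + 1)).1.subsingleton

lemma acyc_of_injective (I : Sheaf J AddCommGrpCat.{u}) [Injective I] : AcycY J Y I := by
  intro p a q
  exact subsingleton_of_forall_eq 0 (fun x => Ext.eq_zero_of_injective x)

lemma acyc_X₃ (S : ShortComplex (Sheaf J AddCommGrpCat.{u})) (hS : S.ShortExact)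
    (h₁ : AcycY J Y S.X₁) (hI : Injective S.X₂) : AcycY J Y S.X₃ :=
  CechLeray.acyc_X₃ J (A := fun n => Fin (n + 1) → ι)
    (fun n (a : Fin (n + 1) → ι) => (∏ᶜ fun k => Y (a k)).left) S hS h₁ hI

include he in
/-- **Leray**: the edge maps of a sheaf acyclic on all finite fibre products are bijective -/
theorem edge_bijective_of_acyc : ∀ (n : ℕ) (G : Sheaf J AddCommGrpCat.{u}), AcycY J Y G →
    Function.Bijective (e G.obj n)
  | 0, G, _ => edge_zero_bijective J Y e he G
  | n + 1, G, hG => by
    have IH := edge_bijective_of_acyc n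
    have hS := hullS_shortExact J G
    have haS : ((hullS J G).map (presheafToSheaf J AddCommGrpCat.{u})).ShortExact :=
      hS.map_of_exact _
    have hA1' : AcycY J Y (CechEdge.shf J G.obj) :=
      acyc_of_iso J Y ((sheafificationAdjunction J AddCommGrpCat.{u}).counit.app G) hG
    have hA1 : AcycY J Y ((hullS J G).map (presheafToSheaf J AddCommGrpCat.{u})).X₁ := hA1'
    have hI2 : Injective ((hullS J G).map (presheafToSheaf J AddCommGrpCat.{u})).X₂ :=
      injective_shf_obj J (Injective.under G)
    have hA3 := acyc_X₃ J Y _ haS hA1 hI2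
    have hη : ∀ (m : ℕ) (a : Fin (m + 1) → ι),
        Function.Bijective ((η J (hullS J G).X₃).app (op (∏ᶜ (Y ∘ a)).left)) := fun m a =>
      ⟨η_app_injective J (hullS J G) hS G.cond (Injective.under G).cond _,
        η_app_surjective J (hullS J G) hS (Injective.under G).cond _ (hA1 m a 0)⟩
    have hQ' : Function.Bijective (e (hullS J G).X₃ n) :=
      edge_bijective_of_η J Y e he _ n (cechHMap_bijective Y _ hη n) (IH _ hA3)
    have hI : Function.Bijective (e (Injective.under G).obj n) :=
      IH _ (acyc_of_injective J Y _)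
    have h2 : Epi (((ofEdge J Y e he).app n).app (hullS J G).X₂) :=
      (AddCommGrpCat.epi_iff_surjective _).2 hI.2
    have h3 : Mono (((ofEdge J Y e he).app n).app (hullS J G).X₃) :=
      (AddCommGrpCat.mono_iff_injective _).2 hQ'.1
    have h3' : Epi (((ofEdge J Y e he).app n).app (hullS J G).X₃) :=
      (AddCommGrpCat.epi_iff_surjective _).2 hQ'.2
    have h0 : ((Tc Y).F (n + 1)).map (hullS J G).f = 0 :=
      Tc_map_eq_zero_of_injective Y (Injective.under G).obj _ n
    have h0' : ((Ts J (U := U)).F (n + 1)).map (hullS J G).f = 0 :=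
      Ts_map_eq_zero_of_injective J (Injective.under G) _ n
    have hm := mono_step_eff (ofEdge J Y e he) n (hullS J G) hS h2 h3 h0
    have hepi := epi_step_eff (ofEdge J Y e he) n (hullS J G) hS h3' h0'
    exact ⟨(AddCommGrpCat.mono_iff_injective _).1 hm, (AddCommGrpCat.epi_iff_surjective _).1 hepi⟩

include he in
theorem edgeSh_bijective_of_acyc (F : Sheaf J AddCommGrpCat.{u}) (h : AcycY J Y F) (p : ℕ) :
    Function.Bijective (CechEdge.edgeSh e F p) := by
  have h1 := edge_bijective_of_acyc J Y e he p F h
  have h2 := HUmap_bijective_of_isIso J (U := U)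
    ((sheafificationAdjunction J AddCommGrpCat.{u}).counit.app F) p
  exact h2.comp h1

end main

end CechEdgeA

end Groth.Agent.Lib.helper27
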