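import Mathlib
import Groth.Prelude.Def_CechEdge
import Groth.Agent.Lib.Helper27.CechEdgeB

set_option autoImplicit false
set_option linter.unusedSectionVars false
set_option linter.unusedVariables false
set_option linter.deprecated false

namespace Groth.Agent.Lib.helper27

open CategoryTheory Limits Opposite DeltaF Abelian

universe u

namespace CechEdgeA

variable {C : Type u} [SmallCategory C] [HasPullbacks C] (J : GrothendieckTopology C)
  {U : C} {ι : Type u} (Y : ι → Over U)

section converse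

variable (P : PSh C) (hb : Function.Bijective (CechEdge.toCech Y P))

include hb in
lemma isIso_toCycles_of_bijective : IsIso (CechEdge.toCycles P Y) := by
  have h2 : IsIso ((CechEdge.cx P Y).homologyπ 0) := inferInstance
  have h3 : IsIso (CechEdge.toCycles P Y ≫ (CechEdge.cx P Y).homologyπ 0) :=
    (ConcreteCategory.isIso_iff_bijective _).2 hb
  exact IsIso.of_isIso_comp_right _ ((CechEdge.cx P Y).homologyπ 0)

include hb in
/-- restriction to the members of the family is a kernel of the first Cech differential -/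
noncomputable def toCech₀IsKernel_of_bijective :
    IsLimit (KernelFork.ofι (CechEdge.toCech₀ P Y) (CechEdge.toCech₀_d P Y)) := by
  have := isIso_toCycles_of_bijective Y P hb
  refine IsLimit.ofIsoLimit ((CechEdge.cx P Y).cyclesIsKernel 0 1 (by simp))
    (Fork.ext (asIso (CechEdge.toCycles P Y)).symm ?_)
  show inv (CechEdge.toCycles P Y) ≫ CechEdge.toCech₀ P Y = (CechEdge.cx P Y).iCycles 0
  rw [IsIso.inv_comp_eq, CechEdge.toCycles_i]

include hb in
lemma toCech₀_injective : Function.Injective (CechEdge.toCech₀ P Y) := by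
  rw [← AddCommGrpCat.mono_iff_injective]
  exact mono_of_isLimit_fork (toCech₀IsKernel_of_bijective Y P hb)

include hb in
lemma toCech₀_exact (c : (CechEdge.cx P Y).X 0) (hc : (CechEdge.cx P Y).d 0 1 c = 0) :
    ∃ t, CechEdge.toCech₀ P Y t = c := by
  have hex : (ShortComplex.mk (CechEdge.toCech₀ P Y) ((CechEdge.cx P Y).d 0 1)
      (CechEdge.toCech₀_d P Y)).Exact :=
    ShortComplex.exact_of_f_is_kernel _ (toCech₀IsKernel_of_bijective Y P hb)
  rw [ShortComplex.ab_exact_iff] at hex
  exact hex c hc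

end converse


section gluing

variable (P : PSh C)

/-- the presheaf on `Over U` -/
abbrev QP : (Over U)ᵒᵖ ⥤ AddCommGrpCat.{u} := (Over.forget U).op ⋙ P

lemma π_toCech₀ (t : P.obj (op U)) (a : Fin 1 → ι) :
    Pi.π (Cech.Z Y (QP (U := U) P) 0) a (CechEdge.toCech₀ P Y t) =
      P.map (∏ᶜ (Y ∘ a)).hom.op t := by
  have h : CechEdge.toCech₀ P Y ≫ Pi.π (Cech.Z Y (QP (U := U) P) 0) a =
      P.map (∏ᶜ (Y ∘ a)).hom.op := Pi.lift_π _ _
  exact ConcreteCategory.congr_hom h t

/-- the zero cochain attached to a family of sections -/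
noncomputable def cochain₀ (x : ∀ i, P.obj (op (Y i).left)) :
    (∏ᶜ Cech.Z Y (QP (U := U) P) 0 : AddCommGrpCat.{u}) :=
  (Concrete.productEquiv (Cech.Z Y (QP (U := U) P) 0)).symm
    (fun a => P.map (Pi.π (Y ∘ a) 0).left.op (x (a 0)))

lemma π_cochain₀ (x : ∀ i, P.obj (op (Y i).left)) (a : Fin 1 → ι) :
    Pi.π (Cech.Z Y (QP (U := U) P) 0) a (cochain₀ Y P x) =
      P.map (Pi.π (Y ∘ a) 0).left.op (x (a 0)) :=
  Concrete.productEquiv_symm_apply_π (Cech.Z Y (QP (U := U) P) 0) _ a

lemma d_cochain₀ (x : ∀ i, P.obj (op (Y i).left))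
    (hx : ∀ (i j : ι) (Z : C) (gi : Z ⟶ (Y i).left) (gj : Z ⟶ (Y j).left),
      gi ≫ (Y i).hom = gj ≫ (Y j).hom → P.map gi.op (x i) = P.map gj.op (x j)) :
    Cech.d' Y (QP (U := U) P) 0 (cochain₀ Y P x) = 0 := by
  rw [Cech.d'_eq, Cech.hom_sum_apply, Fin.sum_univ_two]
  simp only [Fin.val_zero, Fin.val_one, pow_zero, pow_one, one_smul,
    neg_smul]
  show Cech.δ' Y (QP (U := U) P) 0 0 (cochain₀ Y P x) +
    -(Cech.δ' Y (QP (U := U) P) 0 1 (cochain₀ Y P x)) = 0
  rw [← sub_eq_add_neg, sub_eq_zero]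
  apply CechLeray.prod_ext
  intro b
  rw [Cech.π_δ'_apply, Cech.π_δ'_apply, π_cochain₀, π_cochain₀]
  show P.map _ (P.map _ _) = P.map _ (P.map _ _)
  rw [← ConcreteCategory.comp_apply, ← ConcreteCategory.comp_apply, ← P.map_comp, ← P.map_comp]
  apply hx
  exact (Over.w (Cech.face Y b 0 ≫ Pi.π (Y ∘ b ∘ Fin.succAbove 0) 0)).trans
    (Over.w (Cech.face Y b 1 ≫ Pi.π (Y ∘ b ∘ Fin.succAbove 1) 0)).symm

end gluing


section main

variable (P : PSh C) (hb : Function.Bijective (CechEdge.toCech Y P))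

include hb in
lemma isSheafFor_of_bijective :
    (Presieve.ofArrows (fun i => (Y i).left) (fun i => (Y i).hom)).IsSheafFor
      (P ⋙ forget AddCommGrpCat.{u}) := by
  rw [Presieve.isSheafFor_arrows_iff]
  intro x hx
  have hx' : ∀ (i j : ι) (Z : C) (gi : Z ⟶ (Y i).left) (gj : Z ⟶ (Y j).left),
      gi ≫ (Y i).hom = gj ≫ (Y j).hom → P.map gi.op (x i) = P.map gj.op (x j) :=
    fun i j Z gi gj h => hx i j Z gi gj h
  obtain ⟨t, ht⟩ := toCech₀_exact Y P hb (cochain₀ Y P x) (d_cochain₀ Y P x hx')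
  have key : ∀ (t' : P.obj (op U)) (a : Fin 1 → ι),
      P.map (∏ᶜ (Y ∘ a)).hom.op t' =
        P.map (Pi.π (Y ∘ a) 0).left.op (P.map (Y (a 0)).hom.op t') := by
    intro t' a
    have h : P.map (∏ᶜ (Y ∘ a)).hom.op =
        P.map (Y (a 0)).hom.op ≫ P.map (Pi.π (Y ∘ a) 0).left.op := by
      rw [← P.map_comp, ← op_comp]
      exact congrArg (fun f => P.map (Quiver.Hom.op f)) (Over.w (Pi.π (Y ∘ a) 0)).symm
    exact ConcreteCategory.congr_hom h t'
  refine ⟨t, fun i => ?_, fun t' ht' => ?_⟩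
  · have h1 := congrArg (Pi.π (Cech.Z Y (QP (U := U) P) 0) (fun _ => i)) ht
    rw [π_toCech₀, π_cochain₀, key] at h1
    let s : Y i ⟶ ∏ᶜ (Y ∘ fun _ : Fin 1 => i) := Pi.lift (fun _ => 𝟙 (Y i))
    have hs : s ≫ Pi.π (Y ∘ fun _ : Fin 1 => i) 0 = 𝟙 _ := Pi.lift_π _ _
    have hs' : P.map (Pi.π (Y ∘ fun _ : Fin 1 => i) 0).left.op ≫ P.map s.left.op = 𝟙 _ := by
      rw [← P.map_comp, ← op_comp, ← Over.comp_left, hs]
      simp
    have hs'' : ∀ z, P.map s.left.op (P.map (Pi.π (Y ∘ fun _ : Fin 1 => i) 0).left.op z) = z :=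
      fun z => ConcreteCategory.congr_hom hs' z
    have h2 := congrArg (P.map s.left.op) h1
    rw [hs'', hs''] at h2
    exact h2
  · apply toCech₀_injective Y P hb
    rw [ht]
    refine CechLeray.prod_ext (Cech.Z Y (QP (U := U) P) 0) _ _ (fun a => ?_)
    rw [π_toCech₀, π_cochain₀, key]
    congr 1
    exact ht' (a 0)

end main


/-- **sheaf criterion through degree zero Cech cohomology** -/
theorem isSheaf_iff_toCech_bijective (P : PSh C) :
    Presheaf.IsSheaf J P ↔ ∀ (U : C) (ι : Type u) (Y : ι → Over U),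
      Sieve.ofArrows (fun i => (Y i).left) (fun i => (Y i).hom) ∈ J U →
        Function.Bijective (CechEdge.toCech Y P) := by
  constructor
  · intro hP U ι Y hY
    exact toCech_bijective J Y hY ⟨P, hP⟩
  · intro h
    rw [Presheaf.isSheaf_iff_isSheaf_forget J P (forget AddCommGrpCat.{u}),
      isSheaf_iff_isSheaf_of_type]
    intro X S hS
    have hS' : Sieve.ofArrows (fun i : S.arrows.category => (i.obj).left)
        (fun i : S.arrows.category => (i.obj).hom) = S := Sieve.ofArrows_category S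
    have h1 := isSheafFor_of_bijective (fun i : S.arrows.category => i.obj) P
      (h X S.arrows.category (fun i => i.obj) (by rw [hS']; exact hS))
    rw [Presieve.isSheafFor_iff_generate] at h1
    have h2 : (Sieve.generate (Presieve.ofArrows (fun i : S.arrows.category => (i.obj).left)
        (fun i : S.arrows.category => (i.obj).hom))) = S := hS'
    rw [h2] at h1
    exact h1

end CechEdgeA

end Groth.Agent.Lib.helper27
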