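import Mathlib
import Groth.Agent.Lib.Helper27.CechInjU

/-!
helper27: Čech acyclicity of injective presheaves for a locally small category in an arbitrary
universe, via the complex of free presheaves representing the Čech cochains.
-/

set_option autoImplicit false
set_option linter.unusedVariables false
set_option linter.unusedSectionVars false

namespace Groth.Agent.Lib.helper27

open CategoryTheory Limits Opposite

universe w v u

namespace CechFree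

open CechU

section abelian

lemma exists_factor {𝒜 : Type*} [Category 𝒜] [Abelian 𝒜] {A B I : 𝒜} [Injective I]
    (f : A ⟶ B) (g : A ⟶ I) (h : kernel.ι f ≫ g = 0) : ∃ k : B ⟶ I, f ≫ k = g := by
  let g' : Abelian.coimage f ⟶ I := cokernel.desc (kernel.ι f) g h
  refine ⟨Injective.factorThru g' (Abelian.factorThruCoimage f), ?_⟩
  have hf : Abelian.coimage.π f ≫ Abelian.factorThruCoimage f = f := Abelian.coimage.fac f
  calc f ≫ Injective.factorThru g' (Abelian.factorThruCoimage f)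
      = (Abelian.coimage.π f ≫ Abelian.factorThruCoimage f) ≫
          Injective.factorThru g' (Abelian.factorThruCoimage f) := by rw [hf]
    _ = Abelian.coimage.π f ≫ g' := by rw [Category.assoc, Injective.comp_factorThru]
    _ = g := cokernel.π_desc _ _ _

end abelian

variable {C : Type u} [Category.{v} C] [LocallySmall.{w} C] (U₀ : C)
  [HasFiniteProducts (Over U₀)] {ι : Type w} (Y : ι → Over U₀)

/-- tuples of sections of the family with the same image in `U₀` -/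
abbrev T (n : ℕ) (V : C) : Type (max w v) := Σ φ : V ⟶ U₀, (Fin (n + 1) → Sec Y (Over.mk φ))

lemma T_ext {n : ℕ} {V : C} (φ φ' : V ⟶ U₀) (h : φ = φ') (a : Fin (n + 1) → ι)
    (s : ∀ k, Over.mk φ ⟶ Y (a k)) (s' : ∀ k, Over.mk φ' ⟶ Y (a k))
    (hs : ∀ k, (s k).left = (s' k).left) :
    (⟨φ, fun k => ⟨a k, s k⟩⟩ : T U₀ Y n V) = ⟨φ', fun k => ⟨a k, s' k⟩⟩ := by
  subst h
  refine congrArg (Sigma.mk φ) ?_
  funext k
  refine congrArg (Sigma.mk (a k)) ?_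
  ext
  exact hs k

/-- restriction of tuples of sections -/
def Tmap {n : ℕ} {V V' : C} (g : V' ⟶ V) (x : T U₀ Y n V) : T U₀ Y n V' :=
  ⟨g ≫ x.1, fun k => ⟨(x.2 k).1,
    (Over.homMk g rfl : Over.mk (g ≫ x.1) ⟶ Over.mk x.1) ≫ (x.2 k).2⟩⟩

lemma Tmap_id {n : ℕ} {V : C} (x : T U₀ Y n V) : Tmap U₀ Y (𝟙 V) x = x :=
  T_ext U₀ Y (𝟙 V ≫ x.1) x.1 (Category.id_comp _) (fun k => (x.2 k).1)
    (fun k => (Over.homMk (𝟙 V) rfl : Over.mk (𝟙 V ≫ x.1) ⟶ Over.mk x.1) ≫ (x.2 k).2)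
    (fun k => (x.2 k).2) (fun k => by simp)

lemma Tmap_comp {n : ℕ} {V V' V'' : C} (g' : V'' ⟶ V') (g : V' ⟶ V) (x : T U₀ Y n V) :
    Tmap U₀ Y (g' ≫ g) x = Tmap U₀ Y g' (Tmap U₀ Y g x) :=
  T_ext U₀ Y ((g' ≫ g) ≫ x.1) (g' ≫ g ≫ x.1) (Category.assoc _ _ _) (fun k => (x.2 k).1)
    (fun k => (Over.homMk (g' ≫ g) rfl : Over.mk ((g' ≫ g) ≫ x.1) ⟶ Over.mk x.1) ≫ (x.2 k).2)
    (fun k => (Over.homMk g' rfl : Over.mk (g' ≫ g ≫ x.1) ⟶ Over.mk (g ≫ x.1)) ≫
      (Over.homMk g rfl : Over.mk (g ≫ x.1) ⟶ Over.mk x.1) ≫ (x.2 k).2) (fun k => by simp)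

instance small_overHom {V : C} (φ : V ⟶ U₀) (W : Over U₀) : Small.{w} (Over.mk φ ⟶ W) :=
  small_of_injective (f := fun (m : Over.mk φ ⟶ W) => m.left)
    (fun m m' h => Over.OverMorphism.ext h)

instance small_T (n : ℕ) (V : C) : Small.{w} (T U₀ Y n V) := by
  infer_instance

/-- the free presheaf on the tuples of sections -/
noncomputable def K (n : ℕ) : Cᵒᵖ ⥤ AddCommGrpCat.{w} where
  obj V := AddCommGrpCat.of (FreeAbelianGroup (Shrink.{w} (T U₀ Y n V.unop)))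
  map {V V'} g := AddCommGrpCat.ofHom (FreeAbelianGroup.map (fun x' =>
    equivShrink.{w} (T U₀ Y n V'.unop) (Tmap U₀ Y g.unop ((equivShrink.{w} _).symm x'))))
  map_id V := by
    ext : 1
    apply FreeAbelianGroup.lift_ext
    intro x'
    simp [FreeAbelianGroup.map_of_apply, Tmap_id]
  map_comp g g' := by
    ext : 1
    apply FreeAbelianGroup.lift_ext
    intro x'
    simp [FreeAbelianGroup.map_of_apply, Tmap_comp]

/-- the generators -/
noncomputable def gen {n : ℕ} {V : C} (x : T U₀ Y n V) : (K U₀ Y n).obj (op V) :=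
  FreeAbelianGroup.of (equivShrink.{w} _ x)

lemma K_map_gen {n : ℕ} {V V' : C} (g : V' ⟶ V) (x : T U₀ Y n V) :
    (K U₀ Y n).map g.op (gen U₀ Y x) = gen U₀ Y (Tmap U₀ Y g x) := by
  change FreeAbelianGroup.map _ (FreeAbelianGroup.of _) = _
  rw [FreeAbelianGroup.map_of_apply, Equiv.symm_apply_apply]
  rfl

/-- morphisms out of the free presheaf -/
noncomputable def lift {n : ℕ} (F : Cᵒᵖ ⥤ AddCommGrpCat.{w})
    (f : ∀ V : C, T U₀ Y n V → F.obj (op V))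
    (hf : ∀ {V V' : C} (g : V' ⟶ V) (x : T U₀ Y n V), f V' (Tmap U₀ Y g x) = F.map g.op (f V x)) :
    K U₀ Y n ⟶ F where
  app V := AddCommGrpCat.ofHom (FreeAbelianGroup.lift (fun x' =>
    f V.unop ((equivShrink.{w} (T U₀ Y n V.unop)).symm x')))
  naturality V V' g := by
    ext : 1
    apply FreeAbelianGroup.lift_ext
    intro x'
    change FreeAbelianGroup.lift _ (FreeAbelianGroup.map _ (FreeAbelianGroup.of x')) =
      F.map g (FreeAbelianGroup.lift _ (FreeAbelianGroup.of x'))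
    rw [FreeAbelianGroup.map_of_apply, FreeAbelianGroup.lift_apply_of,
      FreeAbelianGroup.lift_apply_of, Equiv.symm_apply_apply]
    exact hf g.unop _

lemma lift_gen {n : ℕ} (F : Cᵒᵖ ⥤ AddCommGrpCat.{w})
    (f : ∀ V : C, T U₀ Y n V → F.obj (op V))
    (hf : ∀ {V V' : C} (g : V' ⟶ V) (x : T U₀ Y n V), f V' (Tmap U₀ Y g x) = F.map g.op (f V x))
    {V : C} (x : T U₀ Y n V) :
    (lift U₀ Y F f hf).app (op V) (gen U₀ Y x) = f V x := by
  change FreeAbelianGroup.lift _ (FreeAbelianGroup.of _) = _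
  rw [FreeAbelianGroup.lift_apply_of, Equiv.symm_apply_apply]

lemma hom_ext_gen {n : ℕ} {F : Cᵒᵖ ⥤ AddCommGrpCat.{w}} (α β : K U₀ Y n ⟶ F)
    (h : ∀ (V : C) (x : T U₀ Y n V), α.app (op V) (gen U₀ Y x) = β.app (op V) (gen U₀ Y x)) :
    α = β := by
  ext V : 3
  apply FreeAbelianGroup.lift_ext
  intro x'
  have := h V.unop ((equivShrink.{w} _).symm x')
  simp only [gen, Equiv.apply_symm_apply] at this
  exact this

/-- faces of tuples -/
def face' {n : ℕ} {V : C} (i : Fin (n + 2)) (x : T U₀ Y (n + 1) V) : T U₀ Y n V :=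
  ⟨x.1, x.2 ∘ Fin.succAbove i⟩

lemma face'_Tmap {n : ℕ} {V V' : C} (g : V' ⟶ V) (i : Fin (n + 2)) (x : T U₀ Y (n + 1) V) :
    face' U₀ Y i (Tmap U₀ Y g x) = Tmap U₀ Y g (face' U₀ Y i x) := rfl

lemma d_aux (n : ℕ) {V V' : C} (g : V' ⟶ V) (x : T U₀ Y (n + 1) V) :
    ∑ i : Fin (n + 2), (-1 : ℤ) ^ (i : ℕ) • gen U₀ Y (face' U₀ Y i (Tmap U₀ Y g x)) =
      (K U₀ Y n).map g.op
        (∑ i : Fin (n + 2), (-1 : ℤ) ^ (i : ℕ) • gen U₀ Y (face' U₀ Y i x)) := by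
  rw [map_sum]
  refine Finset.sum_congr rfl (fun i _ => ?_)
  rw [map_zsmul, K_map_gen, face'_Tmap]

/-- the differential of the complex of free presheaves -/
noncomputable def d (n : ℕ) : K U₀ Y (n + 1) ⟶ K U₀ Y n :=
  lift U₀ Y (K U₀ Y n)
    (fun V x => ∑ i : Fin (n + 2), (-1 : ℤ) ^ (i : ℕ) • gen U₀ Y (face' U₀ Y i x))
    (fun g x => d_aux U₀ Y n g x)

lemma d_gen (n : ℕ) {V : C} (x : T U₀ Y (n + 1) V) :
    (d U₀ Y n).app (op V) (gen U₀ Y x) =
      ∑ i : Fin (n + 2), (-1 : ℤ) ^ (i : ℕ) • gen U₀ Y (face' U₀ Y i x) :=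
  lift_gen U₀ Y (K U₀ Y n) _ (fun g x => d_aux U₀ Y n g x) x

/-- the cone of a tuple of sections over a chosen section -/
noncomputable def cone {n : ℕ} {V : C} (x : T U₀ Y n V) : T U₀ Y (n + 1) V :=
  ⟨x.1, Fin.cons (Classical.choice ⟨x.2 0⟩) x.2⟩

lemma face'_zero_cone {n : ℕ} {V : C} (x : T U₀ Y n V) :
    face' U₀ Y 0 (cone U₀ Y x) = x := by
  refine congrArg (Sigma.mk x.1) ?_
  exact Cech.cons_comp_succAbove_zero _ _

lemma face'_succ_cone {n : ℕ} {V : C} (x : T U₀ Y (n + 1) V) (i : Fin (n + 2)) :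
    face' U₀ Y i.succ (cone U₀ Y x) = cone U₀ Y (face' U₀ Y i x) := by
  refine congrArg (Sigma.mk x.1) ?_
  exact Cech.cons_comp_succAbove_succ _ _ _

/-- the contracting homotopy -/
noncomputable def h (n : ℕ) (V : C) : (K U₀ Y n).obj (op V) →+ (K U₀ Y (n + 1)).obj (op V) :=
  FreeAbelianGroup.lift (fun x' => gen U₀ Y (cone U₀ Y ((equivShrink.{w} _).symm x')))

lemma h_gen (n : ℕ) {V : C} (x : T U₀ Y n V) :
    h U₀ Y n V (gen U₀ Y x) = gen U₀ Y (cone U₀ Y x) := by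
  change FreeAbelianGroup.lift _ (FreeAbelianGroup.of _) = _
  rw [FreeAbelianGroup.lift_apply_of, Equiv.symm_apply_apply]

lemma homotopy (n : ℕ) (V : C) (z : (K U₀ Y (n + 1)).obj (op V)) :
    (d U₀ Y (n + 1)).app (op V) (h U₀ Y (n + 1) V z) + h U₀ Y n V ((d U₀ Y n).app (op V) z) = z := by
  have key : ((d U₀ Y (n + 1)).app (op V)).hom.comp (h U₀ Y (n + 1) V) +
      (h U₀ Y n V).comp ((d U₀ Y n).app (op V)).hom = AddMonoidHom.id _ := by
    apply FreeAbelianGroup.lift_ext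
    intro x'
    obtain ⟨x, rfl⟩ := (equivShrink.{w} _).surjective x'
    change (d U₀ Y (n + 1)).app (op V) (h U₀ Y (n + 1) V (gen U₀ Y x)) +
      h U₀ Y n V ((d U₀ Y n).app (op V) (gen U₀ Y x)) = gen U₀ Y x
    rw [h_gen, d_gen, d_gen, map_sum, Fin.sum_univ_succ]
    simp only [face'_zero_cone, face'_succ_cone, map_zsmul, h_gen, Fin.val_zero, pow_zero,
      one_smul, Fin.val_succ, pow_succ, mul_neg, mul_one, neg_smul, Finset.sum_neg_distrib]
    abel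
  exact DFunLike.congr_fun key z

section pairing

variable (I : Cᵒᵖ ⥤ AddCommGrpCat.{w})

/-- the restriction of a presheaf to the slice category -/
abbrev Q : (Over U₀)ᵒᵖ ⥤ AddCommGrpCat.{w} := (Over.forget U₀).op ⋙ I

/-- the value of a cochain on a tuple of sections -/
noncomputable def ev (n : ℕ) (V : C) (x : T U₀ Y n V) :
    (∏ᶜ Z Y (Q U₀ I) n : AddCommGrpCat.{w}) →+ I.obj (op V) :=
  (I.map (tup Y x.2).left.op).hom.comp (Pi.π (Z Y (Q U₀ I) n) (idx Y x.2)).hom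

lemma ev_apply (n : ℕ) (V : C) (x : T U₀ Y n V) (c : (∏ᶜ Z Y (Q U₀ I) n : AddCommGrpCat.{w})) :
    ev U₀ Y I n V x c = I.map (tup Y x.2).left.op (Pi.π (Z Y (Q U₀ I) n) (idx Y x.2) c) := rfl

lemma tup_Tmap {n : ℕ} {V V' : C} (g : V' ⟶ V) (x : T U₀ Y n V) :
    tup Y (Tmap U₀ Y g x).2 =
      (Over.homMk g rfl : Over.mk (g ≫ x.1) ⟶ Over.mk x.1) ≫ tup Y x.2 := by
  change tup Y (fun k => (⟨(x.2 k).1,
    (Over.homMk g rfl : Over.mk (g ≫ x.1) ⟶ Over.mk x.1) ≫ (x.2 k).2⟩ :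
      Sec Y (Over.mk (g ≫ x.1)))) = _
  apply Pi.hom_ext
  intro k
  rw [Category.assoc]
  erw [Pi.lift_π, Pi.lift_π]

lemma ev_Tmap (n : ℕ) (c : (∏ᶜ Z Y (Q U₀ I) n : AddCommGrpCat.{w})) {V V' : C} (g : V' ⟶ V)
    (x : T U₀ Y n V) : ev U₀ Y I n V' (Tmap U₀ Y g x) c = I.map g.op (ev U₀ Y I n V x c) := by
  rw [ev_apply, ev_apply, tup_Tmap]
  change I.map (g ≫ (tup Y x.2).left).op _ = _
  rw [op_comp, I.map_comp]
  rfl

/-- the morphism of presheaves defined by a cochain -/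
noncomputable def pair (n : ℕ) (c : (∏ᶜ Z Y (Q U₀ I) n : AddCommGrpCat.{w})) : K U₀ Y n ⟶ I :=
  lift U₀ Y I (fun V x => ev U₀ Y I n V x c) (fun g x => ev_Tmap U₀ Y I n c g x)

lemma pair_gen (n : ℕ) (c : (∏ᶜ Z Y (Q U₀ I) n : AddCommGrpCat.{w})) {V : C} (x : T U₀ Y n V) :
    (pair U₀ Y I n c).app (op V) (gen U₀ Y x) = ev U₀ Y I n V x c :=
  lift_gen U₀ Y I _ (fun g x => ev_Tmap U₀ Y I n c g x) x

lemma ev_δ' (n : ℕ) (i : Fin (n + 2)) (c : (∏ᶜ Z Y (Q U₀ I) n : AddCommGrpCat.{w})) {V : C}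
    (x : T U₀ Y (n + 1) V) :
    ev U₀ Y I (n + 1) V x (δ' Y (Q U₀ I) n i c) = ev U₀ Y I n V (face' U₀ Y i x) c := by
  rw [ev_apply, ev_apply, π_δ'_apply]
  change I.map (tup Y x.2).left.op (I.map (face Y (idx Y x.2) i).left.op _) = _
  rw [← ConcreteCategory.comp_apply, ← I.map_comp, ← op_comp, ← Over.comp_left, tup_face]
  rfl

lemma pair_d' (n : ℕ) (c : (∏ᶜ Z Y (Q U₀ I) n : AddCommGrpCat.{w})) :
    pair U₀ Y I (n + 1) (d' Y (Q U₀ I) n c) = d U₀ Y n ≫ pair U₀ Y I n c := by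
  apply hom_ext_gen
  intro V x
  rw [pair_gen, NatTrans.comp_app, ConcreteCategory.comp_apply, d_gen, map_sum, d'_eq,
    Cech.hom_sum_apply, map_sum]
  refine Finset.sum_congr rfl (fun i _ => ?_)
  rw [Cech.hom_zsmul_apply, map_zsmul, map_zsmul, pair_gen, ev_δ']

/-- the canonical tuple of sections over the product -/
noncomputable abbrev can {n : ℕ} (a : Fin (n + 1) → ι) : T U₀ Y n (∏ᶜ (Y ∘ a)).left :=
  ⟨(∏ᶜ (Y ∘ a)).hom, fun k => ⟨a k, (Pi.π (Y ∘ a) k : Over.mk (∏ᶜ (Y ∘ a)).hom ⟶ Y (a k))⟩⟩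

/-- the cochain defined by a morphism of presheaves -/
noncomputable def unpair (n : ℕ) (β : K U₀ Y n ⟶ I) : (∏ᶜ Z Y (Q U₀ I) n : AddCommGrpCat.{w}) :=
  (Concrete.productEquiv (Z Y (Q U₀ I) n)).symm
    (fun a => β.app (op (∏ᶜ (Y ∘ a)).left) (gen U₀ Y (can U₀ Y a)))

lemma π_unpair (n : ℕ) (β : K U₀ Y n ⟶ I) (a : Fin (n + 1) → ι) :
    Pi.π (Z Y (Q U₀ I) n) a (unpair U₀ Y I n β) =
      β.app (op (∏ᶜ (Y ∘ a)).left) (gen U₀ Y (can U₀ Y a)) :=
  Concrete.productEquiv_symm_apply_π (Z Y (Q U₀ I) n) _ a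

lemma Tmap_can {n : ℕ} {V : C} (x : T U₀ Y n V) :
    Tmap U₀ Y (tup Y x.2).left (can U₀ Y (idx Y x.2)) = x := by
  refine T_ext U₀ Y _ _ (Over.w (tup Y x.2)) (idx Y x.2) _ (fun k => (x.2 k).2) (fun k => ?_)
  change (tup Y x.2).left ≫ (Pi.π (Y ∘ idx Y x.2) k).left = _
  rw [← Over.comp_left]
  congr 1
  exact Pi.lift_π _ _

lemma pair_unpair (n : ℕ) (β : K U₀ Y n ⟶ I) : pair U₀ Y I n (unpair U₀ Y I n β) = β := by
  apply hom_ext_gen
  intro V x
  rw [pair_gen, ev_apply, π_unpair]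
  have := ConcreteCategory.congr_hom (β.naturality (tup Y x.2).left.op)
    (gen U₀ Y (can U₀ Y (idx Y x.2)))
  rw [ConcreteCategory.comp_apply, ConcreteCategory.comp_apply, K_map_gen, Tmap_can] at this
  exact this.symm

lemma tup_can {n : ℕ} (a : Fin (n + 1) → ι) : tup Y (can U₀ Y a).2 = 𝟙 (∏ᶜ (Y ∘ a)) := by
  apply Pi.hom_ext
  intro k
  exact (Pi.lift_π _ _).trans (Category.id_comp _).symm

lemma unpair_pair (n : ℕ) (c : (∏ᶜ Z Y (Q U₀ I) n : AddCommGrpCat.{w})) :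
    unpair U₀ Y I n (pair U₀ Y I n c) = c := by
  apply (Concrete.productEquiv (Z Y (Q U₀ I) n)).injective
  funext a
  rw [Concrete.productEquiv_apply_apply, Concrete.productEquiv_apply_apply, π_unpair, pair_gen,
    ev_apply]
  have e : I.map (tup Y (can U₀ Y a).2).left.op = 𝟙 (I.obj (op (∏ᶜ (Y ∘ a)).left)) := by
    rw [tup_can]
    exact I.map_id _
  exact ConcreteCategory.congr_hom e _

lemma pair_zero (n : ℕ) : pair U₀ Y I n 0 = 0 := by
  apply hom_ext_gen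
  intro V x
  rw [pair_gen, map_zero]
  rfl

theorem exists_primitive [Injective I] (n : ℕ)
    (c : (∏ᶜ Z Y (Q U₀ I) (n + 1) : AddCommGrpCat.{w})) (hc : d' Y (Q U₀ I) (n + 1) c = 0) :
    ∃ b : (∏ᶜ Z Y (Q U₀ I) n : AddCommGrpCat.{w}), d' Y (Q U₀ I) n b = c := by
  have h0 : d U₀ Y (n + 1) ≫ pair U₀ Y I (n + 1) c = 0 := by
    rw [← pair_d', hc, pair_zero]
  have h1 : kernel.ι (d U₀ Y n) ≫ pair U₀ Y I (n + 1) c = 0 := by
    ext V : 2
    ext z
    rw [NatTrans.comp_app, ConcreteCategory.comp_apply]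
    have hx : (d U₀ Y n).app V ((kernel.ι (d U₀ Y n)).app V z) = 0 := by
      have := congrArg (fun α => α.app V) (kernel.condition (d U₀ Y n))
      exact ConcreteCategory.congr_hom this z
    have hx' := homotopy U₀ Y n V.unop ((kernel.ι (d U₀ Y n)).app V z)
    rw [hx, map_zero, add_zero] at hx'
    rw [← hx', ← ConcreteCategory.comp_apply, ← NatTrans.comp_app, h0]
    rfl
  obtain ⟨β, hβ⟩ := exists_factor (d U₀ Y n) (pair U₀ Y I (n + 1) c) h1
  refine ⟨unpair U₀ Y I n β, ?_⟩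
  have h2 : pair U₀ Y I (n + 1) (d' Y (Q U₀ I) n (unpair U₀ Y I n β)) = pair U₀ Y I (n + 1) c := by
    rw [pair_d', pair_unpair, hβ]
  have h3 := congrArg (unpair U₀ Y I (n + 1)) h2
  rwa [unpair_pair, unpair_pair] at h3

/-- **Čech acyclicity of injective presheaves**, for a locally small category in any universe. -/
theorem exactAt_of_injective [Injective I] (n : ℕ) :
    ((cechComplexFunctor Y).obj ((Over.forget U₀).op ⋙ I)).ExactAt (n + 1) := by
  apply Cech.exactAt_of_forall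
  exact exists_primitive U₀ Y I n

end pairing

end CechFree

end Groth.Agent.Lib.helper27
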