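import Mathlib
import Groth.Agent.Lib.Helper27.SieveExt
import Groth.Agent.Lib.Helper27.SieveCech
import Groth.Agent.Lib.Helper1.HDUSections
import Groth.Agent.Lib.Helper1.ProjHom
import Groth.Agent.Lib.Helper1.RhoGE

/-!
helper27: the free presheaf on a sieve as an object of the derived category of presheaves:
comparison with the free presheaves on the objects of a generating family.
-/

set_option autoImplicit false
set_option linter.unusedSectionVars false

namespace Groth.Agent.Lib.helper27.CechHyp

open CategoryTheory Limits Opposite DerivedCategory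
open Groth.Agent.Lib.helper7.FreeYoneda Groth.Agent.H1.SingleHom Groth.Agent.H1.HDUSections

universe w u

variable {C : Type u} [SmallCategory C]

/-- presheaves of abelian groups, as sheaves for the trivial topology -/
abbrev PA (C : Type u) [SmallCategory C] : Type (u + 1) :=
  Sheaf (⊥ : GrothendieckTopology C) AddCommGrpCat.{u}

/-- the free presheaf on an object -/
noncomputable abbrev Zp (V : C) : PA C := (freeSheaf (⊥ : GrothendieckTopology C)).obj V

variable {X₀ : C} (R : Sieve X₀)

/-- the inclusion of the free presheaf on a sieve into the free presheaf on the object -/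
noncomputable def e : SieveExt.ZR R ⟶ Zp X₀ :=
  (presheafToSheaf (⊥ : GrothendieckTopology C) AddCommGrpCat.{u}).map
    (Functor.whiskerRight R.functorInclusion AddCommGrpCat.free.{u})

lemma fam_e (A : PA C) (ψ : Zp X₀ ⟶ A) {V : C} (f : V ⟶ X₀) (hf : R f) :
    SieveExt.fam R (e R ≫ ψ) f hf = A.obj.map f.op (homEquiv _ X₀ A ψ) := by
  dsimp only [SieveExt.fam, SieveExt.famEquiv, homEquiv, Equiv.trans_apply, e]
  rw [Adjunction.homEquiv_naturality_left]
  erw [Adjunction.homEquiv_naturality_left]
  exact (map_yonedaEquiv (F := A.obj ⋙ forget AddCommGrpCat.{u})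
    (((Adjunction.whiskerRight Cᵒᵖ AddCommGrpCat.adj).homEquiv (yoneda.obj X₀) A.obj)
      (((sheafificationAdjunction ⊥ AddCommGrpCat).homEquiv _ A) ψ)) f).symm

/-- the map from the free presheaf on `V` given by a member of the sieve -/
noncomputable def r {V : C} (f : V ⟶ X₀) (hf : R f) : Zp V ⟶ SieveExt.ZR R :=
  (homEquiv _ V (SieveExt.ZR R)).symm (SieveExt.fam R (𝟙 _) f hf)

lemma homEquiv_r_comp (A : PA C) (φ : SieveExt.ZR R ⟶ A) {V : C} (f : V ⟶ X₀) (hf : R f) :
    homEquiv _ V A (r R f hf ≫ φ) = SieveExt.fam R φ f hf := by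
  rw [homEquiv_naturality_right]
  unfold r
  rw [Equiv.apply_symm_apply, ← SieveExt.fam_comp, Category.id_comp]

lemma r_e {V : C} (f : V ⟶ X₀) (hf : R f) :
    r R f hf ≫ e R = (freeSheaf (⊥ : GrothendieckTopology C)).map f := by
  apply (homEquiv _ V _).injective
  rw [homEquiv_r_comp]
  have h1 := fam_e R _ (𝟙 (Zp X₀)) f hf
  rw [Category.comp_id] at h1
  rw [h1, ← homEquiv_naturality_left, Category.comp_id]

instance projective_Zp (V : C) : Projective (Zp V) where
  factors {E X} f p _ := by
    obtain ⟨y, hy⟩ := SieveCech.surjective_of_epi p V (homEquiv _ V X f)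
    refine ⟨(homEquiv _ V E).symm y, ?_⟩
    apply (homEquiv _ V X).injective
    rw [homEquiv_naturality_right, Equiv.apply_symm_apply, hy]

section claimA

variable [HasDerivedCategory.{w} (PA C)]

lemma homEquiv_zero (V : C) (A : PA C) : homEquiv _ V A (0 : Zp V ⟶ A) = 0 :=
  map_zero (secAddEquiv (J := (⊥ : GrothendieckTopology C)) V A)

/-- the free presheaf on an object, in the derived category -/
noncomputable abbrev PV (V : C) : DerivedCategory (PA C) := (singleFunctor (PA C) 0).obj (Zp V)

/-- the free presheaf on a sieve, in the derived category -/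
noncomputable abbrev PR : DerivedCategory (PA C) :=
  (singleFunctor (PA C) 0).obj (SieveExt.ZR R)

/-- the map in the derived category given by a member of the sieve -/
noncomputable abbrev ρ {V : C} (f : V ⟶ X₀) (hf : R f) : PV V ⟶ PR R :=
  (singleFunctor (PA C) 0).map (r R f hf)

lemma hom_PV_eq_zero (V : C) (M : DerivedCategory (PA C)) [M.IsLE (-1)] (σ : PV V ⟶ M) :
    σ = 0 := by
  apply (Groth.Agent.H1.ProjHom.rho_bijective M 0).1
  exact (DerivedCategory.isZero_of_isLE M (-1) 0 (by lia)).eq_of_tgt _ _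

theorem claimA {ι : Type*} (V : ι → C) (g : ∀ i, V i ⟶ X₀) (Y : DerivedCategory (PA C))
    (c : PR (Sieve.ofArrows V g) ⟶ Y) :
    c ≫ (TStructure.t.truncGEπ 0).app Y = 0 ↔
      ∀ i, ρ (Sieve.ofArrows V g) (g i) (Sieve.ofArrows_mk V g i) ≫ c = 0 := by
  let t : Triangulated.TStructure (DerivedCategory (PA C)) := TStructure.t
  constructor
  · intro hc i
    obtain ⟨c', hc'⟩ : ∃ c' : PR (Sieve.ofArrows V g) ⟶ (t.truncLE (-1)).obj Y,
        c = c' ≫ (t.truncLEι (-1)).app Y :=
      Pretriangulated.Triangle.coyoneda_exact₂ _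
        (t.triangleLEGE_distinguished (-1) 0 (by lia) Y) c hc
    have : ((t.truncLE (-1)).obj Y).IsLE (-1) := by
      change t.IsLE ((t.truncLE (-1)).obj Y) (-1)
      infer_instance
    rw [hc', ← Category.assoc,
      hom_PV_eq_zero (V i) ((t.truncLE (-1)).obj Y) (ρ _ (g i) _ ≫ c'), zero_comp]
  · intro hc
    have hge : ((t.truncGE 0).obj Y).IsGE 0 := by
      change t.IsGE ((t.truncGE 0).obj Y) 0
      infer_instance
    apply (Groth.Agent.H1.RhoGE.rho_bijective_of_isGE (SieveExt.ZR (Sieve.ofArrows V g)) 0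
      ((t.truncGE 0).obj Y)).1
    rw [rho_zero]
    apply SieveExt.fam_ext
    intro W f hf
    obtain ⟨i, a, rfl⟩ := (Sieve.mem_ofArrows_iff V g f).1 hf
    have h1 : SieveExt.fam (Sieve.ofArrows V g) (rho (c ≫ (t.truncGEπ 0).app Y)) (g i)
        (Sieve.ofArrows_mk V g i) = 0 := by
      rw [← homEquiv_r_comp, ← rho_precomp, ← Category.assoc]
      change homEquiv _ _ _ (rho ((ρ _ (g i) _ ≫ c) ≫ _)) = 0
      rw [hc i, zero_comp, rho_zero, homEquiv_zero]
    have h2 : SieveExt.fam (Sieve.ofArrows V g) (0 : SieveExt.ZR (Sieve.ofArrows V g) ⟶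
        (homologyFunctor (PA C) 0).obj ((t.truncGE 0).obj Y)) (g i)
        (Sieve.ofArrows_mk V g i) = 0 := SieveCech.fam_zero _ _ _
    rw [← SieveExt.fam_map _ _ (g i) (Sieve.ofArrows_mk V g i) a,
      ← SieveExt.fam_map _ _ (g i) (Sieve.ofArrows_mk V g i) a, h1, h2]

end claimA

end Groth.Agent.Lib.helper27.CechHyp
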