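import Mathlib
import Groth.Agent.Lib.Helper27.SieveExt
import Groth.Agent.Lib.Helper27.DerSmall
import Groth.Agent.Lib.Helper25.KInjMain
import Groth.Agent.Lib.Helper25.DerAdjK
import Groth.Agent.Lib.Helper25.DerBC2

/-!
helper27: the derived adjunction between sheafification and the inclusion of sheaves into presheaves.
-/

set_option autoImplicit false
set_option linter.unusedSectionVars false

namespace Groth.Agent.Lib.helper27.PshDer

open CategoryTheory Limits DerivedCategory

section general

universe w₁ w₂ v₁ v₂ u₁ u₂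

variable {A : Type u₁} {B : Type u₂} [Category.{v₁} A] [Category.{v₂} B] [Abelian A] [Abelian B]
  [HasDerivedCategory.{w₁} A] [HasDerivedCategory.{w₂} B]
  {F₀ : B ⥤ A} {G₀ : A ⥤ B} (adj₀ : F₀ ⊣ G₀) [F₀.Additive] [G₀.Additive]
  [PreservesFiniteLimits F₀] [PreservesFiniteColimits F₀]
  (hKinj : ∀ K : CochainComplex A ℤ, ∃ (I : CochainComplex A ℤ) (f : K ⟶ I),
    I.IsKInjective ∧ QuasiIso f)

include hKinj adj₀ in
/-- the derived right adjoint of an exact functor with a right adjoint -/
theorem exists_RG :
    ∃ (RG : DerivedCategory A ⥤ DerivedCategory B) (_ : F₀.mapDerivedCategory ⊣ RG),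
      ∀ (I : CochainComplex A ℤ), I.IsKInjective →
        Nonempty (RG.obj (Q.obj I) ≅
          Q.obj ((G₀.mapHomologicalComplex (ComplexShape.up ℤ)).obj I)) := by
  have hD : (G₀.mapHomotopyCategory (ComplexShape.up ℤ) ⋙
      DerivedCategory.Qh).HasRightDerivedFunctor
      (HomotopyCategory.quasiIso A (ComplexShape.up ℤ)) :=
    Groth.Agent.Lib.Helper25.DerBC.hasRightDerivedFunctor hKinj _
  obtain ⟨adj', -⟩ := Groth.Agent.Lib.Helper25.DerAdjK.exists_adjunction hKinj adj₀
    ((G₀.mapHomotopyCategory (ComplexShape.up ℤ) ⋙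
      DerivedCategory.Qh).totalRightDerived DerivedCategory.Qh
      (HomotopyCategory.quasiIso A (ComplexShape.up ℤ)))
    ((G₀.mapHomotopyCategory (ComplexShape.up ℤ) ⋙
      DerivedCategory.Qh).totalRightDerivedUnit DerivedCategory.Qh
      (HomotopyCategory.quasiIso A (ComplexShape.up ℤ)))
  refine ⟨_, adj', fun I hI => ?_⟩
  have := Groth.Agent.Lib.Helper25.DerAdjK.isIso_unit_of_isKInjective hKinj
    ((G₀.mapHomotopyCategory (ComplexShape.up ℤ) ⋙
      DerivedCategory.Qh).totalRightDerived DerivedCategory.Qh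
      (HomotopyCategory.quasiIso A (ComplexShape.up ℤ)))
    ((G₀.mapHomotopyCategory (ComplexShape.up ℤ) ⋙
      DerivedCategory.Qh).totalRightDerivedUnit DerivedCategory.Qh
      (HomotopyCategory.quasiIso A (ComplexShape.up ℤ))) I
  exact ⟨(asIso (((G₀.mapHomotopyCategory (ComplexShape.up ℤ) ⋙
      DerivedCategory.Qh).totalRightDerivedUnit DerivedCategory.Qh
      (HomotopyCategory.quasiIso A (ComplexShape.up ℤ))).app
        ((HomotopyCategory.quotient _ _).obj I))).symm⟩

/-- the derived right adjoint preserves lower bounds -/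
theorem isGE_RG [EnoughInjectives A] (RG : DerivedCategory A ⥤ DerivedCategory B)
    (hRG : ∀ (I : CochainComplex A ℤ), I.IsKInjective →
        Nonempty (RG.obj (Q.obj I) ≅
          Q.obj ((G₀.mapHomologicalComplex (ComplexShape.up ℤ)).obj I)))
    (K : CochainComplex A ℤ) (a : ℤ) [K.IsStrictlyGE a] : (RG.obj (Q.obj K)).IsGE a := by
  obtain ⟨L, hL, i, hi⟩ := CochainComplex.Plus.exists_quasiIso_injective
    (⟨K, ⟨a, inferInstance⟩⟩ : CochainComplex.Plus A) a
  have hq : QuasiIso i.hom := hi
  let I : CochainComplex A ℤ := ((InjectiveObject.ι A).mapCochainComplexPlus.obj L).obj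
  have hinj : ∀ m, Injective (I.X m) := fun m => (L.obj.X m).property
  have hge : I.IsStrictlyGE a :=
    inferInstanceAs (CochainComplex.IsStrictlyGE
      (((InjectiveObject.ι A).mapHomologicalComplex _).obj L.obj) a)
  have hI : I.IsKInjective := CochainComplex.isKInjective_of_injective _ a
  obtain ⟨e⟩ := hRG I hI
  have : IsIso (Q.map i.hom) := by
    rw [DerivedCategory.isIso_Q_map_iff_quasiIso]; exact hq
  have h2 : CochainComplex.IsStrictlyGE
      ((G₀.mapHomologicalComplex (ComplexShape.up ℤ)).obj I) a := inferInstance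
  exact DerivedCategory.TStructure.t.isGE_of_iso
    ((RG.mapIso (asIso (Q.map i.hom)) ≪≫ e).symm) a

end general

section sheaf

universe u

variable {C : Type u} [SmallCategory C] (J : GrothendieckTopology C)

instance additive_a : (SieveExt.a J).Additive := (SieveExt.adj J).left_adjoint_additive

instance preservesFiniteLimits_a : PreservesFiniteLimits (SieveExt.a J) := by
  dsimp only [SieveExt.a]
  infer_instance

instance preservesFiniteColimits_a : PreservesFiniteColimits (SieveExt.a J) := by
  have : PreservesColimits (SieveExt.a J) := (SieveExt.adj J).leftAdjoint_preservesColimits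
  infer_instance

theorem hKinj (K : CochainComplex (Sheaf J AddCommGrpCat.{u}) ℤ) :
    ∃ (I : CochainComplex (Sheaf J AddCommGrpCat.{u}) ℤ) (f : K ⟶ I),
      I.IsKInjective ∧ QuasiIso f := by
  obtain ⟨I, f, hI, hf, -, -⟩ := Groth.Agent.Lib.Helper25.KInjMain.exists_kInjective_resolution K
  exact ⟨I, f, hI, hf⟩

/-- a derived category of presheaves with small morphism types -/
@[instance_reducible]
noncomputable def derPA :
    HasDerivedCategory.{u} (Sheaf (⊥ : GrothendieckTopology C) AddCommGrpCat.{u}) :=
  DerSmall.hasDerivedCategorySmall _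

end sheaf

end Groth.Agent.Lib.helper27.PshDer
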