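import Mathlib
import Groth.Agent.Lib.Helper27.CechHyp1
import Groth.Agent.Lib.Helper27.PshDer

/-!
helper27: the inclusion of the free presheaf on a covering sieve becomes invertible after
sheafification, also in the derived category.
-/

set_option autoImplicit false
set_option linter.unusedSectionVars false

namespace Groth.Agent.Lib.helper27.CechHyp

open CategoryTheory Limits Opposite DerivedCategory
open Groth.Agent.Lib.helper7.FreeYoneda Groth.Agent.H1.SingleHom

universe w u

variable {C : Type u} [SmallCategory C] (J : GrothendieckTopology C) {X₀ : C} (R : Sieve X₀)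

lemma bijective_e_comp (hR : R ∈ J X₀) (G : Sheaf J AddCommGrpCat.{u}) :
    Function.Bijective (fun ψ : Zp X₀ ⟶ (SieveExt.ι J).obj G => e R ≫ ψ) := by
  constructor
  · intro ψ ψ' h
    dsimp only at h
    apply (homEquiv _ X₀ _).injective
    obtain ⟨t, -, ht⟩ := SieveExt.glue_sieve J G R hR
      (fun U f _ => G.obj.map f.op (homEquiv _ X₀ ((SieveExt.ι J).obj G) ψ))
      (fun U V f hf h => by
        change (G.obj.map f.op ≫ G.obj.map h.op) _ = G.obj.map (h ≫ f).op _
        rw [← G.obj.map_comp]; rfl)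
    have h1 := ht (homEquiv _ X₀ ((SieveExt.ι J).obj G) ψ) (fun U f hf => rfl)
    have h2 := ht (homEquiv _ X₀ ((SieveExt.ι J).obj G) ψ') (fun U f hf => by
      have e1 := fam_e R _ ψ f hf
      have e2 := fam_e R _ ψ' f hf
      rw [h] at e1
      exact e2.symm.trans e1)
    exact h1.trans h2.symm
  · intro φ
    obtain ⟨t, ht, -⟩ := SieveExt.glue_sieve J G R hR
      (fun U f hf => SieveExt.fam R φ f hf)
      (fun U V f hf h => SieveExt.fam_map R φ f hf h)
    refine ⟨(homEquiv _ X₀ ((SieveExt.ι J).obj G)).symm t, ?_⟩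
    apply SieveExt.fam_ext
    intro U f hf
    rw [fam_e, Equiv.apply_symm_apply]
    exact ht U f hf

theorem isIso_a_map_e (hR : R ∈ J X₀) : IsIso ((SieveExt.a J).map (e R)) := by
  apply isIso_of_coyoneda_map_bijective
  intro G
  have h : (fun ψ : (SieveExt.a J).obj (Zp X₀) ⟶ G => (SieveExt.a J).map (e R) ≫ ψ) =
      ((SieveExt.adj J).homEquiv _ _).symm ∘ (fun ψ : Zp X₀ ⟶ (SieveExt.ι J).obj G => e R ≫ ψ) ∘
        ((SieveExt.adj J).homEquiv _ _) := by
    funext ψ
    apply ((SieveExt.adj J).homEquiv _ _).injective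
    simp only [Function.comp_apply, Equiv.apply_symm_apply]
    exact Adjunction.homEquiv_naturality_left _ _ _
  rw [h]
  exact (Equiv.bijective _).comp ((bijective_e_comp J R hR G).comp (Equiv.bijective _))

section derived

variable [HasDerivedCategory.{w} (PA C)] [HasDerivedCategory.{w} (Sheaf J AddCommGrpCat.{u})]

theorem isIso_mapDerived_e (hR : R ∈ J X₀) :
    IsIso ((SieveExt.a J).mapDerivedCategory.map ((singleFunctor (PA C) 0).map (e R))) := by
  have := isIso_a_map_e J R hR
  have h2 : IsIso ((SieveExt.a J ⋙ singleFunctor _ 0).map (e R)) := by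
    rw [Functor.comp_map]; infer_instance
  exact (NatIso.isIso_map_iff ((SieveExt.a J).mapDerivedCategorySingleFunctor 0) (e R)).2 h2

theorem claimB (hR : R ∈ J X₀)
    {RG : DerivedCategory (Sheaf J AddCommGrpCat.{u}) ⥤ DerivedCategory (PA C)}
    (adj : (SieveExt.a J).mapDerivedCategory ⊣ RG) (N : DerivedCategory (PA C))
    (M' : DerivedCategory (Sheaf J AddCommGrpCat.{u})) (eN : N ≅ RG.obj M') :
    Function.Bijective (fun c : PV X₀ ⟶ N => (singleFunctor (PA C) 0).map (e R) ≫ c) := by
  have hiso := isIso_mapDerived_e J R hR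
  have h : (fun c : PV X₀ ⟶ N => (singleFunctor (PA C) 0).map (e R) ≫ c) =
      (fun c => c ≫ eN.inv) ∘ (adj.homEquiv _ _) ∘
        (fun d => (SieveExt.a J).mapDerivedCategory.map ((singleFunctor (PA C) 0).map (e R)) ≫ d) ∘
        (adj.homEquiv _ _).symm ∘ (fun c => c ≫ eN.hom) := by
    funext c
    simp only [Function.comp_apply]
    rw [← Adjunction.homEquiv_naturality_left_symm, Equiv.apply_symm_apply, Category.assoc,
      Category.assoc, Iso.hom_inv_id, Category.comp_id]
  rw [h]
  refine Function.Bijective.comp ?_ (Function.Bijective.comp (Equiv.bijective _)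
    (Function.Bijective.comp ?_ (Function.Bijective.comp (Equiv.bijective _) ?_)))
  · exact ⟨fun a b hab => (cancel_mono _).1 hab, fun b => ⟨b ≫ eN.hom, by simp⟩⟩
  · exact ⟨fun a b hab => (cancel_epi _).1 hab, fun b => ⟨inv ((SieveExt.a J).mapDerivedCategory.map
      ((singleFunctor (PA C) 0).map (e R))) ≫ b, by simp⟩⟩
  · exact ⟨fun a b hab => (cancel_mono _).1 hab, fun b => ⟨b ≫ eN.inv, by simp⟩⟩

end derived

end Groth.Agent.Lib.helper27.CechHyp
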