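import Mathlib
import Groth.Prelude.Def_CohCx
import Groth.Agent.Lib.Helper27.CechInj
import Groth.Agent.Lib.Helper27.SieveCech
import Groth.Agent.Lib.Helper27.CechHyp1

/-!
helper27: Čech cohomology of a presheaf on a space for a family of opens as morphisms in the derived
category of presheaves out of the free presheaf on the sieve generated by the family.
-/

set_option autoImplicit false
set_option linter.unusedSectionVars false

namespace Groth.Agent.Lib.helper27.CechHyp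

open CategoryTheory Limits Opposite DerivedCategory TopologicalSpace

universe u

section transfer

variable {D₁ D₂ : Type u} [SmallCategory D₁] [SmallCategory D₂] [HasFiniteProducts D₁]
  [HasFiniteProducts D₂] {ι' : Type u} (U₁ : ι' → D₁) (U₂ : ι' → D₂)
  (Q₁ : D₁ᵒᵖ ⥤ AddCommGrpCat.{u}) (Q₂ : D₂ᵒᵖ ⥤ AddCommGrpCat.{u})

/-- Isomorphism of Čech complexes from termwise isomorphisms compatible with the faces
(as in helper2's `CechTr.cechIso`; restated here to keep the import closure small). -/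
noncomputable def cechIso
    (e : ∀ (n : ℕ) (a : Fin (n + 1) → ι'), Cech.Z U₁ Q₁ n a ≅ Cech.Z U₂ Q₂ n a)
    (he : ∀ (n : ℕ) (b : Fin (n + 2) → ι') (i : Fin (n + 2)),
      Q₁.map (Cech.face U₁ b i).op ≫ (e (n + 1) b).hom =
        (e n (b ∘ Fin.succAbove i)).hom ≫ Q₂.map (Cech.face U₂ b i).op) :
    (cechComplexFunctor U₁).obj Q₁ ≅ (cechComplexFunctor U₂).obj Q₂ := by
  let E : ∀ n, (∏ᶜ Cech.Z U₁ Q₁ n : AddCommGrpCat.{u}) ⟶ ∏ᶜ Cech.Z U₂ Q₂ n :=
    fun n => Limits.Pi.map (fun a => (e n a).hom)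
  let E' : ∀ n, (∏ᶜ Cech.Z U₂ Q₂ n : AddCommGrpCat.{u}) ⟶ ∏ᶜ Cech.Z U₁ Q₁ n :=
    fun n => Limits.Pi.map (fun a => (e n a).inv)
  have h1 : ∀ n, E n ≫ E' n = 𝟙 _ := by
    intro n
    apply Limits.Pi.hom_ext
    intro a
    simp only [E, E', Category.assoc, Limits.Pi.map_π, Limits.Pi.map_π_assoc, Iso.hom_inv_id,
      Category.comp_id, Category.id_comp]
  have h2 : ∀ n, E' n ≫ E n = 𝟙 _ := by
    intro n
    apply Limits.Pi.hom_ext
    intro a
    simp only [E, E', Category.assoc, Limits.Pi.map_π, Limits.Pi.map_π_assoc, Iso.inv_hom_id,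
      Category.comp_id, Category.id_comp]
  have hδ : ∀ n (i : Fin (n + 2)),
      Cech.δ' U₁ Q₁ n i ≫ E (n + 1) = E n ≫ Cech.δ' U₂ Q₂ n i := by
    intro n i
    apply Limits.Pi.hom_ext
    intro b
    simp only [E, Cech.δ', Category.assoc, Limits.Pi.map_π, Limits.Pi.lift_π,
      Limits.Pi.lift_π_assoc, Limits.Pi.map_π_assoc]
    rw [he]
  have hd : ∀ n, Cech.d' U₁ Q₁ n ≫ E (n + 1) = E n ≫ Cech.d' U₂ Q₂ n := by
    intro n
    rw [Cech.d'_eq, Cech.d'_eq, Preadditive.sum_comp, Preadditive.comp_sum]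
    refine Finset.sum_congr rfl (fun i _ => ?_)
    rw [Preadditive.zsmul_comp, Preadditive.comp_zsmul, hδ]
  refine HomologicalComplex.Hom.isoOfComponents
    (fun n => (⟨E n, E' n, h1 n, h2 n⟩ :
      ((cechComplexFunctor U₁).obj Q₁).X n ≅ ((cechComplexFunctor U₂).obj Q₂).X n)) ?_
  intro i j hij
  obtain rfl : i + 1 = j := hij
  exact (hd i).symm

end transfer

section top

variable {X : TopCat.{u}} {ι : Type u} (U : ι → Opens X)

/-- the inclusions into the whole space -/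
abbrev gU (i : ι) : U i ⟶ (⊤ : Opens X) := homOfLE le_top

/-- the family as objects over the whole space -/
abbrev YU (i : ι) : Over (⊤ : Opens X) := Over.mk (gU U i)

/-- the sieve generated by the family -/
abbrev RU : Sieve (⊤ : Opens X) := Sieve.ofArrows U (gU U)

lemma RU_mem (hcov : iSup U = ⊤) : RU U ∈ Opens.grothendieckTopology X ⊤ := by
  intro x _
  have hx : x ∈ iSup U := by rw [hcov]; trivial
  obtain ⟨i, hi⟩ := Opens.mem_iSup.1 hx
  exact ⟨U i, gU U i, Sieve.ofArrows_mk U (gU U) i, hi⟩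

/-- the products in `Over ⊤` are the products in `Opens X` -/
noncomputable def prodIso {n : ℕ} (a : Fin (n + 1) → ι) :
    (Over.forget (⊤ : Opens X)).obj (∏ᶜ (YU U ∘ a)) ≅ ∏ᶜ (U ∘ a) where
  hom := Pi.lift (fun k => (Pi.π (YU U ∘ a) k).left)
  inv := (Pi.lift (fun k => (Over.homMk (Pi.π (U ∘ a) k) (Subsingleton.elim _ _) :
    Over.mk (homOfLE le_top : ∏ᶜ (U ∘ a) ⟶ (⊤ : Opens X)) ⟶ (YU U ∘ a) k))).left
  hom_inv_id := Subsingleton.elim _ _
  inv_hom_id := Subsingleton.elim _ _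

/-- the Čech complex over `⊤` is the Čech complex -/
noncomputable def cechIsoOver (F : (Opens X)ᵒᵖ ⥤ AddCommGrpCat.{u}) :
    (cechComplexFunctor (YU U)).obj ((Over.forget (⊤ : Opens X)).op ⋙ F) ≅
      (cechComplexFunctor U).obj F :=
  cechIso (YU U) U ((Over.forget (⊤ : Opens X)).op ⋙ F) F
    (fun n a => F.mapIso (prodIso U a).op.symm) (by
      intro n b i
      change F.map _ ≫ F.map _ = F.map _ ≫ F.map _
      rw [← F.map_comp, ← F.map_comp]
      exact congrArg F.map (Subsingleton.elim _ _))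

section e2

variable [HasDerivedCategory.{u} (PA (Opens X))]

/-- postcomposition with an isomorphism -/
noncomputable def postAddEquiv {T : Type*} [Category T] [Preadditive T] (P : T) {A B : T}
    (i : A ≅ B) : (P ⟶ A) ≃+ (P ⟶ B) :=
  ((preadditiveCoyoneda.obj (op P)).mapIso i).addCommGroupIsoToAddEquiv

lemma postAddEquiv_apply {T : Type*} [Category T] [Preadditive T] (P : T) {A B : T}
    (i : A ≅ B) (c : P ⟶ A) : postAddEquiv P i c = c ≫ i.hom := rfl

theorem e2_iso (A : PA (Opens X)) (p : ℕ) :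
    Nonempty ((PR (RU U) ⟶ (singleFunctor (PA (Opens X)) (-(p : ℤ))).obj A) ≃+
      ↑(((cechComplexFunctor U).obj A.obj).homology p)) := by
  haveI : HasExt.{u} (PA (Opens X)) := hasExt_of_hasDerivedCategory _
  obtain ⟨e1⟩ := SieveCech.cech_iso_ext (YU U) A p
  let e2 := (HomologicalComplex.homologyFunctor _ _ p).mapIso (cechIsoOver U A.obj)
  let e3 : (PR (RU U) ⟶ (singleFunctor (PA (Opens X)) (-(p : ℤ))).obj A) ≃+
      (PR (RU U) ⟶ ((singleFunctor (PA (Opens X)) 0).obj A)⟦(p : ℤ)⟧) :=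
    postAddEquiv _ (((DerivedCategory.singleFunctors (PA (Opens X))).shiftIso (p : ℤ) (-(p : ℤ)) 0
      (by simp)).app A).symm
  let e4 : Abelian.Ext.{u} (SieveExt.ZR (RU U)) A p ≃+
      (PR (RU U) ⟶ ((singleFunctor (PA (Opens X)) 0).obj A)⟦(p : ℤ)⟧) := Abelian.Ext.homAddEquiv
  exact ⟨e3.trans (e4.symm.trans (e2.symm ≪≫ e1).addCommGroupIsoToAddEquiv.symm)⟩

end e2

end top

end Groth.Agent.Lib.helper27.CechHyp
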