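import Mathlib
import Groth.Agent.Lib.Helper1.NegVanish

/-!
helper27: for an exact functor `Φ : ℬ ⥤ 𝒜` with derived right adjoint `RG` and generators compatible
with `Φ`, the presheaf `V ↦ Hom(single_0 (PD V), (RG K)[n])` is `V ↦ Hom(single_0 (PC (u V)), K[n])`.
-/

set_option autoImplicit false
universe w u
open CategoryTheory CategoryTheory.Limits Opposite DerivedCategory

namespace Groth.Agent.Lib.helper27.HDirPsh

variable {C D : Type u} [SmallCategory C] [SmallCategory D]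
  {𝒜 ℬ : Type (u + 1)} [Category.{u} 𝒜] [Category.{u} ℬ] [Abelian 𝒜] [Abelian ℬ]
  [HasDerivedCategory.{w} 𝒜] [HasDerivedCategory.{w} ℬ]

/-- the presheaf `V ↦ Hom(single_0 (P V), K[n])` -/
noncomputable abbrev hPsh (P : C ⥤ 𝒜) (K : DerivedCategory 𝒜) (n : ℤ) : Cᵒᵖ ⥤ AddCommGrpCat.{w} :=
  (P ⋙ singleFunctor 𝒜 0).op ⋙ preadditiveYoneda.obj ((shiftFunctor (DerivedCategory 𝒜) n).obj K)

section adjY

variable {S T : Type*} [Category.{w} S] [Category.{w} T] [Preadditive S] [Preadditive T]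
  {L : S ⥤ T} {R : T ⥤ S} (adj : L ⊣ R) [L.Additive]

/-- `Hom(-, R M) ≅ Hom(L -, M)` as additive presheaves -/
noncomputable def adjYoneda (M : T) :
    preadditiveYoneda.obj (R.obj M) ≅ L.op ⋙ preadditiveYoneda.obj M :=
  NatIso.ofComponents (fun X => (adj.homAddEquiv (unop X) M).symm.toAddCommGrpIso)
    (fun g => by
      ext y
      exact adj.homEquiv_naturality_left_symm g.unop y)

end adjY

variable (PC : C ⥤ 𝒜) (PD : D ⥤ ℬ)
  (Φ : ℬ ⥤ 𝒜) [Φ.Additive] [PreservesFiniteLimits Φ] [PreservesFiniteColimits Φ]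
  {RG : DerivedCategory 𝒜 ⥤ DerivedCategory ℬ} (adj : Φ.mapDerivedCategory ⊣ RG)
  (u : D ⥤ C) (θ : PD ⋙ Φ ≅ u ⋙ PC)

/-- `RG` commutes with shifts on objects -/
noncomputable def shiftIso (K : DerivedCategory 𝒜) (n : ℤ) :
    (shiftFunctor (DerivedCategory ℬ) n).obj (RG.obj K) ≅
      RG.obj ((shiftFunctor (DerivedCategory 𝒜) n).obj K) :=
  letI := adj.rightAdjointCommShift ℤ
  ((RG.commShiftIso n).app K).symm

/-- generators are compatible with `Φ` in the derived category -/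
noncomputable def genIso :
    (PD ⋙ singleFunctor ℬ 0) ⋙ Φ.mapDerivedCategory ≅ u ⋙ PC ⋙ singleFunctor 𝒜 0 :=
  Functor.associator _ _ _ ≪≫ Functor.isoWhiskerLeft PD (Φ.mapDerivedCategorySingleFunctor 0) ≪≫
    (Functor.associator _ _ _).symm ≪≫ Functor.isoWhiskerRight θ (singleFunctor 𝒜 0) ≪≫
    Functor.associator _ _ _

/-- the main isomorphism of presheaves -/
noncomputable def iso (K : DerivedCategory 𝒜) (n : ℤ) :
    hPsh PD (RG.obj K) n ≅ u.op ⋙ hPsh PC K n :=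
  Functor.isoWhiskerLeft (PD ⋙ singleFunctor ℬ 0).op
      (preadditiveYoneda.mapIso (shiftIso Φ adj K n)) ≪≫
    Functor.isoWhiskerLeft (PD ⋙ singleFunctor ℬ 0).op
      (adjYoneda adj ((shiftFunctor (DerivedCategory 𝒜) n).obj K)) ≪≫
    (Functor.associator _ _ _).symm ≪≫
    Functor.isoWhiskerRight (NatIso.op (genIso PC PD Φ u θ)).symm
      (preadditiveYoneda.obj ((shiftFunctor (DerivedCategory 𝒜) n).obj K)) ≪≫
    Functor.isoWhiskerRight (Functor.opComp u (PC ⋙ singleFunctor 𝒜 0)) _ ≪≫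
    Functor.associator _ _ _

end Groth.Agent.Lib.helper27.HDirPsh
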