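import Mathlib
import Groth.Prelude.Def_CohCx
import Groth.Agent.S0931
import Groth.Agent.Lib.Helper27.HDirPsh
import Groth.Agent.Lib.Helper27.PshDer
import Groth.Agent.Lib.Helper27.CechHyp1
import Groth.Agent.Lib.Helper27.CechHyp2

/-!
helper27: the cohomology presheaves of `Rι M` (derived inclusion of sheaves into presheaves) are the
presheaves `V ↦ H^q(V, M)`.
-/

set_option autoImplicit false
set_option linter.unusedSectionVars false

namespace Groth.Agent.Lib.helper27.CechHyp

open CategoryTheory Limits Opposite DerivedCategory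
open Groth.Agent.Lib.helper7.FreeYoneda

universe u

variable {C : Type u} [SmallCategory C] (J : GrothendieckTopology C)

/-- sheafification for the trivial topology does nothing -/
noncomputable def botIso :
    presheafToSheaf (⊥ : GrothendieckTopology C) AddCommGrpCat.{u} ⋙
      sheafToPresheaf (⊥ : GrothendieckTopology C) AddCommGrpCat.{u} ≅ 𝟭 _ := by
  have : IsIso (sheafificationAdjunction (⊥ : GrothendieckTopology C) AddCommGrpCat.{u}).unit := by
    apply (config := { allowSynthFailures := true }) NatIso.isIso_of_isIso_app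
    intro P
    exact isIso_toSheafify _ (Presheaf.isSheaf_bot P)
  exact (asIso (sheafificationAdjunction (⊥ : GrothendieckTopology C) AddCommGrpCat.{u}).unit).symm

/-- the free presheaves sheafify to the free sheaves -/
noncomputable def θ :
    freeSheaf (⊥ : GrothendieckTopology C) ⋙ SieveExt.a J ≅ 𝟭 C ⋙ freeSheaf J :=
  Functor.isoWhiskerLeft (yoneda ⋙ (Functor.whiskeringRight _ _ _).obj AddCommGrpCat.free.{u})
    (Functor.isoWhiskerRight botIso (presheafToSheaf J AddCommGrpCat.{u}) ≪≫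
      Functor.leftUnitor _) ≪≫ (Functor.leftUnitor _).symm

section

variable [HasDerivedCategory.{u} (PA C)]

/-- the cohomology presheaves of an object of the derived category of presheaves -/
theorem nonempty_HD_obj_iso (Y : DerivedCategory (PA C)) (j : ℤ) :
    Nonempty ((CohCx.HD Y j).obj ≅ CohCx.HDUPresheaf Y j) := by
  obtain ⟨e⟩ := Groth.Agent.S0931.result (J := (⊥ : GrothendieckTopology C)) Y j
  exact ⟨((sheafToPresheaf _ _).mapIso e).symm ≪≫ botIso.app _⟩

variable [HasDerivedCategory.{u} (Sheaf J AddCommGrpCat.{u})]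
  {RG : DerivedCategory (Sheaf J AddCommGrpCat.{u}) ⥤ DerivedCategory (PA C)}
  (adj : (SieveExt.a J).mapDerivedCategory ⊣ RG)

/-- the natural isomorphism `Hom(ℤ_V^{psh}, (Rι M)[n]) ≅ H^n(V, M)` -/
noncomputable def Ψ (M : DerivedCategory (Sheaf J AddCommGrpCat.{u})) (n : ℤ) :
    CohCx.HDUPresheaf (RG.obj M) n ≅ CohCx.HDUPresheaf M n :=
  HDirPsh.iso (freeSheaf J) (freeSheaf (⊥ : GrothendieckTopology C)) (SieveExt.a J) adj (𝟭 C)
    (θ J) M n ≪≫ Functor.isoWhiskerRight (Functor.opId C) _ ≪≫ Functor.leftUnitor _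

lemma Ψ_naturality (M : DerivedCategory (Sheaf J AddCommGrpCat.{u})) (n : ℤ) {V V' : C}
    (g : V' ⟶ V) (c : CohCx.HDU (RG.obj M) n V) :
    (Ψ J adj M n).hom.app (op V') (CohCx.HDUres (RG.obj M) n g c) =
      CohCx.HDUres M n g ((Ψ J adj M n).hom.app (op V) c) :=
  ConcreteCategory.congr_hom ((Ψ J adj M n).hom.naturality g.op) c

/-- `Ψ` on sections, as an additive equivalence -/
noncomputable def ΨV (M : DerivedCategory (Sheaf J AddCommGrpCat.{u})) (n : ℤ) (V : C) :
    CohCx.HDU (RG.obj M) n V ≃+ CohCx.HDU M n V :=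
  ((Ψ J adj M n).app (op V)).addCommGroupIsoToAddEquiv

lemma ΨV_res (M : DerivedCategory (Sheaf J AddCommGrpCat.{u})) (n : ℤ) {V V' : C}
    (g : V' ⟶ V) (c : CohCx.HDU (RG.obj M) n V) :
    ΨV J adj M n V' (CohCx.HDUres (RG.obj M) n g c) = CohCx.HDUres M n g (ΨV J adj M n V c) :=
  Ψ_naturality J adj M n g c

section theta

variable {X₀ : C} (R : Sieve X₀) (hR : R ∈ J X₀)

/-- precomposition with the inclusion of the free presheaf on the covering sieve -/
noncomputable def Bequiv (M : DerivedCategory (Sheaf J AddCommGrpCat.{u})) (n : ℤ) :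
    CohCx.HDU (RG.obj M) n X₀ ≃+ (PR R ⟶ (shiftFunctor _ n).obj (RG.obj M)) :=
  AddEquiv.ofBijective (Preadditive.leftComp _ ((singleFunctor (PA C) 0).map (e R)))
    (claimB J R hR adj _ ((shiftFunctor _ n).obj M) (HDirPsh.shiftIso (SieveExt.a J) adj M n))

/-- the comparison of morphisms out of the free presheaf on a covering sieve with
hypercohomology -/
noncomputable def Θ (M : DerivedCategory (Sheaf J AddCommGrpCat.{u})) (n : ℤ) :
    (PR R ⟶ (shiftFunctor _ n).obj (RG.obj M)) ≃+ CohCx.HDU M n X₀ :=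
  (Bequiv J adj R hR M n).symm.trans (ΨV J adj M n X₀)

lemma ρ_Θ_symm (M : DerivedCategory (Sheaf J AddCommGrpCat.{u})) (n : ℤ) {V : C} (f : V ⟶ X₀)
    (hf : R f) (x : CohCx.HDU M n X₀) :
    ΨV J adj M n V (ρ R f hf ≫ (Θ J adj R hR M n).symm x) = CohCx.HDUres M n f x := by
  have h1 : (Θ J adj R hR M n).symm x =
      (singleFunctor (PA C) 0).map (e R) ≫ (ΨV J adj M n X₀).symm x := rfl
  have h2 : ρ R f hf ≫ (singleFunctor (PA C) 0).map (e R) ≫ (ΨV J adj M n X₀).symm x =
      CohCx.HDUres (RG.obj M) n f ((ΨV J adj M n X₀).symm x) := by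
    rw [← Category.assoc]
    change ((singleFunctor (PA C) 0).map (r R f hf) ≫ (singleFunctor (PA C) 0).map (e R)) ≫ _ = _
    rw [← Functor.map_comp, r_e]
    rfl
  rw [h1, h2, ΨV_res, AddEquiv.apply_symm_apply]

end theta

theorem ker_iff {X₀ : C} {ι : Type*} (V : ι → C) (g : ∀ i, V i ⟶ X₀)
    (hR : Sieve.ofArrows V g ∈ J X₀) (M : DerivedCategory (Sheaf J AddCommGrpCat.{u})) (n : ℤ)
    (x : CohCx.HDU M n X₀) :
    (Θ J adj (Sieve.ofArrows V g) hR M n).symm x ≫
        (TStructure.t.truncGEπ 0).app ((shiftFunctor _ n).obj (RG.obj M)) = 0 ↔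
      ∀ i, CohCx.HDUres M n (g i) x = 0 := by
  rw [claimA]
  constructor
  · intro h i
    have := ρ_Θ_symm J adj (Sieve.ofArrows V g) hR M n (g i) (Sieve.ofArrows_mk V g i) x
    rw [h i, map_zero] at this
    exact this.symm
  · intro h i
    have := ρ_Θ_symm J adj (Sieve.ofArrows V g) hR M n (g i) (Sieve.ofArrows_mk V g i) x
    rw [h i] at this
    exact (AddEquiv.map_eq_zero_iff _).1 this

include adj in
/-- the cohomology presheaves of `(Rι M)[n]` -/
theorem nonempty_HD_shift_iso (M : DerivedCategory (Sheaf J AddCommGrpCat.{u})) (n j m : ℤ)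
    (h : n + j = m) :
    Nonempty ((CohCx.HD ((shiftFunctor _ n).obj (RG.obj M)) j).obj ≅ CohCx.HDUPresheaf M m) := by
  obtain ⟨e1⟩ := nonempty_HD_obj_iso ((shiftFunctor _ n).obj (RG.obj M)) j
  let e2 : CohCx.HDUPresheaf ((shiftFunctor _ n).obj (RG.obj M)) j ≅
      CohCx.HDUPresheaf (RG.obj M) m :=
    Functor.isoWhiskerLeft _ (preadditiveYoneda.mapIso
      ((shiftFunctorAdd' (DerivedCategory (PA C)) n j m h).app (RG.obj M)).symm)
  exact ⟨e1 ≪≫ e2 ≪≫ Ψ J adj M m⟩

end

end Groth.Agent.Lib.helper27.CechHyp
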