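import Mathlib

/-!
helper27: the filtration of `Hom(P, Y)` induced by the truncations of `Y` for a t-structure, with
graded pieces subquotients of `Hom(P, τ_{≥ j} τ_{≤ j} Y)`.
-/

set_option autoImplicit false
set_option linter.unusedSectionVars false

namespace Groth.Agent.Lib.helper27.TFilt

open CategoryTheory Limits Pretriangulated Triangulated

section algebra

universe w
variable {R : Type*} [CommRing R] {M₀ M H T : Type w} [AddCommGroup M₀] [Module R M₀]
  [AddCommGroup M] [Module R M] [AddCommGroup H] [Module R H] [AddCommGroup T] [Module R T]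

/-- if `ker α = range i`, then `range β / range (β ∘ i)` is a subquotient of the target of `α` -/
theorem subquotient_of_exact (i : M₀ →ₗ[R] M) (β : M →ₗ[R] H) (α : M →ₗ[R] T)
    (hex : LinearMap.ker α = LinearMap.range i) (G' : Submodule R H)
    (hG' : G' = LinearMap.range (β ∘ₗ i)) :
    ∃ (S S' : Submodule R T), S ≤ S' ∧
      Nonempty ((↥(LinearMap.range β) ⧸ Submodule.comap (LinearMap.range β).subtype G') ≃ₗ[R]
        (↥S' ⧸ Submodule.comap S'.subtype S)) := by
  subst hG'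
  refine ⟨Submodule.map α (LinearMap.ker β), LinearMap.range α, LinearMap.map_le_range, ?_⟩
  let f₁ : M →ₗ[R] (↥(LinearMap.range β) ⧸
      Submodule.comap (LinearMap.range β).subtype (LinearMap.range (β ∘ₗ i))) :=
    (Submodule.mkQ _) ∘ₗ β.rangeRestrict
  let f₂ : M →ₗ[R] (↥(LinearMap.range α) ⧸
      Submodule.comap (LinearMap.range α).subtype (Submodule.map α (LinearMap.ker β))) :=
    (Submodule.mkQ _) ∘ₗ α.rangeRestrict
  have h₁ : Function.Surjective f₁ :=
    (Submodule.mkQ_surjective _).comp β.surjective_rangeRestrict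
  have h₂ : Function.Surjective f₂ :=
    (Submodule.mkQ_surjective _).comp α.surjective_rangeRestrict
  have e1 : ∀ m, f₁ m = 0 ↔ β m ∈ LinearMap.range (β ∘ₗ i) := fun m =>
    Submodule.Quotient.mk_eq_zero _
  have e2 : ∀ m, f₂ m = 0 ↔ α m ∈ Submodule.map α (LinearMap.ker β) := fun m =>
    Submodule.Quotient.mk_eq_zero _
  have hk : LinearMap.ker f₁ = LinearMap.ker f₂ := by
    ext m
    rw [LinearMap.mem_ker, LinearMap.mem_ker, e1, e2]
    constructor
    · rintro ⟨x, hx⟩
      rw [LinearMap.comp_apply] at hx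
      refine ⟨m - i x, ?_, ?_⟩
      · change β (m - i x) = 0
        rw [map_sub, hx, sub_self]
      · have : i x ∈ LinearMap.ker α := by rw [hex]; exact ⟨x, rfl⟩
        rw [map_sub, LinearMap.mem_ker.1 this, sub_zero]
    · rintro ⟨k, hk, hkm⟩
      have : m - k ∈ LinearMap.ker α := by
        rw [LinearMap.mem_ker, map_sub, hkm, sub_self]
      rw [hex] at this
      obtain ⟨x, hx⟩ := this
      refine ⟨x, ?_⟩
      rw [LinearMap.comp_apply, hx, map_sub, LinearMap.mem_ker.1 hk, sub_zero]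
  exact ⟨(LinearMap.quotKerEquivOfSurjective f₁ h₁).symm ≪≫ₗ
    Submodule.quotEquivOfEq _ _ hk ≪≫ₗ LinearMap.quotKerEquivOfSurjective f₂ h₂⟩

end algebra

variable {C : Type*} [Category C] [Preadditive C] [HasZeroObject C] [HasShift C ℤ]
  [∀ (n : ℤ), (shiftFunctor C n).Additive] [Pretriangulated C] [IsTriangulated C] (t : TStructure C) (P Y : C)

/-- postcomposition as a `ℤ`-linear map -/
def post {A B : C} (g : A ⟶ B) : (P ⟶ A) →ₗ[ℤ] (P ⟶ B) :=
  (Preadditive.rightComp P g).toIntLinearMap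

omit [HasZeroObject C] [HasShift C ℤ] [∀ (n : ℤ), (shiftFunctor C n).Additive] [Pretriangulated C]
  [IsTriangulated C] in
@[simp] lemma post_apply {A B : C} (g : A ⟶ B) (c : P ⟶ A) : post P g c = c ≫ g := rfl

/-- the filtration of `Hom(P, Y)` by the images of `Hom(P, τ_{≤ j} Y)` -/
noncomputable def Fil (j : ℤ) : Submodule ℤ (P ⟶ Y) :=
  LinearMap.range (post P ((t.truncLEι j).app Y))

lemma mem_Fil_iff (j : ℤ) (c : P ⟶ Y) :
    c ∈ Fil t P Y j ↔ ∃ c' : P ⟶ (t.truncLE j).obj Y, c' ≫ (t.truncLEι j).app Y = c :=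
  Iff.rfl

lemma Fil_mono {j j' : ℤ} (h : j ≤ j') : Fil t P Y j ≤ Fil t P Y j' := by
  rintro c ⟨c', rfl⟩
  refine ⟨c' ≫ (t.natTransTruncLEOfLE j j' h).app Y, ?_⟩
  rw [post_apply, post_apply, Category.assoc, t.natTransTruncLEOfLE_ι_app]

lemma Fil_eq_ker (j j' : ℤ) (h : j + 1 = j') :
    Fil t P Y j = LinearMap.ker (post P ((t.truncGEπ j').app Y)) := by
  have hT := t.triangleLEGE_distinguished j j' h Y
  ext c
  rw [LinearMap.mem_ker, post_apply, mem_Fil_iff]
  constructor
  · rintro ⟨c', rfl⟩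
    rw [Category.assoc]
    have := comp_distTriang_mor_zero₁₂ _ hT
    rw [show (t.truncLEι j).app Y ≫ (t.truncGEπ j').app Y = 0 from this, comp_zero]
  · intro hc
    obtain ⟨g, hg⟩ := Triangle.coyoneda_exact₂ _ hT c hc
    exact ⟨g, hg.symm⟩

lemma Fil_eq_top [t.IsLE P 0] (j : ℤ) (hj : 0 ≤ j) : Fil t P Y j = ⊤ := by
  rw [Fil_eq_ker t P Y j (j + 1) rfl, eq_top_iff]
  intro c _
  rw [LinearMap.mem_ker, post_apply]
  exact t.zero_of_isLE_of_isGE _ 0 (j + 1) (by lia) inferInstance inferInstance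

lemma Fil_eq_bot (b : ℤ) [t.IsGE Y b] (j : ℤ) (hj : j < b) : Fil t P Y j = ⊥ := by
  rw [eq_bot_iff]
  rintro c ⟨c', rfl⟩
  have : t.IsGE Y (j + 1) := t.isGE_of_ge Y (j + 1) b (by lia)
  have hz : IsZero ((t.truncLE j).obj Y) := t.isZero_truncLE_obj_of_isGE j (j + 1) rfl Y
  rw [Submodule.mem_bot, post_apply, hz.eq_of_tgt c' 0, zero_comp]

/-- the graded pieces of the filtration are subquotients of `Hom(P, τ_{≥ j} τ_{≤ j} Y)` -/
theorem subquotient (j j₀ : ℤ) (hj : j₀ + 1 = j) :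
    ∃ (S S' : Submodule ℤ (P ⟶ (t.truncGE j).obj ((t.truncLE j).obj Y))), S ≤ S' ∧
      Nonempty ((↥(Fil t P Y j) ⧸ Submodule.comap (Fil t P Y j).subtype (Fil t P Y j₀)) ≃ₗ[ℤ]
        (↥S' ⧸ Submodule.comap S'.subtype S)) := by
  let Y' := (t.truncLE j).obj Y
  refine subquotient_of_exact (post P ((t.truncLEι j₀).app Y')) (post P ((t.truncLEι j).app Y))
    (post P ((t.truncGEπ j).app Y')) (Fil_eq_ker t P Y' j₀ j hj).symm _ ?_
  have hnat := (t.truncLEι j₀).naturality ((t.truncLEι j).app Y)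
  dsimp at hnat
  have hiso : IsIso ((t.truncLE j₀).map ((t.truncLEι j).app Y)) :=
    t.isIso_truncLE_map_truncLEι_app j₀ j (by lia) Y
  ext c
  constructor
  · rintro ⟨c', rfl⟩
    refine ⟨c' ≫ inv ((t.truncLE j₀).map ((t.truncLEι j).app Y)), ?_⟩
    rw [LinearMap.comp_apply, post_apply, post_apply, post_apply, Category.assoc, Category.assoc,
      ← hnat, IsIso.inv_hom_id_assoc]
  · rintro ⟨c', rfl⟩
    refine ⟨c' ≫ (t.truncLE j₀).map ((t.truncLEι j).app Y), ?_⟩
    rw [LinearMap.comp_apply, post_apply, post_apply, post_apply, Category.assoc, hnat,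
      Category.assoc]

end Groth.Agent.Lib.helper27.TFilt
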