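import Mathlib
import Groth.Agent.Lib.Helper1.TruncCoh

/-!
helper27: `τ_{≥ j} τ_{≤ j} Y` is the cohomology object `H^j(Y)` placed in degree `j`.
-/

set_option autoImplicit false
set_option linter.unusedSectionVars false

namespace Groth.Agent.Lib.helper27.TPiece

open CategoryTheory Limits DerivedCategory

universe w v u

variable {𝒜 : Type u} [Category.{v} 𝒜] [Abelian 𝒜] [HasDerivedCategory.{w} 𝒜]

theorem piece_iso (Y : DerivedCategory 𝒜) (j : ℤ) :
    Nonempty ((TStructure.t.truncGE j).obj ((TStructure.t.truncLE j).obj Y) ≅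
      (singleFunctor 𝒜 j).obj ((homologyFunctor 𝒜 j).obj Y)) := by
  let t : Triangulated.TStructure (DerivedCategory 𝒜) := TStructure.t
  let Y₁ := (t.truncLE j).obj Y
  let Z' := (t.truncGE j).obj Y₁
  have g1 : t.IsLE Y₁ j := by
    change t.IsLE ((t.truncLE j).obj Y) j
    infer_instance
  have g2 : t.IsGE Z' j := by
    change t.IsGE ((t.truncGE j).obj Y₁) j
    infer_instance
  have g3 : t.IsLE Z' j := by
    change t.IsLE ((t.truncGE j).obj Y₁) j
    infer_instance
  have g2' : Z'.IsGE j := g2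
  have g3' : Z'.IsLE j := g3
  obtain ⟨A', ⟨e⟩⟩ := exists_iso_singleFunctor_obj_of_isGE_of_isLE Z' j
  have i1 := Groth.Agent.H1.TruncCoh.isIso_homology_truncGEπ Y₁ j j le_rfl
  have i2 := Groth.Agent.H1.WayOutCoh.isIso_homology_truncLEι Y j j le_rfl
  let eA : A' ≅ (homologyFunctor 𝒜 j).obj Y :=
    ((singleFunctorCompHomologyFunctorIso 𝒜 j).app A').symm ≪≫
      (homologyFunctor 𝒜 j).mapIso e.symm ≪≫
      (asIso ((homologyFunctor 𝒜 j).map ((t.truncGEπ j).app Y₁))).symm ≪≫
      asIso ((homologyFunctor 𝒜 j).map ((t.truncLEι j).app Y))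
  exact ⟨e ≪≫ (singleFunctor 𝒜 j).mapIso eA⟩

end Groth.Agent.Lib.helper27.TPiece
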