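import Mathlib
import Groth.Prelude.Def_CohCx
import Groth.Prelude.Def_HTor
import Groth.Prelude.Def_CohB1
import Groth.Agent.Lib.Helper27.TFilt
import Groth.Agent.Lib.Helper27.TPiece
import Groth.Agent.Lib.Helper27.CechHyp2
import Groth.Agent.Lib.Helper27.CechHyp3
import Groth.Agent.Lib.Helper27.CechHyp4

/-!
helper27: the filtration on hypercohomology induced by the Čech-to-hypercohomology spectral sequence.
-/

set_option autoImplicit false
set_option linter.unusedSectionVars false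

namespace Groth.Agent.Lib.helper27.CechHyp

open CategoryTheory Limits Opposite DerivedCategory TopologicalSpace
open Groth.Agent.Lib.helper7.FreeYoneda

section algebra

universe w

variable {R : Type*} [CommRing R]

/-- transport of a subquotient of submodules along a linear equivalence -/
noncomputable def grEquiv {H H' : Type w} [AddCommGroup H] [Module R H] [AddCommGroup H'] [Module R H']
    (e : H ≃ₗ[R] H') (F F' : Submodule R H) :
    (↥F ⧸ Submodule.comap F.subtype F') ≃ₗ[R]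
      (↥(F.map (e : H →ₗ[R] H')) ⧸ Submodule.comap (F.map (e : H →ₗ[R] H')).subtype
        (F'.map (e : H →ₗ[R] H'))) :=
  Submodule.Quotient.equiv _ _ (e.submoduleMap F) (by
    ext ⟨y, hy⟩
    constructor
    · rintro ⟨x, hx, hxy⟩
      refine ⟨x.1, hx, ?_⟩
      exact congrArg Subtype.val hxy
    · rintro ⟨x', hx', hxy⟩
      obtain ⟨x'', hx'', hxy'⟩ := hy
      have : x'' = x' := e.injective (hxy'.trans hxy.symm)
      subst this
      exact ⟨⟨x'', hx''⟩, hx', Subtype.ext hxy⟩)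

theorem isSubquotient_congr {N N' T T' : Type w} [AddCommGroup N] [Module R N] [AddCommGroup N']
    [Module R N'] [AddCommGroup T] [Module R T] [AddCommGroup T'] [Module R T']
    (eN : N ≃ₗ[R] N') (eT : T ≃ₗ[R] T') (h : HTor.IsSubquotient R N T) :
    HTor.IsSubquotient R N' T' := by
  obtain ⟨S, S', hle, ⟨φ⟩⟩ := h
  exact ⟨S.map (eT : T →ₗ[R] T'), S'.map (eT : T →ₗ[R] T'), Submodule.map_mono hle,
    ⟨eN.symm ≪≫ₗ φ ≪≫ₗ grEquiv eT S' S⟩⟩

end algebra

section main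

universe u

variable {X : TopCat.{u}} [HasDerivedCategory.{u} (CohTop.Ab X)] {ι : Type u} (U : ι → Opens X)

theorem main (hcov : iSup U = ⊤)
    (K : CochainComplex (CohTop.Ab X) ℤ) (a : ℤ) (ha : ∀ i : ℤ, i < a → IsZero (K.X i)) (n : ℤ) :
    ∃ (N : ℕ) (G : ℕ → Submodule ℤ (CohCx.HDU (DerivedCategory.Q.obj K) n (⊤ : Opens X))),
      Antitone G ∧ G 0 = ⊤ ∧ G N = ⊥ ∧
      G 1 = ⨅ i, AddSubgroup.toIntSubmodule
        (CohCx.HDUres (DerivedCategory.Q.obj K) n (homOfLE le_top : U i ⟶ (⊤ : Opens X))).ker ∧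
      ∀ p : ℕ, HTor.IsSubquotient ℤ (HTor.grDesc G p)
        (CohB1.cechHTop U (CohCx.HDUPresheaf (DerivedCategory.Q.obj K) (n - p)) p) := by
  letI : HasDerivedCategory.{u} (PA (Opens X)) := PshDer.derPA
  let J := Opens.grothendieckTopology X
  obtain ⟨RG, adj, hRG⟩ := PshDer.exists_RG (SieveExt.adj J) (PshDer.hKinj J)
  let t : Triangulated.TStructure (DerivedCategory (PA (Opens X))) := TStructure.t
  let M := DerivedCategory.Q.obj K
  have hK : K.IsStrictlyGE a := by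
    rw [CochainComplex.isStrictlyGE_iff]
    exact ha
  have hZ : (RG.obj M).IsGE a := PshDer.isGE_RG (G₀ := SieveExt.ι J) RG hRG K a
  let Y : DerivedCategory (PA (Opens X)) := (shiftFunctor _ n).obj (RG.obj M)
  have hY : t.IsGE Y (a - n) := t.isGE_shift (RG.obj M) a n (a - n) (by lia)
  let R := RU U
  have hR : R ∈ J ⊤ := RU_mem U hcov
  let P := PR R
  have hP : t.IsLE P 0 := by
    change ((singleFunctor (PA (Opens X)) 0).obj (SieveExt.ZR R)).IsLE 0
    infer_instance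
  let Θ' : (P ⟶ Y) ≃+ CohCx.HDU M n (⊤ : Opens X) := Θ J adj R hR M n
  let ΘL : (P ⟶ Y) ≃ₗ[ℤ] CohCx.HDU M n (⊤ : Opens X) := Θ'.toIntLinearEquiv
  let G : ℕ → Submodule ℤ (CohCx.HDU M n (⊤ : Opens X)) := fun p =>
    (TFilt.Fil t P Y (-(p : ℤ))).map (ΘL : (P ⟶ Y) →ₗ[ℤ] CohCx.HDU M n (⊤ : Opens X))
  refine ⟨(n - a + 1).toNat, G, ?_, ?_, ?_, ?_, ?_⟩
  · intro p p' hpp'
    exact Submodule.map_mono (TFilt.Fil_mono t P Y (by lia))
  · change (TFilt.Fil t P Y (-((0 : ℕ) : ℤ))).map _ = ⊤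
    rw [TFilt.Fil_eq_top t P Y _ (by simp), Submodule.map_top, LinearMap.range_eq_top]
    exact ΘL.surjective
  · change (TFilt.Fil t P Y _).map _ = ⊥
    rw [TFilt.Fil_eq_bot t P Y (a - n) _ (by lia), Submodule.map_bot]
  · ext x
    have hx : x ∈ G 1 ↔ Θ'.symm x ∈ TFilt.Fil t P Y (-1) := by
      constructor
      · rintro ⟨c, hc, rfl⟩
        have hc' : c ∈ TFilt.Fil t P Y (-1) := by simpa using hc
        convert hc'
        exact Θ'.symm_apply_apply c
      · intro h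
        exact ⟨Θ'.symm x, h, Θ'.apply_symm_apply x⟩
    rw [hx]
    rw [TFilt.Fil_eq_ker t P Y (-1) 0 (by norm_num), LinearMap.mem_ker, TFilt.post_apply,
      Submodule.mem_iInf]
    exact ker_iff J adj U (gU U) hR M n x
  · intro p
    obtain ⟨S, S', hle, ⟨φ⟩⟩ :=
      TFilt.subquotient t P Y (-(p : ℤ)) (-((p + 1 : ℕ) : ℤ)) (by push_cast; ring)
    have h0 : HTor.IsSubquotient ℤ
        (↥(TFilt.Fil t P Y (-(p : ℤ))) ⧸ Submodule.comap (TFilt.Fil t P Y (-(p : ℤ))).subtype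
          (TFilt.Fil t P Y (-((p + 1 : ℕ) : ℤ))))
        (P ⟶ (t.truncGE (-(p : ℤ))).obj ((t.truncLE (-(p : ℤ))).obj Y)) := ⟨S, S', hle, ⟨φ⟩⟩
    obtain ⟨i1⟩ := TPiece.piece_iso Y (-(p : ℤ))
    obtain ⟨e2⟩ := e2_iso U (CohCx.HD Y (-(p : ℤ))) p
    obtain ⟨i3⟩ := nonempty_HD_shift_iso J adj M n (-(p : ℤ)) (n - p) (by ring)
    let i4 : ((cechComplexFunctor U).obj (CohCx.HD Y (-(p : ℤ))).obj).homology p ≅
        CohB1.cechHTop U (CohCx.HDUPresheaf M (n - p)) p :=
      (HomologicalComplex.homologyFunctor _ _ p).mapIso ((cechComplexFunctor U).mapIso i3)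
    let eT : (P ⟶ (t.truncGE (-(p : ℤ))).obj ((t.truncLE (-(p : ℤ))).obj Y)) ≃+
        ↑(CohB1.cechHTop U (CohCx.HDUPresheaf M (n - p)) p) :=
      ((postAddEquiv P i1).trans e2).trans i4.addCommGroupIsoToAddEquiv
    exact isSubquotient_congr
      (grEquiv ΘL (TFilt.Fil t P Y (-(p : ℤ))) (TFilt.Fil t P Y (-((p + 1 : ℕ) : ℤ))))
      eT.toIntLinearEquiv h0

end main

end Groth.Agent.Lib.helper27.CechHyp
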