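import Mathlib
import Groth.Agent.Lib.Helper27.CechContract

set_option autoImplicit false
set_option linter.unusedVariables false
set_option linter.unusedSectionVars false
set_option backward.isDefEq.respectTransparency false

/-!
helper27: local contraction of the Cech complex of a presheaf `Q` on a thin category with finite
products for a family `U`, when `Q(T) ⟶ Q(T ⨯ U i)` is an isomorphism for all `T`
(e.g. `Q(T) = F(T ∩ V)` with `V ≤ U i`).  Only exactness in positive degrees is recorded.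
-/

namespace Groth.Agent.Lib.helper27

open CategoryTheory Limits Opposite

universe u

namespace Cech

variable {D : Type u} [SmallCategory D] [HasFiniteProducts D] [Quiver.IsThin D] {ι : Type u}
  (U : ι → D) (Q : Dᵒᵖ ⥤ AddCommGrpCat.{u}) (i : ι)
  (hQ : ∀ T : D, IsIso (Q.map (prod.fst : T ⨯ U i ⟶ T).op))

/-- the extra section over `T ⨯ U i` -/
noncomputable abbrev σL (T : D) : Sec U (T ⨯ U i) := ⟨i, prod.snd⟩

/-- the local contracting homotopy on families -/
noncomputable def hFamL (n : ℕ) (c : Fam U Q (n + 1)) : Fam U Q n :=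
  fun T t => haveI := hQ T
    (inv (Q.map (prod.fst : T ⨯ U i ⟶ T).op)) (c (T ⨯ U i) (Fin.cons (σL U i T) (pull U prod.fst t)))

lemma map_hFamL (n : ℕ) (c : Fam U Q (n + 1)) (T : D) (t : Fin (n + 1) → Sec U T) :
    Q.map (prod.fst : T ⨯ U i ⟶ T).op (hFamL U Q i hQ n c T t) =
      c (T ⨯ U i) (Fin.cons (σL U i T) (pull U prod.fst t)) := by
  haveI := hQ T
  simp only [hFamL]
  rw [← ConcreteCategory.comp_apply, IsIso.inv_hom_id]
  rfl

include hQ in
lemma map_fst_injective (T : D) : Function.Injective (Q.map (prod.fst : T ⨯ U i ⟶ T).op) := by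
  haveI := hQ T
  intro a b h
  have := congrArg (inv (Q.map (prod.fst : T ⨯ U i ⟶ T).op)) h
  rwa [← ConcreteCategory.comp_apply, ← ConcreteCategory.comp_apply, IsIso.hom_inv_id] at this

lemma isNat_hFamL (n : ℕ) (c : Fam U Q (n + 1)) (hc : IsNat U Q c) :
    IsNat U Q (hFamL U Q i hQ n c) := by
  intro T T' h t
  apply map_fst_injective U Q i hQ T'
  rw [map_hFamL]
  -- the map `T' ⨯ U i ⟶ T ⨯ U i`
  let g : T' ⨯ U i ⟶ T ⨯ U i := prod.map h (𝟙 _)
  have e1 : (prod.fst : T' ⨯ U i ⟶ T') ≫ h = g ≫ prod.fst := Subsingleton.elim _ _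
  rw [← ConcreteCategory.comp_apply, ← Q.map_comp, ← op_comp, e1, op_comp, Q.map_comp,
    ConcreteCategory.comp_apply, map_hFamL, hc _ _ g]
  congr 1
  funext k
  refine Fin.cases ?_ (fun k' => ?_) k
  · exact sec_ext U _ _ rfl
  · exact sec_ext U _ _ rfl

lemma homotopy_FamL (n : ℕ) (c : Fam U Q (n + 1)) (hc : IsNat U Q c) :
    dFam U Q n (hFamL U Q i hQ n c) + hFamL U Q i hQ (n + 1) (dFam U Q (n + 1) c) = c := by
  funext T t
  apply map_fst_injective U Q i hQ T
  simp only [Pi.add_apply]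
  rw [map_add, map_hFamL]
  simp only [dFam]
  rw [map_sum]
  simp only [map_zsmul, map_hFamL]
  rw [Fin.sum_univ_succ (n := n + 2)]
  simp only [cons_comp_succAbove_zero, cons_comp_succAbove_succ, Fin.val_zero, pow_zero, one_smul,
    Fin.val_succ, pow_succ, mul_neg, mul_one, neg_smul, Finset.sum_neg_distrib]
  have e : ∀ k : Fin (n + 2), pull U (prod.fst : T ⨯ U i ⟶ T) (t ∘ Fin.succAbove k) =
      (pull U (prod.fst : T ⨯ U i ⟶ T) t) ∘ Fin.succAbove k := fun k => rfl
  simp only [e]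
  rw [hc _ _ (prod.fst : T ⨯ U i ⟶ T) t]
  abel

include hQ in
/-- exactness of the Cech complex in positive degrees -/
theorem exists_d'_eq (n : ℕ) (x : (∏ᶜ Z U Q (n + 1) : AddCommGrpCat.{u}))
    (hx : d' U Q (n + 1) x = 0) : ∃ y : (∏ᶜ Z U Q n : AddCommGrpCat.{u}), d' U Q n y = x := by
  have hc := ΦQ_isNat U Q (n + 1) x
  refine ⟨ΨQ U Q n (hFamL U Q i hQ n (ΦQ U Q (n + 1) x)), ?_⟩
  apply ΦQ_injective
  rw [ΦQ_d', ΦQ_ΨQ _ _ _ _ (isNat_hFamL U Q i hQ n _ hc)]
  have h := homotopy_FamL U Q i hQ n _ hc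
  have h0 : dFam U Q (n + 1) (ΦQ U Q (n + 1) x) = 0 := by
    rw [← ΦQ_d', hx, map_zero]
  rw [h0] at h
  have hz : hFamL U Q i hQ (n + 1) (0 : Fam U Q (n + 2)) = 0 := by
    funext T t
    simp only [hFamL, Pi.zero_apply, map_zero]
  rw [hz, add_zero] at h
  exact h

end Cech

end Groth.Agent.Lib.helper27
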