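import Mathlib
import Groth.Agent.Lib.Helper27.CechLoc1

set_option autoImplicit false
set_option linter.unusedVariables false
set_option linter.unusedSectionVars false
set_option backward.isDefEq.respectTransparency false

/-!
helper27: degree zero of the local contraction of `CechLoc1`: an augmentation `A ⟶ Q` (a cone)
which is bijective at `U i`.
-/

namespace Groth.Agent.Lib.helper27

open CategoryTheory Limits Opposite

universe u

namespace Cech

variable {D : Type u} [SmallCategory D] [HasFiniteProducts D] [Quiver.IsThin D] {ι : Type u}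
  (U : ι → D) (Q : Dᵒᵖ ⥤ AddCommGrpCat.{u}) (i : ι)
  (A : AddCommGrpCat.{u}) (e : (Functor.const Dᵒᵖ).obj A ⟶ Q)

/-- the augmentation into the degree zero part of the Cech complex -/
noncomputable def εA : A ⟶ (∏ᶜ Z U Q 0 : AddCommGrpCat.{u}) :=
  Pi.lift (fun a => e.app (op (∏ᶜ (U ∘ a))))

lemma e_nat {T T' : D} (h : T' ⟶ T) (y : A) : Q.map h.op (e.app (op T) y) = e.app (op T') y := by
  have := e.naturality h.op
  have h2 := ConcreteCategory.congr_hom this y
  simp only [Functor.const_obj_obj, Functor.const_obj_map, ConcreteCategory.comp_apply] at h2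
  exact h2.symm

lemma ΦQ_εA (y : A) (T : D) (t : Fin 1 → Sec U T) :
    ΦQ U Q 0 (εA U Q A e y) T t = e.app (op T) y := by
  rw [ΦQ_apply]
  have h : εA U Q A e ≫ Pi.π (Z U Q 0) (idx U t) = _ := Pi.lift_π _ _
  have h2 := ConcreteCategory.congr_hom h y
  rw [ConcreteCategory.comp_apply] at h2
  rw [h2]
  exact e_nat Q A e (tup U t) y

lemma d'_εA (y : A) : d' U Q 0 (εA U Q A e y) = 0 := by
  apply ΦQ_injective
  rw [ΦQ_d', map_zero]
  funext T t
  simp only [dFam]
  rw [Fin.sum_univ_two, ΦQ_εA, ΦQ_εA]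
  simp

variable (he : Function.Bijective (e.app (op (U i))))

include he in
lemma εA_injective : Function.Injective (εA U Q A e) := by
  intro y y' h
  apply he.1
  have h1 := ΦQ_εA U Q A e y (U i) (fun _ => ⟨i, 𝟙 _⟩)
  have h2 := ΦQ_εA U Q A e y' (U i) (fun _ => ⟨i, 𝟙 _⟩)
  rw [← h1, ← h2, h]

variable (hQ : ∀ T : D, IsIso (Q.map (prod.fst : T ⨯ U i ⟶ T).op))

include he hQ in
theorem exists_εA_eq (x : (∏ᶜ Z U Q 0 : AddCommGrpCat.{u})) (hx : d' U Q 0 x = 0) :
    ∃ y : A, εA U Q A e y = x := by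
  have hc := ΦQ_isNat U Q 0 x
  have h0 : dFam U Q 0 (ΦQ U Q 0 x) = 0 := by rw [← ΦQ_d', hx, map_zero]
  -- independence of the section
  have hind : ∀ (T : D) (t t' : Fin 1 → Sec U T), ΦQ U Q 0 x T t = ΦQ U Q 0 x T t' := by
    intro T t t'
    have := congrFun (congrFun h0 T) (Fin.cons (t' 0) t)
    simp only [dFam, Pi.zero_apply] at this
    rw [Fin.sum_univ_two] at this
    simp only [Fin.val_zero, pow_zero, one_smul, Fin.val_one, pow_one, neg_smul] at this
    have e0 : (Fin.cons (t' 0) t : Fin 2 → Sec U T) ∘ Fin.succAbove (0 : Fin 2) = t :=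
      cons_comp_succAbove_zero _ _
    have e1 : (Fin.cons (t' 0) t : Fin 2 → Sec U T) ∘ Fin.succAbove (1 : Fin 2) = t' := by
      funext k
      fin_cases k
      rfl
    rw [e0, e1] at this
    exact sub_eq_zero.mp (by rw [sub_eq_add_neg]; exact this)
  obtain ⟨y, hy⟩ := he.2 (ΦQ U Q 0 x (U i) (fun _ => ⟨i, 𝟙 _⟩))
  refine ⟨y, ?_⟩
  apply ΦQ_injective
  funext T t
  rw [ΦQ_εA]
  apply map_fst_injective U Q i hQ T
  rw [e_nat, hc _ _ (prod.fst : T ⨯ U i ⟶ T) t,
    hind _ (pull U prod.fst t) (pull U (prod.snd : T ⨯ U i ⟶ U i) (fun _ => ⟨i, 𝟙 _⟩)),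
    ← hc _ _ (prod.snd : T ⨯ U i ⟶ U i), ← hy, e_nat]

end Cech

end Groth.Agent.Lib.helper27
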