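import Mathlib

/-!
helper27: transfer of Čech complexes along a functor preserving finite products (general universes).
-/

set_option autoImplicit false
set_option linter.unusedSectionVars false
set_option linter.style.haveILetI false

namespace Groth.Agent.Lib.helper27.CechTransfer

open CategoryTheory Limits Opposite

universe v₁ u₁ v₂ u₂ w

section iso

variable {D₁ : Type u₁} [Category.{v₁} D₁] [HasFiniteProducts D₁]
  {D₂ : Type u₂} [Category.{v₂} D₂] [HasFiniteProducts D₂]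
  {ι : Type w} (U₁ : ι → D₁) (U₂ : ι → D₂)
  (Q₁ : D₁ᵒᵖ ⥤ AddCommGrpCat.{w}) (Q₂ : D₂ᵒᵖ ⥤ AddCommGrpCat.{w})

/-- the face projection `U_b ⟶ U_{b ∘ δ^i}` -/
noncomputable abbrev face {D : Type*} [Category D] [HasFiniteProducts D] (U : ι → D)
    {n : ℕ} (b : Fin (n + 2) → ι) (i : Fin (n + 2)) :
    ∏ᶜ (U ∘ b) ⟶ ∏ᶜ (U ∘ b ∘ Fin.succAbove i) :=
  Pi.lift (fun k => Pi.π (U ∘ b) (Fin.succAbove i k))

/-- the terms -/
noncomputable abbrev Z {D : Type*} [Category D] [HasFiniteProducts D] (U : ι → D)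
    (Q : Dᵒᵖ ⥤ AddCommGrpCat.{w}) (n : ℕ) : (Fin (n + 1) → ι) → AddCommGrpCat.{w} :=
  fun a => Q.obj (op (∏ᶜ (U ∘ a)))

/-- coface maps -/
noncomputable def δ' {D : Type*} [Category D] [HasFiniteProducts D] (U : ι → D)
    (Q : Dᵒᵖ ⥤ AddCommGrpCat.{w}) (n : ℕ) (i : Fin (n + 2)) :
    (∏ᶜ Z U Q n : AddCommGrpCat.{w}) ⟶ ∏ᶜ Z U Q (n + 1) :=
  Pi.lift (fun (b : Fin (n + 2) → ι) =>
      Pi.π (Z U Q n) (b ∘ Fin.succAbove i) ≫ Q.map (face U b i).op)

/-- the Čech differential, retyped -/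
noncomputable def d' {D : Type*} [Category D] [HasFiniteProducts D] (U : ι → D)
    (Q : Dᵒᵖ ⥤ AddCommGrpCat.{w}) (n : ℕ) :
    (∏ᶜ Z U Q n : AddCommGrpCat.{w}) ⟶ ∏ᶜ Z U Q (n + 1) :=
  ((cechComplexFunctor U).obj Q).d n (n + 1)

lemma d_eq {D : Type*} [Category D] [HasFiniteProducts D] (U : ι → D)
    (Q : Dᵒᵖ ⥤ AddCommGrpCat.{w}) (n : ℕ) :
    d' U Q n =
      ∑ i : Fin (n + 2), (-1 : ℤ) ^ (i : ℕ) • δ' U Q n i :=
  CochainComplex.of_d (fun n => ((FormalCoproduct.cosimplicialObjectFunctor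
    (FormalCoproduct.mk _ U).cech).obj Q).obj (SimplexCategory.mk n))
    (AlgebraicTopology.AlternatingCofaceMapComplex.objD
      ((FormalCoproduct.cosimplicialObjectFunctor (FormalCoproduct.mk _ U).cech).obj Q)) n


/-- Isomorphism of Čech complexes from termwise isomorphisms compatible with the faces. -/
noncomputable def cechIso
    (e : ∀ (n : ℕ) (a : Fin (n + 1) → ι), Z U₁ Q₁ n a ≅ Z U₂ Q₂ n a)
    (he : ∀ (n : ℕ) (b : Fin (n + 2) → ι) (i : Fin (n + 2)),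
      Q₁.map (face U₁ b i).op ≫ (e (n + 1) b).hom =
        (e n (b ∘ Fin.succAbove i)).hom ≫ Q₂.map (face U₂ b i).op) :
    (cechComplexFunctor U₁).obj Q₁ ≅ (cechComplexFunctor U₂).obj Q₂ := by
  let E : ∀ n, (∏ᶜ Z U₁ Q₁ n : AddCommGrpCat.{w}) ⟶ ∏ᶜ Z U₂ Q₂ n :=
    fun n => Limits.Pi.map (fun a => (e n a).hom)
  let E' : ∀ n, (∏ᶜ Z U₂ Q₂ n : AddCommGrpCat.{w}) ⟶ ∏ᶜ Z U₁ Q₁ n :=
    fun n => Limits.Pi.map (fun a => (e n a).inv)
  have h1 : ∀ n, E n ≫ E' n = 𝟙 _ := by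
    intro n
    apply Limits.Pi.hom_ext
    intro a
    simp only [E, E', Category.assoc, Limits.Pi.map_π, Limits.Pi.map_π_assoc, Iso.hom_inv_id,
      Category.comp_id, Category.id_comp]
  have h2 : ∀ n, E' n ≫ E n = 𝟙 _ := by
    intro n
    apply Limits.Pi.hom_ext
    intro a
    simp only [E, E', Category.assoc, Limits.Pi.map_π, Limits.Pi.map_π_assoc, Iso.inv_hom_id,
      Category.comp_id, Category.id_comp]
  have hδ : ∀ n (i : Fin (n + 2)),
      δ' U₁ Q₁ n i ≫ E (n + 1) = E n ≫ δ' U₂ Q₂ n i := by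
    intro n i
    apply Limits.Pi.hom_ext
    intro b
    simp only [E, δ', Category.assoc, Limits.Pi.map_π, Limits.Pi.lift_π,
      Limits.Pi.lift_π_assoc, Limits.Pi.map_π_assoc]
    rw [he]
  have hd : ∀ n, d' U₁ Q₁ n ≫ E (n + 1) = E n ≫ d' U₂ Q₂ n := by
    intro n
    rw [d_eq, d_eq, Preadditive.sum_comp, Preadditive.comp_sum]
    refine Finset.sum_congr rfl (fun i _ => ?_)
    rw [Preadditive.zsmul_comp, Preadditive.comp_zsmul, hδ]
  refine HomologicalComplex.Hom.isoOfComponents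
    (fun n => (⟨E n, E' n, h1 n, h2 n⟩ :
      ((cechComplexFunctor U₁).obj Q₁).X n ≅ ((cechComplexFunctor U₂).obj Q₂).X n)) ?_
  intro i j hij
  obtain rfl : i + 1 = j := hij
  exact (hd i).symm

/-- transfer along a functor preserving finite products -/
noncomputable def cechIsoOfPreserves (Φ : D₁ ⥤ D₂) [PreservesFiniteProducts Φ] :
    (cechComplexFunctor U₁).obj (Φ.op ⋙ Q₂) ≅
      (cechComplexFunctor (fun i => Φ.obj (U₁ i))).obj Q₂ :=
  cechIso U₁ (fun i => Φ.obj (U₁ i)) (Φ.op ⋙ Q₂) Q₂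
    (fun n a => Q₂.mapIso (PreservesProduct.iso Φ (U₁ ∘ a)).symm.op) (by
      intro n b i
      change Q₂.map _ ≫ Q₂.map _ = Q₂.map _ ≫ Q₂.map _
      rw [← Q₂.map_comp, ← Q₂.map_comp]
      congr 1
      apply Quiver.Hom.unop_inj
      change (PreservesProduct.iso Φ (U₁ ∘ b)).inv ≫ Φ.map (face U₁ b i) =
        face (fun i => Φ.obj (U₁ i)) b i ≫ (PreservesProduct.iso Φ (U₁ ∘ b ∘ Fin.succAbove i)).inv
      rw [Iso.inv_comp_eq, ← Category.assoc, Iso.eq_comp_inv]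
      apply Limits.Pi.hom_ext
      intro k
      simp only [Category.assoc, PreservesProduct.iso_hom, Pi.lift_π]
      have e1 : piComparison Φ (U₁ ∘ b ∘ i.succAbove) ≫
          Pi.π ((fun i => Φ.obj (U₁ i)) ∘ b ∘ i.succAbove) k =
          Φ.map (Pi.π (U₁ ∘ b ∘ i.succAbove) k) := piComparison_comp_π Φ _ k
      have e2 : piComparison Φ (U₁ ∘ b) ≫ Pi.π ((fun i => Φ.obj (U₁ i)) ∘ b) (i.succAbove k) =
          Φ.map (Pi.π (U₁ ∘ b) (i.succAbove k)) := piComparison_comp_π Φ _ _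
      rw [e1, e2, ← Φ.map_comp, Pi.lift_π])

end iso

end Groth.Agent.Lib.helper27.CechTransfer
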