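import Mathlib
import Groth.Agent.Lib.Helper27.CechTransfer

/-!
helper27: isomorphism between the images, under two additive functors, of two Čech complexes, built from
termwise isomorphisms compatible with the faces.
-/

set_option autoImplicit false
set_option linter.unusedSectionVars false
set_option linter.style.haveILetI false

namespace Groth.Agent.Lib.helper27.CechMapG

open CategoryTheory Limits Opposite

universe v₁ u₁ v₂ u₂ w va₁ ua₁ va₂ ua₂ vb ub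

variable {D₁ : Type u₁} [Category.{v₁} D₁] [HasFiniteProducts D₁]
  {D₂ : Type u₂} [Category.{v₂} D₂] [HasFiniteProducts D₂]
  {ι : Type w} (U₁ : ι → D₁) (U₂ : ι → D₂)
  {A₁ : Type ua₁} [Category.{va₁} A₁] [Preadditive A₁] [HasProducts.{w} A₁]
  {A₂ : Type ua₂} [Category.{va₂} A₂] [Preadditive A₂] [HasProducts.{w} A₂]
  {B : Type ub} [Category.{vb} B] [Preadditive B] [HasProducts.{w} B]
  (Q₁ : D₁ᵒᵖ ⥤ A₁) (Q₂ : D₂ᵒᵖ ⥤ A₂)
  (G₁ : A₁ ⥤ B) [G₁.Additive] (G₂ : A₂ ⥤ B) [G₂.Additive]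

open CechTransfer (face)

/-- the terms -/
noncomputable abbrev Z {D : Type*} [Category D] [HasFiniteProducts D] (U : ι → D)
    {A : Type*} [Category A] (Q : Dᵒᵖ ⥤ A) (n : ℕ) : (Fin (n + 1) → ι) → A :=
  fun a => Q.obj (op (∏ᶜ (U ∘ a)))

/-- coface maps -/
noncomputable def δ' {D : Type*} [Category D] [HasFiniteProducts D] (U : ι → D)
    {A : Type*} [Category A] [HasProducts.{w} A] (Q : Dᵒᵖ ⥤ A) (n : ℕ) (i : Fin (n + 2)) :
    (∏ᶜ Z U Q n : A) ⟶ ∏ᶜ Z U Q (n + 1) :=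
  Pi.lift (fun (b : Fin (n + 2) → ι) =>
      Pi.π (Z U Q n) (b ∘ Fin.succAbove i) ≫ Q.map (face U b i).op)

/-- the Čech differential, retyped -/
noncomputable def d' {D : Type*} [Category D] [HasFiniteProducts D] (U : ι → D)
    {A : Type*} [Category A] [Preadditive A] [HasProducts.{w} A] (Q : Dᵒᵖ ⥤ A) (n : ℕ) :
    (∏ᶜ Z U Q n : A) ⟶ ∏ᶜ Z U Q (n + 1) :=
  ((cechComplexFunctor U).obj Q).d n (n + 1)

lemma d_eq {D : Type*} [Category D] [HasFiniteProducts D] (U : ι → D)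
    {A : Type*} [Category A] [Preadditive A] [HasProducts.{w} A] (Q : Dᵒᵖ ⥤ A) (n : ℕ) :
    d' U Q n =
      ∑ i : Fin (n + 2), (-1 : ℤ) ^ (i : ℕ) • δ' U Q n i :=
  CochainComplex.of_d (fun n => ((FormalCoproduct.cosimplicialObjectFunctor
    (FormalCoproduct.mk _ U).cech).obj Q).obj (SimplexCategory.mk n))
    (AlgebraicTopology.AlternatingCofaceMapComplex.objD
      ((FormalCoproduct.cosimplicialObjectFunctor (FormalCoproduct.mk _ U).cech).obj Q)) n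

section

variable (hG₁ : ∀ n, IsIso (piComparison G₁ (Z U₁ Q₁ n)))
  (hG₂ : ∀ n, IsIso (piComparison G₂ (Z U₂ Q₂ n)))
  (e : ∀ (n : ℕ) (a : Fin (n + 1) → ι), G₁.obj (Z U₁ Q₁ n a) ≅ G₂.obj (Z U₂ Q₂ n a))
  (he : ∀ (n : ℕ) (b : Fin (n + 2) → ι) (i : Fin (n + 2)),
      G₁.map (Q₁.map (face U₁ b i).op) ≫ (e (n + 1) b).hom =
        (e n (b ∘ Fin.succAbove i)).hom ≫ G₂.map (Q₂.map (face U₂ b i).op))

/-- the termwise isomorphism -/
noncomputable def termIso (n : ℕ) : G₁.obj (∏ᶜ Z U₁ Q₁ n) ≅ G₂.obj (∏ᶜ Z U₂ Q₂ n) :=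
  haveI := hG₁ n
  haveI := hG₂ n
  asIso (piComparison G₁ (Z U₁ Q₁ n)) ≪≫ Pi.mapIso (e n) ≪≫ (asIso (piComparison G₂ (Z U₂ Q₂ n))).symm

lemma termIso_hom_comp (n : ℕ) :
    (termIso U₁ U₂ Q₁ Q₂ G₁ G₂ hG₁ hG₂ e n).hom ≫ piComparison G₂ (Z U₂ Q₂ n) =
      piComparison G₁ (Z U₁ Q₁ n) ≫ Limits.Pi.map (fun a => (e n a).hom) := by
  haveI := hG₁ n
  haveI := hG₂ n
  simp only [termIso, Iso.trans_hom, asIso_hom, Iso.symm_hom, asIso_inv, Category.assoc,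
    IsIso.inv_hom_id, Category.comp_id]
  rfl

lemma termIso_hom_π (n : ℕ) (a : Fin (n + 1) → ι) :
    (termIso U₁ U₂ Q₁ Q₂ G₁ G₂ hG₁ hG₂ e n).hom ≫ G₂.map (Pi.π (Z U₂ Q₂ n) a) =
      G₁.map (Pi.π (Z U₁ Q₁ n) a) ≫ (e n a).hom := by
  rw [← piComparison_comp_π G₂ (Z U₂ Q₂ n) a, ← Category.assoc, termIso_hom_comp,
    Category.assoc, Limits.Pi.map_π, ← Category.assoc, piComparison_comp_π]

include he in
lemma termIso_δ (n : ℕ) (i : Fin (n + 2)) :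
    G₁.map (δ' U₁ Q₁ n i) ≫ (termIso U₁ U₂ Q₁ Q₂ G₁ G₂ hG₁ hG₂ e (n + 1)).hom =
      (termIso U₁ U₂ Q₁ Q₂ G₁ G₂ hG₁ hG₂ e n).hom ≫ G₂.map (δ' U₂ Q₂ n i) := by
  haveI := hG₂ (n + 1)
  rw [← cancel_mono (piComparison G₂ (Z U₂ Q₂ (n + 1)))]
  apply Limits.Pi.hom_ext
  intro b
  simp only [Category.assoc]
  rw [piComparison_comp_π, termIso_hom_π, ← G₂.map_comp, ← G₁.map_comp_assoc]
  simp only [δ', Limits.Pi.lift_π]
  rw [G₁.map_comp, G₂.map_comp, Category.assoc, he, ← Category.assoc, ← Category.assoc,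
    termIso_hom_π]

include he in
lemma termIso_d (n : ℕ) :
    G₁.map (d' U₁ Q₁ n) ≫ (termIso U₁ U₂ Q₁ Q₂ G₁ G₂ hG₁ hG₂ e (n + 1)).hom =
      (termIso U₁ U₂ Q₁ Q₂ G₁ G₂ hG₁ hG₂ e n).hom ≫ G₂.map (d' U₂ Q₂ n) := by
  rw [d_eq, d_eq, G₁.map_sum, G₂.map_sum, Preadditive.sum_comp, Preadditive.comp_sum]
  refine Finset.sum_congr rfl (fun i _ => ?_)
  rw [G₁.map_zsmul, G₂.map_zsmul, Preadditive.zsmul_comp, Preadditive.comp_zsmul,
    termIso_δ U₁ U₂ Q₁ Q₂ G₁ G₂ hG₁ hG₂ e he]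

include he in
/-- Isomorphism of the images of Čech complexes from termwise isomorphisms compatible with the faces. -/
noncomputable def cechIsoG :
    (G₁.mapHomologicalComplex (ComplexShape.up ℕ)).obj ((cechComplexFunctor U₁).obj Q₁) ≅
      (G₂.mapHomologicalComplex (ComplexShape.up ℕ)).obj ((cechComplexFunctor U₂).obj Q₂) := by
  refine HomologicalComplex.Hom.isoOfComponents
    (fun n => termIso U₁ U₂ Q₁ Q₂ G₁ G₂ hG₁ hG₂ e n) ?_
  intro i j hij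
  obtain rfl : i + 1 = j := hij
  exact (termIso_d U₁ U₂ Q₁ Q₂ G₁ G₂ hG₁ hG₂ e he i).symm

end

end Groth.Agent.Lib.helper27.CechMapG
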