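import Mathlib
import Groth.Prelude.Def_CechOX

set_option autoImplicit false
set_option linter.unusedVariables false
set_option linter.unusedSectionVars false

/-!
helper27: geometric preliminaries for the relative Čech complex (schemes with affine diagonal).
-/

namespace Groth.Agent.Lib.helper27

universe u
open CategoryTheory Limits Opposite AlgebraicGeometry TopologicalSpace

namespace CechOXGeom

/-- a morphism from an affine scheme to a scheme with affine diagonal is affine -/
lemma isAffineHom_of_isAffine_source {W Y : Scheme.{u}} (g : W ⟶ Y) [IsAffine W]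
    [h : IsAffineHom (pullback.diagonal (terminal.from Y))] : IsAffineHom g := by
  let P : MorphismProperty Scheme.{u} := @IsAffineHom
  have : P.HasOfPostcompProperty P.diagonal := by
    rw [MorphismProperty.hasOfPostcompProperty_iff_le_diagonal]
  have h2 : IsAffineHom (g ≫ terminal.from Y) := by
    rw [terminal.comp_from]
    infer_instance
  exact MorphismProperty.of_postcomp (W := P) (W' := P.diagonal) g
    (terminal.from Y) h h2

lemma quasiSeparatedSpace_of_affineDiagonal (X : Scheme.{u})
    [IsAffineHom (pullback.diagonal (terminal.from X))] : QuasiSeparatedSpace X := by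
  rw [quasiSeparatedSpace_iff_quasiSeparated]
  exact ⟨inferInstance⟩

lemma pi_eq_iInf {X : Scheme.{u}} {J : Type u} (f : J → X.Opens) : ∏ᶜ f = ⨅ j, f j := by
  apply le_antisymm
  · exact le_iInf (fun j => leOfHom (Pi.π f j))
  · exact leOfHom (Pi.lift (fun j => homOfLE (iInf_le f j)))

lemma isAffineOpen_pi {X : Scheme.{u}} [IsAffineHom (pullback.diagonal (terminal.from X))]
    {ι : Type u} (𝒰 : ι → X.Opens) (h𝒰 : ∀ i, IsAffineOpen (𝒰 i)) {n : ℕ}
    (a : Fin (n + 1) → ι) : IsAffineOpen (∏ᶜ (𝒰 ∘ a)) := by
  have : ∏ᶜ (𝒰 ∘ a) = ⨅ k : ULift.{u} (Fin (n + 1)), 𝒰 (a k.down) := by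
    apply le_antisymm
    · exact le_iInf (fun k => leOfHom (Pi.π (𝒰 ∘ a) k.down))
    · exact leOfHom (Pi.lift (fun k => homOfLE (iInf_le (fun k : ULift.{u} (Fin (n + 1)) =>
        𝒰 (a k.down)) ⟨k⟩)))
  rw [this]
  exact IsAffineOpen.iInf (fun k => h𝒰 _)

/-- the inclusion of an affine open of a scheme with affine diagonal is an affine morphism -/
lemma isAffineHom_ι {X : Scheme.{u}} [IsAffineHom (pullback.diagonal (terminal.from X))]
    (W : X.Opens) (hW : IsAffineOpen W) : IsAffineHom W.ι := by
  haveI : IsAffine (W : Scheme.{u}) := hW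
  exact isAffineHom_of_isAffine_source W.ι

lemma isAffineHom_ι_comp {X S : Scheme.{u}} (f : X ⟶ S)
    [IsAffineHom (pullback.diagonal (terminal.from S))]
    (W : X.Opens) (hW : IsAffineOpen W) : IsAffineHom (W.ι ≫ f) := by
  haveI : IsAffine (W : Scheme.{u}) := hW
  exact isAffineHom_of_isAffine_source (W.ι ≫ f)

end CechOXGeom

end Groth.Agent.Lib.helper27
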