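import Mathlib
import Groth.Prelude.Def_CechOX
import Groth.Agent.Lib.Helper27.CechLoc2

set_option autoImplicit false
set_option linter.unusedVariables false
set_option linter.unusedSectionVars false

/-!
helper27: sections of the Čech complex of sheaves `CechOX.cechSh 𝒰 F` over an open `V`:
the comparison `θ` with the Čech complex (in abelian groups) of the presheaf `T ↦ Γ(F, T ∩ V)`.
-/

namespace Groth.Agent.Lib.helper27

universe u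
open CategoryTheory Limits Opposite AlgebraicGeometry TopologicalSpace Simplicial

namespace CechOXSec

variable {X : Scheme.{u}} {ι : Type u} (𝒰 : ι → X.Opens) (F : X.Modules)

/-- the presheaf of modules `W ↦ (j_W)_*(F|_W)` -/
noncomputable abbrev PF : (X.Opens)ᵒᵖ ⥤ X.Modules := CechOX.pushRestrFam.flip.obj F

lemma cechSh_obj : (CechOX.cechSh 𝒰).obj F = (cechComplexFunctor 𝒰).obj (PF F) := rfl

/-- the factors of the degree `n` term -/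
noncomputable abbrev ZM (n : ℕ) : (Fin (n + 1) → ι) → X.Modules :=
  fun a => (PF F).obj (op (∏ᶜ (𝒰 ∘ a)))

lemma cechSh_X (n : ℕ) : ((CechOX.cechSh 𝒰).obj F).X n = ∏ᶜ ZM 𝒰 F n := rfl

/-- the underlying cosimplicial module -/
noncomputable abbrev cosimpM : CosimplicialObject X.Modules :=
  (FormalCoproduct.cosimplicialObjectFunctor (FormalCoproduct.mk _ 𝒰).cech).obj (PF F)

lemma d_eq (n : ℕ) :
    ((CechOX.cechSh 𝒰).obj F).d n (n + 1) =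
      ∑ i : Fin (n + 2), (-1 : ℤ) ^ (i : ℕ) • (cosimpM 𝒰 F).δ i :=
  CochainComplex.of_d (fun n => (cosimpM 𝒰 F).obj ⦋n⦌)
    (AlgebraicTopology.AlternatingCofaceMapComplex.objD (cosimpM 𝒰 F)) n

/-- the coface maps, retyped -/
noncomputable def δM (n : ℕ) (i : Fin (n + 2)) : (∏ᶜ ZM 𝒰 F n) ⟶ ∏ᶜ ZM 𝒰 F (n + 1) :=
  Pi.lift (fun (b : Fin (n + 2) → ι) =>
    Pi.π (ZM 𝒰 F n) (b ∘ Fin.succAbove i) ≫ (PF F).map (Cech.face 𝒰 b i).op)

lemma δ_eq (n : ℕ) (i : Fin (n + 2)) : (cosimpM 𝒰 F).δ i = δM 𝒰 F n i := rfl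

/-- the differential, retyped -/
noncomputable def dM (n : ℕ) : (∏ᶜ ZM 𝒰 F n) ⟶ ∏ᶜ ZM 𝒰 F (n + 1) :=
  ((CechOX.cechSh 𝒰).obj F).d n (n + 1)

lemma dM_eq (n : ℕ) : dM 𝒰 F n = ∑ i : Fin (n + 2), (-1 : ℤ) ^ (i : ℕ) • δM 𝒰 F n i :=
  d_eq 𝒰 F n

/-- sections over `V` -/
noncomputable abbrev ΓV (V : X.Opens) : X.Modules ⥤ AddCommGrpCat.{u} :=
  Scheme.Modules.toPresheaf X ⋙ (evaluation _ _).obj (op V)

lemma ΓV_map (V : X.Opens) {M N : X.Modules} (φ : M ⟶ N) : (ΓV V).map φ = φ.app V := rfl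

instance (V : X.Opens) : (ΓV V).Additive where
  map_add := rfl

instance (V : X.Opens) : PreservesLimits (ΓV V) := by
  have : PreservesLimits ((evaluation (Opens X)ᵒᵖ AddCommGrpCat.{u}).obj (op V)) := inferInstance
  exact comp_preservesLimits (Scheme.Modules.toPresheaf X)
    ((evaluation (Opens X)ᵒᵖ AddCommGrpCat.{u}).obj (op V))

/-- the presheaf of abelian groups `T ↦ Γ(F, T ∩ V)` -/
noncomputable abbrev QV (V : X.Opens) : (X.Opens)ᵒᵖ ⥤ AddCommGrpCat.{u} := PF F ⋙ ΓV V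

/-- the comparison of the sections of the degree `n` term with the product of the sections -/
noncomputable def θ (V : X.Opens) (n : ℕ) :
    (ΓV V).obj (∏ᶜ ZM 𝒰 F n) ⟶ (∏ᶜ Cech.Z 𝒰 (QV F V) n : AddCommGrpCat.{u}) :=
  Pi.lift (fun a => (ΓV V).map (Pi.π (ZM 𝒰 F n) a))

instance (V : X.Opens) (n : ℕ) : IsIso (θ 𝒰 F V n) :=
  inferInstanceAs (IsIso (piComparison (ΓV V) (ZM 𝒰 F n)))

lemma θ_π (V : X.Opens) (n : ℕ) (a : Fin (n + 1) → ι) :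
    θ 𝒰 F V n ≫ Pi.π (Cech.Z 𝒰 (QV F V) n) a = (ΓV V).map (Pi.π (ZM 𝒰 F n) a) :=
  Pi.lift_π _ _

lemma θ_injective (V : X.Opens) (n : ℕ) : Function.Injective (θ 𝒰 F V n) :=
  ((AddCommGrpCat.mono_iff_injective _).mp inferInstance)

lemma θ_surjective (V : X.Opens) (n : ℕ) : Function.Surjective (θ 𝒰 F V n) :=
  ((AddCommGrpCat.epi_iff_surjective _).mp inferInstance)

lemma θ_δ (V : X.Opens) (n : ℕ) (i : Fin (n + 2)) :
    (ΓV V).map (δM 𝒰 F n i) ≫ θ 𝒰 F V (n + 1) = θ 𝒰 F V n ≫ Cech.δ' 𝒰 (QV F V) n i := by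
  apply Pi.hom_ext
  intro b
  rw [Category.assoc, Category.assoc, θ_π, ← Functor.map_comp]
  have h1 : δM 𝒰 F n i ≫ Pi.π (ZM 𝒰 F (n + 1)) b =
      Pi.π (ZM 𝒰 F n) (b ∘ Fin.succAbove i) ≫ (PF F).map (Cech.face 𝒰 b i).op := Pi.lift_π _ _
  have h2 : Cech.δ' 𝒰 (QV F V) n i ≫ Pi.π (Cech.Z 𝒰 (QV F V) (n + 1)) b =
      Pi.π (Cech.Z 𝒰 (QV F V) n) (b ∘ Fin.succAbove i) ≫ (QV F V).map (Cech.face 𝒰 b i).op :=
    Pi.lift_π _ _
  rw [h1, h2, ← Category.assoc, θ_π, Functor.map_comp]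
  rfl

lemma θ_d (V : X.Opens) (n : ℕ) :
    (ΓV V).map (dM 𝒰 F n) ≫ θ 𝒰 F V (n + 1) = θ 𝒰 F V n ≫ Cech.d' 𝒰 (QV F V) n := by
  rw [dM_eq, Cech.d'_eq, Functor.map_sum, Preadditive.sum_comp, Preadditive.comp_sum]
  refine Finset.sum_congr rfl (fun i _ => ?_)
  rw [Functor.map_zsmul, Preadditive.zsmul_comp, Preadditive.comp_zsmul, θ_δ]

lemma θ_d_apply (V : X.Opens) (n : ℕ) (s : (ΓV V).obj (∏ᶜ ZM 𝒰 F n)) :
    θ 𝒰 F V (n + 1) ((ΓV V).map (dM 𝒰 F n) s) = Cech.d' 𝒰 (QV F V) n (θ 𝒰 F V n s) := by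
  have := ConcreteCategory.congr_hom (θ_d 𝒰 F V n) s
  simpa only [ConcreteCategory.comp_apply] using this

end CechOXSec

end Groth.Agent.Lib.helper27
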