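import Mathlib
import Groth.Prelude.Def_CechOX
import Groth.Agent.Lib.Helper27.CechOXSec1

set_option autoImplicit false
set_option linter.unusedVariables false
set_option linter.unusedSectionVars false

/-!
helper27: sections of the Čech complex of sheaves `CechOX.cechSh 𝒰 F` over opens `V ≤ 𝒰 i`:
exactness, and the augmentation.
-/

namespace Groth.Agent.Lib.helper27

universe u
open CategoryTheory Limits Opposite AlgebraicGeometry TopologicalSpace Simplicial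

namespace CechOXSec

variable {X : Scheme.{u}} {ι : Type u} (𝒰 : ι → X.Opens) (F : X.Modules)

lemma isIso_presheaf_map_of_eq (P : TopCat.Presheaf Ab X) {A B : X.Opens} (h : A ≤ B)
    (e : A = B) : IsIso (P.map (homOfLE h).op) := by
  subst e
  have : homOfLE h = 𝟙 A := rfl
  rw [this, op_id, P.map_id]
  infer_instance

lemma image_preimage_eq_inf (W V : X.Opens) : W.ι ''ᵁ (W.ι ⁻¹ᵁ V) = W ⊓ V := by
  rw [Scheme.Hom.image_preimage_eq_opensRange_inf, Scheme.Opens.opensRange_ι]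

/-- the unit maps `F ⟶ (j_T)_*(F|_T)` -/
noncomputable abbrev unitT (T : X.Opens) : F ⟶ (PF F).obj (op T) :=
  (Scheme.Modules.restrictAdjunction T.ι).unit.app F

lemma unitT_app (T V : X.Opens) :
    (unitT F T).app V = F.presheaf.map (homOfLE (T.ι.image_preimage_le V)).op := rfl

lemma PF_map_app {T T' : X.Opens} (h : T' ⟶ T) (V : X.Opens) :
    ((PF F).map h.op).app V =
      F.presheaf.map (homOfLE (CechOX.image_preimage_mono (leOfHom h) V)).op := rfl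

lemma unitT_map {T T' : X.Opens} (h : T' ⟶ T) : unitT F T ≫ (PF F).map h.op = unitT F T' := by
  apply Scheme.Modules.hom_ext
  intro W
  show F.presheaf.map (homOfLE (T.ι.image_preimage_le W)).op ≫
    F.presheaf.map (homOfLE (CechOX.image_preimage_mono (leOfHom h) W)).op =
      F.presheaf.map (homOfLE (T'.ι.image_preimage_le W)).op
  rw [← F.presheaf.map_comp]
  rfl

/-- the augmentation cone `Γ(F, V) ⟶ Γ(F, T ∩ V)` -/
noncomputable def eV (V : X.Opens) :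
    (Functor.const (X.Opens)ᵒᵖ).obj ((ΓV V).obj F) ⟶ QV F V where
  app T := (ΓV V).map (unitT F T.unop)
  naturality T T' g := by
    have h := unitT_map F g.unop
    show 𝟙 _ ≫ (ΓV V).map (unitT F T'.unop) =
      (ΓV V).map (unitT F T.unop) ≫ (ΓV V).map ((PF F).map g.unop.op)
    rw [Category.id_comp, ← Functor.map_comp, h]

/-- the coaugmentation, retyped -/
noncomputable def augM : F ⟶ ∏ᶜ ZM 𝒰 F 0 := CechOX.cechShAug 𝒰 F

lemma augM_π (a : Fin 1 → ι) : augM 𝒰 F ≫ Pi.π (ZM 𝒰 F 0) a = unitT F (∏ᶜ (𝒰 ∘ a)) :=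
  Pi.lift_π _ _

lemma aug_θ (V : X.Opens) :
    (ΓV V).map (augM 𝒰 F) ≫ θ 𝒰 F V 0 = Cech.εA 𝒰 (QV F V) _ (eV F V) := by
  apply Pi.hom_ext
  intro a
  have h2 : Cech.εA 𝒰 (QV F V) _ (eV F V) ≫ Pi.π (Cech.Z 𝒰 (QV F V) 0) a =
      (eV F V).app (op (∏ᶜ (𝒰 ∘ a))) := Pi.lift_π _ _
  calc ((ΓV V).map (augM 𝒰 F) ≫ θ 𝒰 F V 0) ≫ Pi.π (Cech.Z 𝒰 (QV F V) 0) a
      = (ΓV V).map (augM 𝒰 F) ≫ (θ 𝒰 F V 0 ≫ Pi.π (Cech.Z 𝒰 (QV F V) 0) a) :=
        Category.assoc _ _ _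
    _ = (ΓV V).map (augM 𝒰 F) ≫ (ΓV V).map (Pi.π (ZM 𝒰 F 0) a) := by rw [θ_π]
    _ = (ΓV V).map (augM 𝒰 F ≫ Pi.π (ZM 𝒰 F 0) a) := ((ΓV V).map_comp _ _).symm
    _ = (ΓV V).map (unitT F (∏ᶜ (𝒰 ∘ a))) := by rw [augM_π]
    _ = _ := h2.symm

lemma aug_θ_apply (V : X.Opens) (t : (ΓV V).obj F) :
    θ 𝒰 F V 0 ((ΓV V).map (augM 𝒰 F) t) = Cech.εA 𝒰 (QV F V) _ (eV F V) t :=
  ConcreteCategory.congr_hom (aug_θ 𝒰 F V) t

lemma εA_d' (V : X.Opens) :
    Cech.εA 𝒰 (QV F V) _ (eV F V) ≫ Cech.d' 𝒰 (QV F V) 0 = 0 := by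
  refine ConcreteCategory.hom_ext _ _ (fun t => ?_)
  exact Cech.d'_εA 𝒰 (QV F V) _ (eV F V) t

/-- the coaugmentation composed with the first differential vanishes -/
theorem augM_dM : augM 𝒰 F ≫ dM 𝒰 F 0 = 0 := by
  apply Scheme.Modules.hom_ext
  intro V
  show (ΓV V).map (augM 𝒰 F ≫ dM 𝒰 F 0) = 0
  rw [← cancel_mono (θ 𝒰 F V 1), zero_comp, Functor.map_comp, Category.assoc, θ_d,
    ← Category.assoc, aug_θ, εA_d']

section loc

variable (i : ι) (V : X.Opens) (hV : V ≤ 𝒰 i)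

include hV in
lemma hQ (T : X.Opens) : IsIso ((QV F V).map (prod.fst : T ⨯ 𝒰 i ⟶ T).op) := by
  show IsIso (F.presheaf.map (homOfLE (CechOX.image_preimage_mono
    (leOfHom (prod.fst : T ⨯ 𝒰 i ⟶ T)) V)).op)
  apply isIso_presheaf_map_of_eq
  rw [image_preimage_eq_inf, image_preimage_eq_inf]
  apply le_antisymm
  · exact inf_le_inf_right V (leOfHom (prod.fst : T ⨯ 𝒰 i ⟶ T))
  · refine le_inf ?_ inf_le_right
    exact leOfHom (prod.lift (homOfLE inf_le_left) (homOfLE (inf_le_right.trans hV)) :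
      T ⊓ V ⟶ T ⨯ 𝒰 i)

include hV in
lemma he : Function.Bijective ((eV F V).app (op (𝒰 i))) := by
  have : IsIso (F.presheaf.map (homOfLE ((𝒰 i).ι.image_preimage_le V)).op) := by
    apply isIso_presheaf_map_of_eq
    rw [image_preimage_eq_inf]
    exact inf_eq_right.mpr hV
  exact ConcreteCategory.bijective_of_isIso
    (F.presheaf.map (homOfLE ((𝒰 i).ι.image_preimage_le V)).op)

include hV in
/-- exactness of the sections over `V ≤ 𝒰 i` in positive degrees -/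
theorem exists_d_eq (n : ℕ) (s : (ΓV V).obj (∏ᶜ ZM 𝒰 F (n + 1)))
    (hs : (ΓV V).map (dM 𝒰 F (n + 1)) s = 0) :
    ∃ t : (ΓV V).obj (∏ᶜ ZM 𝒰 F n), (ΓV V).map (dM 𝒰 F n) t = s := by
  have h1 : Cech.d' 𝒰 (QV F V) (n + 1) (θ 𝒰 F V (n + 1) s) = 0 := by
    rw [← θ_d_apply, hs, map_zero]
  obtain ⟨y, hy⟩ := Cech.exists_d'_eq 𝒰 (QV F V) i (hQ 𝒰 F i V hV) n _ h1
  obtain ⟨t, rfl⟩ := θ_surjective 𝒰 F V n y
  refine ⟨t, θ_injective 𝒰 F V (n + 1) ?_⟩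
  rw [θ_d_apply, hy]

include hV in
theorem aug_app_injective : Function.Injective ((ΓV V).map (augM 𝒰 F)) := by
  intro t t' h
  apply Cech.εA_injective 𝒰 (QV F V) i _ (eV F V) (he 𝒰 F i V hV)
  rw [← aug_θ_apply, ← aug_θ_apply, h]

include hV in
theorem exists_aug_eq (s : (ΓV V).obj (∏ᶜ ZM 𝒰 F 0)) (hs : (ΓV V).map (dM 𝒰 F 0) s = 0) :
    ∃ t : (ΓV V).obj F, (ΓV V).map (augM 𝒰 F) t = s := by
  have h1 : Cech.d' 𝒰 (QV F V) 0 (θ 𝒰 F V 0 s) = 0 := by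
    rw [← θ_d_apply, hs, map_zero]
  obtain ⟨t, ht⟩ := Cech.exists_εA_eq 𝒰 (QV F V) i _ (eV F V) (he 𝒰 F i V hV)
    (hQ 𝒰 F i V hV) _ h1
  refine ⟨t, θ_injective 𝒰 F V 0 ?_⟩
  rw [aug_θ_apply, ht]

end loc

end CechOXSec

end Groth.Agent.Lib.helper27
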