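import Mathlib
import Groth.Prelude.Def_CechOX
import Groth.Agent.Lib.Helper27.CechOXSec2
import Groth.Agent.Lib.Helper16.QCohEpi
import Groth.Agent.Lib.Helper7.KerSections

set_option autoImplicit false
set_option linter.unusedVariables false
set_option linter.unusedSectionVars false

/-!
helper27: the Čech complex of sheaves `CechOX.cechSh 𝒰 F` of a covering is a resolution of `F`.
-/

namespace Groth.Agent.Lib.helper27

universe u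
open CategoryTheory Limits Opposite AlgebraicGeometry TopologicalSpace Simplicial

namespace CechOXSec

variable {X : Scheme.{u}} {ι : Type u} (𝒰 : ι → X.Opens) (F : X.Modules)

/-- the opens contained in a member of the family -/
def 𝔅 : Set X.Opens := {V | ∃ i, V ≤ 𝒰 i}

lemma isBasis_𝔅 (h𝒰 : ⨆ i, 𝒰 i = ⊤) : Opens.IsBasis (𝔅 𝒰) := by
  rw [Opens.isBasis_iff_nbhd]
  intro U x hx
  have hx' : x ∈ (⨆ i, 𝒰 i : X.Opens) := by rw [h𝒰]; trivial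
  obtain ⟨i, hi⟩ := Opens.mem_iSup.mp hx'
  exact ⟨U ⊓ 𝒰 i, ⟨i, inf_le_right⟩, ⟨hx, hi⟩, inf_le_left⟩

variable (h𝒰 : ⨆ i, 𝒰 i = ⊤)

include h𝒰 in
theorem mono_augM : Mono (augM 𝒰 F) := by
  refine Groth.Agent.Lib.helper16.QCohEpi.mono_of_injective_on_basis _ (𝔅 𝒰) (isBasis_𝔅 𝒰 h𝒰) ?_
  rintro V ⟨i, hV⟩
  exact aug_app_injective 𝒰 F i V hV

/-- the comparison `F ⟶ ker(𝔠^0 ⟶ 𝔠^1)` -/
noncomputable def toKer : F ⟶ kernel (dM 𝒰 F 0) := kernel.lift _ (augM 𝒰 F) (augM_dM 𝒰 F)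

lemma toKer_ι : toKer 𝒰 F ≫ kernel.ι (dM 𝒰 F 0) = augM 𝒰 F := kernel.lift_ι _ _ _

include h𝒰 in
theorem isIso_toKer : IsIso (toKer 𝒰 F) := by
  have hm : Mono (toKer 𝒰 F) := by
    have : Mono (toKer 𝒰 F ≫ kernel.ι (dM 𝒰 F 0)) := by
      rw [toKer_ι]; exact mono_augM 𝒰 F h𝒰
    exact mono_of_mono (toKer 𝒰 F) (kernel.ι (dM 𝒰 F 0))
  have he : Epi (toKer 𝒰 F) := by
    refine Groth.Agent.Lib.helper16.QCohEpi.epi_of_surjective_on_basis _ (𝔅 𝒰)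
      (isBasis_𝔅 𝒰 h𝒰) ?_
    rintro V ⟨i, hV⟩ z
    have h0 := Groth.Agent.Lib.helper7.KerSections.kernel_ι_app_comp (dM 𝒰 F 0) V z
    obtain ⟨t, ht⟩ := exists_aug_eq 𝒰 F i V hV _ h0
    refine ⟨t, ?_⟩
    apply Groth.Agent.Lib.helper7.KerSections.kernel_ι_app_injective (dM 𝒰 F 0) V
    have h1 : ((toKer 𝒰 F ≫ kernel.ι (dM 𝒰 F 0)).app V).hom t = ((augM 𝒰 F).app V).hom t := by
      rw [toKer_ι]
    exact h1.trans ht
  exact isIso_of_mono_of_epi _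

include h𝒰 in
theorem exact_succ (p : ℕ) :
    (ShortComplex.mk (dM 𝒰 F p) (dM 𝒰 F (p + 1))
      (((CechOX.cechSh 𝒰).obj F).d_comp_d p (p + 1) (p + 2))).Exact := by
  rw [ShortComplex.exact_iff_epi_kernel_lift]
  refine Groth.Agent.Lib.helper16.QCohEpi.epi_of_surjective_on_basis _ (𝔅 𝒰)
    (isBasis_𝔅 𝒰 h𝒰) ?_
  rintro V ⟨i, hV⟩ z
  have h0 := Groth.Agent.Lib.helper7.KerSections.kernel_ι_app_comp (dM 𝒰 F (p + 1)) V z
  obtain ⟨t, ht⟩ := exists_d_eq 𝒰 F i V hV p _ h0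
  refine ⟨t, ?_⟩
  apply Groth.Agent.Lib.helper7.KerSections.kernel_ι_app_injective (dM 𝒰 F (p + 1)) V
  have h1 : ((kernel.lift (dM 𝒰 F (p + 1)) (dM 𝒰 F p)
      (((CechOX.cechSh 𝒰).obj F).d_comp_d p (p + 1) (p + 2)) ≫
        kernel.ι (dM 𝒰 F (p + 1))).app V).hom t = ((dM 𝒰 F p).app V).hom t := by
    rw [kernel.lift_ι]
  exact h1.trans ht

include h𝒰 in
/-- the Čech complex of sheaves of a covering is a resolution -/
theorem resolution :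
    Mono (CechOX.cechShAug 𝒰 F) ∧
    CechOX.cechShAug 𝒰 F ≫ ((CechOX.cechSh 𝒰).obj F).d 0 1 = 0 ∧
    (∀ (G : X.Modules) (g : G ⟶ ((CechOX.cechSh 𝒰).obj F).X 0),
      g ≫ ((CechOX.cechSh 𝒰).obj F).d 0 1 = 0 →
      ∃! g' : G ⟶ F, g' ≫ CechOX.cechShAug 𝒰 F = g) ∧
    ∀ p : ℕ, IsZero (((CechOX.cechSh 𝒰).obj F).homology (p + 1)) := by
  have hmono := mono_augM 𝒰 F h𝒰
  refine ⟨hmono, augM_dM 𝒰 F, ?_, ?_⟩
  · intro G g hg
    haveI := isIso_toKer 𝒰 F h𝒰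
    refine ⟨kernel.lift (dM 𝒰 F 0) g hg ≫ inv (toKer 𝒰 F), ?_, ?_⟩
    · show (kernel.lift (dM 𝒰 F 0) g hg ≫ inv (toKer 𝒰 F)) ≫ augM 𝒰 F = g
      rw [← toKer_ι, Category.assoc, IsIso.inv_hom_id_assoc, kernel.lift_ι]
    · intro g' hg'
      have : Mono (augM 𝒰 F) := hmono
      rw [← cancel_mono (augM 𝒰 F)]
      show g' ≫ CechOX.cechShAug 𝒰 F = _
      rw [hg']
      show g = (kernel.lift (dM 𝒰 F 0) g hg ≫ inv (toKer 𝒰 F)) ≫ augM 𝒰 F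
      rw [← toKer_ι, Category.assoc, IsIso.inv_hom_id_assoc, kernel.lift_ι]
  · intro p
    rw [← HomologicalComplex.exactAt_iff_isZero_homology,
      HomologicalComplex.exactAt_iff' _ p (p + 1) (p + 2) (by simp) (by simp)]
    exact exact_succ 𝒰 F h𝒰 p

end CechOXSec

end Groth.Agent.Lib.helper27
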