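import Mathlib
import Groth.Prelude.Def_RDer

set_option autoImplicit false

namespace Groth.Agent.Lib.helper27

open CategoryTheory Limits HomologicalComplex

universe v₁ v₂ v₃ u₁ u₂ u₃

namespace EdgeIn

variable {A : Type u₁} [Category.{v₁} A] [Abelian A] [HasInjectiveResolutions A]
  {B : Type u₂} [Category.{v₂} B] [Abelian B] [HasInjectiveResolutions B]
  {C : Type u₃} [Category.{v₃} C] [Abelian C]
  (Φ : A ⥤ B) [Φ.Additive] [Φ.PreservesInjectiveObjects] [PreservesFiniteLimits Φ]

set_option backward.isDefEq.respectTransparency false in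
lemma quasiIso_mapAug {X : A} (I : InjectiveResolution X)
    (h : ∀ n : ℕ, IsZero ((Φ.rightDerived (n + 1)).obj X)) :
    QuasiIso (RDer.mapAug Φ I.ι) := by
  refine ⟨fun n => ?_⟩
  cases n with
  | zero =>
    rw [CochainComplex.quasiIsoAt₀_iff, ShortComplex.quasiIso_iff_of_zeros]
    · rw [ShortComplex.exact_and_mono_f_iff_f_is_kernel]
      refine ⟨IsLimit.ofIsoLimit (KernelFork.mapIsLimit _ I.isLimitKernelFork Φ)
        (Fork.ext (Iso.refl _) ?_)⟩
      simp [HomologicalComplex.singleMapHomologicalComplex_inv_app_self]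
      exact Category.id_comp _
    · simp
    · simp
    · simp
  | succ n =>
    rw [quasiIsoAt_iff_exactAt]
    · rw [exactAt_iff_isZero_homology]
      exact (h n).of_iso (I.isoRightDerivedObj Φ (n + 1)).symm
    · exact CochainComplex.exactAt_succ_single_obj _ _

/-- `Φ I` as an injective resolution of `Φ X` when the higher derived functors of `Φ` vanish at `X`. -/
noncomputable def mapRes {X : A} (I : InjectiveResolution X)
    (h : ∀ n : ℕ, IsZero ((Φ.rightDerived (n + 1)).obj X)) : InjectiveResolution (Φ.obj X) where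
  cocomplex := (Φ.mapHomologicalComplex _).obj I.cocomplex
  injective n := Φ.injective_obj _
  ι := RDer.mapAug Φ I.ι
  quasiIso := quasiIso_mapAug Φ I h

set_option backward.isDefEq.respectTransparency false in
lemma ι_descToInjectives {Y : B} (J P : InjectiveResolution Y) :
    J.ι ≫ RDer.descToInjectives (𝟙 Y) J.cocomplex J.ι P.cocomplex P.ι = P.ι := by
  apply HomologicalComplex.from_single_hom_ext (j := 0)
  rw [HomologicalComplex.comp_f, RDer.ι_descToInjectives_f_zero, Category.id_comp]

variable (Ψ : B ⥤ C) [Ψ.Additive]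

set_option backward.isDefEq.respectTransparency false in
theorem isIso_edgeIn (q : ℕ) (X : A)
    (h : ∀ n : ℕ, IsZero ((Φ.rightDerived (n + 1)).obj X)) :
    IsIso (RDer.edgeIn Φ Ψ q X) := by
  let J := injectiveResolution (Φ.obj X)
  let P := mapRes Φ (injectiveResolution X) h
  have hd : J.ι ≫ RDer.descToInjectives (𝟙 (Φ.obj X)) J.cocomplex J.ι P.cocomplex P.ι = P.ι :=
    ι_descToInjectives J P
  have ho : Homotopy (RDer.descToInjectives (𝟙 (Φ.obj X)) J.cocomplex J.ι P.cocomplex P.ι)
      (InjectiveResolution.homotopyEquiv J P).hom :=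
    InjectiveResolution.descHomotopy (𝟙 _) _ _ (by simp [hd]) (by simp)
  have e1 := (Ψ.mapHomotopy ho).homologyMap_eq q
  have : IsIso (homologyMap ((Ψ.mapHomologicalComplex _).map
      (RDer.descToInjectives (𝟙 (Φ.obj X)) J.cocomplex J.ι P.cocomplex P.ι)) q) := by
    rw [e1]
    exact ((Ψ.mapHomotopyEquiv (InjectiveResolution.homotopyEquiv J P)).toHomologyIso q).isIso_hom
  dsimp only [RDer.edgeIn]
  have : IsIso ((HomologicalComplex.homologyFunctor C _ q).map ((Ψ.mapHomologicalComplex _).map
      (RDer.descToInjectives (𝟙 (Φ.obj X)) J.cocomplex J.ι P.cocomplex P.ι))) := this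
  exact IsIso.comp_isIso' inferInstance (IsIso.comp_isIso' this inferInstance)

end EdgeIn

end Groth.Agent.Lib.helper27
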