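import Mathlib
import Groth.Prelude.Def_CechOX
import Groth.Prelude.Def_CohBC2
import Groth.Agent.Lib.Helper27.CechOXSec3
import Groth.Agent.Lib.Helper27.CechOXGeom
import Groth.Agent.Lib.Helper27.EdgeIn
import Groth.Agent.Lib.Helper25.RpushAcyc
import Groth.Agent.Lib.Helper7.QCohProd
import Groth.Agent.Lib.Helper7.QCohPushQC

set_option autoImplicit false
set_option linter.unusedVariables false
set_option linter.unusedSectionVars false
set_option linter.style.haveILetI false

/-!
helper27: the terms of the Čech complex of sheaves for an affine covering of a scheme with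
affine diagonal are quasi-coherent and acyclic for direct images to a scheme with affine diagonal.
-/

namespace Groth.Agent.Lib.helper27

universe u
open CategoryTheory Limits Opposite AlgebraicGeometry TopologicalSpace

namespace CechOXAcyc

open CechOXSec CechOXGeom

/-- an additive functor kills a finite product of objects it kills -/
lemma isZero_map_pi {C D : Type*} [Category C] [Category D] [Preadditive C] [Preadditive D]
    (G : C ⥤ D) [G.Additive] {J : Type*} [Finite J] (g : J → C) [HasFiniteBiproducts C]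
    [HasProduct g] (h : ∀ j, IsZero (G.obj (g j))) : IsZero (G.obj (∏ᶜ g)) := by
  classical
  haveI := Fintype.ofFinite J
  have ht : ∑ j, biproduct.π g j ≫ biproduct.ι g j = 𝟙 (⨁ g) :=
    Limits.IsBilimit.total (biproduct.isBilimit g)
  have h1 : IsZero (G.obj (⨁ g)) := by
    rw [IsZero.iff_id_eq_zero, ← G.map_id, ← ht, G.map_sum]
    refine Finset.sum_eq_zero (fun j _ => ?_)
    rw [G.map_comp, (h j).eq_of_tgt (G.map (biproduct.π g j)) 0, zero_comp]
  exact h1.of_iso (G.mapIso (biproduct.isoProduct g).symm)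

variable {X S : Scheme.{u}} (f : X ⟶ S)
  [IsAffineHom (pullback.diagonal (terminal.from X))]
  [IsAffineHom (pullback.diagonal (terminal.from S))]
  (F : X.Modules) [F.IsQuasicoherent]

section one

variable (W : X.Opens) (hW : IsAffineOpen W)

include hW in
lemma qcoh_pushRestr : ((CechOX.pushRestr W).obj F).IsQuasicoherent := by
  haveI := isAffineHom_ι W hW
  exact Groth.Agent.Lib.helper7.QCohPushQC.isQuasicoherent_pushforward W.ι _

include hW in
lemma acyc_pushRestr (i : ℕ) (hi : 0 < i) :
    IsZero ((Coh.Rpush f i).obj ((CechOX.pushRestr W).obj F)) := by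
  haveI := isAffineHom_ι W hW
  haveI := isAffineHom_ι_comp f W hW
  let G : (W : Scheme.{u}).Modules := (Scheme.Modules.restrictFunctor W.ι).obj F
  have hG : G.IsQuasicoherent := inferInstance
  have h1 : ∀ n : ℕ, IsZero (((Scheme.Modules.pushforward W.ι).rightDerived (n + 1)).obj G) :=
    fun n => Groth.Agent.Lib.Helper25.RpushQC3.isZero_rpush_of_isAffineHom W.ι G hG (n + 1)
      (Nat.succ_pos n)
  haveI := EdgeIn.isIso_edgeIn (Scheme.Modules.pushforward W.ι) (Scheme.Modules.pushforward f) i G h1
  have h2 : IsZero (((Scheme.Modules.pushforward W.ι ⋙ Scheme.Modules.pushforward f).rightDerived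
      i).obj G) := by
    have h3 := Groth.Agent.Lib.Helper25.RpushQC3.isZero_rpush_of_isAffineHom (W.ι ≫ f) G hG i hi
    exact h3.of_iso ((RDer.rightDerivedIso (Scheme.Modules.pushforwardComp W.ι f) i).app G)
  exact h2.of_iso (asIso (RDer.edgeIn (Scheme.Modules.pushforward W.ι)
    (Scheme.Modules.pushforward f) i G))

end one

variable {ι : Type u} [Finite ι] (𝒰 : ι → X.Opens) (h𝒰 : ∀ i, IsAffineOpen (𝒰 i))

include h𝒰 in
lemma qcoh_X (n : ℕ) : (∏ᶜ ZM 𝒰 F n).IsQuasicoherent :=
  Groth.Agent.Lib.helper7.QCohProd.isQuasicoherent_piObj _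
    (fun a => qcoh_pushRestr F _ (isAffineOpen_pi 𝒰 h𝒰 a))

include h𝒰 in
lemma acyc_X (n : ℕ) (i : ℕ) (hi : 0 < i) : IsZero ((Coh.Rpush f i).obj (∏ᶜ ZM 𝒰 F n)) := by
  haveI : HasFiniteBiproducts X.Modules := HasFiniteBiproducts.of_hasFiniteProducts
  exact isZero_map_pi (Coh.Rpush f i) _
    (fun a => acyc_pushRestr f F _ (isAffineOpen_pi 𝒰 h𝒰 a) i hi)

end CechOXAcyc

end Groth.Agent.Lib.helper27
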