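import Mathlib
import Groth.Prelude.Def_CechOX
import Groth.Agent.Lib.Helper21.ModOpenBC

set_option autoImplicit false
set_option linter.unusedVariables false
set_option linter.unusedSectionVars false
set_option linter.style.haveILetI false

/-!
helper27: the base change map `f_* (j_W)_* (F|_W) ⟶ g_* f'_* (j_{W'})_* (F'|_{W'})`, `W' = g'⁻¹ W`, `F' = g'^* F`,
natural in the open `W`.
-/

namespace Groth.Agent.Lib.helper27

universe u
open CategoryTheory Limits Opposite AlgebraicGeometry TopologicalSpace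
open AlgebraicGeometry.Scheme.Modules

namespace CechOXBC

variable {X S X' S' : Scheme.{u}} (f : X ⟶ S) (g : S' ⟶ S) (g' : X' ⟶ X) (f' : X' ⟶ S')
  (hw : g' ≫ f = f' ≫ g)

/-- `(j_W)_* ((g'_* M')|_W) ⟶ g'_* (j_{W'})_* (M'|_{W'})`; identity-like on sections -/
noncomputable def γ (W : X.Opens) (M' : X'.Modules) :
    (CechOX.pushRestr W).obj ((pushforward g').obj M') ⟶
      (pushforward g').obj ((CechOX.pushRestr (g' ⁻¹ᵁ W)).obj M') :=
  (pushforward W.ι).map ((Groth.Agent.Lib.helper21.ModOpenBC.bcIso g' W).hom.app M') ≫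
    (pushforwardComp (g' ∣_ W) W.ι).hom.app _ ≫
    (pushforwardCongr (morphismRestrict_ι g' W)).hom.app _ ≫
    (pushforwardComp (g' ⁻¹ᵁ W).ι g').inv.app _

lemma le_γ (W : X.Opens) (V : X.Opens) :
    (g' ⁻¹ᵁ W).ι ''ᵁ ((g' ⁻¹ᵁ W).ι ⁻¹ᵁ (g' ⁻¹ᵁ V)) ≤ g' ⁻¹ᵁ (W.ι ''ᵁ (W.ι ⁻¹ᵁ V)) := by
  rw [Scheme.Hom.image_preimage_eq_opensRange_inf, Scheme.Hom.image_preimage_eq_opensRange_inf,
    Scheme.Opens.opensRange_ι, Scheme.Opens.opensRange_ι]
  exact le_of_eq rfl

lemma γ_app (W : X.Opens) (M' : X'.Modules) (V : X.Opens) :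
    (γ g' W M').app V = M'.presheaf.map (homOfLE (le_γ g' W V)).op := by
  unfold γ
  rw [Hom.comp_app, Hom.comp_app, Hom.comp_app, pushforwardComp_hom_app_app,
    pushforwardComp_inv_app_app, pushforwardCongr_hom_app_app, pushforward_map_app]
  erw [Category.id_comp, Category.comp_id]
  have h1 : Hom.app ((Groth.Agent.Lib.helper21.ModOpenBC.bcIso g' W).hom.app M') (W.ι ⁻¹ᵁ V) =
      M'.presheaf.map (eqToHom (image_morphismRestrict_preimage g' W (W.ι ⁻¹ᵁ V))).op := rfl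
  rw [h1]
  erw [restrict_map M' (g' ⁻¹ᵁ W).ι, ← Functor.map_comp]
  rfl

lemma psh_map_comp_eq (M' : X'.Modules) {A B C : X'.Opens} (i : op A ⟶ op B) (j : op B ⟶ op C)
    (k : op A ⟶ op C) : M'.presheaf.map i ≫ M'.presheaf.map j = M'.presheaf.map k := by
  rw [← Functor.map_comp]
  congr 1

/-- the unit `F ⟶ g'_* g'^* F` -/
noncomputable abbrev η (F : X.Modules) : F ⟶ (pushforward g').obj ((Scheme.Modules.pullback g').obj F) :=
  (pullbackPushforwardAdjunction g').unit.app F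

/-- `(j_W)_* (F|_W) ⟶ g'_* (j_{W'})_* (F'|_{W'})` -/
noncomputable def μ (F : X.Modules) (W : X.Opens) :
    (CechOX.pushRestr W).obj F ⟶
      (pushforward g').obj ((CechOX.pushRestr (g' ⁻¹ᵁ W)).obj ((Scheme.Modules.pullback g').obj F)) :=
  (CechOX.pushRestr W).map (η g' F) ≫ γ g' W _

lemma μ_app (F : X.Modules) (W : X.Opens) (V : X.Opens) :
    (μ g' F W).app V = (η g' F).app (W.ι ''ᵁ (W.ι ⁻¹ᵁ V)) ≫
      ((Scheme.Modules.pullback g').obj F).presheaf.map (homOfLE (le_γ g' W V)).op := by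
  unfold μ
  rw [Hom.comp_app, γ_app]
  rfl

/-- `f_* (j_W)_* (F|_W) ⟶ g_* f'_* (j_{W'})_* (F'|_{W'})` -/
noncomputable def νt (F : X.Modules) (W : X.Opens) :
    (pushforward f).obj ((CechOX.pushRestr W).obj F) ⟶
      (pushforward g).obj ((pushforward f').obj
        ((CechOX.pushRestr (g' ⁻¹ᵁ W)).obj ((Scheme.Modules.pullback g').obj F))) :=
  (pushforward f).map (μ g' F W) ≫ (pushforwardComp g' f).hom.app _ ≫
    (pushforwardCongr hw).hom.app _ ≫ (pushforwardComp f' g).inv.app _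

include hw in
lemma le_ν (W : X.Opens) (V : S.Opens) :
    (g' ⁻¹ᵁ W).ι ''ᵁ ((g' ⁻¹ᵁ W).ι ⁻¹ᵁ (f' ⁻¹ᵁ (g ⁻¹ᵁ V))) ≤
      g' ⁻¹ᵁ (W.ι ''ᵁ (W.ι ⁻¹ᵁ (f ⁻¹ᵁ V))) := by
  refine le_trans (le_of_eq ?_) (le_γ g' W (f ⁻¹ᵁ V))
  have : f' ⁻¹ᵁ (g ⁻¹ᵁ V) = g' ⁻¹ᵁ (f ⁻¹ᵁ V) := by
    rw [← Scheme.Hom.comp_preimage, ← Scheme.Hom.comp_preimage, hw]
  rw [this]

lemma νt_app (F : X.Modules) (W : X.Opens) (V : S.Opens) :
    (νt f g g' f' hw F W).app V = (η g' F).app (W.ι ''ᵁ (W.ι ⁻¹ᵁ (f ⁻¹ᵁ V))) ≫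
      ((Scheme.Modules.pullback g').obj F).presheaf.map (homOfLE (le_ν f g g' f' hw W V)).op := by
  unfold νt
  rw [Hom.comp_app, Hom.comp_app, Hom.comp_app, pushforwardComp_hom_app_app,
    pushforwardComp_inv_app_app, pushforwardCongr_hom_app_app, pushforward_map_app, μ_app]
  erw [Category.id_comp, Category.comp_id]
  refine (Category.assoc _ _ _).trans ?_
  exact congrArg (fun t => (η g' F).app (W.ι ''ᵁ (W.ι ⁻¹ᵁ (f ⁻¹ᵁ V))) ≫ t)
    (psh_map_comp_eq ((Scheme.Modules.pullback g').obj F) _ _ _)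

lemma psh_map_comp_eq' (M' : X'.Modules) {A B B' C : X'.Opens} (i : op A ⟶ op B) (j : op B ⟶ op C)
    (i' : op A ⟶ op B') (j' : op B' ⟶ op C) :
    M'.presheaf.map i ≫ M'.presheaf.map j = M'.presheaf.map i' ≫ M'.presheaf.map j' := by
  rw [← Functor.map_comp, ← Functor.map_comp]
  congr 1

lemma preimage_mono' {W₁ W₂ : X.Opens} (h12 : W₂ ≤ W₁) : g' ⁻¹ᵁ W₂ ≤ g' ⁻¹ᵁ W₁ :=
  fun x hx => h12 hx

lemma νt_natural (F : X.Modules) {W₁ W₂ : X.Opens} (h12 : W₂ ≤ W₁) :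
    (pushforward f).map (CechOX.pushRestrMapApp h12 F) ≫ νt f g g' f' hw F W₂ =
      νt f g g' f' hw F W₁ ≫ (pushforward g).map ((pushforward f').map
        (CechOX.pushRestrMapApp (preimage_mono' g' h12) ((Scheme.Modules.pullback g').obj F))) := by
  apply Scheme.Modules.hom_ext
  intro V
  rw [Hom.comp_app, Hom.comp_app, νt_app, νt_app, pushforward_map_app, pushforward_map_app,
    pushforward_map_app, CechOX.pushRestrMapApp_app, CechOX.pushRestrMapApp_app]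
  have hn := CechOX.app_naturality (η g' F)
    (homOfLE (CechOX.image_preimage_mono h12 (f ⁻¹ᵁ V))).op
  refine (Category.assoc _ _ _).symm.trans ?_
  refine (congrArg (fun t => t ≫ ((Scheme.Modules.pullback g').obj F).presheaf.map
    (homOfLE (le_ν f g g' f' hw W₂ V)).op) hn).trans ?_
  refine (Category.assoc _ _ _).trans ((congrArg (fun t => (η g' F).app _ ≫ t) ?_).trans
    (Category.assoc _ _ _).symm)
  exact psh_map_comp_eq' ((Scheme.Modules.pullback g').obj F) _ _ _ _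

/-- the base change map `g^* f_* (j_W)_* (F|_W) ⟶ f'_* (j_{W'})_* (F'|_{W'})` -/
noncomputable def ν (F : X.Modules) (W : X.Opens) :
    (Scheme.Modules.pullback g).obj ((pushforward f).obj ((CechOX.pushRestr W).obj F)) ⟶
      (pushforward f').obj ((CechOX.pushRestr (g' ⁻¹ᵁ W)).obj ((Scheme.Modules.pullback g').obj F)) :=
  ((pullbackPushforwardAdjunction g).homEquiv _ _).symm (νt f g g' f' hw F W)

lemma ν_natural (F : X.Modules) {W₁ W₂ : X.Opens} (h12 : W₂ ≤ W₁) :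
    (Scheme.Modules.pullback g).map ((pushforward f).map (CechOX.pushRestrMapApp h12 F)) ≫
        ν f g g' f' hw F W₂ =
      ν f g g' f' hw F W₁ ≫ (pushforward f').map
        (CechOX.pushRestrMapApp (preimage_mono' g' h12) ((Scheme.Modules.pullback g').obj F)) := by
  unfold ν
  rw [← Adjunction.homEquiv_naturality_left_symm, ← Adjunction.homEquiv_naturality_right_symm,
    νt_natural]

end CechOXBC

end Groth.Agent.Lib.helper27
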