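import Mathlib
import Groth.Prelude.Def_CechOX
import Groth.Agent.Lib.Helper27.CechOXBC1
import Groth.Agent.Lib.Helper8.PullbackUnit2
import Groth.Agent.Lib.Helper7.QCohPushQC

set_option autoImplicit false
set_option linter.unusedVariables false
set_option linter.unusedSectionVars false
set_option linter.style.haveILetI false

/-!
helper27: the base change map `g^* f_* (j_W)_* (F|_W) ⟶ f'_* (j_{W'})_* (F'|_{W'})` is an isomorphism for `W` affine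
with `W → X`, `W → S` affine morphisms and `F` quasi-coherent.
-/

namespace Groth.Agent.Lib.helper27

universe u
open CategoryTheory Limits Opposite AlgebraicGeometry TopologicalSpace
open AlgebraicGeometry.Scheme.Modules
open Groth.Agent.Lib.helper8.PullbackUnit

namespace CechOXBC

variable {X S X' S' : Scheme.{u}} (f : X ⟶ S) (g : S' ⟶ S) (g' : X' ⟶ X) (f' : X' ⟶ S')
  (h : IsPullback g' f' f g)

lemma image_preimage_le (W : X.Opens) (V : X.Opens) : W.ι ''ᵁ (W.ι ⁻¹ᵁ V) ≤ V := by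
  rw [Scheme.Hom.image_preimage_eq_opensRange_inf]
  exact inf_le_right

lemma image_preimage_le' (W : X.Opens) (V : X.Opens) : W.ι ''ᵁ (W.ι ⁻¹ᵁ V) ≤ W := by
  rw [Scheme.Hom.image_preimage_eq_opensRange_inf, Scheme.Opens.opensRange_ι]
  exact inf_le_left

lemma image_preimage_eq (W : X.Opens) (V : X.Opens) : W.ι ''ᵁ (W.ι ⁻¹ᵁ V) = W ⊓ V := by
  rw [Scheme.Hom.image_preimage_eq_opensRange_inf, Scheme.Opens.opensRange_ι]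

/-- the `O_S(V)`-action on the sections over `V` of `f_* (j_W)_* (M|_W)` is the action through
`O_S(V) → O_X(W ∩ f⁻¹ V)` -/
lemma smul_push_pushRestr (M : X.Modules) (W : X.Opens) (V : S.Opens) (r : Γ(S, V))
    (n : Γ((pushforward f).obj ((CechOX.pushRestr W).obj M), V)) :
    r • n = @HSMul.hSMul Γ(X, W.ι ''ᵁ (W.ι ⁻¹ᵁ (f ⁻¹ᵁ V))) Γ(M, W.ι ''ᵁ (W.ι ⁻¹ᵁ (f ⁻¹ᵁ V))) _ _
      ((f.appLE V (W.ι ''ᵁ (W.ι ⁻¹ᵁ (f ⁻¹ᵁ V))) (image_preimage_le W _)).hom r) n := by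
  change @HSMul.hSMul Γ(X, W.ι ''ᵁ (W.ι ⁻¹ᵁ (f ⁻¹ᵁ V))) Γ(M, W.ι ''ᵁ (W.ι ⁻¹ᵁ (f ⁻¹ᵁ V))) _ _
    ((W.ι.appIso (W.ι ⁻¹ᵁ (f ⁻¹ᵁ V))).inv ((W.ι.app (f ⁻¹ᵁ V)) ((f.app V) r))) n = _
  congr 1
  have h1 := ConcreteCategory.congr_hom (W.ι.app_appIso_inv (f ⁻¹ᵁ V)) ((f.app V) r)
  simp only [CategoryTheory.comp_apply] at h1
  rw [h1]
  rfl

include h in
lemma hUY (W : X.Opens) (V : S.Opens) (V' : S'.Opens) (e : V' ≤ g ⁻¹ᵁ V) :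
    (g' ⁻¹ᵁ W).ι ''ᵁ ((g' ⁻¹ᵁ W).ι ⁻¹ᵁ (f' ⁻¹ᵁ V')) =
      g' ⁻¹ᵁ (W.ι ''ᵁ (W.ι ⁻¹ᵁ (f ⁻¹ᵁ V))) ⊓ f' ⁻¹ᵁ V' := by
  rw [image_preimage_eq, image_preimage_eq]
  have h1 : f' ⁻¹ᵁ V' ≤ g' ⁻¹ᵁ (f ⁻¹ᵁ V) := by
    intro x hx
    show f (g' x) ∈ V
    have : f (g' x) = g (f' x) := by
      rw [← Scheme.Hom.comp_apply, ← Scheme.Hom.comp_apply, h.w]
    rw [this]
    exact e hx
  apply le_antisymm
  · refine le_inf ?_ inf_le_right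
    intro x hx
    exact ⟨hx.1, h1 hx.2⟩
  · refine le_inf ?_ inf_le_right
    intro x hx
    exact hx.1.1

theorem isIso_ν [QuasiCompact f] [QuasiSeparated f] (F : X.Modules) [F.IsQuasicoherent]
    (W : X.Opens) [IsAffineHom W.ι] [IsAffineHom (W.ι ≫ f)] :
    IsIso (ν f g g' f' h.w F W) := by
  haveI : ((CechOX.pushRestr W).obj F).IsQuasicoherent :=
    Groth.Agent.Lib.helper7.QCohPushQC.isQuasicoherent_pushforward W.ι _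
  haveI : ((pushforward f).obj ((CechOX.pushRestr W).obj F)).IsQuasicoherent :=
    Groth.Agent.Lib.helper7.QCohPushQC.isQuasicoherent_pushforward f _
  unfold ν
  refine isIso_homEquiv_symm_of_isBC g _
    {V' | IsAffineOpen V' ∧ ∃ V : S.Opens, IsAffineOpen V ∧ V' ≤ g ⁻¹ᵁ V}
    (isBasis_affine_preimage g) ?_
  rintro V' ⟨hV', V, hV, e⟩
  refine ⟨hV', V, hV, e, ?_⟩
  have hU : IsAffineOpen (W.ι ''ᵁ (W.ι ⁻¹ᵁ (f ⁻¹ᵁ V))) := by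
    have h1 : IsAffineOpen ((W.ι ≫ f) ⁻¹ᵁ V) := hV.preimage (W.ι ≫ f)
    rw [Scheme.Hom.comp_preimage] at h1
    exact h1.image_of_isOpenImmersion W.ι
  have hUSX : W.ι ''ᵁ (W.ι ⁻¹ᵁ (f ⁻¹ᵁ V)) ≤ f ⁻¹ᵁ V := image_preimage_le W _
  have hUY' := hUY f g g' f' h W V V' e
  have e'' : (g' ⁻¹ᵁ W).ι ''ᵁ ((g' ⁻¹ᵁ W).ι ⁻¹ᵁ (f' ⁻¹ᵁ V')) ≤
      g' ⁻¹ᵁ (W.ι ''ᵁ (W.ι ⁻¹ᵁ (f ⁻¹ᵁ V))) := hUY'.le.trans inf_le_left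
  have hVY : (g' ⁻¹ᵁ W).ι ''ᵁ ((g' ⁻¹ᵁ W).ι ⁻¹ᵁ (f' ⁻¹ᵁ V')) ≤ f' ⁻¹ᵁ V' :=
    image_preimage_le _ _
  have hV'' : IsAffineOpen ((g' ⁻¹ᵁ W).ι ''ᵁ ((g' ⁻¹ᵁ W).ι ⁻¹ᵁ (f' ⁻¹ᵁ V'))) := by
    have : IsAffine V := hV
    have : IsAffine V' := hV'
    have : IsAffine (W.ι ''ᵁ (W.ι ⁻¹ᵁ (f ⁻¹ᵁ V))) := hU
    exact .of_isIso (Scheme.Hom.isPullback_resLE h e hUSX hUY').isoPullback.hom
  have hK := isBC_ρ g' hU hV'' e'' F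
  have hpo : IsPushout (CommRingCat.ofHom (g.appLE V V' e).hom)
      (CommRingCat.ofHom (f.appLE V (W.ι ''ᵁ (W.ι ⁻¹ᵁ (f ⁻¹ᵁ V))) hUSX).hom)
      (CommRingCat.ofHom (f'.appLE V' ((g' ⁻¹ᵁ W).ι ''ᵁ ((g' ⁻¹ᵁ W).ι ⁻¹ᵁ (f' ⁻¹ᵁ V'))) hVY).hom)
      (CommRingCat.ofHom (g'.appLE (W.ι ''ᵁ (W.ι ⁻¹ᵁ (f ⁻¹ᵁ V)))
        ((g' ⁻¹ᵁ W).ι ''ᵁ ((g' ⁻¹ᵁ W).ι ⁻¹ᵁ (f' ⁻¹ᵁ V'))) e'').hom) := by
    have := (isIso_pushoutSection_iff h e hUSX hUY').mp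
      (isIso_pushoutSection_of_isAffineOpen h e hUSX hUY' hV hV' hU)
    exact this.flip
  letI : Module Γ(X, W.ι ''ᵁ (W.ι ⁻¹ᵁ (f ⁻¹ᵁ V)))
      Γ((pushforward f).obj ((CechOX.pushRestr W).obj F), V) :=
    (inferInstance : Module Γ(X, W.ι ''ᵁ (W.ι ⁻¹ᵁ (f ⁻¹ᵁ V))) Γ(F, W.ι ''ᵁ (W.ι ⁻¹ᵁ (f ⁻¹ᵁ V))))
  letI : Module Γ(X', (g' ⁻¹ᵁ W).ι ''ᵁ ((g' ⁻¹ᵁ W).ι ⁻¹ᵁ (f' ⁻¹ᵁ V')))
      Γ((pushforward f').obj ((CechOX.pushRestr (g' ⁻¹ᵁ W)).obj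
        ((Scheme.Modules.pullback g').obj F)), V') :=
    (inferInstance : Module Γ(X', (g' ⁻¹ᵁ W).ι ''ᵁ ((g' ⁻¹ᵁ W).ι ⁻¹ᵁ (f' ⁻¹ᵁ V')))
      Γ((Scheme.Modules.pullback g').obj F, (g' ⁻¹ᵁ W).ι ''ᵁ ((g' ⁻¹ᵁ W).ι ⁻¹ᵁ (f' ⁻¹ᵁ V'))))
  refine IsBC.cancel' hpo (fun r n => ?_) (fun r p => ?_) ?_
  · exact smul_push_pushRestr f F W V r n
  · exact smul_push_pushRestr f' ((Scheme.Modules.pullback g').obj F) (g' ⁻¹ᵁ W) V' r p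
  · have hρ : ∀ a, ρv g e (νt f g g' f' h.w F W) a = ρ g' e'' F a := by
      intro a
      rw [ρv_apply, ρ_apply, νt_app]
      generalize hx : (((pullbackPushforwardAdjunction g').unit.app F).app
        (W.ι ''ᵁ (W.ι ⁻¹ᵁ (f ⁻¹ᵁ V)))).hom a = x
      change ((Scheme.Modules.pullback g').obj F).presheaf.map _
        (((Scheme.Modules.pullback g').obj F).presheaf.map _
          ((((pullbackPushforwardAdjunction g').unit.app F).app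
            (W.ι ''ᵁ (W.ι ⁻¹ᵁ (f ⁻¹ᵁ V)))).hom a)) = _
      rw [hx, ← ConcreteCategory.comp_apply, ← Functor.map_comp]
      rfl
    have hρ' : ρv g e (νt f g g' f' h.w F W) = ρ g' e'' F := AddMonoidHom.ext hρ
    rw [hρ']
    exact hK

end CechOXBC

end Groth.Agent.Lib.helper27
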