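import Mathlib
import Groth.Prelude.Def_CechOX
import Groth.Agent.Lib.Helper27.CechOXBC2
import Groth.Agent.Lib.Helper27.CechMapG
import Groth.Agent.Lib.Helper27.CechOXSec1

set_option autoImplicit false
set_option linter.unusedVariables false
set_option linter.unusedSectionVars false
set_option linter.style.haveILetI false

/-!
helper27: base change of the relative Čech complex: `g^* Č(𝒰, f, F) ≅ Č(g'⁻¹ 𝒰, f', g'^* F)`.
-/

namespace Groth.Agent.Lib.helper27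

universe u
open CategoryTheory Limits Opposite AlgebraicGeometry TopologicalSpace
open AlgebraicGeometry.Scheme.Modules

namespace CechOXBC

lemma mem_pi_iff {X : Scheme.{u}} {J : Type} [Finite J] (φ : J → X.Opens) (x : X) :
    x ∈ ∏ᶜ φ ↔ ∀ j, x ∈ φ j := by
  constructor
  · intro hx j
    exact leOfHom (Pi.π φ j) hx
  · intro hx
    let O : X.Opens := ⟨⋂ j, (φ j : Set X), isOpen_iInter_of_finite (fun j => (φ j).2)⟩
    have hO : O ≤ ∏ᶜ φ := leOfHom (Pi.lift (fun j => homOfLE (fun y hy => Set.mem_iInter.mp hy j)))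
    exact hO (Set.mem_iInter.mpr hx)

lemma preimage_pi {X X' : Scheme.{u}} (g' : X' ⟶ X) {J : Type} [Finite J] (φ : J → X.Opens) :
    g' ⁻¹ᵁ (∏ᶜ φ) = ∏ᶜ (fun j => g' ⁻¹ᵁ φ j) := by
  ext x
  show g' x ∈ ∏ᶜ φ ↔ x ∈ ∏ᶜ (fun j => g' ⁻¹ᵁ φ j)
  rw [mem_pi_iff, mem_pi_iff]
  rfl

lemma thin_map_comp {D A B : Type*} [Category D] [Quiver.IsThin D] [Category A] [Category B]
    (Q : D ⥤ A) (G : A ⥤ B) {a b b' c : D} (x : a ⟶ b) (y : b ⟶ c) (x' : a ⟶ b') (y' : b' ⟶ c) :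
    G.map (Q.map x) ≫ G.map (Q.map y) = G.map (Q.map x') ≫ G.map (Q.map y') := by
  rw [← G.map_comp, ← G.map_comp, ← Q.map_comp, ← Q.map_comp]
  congr 2
  exact Subsingleton.elim _ _

variable {X S X' S' : Scheme.{u}} (f : X ⟶ S) (g : S' ⟶ S) (g' : X' ⟶ X) (f' : X' ⟶ S')
  (h : IsPullback g' f' f g)

open CechOXSec

include h in
theorem relCech_baseChange_iso [QuasiCompact f] [QuasiSeparated f]
    (F : X.Modules) [F.IsQuasicoherent] {ι : Type u} [Finite ι] (𝒰 : ι → X.Opens)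
    (h1 : ∀ (n : ℕ) (a : Fin (n + 1) → ι), IsAffineHom (∏ᶜ (𝒰 ∘ a)).ι)
    (h2 : ∀ (n : ℕ) (a : Fin (n + 1) → ι), IsAffineHom ((∏ᶜ (𝒰 ∘ a)).ι ≫ f)) :
    Nonempty (((Scheme.Modules.pullback g).mapHomologicalComplex (ComplexShape.up ℕ)).obj
        ((CechOX.relCech 𝒰 f).obj F) ≅
      (CechOX.relCech (fun i => g' ⁻¹ᵁ (𝒰 i)) f').obj ((Scheme.Modules.pullback g').obj F)) := by
  let 𝒰' : ι → X'.Opens := fun i => g' ⁻¹ᵁ (𝒰 i)
  let F' := (Scheme.Modules.pullback g').obj F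
  let G₁ : X.Modules ⥤ S'.Modules := pushforward f ⋙ Scheme.Modules.pullback g
  let G₂ : X'.Modules ⥤ S'.Modules := pushforward f'
  have hle : ∀ (n : ℕ) (a : Fin (n + 1) → ι), ∏ᶜ (𝒰' ∘ a) ≤ g' ⁻¹ᵁ (∏ᶜ (𝒰 ∘ a)) :=
    fun n a => (preimage_pi g' (𝒰 ∘ a)).ge
  have hge : ∀ (n : ℕ) (a : Fin (n + 1) → ι), g' ⁻¹ᵁ (∏ᶜ (𝒰 ∘ a)) ≤ ∏ᶜ (𝒰' ∘ a) :=
    fun n a => (preimage_pi g' (𝒰 ∘ a)).le
  have hν : ∀ (n : ℕ) (a : Fin (n + 1) → ι), IsIso (ν f g g' f' h.w F (∏ᶜ (𝒰 ∘ a))) := by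
    intro n a
    haveI := h1 n a
    haveI := h2 n a
    exact isIso_ν f g g' f' h F _
  let κ : ∀ (n : ℕ) (a : Fin (n + 1) → ι),
      (op (g' ⁻¹ᵁ (∏ᶜ (𝒰 ∘ a))) : (X'.Opens)ᵒᵖ) ≅ op (∏ᶜ (𝒰' ∘ a)) :=
    fun n a => ⟨(homOfLE (hle n a)).op, (homOfLE (hge n a)).op, Subsingleton.elim _ _,
      Subsingleton.elim _ _⟩
  let e : ∀ (n : ℕ) (a : Fin (n + 1) → ι),
      G₁.obj (CechMapG.Z 𝒰 (PF F) n a) ≅ G₂.obj (CechMapG.Z 𝒰' (PF F') n a) :=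
    fun n a => (@asIso _ _ _ _ (ν f g g' f' h.w F (∏ᶜ (𝒰 ∘ a))) (hν n a)) ≪≫
      G₂.mapIso ((PF F').mapIso (κ n a))
  have he : ∀ (n : ℕ) (b : Fin (n + 2) → ι) (i : Fin (n + 2)),
      G₁.map ((PF F).map (CechTransfer.face 𝒰 b i).op) ≫ (e (n + 1) b).hom =
        (e n (b ∘ Fin.succAbove i)).hom ≫
          G₂.map ((PF F').map (CechTransfer.face 𝒰' b i).op) := by
    intro n b i
    have hle12 : ∏ᶜ (𝒰 ∘ b) ≤ ∏ᶜ (𝒰 ∘ b ∘ Fin.succAbove i) :=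
      leOfHom (CechTransfer.face 𝒰 b i)
    have hnat := ν_natural f g g' f' h.w F hle12
    have hnat' : G₁.map ((PF F).map (CechTransfer.face 𝒰 b i).op) ≫
        ν f g g' f' h.w F (∏ᶜ (𝒰 ∘ b)) =
        ν f g g' f' h.w F (∏ᶜ (𝒰 ∘ b ∘ Fin.succAbove i)) ≫
          G₂.map ((PF F').map (homOfLE (preimage_mono' g' hle12)).op) := hnat
    show G₁.map ((PF F).map (CechTransfer.face 𝒰 b i).op) ≫
        (ν f g g' f' h.w F (∏ᶜ (𝒰 ∘ b)) ≫ G₂.map ((PF F').map (κ (n + 1) b).hom)) =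
      (ν f g g' f' h.w F (∏ᶜ (𝒰 ∘ b ∘ Fin.succAbove i)) ≫
        G₂.map ((PF F').map (κ n (b ∘ Fin.succAbove i)).hom)) ≫
          G₂.map ((PF F').map (CechTransfer.face 𝒰' b i).op)
    refine (Category.assoc _ _ _).symm.trans ?_
    refine (congrArg (fun t => t ≫ G₂.map ((PF F').map (κ (n + 1) b).hom)) hnat').trans ?_
    refine (Category.assoc _ _ _).trans ((congrArg (fun t =>
      ν f g g' f' h.w F (∏ᶜ (𝒰 ∘ b ∘ Fin.succAbove i)) ≫ t) ?_).trans (Category.assoc _ _ _).symm)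
    exact thin_map_comp (PF F') G₂ _ _ _ _
  haveI : HasFiniteBiproducts X.Modules := HasFiniteBiproducts.of_hasFiniteProducts
  have hG₁ : ∀ n, IsIso (piComparison G₁ (CechMapG.Z 𝒰 (PF F) n)) := fun n => inferInstance
  have hG₂ : ∀ n, IsIso (piComparison G₂ (CechMapG.Z 𝒰' (PF F') n)) := fun n => inferInstance
  exact ⟨CechMapG.cechIsoG 𝒰 𝒰' (PF F) (PF F') G₁ G₂ hG₁ hG₂ e he⟩

end CechOXBC

end Groth.Agent.Lib.helper27
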