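import Mathlib
import Groth.Prelude.Def_CechOX
import Groth.Prelude.Def_DCoh2
import Groth.Agent.Lib.Helper27.CechOXAcyc
import Groth.Agent.Lib.Helper27.Horseshoe4
import Groth.Agent.Lib.Helper27.MapExtend1

set_option autoImplicit false
set_option linter.unusedVariables false
set_option linter.unusedSectionVars false
set_option linter.style.haveILetI false

/-!
helper27: the relative Čech complex computes `Rf_*` (schemes with affine diagonal).
-/

namespace Groth.Agent.Lib.helper27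

universe u
open CategoryTheory Limits Opposite AlgebraicGeometry TopologicalSpace
attribute [local instance] HasDerivedCategory.standard

namespace CechOXRpush

open CechOXSec CechOXGeom CechOXAcyc

variable {X : Scheme.{u}} {ι : Type u} (𝒰 : ι → X.Opens) (F : X.Modules)

/-- the coaugmentation as a morphism of complexes -/
noncomputable def ιN : (CochainComplex.single₀ X.Modules).obj F ⟶ (CechOX.cechSh 𝒰).obj F :=
  (CochainComplex.fromSingle₀Equiv _ F).symm ⟨augM 𝒰 F, augM_dM 𝒰 F⟩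

variable (hcov : ⨆ i, 𝒰 i = ⊤)

include hcov in
theorem quasiIso_ιN : QuasiIso (ιN 𝒰 F) := by
  have hm : Mono (augM 𝒰 F) := mono_augM 𝒰 F hcov
  have hex : (ShortComplex.mk (augM 𝒰 F) (((CechOX.cechSh 𝒰).obj F).d 0 1)
      (augM_dM 𝒰 F)).Exact := by
    rw [ShortComplex.exact_iff_epi_kernel_lift]
    haveI := isIso_toKer 𝒰 F hcov
    exact inferInstanceAs (Epi (toKer 𝒰 F))
  have hK : ∀ p, ((CechOX.cechSh 𝒰).obj F).ExactAt (p + 1) := by
    intro p
    rw [HomologicalComplex.exactAt_iff' _ p (p + 1) (p + 2) (by simp) (by simp)]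
    exact exact_succ 𝒰 F hcov p
  exact @Horseshoe.quasiIso_of_resolution _ _ _ ((CechOX.cechSh 𝒰).obj F) F (augM 𝒰 F)
    (augM_dM 𝒰 F) hex hm hK

/-- the coaugmentation as a morphism of `ℤ`-indexed complexes -/
noncomputable def ιZ : (CochainComplex.singleFunctor X.Modules 0).obj F ⟶ CechOX.cechShZ 𝒰 F :=
  (HomologicalComplex.extendSingleIso _ _ _ _ (by simp)).inv ≫
    (ComplexShape.embeddingUpNat.extendFunctor X.Modules).map (ιN 𝒰 F)

include hcov in
theorem quasiIso_ιZ : QuasiIso (ιZ 𝒰 F) := by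
  haveI := quasiIso_ιN 𝒰 F hcov
  haveI : QuasiIso (HomologicalComplex.extendMap (ιN 𝒰 F) ComplexShape.embeddingUpNat) :=
    inferInstance
  exact quasiIso_comp (HomologicalComplex.extendSingleIso ComplexShape.embeddingUpNat F 0 0
    (by simp)).inv (HomologicalComplex.extendMap (ιN 𝒰 F) ComplexShape.embeddingUpNat)

include hcov in
/-- `F ≅ 𝔠(𝒰, F)` in the derived category -/
theorem nonempty_inD_iso : Nonempty (DCoh.inD X F ≅ DCoh.toD X (CechOX.cechShZ 𝒰 F)) := by
  haveI := quasiIso_ιZ 𝒰 F hcov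
  exact ⟨(DerivedCategory.singleFunctorIsoCompQ X.Modules 0).app F ≪≫
    asIso (DerivedCategory.Q.map (ιZ 𝒰 F))⟩

section terms

variable (P : X.Modules → Prop) (hP : ∀ {A B : X.Modules}, (A ≅ B) → P A → P B)
  (h0 : ∀ Z : X.Modules, IsZero Z → P Z)

include hP h0 in
lemma prop_cechShZ_X (h : ∀ n : ℕ, P (∏ᶜ ZM 𝒰 F n)) (n : ℤ) : P ((CechOX.cechShZ 𝒰 F).X n) := by
  by_cases hn : ∃ k : ℕ, ComplexShape.embeddingUpNat.f k = n
  · obtain ⟨k, hk⟩ := hn
    exact hP (((CechOX.cechSh 𝒰).obj F).extendXIso ComplexShape.embeddingUpNat hk).symm (h k)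
  · exact h0 _ (((CechOX.cechSh 𝒰).obj F).isZero_extend_X ComplexShape.embeddingUpNat n
      (fun k hk => hn ⟨k, hk⟩))

end terms

variable {S : Scheme.{u}} (f : X ⟶ S) [CompactSpace X]
  [IsAffineHom (pullback.diagonal (terminal.from X))]
  [IsAffineHom (pullback.diagonal (terminal.from S))]
  [F.IsQuasicoherent] [Finite ι] (h𝒰 : ∀ i, IsAffineOpen (𝒰 i)) [DCoh.HasRpush f]

include h𝒰 hcov in
theorem main :
    (∀ p : ℕ, (((CechOX.relCech 𝒰 f).obj F).X p).IsQuasicoherent) ∧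
      Nonempty (DCoh.toD S (CechOX.relCechZ 𝒰 f F) ≅ (DCoh.Rpush f).obj (DCoh.inD X F)) := by
  haveI : QuasiSeparatedSpace X := quasiSeparatedSpace_of_affineDiagonal X
  haveI : QuasiSeparatedSpace S := quasiSeparatedSpace_of_affineDiagonal S
  haveI : QuasiCompact f := inferInstance
  haveI : QuasiSeparated f := inferInstance
  refine ⟨fun p => ?_, ?_⟩
  · haveI := qcoh_X F 𝒰 h𝒰 p
    exact Groth.Agent.Lib.helper7.QCohPushQC.isQuasicoherent_pushforward f (∏ᶜ ZM 𝒰 F p)
  · obtain ⟨e0⟩ := nonempty_inD_iso 𝒰 F hcov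
    have hq : ∀ n : ℤ, ((CechOX.cechShZ 𝒰 F).X n).IsQuasicoherent :=
      prop_cechShZ_X 𝒰 F (fun A => A.IsQuasicoherent)
        (fun e h => Groth.Agent.Lib.helper7.QCohProd.isQuasicoherent_of_iso e h)
        (fun Z hZ => Groth.Agent.Lib.helper7.CohKer.isQuasicoherent_of_isZero hZ)
        (qcoh_X F 𝒰 h𝒰)
    have hac : ∀ (n : ℤ) (i : ℕ), 0 < i →
        IsZero ((Coh.Rpush f i).obj ((CechOX.cechShZ 𝒰 F).X n)) := by
      intro n i hi
      exact prop_cechShZ_X 𝒰 F (fun A => IsZero ((Coh.Rpush f i).obj A))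
        (fun e h => h.of_iso ((Coh.Rpush f i).mapIso e.symm))
        (fun Z hZ => (Coh.Rpush f i).map_isZero hZ)
        (fun k => acyc_X f F 𝒰 h𝒰 k i hi) n
    haveI := Groth.Agent.Lib.Helper25.RpushAcyc.isIso_unit_of_acyclic f (CechOX.cechShZ 𝒰 F) hq hac
    let e1 := asIso (((DCoh.pushKh f).totalRightDerivedUnit DerivedCategory.Qh
      (HomotopyCategory.quasiIso X.Modules (ComplexShape.up ℤ))).app
      ((HomotopyCategory.quotient X.Modules (ComplexShape.up ℤ)).obj (CechOX.cechShZ 𝒰 F)))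
    have e1' : DCoh.toD S (((Scheme.Modules.pushforward f).mapHomologicalComplex
        (ComplexShape.up ℤ)).obj (CechOX.cechShZ 𝒰 F)) ≅
        (DCoh.Rpush f).obj (DCoh.toD X (CechOX.cechShZ 𝒰 F)) := e1
    let e2 := MapExtend.mapExtendIso (Scheme.Modules.pushforward f) ((CechOX.cechSh 𝒰).obj F)
      ComplexShape.embeddingUpNat
    have e2' : DCoh.toD S (((Scheme.Modules.pushforward f).mapHomologicalComplex
        (ComplexShape.up ℤ)).obj (CechOX.cechShZ 𝒰 F)) ≅ DCoh.toD S (CechOX.relCechZ 𝒰 f F) :=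
      DerivedCategory.Q.mapIso e2
    exact ⟨e2'.symm ≪≫ e1' ≪≫ (DCoh.Rpush f).mapIso e0.symm⟩

end CechOXRpush

end Groth.Agent.Lib.helper27
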