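import Mathlib
import Groth.Prelude.Def_CechOX
import Groth.Prelude.Def_DCoh2
import Groth.Agent.Lib.Helper27.CechOXRpush

set_option autoImplicit false
set_option linter.unusedVariables false
set_option linter.unusedSectionVars false
set_option linter.style.haveILetI false

/-!
helper27: the relative Čech complex computes `Rf_*`, for a covering whose finite intersections have affine
inclusions into `X` and affine structure maps to `S` (no assumption on diagonals).
-/

namespace Groth.Agent.Lib.helper27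

universe u
open CategoryTheory Limits Opposite AlgebraicGeometry TopologicalSpace
attribute [local instance] HasDerivedCategory.standard

namespace CechOXRpush2

open CechOXSec CechOXGeom CechOXAcyc CechOXRpush

variable {X S : Scheme.{u}} (f : X ⟶ S) (F : X.Modules) [F.IsQuasicoherent]

section one

variable (W : X.Opens) [IsAffineHom W.ι]

lemma qcoh_pushRestr' : ((CechOX.pushRestr W).obj F).IsQuasicoherent :=
  Groth.Agent.Lib.helper7.QCohPushQC.isQuasicoherent_pushforward W.ι _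

lemma acyc_pushRestr' [IsAffineHom (W.ι ≫ f)] (i : ℕ) (hi : 0 < i) :
    IsZero ((Coh.Rpush f i).obj ((CechOX.pushRestr W).obj F)) := by
  let G : (W : Scheme.{u}).Modules := (Scheme.Modules.restrictFunctor W.ι).obj F
  have hG : G.IsQuasicoherent := inferInstance
  have h1 : ∀ n : ℕ, IsZero (((Scheme.Modules.pushforward W.ι).rightDerived (n + 1)).obj G) :=
    fun n => Groth.Agent.Lib.Helper25.RpushQC3.isZero_rpush_of_isAffineHom W.ι G hG (n + 1)
      (Nat.succ_pos n)
  haveI := EdgeIn.isIso_edgeIn (Scheme.Modules.pushforward W.ι) (Scheme.Modules.pushforward f) i G h1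
  have h2 : IsZero (((Scheme.Modules.pushforward W.ι ⋙ Scheme.Modules.pushforward f).rightDerived
      i).obj G) := by
    have h3 := Groth.Agent.Lib.Helper25.RpushQC3.isZero_rpush_of_isAffineHom (W.ι ≫ f) G hG i hi
    exact h3.of_iso ((RDer.rightDerivedIso (Scheme.Modules.pushforwardComp W.ι f) i).app G)
  exact h2.of_iso (asIso (RDer.edgeIn (Scheme.Modules.pushforward W.ι)
    (Scheme.Modules.pushforward f) i G))

end one

variable {ι : Type u} [Finite ι] (𝒰 : ι → X.Opens)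
  (h1 : ∀ (n : ℕ) (a : Fin (n + 1) → ι), IsAffineHom (∏ᶜ (𝒰 ∘ a)).ι)
  (h2 : ∀ (n : ℕ) (a : Fin (n + 1) → ι), IsAffineHom ((∏ᶜ (𝒰 ∘ a)).ι ≫ f))

include h1 in
lemma qcoh_X' (n : ℕ) : (∏ᶜ ZM 𝒰 F n).IsQuasicoherent :=
  Groth.Agent.Lib.helper7.QCohProd.isQuasicoherent_piObj _
    (fun a => haveI := h1 n a; qcoh_pushRestr' F _)

include h1 h2 in
lemma acyc_X' (n : ℕ) (i : ℕ) (hi : 0 < i) : IsZero ((Coh.Rpush f i).obj (∏ᶜ ZM 𝒰 F n)) := by
  haveI : HasFiniteBiproducts X.Modules := HasFiniteBiproducts.of_hasFiniteProducts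
  exact isZero_map_pi (Coh.Rpush f i) _
    (fun a => haveI := h1 n a; haveI := h2 n a; acyc_pushRestr' f F _ i hi)

variable (hcov : ⨆ i, 𝒰 i = ⊤) [QuasiCompact f] [QuasiSeparated f] [DCoh.HasRpush f]

include h1 h2 hcov in
theorem main' :
    Nonempty (DCoh.toD S (CechOX.relCechZ 𝒰 f F) ≅ (DCoh.Rpush f).obj (DCoh.inD X F)) := by
  obtain ⟨e0⟩ := nonempty_inD_iso 𝒰 F hcov
  have hq : ∀ n : ℤ, ((CechOX.cechShZ 𝒰 F).X n).IsQuasicoherent :=
    prop_cechShZ_X 𝒰 F (fun A => A.IsQuasicoherent)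
      (fun e h => Groth.Agent.Lib.helper7.QCohProd.isQuasicoherent_of_iso e h)
      (fun Z hZ => Groth.Agent.Lib.helper7.CohKer.isQuasicoherent_of_isZero hZ)
      (qcoh_X' F 𝒰 h1)
  have hac : ∀ (n : ℤ) (i : ℕ), 0 < i →
      IsZero ((Coh.Rpush f i).obj ((CechOX.cechShZ 𝒰 F).X n)) := by
    intro n i hi
    exact prop_cechShZ_X 𝒰 F (fun A => IsZero ((Coh.Rpush f i).obj A))
      (fun e h => h.of_iso ((Coh.Rpush f i).mapIso e.symm))
      (fun Z hZ => (Coh.Rpush f i).map_isZero hZ)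
      (fun k => acyc_X' f F 𝒰 h1 h2 k i hi) n
  haveI := Groth.Agent.Lib.Helper25.RpushAcyc.isIso_unit_of_acyclic f (CechOX.cechShZ 𝒰 F) hq hac
  let e1 := asIso (((DCoh.pushKh f).totalRightDerivedUnit DerivedCategory.Qh
    (HomotopyCategory.quasiIso X.Modules (ComplexShape.up ℤ))).app
    ((HomotopyCategory.quotient X.Modules (ComplexShape.up ℤ)).obj (CechOX.cechShZ 𝒰 F)))
  have e1' : DCoh.toD S (((Scheme.Modules.pushforward f).mapHomologicalComplex
      (ComplexShape.up ℤ)).obj (CechOX.cechShZ 𝒰 F)) ≅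
      (DCoh.Rpush f).obj (DCoh.toD X (CechOX.cechShZ 𝒰 F)) := e1
  let e2 := MapExtend.mapExtendIso (Scheme.Modules.pushforward f) ((CechOX.cechSh 𝒰).obj F)
    ComplexShape.embeddingUpNat
  have e2' : DCoh.toD S (((Scheme.Modules.pushforward f).mapHomologicalComplex
      (ComplexShape.up ℤ)).obj (CechOX.cechShZ 𝒰 F)) ≅ DCoh.toD S (CechOX.relCechZ 𝒰 f F) :=
    DerivedCategory.Q.mapIso e2
  exact ⟨e2'.symm ≪≫ e1' ≪≫ (DCoh.Rpush f).mapIso e0.symm⟩

end CechOXRpush2

end Groth.Agent.Lib.helper27
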