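import Mathlib

set_option autoImplicit false
set_option linter.unusedSectionVars false

namespace Groth.Agent.Lib.helper27

open CategoryTheory Limits Opposite SimplicialObject Simplicial

universe v u v' u'

namespace CechOver

variable {C : Type u} [Category.{v} C]

/-- the augmented simplicial object over the point, induced by an augmented simplicial object -/
@[simps]
def overAug (Y : SimplicialObject.Augmented C) : SimplicialObject.Augmented (Over Y.right) where
  left :=
    { obj := fun n => Over.mk (Y.hom.app n)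
      map := fun {n m} g => Over.homMk (Y.left.map g) (by
        have := Y.hom.naturality g
        dsimp at this ⊢
        rw [this, Category.comp_id]) }
  right := Over.mk (𝟙 Y.right)
  hom := { app := fun n => Over.homMk (Y.hom.app n) (by simp) }

lemma s_comp_hom {Y : SimplicialObject.Augmented C} (ed : Augmented.ExtraDegeneracy Y) (n : ℕ) :
    ed.s n ≫ Y.hom.app (op ⦋n + 1⦌) = Y.hom.app (op ⦋n⦌) := by
  have h1 := Y.hom.naturality (SimplexCategory.δ (0 : Fin (n + 2))).op
  have h2 := ed.s_comp_δ₀ n
  dsimp at h1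
  rw [Category.comp_id] at h1
  change ed.s n ≫ Y.left.map (SimplexCategory.δ 0).op = 𝟙 _ at h2
  rw [← h1, ← Category.assoc, h2, Category.id_comp]

/-- the extra degeneracy lifts to the augmented simplicial object over the point -/
def overED {Y : SimplicialObject.Augmented C} (ed : Augmented.ExtraDegeneracy Y) :
    Augmented.ExtraDegeneracy (overAug Y) where
  s' := Over.homMk ed.s' ed.s'_comp_ε
  s n := Over.homMk (ed.s n) (s_comp_hom ed n)
  s'_comp_ε := by
    ext
    exact ed.s'_comp_ε
  s₀_comp_δ₁ := by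
    ext
    exact ed.s₀_comp_δ₁
  s_comp_δ₀ n := by
    ext
    exact ed.s_comp_δ₀ n
  s_comp_δ n i := by
    ext
    exact ed.s_comp_δ n i
  s_comp_σ n i := by
    ext
    exact ed.s_comp_σ n i

section Complex

variable {𝒜 : Type u'} [Category.{v'} 𝒜] [Abelian 𝒜]
  (Y : SimplicialObject.Augmented C) (Φ : (Over Y.right)ᵒᵖ ⥤ 𝒜)

/-- the augmented simplicial object in `𝒜ᵒᵖ` obtained by applying `Φ` -/
noncomputable def X' : SimplicialObject.Augmented 𝒜ᵒᵖ :=
  ((Augmented.whiskering _ _).obj Φ.rightOp).obj (overAug Y)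

/-- the chain complex in `𝒜ᵒᵖ` -/
noncomputable def K' : ChainComplex 𝒜ᵒᵖ ℕ :=
  AlgebraicTopology.AlternatingFaceMapComplex.obj (Augmented.drop.obj (X' Y Φ))

/-- the cochain complex `p ↦ Φ(Y_p)` with the alternating sum of the cofaces as differential -/
noncomputable def K : CochainComplex 𝒜 ℕ := (K' Y Φ).unop

lemma K_X (p : ℕ) : (K Y Φ).X p = Φ.obj (op (Over.mk (Y.hom.app (op ⦋p⦌)))) := rfl

variable {Y}

/-- the homotopy equivalence given by an extra degeneracy -/
noncomputable def he (ed : Augmented.ExtraDegeneracy Y) :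
    HomotopyEquiv (K' Y Φ) ((ChainComplex.single₀ 𝒜ᵒᵖ).obj (Augmented.point.obj (X' Y Φ))) :=
  ((overED ed).map Φ.rightOp).homotopyEquiv

theorem K_homology_zero (ed : Augmented.ExtraDegeneracy Y) :
    Nonempty ((K Y Φ).homology 0 ≅ Φ.obj (op (Over.mk (𝟙 Y.right)))) := by
  let e1 := (he Φ ed).toHomologyIso 0
  let e2 := HomologicalComplex.singleObjHomologySelfIso (ComplexShape.down ℕ) 0
    (Augmented.point.obj (X' Y Φ))
  let e3 := (K' Y Φ).homologyUnop 0
  exact ⟨e3 ≪≫ (e1 ≪≫ e2).unop.symm⟩

theorem K_homology_succ (ed : Augmented.ExtraDegeneracy Y) (p : ℕ) :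
    IsZero ((K Y Φ).homology (p + 1)) := by
  let e1 := (he Φ ed).toHomologyIso (p + 1)
  have hz : IsZero (((ChainComplex.single₀ 𝒜ᵒᵖ).obj
      (Augmented.point.obj (X' Y Φ))).homology (p + 1)) :=
    HomologicalComplex.isZero_single_obj_homology (ComplexShape.down ℕ) 0 _ (p + 1) (by omega)
  have hz' : IsZero ((K' Y Φ).homology (p + 1)) := hz.of_iso e1
  exact hz'.unop.of_iso ((K' Y Φ).homologyUnop (p + 1))

end Complex

end CechOver

end Groth.Agent.Lib.helper27
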