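import Mathlib
import Groth.Prelude.Def_CechEdge
import Groth.Agent.Lib.Helper27.CechEdgeE
import Groth.Agent.Lib.Helper27.CechFam
import Groth.Agent.Lib.Helper27.CechEdgeI

set_option autoImplicit false
set_option linter.unusedSectionVars false
set_option linter.unusedVariables false

namespace Groth.Agent.Lib.helper27

open CategoryTheory Limits Opposite DeltaF Abelian

universe u

namespace CechEdgeA

variable {C : Type u} [SmallCategory C] [HasPullbacks C]
  {U : C} {ι κ : Type u} (Y : ι → Over U) (Y' : κ → Over U)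
  (f : FormalCoproduct.mk ι Y ⟶ FormalCoproduct.mk κ Y')

/-- the morphism of delta-functors induced by a refinement -/
noncomputable def refineδ : Tc Y' ⟶ Tc Y where
  app p := Functor.whiskerRight (ρ Y Y' f) (HomologicalComplex.homologyFunctor _ _ p)
  comm S hS n₀ n₁ h :=
    HomologicalComplex.HomologySequence.δ_naturality (S.mapNatTrans (ρ Y Y' f))
      (cx_shortExact Y' S hS) (cx_shortExact Y S hS) n₀ n₁ h

lemma refineδ_app (p : ℕ) (P : PSh C) :
    ((refineδ Y Y' f).app p).app P = HomologicalComplex.homologyMap ((ρ Y Y' f).app P) p := rfl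

/-- push a tuple of sections along a refinement -/
abbrev push {T : Over U} {n : ℕ} (t : Fin (n + 1) → Cech.Sec Y T) : Fin (n + 1) → Cech.Sec Y' T :=
  fun k => ⟨f.f (t k).1, (t k).2 ≫ f.φ (t k).1⟩

lemma π_ρ (P : PSh C) (n : ℕ) (a : Fin (n + 1) → ι)
    (x : (∏ᶜ Cech.Z Y' (QP (U := U) P) n : AddCommGrpCat.{u})) :
    Pi.π (Cech.Z Y (QP (U := U) P) n) a (((ρ Y Y' f).app P).f n x) =
      (QP (U := U) P).map (Limits.Pi.map fun k => f.φ (a k) :
        ∏ᶜ (Y ∘ a) ⟶ ∏ᶜ (Y' ∘ f.f ∘ a)).op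
        (Pi.π (Cech.Z Y' (QP (U := U) P) n) (f.f ∘ a) x) := by
  have h : ((ρ Y Y' f).app P).f n ≫ Pi.π (Cech.Z Y (QP (U := U) P) n) a =
      Pi.π (Cech.Z Y' (QP (U := U) P) n) (f.f ∘ a) ≫
        (QP (U := U) P).map (Limits.Pi.map fun k => f.φ (a k) :
          ∏ᶜ (Y ∘ a) ⟶ ∏ᶜ (Y' ∘ f.f ∘ a)).op := by
    rw [ρ_app_f, FormalCoproduct.evalOp_obj_map]
    erw [Pi.lift_π]
    rfl
  exact ConcreteCategory.congr_hom h x

lemma ΦQ_ρ (P : PSh C) (n : ℕ) (x : (∏ᶜ Cech.Z Y' (QP (U := U) P) n : AddCommGrpCat.{u}))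
    (T : Over U) (t : Fin (n + 1) → Cech.Sec Y T) :
    Cech.ΦQ Y (QP (U := U) P) n (((ρ Y Y' f).app P).f n x) T t =
      Cech.ΦQ Y' (QP (U := U) P) n x T (push Y Y' f t) := by
  rw [Cech.ΦQ_apply, Cech.ΦQ_apply, π_ρ]
  have e : Cech.tup Y t ≫ (Limits.Pi.map fun k => f.φ (Cech.idx Y t k) :
      ∏ᶜ (Y ∘ Cech.idx Y t) ⟶ ∏ᶜ (Y' ∘ f.f ∘ Cech.idx Y t)) = Cech.tup Y' (push Y Y' f t) := by
    apply Pi.hom_ext
    intro k
    simp only [Cech.tup, Category.assoc, Pi.map_π, Pi.lift_π_assoc]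
    exact (Pi.lift_π (fun k => (t k).2 ≫ f.φ (t k).1) k).symm
  rw [← e, op_comp, Functor.map_comp]
  rfl


variable (g : FormalCoproduct.mk ι Y ⟶ FormalCoproduct.mk κ Y')

lemma ρ_zero_eq_on_cocycles (P : PSh C)
    (x : (∏ᶜ Cech.Z Y' (QP (U := U) P) 0 : AddCommGrpCat.{u}))
    (hx : Cech.d' Y' (QP (U := U) P) 0 x = 0) :
    ((ρ Y Y' f).app P).f 0 x = ((ρ Y Y' g).app P).f 0 x := by
  apply Cech.ΦQ_injective Y (QP (U := U) P) 0
  funext T t
  rw [ΦQ_ρ, ΦQ_ρ]
  have h := congrFun (congrFun (Cech.ΦQ_d' Y' (QP (U := U) P) 0 x) T)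
    ![push Y Y' f t 0, push Y Y' g t 0]
  rw [hx, map_zero] at h
  simp only [Cech.dFam] at h
  have h2 : ∀ F : Fin (0 + 2) → (QP (U := U) P).obj (op T), ∑ i, F i = F 0 + F 1 :=
    fun F => Fin.sum_univ_two F
  rw [h2] at h
  have e0 : (![push Y Y' f t 0, push Y Y' g t 0] : Fin 2 → Cech.Sec Y' T) ∘
      Fin.succAbove (0 : Fin 2) = push Y Y' g t := by
    funext k
    fin_cases k
    rfl
  have e1 : (![push Y Y' f t 0, push Y Y' g t 0] : Fin 2 → Cech.Sec Y' T) ∘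
      Fin.succAbove (1 : Fin 2) = push Y Y' f t := by
    funext k
    fin_cases k
    rfl
  rw [e0, e1] at h
  simp only [Fin.val_zero, Fin.val_one, pow_zero, pow_one, one_smul, neg_smul] at h
  have h3 : Cech.ΦQ Y' (QP (U := U) P) 0 x T (push Y Y' g t) -
      Cech.ΦQ Y' (QP (U := U) P) 0 x T (push Y Y' f t) = 0 := by
    rw [sub_eq_add_neg]
    exact h.symm
  exact (sub_eq_zero.1 h3).symm

lemma homologyMap_ρ_zero_eq (P : PSh C) :
    HomologicalComplex.homologyMap ((ρ Y Y' f).app P) 0 =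
      HomologicalComplex.homologyMap ((ρ Y Y' g).app P) 0 := by
  rw [← cancel_epi ((CechEdge.cx P Y').homologyπ 0)]
  erw [HomologicalComplex.homologyπ_naturality, HomologicalComplex.homologyπ_naturality]
  congr 1
  rw [← cancel_mono ((CechEdge.cx P Y).iCycles 0)]
  erw [HomologicalComplex.cyclesMap_i, HomologicalComplex.cyclesMap_i]
  apply AddCommGrpCat.hom_ext
  apply AddMonoidHom.ext
  intro z
  have hz : Cech.d' Y' (QP (U := U) P) 0 ((CechEdge.cx P Y').iCycles 0 z) = 0 := by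
    have := (CechEdge.cx P Y').iCycles_d 0 1
    exact ConcreteCategory.congr_hom this z
  exact ρ_zero_eq_on_cocycles Y Y' f g P _ hz

theorem refineδ_eq : refineδ Y Y' f = refineδ Y Y' g := by
  obtain ⟨τ₀, -, huniq⟩ := isUniversal_of_isEffaceable (Tc_isEffaceable Y') (Tc Y)
    ((refineδ Y Y' f).app 0)
  have h1 : refineδ Y Y' f = τ₀ := huniq _ rfl
  have h2 : refineδ Y Y' g = τ₀ := huniq _ (by
    ext P : 2
    exact (homologyMap_ρ_zero_eq Y Y' f g P).symm)
  rw [h1, h2]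

theorem homologyMap_cechRefine_eq (P : PSh C) (q : ℕ) :
    HomologicalComplex.homologyMap (CohCx.cechRefine P f) q =
      HomologicalComplex.homologyMap (CohCx.cechRefine P g) q := by
  have h := congrArg (fun τ : Tc Y' ⟶ Tc Y => (τ.app q).app P) (refineδ_eq Y Y' f g)
  exact h

end CechEdgeA

end Groth.Agent.Lib.helper27
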