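import Mathlib
import Groth.Prelude.Def_CohTop
import Groth.Agent.Lib.Helper27.OpenRestr
import Groth.Agent.Lib.Helper27.CechInj
import Groth.Agent.S0455

/-!
# helper27: Čech vanishing from surjectivity of restrictions (coarse topology trick)
-/

set_option autoImplicit false

namespace Groth.Agent.Lib.helper27

open CategoryTheory Limits Opposite TopologicalSpace

universe u

namespace CechSurj

variable {X : TopCat.{u}} {ι : Type u} (U : ι → Opens X)

/-- the total open -/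
abbrev W : Opens X := iSup U

/-- the coarse topology on `W` generated by the `U i` -/
def τ : TopologicalSpace ↥(W U) :=
  TopologicalSpace.generateFrom {s | ∃ i, s = Subtype.val ⁻¹' (U i : Set X)}

/-- the coarse space -/
def Y : TopCat.{u} := @TopCat.of ↥(W U) (τ U)

/-- the identity, as a continuous map to the coarse space -/
def c : TopCat.of ↥(W U) ⟶ Y U :=
  TopCat.ofHom (Y := Y U) ⟨fun x => x, by
    apply continuous_generateFrom_iff.2
    rintro s ⟨i, rfl⟩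
    exact (U i).2.preimage continuous_subtype_val⟩

/-- finite intersections -/
def A (k : Σ p : ℕ, Fin (p + 1) → ι) : Set ↥(W U) :=
  Subtype.val ⁻¹' ((⨅ j, U (k.2 j) : Opens X) : Set X)

lemma mem_A (k : Σ p : ℕ, Fin (p + 1) → ι) (x : ↥(W U)) :
    x ∈ A U k ↔ ∀ j, x.1 ∈ U (k.2 j) := by
  show x.1 ∈ ((⨅ j, U (k.2 j) : Opens X) : Set X) ↔ _
  rw [Opens.coe_iInf]
  simp

lemma basis (V : Set ↥(W U)) (hV : @IsOpen _ (τ U) V) (x : ↥(W U)) (hx : x ∈ V) :
    ∃ k, x ∈ A U k ∧ A U k ⊆ V := by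
  have hV' : TopologicalSpace.GenerateOpen {s | ∃ i, s = Subtype.val ⁻¹' (U i : Set X)} V := hV
  clear hV
  induction hV' generalizing x with
  | basic s hs =>
    obtain ⟨i, rfl⟩ := hs
    refine ⟨⟨0, fun _ => i⟩, ?_, ?_⟩
    · rw [mem_A]; intro j; exact hx
    · intro y hy
      rw [mem_A] at hy
      exact hy 0
  | univ =>
    obtain ⟨i, hi⟩ := Opens.mem_iSup.1 x.2
    refine ⟨⟨0, fun _ => i⟩, ?_, Set.subset_univ _⟩
    rw [mem_A]; intro j; exact hi
  | inter s t _ _ ihs iht =>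
    obtain ⟨⟨p, a⟩, h1, h2⟩ := ihs x hx.1
    obtain ⟨⟨q, b⟩, h3, h4⟩ := iht x hx.2
    rw [mem_A] at h1 h3
    refine ⟨⟨p + 1 + q, (Fin.append a b : Fin ((p + 1) + (q + 1)) → ι)⟩, ?_, ?_⟩
    · rw [mem_A]
      show ∀ j : Fin ((p + 1) + (q + 1)), x.1 ∈ U (Fin.append a b j)
      intro j
      induction j using Fin.addCases with
      | left j => simpa using h1 j
      | right j => simpa using h3 j
    · intro y hy
      rw [mem_A] at hy
      refine ⟨h2 ?_, h4 ?_⟩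
      · rw [mem_A]; intro j
        simpa using hy (Fin.castAdd (q + 1) j)
      · rw [mem_A]; intro j
        simpa using hy (Fin.natAdd (p + 1) j)
  | sUnion S _ ih =>
    obtain ⟨s, hs, hxs⟩ := hx
    obtain ⟨k, h1, h2⟩ := ih s hs x hxs
    exact ⟨k, h1, h2.trans (Set.subset_sUnion_of_mem hs)⟩

/-- a coarse open, as an open of `X` -/
noncomputable def jj : Opens (Y U) ⥤ Opens X :=
  Opens.map (c U) ⋙ (W U).isOpenEmbedding.isOpenMap.functor

/-- the underlying set of a coarse open -/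
def car (V : Opens (Y U)) : Set ↥(W U) := V.1

lemma car_open (V : Opens (Y U)) : @IsOpen _ (τ U) (car U V) := V.2

lemma mem_jj (V : Opens (Y U)) (x : X) :
    x ∈ (jj U).obj V ↔ ∃ h : x ∈ W U, (⟨x, h⟩ : ↥(W U)) ∈ car U V := by
  constructor
  · rintro ⟨y, hy, rfl⟩
    exact ⟨y.2, hy⟩
  · rintro ⟨h, hx⟩
    exact ⟨⟨x, h⟩, hx, rfl⟩

/-- the index type of the basic opens inside `V` -/
abbrev K (V : Opens (Y U)) : Type u := {k : Σ p : ℕ, Fin (p + 1) → ι // A U k ⊆ car U V}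

lemma jj_eq (V : Opens (Y U)) :
    (jj U).obj V = ⨆ k : K U V, ⨅ j, U (k.1.2 j) := by
  apply le_antisymm
  · intro x hx
    obtain ⟨h, hx⟩ := (mem_jj U V x).1 hx
    obtain ⟨k, h1, h2⟩ := basis U (car U V) (car_open U V) ⟨x, h⟩ hx
    exact Opens.mem_iSup.2 ⟨⟨k, h2⟩, h1⟩
  · intro x hx
    obtain ⟨k, hk⟩ := Opens.mem_iSup.1 hx
    have hk' : ∀ j, x ∈ U (k.1.2 j) := by
      have : x ∈ ((⨅ j, U (k.1.2 j) : Opens X) : Set X) := hk
      rw [Opens.coe_iInf] at this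
      simpa using this
    have hW : x ∈ W U := Opens.mem_iSup.2 ⟨_, hk' 0⟩
    exact (mem_jj U V x).2 ⟨hW, k.2 ((mem_A U k.1 ⟨x, hW⟩).2 hk')⟩

lemma jj_le (V : Opens (Y U)) : (jj U).obj V ≤ W U := by
  intro x hx
  exact ((mem_jj U V x).1 hx).1

variable (F : CohTop.Ab X)

/-- the sheaf on the coarse space -/
noncomputable def G : CohTop.Ab (Y U) := (CohTop.push (c U)).obj (CohTop.restr F (W U))

lemma G_map {V V' : (Opens (Y U))ᵒᵖ} (i : V ⟶ V') :
    (G U F).obj.map i = F.obj.map ((jj U).map i.unop).op := rfl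

variable (h : ∀ (κ : Type u) (a : κ → Σ p : ℕ, Fin (p + 1) → ι),
      Function.Surjective (F.obj.map (homOfLE
        (iSup_le fun k => (iInf_le _ ⟨0, Nat.succ_pos _⟩).trans (le_iSup U ((a k).2 ⟨0, Nat.succ_pos _⟩)) :
          (⨆ k, ⨅ j, U ((a k).2 j)) ≤ iSup U)).op))

include h in
lemma surj (O O' : Opens X) (hO : O ≤ O') (hO' : O' ≤ W U)
    (hrep : ∃ (κ : Type u) (a : κ → Σ p : ℕ, Fin (p + 1) → ι), O = ⨆ k, ⨅ j, U ((a k).2 j)) :
    Function.Surjective (F.obj.map (homOfLE hO).op) := by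
  obtain ⟨κ, a, rfl⟩ := hrep
  have h1 := h κ a
  have h2 : F.obj.map (homOfLE
        (iSup_le fun k => (iInf_le _ ⟨0, Nat.succ_pos _⟩).trans (le_iSup U ((a k).2 ⟨0, Nat.succ_pos _⟩)) :
          (⨆ k, ⨅ j, U ((a k).2 j)) ≤ iSup U)).op =
      F.obj.map (homOfLE hO').op ≫ F.obj.map (homOfLE hO).op := by
    rw [← F.obj.map_comp]
    rfl
  rw [h2] at h1
  intro y
  obtain ⟨z, hz⟩ := h1 y
  exact ⟨_, hz⟩

include h in
lemma isFlasque_G : TopCat.Sheaf.IsFlasque (G U F) where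
  epi {V V'} i := by
    rw [AddCommGrpCat.epi_iff_surjective, G_map]
    exact surj U F h _ _ (leOfHom ((jj U).map i.unop)) (jj_le U _) ⟨K U V'.unop, fun k => k.1, jj_eq U _⟩

section transfer

variable {D₁ D₂ : Type u} [SmallCategory D₁] [SmallCategory D₂] [HasFiniteProducts D₁]
  [HasFiniteProducts D₂] {ι' : Type u} (U₁ : ι' → D₁) (U₂ : ι' → D₂)
  (Q₁ : D₁ᵒᵖ ⥤ AddCommGrpCat.{u}) (Q₂ : D₂ᵒᵖ ⥤ AddCommGrpCat.{u})

/-- Isomorphism of Čech complexes from termwise isomorphisms compatible with the faces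
(as in helper2's `CechTr.cechIso`; restated here to keep the import closure small). -/
noncomputable def cechIso
    (e : ∀ (n : ℕ) (a : Fin (n + 1) → ι'), Cech.Z U₁ Q₁ n a ≅ Cech.Z U₂ Q₂ n a)
    (he : ∀ (n : ℕ) (b : Fin (n + 2) → ι') (i : Fin (n + 2)),
      Q₁.map (Cech.face U₁ b i).op ≫ (e (n + 1) b).hom =
        (e n (b ∘ Fin.succAbove i)).hom ≫ Q₂.map (Cech.face U₂ b i).op) :
    (cechComplexFunctor U₁).obj Q₁ ≅ (cechComplexFunctor U₂).obj Q₂ := by
  let E : ∀ n, (∏ᶜ Cech.Z U₁ Q₁ n : AddCommGrpCat.{u}) ⟶ ∏ᶜ Cech.Z U₂ Q₂ n :=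
    fun n => Limits.Pi.map (fun a => (e n a).hom)
  let E' : ∀ n, (∏ᶜ Cech.Z U₂ Q₂ n : AddCommGrpCat.{u}) ⟶ ∏ᶜ Cech.Z U₁ Q₁ n :=
    fun n => Limits.Pi.map (fun a => (e n a).inv)
  have h1 : ∀ n, E n ≫ E' n = 𝟙 _ := by
    intro n
    apply Limits.Pi.hom_ext
    intro a
    simp only [E, E', Category.assoc, Limits.Pi.map_π, Limits.Pi.map_π_assoc, Iso.hom_inv_id,
      Category.comp_id, Category.id_comp]
  have h2 : ∀ n, E' n ≫ E n = 𝟙 _ := by
    intro n
    apply Limits.Pi.hom_ext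
    intro a
    simp only [E, E', Category.assoc, Limits.Pi.map_π, Limits.Pi.map_π_assoc, Iso.inv_hom_id,
      Category.comp_id, Category.id_comp]
  have hδ : ∀ n (i : Fin (n + 2)),
      Cech.δ' U₁ Q₁ n i ≫ E (n + 1) = E n ≫ Cech.δ' U₂ Q₂ n i := by
    intro n i
    apply Limits.Pi.hom_ext
    intro b
    simp only [E, Cech.δ', Category.assoc, Limits.Pi.map_π, Limits.Pi.lift_π,
      Limits.Pi.lift_π_assoc, Limits.Pi.map_π_assoc]
    rw [he]
  have hd : ∀ n, Cech.d' U₁ Q₁ n ≫ E (n + 1) = E n ≫ Cech.d' U₂ Q₂ n := by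
    intro n
    rw [Cech.d'_eq, Cech.d'_eq, Preadditive.sum_comp, Preadditive.comp_sum]
    refine Finset.sum_congr rfl (fun i _ => ?_)
    rw [Preadditive.zsmul_comp, Preadditive.comp_zsmul, hδ]
  refine HomologicalComplex.Hom.isoOfComponents
    (fun n => (⟨E n, E' n, h1 n, h2 n⟩ :
      ((cechComplexFunctor U₁).obj Q₁).X n ≅ ((cechComplexFunctor U₂).obj Q₂).X n)) ?_
  intro i j hij
  obtain rfl : i + 1 = j := hij
  exact (hd i).symm

end transfer

/-- the family on the coarse space -/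
def U' (i : ι) : Opens (Y U) :=
  ⟨Subtype.val ⁻¹' (U i : Set X), TopologicalSpace.GenerateOpen.basic _ ⟨i, rfl⟩⟩

lemma mem_car_prod {n : ℕ} (a : Fin (n + 1) → ι) (x : ↥(W U)) :
    x ∈ car U (∏ᶜ (U' U ∘ a)) ↔ ∀ k, x.1 ∈ U (a k) := by
  constructor
  · intro hx k
    exact leOfHom (Limits.Pi.π (U' U ∘ a) k) hx
  · intro hx
    have h1 : (⨅ k, U' U (a k) : Opens (Y U)) ≤ ∏ᶜ (U' U ∘ a) :=
      leOfHom (Limits.Pi.lift (fun k => homOfLE (iInf_le (fun k => U' U (a k)) k)))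
    apply h1
    have h2 : ((⨅ k, U' U (a k) : Opens (Y U)) : Set (Y U)) = ⋂ k, (U' U (a k) : Set (Y U)) :=
      Opens.coe_iInf _
    have h3 : (show (Y U) from x) ∈ ⋂ k, (U' U (a k) : Set (Y U)) := Set.mem_iInter.2 (fun k => hx k)
    rw [← h2] at h3
    exact h3

lemma jj_prod {n : ℕ} (a : Fin (n + 1) → ι) :
    (jj U).obj (∏ᶜ (U' U ∘ a)) = ∏ᶜ (U ∘ a) := by
  apply le_antisymm
  · intro x hx
    obtain ⟨h, hx⟩ := (mem_jj U _ x).1 hx
    rw [mem_car_prod] at hx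
    have h1 : (⨅ k, U (a k) : Opens X) ≤ ∏ᶜ (U ∘ a) :=
      leOfHom (Limits.Pi.lift (fun k => homOfLE (iInf_le (fun k => U (a k)) k)))
    apply h1
    show x ∈ ((⨅ k, U (a k) : Opens X) : Set X)
    rw [Opens.coe_iInf]
    simpa using hx
  · intro x hx
    have hk : ∀ k, x ∈ U (a k) := fun k => leOfHom (Limits.Pi.π (U ∘ a) k) hx
    have hW : x ∈ W U := Opens.mem_iSup.2 ⟨_, hk 0⟩
    exact (mem_jj U _ x).2 ⟨hW, (mem_car_prod U a ⟨x, hW⟩).2 hk⟩

/-- the termwise identifications -/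
noncomputable def eZ (n : ℕ) (a : Fin (n + 1) → ι) :
    Cech.Z (U' U) (G U F).obj n a ≅ Cech.Z U F.obj n a :=
  F.obj.mapIso (eqToIso (congrArg op (jj_prod U a)))

/-- the Čech complex of `G` on the coarse space is the Čech complex of `F` -/
noncomputable def cechIsoG :
    (cechComplexFunctor (U' U)).obj (G U F).obj ≅ (cechComplexFunctor U).obj F.obj :=
  cechIso (U' U) U (G U F).obj F.obj (eZ U F) (by
    intro n b i
    show F.obj.map ((jj U).map (Cech.face (U' U) b i)).op ≫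
        F.obj.map (eqToHom (congrArg op (jj_prod U b))) =
      F.obj.map (eqToHom (congrArg op (jj_prod U (b ∘ Fin.succAbove i)))) ≫
        F.obj.map (Cech.face U b i).op
    exact (F.obj.map_comp _ _).symm.trans
      ((congrArg F.obj.map (Subsingleton.elim _ _)).trans (F.obj.map_comp _ _)))

include h in
theorem main (p : ℕ) : IsZero (CohTop.cechH F.obj U (p + 1)) := by
  have := isFlasque_G U F h
  have h1 : IsZero (CohTop.cechH (G U F).obj (U' U) (p + 1)) :=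
    Groth.Agent.S0455.result (G U F) (U' U) p
  exact h1.of_iso ((HomologicalComplex.homologyFunctor _ _ (p + 1)).mapIso (cechIsoG U F).symm)

end CechSurj

end Groth.Agent.Lib.helper27
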