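import Mathlib
import Groth.Prelude.Def_CohTop
import Groth.Agent.Lib.Helper27.StalkAb
import Groth.Agent.Lib.Helper27.PullFunTop

set_option autoImplicit false
set_option linter.unusedSectionVars false
set_option linter.unusedVariables false

namespace Groth.Agent.Lib.helper27

open CategoryTheory Limits Opposite TopologicalSpace

universe u

namespace ClosedR

open PullConst StalkAb

variable {X : TopCat.{u}} (F : CohTop.Ab X)

section Over

lemma key_comp {Y'' Y' Y : TopCat.{u}} (h : Y'' ⟶ Y') (g : Y' ⟶ Y) (a : Y ⟶ X) (a' : Y' ⟶ X)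
    (a'' : Y'' ⟶ X) (w : g ≫ a = a') (w' : h ≫ a' = a'') (w'' : (h ≫ g) ≫ a = a'') :
    (CohTop.push a).map (PullFunTop.θ F (h ≫ g) a a'' w'') ≫
        eqToHom (PullFunTop.push_obj_eq (h ≫ g) a a'' w'' _).symm =
      ((CohTop.push a).map (PullFunTop.θ F g a a' w) ≫
        eqToHom (PullFunTop.push_obj_eq g a a' w _).symm) ≫
      (CohTop.push a').map (PullFunTop.θ F h a' a'' w') ≫
        eqToHom (PullFunTop.push_obj_eq h a' a'' w' _).symm := by
  subst w
  subst w'
  have e := PullFunTop.θ_comp F h g a (g ≫ a) (h ≫ g ≫ a) rfl rfl w''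
  have h1 : (CohTop.push a).map (PullFunTop.θ F (h ≫ g) a (h ≫ g ≫ a) w'') =
      (CohTop.push a).map (PullFunTop.θ F g a (g ≫ a) rfl) ≫
        (CohTop.push (g ≫ a)).map (PullFunTop.θ F h (g ≫ a) (h ≫ g ≫ a) rfl) := by
    rw [e]
    exact (CohTop.push a).map_comp _ _
  have h2 : ∀ {P Q R : CohTop.Ab X} (A : P ⟶ Q) (B : Q ⟶ R), (A ≫ 𝟙 _) ≫ B ≫ 𝟙 _ = A ≫ B := by
    intros
    simp
  exact ((Category.comp_id _).trans h1).trans (h2 _ _).symm

lemma key_id {Y : TopCat.{u}} (a : Y ⟶ X) (w : 𝟙 Y ≫ a = a) :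
    (CohTop.push a).map (PullFunTop.θ F (𝟙 Y) a a w) ≫
        eqToHom (PullFunTop.push_obj_eq (𝟙 Y) a a w _).symm = 𝟙 _ := by
  rw [PullFunTop.θ_id]
  exact (Category.comp_id _).trans ((CohTop.push a).map_id _)

/-- the functor `A ↦ a_* a⁻¹ F` on spaces over `X` -/
noncomputable def Ψo : (Over X)ᵒᵖ ⥤ CohTop.Ab X where
  obj A := (CohTop.push A.unop.hom).obj ((CohTop.pull A.unop.hom).obj F)
  map {A A'} g := (CohTop.push A.unop.hom).map
      (PullFunTop.θ F g.unop.left A.unop.hom A'.unop.hom (Over.w g.unop)) ≫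
    eqToHom (PullFunTop.push_obj_eq g.unop.left A.unop.hom A'.unop.hom (Over.w g.unop) _).symm
  map_id A := key_id F A.unop.hom _
  map_comp {A A' A''} g h :=
    key_comp F h.unop.left g.unop.left A.unop.hom A'.unop.hom A''.unop.hom
      (Over.w g.unop) (Over.w h.unop) (Over.w (h.unop ≫ g.unop))

/-- the unit `F ⟶ a_* a⁻¹ F` -/
noncomputable def η (A : Over X) : F ⟶ (Ψo F).obj (op A) := (pbAdj A.hom).unit.app F

lemma η_map {A A' : Over X} (g : A' ⟶ A) : η F A ≫ (Ψo F).map g.op = η F A' := by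
  dsimp only [η, Ψo]
  rw [← Category.assoc, PullFunTop.homEquiv_θ, Category.assoc, eqToHom_trans, eqToHom_refl,
    Category.comp_id]

end Over

/-- the inclusion of a subset -/
abbrev incl (Z : Set X) : TopCat.of Z ⟶ X := TopCat.ofHom ⟨Subtype.val, continuous_subtype_val⟩

/-- the inclusion between subsets -/
abbrev inclMap {Z Z' : Set X} (h : Z ⊆ Z') : TopCat.of Z ⟶ TopCat.of Z' :=
  TopCat.ofHom ⟨Set.inclusion h, continuous_inclusion h⟩

/-- subsets as spaces over `X` -/
def ov : Set X ⥤ Over X where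
  obj Z := Over.mk (incl Z)
  map {Z Z'} h := Over.homMk (inclMap (leOfHom h)) rfl
  map_id Z := by
    apply Over.OverMorphism.ext
    rfl
  map_comp f g := by
    apply Over.OverMorphism.ext
    rfl

/-- the functor `Z ↦ (i_Z)_* (i_Z)⁻¹ F` on subsets of `X` -/
noncomputable def R : (Set X)ᵒᵖ ⥤ CohTop.Ab X := ov.op ⋙ Ψo F

lemma R_obj (Z : Set X) :
    (R F).obj (op Z) = (CohTop.push (incl Z)).obj ((CohTop.pull (incl Z)).obj F) := rfl

/-- the unit `F ⟶ R Z` -/
noncomputable def ηR (Z : Set X) : F ⟶ (R F).obj (op Z) := η F (ov.obj Z)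

lemma ηR_map {Z Z' : Set X} (h : Z ⟶ Z') : ηR F Z' ≫ (R F).map h.op = ηR F Z :=
  η_map F (ov.map h)

lemma isInducing_incl (Z : Set X) : Topology.IsInducing (incl Z) :=
  Topology.IsInducing.subtypeVal

lemma range_incl (Z : Set X) : Set.range (incl Z) = Z := Subtype.range_val

lemma isIso_stk_ηR (Z : Set X) (x : X) (hx : x ∈ Z) : IsIso ((stk x).map (ηR F Z)) :=
  isIso_stk_unit (incl Z) (isInducing_incl Z) F ⟨x, hx⟩

lemma isZero_stk_R (Z : Set X) (hZ : IsClosed Z) (x : X) (hx : x ∉ Z) :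
    IsZero ((stk x).obj ((R F).obj (op Z))) := by
  apply isZero_stk_push (incl Z) (by rw [range_incl]; exact hZ)
  rw [range_incl]
  exact hx

lemma subsingleton_R (Z : Set X) (V : Opens X) (hV : Disjoint (V : Set X) Z) :
    Subsingleton (((R F).obj (op Z)).obj.obj (op V)) := by
  apply subsingleton_push (incl Z)
  rw [range_incl]
  exact hV

end ClosedR

end Groth.Agent.Lib.helper27
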