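import Mathlib
import Groth.Prelude.Def_CohTop
import Groth.Agent.Lib.Helper27.ClosedR
import Groth.Agent.Lib.Helper27.CechAbs

set_option autoImplicit false
set_option linter.unusedSectionVars false
set_option linter.unusedVariables false

namespace Groth.Agent.Lib.helper27

open CategoryTheory Limits Opposite TopologicalSpace Simplicial SimplicialObject

universe u

namespace ClosedCech

open StalkAb ClosedR

variable {X : TopCat.{u}} (F : CohTop.Ab X)

/-- evaluation of `R` on formal coproducts of subsets -/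
noncomputable def Φ : (FormalCoproduct.{u} (Set X))ᵒᵖ ⥤ CohTop.Ab X :=
  (FormalCoproduct.evalOp _ _).obj (R F)

lemma Φ_obj (A : FormalCoproduct.{u} (Set X)) :
    (Φ F).obj (op A) = ∏ᶜ fun i : A.I => (R F).obj (op (A.obj i)) := rfl

lemma Φ_map_π {A B : FormalCoproduct.{u} (Set X)} (f : A ⟶ B) (i : A.I) :
    (Φ F).map f.op ≫ Pi.π (fun i : A.I => (R F).obj (op (A.obj i))) i =
      Pi.π (fun i : B.I => (R F).obj (op (B.obj i))) (f.f i) ≫ (R F).map (f.φ i).op := by
  dsimp [Φ, FormalCoproduct.evalOp]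
  simp

variable (x : X)

/-- the members of a family which contain the point `x` -/
def Λ : FormalCoproduct.{u} (Set X) ⥤ Type u where
  obj A := {j : A.I // x ∈ A.obj j}
  map {A B} f := TypeCat.ofHom (fun j => ⟨f.f j.1, leOfHom (f.φ j.1) j.2⟩)
  map_id A := by
    ext j
    rfl
  map_comp f g := by
    ext j
    rfl

/-- the stalk of `F` at `x` -/
noncomputable abbrev Fx : AddCommGrpCat.{u} := (stk x).obj F

/-- functions with values in the stalk -/
noncomputable def Ψx : (Type u)ᵒᵖ ⥤ AddCommGrpCat.{u} where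
  obj S := ∏ᶜ (fun _ : S.unop => Fx F x)
  map {S S'} g := Pi.lift (fun s => Pi.π (fun _ : S.unop => Fx F x) (g.unop s))
  map_id S := by
    apply Pi.hom_ext
    intro s
    simp
  map_comp g h := by
    apply Pi.hom_ext
    intro s
    simp

/-- the inverse of the stalk of the unit -/
noncomputable def ηinv (Z : Set X) (hx : x ∈ Z) : (stk x).obj ((R F).obj (op Z)) ⟶ Fx F x :=
  @inv _ _ _ _ ((stk x).map (ηR F Z)) (isIso_stk_ηR F Z x hx)

lemma η_ηinv (Z : Set X) (hx : x ∈ Z) : (stk x).map (ηR F Z) ≫ ηinv F x Z hx = 𝟙 _ :=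
  @IsIso.hom_inv_id _ _ _ _ ((stk x).map (ηR F Z)) (isIso_stk_ηR F Z x hx)

lemma ηinv_η (Z : Set X) (hx : x ∈ Z) : ηinv F x Z hx ≫ (stk x).map (ηR F Z) = 𝟙 _ :=
  @IsIso.inv_hom_id _ _ _ _ ((stk x).map (ηR F Z)) (isIso_stk_ηR F Z x hx)

lemma ηinv_map {Z Z' : Set X} (h : Z ⟶ Z') (hx : x ∈ Z) :
    (stk x).map ((R F).map h.op) ≫ ηinv F x Z hx = ηinv F x Z' (leOfHom h hx) := by
  have e : (stk x).map (ηR F Z') ≫ (stk x).map ((R F).map h.op) = (stk x).map (ηR F Z) := by
    rw [← Functor.map_comp, ηR_map]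
  calc (stk x).map ((R F).map h.op) ≫ ηinv F x Z hx
      = (ηinv F x Z' (leOfHom h hx) ≫ (stk x).map (ηR F Z')) ≫
          (stk x).map ((R F).map h.op) ≫ ηinv F x Z hx := by
        rw [ηinv_η, Category.id_comp]
    _ = ηinv F x Z' (leOfHom h hx) := by
        rw [Category.assoc, ← Category.assoc ((stk x).map (ηR F Z')), e, η_ηinv, Category.comp_id]

lemma Ψx_map_π {S S' : Type u} (g : S ⟶ S') (s : S) :
    (Ψx F x).map g.op ≫ Pi.π (fun _ : S => Fx F x) s = Pi.π (fun _ : S' => Fx F x) (g s) := by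
  dsimp only [Ψx]
  exact Pi.lift_π _ _

/-- the components of `τ` -/
noncomputable def τapp (A : FormalCoproduct.{u} (Set X)) :
    (stk x).obj ((Φ F).obj (op A)) ⟶ (Ψx F x).obj (op ((Λ x).obj A)) :=
  Pi.lift (fun j : (Λ x).obj A =>
    (stk x).map (Pi.π (fun i : A.I => (R F).obj (op (A.obj i))) j.1) ≫ ηinv F x (A.obj j.1) j.2)

lemma τapp_π (A : FormalCoproduct.{u} (Set X)) (j : (Λ x).obj A) :
    τapp F x A ≫ Pi.π (fun _ : (Λ x).obj A => Fx F x) j =
      (stk x).map (Pi.π (fun i : A.I => (R F).obj (op (A.obj i))) j.1) ≫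
        ηinv F x (A.obj j.1) j.2 := by
  dsimp only [τapp]
  exact Pi.lift_π _ _

lemma τapp_naturality {A B : FormalCoproduct.{u} (Set X)} (f : A ⟶ B) :
    (stk x).map ((Φ F).map f.op) ≫ τapp F x A =
      τapp F x B ≫ (Ψx F x).map ((Λ x).map f).op := by
  refine Pi.hom_ext (f := fun _ : (Λ x).obj A => Fx F x) _ _ (fun j => ?_)
  erw [Category.assoc, Category.assoc, τapp_π, Ψx_map_π, τapp_π]
  have e := Φ_map_π F f j.1
  have e' : (stk x).map ((Φ F).map f.op) ≫ (stk x).map (Pi.π _ j.1) =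
      (stk x).map (Pi.π _ (f.f j.1)) ≫ (stk x).map ((R F).map (f.φ j.1).op) := by
    rw [← Functor.map_comp, ← Functor.map_comp]
    exact congrArg (stk x).map e
  exact (Category.assoc _ _ _).symm.trans
    ((congrArg (· ≫ ηinv F x (A.obj j.1) j.2) e').trans
      ((Category.assoc _ _ _).trans
        (congrArg ((stk x).map (Pi.π (fun i : B.I => (R F).obj (op (B.obj i))) (f.f j.1)) ≫ ·)
          (ηinv_map F x (f.φ j.1) j.2))))

/-- the comparison of the stalk of `Φ` with the functions on the members containing `x` -/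
noncomputable def τ : Φ F ⋙ stk x ⟶ (Λ x).op ⋙ Ψx F x where
  app A := τapp F x A.unop
  naturality {A B} f := τapp_naturality F x f.unop

section iso

variable (A : FormalCoproduct.{u} (Set X)) (hcl : ∀ j, IsClosed (A.obj j))
  (hlf : LocallyFinite A.obj)

include hlf in
lemma isIso_piComparison_Φ :
    IsIso (piComparison (stk x) (fun i : A.I => (R F).obj (op (A.obj i)))) := by
  obtain ⟨t, ht, hfin⟩ := hlf x
  obtain ⟨W, hWt, hWo, hxW⟩ := mem_nhds_iff.1 ht
  refine isIso_piComparison _ x hfin.toFinset ⟨W, hWo⟩ hxW (fun j hj V hV => ?_)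
  apply subsingleton_R
  rw [Set.disjoint_left]
  intro y hyV hyZ
  apply hj
  rw [Set.Finite.mem_toFinset]
  exact ⟨y, hyZ, hWt (hV hyV)⟩

/-- the second half of `τ` -/
noncomputable def τ₂ : (∏ᶜ fun i : A.I => (stk x).obj ((R F).obj (op (A.obj i)))) ⟶
    (Ψx F x).obj (op ((Λ x).obj A)) :=
  Pi.lift (fun j : (Λ x).obj A => Pi.π _ j.1 ≫ ηinv F x (A.obj j.1) j.2)

lemma τ_eq : (τ F x).app (op A) =
    piComparison (stk x) (fun i : A.I => (R F).obj (op (A.obj i))) ≫ τ₂ F x A := by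
  refine Pi.hom_ext (f := fun _ : (Λ x).obj A => Fx F x) _ _ (fun j => ?_)
  refine (τapp_π F x A j).trans ?_
  dsimp only [τ₂, Ψx]
  erw [Category.assoc, Pi.lift_π, piComparison_comp_π_assoc]

include hcl in
lemma isIso_τ₂ : IsIso (τ₂ F x A) := by
  classical
  refine ⟨⟨Pi.lift (fun i => if h : x ∈ A.obj i then
    Pi.π (fun _ : (Λ x).obj A => Fx F x) ⟨i, h⟩ ≫ (stk x).map (ηR F (A.obj i)) else 0), ?_, ?_⟩⟩
  · apply Pi.hom_ext
    intro i
    rw [Category.assoc, Pi.lift_π, Category.id_comp]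
    by_cases h : x ∈ A.obj i
    · rw [dif_pos h]
      dsimp only [τ₂, Ψx]
      rw [Pi.lift_π_assoc, Category.assoc, ηinv_η, Category.comp_id]
    · exact (isZero_stk_R F (A.obj i) (hcl i) x h).eq_of_tgt _ _
  · apply Pi.hom_ext
    intro j
    dsimp only [τ₂, Ψx]
    rw [Category.assoc, Pi.lift_π, Pi.lift_π_assoc, dif_pos j.2, Category.assoc, η_ηinv,
      Category.comp_id, Category.id_comp]
    rfl

include hcl hlf in
lemma isIso_τ : IsIso ((τ F x).app (op A)) := by
  rw [τ_eq]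
  have h1 := isIso_piComparison_Φ F x A hlf
  have h2 := isIso_τ₂ F x A hcl
  exact @IsIso.comp_isIso _ _ _ _ _ _ _ h1 h2

end iso

section cech

variable {I : Type u} (U : I → Set X)

lemma prod_eq {α : Type} (g : α → Set X) : (∏ᶜ g : Set X) = ⋂ a, g a := by
  apply le_antisymm
  · exact Set.subset_iInter (fun a => leOfHom (Pi.π g a))
  · exact leOfHom (Pi.lift (fun a => homOfLE (Set.iInter_subset g a)))

lemma mem_prod_iff {α : Type} (g : α → Set X) (y : X) : y ∈ (∏ᶜ g : Set X) ↔ ∀ a, y ∈ g a := by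
  rw [prod_eq, Set.mem_iInter]

/-- the family as a formal coproduct -/
abbrev 𝒰 : FormalCoproduct.{u} (Set X) := ⟨I, U⟩

/-- the augmented Čech object of the family -/
noncomputable def Y : SimplicialObject.Augmented (FormalCoproduct.{u} (Set X)) :=
  (𝒰 U).cech.augmentOfIsTerminal (FormalCoproduct.isTerminalIncl (⊤ : Set X) isTerminalTop)

lemma Y_left_obj (n : SimplexCategoryᵒᵖ) :
    (Y U).left.obj n = (𝒰 U).power (ToType n.unop) := rfl

lemma Y_right : (Y U).right = (FormalCoproduct.incl (Set X)).obj ⊤ := rfl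

lemma isClosed_Y (hU : ∀ i, IsClosed (U i)) (n : SimplexCategoryᵒᵖ)
    (σ : ((Y U).left.obj n).I) : IsClosed (((Y U).left.obj n).obj σ) := by
  show IsClosed (∏ᶜ (U ∘ σ) : Set X)
  rw [prod_eq]
  exact isClosed_iInter (fun a => hU _)

lemma locallyFinite_Y (hlf : LocallyFinite U) (n : SimplexCategoryᵒᵖ) :
    LocallyFinite ((Y U).left.obj n).obj := by
  intro y
  obtain ⟨t, ht, hfin⟩ := hlf y
  refine ⟨t, ht, ?_⟩
  have : Finite (ToType n.unop) := inferInstanceAs (Finite (Fin (n.unop.len + 1)))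
  refine Set.Finite.subset (Set.Finite.pi (fun _ : ToType n.unop => hfin)) ?_
  intro σ hσ
  obtain ⟨z, hz, hzt⟩ := hσ
  intro a _
  exact ⟨z, (mem_prod_iff (U ∘ σ) z).1 hz a, hzt⟩

/-- the extra degeneracy at a point of `U i₀` -/
noncomputable def ed (i₀ : I) (hx : x ∈ U i₀) :
    Augmented.ExtraDegeneracy (((Augmented.whiskering _ _).obj (Λ x)).obj (Y U)) where
  s' := TypeCat.ofHom (fun _ => ⟨fun _ => i₀, (mem_prod_iff _ x).2 (fun _ => hx)⟩)
  s n := TypeCat.ofHom (fun σ => ⟨(Fin.cons i₀ (σ.1 : Fin (n + 1) → I) : Fin (n + 2) → I),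
    (mem_prod_iff _ x).2 (fun a => by
      have h := (mem_prod_iff _ x).1 σ.2
      induction a using Fin.cases with
      | zero => exact hx
      | succ a => exact h a)⟩)
  s'_comp_ε := by
    ext j
    rfl
  s₀_comp_δ₁ := by
    ext σ
    apply Subtype.ext
    funext a
    fin_cases a
    rfl
  s_comp_δ₀ n := by
    ext σ
    apply Subtype.ext
    funext a
    rfl
  s_comp_δ n i := by
    ext σ
    apply Subtype.ext
    funext a
    induction a using Fin.cases with
    | zero =>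
      show (Fin.cons i₀ (σ.1 : Fin (n + 2) → I) : Fin (n + 3) → I) (i.succ.succAbove 0) = i₀
      rw [Fin.succ_succAbove_zero, Fin.cons_zero]
    | succ a =>
      show (Fin.cons i₀ (σ.1 : Fin (n + 2) → I) : Fin (n + 3) → I) (i.succ.succAbove a.succ) =
        (σ.1 : Fin (n + 2) → I) (i.succAbove a)
      rw [Fin.succ_succAbove_succ, Fin.cons_succ]
  s_comp_σ n i := by
    ext σ
    apply Subtype.ext
    funext a
    induction a using Fin.cases with
    | zero =>
      show (Fin.cons i₀ (σ.1 : Fin (n + 1) → I) : Fin (n + 2) → I) (i.succ.predAbove 0) = i₀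
      rw [Fin.predAbove_right_zero, Fin.cons_zero]
    | succ a =>
      show (Fin.cons i₀ (σ.1 : Fin (n + 1) → I) : Fin (n + 2) → I) (i.succ.predAbove a.succ) =
        (σ.1 : Fin (n + 1) → I) (i.predAbove a)
      rw [Fin.succ_predAbove_succ, Fin.cons_succ]

end cech

section main

variable {I : Type u} (U : I → Set X) (hU : ∀ i, IsClosed (U i)) (hlf : LocallyFinite U)
  (hcov : ⋃ i, U i = Set.univ)

include hU hlf hcov in
theorem quasiIso_ε' : QuasiIso (CechAbs.ε' (Y U) (Φ F)) := by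
  apply CechAbs.quasiIso_of_joint' (Y U) (Φ F) (fun x => stk x) (fun f h => isIso_of_stk f h)
  intro x
  obtain ⟨i₀, hi₀⟩ : ∃ i, x ∈ U i := by
    have : x ∈ ⋃ i, U i := by
      rw [hcov]
      trivial
    exact Set.mem_iUnion.1 this
  refine CechAbs.quasiIso_of_ed (Y U) (Λ x) (Ψx F x) (Φ F ⋙ stk x) (τ F x) (fun n => ?_) ?_
    (ed x U i₀ hi₀)
  · exact isIso_τ F x _ (isClosed_Y U hU n) (locallyFinite_Y U hlf n)
  · have : Finite (Y U).right.I := inferInstanceAs (Finite PUnit.{u + 1})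
    exact isIso_τ F x _ (fun _ => isClosed_univ) (locallyFinite_of_finite _)

/-- the sheaf `R ⊤` is `F` -/
lemma isIso_ηR_top : IsIso (ηR F (⊤ : Set X)) :=
  isIso_of_stk _ (fun x => isIso_stk_ηR F ⊤ x trivial)

/-- the value of `Φ` at the augmentation -/
noncomputable def ΦtopIso : (Φ F).obj (op (Y U).right) ≅ F :=
  (productUniqueIso (fun _ : PUnit.{u + 1} => (R F).obj (op (⊤ : Set X)))) ≪≫
    (@asIso _ _ _ _ _ (isIso_ηR_top F)).symm

include hU hlf hcov in
theorem resolution :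
    Nonempty ((CechAbs.K (Y U) (Φ F)).homology 0 ≅ F) ∧
      ∀ p : ℕ, IsZero ((CechAbs.K (Y U) (Φ F)).homology (p + 1)) := by
  have hq := quasiIso_ε' F U hU hlf hcov
  refine ⟨?_, CechAbs.K_homology_succ hq⟩
  obtain ⟨e⟩ := CechAbs.K_homology_zero hq
  exact ⟨e ≪≫ ΦtopIso F U⟩

end main

end ClosedCech

end Groth.Agent.Lib.helper27
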