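import Mathlib
import Groth.Prelude.Def_CohTop
import Groth.Agent.Lib.Helper27.ClosedR
import Groth.Agent.Lib.Helper27.LerayDegTop
import Groth.Agent.Lib.Helper27.DeltaSeq
import Groth.Agent.Lib.Helper27.TotAcyc

set_option autoImplicit false
set_option linter.unusedSectionVars false
set_option linter.unusedVariables false

namespace Groth.Agent.Lib.helper27

open CategoryTheory Limits Opposite TopologicalSpace

universe u

namespace LFProdCoh

open StalkAb ClosedR LerayDegTop

section ab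

variable {T : Type u} {A B : T → AddCommGrpCat.{u}} (ψ : ∀ t, A t ⟶ B t)

lemma piMap_apply (a : (∏ᶜ A : AddCommGrpCat.{u})) (t : T) :
    Pi.π B t (Limits.Pi.map ψ a) = ψ t (Pi.π A t a) := by
  have h : Limits.Pi.map ψ ≫ Pi.π B t = Pi.π A t ≫ ψ t := Limits.Pi.map_π _ _
  exact congrArg (fun φ => φ a) h

lemma epi_piMap (h : ∀ t, Epi (ψ t)) : Epi (Limits.Pi.map ψ) := by
  rw [AddCommGrpCat.epi_iff_surjective]
  intro b
  have hs : ∀ t, Function.Surjective (ψ t) := fun t => (AddCommGrpCat.epi_iff_surjective _).1 (h t)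
  choose a ha using fun t => hs t (Pi.π B t b)
  refine ⟨(Concrete.productEquiv A).symm a, ?_⟩
  apply (Concrete.productEquiv B).injective
  funext t
  rw [Concrete.productEquiv_apply_apply, Concrete.productEquiv_apply_apply, piMap_apply,
    Concrete.productEquiv_symm_apply_π, ha]

lemma cokerPi : Nonempty (cokernel (Limits.Pi.map ψ) ≅ ∏ᶜ fun t => cokernel (ψ t)) := by
  let S : ShortComplex AddCommGrpCat.{u} :=
    ShortComplex.mk (Limits.Pi.map ψ) (Limits.Pi.map fun t => cokernel.π (ψ t)) (by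
      apply Pi.hom_ext
      intro t
      simp)
  have hepi : Epi S.g := epi_piMap (fun t => cokernel.π (ψ t)) (fun t => inferInstance)
  have hex : S.Exact := by
    rw [ShortComplex.ab_exact_iff]
    intro b hb
    have hb' : ∀ t, cokernel.π (ψ t) (Pi.π B t b) = 0 := fun t => by
      have := piMap_apply (fun t => cokernel.π (ψ t)) b t
      rw [← this]
      show (Pi.π (fun t => cokernel (ψ t)) t) (S.g b) = 0
      rw [hb]
      exact map_zero _
    have hex_t : ∀ t, (ShortComplex.mk (ψ t) (cokernel.π (ψ t)) (cokernel.condition _)).Exact :=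
      fun t => ShortComplex.exact_cokernel (ψ t)
    have : ∀ t, ∃ a, ψ t a = Pi.π B t b := fun t =>
      ((ShortComplex.ab_exact_iff _).1 (hex_t t)) _ (hb' t)
    choose a ha using this
    refine ⟨(Concrete.productEquiv A).symm a, ?_⟩
    apply (Concrete.productEquiv B).injective
    funext t
    show Concrete.productEquiv B (Limits.Pi.map ψ ((Concrete.productEquiv A).symm a)) t = _
    rw [Concrete.productEquiv_apply_apply, Concrete.productEquiv_apply_apply, piMap_apply,
      Concrete.productEquiv_symm_apply_π, ha]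
  exact ⟨IsColimit.coconePointUniqueUpToIso (cokernelIsCokernel _) hex.gIsCokernel⟩

end ab

variable {X : TopCat.{u}} {J : Type u} (Z : J → Set X)

/-- pushforward from the `j`-th subset -/
noncomputable abbrev Pj (j : J) : CohTop.Ab (TopCat.of (Z j)) ⥤ CohTop.Ab X :=
  CohTop.push (incl (Z j))

/-- the product of the pushforwards -/
noncomputable abbrev Pobj (M : ∀ j, CohTop.Ab (TopCat.of (Z j))) : CohTop.Ab X :=
  ∏ᶜ fun j => (Pj Z j).obj (M j)

/-- the product of the pushforwards, on morphisms -/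
noncomputable abbrev Pmap {M M' : ∀ j, CohTop.Ab (TopCat.of (Z j))} (φ : ∀ j, M j ⟶ M' j) :
    Pobj Z M ⟶ Pobj Z M' :=
  Limits.Pi.map fun j => (Pj Z j).map (φ j)

lemma push_additive {X Y : TopCat.{u}} (f : X ⟶ Y) : (CohTop.push f).Additive := inferInstance

instance (j : J) : (Pj Z j).Additive := push_additive (incl (Z j))

section exact

variable (hcl : ∀ j, IsClosed (Z j)) (hlf : LocallyFinite Z)

include hlf in
lemma isIso_piComparison_P (x : X) (M : ∀ j, CohTop.Ab (TopCat.of (Z j))) :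
    IsIso (piComparison (stk x) (fun j => (Pj Z j).obj (M j))) := by
  obtain ⟨t, ht, hfin⟩ := hlf x
  obtain ⟨W, hWt, hWo, hxW⟩ := mem_nhds_iff.1 ht
  refine isIso_piComparison _ x hfin.toFinset ⟨W, hWo⟩ hxW (fun j hj V hV => ?_)
  apply subsingleton_push (incl (Z j))
  rw [range_incl, Set.disjoint_left]
  intro y hyV hyZ
  apply hj
  rw [Set.Finite.mem_toFinset]
  exact ⟨y, hyZ, hWt (hV hyV)⟩

include hcl in
lemma epi_stk_Pj (j : J) {M M' : CohTop.Ab (TopCat.of (Z j))} (g : M ⟶ M') [Epi g] (x : X) :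
    Epi ((stk x).map ((Pj Z j).map g)) := by
  by_cases hx : x ∈ Z j
  · exact epi_stk_push (incl (Z j)) (isInducing_incl (Z j)) g ⟨x, hx⟩
  · have hz : IsZero ((stk x).obj ((Pj Z j).obj M')) := by
      apply isZero_stk_push (incl (Z j)) (by rw [range_incl]; exact hcl j)
      rw [range_incl]
      exact hx
    exact ⟨fun _ _ _ => hz.eq_of_src _ _⟩

include hcl hlf in
lemma epi_Pmap {M M' : ∀ j, CohTop.Ab (TopCat.of (Z j))} (φ : ∀ j, M j ⟶ M' j)
    (hφ : ∀ j, Epi (φ j)) : Epi (Pmap Z φ) := by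
  apply epi_of_stk
  intro x
  have h1 := isIso_piComparison_P Z hlf x M
  have h2 := isIso_piComparison_P Z hlf x M'
  have hsq : (stk x).map (Pmap Z φ) ≫ piComparison (stk x) (fun j => (Pj Z j).obj (M' j)) =
      piComparison (stk x) (fun j => (Pj Z j).obj (M j)) ≫
        Limits.Pi.map (fun j => (stk x).map ((Pj Z j).map (φ j))) := by
    apply Pi.hom_ext
    intro j
    rw [Category.assoc, Category.assoc, piComparison_comp_π, Limits.Pi.map_π, piComparison_comp_π_assoc,
      ← Functor.map_comp, ← Functor.map_comp, Limits.Pi.map_π]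
  have h3 : Epi (Limits.Pi.map (fun j => (stk x).map ((Pj Z j).map (φ j)))) :=
    epi_piMap _ (fun j => by
      have := hφ j
      exact epi_stk_Pj Z hcl j (φ j) x)
  have h4 : (stk x).map (Pmap Z φ) =
      (piComparison (stk x) (fun j => (Pj Z j).obj (M j)) ≫
        Limits.Pi.map (fun j => (stk x).map ((Pj Z j).map (φ j)))) ≫
        inv (piComparison (stk x) (fun j => (Pj Z j).obj (M' j))) := by
    rw [← hsq, Category.assoc, IsIso.hom_inv_id, Category.comp_id]
  rw [h4]
  infer_instance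

/-- the short exact sequence `0 ⟶ M j ⟶ I j ⟶ Q j ⟶ 0` -/
noncomputable abbrev Sj (M : ∀ j, CohTop.Ab (TopCat.of (Z j))) (j : J) :
    ShortComplex (CohTop.Ab (TopCat.of (Z j))) :=
  cokerSES (Injective.ι (M j))

lemma Sj_shortExact (M : ∀ j, CohTop.Ab (TopCat.of (Z j))) (j : J) : (Sj Z M j).ShortExact :=
  cokerSES_shortExact _

instance (M : ∀ j, CohTop.Ab (TopCat.of (Z j))) (j : J) : Injective (Sj Z M j).X₂ :=
  inferInstanceAs (Injective (Injective.under (M j)))

/-- the cokernels -/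
noncomputable abbrev Qj (M : ∀ j, CohTop.Ab (TopCat.of (Z j))) (j : J) :
    CohTop.Ab (TopCat.of (Z j)) := (Sj Z M j).X₃

/-- the product sequence -/
noncomputable abbrev Sprod (M : ∀ j, CohTop.Ab (TopCat.of (Z j))) : ShortComplex (CohTop.Ab X) :=
  TotAcyc.prodS (Opens.grothendieckTopology X) (fun j => (Sj Z M j).map (Pj Z j))

instance (j : J) : PreservesFiniteLimits (Pj Z j) := by
  have := (PullConst.pbAdj (incl (Z j))).rightAdjoint_preservesLimits
  infer_instance

include hcl hlf in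
lemma Sprod_shortExact (M : ∀ j, CohTop.Ab (TopCat.of (Z j))) : (Sprod Z M).ShortExact := by
  have hj : ∀ j, ((Sj Z M j).map (Pj Z j)).ShortExact := by
    intro j
    have hS := Sj_shortExact Z M j
    have hm : Mono (Sj Z M j).f := hS.mono_f
    have he : Epi (Sj Z M j).g := hS.epi_g
    have h1 : ((Sj Z M j).map (Pj Z j)).Exact :=
      hS.exact.map_of_mono_of_preservesKernel (Pj Z j) hm inferInstance
    have h2 : Mono ((Sj Z M j).map (Pj Z j)).f := by
      show Mono ((Pj Z j).map (Sj Z M j).f)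
      infer_instance
    have h3 : Epi ((Sj Z M j).map (Pj Z j)).g := by
      show Epi ((Pj Z j).map (Sj Z M j).g)
      exact epi_of_stk _ (fun x => epi_stk_Pj Z hcl j _ x)
    exact ShortComplex.ShortExact.mk' h1 h2 h3
  obtain ⟨hex, hm⟩ := TotAcyc.prodS_exact_mono (Opens.grothendieckTopology X)
    (fun j => (Sj Z M j).map (Pj Z j)) hj
  refine ShortComplex.ShortExact.mk' hex hm ?_
  exact epi_Pmap Z hcl hlf (fun j => (Sj Z M j).g) (fun j => (Sj_shortExact Z M j).epi_g)

instance (M : ∀ j, CohTop.Ab (TopCat.of (Z j))) : Injective (Sprod Z M).X₂ := by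
  have : ∀ j, Injective ((Pj Z j).obj (Sj Z M j).X₂) := fun j =>
    Injective.injective_of_adjoint (PullConst.pbAdj (incl (Z j))) _
  show Injective (∏ᶜ fun j => (Pj Z j).obj (Sj Z M j).X₂)
  infer_instance

end exact

section coh

variable (hcl : ∀ j, IsClosed (Z j)) (hlf : LocallyFinite Z)

/-- derived functors of global sections on `X` -/
noncomputable abbrev Tq (X : TopCat.{u}) (q : ℕ) : CohTop.Ab X ⥤ AddCommGrpCat.{u} :=
  (ΓT X).rightDerived q


lemma ΓT_additive (Y : TopCat.{u}) : (ΓT Y).Additive := inferInstance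

lemma ΓT_preservesFiniteLimits (Y : TopCat.{u}) : PreservesFiniteLimits (ΓT Y) := inferInstance

instance (j : J) : (ΓT (TopCat.of (Z j))).Additive := ΓT_additive _

instance (j : J) : PreservesFiniteLimits (ΓT (TopCat.of (Z j))) := ΓT_preservesFiniteLimits _

/-- derived functors of global sections on the subsets -/
noncomputable abbrev Tj (j : J) (q : ℕ) : CohTop.Ab (TopCat.of (Z j)) ⥤ AddCommGrpCat.{u} :=
  (ΓT (TopCat.of (Z j))).rightDerived q

noncomputable instance presProd (G : J → CohTop.Ab X) :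
    PreservesLimit (Discrete.functor G) (ΓT X) := by
  show PreservesLimit _ (sheafToPresheaf _ _ ⋙ (evaluation _ _).obj (op ⊤))
  infer_instance

/-- degree zero -/
noncomputable def e₀ (M : ∀ j, CohTop.Ab (TopCat.of (Z j))) :
    (Tq X 0).obj (Pobj Z M) ≅ ∏ᶜ fun j => (Tj Z j 0).obj (M j) :=
  (ΓT X).rightDerivedZeroIsoSelf.app (Pobj Z M) ≪≫
    PreservesProduct.iso (ΓT X) (fun j => (Pj Z j).obj (M j)) ≪≫
    Limits.Pi.mapIso (fun j =>
      (((ΓT (TopCat.of (Z j))).rightDerivedZeroIsoSelf.app (M j)).symm :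
        (ΓT X).obj ((Pj Z j).obj (M j)) ≅ (Tj Z j 0).obj (M j)))

lemma ΓT_Pmap_comm {M M' : ∀ j, CohTop.Ab (TopCat.of (Z j))} (φ : ∀ j, M j ⟶ M' j) :
    (ΓT X).map (Pmap Z φ) ≫ (PreservesProduct.iso (ΓT X) (fun j => (Pj Z j).obj (M' j))).hom =
      (PreservesProduct.iso (ΓT X) (fun j => (Pj Z j).obj (M j))).hom ≫
        Limits.Pi.map (fun j => (ΓT X).map ((Pj Z j).map (φ j))) := by
  apply Pi.hom_ext
  intro j
  rw [PreservesProduct.iso_hom, PreservesProduct.iso_hom, Category.assoc, Category.assoc,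
    piComparison_comp_π, Limits.Pi.map_π, piComparison_comp_π_assoc,
    ← Functor.map_comp, ← Functor.map_comp, Limits.Pi.map_π]

include hcl hlf in
/-- degree one -/
lemma one (M : ∀ j, CohTop.Ab (TopCat.of (Z j))) :
    Nonempty ((Tq X 1).obj (Pobj Z M) ≅ ∏ᶜ fun j => (Tj Z j 1).obj (M j)) := by
  have hT := DeltaSeq.isExSeq_rightDerived (ΓT X)
  have hTj := fun j => DeltaSeq.isExSeq_rightDerived (ΓT (TopCat.of (Z j)))
  obtain ⟨a⟩ := DeltaSeq.one_iso hT (Sprod Z M) (Sprod_shortExact Z hcl hlf M) inferInstance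
  have hb : ∀ j, Nonempty ((Tj Z j 1).obj (M j) ≅ cokernel ((Tj Z j 0).map (Sj Z M j).g)) :=
    fun j => DeltaSeq.one_iso (hTj j) (Sj Z M j) (Sj_shortExact Z M j) inferInstance
  let b := fun j => (hb j).some
  let rdz := (ΓT X).rightDerivedZeroIsoSelf
  let g := (Sprod Z M).g
  -- step 2
  let c2 : cokernel ((Tq X 0).map g) ≅ cokernel ((ΓT X).map g) :=
    cokernel.mapIso _ _ (rdz.app _) (rdz.app _) (rdz.hom.naturality g)
  -- step 3
  let c3 : cokernel ((ΓT X).map g) ≅
      cokernel (Limits.Pi.map (fun j => (ΓT X).map ((Pj Z j).map (Sj Z M j).g))) :=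
    cokernel.mapIso _ _ (PreservesProduct.iso (ΓT X) _) (PreservesProduct.iso (ΓT X) _)
      (ΓT_Pmap_comm Z (fun j => (Sj Z M j).g))
  -- step 4
  obtain ⟨c4⟩ := cokerPi (fun j => (ΓT X).map ((Pj Z j).map (Sj Z M j).g))
  -- step 5
  let c5 : ∀ j, cokernel ((ΓT X).map ((Pj Z j).map (Sj Z M j).g)) ≅
      cokernel ((Tj Z j 0).map (Sj Z M j).g) := fun j =>
    cokernel.mapIso _ _
      (((ΓT (TopCat.of (Z j))).rightDerivedZeroIsoSelf.app _).symm)
      (((ΓT (TopCat.of (Z j))).rightDerivedZeroIsoSelf.app _).symm)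
      ((ΓT (TopCat.of (Z j))).rightDerivedZeroIsoSelf.inv.naturality (Sj Z M j).g)
  exact ⟨a ≪≫ c2 ≪≫ c3 ≪≫ c4 ≪≫ Limits.Pi.mapIso (fun j => c5 j ≪≫ (b j).symm)⟩

include hcl hlf in
/-- higher degrees -/
lemma succ : ∀ (q : ℕ) (M : ∀ j, CohTop.Ab (TopCat.of (Z j))),
    Nonempty ((Tq X (q + 1)).obj (Pobj Z M) ≅ ∏ᶜ fun j => (Tj Z j (q + 1)).obj (M j)) := by
  intro q
  induction q with
  | zero => exact one Z hcl hlf
  | succ q ih =>
    intro M
    have hT := DeltaSeq.isExSeq_rightDerived (ΓT X)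
    have hTj := fun j => DeltaSeq.isExSeq_rightDerived (ΓT (TopCat.of (Z j)))
    obtain ⟨a⟩ := DeltaSeq.shift_iso hT (Sprod Z M) (Sprod_shortExact Z hcl hlf M) inferInstance q
    have hb : ∀ j, Nonempty ((Tj Z j (q + 1)).obj (Qj Z M j) ≅ (Tj Z j (q + 2)).obj (M j)) :=
      fun j => DeltaSeq.shift_iso (hTj j) (Sj Z M j) (Sj_shortExact Z M j) inferInstance q
    let b := fun j => (hb j).some
    obtain ⟨c⟩ := ih (Qj Z M)
    exact ⟨a.symm ≪≫ c ≪≫ Limits.Pi.mapIso b⟩

include hcl hlf in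
theorem main (q : ℕ) (M : ∀ j, CohTop.Ab (TopCat.of (Z j))) :
    Nonempty ((Tq X q).obj (Pobj Z M) ≅ ∏ᶜ fun j => (Tj Z j q).obj (M j)) := by
  cases q with
  | zero => exact ⟨e₀ Z M⟩
  | succ q => exact succ Z hcl hlf q M

/-- products of abelian groups as function types -/
noncomputable def piAddEquiv {T : Type u} (A : T → AddCommGrpCat.{u}) :
    (∏ᶜ A : AddCommGrpCat.{u}) ≃+ (∀ t, A t) :=
  { Concrete.productEquiv A with
    map_add' := fun a b => by
      funext t
      show Concrete.productEquiv A (a + b) t =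
        Concrete.productEquiv A a t + Concrete.productEquiv A b t
      rw [Concrete.productEquiv_apply_apply, Concrete.productEquiv_apply_apply,
        Concrete.productEquiv_apply_apply, map_add] }

include hcl hlf in
theorem main_H (q : ℕ) (M : ∀ j, CohTop.Ab (TopCat.of (Z j))) :
    Nonempty ((Tq X q).obj (Pobj Z M) ≅ AddCommGrpCat.of (∀ j, CohTop.H (M j) q)) := by
  obtain ⟨e⟩ := main Z hcl hlf q M
  have hc : ∀ j, Nonempty ((Tj Z j q).obj (M j) ≅ AddCommGrpCat.of (CohTop.H (M j) q)) :=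
    fun j => rightDerived_ΓT_iso (TopCat.of (Z j)) q (M j)
  let c := fun j => (hc j).some
  let e2 : (∏ᶜ fun j => (Tj Z j q).obj (M j) : AddCommGrpCat.{u}) ≃+ (∀ j, CohTop.H (M j) q) :=
    (piAddEquiv _).trans (AddEquiv.piCongrRight (fun j => (c j).addCommGroupIsoToAddEquiv))
  exact ⟨e ≪≫ AddEquiv.toAddCommGrpIso e2⟩

end coh

end LFProdCoh

end Groth.Agent.Lib.helper27
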