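import Mathlib

set_option autoImplicit false

namespace Groth.Agent.Lib.helper27

open CategoryTheory Limits Pretriangulated ComposableArrows

universe v u v' u'

namespace LiftSO

variable {C : Type u} [Category.{v} C] [HasZeroObject C] [HasShift C ℤ] [Preadditive C]
  [∀ n : ℤ, (shiftFunctor C n).Additive] [Pretriangulated C]
  {ι : Type u'} [Category.{v'} ι]
  (P : ObjectProperty C) [P.IsTriangulated]
  (Y : Triangulated.SpectralObject C ι) (hY : ∀ D, P (Y.ω₁.obj D))

/-- lifting a spectral object to a triangulated full subcategory -/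
noncomputable def lift : Triangulated.SpectralObject P.FullSubcategory ι where
  ω₁ := P.lift Y.ω₁ hY
  δ' :=
    { app := fun D => P.fullyFaithfulι.preimage
        (Y.δ'.app D ≫ (P.ι.commShiftIso (1 : ℤ)).inv.app
          ((functorArrows ι 0 1 2 ⋙ P.lift Y.ω₁ hY).obj D))
      naturality := fun D D' f => by
        apply P.fullyFaithfulι.map_injective
        have h1 := Y.δ'.naturality f
        have h2 := (P.ι.commShiftIso (1 : ℤ)).inv.naturality
          ((functorArrows ι 0 1 2 ⋙ P.lift Y.ω₁ hY).map f)
        dsimp at h1 h2 ⊢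
        simp only [Functor.map_comp, Functor.FullyFaithful.map_preimage, Category.assoc]
        erw [← h2]
        rw [reassoc_of% h1] }
  distinguished' D := by
    change P.ι.mapTriangle.obj _ ∈ distTriang C
    refine isomorphic_distinguished _ (Y.distinguished' D) _ ?_
    refine Triangle.isoMk _ _ (Iso.refl _) (Iso.refl _) (Iso.refl _) ?_ ?_ ?_
    · exact (Category.comp_id _).trans (Category.id_comp _).symm
    · exact (Category.comp_id _).trans (Category.id_comp _).symm
    · refine ((congrArg (fun f => _ ≫ f) (CategoryTheory.Functor.map_id _ _)).trans (Category.comp_id _)).trans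
        (Eq.trans ?_ (Category.id_comp _).symm)
      change P.ι.map (P.fullyFaithfulι.preimage _) ≫ (P.ι.commShiftIso (1 : ℤ)).hom.app _ = _
      rw [Functor.FullyFaithful.map_preimage]
      exact (Category.assoc _ _ _).trans ((congrArg (fun f => Y.δ'.app D ≫ f)
        (Iso.inv_hom_id_app (P.ι.commShiftIso (1 : ℤ))
          ((functorArrows ι 0 1 2 ⋙ P.lift Y.ω₁ hY).obj D))).trans (Category.comp_id _))

lemma lift_ω₁_obj (D : ComposableArrows ι 1) :
    (lift P Y hY).ω₁.obj D = ⟨Y.ω₁.obj D, hY D⟩ := rfl

end LiftSO

end Groth.Agent.Lib.helper27
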