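import Mathlib
import Groth.Prelude.Def_SpSeq
import Groth.Agent.Lib.Helper27.SSGroth1

set_option autoImplicit false

namespace Groth.Agent.Lib.helper27.SSGen

open Groth.Agent.Lib.helper27
open CategoryTheory Limits ComposableArrows

universe w v u v' u'

variable {A : Type u} [Category.{v} A] [Abelian A] [EnoughInjectives A] [HasDerivedCategory.{w} A]
  {B : Type u'} [Category.{v'} B] [Abelian B]
  (Hf : DerivedCategory.Plus A ⥤ B) [Hf.IsHomological]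

/-- `Hf` vanishes below the amplitude -/
def Vanishes : Prop :=
  ∀ (Z : DerivedCategory.Plus A) (m : ℤ) [Z.IsGE m] (n : ℤ), n < m → IsZero (Hf.obj (Z⟦n⟧))

variable (K : DerivedCategory.Plus A)

/-- the abelian spectral object obtained by applying `Hf` to the truncations of `K` -/
noncomputable def X : Abelian.SpectralObject B EInt :=
  letI : Hf.ShiftSequence ℤ := Functor.ShiftSequence.tautological _ _
  SSAbut.mapHomological ((SSGroth.t (A := A)).spectralObject K) Hf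

lemma X_H_obj (n : ℤ) (a b : EInt) (h : a ≤ b) :
    ((X Hf K).H n).obj (mk₁ (homOfLE h)) =
      Hf.obj ((((SSGroth.t (A := A)).eTruncGE.obj a).obj
        (((SSGroth.t (A := A)).eTruncLT.obj b).obj K))⟦n⟧) :=
  rfl

lemma isFirstQuadrant (hv : Vanishes Hf) [K.IsGE 0] : (X Hf K).IsFirstQuadrant where
  isZero₁ i j hij hj n := by
    rw [X_H_obj]
    apply Hf.map_isZero
    apply (shiftFunctor _ n).map_isZero
    apply Functor.map_isZero
    exact (SSGroth.t (A := A)).isZero_eTruncLT_obj_obj K 0 j hj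
  isZero₂ i j hij n hi := by
    rw [X_H_obj]
    have := (SSGroth.t (A := A)).isGE_eTruncGE_obj_obj (n + 1) i (SSGroth.coe_succ_le_of_lt n i hi)
      (((SSGroth.t (A := A)).eTruncLT.obj j).obj K)
    exact hv _ (n + 1) n (by lia)

lemma X_H_obj_top (n : ℤ) :
    ((X Hf K).H n).obj (mk₁ (homOfLE (bot_le : (⊥ : EInt) ≤ ⊤))) = Hf.obj (K⟦n⟧) :=
  rfl

/-- the `E₂`-terms -/
theorem E2_iso (q : ℤ) :
    ∃ M' : A, Nonempty (M' ≅ (DerivedCategory.Plus.homologyFunctor A q).obj K) ∧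
      (∀ k : ℤ, Nonempty (((X Hf K).H (k + q)).obj (mk₁ (homOfLE
        (WithBotTop.coe_le_coe.2 (by lia) : ((q : ℤ) : EInt) ≤ (((q + 1 : ℤ)) : EInt)))) ≅
          Hf.obj (((DerivedCategory.Plus.singleFunctor A 0).obj M')⟦k⟧))) := by
  obtain ⟨M', ⟨e₀⟩⟩ := DerivedCategory.exists_iso_singleFunctor_obj_of_isGE_of_isLE
    (DerivedCategory.Plus.ι.obj (SSGroth.Zq K q)) q
  let e₁ : SSGroth.Zq K q ≅ (DerivedCategory.Plus.singleFunctor A q).obj M' :=
    DerivedCategory.Plus.ι.preimageIso e₀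
  let e₂ : (SSGroth.Zq K q)⟦q⟧ ≅ (DerivedCategory.Plus.singleFunctor A 0).obj M' :=
    (shiftFunctor _ q).mapIso e₁ ≪≫
      ((DerivedCategory.Plus.singleFunctors A).shiftIso q 0 q (by simp)).app M'
  refine ⟨M', ?_, fun k => ?_⟩
  · obtain ⟨e₃⟩ := SSGroth.homology_Zq_iso K q
    exact ⟨((DerivedCategory.singleFunctorCompHomologyFunctorIso A q).app M').symm ≪≫
      (DerivedCategory.homologyFunctor A q).mapIso e₀.symm ≪≫ e₃⟩
  · rw [X_H_obj]
    exact ⟨Hf.mapIso ((shiftFunctorAdd' _ q k (k + q) (by lia)).app _ ≪≫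
      (shiftFunctor _ k).mapIso e₂)⟩

/-- the spectral sequence of a homological functor on `D⁺(A)` vanishing below the amplitude:
`E₂^{p,q} = Hf(H^q(K)[p]) ⇒ Hf(K[p+q])` -/
theorem main (hv : Vanishes Hf) [K.IsGE 0]
    (H' : ℤ → B) (hH : ∀ n : ℤ, Nonempty (H' n ≅ Hf.obj (K⟦n⟧)))
    (E2 : ℤ → ℤ → B)
    (hE : ∀ (k l : ℕ) (M' : A), Nonempty (M' ≅ (DerivedCategory.Plus.homologyFunctor A (l : ℤ)).obj K) →
      Nonempty (E2 (k : ℤ) (l : ℤ) ≅
        Hf.obj (((DerivedCategory.Plus.singleFunctor A 0).obj M')⟦(k : ℤ)⟧)))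
    (hE0 : ∀ p q : ℤ, (p < 0 ∨ q < 0) → IsZero (E2 p q)) :
    ∃ (E : E₂CohomologicalSpectralSequence B) (a : SpSeq.Abutment E H'),
      (∀ n, a.IsFinite n) ∧ SpSeq.IsBounded E ∧
      ∀ p q : ℤ, Nonempty ((E.page 2 le_rfl).X (p, q) ≅ E2 p q) := by
  haveI := isFirstQuadrant Hf K hv
  have e : ∀ n : ℤ, Nonempty (H' n ≅
      ((X Hf K).H n).obj (mk₁ (homOfLE (bot_le : (⊥ : EInt) ≤ ⊤)))) := by
    intro n
    rw [X_H_obj_top]
    exact hH n
  refine ⟨(X Hf K).E₂SpectralSequence, SSAbut.abutment (X Hf K) _ (fun n => (e n).some),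
    SSAbut.abutment_isFinite _ _ _, SSAbut.isBounded _, fun p q => ?_⟩
  by_cases hpq : 0 ≤ p ∧ 0 ≤ q
  · obtain ⟨k, rfl⟩ := Int.eq_ofNat_of_zero_le hpq.1
    obtain ⟨l, rfl⟩ := Int.eq_ofNat_of_zero_le hpq.2
    obtain ⟨M', hM, h⟩ := E2_iso Hf K (l : ℤ)
    obtain ⟨e3⟩ := h k
    obtain ⟨e6⟩ := hE k l M' hM
    exact ⟨SSAbut.page₂Iso (X Hf K) (k : ℤ) (l : ℤ) ≪≫ e3 ≪≫ e6.symm⟩
  · rw [not_and_or, not_le, not_le] at hpq
    refine ⟨IsZero.iso ?_ (hE0 p q hpq)⟩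
    rcases hpq with h | h
    · exact SSAbut.isZero_page_of_neg _ 2 le_rfl _ h
    · exact SSAbut.isZero_page_of_neg' _ 2 le_rfl _ h

end Groth.Agent.Lib.helper27.SSGen
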