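import Mathlib
import Groth.Prelude.Def_SpSeq
import Groth.Agent.Lib.Helper27.SSGr
import Groth.Agent.Lib.Helper27.SSStab

set_option autoImplicit false

namespace Groth.Agent.Lib.helper27

open CategoryTheory Limits ComposableArrows Abelian

universe v u

namespace E1

/-- The data which allows to construct an `E₁`-cohomological spectral sequence
indexed by `ℤ × ℤ` from a spectral object indexed by `EInt` (decreasing filtration
`F^p ↔ index 1 - p`). -/
@[simps!]
def core :
    SpectralObject.SpectralSequenceDataCore EInt (fun r ↦ ComplexShape.up' (⟨r, 1 - r⟩ : ℤ × ℤ)) 1 where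
  deg pq := pq.1 + pq.2
  i₀ r pq hr := (-pq.1 - r + 1 :)
  i₁ pq := (-pq.1 :)
  i₂ pq := (1 - pq.1 :)
  i₃ r pq hr := (r - pq.1 :)
  le₀₁ r pq hr := by simp; lia
  le₁₂ pq := by simp
  le₂₃ r pq hr := by simp; lia
  hc := by rintro r pq _ rfl _; dsimp <;> lia
  hc₀₂ := by rintro r pq hr rfl _; simp <;> lia
  hc₁₃ := by rintro r pq hr rfl _; simp <;> lia
  antitone_i₀ r r' pq hr hrr' := by simp; lia
  monotone_i₃ r r' pq hr hrr' := by simp; lia
  i₀_prev := by
    rintro r r' hr pq rfl _ _
    dsimp
    lia +mbtc
  i₃_next := by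
    rintro r r' hr pq rfl _ _
    dsimp
    lia +mbtc

variable {C : Type u} [Category.{v} C] [Abelian C]

instance (E : SpectralObject C EInt) : E.HasSpectralSequence core where
  isZero_H_obj_mk₁_i₀_le r r' pq hpq n hn hrr' hr := by
    exfalso
    exact hpq _ rfl
  isZero_H_obj_mk₁_i₃_le r r' pq hpq n hn hrr' hr := by
    exfalso
    exact hpq (pq - (r, 1 - r)) (by simp)

/-- the `E₁` spectral sequence of a spectral object indexed by `EInt` -/
noncomputable abbrev spectralSequence (X : SpectralObject C EInt) :
    CohomologicalSpectralSequence C 1 :=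
  X.spectralSequence core

end E1

end Groth.Agent.Lib.helper27
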