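import Mathlib
import Groth.Prelude.Def_SpSeq
import Groth.Agent.Lib.Helper27.SSGr
import Groth.Agent.Lib.Helper27.SSStab
import Groth.Agent.Lib.Helper27.SSAbut
import Groth.Agent.Lib.Helper27.E1Core

set_option autoImplicit false

namespace Groth.Agent.Lib.helper27

open CategoryTheory Limits ComposableArrows Abelian

universe v u

namespace E1

variable {C : Type u} [Category.{v} C] [Abelian C]

/-- vanishing pattern of the spectral object of the stupid filtration of a complex in degrees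
`≥ 0`, where the index `i` corresponds to `σ_{≥ 1 - i}` -/
class IsStupidQuadrant (X : Abelian.SpectralObject C EInt) : Prop where
  isZero₁ (i j : EInt) (hij : i ≤ j) (hi : ((1 : ℤ) : EInt) ≤ i) (n : ℤ) :
    IsZero ((X.H n).obj (mk₁ (homOfLE hij)))
  isZero₂ (i j : EInt) (hij : i ≤ j) (n m : ℤ) (hj : j ≤ ((m : ℤ) : EInt)) (hnm : n + m ≤ 0) :
    IsZero ((X.H n).obj (mk₁ (homOfLE hij)))

variable (X : Abelian.SpectralObject C EInt)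

section stab

variable (n₀ n₁ n₂ : ℤ) (hn₁ : n₀ + 1 = n₁) (hn₂ : n₁ + 1 = n₂)
  (i₀ i₁ i₂ i₃ : EInt) (h₀₁ : i₀ ≤ i₁) (h₁₂ : i₁ ≤ i₂) (h₂₃ : i₂ ≤ i₃)

lemma isIso_map_αS (n₃ : ℤ) (hn₃ : n₂ + 1 = n₃)
    (z₀ : IsZero ((X.H n₂).obj (mk₁ (homOfLE (bot_le : ⊥ ≤ i₀)))))
    (z₁ : IsZero ((X.H n₃).obj (mk₁ (homOfLE (bot_le : ⊥ ≤ i₀))))) :
    IsIso (X.map _ _ _ _ _ _ (SSAbut.αS i₀ i₁ i₂ i₃ h₀₁ h₁₂ h₂₃) n₀ n₁ n₂ hn₁ hn₂) := by
  refine X.isIso_map _ _ _ _ _ _ _ n₀ n₁ n₂ ?_ ?_ ?_ hn₁ hn₂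
  · exact SSAbut.isIso_H_map_endo X n₀ _ _
  · exact SSAbut.isIso_H_map_endo X n₁ _ _
  · exact SSAbut.isIso_H_map_source X n₂ n₃ hn₃ ⊥ i₀ i₁ bot_le h₀₁ z₀ z₁ _

lemma isIso_map_αT (nm : ℤ) (hnm : nm + 1 = n₀)
    (z₀ : IsZero ((X.H nm).obj (mk₁ (homOfLE (le_top : i₃ ≤ ⊤)))))
    (z₁ : IsZero ((X.H n₀).obj (mk₁ (homOfLE (le_top : i₃ ≤ ⊤))))) :
    IsIso (X.map _ _ _ _ _ _ (SSAbut.αT i₁ i₂ i₃ h₁₂ h₂₃) n₀ n₁ n₂ hn₁ hn₂) := by
  refine X.isIso_map _ _ _ _ _ _ _ n₀ n₁ n₂ ?_ ?_ ?_ hn₁ hn₂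
  · exact SSAbut.isIso_H_map_target X nm n₀ hnm i₂ i₃ ⊤ h₂₃ le_top z₀ z₁ _
  · exact SSAbut.isIso_H_map_endo X n₁ _ _
  · exact SSAbut.isIso_H_map_endo X n₂ _ _

/-- stabilization: `E(i₀,i₁,i₂,i₃) ≅ E(⊥,i₁,i₂,⊤)` -/
noncomputable def EStabIso
    (z₀ : IsZero ((X.H n₂).obj (mk₁ (homOfLE (bot_le : ⊥ ≤ i₀)))))
    (z₁ : IsZero ((X.H (n₂ + 1)).obj (mk₁ (homOfLE (bot_le : ⊥ ≤ i₀)))))
    (z₂ : IsZero ((X.H (n₀ - 1)).obj (mk₁ (homOfLE (le_top : i₃ ≤ ⊤)))))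
    (z₃ : IsZero ((X.H n₀).obj (mk₁ (homOfLE (le_top : i₃ ≤ ⊤))))) :
    X.E (homOfLE h₀₁) (homOfLE h₁₂) (homOfLE h₂₃) n₀ n₁ n₂ hn₁ hn₂ ≅
      X.E (homOfLE (bot_le : ⊥ ≤ i₁)) (homOfLE h₁₂) (homOfLE (le_top : i₂ ≤ ⊤)) n₀ n₁ n₂ hn₁ hn₂ :=
  (@asIso _ _ _ _ _ (isIso_map_αS X n₀ n₁ n₂ hn₁ hn₂ i₀ i₁ i₂ i₃ h₀₁ h₁₂ h₂₃ (n₂ + 1) rfl z₀ z₁)).symm ≪≫
    @asIso _ _ _ _ _ (isIso_map_αT X n₀ n₁ n₂ hn₁ hn₂ i₁ i₂ i₃ h₁₂ h₂₃ (n₀ - 1) (by lia) z₂ z₃)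

end stab

variable [IsStupidQuadrant X] (H' : ℤ → C)
  (e : ∀ n, H' n ≅ (X.H n).obj (mk₁ (homOfLE (bot_le : (⊥ : EInt) ≤ ⊤))))

lemma isZero₁ (i j : EInt) (hij : i ≤ j) (hi : ((1 : ℤ) : EInt) ≤ i) (n : ℤ) :
    IsZero ((X.H n).obj (mk₁ (homOfLE hij))) := IsStupidQuadrant.isZero₁ i j hij hi n

lemma isZero₂ (i j : EInt) (hij : i ≤ j) (n m : ℤ) (hj : j ≤ ((m : ℤ) : EInt)) (hnm : n + m ≤ 0) :
    IsZero ((X.H n).obj (mk₁ (homOfLE hij))) := IsStupidQuadrant.isZero₂ i j hij n m hj hnm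

/-- the map `H^n(⊥ → j) ⟶ H' n` -/
noncomputable def Vmap (n : ℤ) (j : EInt) :
    (X.H n).obj (mk₁ (homOfLE (bot_le : ⊥ ≤ j))) ⟶ H' n :=
  SSAbut.ψb X (homOfLE (le_top : j ≤ ⊤)) (homOfLE bot_le) (homOfLE bot_le) (Subsingleton.elim _ _) n
    (e n).inv

/-- the image of `H^n(⊥ → j)` in `H' n` -/
noncomputable def V (n : ℤ) (j : EInt) : Subobject (H' n) := imageSubobject (Vmap X H' e n j)

omit [IsStupidQuadrant X] in
lemma V_mono (n : ℤ) {j j' : EInt} (h : j ≤ j') : V X H' e n j ≤ V X H' e n j' :=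
  SSAbut.le X (homOfLE (bot_le : ⊥ ≤ j)) (homOfLE h) (homOfLE (le_top : j' ≤ ⊤)) (homOfLE bot_le)
    (Subsingleton.elim _ _) (homOfLE le_top) (Subsingleton.elim _ _) (homOfLE bot_le)
    (Subsingleton.elim _ _) n (e n).inv

/-- the filtration on the abutment -/
noncomputable def fil (n : ℤ) (p : ℤ) : Subobject (H' n) := V X H' e n ((1 - p : ℤ) : EInt)

omit [IsStupidQuadrant X] in
lemma anti (n : ℤ) : Antitone (fil X H' e n) := fun p p' h =>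
  V_mono X H' e n (WithBotTop.coe_le_coe.2 (by lia))

lemma V_eq_top (n : ℤ) (j : EInt) (hj : ((1 : ℤ) : EInt) ≤ j) : V X H' e n j = ⊤ := by
  have he : Epi ((X.H n).map (twoδ₂Toδ₁ (homOfLE (bot_le : ⊥ ≤ j)) (homOfLE (le_top : j ≤ ⊤))
      (homOfLE bot_le) (Subsingleton.elim _ _))) :=
    (X.exact₂ (homOfLE (bot_le : ⊥ ≤ j)) (homOfLE (le_top : j ≤ ⊤)) (homOfLE bot_le)
      (Subsingleton.elim _ _) n).epi_f
      ((isZero₁ X _ _ _ hj _).eq_of_tgt _ _)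
  have : Epi (Vmap X H' e n j) := by
    dsimp only [Vmap, SSAbut.ψb]
    exact epi_comp _ _
  dsimp only [V]
  exact SSAbut.imageSubobject_eq_top_of_epi _

lemma V_eq_bot (n m : ℤ) (j : EInt) (hj : j ≤ ((m : ℤ) : EInt)) (hnm : n + m ≤ 0) :
    V X H' e n j = ⊥ := by
  have : Vmap X H' e n j = 0 := (isZero₂ X _ _ _ n m hj hnm).eq_of_src _ _
  exact SSAbut.imageSubobject_eq_bot_of_eq_zero _ this

/-- the page from which position `pq` is stationary -/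
def rk (pq : ℤ × ℤ) : ℤ := max (max (pq.1 + 1) (pq.2 + 3)) 1

lemma one_le_rk (pq : ℤ × ℤ) : 1 ≤ rk pq := le_max_right _ _

lemma isZero_page_of_neg (r : ℤ) (hr : 1 ≤ r) (pq : ℤ × ℤ) (hp : pq.1 < 0) :
    IsZero (((spectralSequence X).page r hr).X pq) :=
  X.isZero_spectralSequence_page_X_of_isZero_H' _ _ hr _
    (isZero₁ X _ _ _ (by simp; lia) _)

lemma isZero_page_of_neg' (r : ℤ) (hr : 1 ≤ r) (pq : ℤ × ℤ) (hq : pq.2 < 0) :
    IsZero (((spectralSequence X).page r hr).X pq) :=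
  X.isZero_spectralSequence_page_X_of_isZero_H' _ _ hr _
    (isZero₂ X _ _ _ _ (1 - pq.1) (by simp) (by simp; lia))

lemma stat (pq : ℤ × ℤ) : SpSeq.StationaryAt (spectralSequence X) pq (rk pq) := by
  refine ⟨one_le_rk pq, fun r' h₀ hr' => ⟨?_, ?_⟩⟩
  · apply (isZero_page_of_neg X r' h₀ _ ?_).eq_of_src
    have : pq.1 + 1 ≤ rk pq := le_trans (le_max_left _ _) (le_max_left _ _)
    simp; lia
  · apply (isZero_page_of_neg' X r' h₀ _ ?_).eq_of_tgt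
    have : pq.2 + 3 ≤ rk pq := le_trans (le_max_right _ _) (le_max_left _ _)
    simp; lia

/-- the identification of the limit term with the graded piece of the abutment -/
noncomputable def β (pq : ℤ × ℤ) :
    ((spectralSequence X).page (rk pq) (stat X pq).1).X pq ≅
      SpSeq.grPiece (fil X H' e (pq.1 + pq.2)) (anti X H' e (pq.1 + pq.2)) pq.1 := by
  have h₁ : (((1 - (pq.1 + 1) : ℤ)) : EInt) = core.i₁ pq := by
    rw [core_i₁]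
    exact congrArg WithBotTop.coe (by ring)
  have h₂ : (((1 - pq.1 : ℤ)) : EInt) = core.i₂ pq := by
    rw [core_i₂]
  have hr1 : pq.1 + 1 ≤ rk pq := le_trans (le_max_left _ _) (le_max_left _ _)
  have hr2 : pq.2 + 3 ≤ rk pq := le_trans (le_max_right _ _) (le_max_left _ _)
  refine X.spectralSequencePageXIso core (rk pq) (one_le_rk pq) pq _
    (((1 - (pq.1 + 1) : ℤ)) : EInt) (((1 - pq.1 : ℤ)) : EInt) _
    rfl h₁ h₂ rfl (pq.1 + pq.2 - 1) (pq.1 + pq.2) (pq.1 + pq.2 + 1) rfl (by lia) rfl ≪≫ ?_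
  refine EStabIso X (pq.1 + pq.2 - 1) (pq.1 + pq.2) (pq.1 + pq.2 + 1) (by lia) rfl _ _ _ _ _ _ _
    ?_ ?_ ?_ ?_ ≪≫ ?_
  · exact isZero₂ X _ _ _ _ (-pq.1 - rk pq + 1) (by rw [core_i₀]) (by lia)
  · exact isZero₂ X _ _ _ _ (-pq.1 - rk pq + 1) (by rw [core_i₀]) (by lia)
  · exact isZero₁ X _ _ _ (by rw [core_i₃]; exact WithBotTop.coe_le_coe.2 (by lia)) _
  · exact isZero₁ X _ _ _ (by rw [core_i₃]; exact WithBotTop.coe_le_coe.2 (by lia)) _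
  exact (SSAbut.grIso X (homOfLE bot_le) (homOfLE _) (homOfLE le_top) (homOfLE bot_le)
    (Subsingleton.elim _ _) (homOfLE le_top) (Subsingleton.elim _ _) (homOfLE bot_le)
    (Subsingleton.elim _ _) (pq.1 + pq.2 - 1) (pq.1 + pq.2) (pq.1 + pq.2 + 1) (by lia) rfl
    (e (pq.1 + pq.2)).inv).symm

/-- the abutment data of the `E₁` spectral sequence -/
noncomputable def abutment : SpSeq.Abutment (spectralSequence X) H' where
  fil := fil X H' e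
  anti := anti X H' e
  rk := rk
  stat := stat X
  β := β X H' e

lemma abutment_isFinite (n : ℤ) : (abutment X H' e).IsFinite n := by
  refine ⟨⟨0, ?_⟩, ⟨n + 1, ?_⟩⟩
  · exact V_eq_top X H' e n _ (WithBotTop.coe_le_coe.2 (by lia))
  · exact V_eq_bot X H' e n (1 - (n + 1)) _ le_rfl (by lia)

lemma isBounded : SpSeq.IsBounded (spectralSequence X) := by
  intro n
  apply Set.Finite.subset (Set.finite_Icc (0 : ℤ) n)
  intro p hp
  simp only [Set.mem_ofPred_eq] at hp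
  by_contra h
  rw [Set.mem_Icc, not_and_or, not_le, not_le] at h
  rcases h with h | h
  · exact hp (isZero_page_of_neg X 1 le_rfl _ h)
  · exact hp (isZero_page_of_neg' X 1 le_rfl _ (by simp; lia))

/-- the first page -/
noncomputable def page₁Iso (p q : ℤ) :
    ((spectralSequence X).page 1 le_rfl).X (p, q) ≅
      (X.H (p + q)).obj (mk₁ (homOfLE (WithBotTop.coe_le_coe.2 (by lia) :
        ((-p : ℤ) : EInt) ≤ ((1 - p : ℤ) : EInt)))) :=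
  X.spectralSequencePageXIso core 1 le_rfl (p, q)
    ((-p : ℤ) : EInt) ((-p : ℤ) : EInt) ((1 - p : ℤ) : EInt) ((1 - p : ℤ) : EInt)
    (by rw [core_i₀]; exact congrArg WithBotTop.coe (by ring))
    rfl rfl
    (by rw [core_i₃])
    (p + q - 1) (p + q) (p + q + 1) rfl (by lia) rfl ≪≫
  X.EIsoH _ (p + q - 1) (p + q) (p + q + 1) (by lia) rfl

end E1

end Groth.Agent.Lib.helper27
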