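import Mathlib

set_option autoImplicit false

namespace Groth.Agent.Lib.helper27

open CategoryTheory Limits

universe v u

namespace StupidFilt

variable {A : Type u} [Category.{v} A] [Abelian A] (C : CochainComplex A ℤ)

/-- the degree `n` belongs to the `i`-th step of the filtration: `1 - i ≤ n` -/
def mem (i : EInt) (n : ℤ) : Prop := ((1 - n : ℤ) : EInt) ≤ i

lemma mem_succ {i : EInt} {n : ℤ} (h : mem i n) : mem i (n + 1) :=
  le_trans (WithBotTop.coe_le_coe.2 (by lia)) h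

lemma mem_mono {i j : EInt} (hij : i ≤ j) {n : ℤ} (h : mem i n) : mem j n := le_trans h hij

lemma mem_coe_iff (m n : ℤ) : mem ((m : ℤ) : EInt) n ↔ 1 - n ≤ m := WithBotTop.coe_le_coe

lemma mem_top (n : ℤ) : mem ⊤ n := le_top

lemma not_mem_bot (n : ℤ) : ¬ mem ⊥ n := by
  intro h
  exact absurd (le_bot_iff.1 h) (by simp)

open Classical in
/-- the endomorphism whose kernel is the `n`-th term of the `i`-th step -/
noncomputable def φ (i : EInt) (n : ℤ) : C.X n ⟶ C.X n := if mem i n then 0 else 𝟙 _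

lemma φ_of_mem {i : EInt} {n : ℤ} (h : mem i n) : φ C i n = 0 := if_pos h

lemma φ_of_not_mem {i : EInt} {n : ℤ} (h : ¬ mem i n) : φ C i n = 𝟙 _ := if_neg h

lemma ι_eq_zero {i : EInt} {n : ℤ} (h : ¬ mem i n) : kernel.ι (φ C i n) = 0 := by
  have h1 : kernel.ι (φ C i n) ≫ φ C i n = 0 := kernel.condition _
  have h2 : kernel.ι (φ C i n) ≫ φ C i n = kernel.ι (φ C i n) ≫ 𝟙 _ :=
    congrArg (fun f => kernel.ι (φ C i n) ≫ f) (φ_of_not_mem C h)
  rw [← Category.comp_id (kernel.ι (φ C i n)), ← h2, h1]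

lemma ι_d_φ (i : EInt) (n m : ℤ) : (kernel.ι (φ C i n) ≫ C.d n m) ≫ φ C i m = 0 := by
  by_cases hnm : n + 1 = m
  · subst hnm
    by_cases h : mem i n
    · rw [φ_of_mem C (mem_succ h), comp_zero]
    · rw [ι_eq_zero C h, zero_comp, zero_comp]
  · rw [C.shape n m hnm, comp_zero, zero_comp]

/-- the `i`-th step of the stupid filtration: `σ_{≥ 1 - i} C` -/
noncomputable def obj (i : EInt) : CochainComplex A ℤ where
  X n := kernel (φ C i n)
  d n m := kernel.lift _ (kernel.ι _ ≫ C.d n m) (ι_d_φ C i n m)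
  shape n m h := by
    apply (cancel_mono (kernel.ι (φ C i m))).1
    simp [C.shape n m h]
  d_comp_d' n m k _ _ := by
    apply (cancel_mono (kernel.ι (φ C i k))).1
    simp

/-- the inclusion `(σ_{≥ 1 - i} C)^n ⟶ C^n` -/
noncomputable def ιX (i : EInt) (n : ℤ) : (obj C i).X n ⟶ C.X n := kernel.ι (φ C i n)

instance (i : EInt) (n : ℤ) : Mono (ιX C i n) :=
  inferInstanceAs (Mono (kernel.ι (φ C i n)))

lemma ιX_φ (i : EInt) (n : ℤ) : ιX C i n ≫ φ C i n = 0 := kernel.condition _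

/-- lifting to `(σ_{≥ 1 - i} C)^n` -/
noncomputable def liftX (i : EInt) (n : ℤ) {T : A} (f : T ⟶ C.X n) (hf : f ≫ φ C i n = 0) :
    T ⟶ (obj C i).X n := kernel.lift _ f hf

@[reassoc (attr := simp)]
lemma liftX_ιX (i : EInt) (n : ℤ) {T : A} (f : T ⟶ C.X n) (hf : f ≫ φ C i n = 0) :
    liftX C i n f hf ≫ ιX C i n = f := kernel.lift_ι _ _ _

lemma hom_ext {i : EInt} {n : ℤ} {T : A} (f g : T ⟶ (obj C i).X n)
    (h : f ≫ ιX C i n = g ≫ ιX C i n) : f = g :=
  (cancel_mono (ιX C i n)).1 h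

lemma ιX_eq_zero {i : EInt} {n : ℤ} (h : ¬ mem i n) : ιX C i n = 0 := ι_eq_zero C h

@[reassoc (attr := simp)]
lemma obj_d_ιX (i : EInt) (n m : ℤ) :
    (obj C i).d n m ≫ ιX C i m = ιX C i n ≫ C.d n m :=
  kernel.lift_ι _ _ _

/-- the inclusion of the `i`-th step -/
noncomputable def ι (i : EInt) : obj C i ⟶ C where
  f n := ιX C i n
  comm' n m _ := (obj_d_ιX C i n m).symm

@[simp]
lemma ι_f (i : EInt) (n : ℤ) : (ι C i).f n = ιX C i n := rfl

lemma ιX_φ' {i j : EInt} (hij : i ≤ j) (n : ℤ) : ιX C i n ≫ φ C j n = 0 := by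
  by_cases h : mem j n
  · rw [φ_of_mem C h, comp_zero]
  · rw [ιX_eq_zero C (fun h' => h (mem_mono hij h')), zero_comp]

/-- the transition maps -/
noncomputable def map {i j : EInt} (hij : i ≤ j) : obj C i ⟶ obj C j where
  f n := liftX C j n (ιX C i n) (ιX_φ' C hij n)
  comm' n m _ := by
    apply hom_ext
    simp

@[reassoc (attr := simp)]
lemma map_f_ιX {i j : EInt} (hij : i ≤ j) (n : ℤ) :
    (map C hij).f n ≫ ιX C j n = ιX C i n :=
  liftX_ιX _ _ _ _ _

/-- the stupid filtration as a functor -/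
noncomputable def functor : EInt ⥤ CochainComplex A ℤ where
  obj := obj C
  map f := map C (leOfHom f)
  map_id i := by
    ext n
    apply hom_ext
    simp
  map_comp f g := by
    ext n
    apply hom_ext
    simp

lemma isZero_obj_X {i : EInt} {n : ℤ} (h : ¬ mem i n) : IsZero ((obj C i).X n) := by
  rw [IsZero.iff_id_eq_zero]
  apply hom_ext
  rw [ιX_eq_zero C h, comp_zero, comp_zero]

lemma isIso_ιX {i : EInt} {n : ℤ} (h : mem i n) : IsIso (ιX C i n) :=
  ⟨⟨liftX C i n (𝟙 _) (by rw [φ_of_mem C h, comp_zero]), by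
    apply hom_ext
    rw [Category.assoc, liftX_ιX, Category.comp_id, Category.id_comp], by
    rw [liftX_ιX]⟩⟩

lemma isIso_map_f {i j : EInt} (hij : i ≤ j) {n : ℤ} (h : mem i n) : IsIso ((map C hij).f n) := by
  have h1 := isIso_ιX C h
  have h2 := isIso_ιX C (mem_mono hij h)
  have h3 : (map C hij).f n ≫ ιX C j n = ιX C i n := map_f_ιX C hij n
  exact IsIso.of_isIso_fac_right h3

lemma isZero_obj_X_of_isZero (k : EInt) {n : ℤ} (h : IsZero (C.X n)) :
    IsZero ((obj C k).X n) := by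
  rw [IsZero.iff_id_eq_zero]
  apply hom_ext
  exact h.eq_of_tgt _ _

lemma isIso_map_f_of_isZero {i j : EInt} (hij : i ≤ j) {n : ℤ} (h : IsZero (C.X n)) :
    IsIso ((map C hij).f n) :=
  ⟨⟨0, (isZero_obj_X_of_isZero C i h).eq_of_src _ _, (isZero_obj_X_of_isZero C j h).eq_of_src _ _⟩⟩

/-- for `1 ≤ i ≤ j`, and `C` in degrees `≥ 0`, the transition map is an isomorphism -/
lemma isIso_map_of_one_le [C.IsStrictlyGE 0] {i j : EInt} (hij : i ≤ j)
    (hi : ((1 : ℤ) : EInt) ≤ i) : IsIso (map C hij) := by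
  have : ∀ n, IsIso ((map C hij).f n) := fun n => by
    by_cases hn : 0 ≤ n
    · exact isIso_map_f C hij (le_trans (WithBotTop.coe_le_coe.2 (by lia)) hi)
    · exact isIso_map_f_of_isZero C hij (C.isZero_of_isStrictlyGE 0 n (by lia))
  exact HomologicalComplex.Hom.isIso_of_components _

lemma isStrictlyGE_obj (i : EInt) (m : ℤ) (hi : i ≤ ((m : ℤ) : EInt)) :
    (obj C i).IsStrictlyGE (1 - m) := by
  rw [CochainComplex.isStrictlyGE_iff]
  intro n hn
  apply isZero_obj_X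
  intro h
  have := WithBotTop.coe_le_coe.1 (le_trans h hi)
  lia

lemma isIso_ι_top : IsIso (ι C ⊤) := by
  have : ∀ n, IsIso ((ι C ⊤).f n) := fun n => isIso_ιX C (mem_top n)
  exact HomologicalComplex.Hom.isIso_of_components _

lemma isZero_obj_bot : IsZero (obj C ⊥) := by
  rw [IsZero.iff_id_eq_zero]
  ext n
  exact (isZero_obj_X C (not_mem_bot n)).eq_of_src _ _

end StupidFilt

end Groth.Agent.Lib.helper27
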