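import Mathlib
import Groth.Agent.Lib.Helper27.StupidFilt
import Groth.Agent.Lib.Helper27.SSMapHom
import Groth.Agent.Lib.Helper27.E1Abut

set_option autoImplicit false

namespace Groth.Agent.Lib.helper27

open CategoryTheory Limits ComposableArrows

universe w v u v' u'

namespace StupidSO

variable {A : Type u} [Category.{v} A] [Abelian A] [HasDerivedCategory.{w} A]
  (C : CochainComplex A ℤ)

/-- the spectral object in the derived category attached to the stupid filtration -/
noncomputable def Y : Triangulated.SpectralObject (DerivedCategory A) EInt :=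
  ((HomotopyCategory.spectralObjectMappingCone A).precomp
    (StupidFilt.functor C)).mapTriangulatedFunctor DerivedCategory.Qh

lemma Y_ω₁_obj (i j : EInt) (h : i ≤ j) :
    (Y C).ω₁.obj (mk₁ (homOfLE h)) =
      DerivedCategory.Q.obj (CochainComplex.mappingCone (StupidFilt.map C h)) := rfl

/-- the cone of an isomorphism is zero in the derived category -/
lemma isZero_Q_mappingCone_of_isIso {K L : CochainComplex A ℤ} (f : K ⟶ L) [IsIso f] :
    IsZero (DerivedCategory.Q.obj (CochainComplex.mappingCone f)) := by
  have h := HomotopyCategory.mappingCone_triangleh_distinguished f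
  have h3 : IsZero (CochainComplex.mappingCone.triangleh f).obj₃ := by
    apply Pretriangulated.Triangle.isZero₃_of_isIso₁ _ h
    change IsIso ((HomotopyCategory.quotient _ _).map f)
    infer_instance
  exact DerivedCategory.Qh.map_isZero h3

lemma isZero₁ [C.IsStrictlyGE 0] (i j : EInt) (hij : i ≤ j) (hi : ((1 : ℤ) : EInt) ≤ i) :
    IsZero ((Y C).ω₁.obj (mk₁ (homOfLE hij))) := by
  rw [Y_ω₁_obj]
  have := StupidFilt.isIso_map_of_one_le C hij hi
  exact isZero_Q_mappingCone_of_isIso _

lemma le_pred_of_lt (i j : EInt) (m : ℤ) (hij : i < j) (hj : j ≤ ((m : ℤ) : EInt)) :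
    i ≤ (((m - 1 : ℤ)) : EInt) := by
  have h := lt_of_lt_of_le hij hj
  induction i using WithBotTop.rec with
  | bot => exact bot_le
  | coe a =>
    rw [WithBotTop.coe_lt_coe] at h
    exact WithBotTop.coe_le_coe.2 (by lia)
  | top => simp at h

lemma isGE_of_lt (i j : EInt) (hij : i ≤ j) (m : ℤ) (hlt : i < j) (hj : j ≤ ((m : ℤ) : EInt)) :
    (DerivedCategory.Q.obj (CochainComplex.mappingCone (StupidFilt.map C hij))).IsGE (1 - m) := by
  have h1 : (StupidFilt.obj C i).IsStrictlyGE (1 - (m - 1)) :=
    StupidFilt.isStrictlyGE_obj C i (m - 1) (le_pred_of_lt i j m hlt hj)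
  have h2 : (StupidFilt.obj C j).IsStrictlyGE (1 - m) := StupidFilt.isStrictlyGE_obj C j m hj
  have h3 : (CochainComplex.mappingCone (StupidFilt.map C hij)).IsStrictlyGE (1 - m) :=
    CochainComplex.isStrictlyGE_mappingCone _ (1 - (m - 1)) (1 - m) (1 - m) (by lia) le_rfl
  infer_instance

section homological

variable {B : Type u'} [Category.{v'} B] [Abelian B] (Hf : DerivedCategory A ⥤ B) [Hf.IsHomological]

/-- `Hf` vanishes below the amplitude -/
def Vanishes : Prop :=
  ∀ (Z : DerivedCategory A) (m : ℤ) [Z.IsGE m] (n : ℤ), n < m → IsZero (Hf.obj (Z⟦n⟧))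

/-- the abelian spectral object obtained by applying `Hf` -/
noncomputable def X : Abelian.SpectralObject B EInt :=
  letI : Hf.ShiftSequence ℤ := Functor.ShiftSequence.tautological _ _
  SSAbut.mapHomological (Y C) Hf

lemma X_H_obj (n : ℤ) (a b : EInt) (h : a ≤ b) :
    ((X C Hf).H n).obj (mk₁ (homOfLE h)) =
      Hf.obj ((DerivedCategory.Q.obj (CochainComplex.mappingCone (StupidFilt.map C h)))⟦n⟧) :=
  rfl

lemma isStupidQuadrant [C.IsStrictlyGE 0] (hv : Vanishes Hf) : E1.IsStupidQuadrant (X C Hf) where
  isZero₁ i j hij hi n := by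
    rw [X_H_obj]
    apply Hf.map_isZero
    apply (shiftFunctor _ n).map_isZero
    exact isZero₁ C i j hij hi
  isZero₂ i j hij n m hj hnm := by
    by_cases h : i = j
    · subst h
      have : IsIso (homOfLE hij) := by
        have : homOfLE hij = 𝟙 i := Subsingleton.elim _ _
        rw [this]
        infer_instance
      exact (X C Hf).isZero_H_map_mk₁_of_isIso n (homOfLE hij)
    · rw [X_H_obj]
      have := isGE_of_lt C i j hij m (lt_of_le_of_ne hij h) hj
      exact hv _ (1 - m) n (by lia)

end homological

end StupidSO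

end Groth.Agent.Lib.helper27
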