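import Mathlib
import Groth.Agent.Lib.Helper27.StupidSO

set_option autoImplicit false
set_option linter.unusedSectionVars false

namespace Groth.Agent.Lib.helper27

open CategoryTheory Limits ComposableArrows

universe w v u v' u'

namespace StupidSO

variable {A : Type u} [Category.{v} A] [Abelian A] [HasDerivedCategory.{w} A]
  (C : CochainComplex A ℤ)

/-- the cone of a map from a zero complex -/
lemma isIso_Q_map_inr_of_isZero {K L : CochainComplex A ℤ} (f : K ⟶ L) (hK : IsZero K) :
    IsIso (DerivedCategory.Q.map (CochainComplex.mappingCone.inr f)) := by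
  have h := HomotopyCategory.mappingCone_triangleh_distinguished f
  have h1 : IsZero (CochainComplex.mappingCone.triangleh f).obj₁ :=
    (HomotopyCategory.quotient _ _).map_isZero hK
  have h2 : IsIso (CochainComplex.mappingCone.triangleh f).mor₂ :=
    (Pretriangulated.Triangle.isZero₁_iff_isIso₂ _ h).1 h1
  change IsIso (DerivedCategory.Qh.map ((HomotopyCategory.quotient _ _).map
    (CochainComplex.mappingCone.inr f)))
  have : IsIso ((HomotopyCategory.quotient _ _).map (CochainComplex.mappingCone.inr f)) := h2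
  infer_instance

/-- the abutment -/
noncomputable def abutIso :
    DerivedCategory.Q.obj (CochainComplex.mappingCone
      (StupidFilt.map C (bot_le : (⊥ : EInt) ≤ ⊤))) ≅ DerivedCategory.Q.obj C :=
  (@asIso _ _ _ _ _ (isIso_Q_map_inr_of_isZero (StupidFilt.map C (bot_le : (⊥ : EInt) ≤ ⊤))
    (StupidFilt.isZero_obj_bot C))).symm ≪≫
    DerivedCategory.Q.mapIso (@asIso _ _ _ _ _ (StupidFilt.isIso_ι_top C))

section ses

variable (p : ℤ)

lemma hle : (((-p : ℤ)) : EInt) ≤ (((1 - p : ℤ)) : EInt) := WithBotTop.coe_le_coe.2 (by lia)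

lemma not_mem_neg (k : ℤ) (hk : k ≤ p) : ¬ StupidFilt.mem (((-p : ℤ)) : EInt) k := by
  rw [StupidFilt.mem_coe_iff]
  lia

lemma not_mem_one_sub (k : ℤ) (hk : k < p) : ¬ StupidFilt.mem (((1 - p : ℤ)) : EInt) k := by
  rw [StupidFilt.mem_coe_iff]
  lia

lemma mem_neg (k : ℤ) (hk : p < k) : StupidFilt.mem (((-p : ℤ)) : EInt) k := by
  rw [StupidFilt.mem_coe_iff]
  lia

lemma mem_one_sub (k : ℤ) (hk : p ≤ k) : StupidFilt.mem (((1 - p : ℤ)) : EInt) k := by
  rw [StupidFilt.mem_coe_iff]
  lia

/-- the projection `σ_{≥ p} C ⟶ C^p[-p]` -/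
noncomputable def π : StupidFilt.obj C (((1 - p : ℤ)) : EInt) ⟶
    (HomologicalComplex.single A (ComplexShape.up ℤ) p).obj (C.X p) :=
  HomologicalComplex.mkHomToSingle (StupidFilt.ιX C _ p) (fun k hk => by
    rw [StupidFilt.obj_d_ιX, StupidFilt.ιX_eq_zero C (not_mem_one_sub p k (by
      simp only [ComplexShape.up_Rel] at hk; lia)), zero_comp])

lemma π_f : (π C p).f p = StupidFilt.ιX C _ p ≫
    (HomologicalComplex.singleObjXSelf (ComplexShape.up ℤ) p (C.X p)).inv :=
  HomologicalComplex.mkHomToSingle_f _ _

/-- the short complex `σ_{≥ p + 1} C ⟶ σ_{≥ p} C ⟶ C^p[-p]` -/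
noncomputable def S : ShortComplex (CochainComplex A ℤ) where
  X₁ := StupidFilt.obj C (((-p : ℤ)) : EInt)
  X₂ := StupidFilt.obj C (((1 - p : ℤ)) : EInt)
  X₃ := (HomologicalComplex.single A (ComplexShape.up ℤ) p).obj (C.X p)
  f := StupidFilt.map C (hle p)
  g := π C p
  zero := by
    apply HomologicalComplex.to_single_hom_ext
    rw [HomologicalComplex.comp_f, π_f, StupidFilt.map_f_ιX_assoc,
      StupidFilt.ιX_eq_zero C (not_mem_neg p p le_rfl), zero_comp, HomologicalComplex.zero_f]

lemma shortExact_S : (S C p).ShortExact := by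
  apply HomologicalComplex.shortExact_of_degreewise_shortExact
  intro k
  rcases lt_trichotomy k p with hk | hk | hk
  · -- everything is zero
    have z1 : IsZero ((StupidFilt.obj C (((-p : ℤ)) : EInt)).X k) :=
      StupidFilt.isZero_obj_X C (not_mem_neg p k hk.le)
    have z2 : IsZero ((StupidFilt.obj C (((1 - p : ℤ)) : EInt)).X k) :=
      StupidFilt.isZero_obj_X C (not_mem_one_sub p k hk)
    have z3 : IsZero (((HomologicalComplex.single A (ComplexShape.up ℤ) p).obj (C.X p)).X k) :=
      HomologicalComplex.isZero_single_obj_X _ _ _ _ hk.ne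
    exact { exact := ShortComplex.exact_of_isZero_X₂ _ z2
            mono_f := ⟨fun _ _ _ => z1.eq_of_tgt _ _⟩
            epi_g := ⟨fun _ _ _ => z3.eq_of_src _ _⟩ }
  · subst hk
    have z1 : IsZero ((StupidFilt.obj C (((-k : ℤ)) : EInt)).X k) :=
      StupidFilt.isZero_obj_X C (not_mem_neg k k le_rfl)
    have i2 : IsIso ((π C k).f k) := by
      rw [π_f]
      have := StupidFilt.isIso_ιX C (mem_one_sub k k le_rfl)
      infer_instance
    have hf : ((S C k).map (HomologicalComplex.eval A (ComplexShape.up ℤ) k)).f = 0 :=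
      z1.eq_of_src _ _
    have hmono : Mono ((S C k).map (HomologicalComplex.eval A (ComplexShape.up ℤ) k)).g := by
      change Mono ((π C k).f k)
      infer_instance
    exact { exact := (ShortComplex.exact_iff_mono _ hf).2 hmono
            mono_f := ⟨fun _ _ _ => z1.eq_of_tgt _ _⟩
            epi_g := by
              change Epi ((π C k).f k)
              infer_instance }
  · have z3 : IsZero (((HomologicalComplex.single A (ComplexShape.up ℤ) p).obj (C.X p)).X k) :=
      HomologicalComplex.isZero_single_obj_X _ _ _ _ hk.ne'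
    have i1 : IsIso ((StupidFilt.map C (hle p)).f k) := StupidFilt.isIso_map_f C (hle p) (mem_neg p k hk)
    have hg : ((S C p).map (HomologicalComplex.eval A (ComplexShape.up ℤ) k)).g = 0 :=
      z3.eq_of_tgt _ _
    have hepi : Epi ((S C p).map (HomologicalComplex.eval A (ComplexShape.up ℤ) k)).f := by
      change Epi ((StupidFilt.map C (hle p)).f k)
      infer_instance
    exact { exact := (ShortComplex.exact_iff_epi _ hg).2 hepi
            mono_f := by
              change Mono ((StupidFilt.map C (hle p)).f k)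
              infer_instance
            epi_g := ⟨fun _ _ _ => z3.eq_of_src _ _⟩ }

/-- the graded pieces of the stupid filtration -/
noncomputable def grIso :
    DerivedCategory.Q.obj (CochainComplex.mappingCone (StupidFilt.map C (hle p))) ≅
      (DerivedCategory.singleFunctor A p).obj (C.X p) :=
  @asIso _ _ _ _ (DerivedCategory.Q.map (CochainComplex.mappingCone.descShortComplex (S C p)))
    ((DerivedCategory.isIso_Q_map_iff_quasiIso A _).2
      (CochainComplex.mappingCone.quasiIso_descShortComplex (shortExact_S C p)))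

end ses

end StupidSO

end Groth.Agent.Lib.helper27
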