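import Mathlib
import Groth.Agent.Lib.Helper27.StupidE1
import Groth.Agent.Lib.Helper27.LiftSO
import Groth.Agent.Lib.Helper27.SSGen

set_option autoImplicit false
set_option linter.unusedSectionVars false

namespace Groth.Agent.Lib.helper27

open CategoryTheory Limits ComposableArrows

universe w v u v' u'

namespace StupidPlus

variable {A : Type u} [Category.{v} A] [Abelian A] [HasDerivedCategory.{w} A]
  (C : CochainComplex A ℤ) [C.IsStrictlyGE 0]

instance (i : EInt) : (StupidFilt.obj C i).IsStrictlyGE 0 := by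
  rw [CochainComplex.isStrictlyGE_iff]
  intro n hn
  exact StupidFilt.isZero_obj_X_of_isZero C i (C.isZero_of_isStrictlyGE 0 n hn)

lemma plus_Y (D : ComposableArrows EInt 1) :
    (DerivedCategory.TStructure.t (C := A)).plus ((StupidSO.Y C).ω₁.obj D) := by
  obtain ⟨i, j, f, rfl⟩ := mk₁_surjective D
  have h3 : (CochainComplex.mappingCone (StupidFilt.map C (leOfHom f))).IsStrictlyGE (-1) :=
    CochainComplex.isStrictlyGE_mappingCone _ 0 0 (-1) (by lia) (by lia)
  refine ⟨-1, ?_⟩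
  change (DerivedCategory.Q.obj (CochainComplex.mappingCone (StupidFilt.map C (leOfHom f)))).IsGE (-1)
  infer_instance

/-- the spectral object in `D⁺(A)` -/
noncomputable def Y : Triangulated.SpectralObject (DerivedCategory.Plus A) EInt :=
  LiftSO.lift _ (StupidSO.Y C) (plus_Y C)

lemma Y_ω₁_obj (i j : EInt) (h : i ≤ j) :
    (Y C).ω₁.obj (mk₁ (homOfLE h)) =
      ⟨DerivedCategory.Q.obj (CochainComplex.mappingCone (StupidFilt.map C h)),
        plus_Y C (mk₁ (homOfLE h))⟩ := rfl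

lemma isZero_of_isZero_ι (Z : DerivedCategory.Plus A) (h : IsZero (DerivedCategory.Plus.ι.obj Z)) :
    IsZero Z := by
  rw [IsZero.iff_id_eq_zero]
  apply DerivedCategory.Plus.ι.map_injective
  rw [Functor.map_zero]
  exact h.eq_of_src _ _

section homological

variable {B : Type u'} [Category.{v'} B] [Abelian B]
  (Hf : DerivedCategory.Plus A ⥤ B) [Hf.IsHomological]

/-- the abelian spectral object obtained by applying `Hf` -/
noncomputable def X : Abelian.SpectralObject B EInt :=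
  letI : Hf.ShiftSequence ℤ := Functor.ShiftSequence.tautological _ _
  SSAbut.mapHomological (Y C) Hf

lemma X_H_obj (n : ℤ) (a b : EInt) (h : a ≤ b) :
    ((X C Hf).H n).obj (mk₁ (homOfLE h)) = Hf.obj (((Y C).ω₁.obj (mk₁ (homOfLE h)))⟦n⟧) :=
  rfl

lemma isStupidQuadrant (hv : SSGen.Vanishes Hf) : E1.IsStupidQuadrant (X C Hf) where
  isZero₁ i j hij hi n := by
    rw [X_H_obj]
    apply Hf.map_isZero
    apply (shiftFunctor _ n).map_isZero
    apply isZero_of_isZero_ι
    exact StupidSO.isZero₁ C i j hij hi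
  isZero₂ i j hij n m hj hnm := by
    by_cases h : i = j
    · subst h
      have : IsIso (homOfLE hij) := by
        have : homOfLE hij = 𝟙 i := Subsingleton.elim _ _
        rw [this]
        infer_instance
      exact (X C Hf).isZero_H_map_mk₁_of_isIso n (homOfLE hij)
    · rw [X_H_obj]
      have h1 := StupidSO.isGE_of_lt C i j hij m (lt_of_le_of_ne hij h) hj
      have : ((Y C).ω₁.obj (mk₁ (homOfLE hij))).IsGE (1 - m) := by
        rw [← DerivedCategory.Plus.isGE_ι_obj_iff]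
        exact h1
      exact hv _ (1 - m) n (by lia)

/-- the graded pieces in `D⁺(A)` -/
noncomputable def grIso (p : ℤ) :
    (Y C).ω₁.obj (mk₁ (homOfLE (StupidSO.hle p))) ≅
      (DerivedCategory.Plus.singleFunctor A p).obj (C.X p) :=
  DerivedCategory.Plus.ι.preimageIso (StupidSO.grIso C p)

/-- the `E₁`-terms -/
noncomputable def E1Iso (p q : ℤ) :
    ((X C Hf).H (p + q)).obj (mk₁ (homOfLE (StupidSO.hle p))) ≅
      Hf.obj (((DerivedCategory.Plus.singleFunctor A 0).obj (C.X p))⟦q⟧) :=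
  Hf.mapIso ((shiftFunctor _ (p + q)).mapIso (grIso C p) ≪≫
    (shiftFunctorAdd' _ p q (p + q) rfl).app _ ≪≫
    (shiftFunctor _ q).mapIso
      (((DerivedCategory.Plus.singleFunctors A).shiftIso p 0 p (by simp)).app (C.X p)))

/-- the abutment -/
noncomputable def HIso (K : DerivedCategory.Plus A)
    (eK : DerivedCategory.Plus.ι.obj K ≅ DerivedCategory.Q.obj C) (n : ℤ) :
    ((X C Hf).H n).obj (mk₁ (homOfLE (bot_le : (⊥ : EInt) ≤ ⊤))) ≅ Hf.obj (K⟦n⟧) :=
  Hf.mapIso ((shiftFunctor _ n).mapIso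
    (DerivedCategory.Plus.ι.preimageIso (StupidSO.abutIso C ≪≫ eK.symm)))

/-- the spectral sequence of the stupid filtration of a complex in degrees `≥ 0`:
`E₁^{p,q} = Hf(C^p[q]) ⇒ Hf(C[p+q])` -/
theorem main (hv : SSGen.Vanishes Hf) (K : DerivedCategory.Plus A)
    (eK : DerivedCategory.Plus.ι.obj K ≅ DerivedCategory.Q.obj C)
    (H' : ℤ → B) (hH : ∀ n : ℤ, Nonempty (H' n ≅ Hf.obj (K⟦n⟧)))
    (E1t : ℤ → ℤ → B)
    (hE : ∀ p q : ℤ, 0 ≤ p → 0 ≤ q → Nonempty (E1t p q ≅
      Hf.obj (((DerivedCategory.Plus.singleFunctor A 0).obj (C.X p))⟦q⟧)))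
    (hE0 : ∀ p q : ℤ, (p < 0 ∨ q < 0) → IsZero (E1t p q)) :
    ∃ (E : CohomologicalSpectralSequence B 1) (a : SpSeq.Abutment E H'),
      (∀ n, a.IsFinite n) ∧ SpSeq.IsBounded E ∧
      ∀ p q : ℤ, Nonempty ((E.page 1 le_rfl).X (p, q) ≅ E1t p q) := by
  have := isStupidQuadrant C Hf hv
  refine ⟨E1.spectralSequence (X C Hf),
    E1.abutment (X C Hf) _ (fun n => (hH n).some ≪≫ (HIso C Hf K eK n).symm),
    E1.abutment_isFinite _ _ _, E1.isBounded _, fun p q => ?_⟩
  by_cases hpq : 0 ≤ p ∧ 0 ≤ q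
  · obtain ⟨e6⟩ := hE p q hpq.1 hpq.2
    exact ⟨E1.page₁Iso (X C Hf) p q ≪≫ E1Iso C Hf p q ≪≫ e6.symm⟩
  · rw [not_and_or, not_le, not_le] at hpq
    refine ⟨IsZero.iso ?_ (hE0 p q hpq)⟩
    rcases hpq with h | h
    · exact E1.isZero_page_of_neg _ 1 le_rfl _ h
    · exact E1.isZero_page_of_neg' _ 1 le_rfl _ h

end homological

end StupidPlus

end Groth.Agent.Lib.helper27
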