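import Mathlib
import Groth.Prelude.Def_SpSeq
import Groth.Agent.Lib.Helper27.StupidPlus
import Groth.Agent.Lib.Helper27.SSRH
import Groth.Agent.Lib.Helper27.SSGroth2

set_option autoImplicit false
set_option linter.style.haveILetI false

namespace Groth.Agent.Lib.helper27

open CategoryTheory Limits

universe v u

namespace ResSS

/-- a complex in degrees `≥ 0` which is a resolution of `F` is isomorphic to `F[0]` in the
derived category -/
theorem nonempty_iso_single {𝒜 : Type u} [Category.{v} 𝒜] [Abelian 𝒜]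
    [HasDerivedCategory.{max u v} 𝒜] (F : 𝒜) (C : CochainComplex 𝒜 ℤ) [C.IsStrictlyGE 0]
    (h0 : Nonempty (C.homology 0 ≅ F)) (hpos : ∀ n : ℤ, 0 < n → IsZero (C.homology n)) :
    Nonempty ((DerivedCategory.singleFunctor 𝒜 0).obj F ≅ DerivedCategory.Q.obj C) := by
  have hle : C.IsLE 0 := by
    rw [CochainComplex.isLE_iff]
    intro i hi
    rw [HomologicalComplex.exactAt_iff_isZero_homology]
    exact hpos i hi
  obtain ⟨M', ⟨e₀⟩⟩ := DerivedCategory.exists_iso_singleFunctor_obj_of_isGE_of_isLE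
    (DerivedCategory.Q.obj C) 0
  obtain ⟨e₁⟩ := h0
  let e₂ : M' ≅ F :=
    ((DerivedCategory.singleFunctorCompHomologyFunctorIso 𝒜 0).app M').symm ≪≫
      (DerivedCategory.homologyFunctor 𝒜 0).mapIso e₀.symm ≪≫
      (DerivedCategory.homologyFunctorFactors 𝒜 0).app C ≪≫ e₁
  exact ⟨(DerivedCategory.singleFunctor 𝒜 0).mapIso e₂.symm ≪≫ e₀.symm⟩

/-- the spectral sequence of a resolution: `E₁^{p,q} = R^q S (C^p) ⇒ R^{p+q} S (F)` -/
theorem main {𝒜 ℬ : Type u} [Category.{v} 𝒜] [Category.{v} ℬ] [Abelian 𝒜] [Abelian ℬ]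
    [HasInjectiveResolutions 𝒜] (S : 𝒜 ⥤ ℬ) [S.Additive] [PreservesFiniteLimits S]
    (F : 𝒜) (C : CochainComplex 𝒜 ℤ) [C.IsStrictlyGE 0]
    (h0 : Nonempty (C.homology 0 ≅ F)) (hpos : ∀ n : ℤ, 0 < n → IsZero (C.homology n))
    (Hn : ℕ → ℬ) (hH : ∀ k : ℕ, Nonempty (Hn k ≅ (S.rightDerived k).obj F))
    (E1n : ℕ → ℕ → ℬ)
    (hE : ∀ p q : ℕ, Nonempty (E1n p q ≅ (S.rightDerived q).obj (C.X (p : ℤ))))
    (Z₁ Z₂ : ℬ) (hZ₁ : IsZero Z₁) (hZ₂ : IsZero Z₂) :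
    ∃ (E : CohomologicalSpectralSequence ℬ 1)
      (a : SpSeq.Abutment E (fun n : ℤ => if 0 ≤ n then Hn n.toNat else Z₁)),
      (∀ n, a.IsFinite n) ∧ SpSeq.IsBounded E ∧
      ∀ p q : ℤ, Nonempty ((E.page 1 le_rfl).X (p, q) ≅
        (if 0 ≤ p ∧ 0 ≤ q then E1n p.toNat q.toNat else Z₂)) := by
  haveI : EnoughInjectives 𝒜 := SSGroth.enoughInjectives_of_hasInjectiveResolutions 𝒜
  letI : HasDerivedCategory.{max u v} 𝒜 := HasDerivedCategory.standard 𝒜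
  letI : HasDerivedCategory.{max u v} ℬ := HasDerivedCategory.standard ℬ
  obtain ⟨eK⟩ := nonempty_iso_single F C h0 hpos
  refine StupidPlus.main C (SSRH.RH S) (fun Z m _ n hn => SSRH.isZero_RH_shift S Z m n hn)
    ((DerivedCategory.Plus.singleFunctor 𝒜 0).obj F) eK _ ?_ _ ?_ ?_
  · intro n
    by_cases hn : 0 ≤ n
    · rw [if_pos hn]
      obtain ⟨k, rfl⟩ := Int.eq_ofNat_of_zero_le hn
      rw [Int.toNat_natCast]
      obtain ⟨e1⟩ := (SSRH.RH_single S F _ (Iso.refl _)).1 k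
      obtain ⟨e2⟩ := hH k
      exact ⟨e2 ≪≫ e1.symm⟩
    · rw [if_neg hn]
      exact ⟨hZ₁.iso ((SSRH.RH_single S F _ (Iso.refl _)).2 n (by lia))⟩
  · intro p q hp hq
    rw [if_pos ⟨hp, hq⟩]
    obtain ⟨k, rfl⟩ := Int.eq_ofNat_of_zero_le hp
    obtain ⟨l, rfl⟩ := Int.eq_ofNat_of_zero_le hq
    rw [Int.toNat_natCast, Int.toNat_natCast]
    obtain ⟨e1⟩ := (SSRH.RH_single S (C.X (k : ℤ)) _ (Iso.refl _)).1 l
    obtain ⟨e2⟩ := hE k l
    exact ⟨e2 ≪≫ e1.symm⟩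
  · intro p q hpq
    rw [if_neg (by lia)]
    exact hZ₂

end ResSS

end Groth.Agent.Lib.helper27
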