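import Mathlib
import Groth.Prelude.Def_CohTop
import Groth.Prelude.Def_SpSeq
import Groth.Agent.Lib.Helper27.ClosedCech
import Groth.Agent.Lib.Helper27.LFProdCoh
import Groth.Agent.Lib.Helper27.ResSS

set_option autoImplicit false
set_option linter.unusedSectionVars false
set_option linter.unusedVariables false

namespace Groth.Agent.Lib.helper27

open CategoryTheory Limits Opposite TopologicalSpace Simplicial

universe v u

namespace ResSS

/-- the `ℕ`-indexed version of `ResSS.main` -/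
theorem mainNat {𝒜 ℬ : Type u} [Category.{v} 𝒜] [Category.{v} ℬ] [Abelian 𝒜] [Abelian ℬ]
    [HasInjectiveResolutions 𝒜] (S : 𝒜 ⥤ ℬ) [S.Additive] [PreservesFiniteLimits S]
    (F : 𝒜) (K : CochainComplex 𝒜 ℕ)
    (h0 : Nonempty (K.homology 0 ≅ F)) (hpos : ∀ p : ℕ, IsZero (K.homology (p + 1)))
    (Hn : ℕ → ℬ) (hH : ∀ k : ℕ, Nonempty (Hn k ≅ (S.rightDerived k).obj F))
    (E1n : ℕ → ℕ → ℬ)
    (hE : ∀ p q : ℕ, Nonempty (E1n p q ≅ (S.rightDerived q).obj (K.X p)))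
    (Z₁ Z₂ : ℬ) (hZ₁ : IsZero Z₁) (hZ₂ : IsZero Z₂) :
    ∃ (E : CohomologicalSpectralSequence ℬ 1)
      (a : SpSeq.Abutment E (fun n : ℤ => if 0 ≤ n then Hn n.toNat else Z₁)),
      (∀ n, a.IsFinite n) ∧ SpSeq.IsBounded E ∧
      ∀ p q : ℤ, Nonempty ((E.page 1 le_rfl).X (p, q) ≅
        (if 0 ≤ p ∧ 0 ≤ q then E1n p.toNat q.toNat else Z₂)) := by
  refine ResSS.main S F (K.extend ComplexShape.embeddingUpNat) ?_ ?_ Hn hH E1n ?_ Z₁ Z₂ hZ₁ hZ₂
  · obtain ⟨e⟩ := h0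
    exact ⟨K.extendHomologyIso ComplexShape.embeddingUpNat
      (show ComplexShape.embeddingUpNat.f 0 = (0 : ℤ) from rfl) ≪≫ e⟩
  · intro n hn
    obtain ⟨p, rfl⟩ : ∃ p : ℕ, n = ((p + 1 : ℕ) : ℤ) := ⟨(n - 1).toNat, by omega⟩
    exact (hpos p).of_iso (K.extendHomologyIso ComplexShape.embeddingUpNat
      (show ComplexShape.embeddingUpNat.f (p + 1) = ((p + 1 : ℕ) : ℤ) from rfl))
  · intro p q
    obtain ⟨e⟩ := hE p q
    exact ⟨e ≪≫ (S.rightDerived q).mapIso (K.extendXIso ComplexShape.embeddingUpNat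
      (show ComplexShape.embeddingUpNat.f p = (p : ℤ) from rfl)).symm⟩

end ResSS

namespace ClosedSS

open StalkAb ClosedR ClosedCech LerayDegTop

variable {X : TopCat.{u}} (F : CohTop.Ab X)

lemma H_congr {Z Z' : Set X} (h : Z = Z') (q : ℕ) :
    Nonempty (CohTop.H ((CohTop.pull (incl Z)).obj F) q ≃+
      CohTop.H ((CohTop.pull (incl Z')).obj F) q) := by
  subst h
  exact ⟨AddEquiv.refl _⟩

variable {I : Type u} (U : I → Set X) (hU : ∀ i, IsClosed (U i)) (hlf : LocallyFinite U)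

include hU hlf in
theorem E1_iso (p q : ℕ) :
    Nonempty (AddCommGrpCat.of (∀ σ : Fin (p + 1) → I,
        CohTop.H ((CohTop.pull (incl (⋂ k, U (σ k)))).obj F) q) ≅
      ((ΓT X).rightDerived q).obj ((CechAbs.K (Y U) (Φ F)).X p)) := by
  let Zp : (Fin (p + 1) → I) → Set X := fun σ => (∏ᶜ (U ∘ σ) : Set X)
  have hcl : ∀ σ, IsClosed (Zp σ) := isClosed_Y U hU (op ⦋p⦌)
  have hlf' : LocallyFinite Zp := locallyFinite_Y U hlf (op ⦋p⦌)
  obtain ⟨e⟩ := LFProdCoh.main_H Zp hcl hlf' q (fun σ => (CohTop.pull (incl (Zp σ))).obj F)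
  have hc : ∀ σ : Fin (p + 1) → I, Nonempty (CohTop.H ((CohTop.pull (incl (Zp σ))).obj F) q ≃+
      CohTop.H ((CohTop.pull (incl (⋂ k, U (σ k)))).obj F) q) :=
    fun σ => H_congr F (prod_eq (U ∘ σ)) q
  exact ⟨(AddEquiv.toAddCommGrpIso (AddEquiv.piCongrRight (fun σ => (hc σ).some))).symm ≪≫ e.symm⟩

end ClosedSS

end Groth.Agent.Lib.helper27
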