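import Mathlib
import Groth.Prelude.Def_CohSite
import Groth.Agent.Lib.Helper27.CohPsh

/-!
# The sieve along which a cohomology class dies; elementary lemmas
-/

set_option autoImplicit false

namespace Groth.Agent.Lib.helper27

open CategoryTheory Limits Abelian Opposite Groth.Agent.Lib.helper7

universe u

namespace KillSv

variable {D : Type u} [SmallCategory D] (K : GrothendieckTopology D)

/-- the sieve of arrows along which `ξ` restricts to zero -/
def kill {F : Sheaf K AddCommGrpCat.{u}} {T : D} {m : ℕ}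
    (ξ : Ext.{u} ((FreeYoneda.freeSheaf K).obj T) F m) : Sieve T where
  arrows V g := (Ext.mk₀ ((FreeYoneda.freeSheaf K).map g)).comp ξ (zero_add m) = 0
  downward_closed := by
    intro V W g hg j
    show (Ext.mk₀ ((FreeYoneda.freeSheaf K).map (j ≫ g))).comp ξ (zero_add m) = 0
    rw [Functor.map_comp, ← Ext.mk₀_comp_mk₀, Ext.comp_assoc_of_second_deg_zero, hg,
      Ext.comp_zero]

lemma kill_apply {F : Sheaf K AddCommGrpCat.{u}} {T : D} {m : ℕ}
    (ξ : Ext.{u} ((FreeYoneda.freeSheaf K).obj T) F m) {V : D} (g : V ⟶ T) :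
    (kill K ξ).arrows g ↔ (Ext.mk₀ ((FreeYoneda.freeSheaf K).map g)).comp ξ (zero_add m) = 0 :=
  Iff.rfl

lemma kill_zero {F : Sheaf K AddCommGrpCat.{u}} {T : D} {m : ℕ} :
    kill K (0 : Ext.{u} ((FreeYoneda.freeSheaf K).obj T) F m) = ⊤ := by
  ext V g
  simp [kill_apply]

lemma e₀_res (F : Sheaf K AddCommGrpCat.{u}) {T V : D} (g : V ⟶ T)
    (x : Ext.{u} ((FreeYoneda.freeSheaf K).obj T) F 0) :
    CohPsh.e₀ K F V ((Ext.mk₀ ((FreeYoneda.freeSheaf K).map g)).comp x (zero_add 0)) =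
      F.obj.map g.op (CohPsh.e₀ K F T x) := by
  obtain ⟨b, rfl⟩ := (Ext.mk₀_bijective _ _).2 x
  rw [Ext.mk₀_comp_mk₀, CohPsh.e₀_mk₀, CohPsh.e₀_mk₀]
  exact FreeYoneda.homEquiv_naturality_left K g F b

lemma e₀_post {F F' : Sheaf K AddCommGrpCat.{u}} (φ : F ⟶ F') {T : D}
    (x : Ext.{u} ((FreeYoneda.freeSheaf K).obj T) F 0) :
    CohPsh.e₀ K F' T (x.comp (Ext.mk₀ φ) (add_zero 0)) = φ.hom.app (op T) (CohPsh.e₀ K F T x) := by
  obtain ⟨b, rfl⟩ := (Ext.mk₀_bijective _ _).2 x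
  rw [Ext.mk₀_comp_mk₀, CohPsh.e₀_mk₀, CohPsh.e₀_mk₀]
  exact FreeYoneda.homEquiv_naturality_right K T φ b

/-- if the boundary of a section dies along `g`, the section lifts along `g` -/
lemma lift_of_kill {S : ShortComplex (Sheaf K AddCommGrpCat.{u})} (hS : S.ShortExact) {T : D}
    (η : Ext.{u} ((FreeYoneda.freeSheaf K).obj T) S.X₃ 0) {V : D} (g : V ⟶ T)
    (hg : (kill K (η.comp hS.extClass (zero_add 1))).arrows g) :
    ∃ i : S.X₂.obj.obj (op V), S.g.hom.app (op V) i = S.X₃.obj.map g.op (CohPsh.e₀ K S.X₃ T η) := by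
  have h1 : ((Ext.mk₀ ((FreeYoneda.freeSheaf K).map g)).comp η (zero_add 0)).comp hS.extClass
      (zero_add 1) = 0 := by
    rw [Ext.comp_assoc_of_second_deg_zero]
    exact hg
  obtain ⟨u, hu⟩ := Ext.covariant_sequence_exact₃ _ hS _ (zero_add 1) h1
  refine ⟨CohPsh.e₀ K S.X₂ V u, ?_⟩
  rw [← e₀_post, hu, e₀_res]

/-- for an injective middle term the boundary is injective in positive degrees -/
lemma kill_le_of_injective {S : ShortComplex (Sheaf K AddCommGrpCat.{u})} (hS : S.ShortExact)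
    [Injective S.X₂] {T : D} {m : ℕ}
    (η : Ext.{u} ((FreeYoneda.freeSheaf K).obj T) S.X₃ (m + 1)) :
    kill K (η.comp hS.extClass rfl) ≤ kill K η := by
  intro V g hg
  have h1 : ((Ext.mk₀ ((FreeYoneda.freeSheaf K).map g)).comp η (zero_add (m + 1))).comp hS.extClass
      rfl = 0 := by
    rw [Ext.comp_assoc (a₁₂ := m + 1) (a₂₃ := m + 1 + 1) (a := m + 1 + 1) _ _ _
      (zero_add _) rfl (by omega)]
    exact hg
  obtain ⟨u, hu⟩ := Ext.covariant_sequence_exact₃ _ hS _ rfl h1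
  have hu0 : u = 0 := Ext.eq_zero_of_injective u
  rw [hu0, Ext.zero_comp] at hu
  exact hu.symm

end KillSv

end Groth.Agent.Lib.helper27
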