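import Mathlib

/-!
# Extension by zero along `Over.map g` for abelian sheaves is exact

Adaptation of helper21's `AbShriek` (which treats `Over.forget U`) to `Over.map g : Over X ⥤ Over Y`.
The left adjoint `g_!` of the restriction functor `Sheaf (J.over Y) Ab ⥤ Sheaf (J.over X) Ab`
preserves monomorphisms, so restriction preserves injectives.
-/

open CategoryTheory Limits Opposite

universe u

namespace Groth.Agent.Lib.helper27.OvShriek

variable {C : Type u} [SmallCategory C] {X Y : C} (g : X ⟶ Y)

/-- the functor along which we Kan-extend -/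
abbrev L : (Over X)ᵒᵖ ⥤ (Over Y)ᵒᵖ := (Over.map g).op

/-- index set of the fibre over `T` -/
abbrev Idx (T : (Over Y)ᵒᵖ) : Type u := {φ : T.unop.left ⟶ X // φ ≫ g = T.unop.hom}

/-- The distinguished objects of the costructured arrow category. -/
def T (T' : (Over Y)ᵒᵖ) (φ : Idx g T') : CostructuredArrow (L g) T' :=
  CostructuredArrow.mk (Y := op (Over.mk φ.1))
    (Quiver.Hom.op (Over.homMk (U := T'.unop) (V := (Over.map g).obj (Over.mk φ.1)) (𝟙 _)
      (by simp [φ.2])))

/-- The inclusion of the distinguished objects. -/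
def iY (T' : (Over Y)ᵒᵖ) : Discrete (Idx g T') ⥤ CostructuredArrow (L g) T' :=
  Discrete.functor (T g T')

variable {g}

/-- the index of the component of `k` -/
def idx {T' : (Over Y)ᵒᵖ} (k : CostructuredArrow (L g) T') : Idx g T' :=
  ⟨k.hom.unop.left ≫ k.left.unop.hom, by
    have := Over.w k.hom.unop
    simpa using this⟩

/-- the canonical map to the distinguished object of the component -/
def toT {T' : (Over Y)ᵒᵖ} (k : CostructuredArrow (L g) T') : k ⟶ T g T' (idx k) :=
  CostructuredArrow.homMk
    (Over.homMk (U := Over.mk (idx k).1) (V := k.left.unop) k.hom.unop.left rfl).op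
    (by
      apply Quiver.Hom.unop_inj
      apply Over.OverMorphism.ext
      simp [T, L])

lemma left_eq_of_hom {T' : (Over Y)ᵒᵖ} (k : CostructuredArrow (L g) T') (φ : Idx g T')
    (f : k ⟶ T g T' φ) : f.left.unop.left = k.hom.unop.left := by
  have h1 : (L g).map f.left ≫ (T g T' φ).hom = k.hom := CostructuredArrow.w f
  have h2 := congrArg (fun t : (L g).obj k.left ⟶ T' => (Quiver.Hom.unop t).left) h1
  simpa [T, L] using h2

lemma idx_eq_of_hom {T' : (Over Y)ᵒᵖ} (k : CostructuredArrow (L g) T') (φ : Idx g T')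
    (f : k ⟶ T g T' φ) : φ = idx k := by
  apply Subtype.ext
  have h2 : f.left.unop.left ≫ k.left.unop.hom = φ.1 := Over.w f.left.unop
  show φ.1 = k.hom.unop.left ≫ k.left.unop.hom
  rw [← left_eq_of_hom k φ f]
  exact h2.symm

lemma hom_T_ext {T' : (Over Y)ᵒᵖ} (k : CostructuredArrow (L g) T') (φ : Idx g T')
    (f f' : k ⟶ T g T' φ) : f = f' := by
  apply CostructuredArrow.hom_ext
  apply Quiver.Hom.unop_inj
  apply Over.OverMorphism.ext
  exact (left_eq_of_hom k φ f).trans (left_eq_of_hom k φ f').symm

instance final_iY (T' : (Over Y)ᵒᵖ) : (iY g T').Final where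
  out k := by
    let x0 : StructuredArrow k (iY g T') :=
      StructuredArrow.mk (Y := (⟨idx k⟩ : Discrete (Idx g T')))
        (show k ⟶ (iY g T').obj ⟨idx k⟩ from toT k)
    refine isConnected_of_isInitial _ (x := x0) (IsInitial.ofUniqueHom (fun x => ?_) (fun x m => ?_))
    · obtain ⟨l, ⟨φ⟩, f⟩ := x
      have hφ : φ = idx k := idx_eq_of_hom k φ f
      subst hφ
      exact StructuredArrow.homMk (𝟙 _) (hom_T_ext k _ _ _)
    · apply StructuredArrow.hom_ext
      apply Subsingleton.elim

variable (g) in
/-- Pointwise description of the left Kan extension along `(Over.map g).op`. -/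
noncomputable def lanIso (G : (Over X)ᵒᵖ ⥤ AddCommGrpCat.{u}) (T' : (Over Y)ᵒᵖ) :
    ((L g).lan.obj G).obj T' ≅ colimit (iY g T' ⋙ CostructuredArrow.proj (L g) T' ⋙ G) :=
  (L g).leftKanExtensionObjIsoColimit G T' ≪≫
    (Functor.Final.colimitIso (iY g T') (CostructuredArrow.proj (L g) T' ⋙ G)).symm

lemma ι_lanIso_inv (G : (Over X)ᵒᵖ ⥤ AddCommGrpCat.{u}) (T' : (Over Y)ᵒᵖ) (φ : Idx g T') :
    colimit.ι (iY g T' ⋙ CostructuredArrow.proj (L g) T' ⋙ G) ⟨φ⟩ ≫ (lanIso g G T').inv =
      ((L g).lanUnit.app G).app (op (Over.mk φ.1)) ≫ ((L g).lan.obj G).map (T g T' φ).hom := by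
  dsimp only [lanIso, Iso.trans_inv, Iso.symm_inv]
  rw [Functor.Final.ι_colimitIso_hom_assoc]
  erw [Functor.ι_leftKanExtensionObjIsoColimit_inv]
  rfl

lemma lan_map_app_eq {G G' : (Over X)ᵒᵖ ⥤ AddCommGrpCat.{u}} (α : G ⟶ G') (T' : (Over Y)ᵒᵖ) :
    ((L g).lan.map α).app T' = (lanIso g G T').hom ≫
      colimMap (Functor.whiskerLeft (iY g T' ⋙ CostructuredArrow.proj (L g) T') α) ≫
        (lanIso g G' T').inv := by
  rw [← Iso.inv_comp_eq]
  apply colimit.hom_ext
  rintro ⟨φ⟩
  have e1 := ι_lanIso_inv G T' φ
  have e2 := ι_lanIso_inv G' T' φ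
  have h := congr_app ((L g).lanUnit.naturality α) (op (Over.mk φ.1))
  rw [ι_colimMap_assoc]
  rw [reassoc_of% e1]
  refine Eq.trans ?_ (congrArg (fun t => α.app (op (Over.mk φ.1)) ≫ t) e2.symm)
  have h' : ((L g).lan.obj G).map (T g T' φ).hom ≫ ((L g).lan.map α).app T' =
      ((L g).lan.map α).app _ ≫ ((L g).lan.obj G').map (T g T' φ).hom :=
    ((L g).lan.map α).naturality (T g T' φ).hom
  refine (Category.assoc _ _ _).trans ?_
  refine (congrArg (fun t => ((L g).lanUnit.app G).app (op (Over.mk φ.1)) ≫ t) h').trans ?_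
  exact ((Category.assoc _ _ _).symm.trans
    (congrArg (fun t => t ≫ ((L g).lan.obj G').map (T g T' φ).hom) h.symm)).trans
    (Category.assoc _ _ _)

instance lan_preservesMonomorphisms :
    ((L g).lan : ((Over X)ᵒᵖ ⥤ AddCommGrpCat.{u}) ⥤
      ((Over Y)ᵒᵖ ⥤ AddCommGrpCat.{u})).PreservesMonomorphisms where
  preserves {G G'} α hα := by
    rw [NatTrans.mono_iff_mono_app]
    intro T'
    rw [lan_map_app_eq]
    have : Mono (Functor.whiskerLeft (iY g T' ⋙ CostructuredArrow.proj (L g) T') α) := by
      rw [NatTrans.mono_iff_mono_app]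
      intro j
      rw [NatTrans.mono_iff_mono_app] at hα
      exact hα _
    have : Mono (colimMap (Functor.whiskerLeft (iY g T' ⋙ CostructuredArrow.proj (L g) T') α)) :=
      inferInstanceAs (Mono (colim.map _))
    infer_instance

section SheafLevel

variable (g) (J : GrothendieckTopology C)

/-- extension by zero `g_!` for abelian sheaves. -/
noncomputable abbrev shriek :
    Sheaf (J.over X) AddCommGrpCat.{u} ⥤ Sheaf (J.over Y) AddCommGrpCat.{u} :=
  (Over.map g).sheafPullback AddCommGrpCat.{u} (J.over X) (J.over Y)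

/-- restriction `g^{-1}` to the over site. -/
abbrev star : Sheaf (J.over Y) AddCommGrpCat.{u} ⥤ Sheaf (J.over X) AddCommGrpCat.{u} :=
  (Over.map g).sheafPushforwardContinuous AddCommGrpCat.{u} (J.over X) (J.over Y)

/-- the adjunction `g_! ⊣ g^{-1}`. -/
noncomputable abbrev adj : shriek g J ⊣ star g J :=
  (Over.map g).sheafAdjunctionContinuous AddCommGrpCat.{u} (J.over X) (J.over Y)

instance shriek_preservesMonomorphisms : (shriek g J).PreservesMonomorphisms := by
  have h1 : (sheafToPresheaf (J.over X) AddCommGrpCat.{u}).PreservesMonomorphisms := inferInstance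
  have h3 : (presheafToSheaf (J.over Y) AddCommGrpCat.{u}).PreservesMonomorphisms := inferInstance
  have : (Functor.sheafPullbackConstruction.sheafPullback (Over.map g) AddCommGrpCat.{u}
      (J.over X) (J.over Y)).PreservesMonomorphisms := by
    unfold Functor.sheafPullbackConstruction.sheafPullback
    infer_instance
  exact Functor.PreservesMonomorphisms.of_iso
    (Functor.sheafPullbackConstruction.sheafPullbackIso (Over.map g) AddCommGrpCat.{u}
      (J.over X) (J.over Y)).symm

instance star_preservesInjectiveObjects : (star g J).PreservesInjectiveObjects :=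
  Functor.preservesInjectiveObjects_of_adjunction_of_preservesMonomorphisms (adj g J)

instance star_additive : (star g J).Additive := by
  haveI : PreservesLimitsOfSize.{0, 0} (star g J) := (adj g J).rightAdjoint_preservesLimits
  exact Functor.additive_of_preserves_binary_products _

instance star_preservesFiniteLimits : PreservesFiniteLimits (star g J) := by
  haveI : PreservesLimitsOfSize.{0, 0} (star g J) := (adj g J).rightAdjoint_preservesLimits
  infer_instance

instance star_preservesFiniteColimits : PreservesFiniteColimits (star g J) := by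
  haveI : PreservesColimitsOfSize.{0, 0} (star g J) :=
    ((Over.map g).sheafAdjunctionCocontinuous AddCommGrpCat.{u} (J.over X)
      (J.over Y)).leftAdjoint_preservesColimits
  infer_instance

end SheafLevel

end Groth.Agent.Lib.helper27.OvShriek
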