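import Mathlib
import Groth.Prelude.Def_CohSite
import Groth.Agent.Lib.Helper27.OvShriek
import Groth.Agent.Lib.Helper27.RpushSheafify
import Groth.Agent.Lib.Helper21.DerivedComm

/-!
# Direct image along a morphism having all base changes, on over-sites
-/

set_option autoImplicit false

namespace Groth.Agent.Lib.helper27

open CategoryTheory Limits Abelian Opposite Groth.Agent.Lib.helper7

universe u

namespace OvPush

variable {C : Type u} [SmallCategory C] (K : GrothendieckTopology C) {X Y : C} (f : X ⟶ Y)

/-- restriction along `f` -/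
noncomputable abbrev fInv : Sheaf (K.over Y) AddCommGrpCat.{u} ⥤ Sheaf (K.over X) AddCommGrpCat.{u} :=
  CohSite.push (K.over Y) (K.over X) (Over.map f)

/-- the direct image (right adjoint of restriction), defined for every `f` -/
noncomputable abbrev fStar : Sheaf (K.over X) AddCommGrpCat.{u} ⥤ Sheaf (K.over Y) AddCommGrpCat.{u} :=
  (Over.map f).sheafPushforwardCocontinuous AddCommGrpCat.{u} (K.over X) (K.over Y)

/-- the adjunction `f^{-1} ⊣ f_*` -/
noncomputable def adjCo : fInv K f ⊣ fStar K f :=
  (Over.map f).sheafAdjunctionCocontinuous AddCommGrpCat.{u} (K.over X) (K.over Y)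

instance : (fInv K f).PreservesInjectiveObjects :=
  inferInstanceAs (OvShriek.star f K).PreservesInjectiveObjects

instance : PreservesFiniteLimits (fInv K f) :=
  inferInstanceAs (PreservesFiniteLimits (OvShriek.star f K))

instance : PreservesFiniteColimits (fInv K f) :=
  inferInstanceAs (PreservesFiniteColimits (OvShriek.star f K))

instance : (fInv K f).PreservesHomology :=
  Functor.preservesHomology_of_preservesMonos_and_cokernels _

/-- the direct image is additive -/
lemma additive_fStar : (fStar K f).Additive := (adjCo K f).right_adjoint_additive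

variable [HasPullbacksAlong f]

instance : (Over.pullback f).IsContinuous (K.over Y) (K.over X) :=
  (Over.mapPullbackAdj f).isContinuous_of_isCocontinuous _ _

/-- the direct image as the push along the base change functor -/
noncomputable abbrev fStar' : Sheaf (K.over X) AddCommGrpCat.{u} ⥤ Sheaf (K.over Y) AddCommGrpCat.{u} :=
  CohSite.push (K.over X) (K.over Y) (Over.pullback f)

/-- the adjunction `f^{-1} ⊣ f_*` for the base change description -/
noncomputable def adjPb : fInv K f ⊣ fStar' K f :=
  (Over.mapPullbackAdj f).sheafPushforwardContinuous (E := AddCommGrpCat.{u}) (K.over X) (K.over Y)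

/-- the two descriptions of `f_*` agree -/
noncomputable def pushIso : fStar K f ≅ fStar' K f :=
  (adjCo K f).rightAdjointUniq (adjPb K f)

/-- `T ↦ (T ×_Y X → Y)` -/
noncomputable abbrev uu : Over Y ⥤ Over Y := Over.pullback f ⋙ Over.map f

instance : (uu f).IsContinuous (K.over Y) (K.over Y) :=
  Functor.isContinuous_comp (Over.pullback f) (Over.map f) (K.over Y) (K.over X) (K.over Y)

/-- `f_* f^{-1}` is the push along `T ↦ T ×_Y X` -/
noncomputable def compIso : fInv K f ⋙ fStar' K f ≅ CohSite.push (K.over Y) (K.over Y) (uu f) :=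
  Functor.sheafPushforwardContinuousComp (Over.pullback f) (Over.map f) AddCommGrpCat.{u}
    (K.over Y) (K.over X) (K.over Y)

/-- `R^i f_* (F'|_X)` is the sheafification of `T ↦ H^i(T ×_Y X, F')` -/
theorem main [(fStar K f).Additive] (F' : Sheaf (K.over Y) AddCommGrpCat.{u}) (i : ℕ) :
    Nonempty (((fStar K f).rightDerived i).obj ((fInv K f).obj F') ≅
      (presheafToSheaf (K.over Y) AddCommGrpCat.{u}).obj ((uu f).op ⋙ F'.cohomologyPresheaf i)) := by
  have e1 := (Helper21.DerivedComm.rightDerivedIso (pushIso K f) i).app ((fInv K f).obj F')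
  have e2 := (Helper21.DerivedComm.rightDerivedPreIso (fInv K f) (fStar' K f) i).symm.app F'
  have e3 := (Helper21.DerivedComm.rightDerivedIso (compIso K f) i).app F'
  obtain ⟨e4⟩ := RpushSheafify.rpush_iso (K.over Y) (K.over Y) (uu f) F' i
  exact ⟨e1 ≪≫ e2 ≪≫ e3 ≪≫ e4⟩

end OvPush

end Groth.Agent.Lib.helper27
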