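import Mathlib

/-!
# Local vanishing of sections and sheafification (abelian presheaves on a small site)
-/

set_option autoImplicit false

namespace Groth.Agent.Lib.helper27

open CategoryTheory Limits Opposite

universe u

namespace ShfLoc

variable {D : Type u} [SmallCategory D] (K : GrothendieckTopology D)

/-- the sieve of arrows along which the section `s` restricts to zero -/
def zeroSieve (P : Dᵒᵖ ⥤ AddCommGrpCat.{u}) {T : D} (s : P.obj (op T)) : Sieve T where
  arrows V g := P.map g.op s = 0
  downward_closed := by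
    intro V W g hg h
    show P.map (h ≫ g).op s = 0
    rw [op_comp, P.map_comp, ConcreteCategory.comp_apply, hg, map_zero]

lemma zeroSieve_apply (P : Dᵒᵖ ⥤ AddCommGrpCat.{u}) {T : D} (s : P.obj (op T)) {V : D}
    (g : V ⟶ T) : (zeroSieve P s).arrows g ↔ P.map g.op s = 0 := Iff.rfl

/-- separatedness of sheaves, elementwise -/
lemma sheaf_ext (Q : Sheaf K AddCommGrpCat.{u}) {T : D} (t₁ t₂ : Q.obj.obj (op T)) (S : Sieve T)
    (hS : S ∈ K T) (h : ∀ ⦃V : D⦄ (g : V ⟶ T), S g → Q.obj.map g.op t₁ = Q.obj.map g.op t₂) :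
    t₁ = t₂ := by
  have hQ : Presieve.IsSheaf K (Q.obj ⋙ forget AddCommGrpCat.{u}) :=
    (isSheaf_iff_isSheaf_of_type _ _).1 ((Presheaf.isSheaf_iff_isSheaf_forget K Q.obj
      (forget AddCommGrpCat.{u})).1 Q.2)
  exact (hQ.isSeparated S hS).ext (fun V g hg => h g hg)

lemma sheaf_eq_zero (Q : Sheaf K AddCommGrpCat.{u}) {T : D} (t : Q.obj.obj (op T)) (S : Sieve T)
    (hS : S ∈ K T) (h : ∀ ⦃V : D⦄ (g : V ⟶ T), S g → Q.obj.map g.op t = 0) : t = 0 :=
  sheaf_ext K Q t 0 S hS (fun V g hg => by rw [h g hg, map_zero])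

/-- a section maps to zero in the sheafification iff it is locally zero -/
lemma toSheafify_eq_zero_iff (P : Dᵒᵖ ⥤ AddCommGrpCat.{u}) {T : D} (s : P.obj (op T)) :
    (toSheafify K P).app (op T) s = 0 ↔ zeroSieve P s ∈ K T := by
  constructor
  · intro h
    have h' : (toSheafify K P).app (op T) s = (toSheafify K P).app (op T) 0 := by
      rw [h, map_zero]
    have := Presheaf.equalizerSieve_mem K (toSheafify K P) s 0 h'
    refine K.superset_covering ?_ this
    intro V g hg
    have hg' : P.map g.op s = P.map g.op 0 := hg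
    show P.map g.op s = 0
    rw [hg', map_zero]
  · intro h
    refine sheaf_eq_zero K ((presheafToSheaf K AddCommGrpCat.{u}).obj P) _ _ h ?_
    intro V g hg
    have hg' : P.map g.op s = 0 := hg
    have nat := congrArg (fun φ => (ConcreteCategory.hom φ) s)
      ((toSheafify K P).naturality g.op)
    simp only [ConcreteCategory.comp_apply] at nat
    show (sheafify K P).map g.op ((toSheafify K P).app (op T) s) = 0
    rw [← nat, hg', map_zero]

/-- the sheafification vanishes iff every section is locally zero -/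
lemma isZero_sheafify_iff (P : Dᵒᵖ ⥤ AddCommGrpCat.{u}) :
    IsZero ((presheafToSheaf K AddCommGrpCat.{u}).obj P) ↔
      ∀ (T : D) (s : P.obj (op T)), zeroSieve P s ∈ K T := by
  constructor
  · intro h T s
    rw [← toSheafify_eq_zero_iff]
    have hz : IsZero (((presheafToSheaf K AddCommGrpCat.{u}).obj P).obj.obj (op T)) :=
      ((sheafToPresheaf K AddCommGrpCat.{u} ⋙ (evaluation _ _).obj (op T)).map_isZero h)
    haveI := AddCommGrpCat.subsingleton_of_isZero hz
    exact Subsingleton.elim _ _
  · intro h
    have key : ∀ (T : D) (t : (sheafify K P).obj (op T)), t = 0 := by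
      intro T t
      have hsurj := Presheaf.imageSieve_mem K (toSheafify K P) t
      refine sheaf_eq_zero K ((presheafToSheaf K AddCommGrpCat.{u}).obj P) t _ hsurj ?_
      intro V g ⟨s, hs⟩
      show (sheafify K P).map g.op t = 0
      rw [← hs]
      exact (toSheafify_eq_zero_iff K P s).2 (h V s)
    have hobj : ∀ T : Dᵒᵖ, IsZero ((sheafify K P).obj T) := by
      intro T
      haveI : Subsingleton ((sheafify K P).obj T) :=
        ⟨fun a b => (key T.unop a).trans (key T.unop b).symm⟩
      exact AddCommGrpCat.isZero_of_subsingleton _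
    have hpre : IsZero (sheafify K P) := Functor.isZero _ hobj
    have : IsZero ((sheafToPresheaf K AddCommGrpCat.{u}).obj
        ((presheafToSheaf K AddCommGrpCat.{u}).obj P)) := hpre
    exact (IsZero.iff_id_eq_zero _).2 ((sheafToPresheaf K AddCommGrpCat.{u}).map_injective
      (by simpa using (IsZero.iff_id_eq_zero _).1 this))

end ShfLoc

end Groth.Agent.Lib.helper27
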