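import Mathlib
import Groth.Prelude.Def_CohSite
import Groth.Agent.Lib.Helper27.OvPush
import Groth.Agent.Lib.Helper27.ShfLoc
import Groth.Agent.Lib.Helper27.KillSv
import Groth.Agent.S0483

/-!
# Killing an equalized class locally on the base (core of the comparison lemma)
-/

set_option autoImplicit false

namespace Groth.Agent.Lib.helper27

open CategoryTheory Limits Abelian Opposite Groth.Agent.Lib.helper7

universe u

namespace CmpKill

variable {C : Type u} [SmallCategory C] {X Y : C} (f : X ⟶ Y) [HasPullbacksAlong f]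

/-- the projection `T ×_Y X → X`, as a morphism over `Y` -/
noncomputable def sndMap (T : Over Y) : (OvPush.uu f).obj T ⟶ Over.mk f :=
  Over.homMk (pullback.snd T.hom f) (by simp)

@[simp] lemma sndMap_left (T : Over Y) : (sndMap f T).left = pullback.snd T.hom f := rfl

lemma uu_map_sndMap {T₁ T₂ : Over Y} (s : T₁ ⟶ T₂) :
    (OvPush.uu f).map s ≫ sndMap f T₂ = sndMap f T₁ := by
  apply Over.OverMorphism.ext
  simp only [sndMap, Over.comp_left, Functor.comp_map, Over.map_map_left, Over.pullback_map_left,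
    Over.homMk_left]
  exact pullback.lift_snd _ _ _

/-- the projection `T ×_Y X → T`, as a morphism over `Y` (the counit) -/
noncomputable def fstMap (T : Over Y) : (OvPush.uu f).obj T ⟶ T :=
  (Over.mapPullbackAdj f).counit.app T

lemma fstMap_left (T : Over Y) : (fstMap f T).left = pullback.fst T.hom f := by
  simp [fstMap]

lemma uu_map_fstMap {T₁ T₂ : Over Y} (s : T₁ ⟶ T₂) :
    (OvPush.uu f).map s ≫ fstMap f T₂ = fstMap f T₁ ≫ s :=
  (Over.mapPullbackAdj f).counit.naturality s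

variable {J J' : GrothendieckTopology C}

/-- every class of positive degree dies on a covering sieve -/
lemma kill_mem {D : Type u} [SmallCategory D] (K : GrothendieckTopology D)
    (F : Sheaf K AddCommGrpCat.{u}) {T : D} (m : ℕ)
    (ξ : Ext.{u} ((FreeYoneda.freeSheaf K).obj T) F (m + 1)) : KillSv.kill K ξ ∈ K T := by
  obtain ⟨S, hS⟩ := Groth.Agent.S0483.result K F T m ξ
  refine K.superset_covering ?_ S.2
  intro V g hg
  exact hS ⟨V, g, hg⟩

/-- **Core lemma**: `f : X → Y` with all base changes, `{X → Y}` a `J`-covering, `F'` a `J'`-sheaf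
on `C/Y` such that the `J'`-sheafification of `T ↦ H^{n+1}(T ×_Y X, F')` is a `J`-sheaf; a class
`θ ∈ H^{n+1}(X, F')` whose two pullbacks to `X ×_Y X` agree dies on `T ×_Y X` for `T → Y` in a
`J'`-covering sieve. -/
theorem main (hcov : Sieve.ofArrows (fun _ : PUnit.{u + 1} => X) (fun _ => f) ∈ J Y)
    (F' : Sheaf (J'.over Y) AddCommGrpCat.{u}) (n : ℕ)
    (hSh : Presheaf.IsSheaf (J.over Y) ((presheafToSheaf (J'.over Y) AddCommGrpCat.{u}).obj
      ((OvPush.uu f).op ⋙ F'.cohomologyPresheaf (n + 1))).obj)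
    (θ : (F'.cohomologyPresheaf (n + 1)).obj (op (Over.mk f)))
    (hθ : (F'.cohomologyPresheaf (n + 1)).map (sndMap f (Over.mk f)).op θ =
      (F'.cohomologyPresheaf (n + 1)).map (fstMap f (Over.mk f)).op θ) :
    ∃ S ∈ (J'.over Y) (Over.mk (𝟙 Y)), ∀ ⦃T : Over Y⦄ (s : T ⟶ Over.mk (𝟙 Y)), S s →
      (F'.cohomologyPresheaf (n + 1)).map (sndMap f T).op θ = 0 := by
  let ℋ := F'.cohomologyPresheaf (n + 1)
  let P : (Over Y)ᵒᵖ ⥤ AddCommGrpCat.{u} := (OvPush.uu f).op ⋙ ℋ
  let Q : Sheaf (J'.over Y) AddCommGrpCat.{u} := (presheafToSheaf (J'.over Y) AddCommGrpCat.{u}).obj P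
  let QJ : Sheaf (J.over Y) AddCommGrpCat.{u} := ⟨Q.obj, hSh⟩
  let Yt : Over Y := Over.mk (𝟙 Y)
  let Xo : Over Y := Over.mk f
  let fbar : Xo ⟶ Yt := Over.homMk f
  let θ₀ : P.obj (op Yt) := ℋ.map (sndMap f Yt).op θ
  -- Claim A
  have hA : P.map fbar.op θ₀ = ℋ.map (sndMap f Xo).op θ := by
    show ℋ.map ((OvPush.uu f).map fbar).op (ℋ.map (sndMap f Yt).op θ) = _
    rw [← ConcreteCategory.comp_apply, ← ℋ.map_comp, ← op_comp, uu_map_sndMap]
  -- Claim C
  have hC : (toSheafify (J'.over Y) P).app (op Xo) (ℋ.map (fstMap f Xo).op θ) = 0 := by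
    rw [ShfLoc.toSheafify_eq_zero_iff]
    refine (J'.over Y).superset_covering ?_ (kill_mem (J'.over Y) F' n θ)
    intro T s hs
    have hs' : ℋ.map s.op θ = 0 := hs
    show ℋ.map ((OvPush.uu f).map s).op (ℋ.map (fstMap f Xo).op θ) = 0
    rw [← ConcreteCategory.comp_apply, ← ℋ.map_comp, ← op_comp, uu_map_fstMap, op_comp,
      ℋ.map_comp, ConcreteCategory.comp_apply, hs', map_zero]
  -- Claim D
  have hSf : Sieve.ofArrows (fun _ : PUnit.{u + 1} => Xo) (fun _ => fbar) ∈ (J.over Y) Yt := by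
    rw [GrothendieckTopology.mem_over_iff, Sieve.overEquiv_ofArrows]
    exact hcov
  have hD : (toSheafify (J'.over Y) P).app (op Yt) θ₀ = 0 := by
    refine ShfLoc.sheaf_eq_zero (J.over Y) QJ _ _ hSf ?_
    intro V g hg
    obtain ⟨_, a, rfl⟩ := (Sieve.mem_ofArrows_iff _ _ _).1 hg
    show Q.obj.map (a ≫ fbar).op ((toSheafify (J'.over Y) P).app (op Yt) θ₀) = 0
    rw [op_comp, Q.obj.map_comp, ConcreteCategory.comp_apply]
    have nat := congrArg (fun φ => (ConcreteCategory.hom φ) θ₀)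
      ((toSheafify (J'.over Y) P).naturality fbar.op)
    simp only [ConcreteCategory.comp_apply] at nat
    have h0 : Q.obj.map fbar.op ((toSheafify (J'.over Y) P).app (op Yt) θ₀) = 0 := by
      refine nat.symm.trans ?_
      rw [hA, hθ]
      exact hC
    rw [h0, map_zero]
  rw [ShfLoc.toSheafify_eq_zero_iff] at hD
  refine ⟨_, hD, ?_⟩
  intro T s hs
  have hs' : ℋ.map ((OvPush.uu f).map s).op (ℋ.map (sndMap f Yt).op θ) = 0 := hs
  rw [← ConcreteCategory.comp_apply, ← ℋ.map_comp, ← op_comp, uu_map_sndMap] at hs'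
  exact hs'

end CmpKill

end Groth.Agent.Lib.helper27
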