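import Mathlib
import Groth.Agent.Lib.Helper27.ExtAdj

/-!
# Comparison maps on `Ext` induced by an exact functor

For an exact functor `E : 𝒜 ⥤ ℬ`, objects `Z' : 𝒜`, `Z : ℬ`, `N : ℬ` and morphisms `α : Z ⟶ E Z'`,
`ψ : E M ⟶ N`, the map `Ext^q(Z', M) → Ext^q(Z, N)`.
-/

set_option autoImplicit false

namespace Groth.Agent.Lib.helper27

open CategoryTheory Limits Abelian

universe w w' v u v' u'

namespace ExtRho

variable {𝒜 : Type u} [Category.{v} 𝒜] [Abelian 𝒜] [HasExt.{w} 𝒜]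
  {ℬ : Type u'} [Category.{v'} ℬ] [Abelian ℬ] [HasExt.{w'} ℬ]
  (E : 𝒜 ⥤ ℬ) [E.Additive] [PreservesFiniteLimits E] [PreservesFiniteColimits E]

/-- the comparison map `Ext^q(Z', M) → Ext^q(Z, N)` given `α : Z ⟶ E Z'` and `ψ : E M ⟶ N` -/
noncomputable def ρ {Z : ℬ} {Z' : 𝒜} (α : Z ⟶ E.obj Z') {M : 𝒜} {N : ℬ} (ψ : E.obj M ⟶ N) (q : ℕ) :
    Ext.{w} Z' M q →+ Ext.{w'} Z N q :=
  ((Ext.mk₀ α).precomp N (zero_add q)).comp
    (((Ext.mk₀ ψ).postcomp (E.obj Z') (add_zero q)).comp (E.mapExtAddHom Z' M q))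

lemma ρ_apply {Z : ℬ} {Z' : 𝒜} (α : Z ⟶ E.obj Z') {M : 𝒜} {N : ℬ} (ψ : E.obj M ⟶ N) (q : ℕ)
    (x : Ext.{w} Z' M q) :
    ρ E α ψ q x = (Ext.mk₀ α).comp ((x.mapExactFunctor E).comp (Ext.mk₀ ψ) (add_zero q))
      (zero_add q) := rfl

/-- naturality in the coefficients -/
lemma ρ_natural_coeff {Z : ℬ} {Z' : 𝒜} (α : Z ⟶ E.obj Z') {M M' : 𝒜} {N N' : ℬ}
    (ψ : E.obj M ⟶ N) (ψ' : E.obj M' ⟶ N') (a : M ⟶ M') (b : N ⟶ N')
    (h : ψ ≫ b = E.map a ≫ ψ') (q : ℕ) (x : Ext.{w} Z' M q) :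
    ρ E α ψ' q (x.comp (Ext.mk₀ a) (add_zero q)) = (ρ E α ψ q x).comp (Ext.mk₀ b) (add_zero q) := by
  simp only [ρ_apply, Ext.mapExactFunctor_comp, Ext.mapExactFunctor_mk₀]
  rw [Ext.comp_assoc_of_third_deg_zero, Ext.comp_assoc_of_third_deg_zero,
    Ext.comp_assoc_of_third_deg_zero, Ext.mk₀_comp_mk₀, Ext.mk₀_comp_mk₀, h]

/-- naturality in the source objects -/
lemma ρ_natural_src {Z₁ Z₂ : ℬ} {Z₁' Z₂' : 𝒜} (α₁ : Z₁ ⟶ E.obj Z₁') (α₂ : Z₂ ⟶ E.obj Z₂')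
    (s : Z₁ ⟶ Z₂) (s' : Z₁' ⟶ Z₂') (h : s ≫ α₂ = α₁ ≫ E.map s') {M : 𝒜} {N : ℬ}
    (ψ : E.obj M ⟶ N) (q : ℕ) (x : Ext.{w} Z₂' M q) :
    ρ E α₁ ψ q ((Ext.mk₀ s').comp x (zero_add q)) = (Ext.mk₀ s).comp (ρ E α₂ ψ q x) (zero_add q) := by
  simp only [ρ_apply, Ext.mapExactFunctor_comp, Ext.mapExactFunctor_mk₀]
  have e1 : ((Ext.mk₀ (E.map s')).comp (x.mapExactFunctor E) (zero_add q)).comp (Ext.mk₀ ψ)
      (add_zero q) = (Ext.mk₀ (E.map s')).comp ((x.mapExactFunctor E).comp (Ext.mk₀ ψ) (add_zero q))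
        (zero_add q) := Ext.comp_assoc_of_third_deg_zero _ _ _ _
  rw [e1, ← Ext.comp_assoc_of_second_deg_zero, ← Ext.comp_assoc_of_second_deg_zero,
    Ext.mk₀_comp_mk₀, Ext.mk₀_comp_mk₀, h]

/-- compatibility with connecting homomorphisms, for a morphism of short complexes
`E S ⟶ S'` -/
lemma ρ_extClass {Z : ℬ} {Z' : 𝒜} (α : Z ⟶ E.obj Z') {S : ShortComplex 𝒜} (hS : S.ShortExact)
    {S' : ShortComplex ℬ} (hS' : S'.ShortExact) (ψ : S.map E ⟶ S') {n m : ℕ} (h : n + 1 = m)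
    (x : Ext.{w} Z' S.X₃ n) :
    ρ E α ψ.τ₁ m (x.comp hS.extClass h) = (ρ E α ψ.τ₃ n x).comp hS'.extClass h := by
  have nat : (hS.map_of_exact E).extClass.comp (Ext.mk₀ ψ.τ₁) (add_zero 1) =
      (Ext.mk₀ ψ.τ₃).comp hS'.extClass (zero_add 1) :=
    ShortComplex.ShortExact.extClass_naturality (hS.map_of_exact E) hS' ψ
  have e1 : (x.comp hS.extClass h).mapExactFunctor E =
      (x.mapExactFunctor E).comp (hS.extClass.mapExactFunctor E) h :=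
    Ext.mapExactFunctor_comp E x hS.extClass h
  have e2 : (hS.extClass.mapExactFunctor E) = (hS.map_of_exact E).extClass :=
    Ext.mapExactFunctor_extClass E hS
  calc ρ E α ψ.τ₁ m (x.comp hS.extClass h)
      = (Ext.mk₀ α).comp (((x.mapExactFunctor E).comp (hS.extClass.mapExactFunctor E) h).comp
          (Ext.mk₀ ψ.τ₁) (add_zero m)) (zero_add m) :=
        congrArg (fun y => (Ext.mk₀ α).comp (Ext.comp y (Ext.mk₀ ψ.τ₁) (add_zero m)) (zero_add m)) e1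
    _ = (Ext.mk₀ α).comp ((x.mapExactFunctor E).comp ((hS.extClass.mapExactFunctor E).comp
          (Ext.mk₀ ψ.τ₁) (add_zero 1)) h) (zero_add m) :=
        congrArg (fun y => (Ext.mk₀ α).comp y (zero_add m))
          (Ext.comp_assoc_of_third_deg_zero _ _ _ _)
    _ = (Ext.mk₀ α).comp ((x.mapExactFunctor E).comp ((Ext.mk₀ ψ.τ₃).comp hS'.extClass
          (zero_add 1)) h) (zero_add m) := by
        rw [e2]
        exact congrArg (fun y => (Ext.mk₀ α).comp (Ext.comp (x.mapExactFunctor E) y h) (zero_add m)) nat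
    _ = (Ext.mk₀ α).comp (((x.mapExactFunctor E).comp (Ext.mk₀ ψ.τ₃) (add_zero n)).comp
          hS'.extClass h) (zero_add m) :=
        congrArg (fun y => (Ext.mk₀ α).comp y (zero_add m))
          (Ext.comp_assoc_of_second_deg_zero _ _ _ _).symm
    _ = _ := (Ext.comp_assoc (a₁₂ := n) (a₂₃ := m) (a := m) _ _ _ (zero_add n) h (by omega)).symm

/-- special case: `S' = E S` -/
lemma ρ_extClass_map {Z : ℬ} {Z' : 𝒜} (α : Z ⟶ E.obj Z') {S : ShortComplex 𝒜}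
    (hS : S.ShortExact) {n m : ℕ} (h : n + 1 = m) (x : Ext.{w} Z' S.X₃ n) :
    ρ E α (𝟙 (E.obj S.X₁)) m (x.comp hS.extClass h) =
      (ρ E α (𝟙 (E.obj S.X₃)) n x).comp (hS.map_of_exact E).extClass h :=
  ρ_extClass E α hS (hS.map_of_exact E) (𝟙 _) h x

variable [EnoughInjectives 𝒜]

/-- bijectivity of `ρ` (with `ψ = 𝟙`) by dimension shifting -/
theorem ρ_bijective {Z : ℬ} {Z' : 𝒜} (α : Z ⟶ E.obj Z')
    (h0 : ∀ F : 𝒜, Function.Bijective (ρ E α (𝟙 (E.obj F)) 0))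
    (hI : ∀ (I : 𝒜), Injective I → ∀ (q : ℕ) (y : Ext.{w'} Z (E.obj I) (q + 1)), y = 0) :
    ∀ (q : ℕ) (F : 𝒜), Function.Bijective (ρ E α (𝟙 (E.obj F)) q) := by
  intro q
  induction q with
  | zero => exact h0
  | succ q ih =>
    intro F
    let S := cokerSES (Injective.ι F)
    have hS : S.ShortExact := cokerSES_shortExact _
    have hES : (S.map E).ShortExact := hS.map_of_exact E
    have hc : ∀ x : Ext.{w} Z' S.X₃ q,
        ρ E α (𝟙 (E.obj S.X₁)) (q + 1) (x.comp hS.extClass rfl) =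
          (ρ E α (𝟙 (E.obj S.X₃)) q x).comp hES.extClass rfl :=
      fun x => ρ_extClass_map E α hS rfl x
    have hI2 : Injective S.X₂ := inferInstanceAs (Injective (Injective.under F))
    constructor
    · rw [injective_iff_map_eq_zero]
      intro w hw
      obtain ⟨x, rfl⟩ := Ext.covariant_sequence_exact₁ Z' hS w (Ext.eq_zero_of_injective _) rfl
      have hw' := (hc x).symm.trans hw
      obtain ⟨u, hu⟩ := Ext.covariant_sequence_exact₃ Z hES _ rfl hw'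
      obtain ⟨u', rfl⟩ := (ih S.X₂).2 u
      have hn := ρ_natural_coeff E α (𝟙 (E.obj S.X₂)) (𝟙 (E.obj S.X₃)) S.g (E.map S.g)
        (by simp) q u'
      have hu' : (ρ E α (𝟙 (E.obj S.X₂)) q u').comp (Ext.mk₀ (E.map S.g)) (add_zero q) =
          ρ E α (𝟙 (E.obj S.X₃)) q x := hu
      rw [← hn] at hu'
      have := (ih S.X₃).1 hu'
      rw [← this, Ext.comp_assoc_of_second_deg_zero, hS.comp_extClass, Ext.comp_zero]
      try rfl
    · intro y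
      have hy : y.comp (Ext.mk₀ (E.map S.f)) (add_zero (q + 1)) = 0 := hI S.X₂ hI2 q _
      obtain ⟨z, rfl⟩ := Ext.covariant_sequence_exact₁ Z hES y hy rfl
      obtain ⟨x, rfl⟩ := (ih S.X₃).2 z
      exact ⟨_, hc x⟩

end ExtRho

end Groth.Agent.Lib.helper27
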