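import Mathlib
import Groth.Agent.Lib.Helper27.ExtRho

/-!
# Comparison `Ext^q(Z', G F) → Ext^q(Z, F)` for an adjunction `L ⊣ G` with `L` exact and
`γ : Z ⟶ L Z'`; partial degeneration lemmas
-/

set_option autoImplicit false

namespace Groth.Agent.Lib.helper27

open CategoryTheory Limits Abelian

universe w w' v u v' u'

namespace ExtCmp

variable {𝒮 : Type u} [Category.{v} 𝒮] [Abelian 𝒮] [HasExt.{w} 𝒮]
  {𝒯 : Type u'} [Category.{v'} 𝒯] [Abelian 𝒯] [HasExt.{w'} 𝒯]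
  {L : 𝒮 ⥤ 𝒯} {G : 𝒯 ⥤ 𝒮} (adj : L ⊣ G) [L.Additive] [PreservesFiniteLimits L]
  [PreservesFiniteColimits L]
  {Z : 𝒯} {Z' : 𝒮} (γ : Z ⟶ L.obj Z')

/-- the comparison map -/
noncomputable def c (F : 𝒯) (q : ℕ) : Ext.{w} Z' (G.obj F) q →+ Ext.{w'} Z F q :=
  ExtRho.ρ L γ (adj.counit.app F) q

lemma c_natural {F F' : 𝒯} (φ : F ⟶ F') (q : ℕ) (x : Ext.{w} Z' (G.obj F) q) :
    c adj γ F' q (x.comp (Ext.mk₀ (G.map φ)) (add_zero q)) =
      (c adj γ F q x).comp (Ext.mk₀ φ) (add_zero q) :=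
  ExtRho.ρ_natural_coeff L γ (adj.counit.app F) (adj.counit.app F') (G.map φ) φ
    (adj.counit.naturality φ).symm q x

/-- naturality in the pair `(Z, Z')` -/
lemma c_natural_src {Z₁ Z₂ : 𝒯} {Z₁' Z₂' : 𝒮} (γ₁ : Z₁ ⟶ L.obj Z₁') (γ₂ : Z₂ ⟶ L.obj Z₂')
    (s : Z₁ ⟶ Z₂) (s' : Z₁' ⟶ Z₂') (h : s ≫ γ₂ = γ₁ ≫ L.map s') (F : 𝒯) (q : ℕ)
    (x : Ext.{w} Z₂' (G.obj F) q) :
    c adj γ₁ F q ((Ext.mk₀ s').comp x (zero_add q)) =
      (Ext.mk₀ s).comp (c adj γ₂ F q x) (zero_add q) :=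
  ExtRho.ρ_natural_src L γ₁ γ₂ s s' h _ q x

variable [G.Additive]

lemma c_extClass {S : ShortComplex 𝒯} (hS : S.ShortExact) (hGS : (S.map G).ShortExact)
    {n m : ℕ} (h : n + 1 = m) (x : Ext.{w} Z' (G.obj S.X₃) n) :
    c adj γ S.X₁ m (x.comp hGS.extClass h) = (c adj γ S.X₃ n x).comp hS.extClass h :=
  ExtRho.ρ_extClass L γ hGS hS (ExtAdj.counitSC adj S) h x

variable [PreservesFiniteLimits G]

/-- the short exact sequence `0 → G F → G I → coker → 0` -/
noncomputable abbrev SB (S : ShortComplex 𝒯) : ShortComplex 𝒮 :=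
  ShortComplex.mk (G.map S.f) (cokernel.π (G.map S.f)) (cokernel.condition _)

omit [G.Additive] in
lemma SB_shortExact {S : ShortComplex 𝒯} (hS : S.ShortExact) : (SB (G := G) S).ShortExact := by
  haveI := hS.mono_f
  exact ShortComplex.ShortExact.mk' (ShortComplex.exact_cokernel _) inferInstance inferInstance

/-- the inclusion of the image of `G I → G Q` -/
noncomputable def ιB (S : ShortComplex 𝒯) : cokernel (G.map S.f) ⟶ G.obj S.X₃ :=
  cokernel.desc _ (G.map S.g) (by rw [← G.map_comp, S.zero, G.map_zero])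

@[reassoc (attr := simp)]
lemma π_ιB (S : ShortComplex 𝒯) : cokernel.π (G.map S.f) ≫ ιB (G := G) S = G.map S.g :=
  cokernel.π_desc _ _ _

lemma mono_ιB {S : ShortComplex 𝒯} (hS : S.ShortExact) : Mono (ιB (G := G) S) := by
  haveI := hS.mono_f
  have hex : (S.map G).Exact :=
    hS.exact.map_of_mono_of_preservesKernel G inferInstance inferInstance
  exact hex.mono_cokernelDesc

/-- the morphism of short complexes `SB S ⟶ G S` -/
noncomputable def βB (S : ShortComplex 𝒯) : SB (G := G) S ⟶ S.map G where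
  τ₁ := 𝟙 _
  τ₂ := 𝟙 _
  τ₃ := ιB S
  comm₁₂ := (Category.id_comp _).trans (Category.comp_id _).symm
  comm₂₃ := (Category.id_comp _).trans (π_ιB S).symm

lemma c_extClass_B {S : ShortComplex 𝒯} (hS : S.ShortExact) {n m : ℕ} (h : n + 1 = m)
    (x : Ext.{w} Z' (cokernel (G.map S.f)) n) :
    c adj γ S.X₁ m (x.comp (SB_shortExact (G := G) hS).extClass h) =
      (c adj γ S.X₃ n (x.comp (Ext.mk₀ (ιB S)) (add_zero n))).comp hS.extClass h := by
  let ψ : (SB (G := G) S).map L ⟶ S := L.mapShortComplex.map (βB S) ≫ ExtAdj.counitSC adj S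
  have h1 := ExtRho.ρ_extClass L γ (SB_shortExact (G := G) hS) hS ψ h x
  have e1 : ψ.τ₁ = adj.counit.app S.X₁ := by
    show L.map (𝟙 _) ≫ adj.counit.app S.X₁ = _
    rw [L.map_id, Category.id_comp]
  have e3 : ψ.τ₃ = L.map (ιB S) ≫ adj.counit.app S.X₃ := rfl
  have h2 := ExtRho.ρ_natural_coeff L γ (L.map (ιB S) ≫ adj.counit.app S.X₃)
    (adj.counit.app S.X₃) (ιB S) (𝟙 _) (by simp) n x
  rw [Ext.comp_mk₀_id] at h2
  rw [e1, e3] at h1
  exact h1.trans (congrArg (fun y => Ext.comp y hS.extClass h) h2.symm)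

variable [EnoughInjectives 𝒯]

section
variable (h0 : ∀ F : 𝒯, Function.Bijective (c adj γ F 0))
include h0

/-- `c` is always injective in degree one -/
theorem c_one_injective (F : 𝒯) : Function.Injective (c adj γ F 1) := by
  let S := cokerSES (Injective.ι F)
  have hS : S.ShortExact := cokerSES_shortExact _
  have hSB := SB_shortExact (G := G) hS
  haveI : Injective S.X₂ := inferInstanceAs (Injective (Injective.under F))
  haveI : Injective (G.obj S.X₂) := Injective.injective_of_adjoint adj S.X₂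
  haveI := mono_ιB (G := G) hS
  rw [injective_iff_map_eq_zero]
  intro w hw
  obtain ⟨x, rfl⟩ := Ext.covariant_sequence_exact₁ Z' hSB w
    (Ext.eq_zero_of_injective (I := G.obj S.X₂) _) (zero_add 1)
  have hw' := (c_extClass_B adj γ hS (zero_add 1) x).symm.trans hw
  obtain ⟨u, hu⟩ := Ext.covariant_sequence_exact₃ Z hS _ (zero_add 1) hw'
  obtain ⟨u', rfl⟩ := (h0 S.X₂).2 u
  rw [← c_natural] at hu
  have hx := (h0 S.X₃).1 hu
  obtain ⟨a, rfl⟩ := (Ext.mk₀_bijective _ _).2 x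
  obtain ⟨b, rfl⟩ := (Ext.mk₀_bijective _ _).2 u'
  rw [Ext.mk₀_comp_mk₀, Ext.mk₀_comp_mk₀] at hx
  have hx' : b ≫ G.map S.g = a ≫ ιB S := (Ext.mk₀_bijective _ _).1 hx
  have ha : a = b ≫ cokernel.π (G.map S.f) := by
    rw [← cancel_mono (ιB (G := G) S), Category.assoc, π_ιB, hx']
  rw [ha, ← Ext.mk₀_comp_mk₀, Ext.comp_assoc_of_second_deg_zero]
  have : (Ext.mk₀ (cokernel.π (G.map S.f))).comp hSB.extClass (zero_add 1) = 0 :=
    hSB.comp_extClass
  rw [this, Ext.comp_zero]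
  try rfl

/-- image in degree one -/
theorem mem_range_c_one {S : ShortComplex 𝒯} (hS : S.ShortExact) (s : Z' ⟶ G.obj S.X₃)
    (hs : s ≫ cokernel.π (G.map S.g) = 0) :
    ∃ w, c adj γ S.X₁ 1 w = (c adj γ S.X₃ 0 (Ext.mk₀ s)).comp hS.extClass (zero_add 1) := by
  haveI := mono_ιB (G := G) hS
  -- `s` factors through the image
  have hι : s ≫ cokernel.π (ιB (G := G) S) = 0 := by
    have hz : G.map S.g ≫ cokernel.π (ιB (G := G) S) = 0 := by
      rw [← π_ιB, Category.assoc, cokernel.condition, comp_zero]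
    have : cokernel.π (ιB (G := G) S) =
        cokernel.π (G.map S.g) ≫ cokernel.desc (G.map S.g) (cokernel.π (ιB (G := G) S)) hz :=
      (cokernel.π_desc _ _ _).symm
    rw [this, reassoc_of% hs, zero_comp]
  let t : Z' ⟶ cokernel (G.map S.f) :=
    (Abelian.monoIsKernelOfCokernel _ (colimit.isColimit _)).lift
      (KernelFork.ofι s hι)
  have ht : t ≫ ιB S = s :=
    (Abelian.monoIsKernelOfCokernel _ (colimit.isColimit _)).fac (KernelFork.ofι s hι)
      WalkingParallelPair.zero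
  refine ⟨(Ext.mk₀ t).comp (SB_shortExact (G := G) hS).extClass (zero_add 1), ?_⟩
  rw [c_extClass_B adj γ hS (zero_add 1), Ext.mk₀_comp_mk₀, ht]

end

/-- step: bijectivity -/
theorem c_bijective_step {S : ShortComplex 𝒯} (hS : S.ShortExact) (hGS : (S.map G).ShortExact)
    [Injective S.X₂] (q : ℕ) (bI : Function.Bijective (c adj γ S.X₂ q))
    (bQ : Function.Bijective (c adj γ S.X₃ q)) : Function.Bijective (c adj γ S.X₁ (q + 1)) := by
  haveI : Injective (G.obj S.X₂) := Injective.injective_of_adjoint adj S.X₂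
  let e : Ext.{w} (G.obj S.X₃) (G.obj S.X₁) 1 := hGS.extClass
  have ex₁ : ∀ w : Ext.{w} Z' (G.obj S.X₁) (q + 1), ∃ x : Ext.{w} Z' (G.obj S.X₃) q,
      x.comp e rfl = w := fun w =>
    Ext.covariant_sequence_exact₁ Z' hGS w (Ext.eq_zero_of_injective (I := G.obj S.X₂) _) rfl
  have hc : ∀ x : Ext.{w} Z' (G.obj S.X₃) q,
      c adj γ S.X₁ (q + 1) (x.comp e rfl) = (c adj γ S.X₃ q x).comp hS.extClass rfl :=
    fun x => c_extClass adj γ hS hGS rfl x
  have hc0 : ∀ u : Ext.{w} Z' (G.obj S.X₂) q,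
      (u.comp (Ext.mk₀ (G.map S.g)) (add_zero q)).comp e rfl = 0 := fun u => by
    rw [Ext.comp_assoc_of_second_deg_zero]
    have : (Ext.mk₀ (G.map S.g)).comp e (zero_add 1) = 0 := hGS.comp_extClass
    rw [this, Ext.comp_zero]
  clear_value e
  constructor
  · rw [injective_iff_map_eq_zero]
    intro w hw
    obtain ⟨x, rfl⟩ := ex₁ w
    rw [hc] at hw
    obtain ⟨u, hu⟩ := Ext.covariant_sequence_exact₃ Z hS _ rfl hw
    obtain ⟨u', rfl⟩ := bI.2 u
    rw [← c_natural] at hu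
    have := bQ.1 hu
    rw [← this]
    exact hc0 u'
  · intro y
    obtain ⟨z, rfl⟩ := Ext.covariant_sequence_exact₁ Z hS y (Ext.eq_zero_of_injective _) rfl
    obtain ⟨x, rfl⟩ := bQ.2 z
    exact ⟨_, hc x⟩

/-- step: injectivity (in degrees `≥ 2`) -/
theorem c_injective_step {S : ShortComplex 𝒯} (hS : S.ShortExact) (hGS : (S.map G).ShortExact)
    [Injective S.X₂] (q : ℕ) (bQ : Function.Injective (c adj γ S.X₃ (q + 1))) :
    Function.Injective (c adj γ S.X₁ (q + 2)) := by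
  haveI : Injective (G.obj S.X₂) := Injective.injective_of_adjoint adj S.X₂
  let e : Ext.{w} (G.obj S.X₃) (G.obj S.X₁) 1 := hGS.extClass
  have ex₁ : ∀ w : Ext.{w} Z' (G.obj S.X₁) (q + 2), ∃ x : Ext.{w} Z' (G.obj S.X₃) (q + 1),
      x.comp e rfl = w := fun w =>
    Ext.covariant_sequence_exact₁ Z' hGS w (Ext.eq_zero_of_injective (I := G.obj S.X₂) _) rfl
  have hc : ∀ x : Ext.{w} Z' (G.obj S.X₃) (q + 1),
      c adj γ S.X₁ (q + 2) (x.comp e rfl) = (c adj γ S.X₃ (q + 1) x).comp hS.extClass rfl :=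
    fun x => c_extClass adj γ hS hGS rfl x
  clear_value e
  rw [injective_iff_map_eq_zero]
  intro w hw
  obtain ⟨x, rfl⟩ := ex₁ w
  rw [hc] at hw
  obtain ⟨u, hu⟩ := Ext.covariant_sequence_exact₃ Z hS _ rfl hw
  have hu0 : u = 0 := Ext.eq_zero_of_injective u
  rw [hu0, Ext.zero_comp] at hu
  have hx : x = 0 := bQ (hu.symm.trans (map_zero _).symm)
  rw [hx, Ext.zero_comp]

end ExtCmp

end Groth.Agent.Lib.helper27
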