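import Mathlib
import Groth.Prelude.Def_SiteCmp
import Groth.Agent.Lib.Helper27.ExtCmp
import Groth.Agent.Lib.Helper27.KillSv
import Groth.Agent.Lib.Helper27.ShfLoc
import Groth.Agent.Lib.Helper27.RpushSheafify

/-!
# Comparison of cohomology for two topologies `K' ≤ K` on one small category
-/

set_option autoImplicit false

namespace Groth.Agent.Lib.helper27

open CategoryTheory Limits Abelian Opposite Groth.Agent.Lib.helper7

universe u

namespace EpsCmp

variable {D : Type u} [SmallCategory D] {K K' : GrothendieckTopology D} (h : K' ≤ K)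

/-- `ε_*` -/
abbrev G : Sheaf K AddCommGrpCat.{u} ⥤ Sheaf K' AddCommGrpCat.{u} :=
  SiteCmp.epsSh h AddCommGrpCat.{u}

/-- `ε^{-1}` -/
noncomputable abbrev L : Sheaf K' AddCommGrpCat.{u} ⥤ Sheaf K AddCommGrpCat.{u} :=
  SiteCmp.epsShInv h AddCommGrpCat.{u}

/-- the adjunction -/
noncomputable abbrev adj : L h ⊣ G h := SiteCmp.epsShAdj h AddCommGrpCat.{u}

instance : (G h).Additive := by
  haveI := SiteCmp.idContinuous h
  exact inferInstanceAs (CohSite.push K K' (𝟭 D)).Additive

instance : PreservesFiniteLimits (G h) := by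
  haveI : PreservesLimitsOfSize.{0, 0} (G h) := (adj h).rightAdjoint_preservesLimits
  infer_instance

instance : (L h).Additive := (adj h).left_adjoint_additive

instance : PreservesFiniteColimits (L h) := by
  haveI : PreservesColimitsOfSize.{0, 0} (L h) := (adj h).leftAdjoint_preservesColimits
  infer_instance

attribute [local instance] reflectsLimits_of_reflectsIsomorphisms in
instance : PreservesFiniteLimits (L h) := by
  haveI := SiteCmp.idContinuous h
  exact Functor.sheafPullbackConstruction.preservesFiniteLimits (𝟭 D) AddCommGrpCat.{u} K' K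

/-- sections of `ε_* F` are sections of `F` -/
lemma G_obj_obj (F : Sheaf K AddCommGrpCat.{u}) (T : D) :
    ((G h).obj F).obj.obj (op T) = F.obj.obj (op T) := rfl

/-- the canonical map `ℤ_T ⟶ ε^{-1} ℤ'_T` -/
noncomputable def γ (T : D) : (FreeYoneda.freeSheaf K).obj T ⟶
    (L h).obj ((FreeYoneda.freeSheaf K').obj T) :=
  (FreeYoneda.homEquiv K T _).symm
    (((adj h).unit.app ((FreeYoneda.freeSheaf K').obj T)).hom.app (op T) (CohPsh.univ K' T))

lemma homEquiv_γ (T : D) : FreeYoneda.homEquiv K T _ (γ h T) =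
    ((adj h).unit.app ((FreeYoneda.freeSheaf K').obj T)).hom.app (op T) (CohPsh.univ K' T) :=
  Equiv.apply_symm_apply _ _

lemma γ_natural {T₁ T₂ : D} (s : T₁ ⟶ T₂) :
    (FreeYoneda.freeSheaf K).map s ≫ γ h T₂ =
      γ h T₁ ≫ (L h).map ((FreeYoneda.freeSheaf K').map s) := by
  apply (FreeYoneda.homEquiv K T₁ _).injective
  rw [FreeYoneda.homEquiv_naturality_left, FreeYoneda.homEquiv_naturality_right, homEquiv_γ,
    homEquiv_γ]
  -- naturality of the unit, as a morphism of sheaves and in the object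
  have n1 := congrArg (fun φ => (ConcreteCategory.hom φ) (CohPsh.univ K' T₂))
    (((adj h).unit.app ((FreeYoneda.freeSheaf K').obj T₂)).hom.naturality s.op)
  have n2 := congrArg (fun φ => (ConcreteCategory.hom (φ.hom.app (op T₁))) (CohPsh.univ K' T₁))
    ((adj h).unit.naturality ((FreeYoneda.freeSheaf K').map s))
  have h1 := CohPsh.homEquiv_eq K' T₁ _ ((FreeYoneda.freeSheaf K').map s)
  have h2 := FreeYoneda.homEquiv_naturality_left K' s _
    (𝟙 ((FreeYoneda.freeSheaf K').obj T₂))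
  rw [Category.comp_id] at h2
  have h3 : ((FreeYoneda.freeSheaf K').map s).hom.app (op T₁) (CohPsh.univ K' T₁) =
      ((FreeYoneda.freeSheaf K').obj T₂).obj.map s.op (CohPsh.univ K' T₂) := h1.symm.trans h2
  simp only [ConcreteCategory.comp_apply, Functor.id_map, Functor.comp_map, ObjectProperty.FullSubcategory.comp_hom,
    NatTrans.comp_app, Functor.id_obj, Functor.comp_obj] at n1 n2
  exact n1.symm.trans ((congrArg _ h3.symm).trans n2)

/-- the comparison map `H^q_{K'}(T, ε_* F) → H^q_K(T, F)` -/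
noncomputable def cT (T : D) (F : Sheaf K AddCommGrpCat.{u}) (q : ℕ) :
    Ext.{u} ((FreeYoneda.freeSheaf K').obj T) ((G h).obj F) q →+
      Ext.{u} ((FreeYoneda.freeSheaf K).obj T) F q :=
  ExtCmp.c (adj h) (γ h T) F q

lemma cT_res {T₁ T₂ : D} (s : T₁ ⟶ T₂) (F : Sheaf K AddCommGrpCat.{u}) (q : ℕ)
    (x : Ext.{u} ((FreeYoneda.freeSheaf K').obj T₂) ((G h).obj F) q) :
    cT h T₁ F q ((Ext.mk₀ ((FreeYoneda.freeSheaf K').map s)).comp x (zero_add q)) =
      (Ext.mk₀ ((FreeYoneda.freeSheaf K).map s)).comp (cT h T₂ F q x) (zero_add q) :=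
  ExtCmp.c_natural_src (adj h) (γ h T₁) (γ h T₂) _ _ (γ_natural h s) F q x

lemma cT_zero (T : D) (F : Sheaf K AddCommGrpCat.{u})
    (b : (FreeYoneda.freeSheaf K').obj T ⟶ (G h).obj F) :
    CohPsh.e₀ K F T (cT h T F 0 (Ext.mk₀ b)) = CohPsh.e₀ K' ((G h).obj F) T (Ext.mk₀ b) := by
  have h1 : cT h T F 0 (Ext.mk₀ b) = Ext.mk₀ (γ h T ≫ (L h).map b ≫ (adj h).counit.app F) := by
    simp [cT, ExtCmp.c, ExtRho.ρ_apply, Ext.mapExactFunctor_mk₀]
  rw [h1, CohPsh.e₀_mk₀, CohPsh.e₀_mk₀, FreeYoneda.homEquiv_naturality_right, homEquiv_γ,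
    CohPsh.homEquiv_eq]
  have tri : (adj h).unit.app _ ≫ (G h).map ((L h).map b ≫ (adj h).counit.app F) = b := by
    rw [Functor.map_comp, ← Category.assoc]
    erw [← (adj h).unit.naturality b]
    rw [Category.assoc]
    erw [(adj h).right_triangle_components F]
    exact Category.comp_id _
  have := congrArg (fun φ => (ConcreteCategory.hom (φ.hom.app (op T))) (CohPsh.univ K' T)) tri
  simp only [ConcreteCategory.comp_apply, ObjectProperty.FullSubcategory.comp_hom, NatTrans.comp_app] at this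
  exact this

lemma cT_zero_bijective (T : D) (F : Sheaf K AddCommGrpCat.{u}) :
    Function.Bijective (cT h T F 0) := by
  have hc : (CohPsh.e₀ K F T : _ → _) ∘ (cT h T F 0) =
      (CohPsh.e₀ K' ((G h).obj F) T : _ → _) := by
    funext x
    obtain ⟨b, rfl⟩ := (Ext.mk₀_bijective _ _).2 x
    exact cT_zero h T F b
  have hb : Function.Bijective ((CohPsh.e₀ K F T : _ → _) ∘ (cT h T F 0)) := by
    rw [hc]
    exact (CohPsh.e₀ K' ((G h).obj F) T).bijective
  exact (Function.Bijective.of_comp_iff' (CohPsh.e₀ K F T).bijective _).1 hb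

/-- `e₀` of the comparison map in degree zero -/
lemma e₀_cT (T : D) (F : Sheaf K AddCommGrpCat.{u})
    (x : Ext.{u} ((FreeYoneda.freeSheaf K').obj T) ((G h).obj F) 0) :
    CohPsh.e₀ K F T (cT h T F 0 x) = CohPsh.e₀ K' ((G h).obj F) T x := by
  obtain ⟨b, rfl⟩ := (Ext.mk₀_bijective _ _).2 x
  exact cT_zero h T F b

/-- the vanishing condition: every class of degree `i` is `K'`-locally zero -/
def Vn (F : Sheaf K AddCommGrpCat.{u}) (i : ℕ) : Prop :=
  ∀ (T : D) (ξ : Ext.{u} ((FreeYoneda.freeSheaf K).obj T) F i), KillSv.kill K ξ ∈ K' T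

lemma Vn_of_injective (I : Sheaf K AddCommGrpCat.{u}) [Injective I] (i : ℕ) :
    Vn (K' := K') I (i + 1) := by
  intro T ξ
  have : ξ = 0 := Ext.eq_zero_of_injective ξ
  rw [this, KillSv.kill_zero]
  exact K'.top_mem T

/-- `R^i ε_* F = 0` iff every class of degree `i` is `K'`-locally zero -/
theorem isZero_rightDerived_iff (F : Sheaf K AddCommGrpCat.{u}) (i : ℕ) :
    IsZero (((G h).rightDerived i).obj F) ↔ Vn (K' := K') F i := by
  haveI := SiteCmp.idContinuous h
  obtain ⟨e⟩ := RpushSheafify.rpush_iso K K' (𝟭 D) F i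
  have e' : ((G h).rightDerived i).obj F ≅ (presheafToSheaf K' AddCommGrpCat.{u}).obj
      ((𝟭 D).op ⋙ F.cohomologyPresheaf i) := e
  rw [e'.isZero_iff, ShfLoc.isZero_sheafify_iff]
  rfl

end EpsCmp

end Groth.Agent.Lib.helper27
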