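import Mathlib

/-!
# The kernel of a natural transformation between left exact functors, as a left exact functor
-/

set_option autoImplicit false

namespace Groth.Agent.Lib.helper27

open CategoryTheory Limits Opposite Abelian

universe v v' u u'

namespace KerFun

variable {𝒮 : Type u} [Category.{v} 𝒮] [Abelian 𝒮] {𝒯 : Type u'} [Category.{v'} 𝒯] [Abelian 𝒯]
  {Φ Λ : 𝒮 ⥤ 𝒯} (η : Φ ⟶ Λ)

/-- the objectwise kernel of a natural transformation -/
noncomputable def kerFun : 𝒮 ⥤ 𝒯 where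
  obj M := kernel (η.app M)
  map {M N} φ := kernel.map (η.app M) (η.app N) (Φ.map φ) (Λ.map φ) (η.naturality φ).symm
  map_id M := by
    ext
    simp
  map_comp φ ψ := by
    ext
    simp

/-- the inclusion of the kernel -/
noncomputable def ι (M : 𝒮) : (kerFun η).obj M ⟶ Φ.obj M := kernel.ι (η.app M)

instance (M : 𝒮) : Mono (ι η M) := inferInstanceAs (Mono (kernel.ι (η.app M)))

@[reassoc (attr := simp)]
lemma ι_comp (M : 𝒮) : ι η M ≫ η.app M = 0 := kernel.condition _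

/-- lifting to the kernel -/
noncomputable def lift {M : 𝒮} {W : 𝒯} (s : W ⟶ Φ.obj M) (hs : s ≫ η.app M = 0) :
    W ⟶ (kerFun η).obj M := kernel.lift _ s hs

@[reassoc (attr := simp)]
lemma lift_ι {M : 𝒮} {W : 𝒯} (s : W ⟶ Φ.obj M) (hs : s ≫ η.app M = 0) :
    lift η s hs ≫ ι η M = s := kernel.lift_ι _ _ _

@[reassoc (attr := simp)]
lemma kerFun_map_ι {M N : 𝒮} (φ : M ⟶ N) :
    (kerFun η).map φ ≫ ι η N = ι η M ≫ Φ.map φ := by
  simp [kerFun, ι]

instance additive_kerFun [Φ.Additive] : (kerFun η).Additive where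
  map_add {M N φ ψ} := by
    rw [← cancel_mono (ι η N)]
    rw [Preadditive.add_comp, kerFun_map_ι, kerFun_map_ι, kerFun_map_ι, Functor.map_add,
      Preadditive.comp_add]

lemma isZero_obj_iff (M : 𝒮) : IsZero ((kerFun η).obj M) ↔ Mono (η.app M) :=
  (Preadditive.mono_iff_isZero_kernel (η.app M)).symm

instance preservesFiniteLimits_kerFun [Φ.Additive] [Λ.Additive] [PreservesFiniteLimits Φ]
    [PreservesFiniteLimits Λ] : PreservesFiniteLimits (kerFun η) := by
  refine ((Functor.preservesFiniteLimits_tfae (kerFun η)).out 0 3).1 ?_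
  intro S hS
  have hΦ' : ∀ S : ShortComplex 𝒮, S.ShortExact → (S.map Φ).Exact ∧ Mono (Φ.map S.f) :=
    ((Functor.preservesFiniteLimits_tfae Φ).out 3 0).1 ‹_›
  have hΛ' : ∀ S : ShortComplex 𝒮, S.ShortExact → (S.map Λ).Exact ∧ Mono (Λ.map S.f) :=
    ((Functor.preservesFiniteLimits_tfae Λ).out 3 0).1 ‹_›
  have hΦ := hΦ' S hS
  have hΛ := hΛ' S hS
  have m1 : Mono (Φ.map S.f) := hΦ.2
  have m2 : Mono (Λ.map S.f) := hΛ.2
  have m3 : Mono ((S.map Φ).f) := m1
  have hmono : Mono ((kerFun η).map S.f) := by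
    have : Mono ((kerFun η).map S.f ≫ ι η S.X₂) := by
      rw [kerFun_map_ι]
      exact mono_comp _ _
    exact mono_of_mono _ (ι η S.X₂)
  refine ⟨?_, hmono⟩
  have m4 : Mono ((S.map (kerFun η)).f) := hmono
  apply ShortComplex.exact_of_f_is_kernel
  refine KernelFork.IsLimit.ofι' _ _ ?_
  intro W k hk
  change W ⟶ (kerFun η).obj S.X₂ at k
  change k ≫ (kerFun η).map S.g = 0 at hk
  have hk' : (k ≫ ι η S.X₂) ≫ (S.map Φ).g = 0 := by
    have h1 : (k ≫ (kerFun η).map S.g) ≫ ι η S.X₃ = 0 := by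
      rw [hk, zero_comp]
    rw [Category.assoc, kerFun_map_ι] at h1
    rw [Category.assoc]
    exact h1
  let s : W ⟶ Φ.obj S.X₁ := hΦ.1.lift _ hk'
  have hs : s ≫ Φ.map S.f = k ≫ ι η S.X₂ := hΦ.1.lift_f _ hk'
  have hs0 : s ≫ η.app S.X₁ = 0 := by
    rw [← cancel_mono (Λ.map S.f), Category.assoc, ← η.naturality, reassoc_of% hs, zero_comp,
      ι_comp, comp_zero]
  refine ⟨lift η s hs0, ?_⟩
  show lift η s hs0 ≫ (kerFun η).map S.f = k
  apply (cancel_mono (ι η S.X₂)).1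
  rw [Category.assoc, kerFun_map_ι, lift_ι_assoc]
  exact hs

end KerFun

end Groth.Agent.Lib.helper27
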