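import Mathlib
import Groth.Prelude.Def_SpSeq
import Groth.Agent.Lib.Helper27.SSGroth4
import Groth.Agent.Lib.Helper21.SSDegen

/-!
# Corner vanishing in the Grothendieck spectral sequence of a composite with vanishing abutment
-/

set_option autoImplicit false

namespace Groth.Agent.Lib.helper27

open CategoryTheory Limits Opposite Abelian
open scoped ZeroObject

universe v u

namespace SSCorner

section Gr

variable {C : Type u} [Category.{v} C] [Abelian C]

lemma isZero_subobject_of_isZero {X : C} (hX : IsZero X) (Z : Subobject X) : IsZero (Z : C) := by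
  rw [IsZero.iff_id_eq_zero]
  rw [← cancel_mono Z.arrow]
  exact hX.eq_of_tgt _ _

lemma isZero_grPiece_of_isZero {X : C} (hX : IsZero X) (F : ℤ → Subobject X) (hF : Antitone F)
    (p : ℤ) : IsZero (SpSeq.grPiece F hF p) := by
  have hZ : IsZero ((F p : Subobject X) : C) := isZero_subobject_of_isZero hX _
  unfold SpSeq.grPiece SpSeq.subquot
  rw [IsZero.iff_id_eq_zero]
  rw [← cancel_epi (cokernel.π ((F (p + 1)).ofLE (F p) (hF (Int.le_add_one le_rfl))))]
  exact hZ.eq_of_src _ _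

end Gr

section Zero

variable {C : Type u} [Category.{v} C] [Abelian C] [HasInjectiveResolutions C]
  {D : Type u} [Category.{v} D] [Abelian D]

/-- the right derived functors of a functor which is objectwise zero vanish -/
lemma isZero_rightDerived_of_objwise (F : C ⥤ D) [F.Additive] (hF : ∀ X : C, IsZero (F.obj X))
    (k : ℕ) (A : C) : IsZero ((F.rightDerived k).obj A) := by
  let I : InjectiveResolution A := injectiveResolution A
  refine IsZero.of_iso ?_ (I.isoRightDerivedObj F k)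
  apply ShortComplex.isZero_homology_of_isZero_X₂
  exact hF _

end Zero

section Corner

variable {C C' C'' : Type u} [Category.{v} C] [Category.{v} C'] [Category.{v} C'']
  [Abelian C] [Abelian C'] [Abelian C''] [HasInjectiveResolutions C] [HasInjectiveResolutions C']

/-- **Corner vanishing**: in the Grothendieck spectral sequence of `T ⋙ S`, if the abutment vanishes
in degree `a₀ + b₀` and all the sources and targets of differentials through `(a₀, b₀)` vanish, then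
`R^{a₀} S (R^{b₀} T A) = 0`. -/
theorem corner (T : C ⥤ C') [T.Additive] (S : C' ⥤ C'') [S.Additive] [PreservesFiniteLimits S]
    (hT : ∀ Q : C, Injective Q → ∀ q : ℕ, 0 < q → IsZero ((S.rightDerived q).obj (T.obj Q))) (A : C)
    (a₀ b₀ : ℕ)
    (hH : IsZero (((T ⋙ S).rightDerived (a₀ + b₀)).obj A))
    (hprev : ∀ r : ℕ, 2 ≤ r → r ≤ a₀ →
      IsZero ((S.rightDerived (a₀ - r)).obj ((T.rightDerived (b₀ + r - 1)).obj A)))
    (hnext : ∀ r : ℕ, 2 ≤ r → r ≤ b₀ + 1 →
      IsZero ((S.rightDerived (a₀ + r)).obj ((T.rightDerived (b₀ + 1 - r)).obj A))) :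
    IsZero ((S.rightDerived a₀).obj ((T.rightDerived b₀).obj A)) := by
  obtain ⟨E, a, hfin, -, hE⟩ := SSGroth.grothendieck_ss_nat T S hT A
    (fun k => ((T ⋙ S).rightDerived k).obj A) (fun k => ⟨Iso.refl _⟩)
    (fun k l => (S.rightDerived k).obj ((T.rightDerived l).obj A)) (fun k l => ⟨Iso.refl _⟩)
    (0 : C'') (0 : C'') (isZero_zero _) (isZero_zero _)
  -- description of E₂ terms
  have hE2z : ∀ p q : ℤ, ¬ (0 ≤ p ∧ 0 ≤ q) → IsZero ((E.page 2 le_rfl).X (p, q)) := by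
    intro p q hpq
    obtain ⟨e⟩ := hE p q
    rw [if_neg hpq] at e
    exact IsZero.of_iso (isZero_zero _) e
  have hE2 : ∀ k l : ℕ, Nonempty ((E.page 2 le_rfl).X ((k : ℤ), (l : ℤ)) ≅
      (S.rightDerived k).obj ((T.rightDerived l).obj A)) := by
    intro k l
    obtain ⟨e⟩ := hE k l
    rw [if_pos ⟨Int.natCast_nonneg k, Int.natCast_nonneg l⟩] at e
    simpa using ⟨e⟩
  let pq : ℤ × ℤ := ((a₀ : ℤ), (b₀ : ℤ))
  have hp : ∀ r : ℤ, 2 ≤ r → IsZero ((E.page 2 le_rfl).X (pq - (r, 1 - r))) := by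
    intro r hr
    show IsZero ((E.page 2 le_rfl).X ((a₀ : ℤ) - r, (b₀ : ℤ) - (1 - r)))
    by_cases hra : r ≤ a₀
    · obtain ⟨r', rfl⟩ := Int.eq_ofNat_of_zero_le (by omega : 0 ≤ r)
      have h2 : 2 ≤ r' := by exact_mod_cast hr
      have h3 : r' ≤ a₀ := by exact_mod_cast hra
      obtain ⟨e⟩ := hE2 (a₀ - r') (b₀ + r' - 1)
      have e1 : ((a₀ - r' : ℕ) : ℤ) = (a₀ : ℤ) - (r' : ℤ) := by omega
      have e2 : ((b₀ + r' - 1 : ℕ) : ℤ) = (b₀ : ℤ) - (1 - (r' : ℤ)) := by omega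
      rw [e1, e2] at e
      exact IsZero.of_iso (hprev r' h2 h3) e
    · exact hE2z _ _ (by omega)
  have hn : ∀ r : ℤ, 2 ≤ r → IsZero ((E.page 2 le_rfl).X (pq + (r, 1 - r))) := by
    intro r hr
    show IsZero ((E.page 2 le_rfl).X ((a₀ : ℤ) + r, (b₀ : ℤ) + (1 - r)))
    by_cases hrb : r ≤ b₀ + 1
    · obtain ⟨r', rfl⟩ := Int.eq_ofNat_of_zero_le (by omega : 0 ≤ r)
      have h2 : 2 ≤ r' := by exact_mod_cast hr
      have h3 : r' ≤ b₀ + 1 := by exact_mod_cast hrb
      obtain ⟨e⟩ := hE2 (a₀ + r') (b₀ + 1 - r')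
      have e1 : ((a₀ + r' : ℕ) : ℤ) = (a₀ : ℤ) + (r' : ℤ) := by omega
      have e2 : ((b₀ + 1 - r' : ℕ) : ℤ) = (b₀ : ℤ) + (1 - (r' : ℤ)) := by omega
      rw [e1, e2] at e
      exact IsZero.of_iso (hnext r' h2 h3) e
    · exact hE2z _ _ (by omega)
  obtain ⟨e₁⟩ := Groth.Agent.Lib.helper21.SSDegen.nonempty_page_iso E pq hp hn (a.rk pq) (a.stat pq).1
  obtain ⟨e₂⟩ := hE2 a₀ b₀
  have hgr : IsZero (SpSeq.grPiece (a.fil (pq.1 + pq.2)) (a.anti (pq.1 + pq.2)) pq.1) := by
    apply isZero_grPiece_of_isZero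
    show IsZero (if 0 ≤ ((a₀ : ℤ) + (b₀ : ℤ)) then
      ((T ⋙ S).rightDerived ((a₀ : ℤ) + (b₀ : ℤ)).toNat).obj A else 0)
    rw [if_pos (by omega)]
    have : ((a₀ : ℤ) + (b₀ : ℤ)).toNat = a₀ + b₀ := by omega
    rw [this]
    exact hH
  exact IsZero.of_iso hgr (e₂.symm ≪≫ e₁.symm ≪≫ a.β pq)

end Corner

end SSCorner

end Groth.Agent.Lib.helper27
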