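import Mathlib
import Groth.Prelude.Def_CohSite
import Groth.Prelude.Def_SiteCmp
import Groth.Prelude.Def_WeakSerre
import Groth.Agent.Lib.Helper27.OvPush
import Groth.Agent.Lib.Helper27.CmpKill
import Groth.Agent.Lib.Helper27.KerFun
import Groth.Agent.Lib.Helper27.SSCorner
import Groth.Agent.Lib.Helper27.EpsCmp
import Groth.Agent.Lib.Helper27.Horseshoe5

/-!
# Separatedness of higher direct images of the comparison morphism along a covering in `P`
-/

set_option autoImplicit false

namespace Groth.Agent.Lib.helper27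

open CategoryTheory Limits Abelian Opposite Groth.Agent.Lib.helper7

universe u

namespace CmpSep

variable {C : Type u} [SmallCategory C] {X Y : C} (f : X ⟶ Y) [HasPullbacksAlong f]
  (K' : GrothendieckTopology C)

/-- `Λ' M = M ∘ (T ↦ T ×_Y X)` -/
noncomputable abbrev Lam :
    Sheaf (K'.over Y) AddCommGrpCat.{u} ⥤ Sheaf (K'.over Y) AddCommGrpCat.{u} :=
  CohSite.push (K'.over Y) (K'.over Y) (OvPush.uu f)

instance : PreservesFiniteLimits (Lam f K') := by
  haveI : PreservesLimitsOfSize.{0, 0} (Lam f K') :=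
    ((OvPush.uu f).sheafAdjunctionContinuous AddCommGrpCat.{u} (K'.over Y)
      (K'.over Y)).rightAdjoint_preservesLimits
  infer_instance

/-- restriction along the projections `T ×_Y X → T` -/
noncomputable def eta : 𝟭 (Sheaf (K'.over Y) AddCommGrpCat.{u}) ⟶ Lam f K' where
  app M := ⟨{ app := fun T => M.obj.map (CmpKill.fstMap f T.unop).op
              naturality := fun T₁ T₂ s => by
                show M.obj.map s ≫ M.obj.map (CmpKill.fstMap f T₂.unop).op =
                  M.obj.map (CmpKill.fstMap f T₁.unop).op ≫ M.obj.map ((OvPush.uu f).map s.unop).op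
                rw [← M.obj.map_comp, ← M.obj.map_comp]
                congr 1
                have := CmpKill.uu_map_fstMap f s.unop
                exact congrArg Quiver.Hom.op this.symm }⟩
  naturality M N φ := by
    apply ObjectProperty.hom_ext
    ext T : 2
    exact (φ.hom.naturality (CmpKill.fstMap f T.unop).op).symm

lemma eta_app_hom_app (M : Sheaf (K'.over Y) AddCommGrpCat.{u}) (T : (Over Y)ᵒᵖ) :
    ((eta f K').app M).hom.app T = M.obj.map (CmpKill.fstMap f T.unop).op := rfl

/-- the kernel of restriction to `T ×_Y X`, as a left exact functor -/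
noncomputable abbrev Hk :
    Sheaf (K'.over Y) AddCommGrpCat.{u} ⥤ Sheaf (K'.over Y) AddCommGrpCat.{u} :=
  KerFun.kerFun (eta f K')

/-- (d1): direct images are separated for the projections -/
lemma mono_eta_fStar' (G' : Sheaf (K'.over X) AddCommGrpCat.{u}) :
    Mono ((eta f K').app ((OvPush.fStar' K' f).obj G')) := by
  apply Sheaf.mono_of_injective
  intro T
  rw [eta_app_hom_app]
  have e : (Over.mapPullbackAdj f).unit.app ((Over.pullback f).obj T.unop) ≫
      (Over.pullback f).map (CmpKill.fstMap f T.unop) = 𝟙 ((Over.pullback f).obj T.unop) :=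
    (Over.mapPullbackAdj f).right_triangle_components T.unop
  have e' := congrArg (fun φ => G'.obj.map φ.op) e
  simp only [op_comp, Functor.map_comp, op_id, Functor.map_id] at e'
  have key : ∀ a : G'.obj.obj (op ((Over.pullback f).obj T.unop)),
      G'.obj.map ((Over.mapPullbackAdj f).unit.app ((Over.pullback f).obj T.unop)).op
        (G'.obj.map ((Over.pullback f).map (CmpKill.fstMap f T.unop)).op a) = a := by
    intro a
    have := congrArg (fun φ => (ConcreteCategory.hom φ) a) e'
    simpa using this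
  intro a b hab
  have hab' : G'.obj.map ((Over.pullback f).map (CmpKill.fstMap f T.unop)).op a =
      G'.obj.map ((Over.pullback f).map (CmpKill.fstMap f T.unop)).op b := hab
  have := key a
  rw [hab', key b] at this
  exact this.symm

lemma mono_eta_fStar (G' : Sheaf (K'.over X) AddCommGrpCat.{u}) :
    Mono ((eta f K').app ((OvPush.fStar K' f).obj G')) := by
  have := mono_eta_fStar' f K' G'
  have nat := (eta f K').naturality ((OvPush.pushIso K' f).hom.app G')
  have h2 : Mono ((eta f K').app ((OvPush.fStar K' f).obj G') ≫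
      (Lam f K').map ((OvPush.pushIso K' f).hom.app G')) := by
    rw [← nat]
    exact mono_comp _ _
  exact mono_of_mono _ ((Lam f K').map ((OvPush.pushIso K' f).hom.app G'))

variable {K'} in
/-- the projections `T ×_Y X → T` are coverings for a topology in which `{X → Y}` is covering -/
lemma injective_res_fst {J : GrothendieckTopology C}
    (hcov : Sieve.ofArrows (fun _ : PUnit.{u + 1} => X) (fun _ => f) ∈ J Y)
    (Q : (Over Y)ᵒᵖ ⥤ AddCommGrpCat.{u}) (hQ : Presheaf.IsSheaf (J.over Y) Q) (T : Over Y) :
    Function.Injective (Q.map (CmpKill.fstMap f T).op) := by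
  intro t₁ t₂ ht
  let QJ : Sheaf (J.over Y) AddCommGrpCat.{u} := ⟨Q, hQ⟩
  refine ShfLoc.sheaf_ext (J.over Y) QJ t₁ t₂
    (Sieve.generate (Presieve.singleton (CmpKill.fstMap f T))) ?_ ?_
  · rw [GrothendieckTopology.mem_over_iff]
    refine J.superset_covering ?_ (J.pullback_stable T.hom hcov)
    intro Z g hg
    rw [Sieve.overEquiv_iff]
    have hg' : (Sieve.ofArrows (fun _ : PUnit.{u + 1} => X) (fun _ => f)).arrows (g ≫ T.hom) := hg
    obtain ⟨_, a, ha⟩ := (Sieve.mem_ofArrows_iff _ _ _).1 hg'
    let l : Z ⟶ pullback T.hom f := pullback.lift g a ha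
    let ω : Over.mk (g ≫ T.hom) ⟶ (OvPush.uu f).obj T := Over.homMk l (by
      show l ≫ pullback.snd T.hom f ≫ f = g ≫ T.hom
      rw [pullback.lift_snd_assoc, ha])
    refine ⟨_, ω, CmpKill.fstMap f T, Presieve.singleton_self _, ?_⟩
    apply Over.OverMorphism.ext
    show l ≫ (CmpKill.fstMap f T).left = g
    rw [CmpKill.fstMap_left]
    exact pullback.lift_fst _ _ _
  · intro V g hg
    obtain ⟨W, a, b, hb, rfl⟩ := hg
    obtain ⟨⟩ := hb
    show Q.map (a ≫ CmpKill.fstMap f T).op t₁ = Q.map (a ≫ CmpKill.fstMap f T).op t₂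
    rw [op_comp, Q.map_comp, ConcreteCategory.comp_apply, ConcreteCategory.comp_apply, ht]

/-- (d2): sheaves for the finer topology are separated for the projections -/
lemma mono_eta_of_isSheaf {J : GrothendieckTopology C}
    (hcov : Sieve.ofArrows (fun _ : PUnit.{u + 1} => X) (fun _ => f) ∈ J Y)
    (M : Sheaf (K'.over Y) AddCommGrpCat.{u}) (hM : Presheaf.IsSheaf (J.over Y) M.obj) :
    Mono ((eta f K').app M) := by
  apply Sheaf.mono_of_injective
  intro T
  rw [eta_app_hom_app]
  exact injective_res_fst f hcov M.obj hM T.unop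

/-- `Λ' F' ≅ R^0 f_* (F'|_X)` -/
noncomputable def lamIso [(OvPush.fStar K' f).Additive] (F' : Sheaf (K'.over Y) AddCommGrpCat.{u}) :
    ((OvPush.fStar K' f).rightDerived 0).obj ((OvPush.fInv K' f).obj F') ≅ (Lam f K').obj F' := by
  haveI : PreservesFiniteLimits (OvPush.fStar K' f) := by
    haveI : PreservesLimitsOfSize.{0, 0} (OvPush.fStar K' f) :=
      (OvPush.adjCo K' f).rightAdjoint_preservesLimits
    infer_instance
  exact (Functor.rightDerivedZeroIsoSelf (OvPush.fStar K' f)).app _ ≪≫
    (OvPush.pushIso K' f).app _ ≪≫ (OvPush.compIso K' f).app F'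


section LES

variable {𝒜 : Type (u + 1)} [Category.{u} 𝒜] [Abelian 𝒜] [HasInjectiveResolutions 𝒜]
  {ℬ : Type (u + 1)} [Category.{u} ℬ] [Abelian ℬ] (F : 𝒜 ⥤ ℬ) [F.Additive]

lemma isZero_succ_of_les {S : ShortComplex 𝒜} (hS : S.ShortExact) (m : ℕ)
    (h3 : IsZero ((F.rightDerived m).obj S.X₃))
    (h2 : IsZero ((F.rightDerived (m + 1)).obj S.X₂)) :
    IsZero ((F.rightDerived (m + 1)).obj S.X₁) :=
  ((Horseshoe.derivedLES F).exact₁ S hS m (m + 1) rfl).isZero_X₂ (h3.eq_of_src _ _)
    (h2.eq_of_tgt _ _)

end LES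

section DV

variable [(OvPush.fStar K' f).Additive]

instance : PreservesFiniteLimits (OvPush.fStar K' f) := by
  haveI : PreservesLimitsOfSize.{0, 0} (OvPush.fStar K' f) :=
    (OvPush.adjCo K' f).rightAdjoint_preservesLimits
  infer_instance

/-- **D(m)**: the derived functors of the kernel functor vanish on a weak Serre class of
separated sheaves stable under `R^b f_* f^{-1}` -/
theorem D_vanish (𝒜 : ObjectProperty (Sheaf (K'.over Y) AddCommGrpCat.{u})) [WSerre.IsWeakSerre 𝒜]
    (hsep : ∀ F', 𝒜 F' → Mono ((eta f K').app F'))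
    (hR : ∀ F', 𝒜 F' → ∀ b : ℕ,
      𝒜 (((OvPush.fStar K' f).rightDerived b).obj ((OvPush.fInv K' f).obj F'))) :
    ∀ (m : ℕ) (F' : Sheaf (K'.over Y) AddCommGrpCat.{u}), 𝒜 F' →
      IsZero (((Hk f K').rightDerived m).obj F') := by
  intro m
  induction m using Nat.strong_induction_on with
  | _ m ih =>
    intro F' hF'
    rcases m with _ | m
    · refine IsZero.of_iso ?_ ((Functor.rightDerivedZeroIsoSelf (Hk f K')).app F')
      exact (KerFun.isZero_obj_iff (eta f K') F').2 (hsep F' hF')
    · haveI := hsep F' hF'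
      have hΛ : 𝒜 ((Lam f K').obj F') := 𝒜.prop_of_iso (lamIso f K' F') (hR F' hF' 0)
      let S : ShortComplex (Sheaf (K'.over Y) AddCommGrpCat.{u}) :=
        ShortComplex.mk ((eta f K').app F') (cokernel.π ((eta f K').app F')) (cokernel.condition _)
      have hS : S.ShortExact :=
        { exact := ShortComplex.exact_cokernel _
          mono_f := inferInstanceAs (Mono ((eta f K').app F'))
          epi_g := inferInstanceAs (Epi (cokernel.π ((eta f K').app F'))) }
      have hQ : 𝒜 S.X₃ := 𝒜.prop_cokernel ((eta f K').app F') hF' hΛ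
      refine isZero_succ_of_les (Hk f K') hS m (ih m (Nat.lt_succ_self m) _ hQ) ?_
      -- vanishing on `Λ' F'` via the spectral sequence of `f_*` followed by the kernel functor
      have hc := SSCorner.corner (OvPush.fStar K' f) (Hk f K')
        (fun Q hQ q hq => by
          haveI := hQ
          haveI : Injective ((OvPush.fStar K' f).obj Q) :=
            (OvPush.adjCo K' f).map_injective Q hQ
          obtain ⟨q', rfl⟩ := Nat.exists_eq_succ_of_ne_zero (Nat.pos_iff_ne_zero.1 hq)
          exact Functor.isZero_rightDerived_obj_injective_succ _ _ _)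
        ((OvPush.fInv K' f).obj F') (m + 1) 0
        (SSCorner.isZero_rightDerived_of_objwise (OvPush.fStar K' f ⋙ Hk f K')
          (fun Z => (KerFun.isZero_obj_iff (eta f K') _).2 (mono_eta_fStar f K' Z)) _ _)
        (fun r hr2 hrm => by
          apply ih (m + 1 - r) (by omega)
          exact hR F' hF' _)
        (fun r hr2 hr1 => by omega)
      exact IsZero.of_iso hc (((Hk f K').rightDerived (m + 1)).mapIso (lamIso f K' F').symm)

end DV

section Final

variable {J J' : GrothendieckTopology C} (h : J' ≤ J)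

/-- **(★)**: under `V_n` and `D`, the sheaf `R^{n+1} ε_* F` is separated for the projections
`T ×_Y X → T` -/
theorem mono_eta_rightDerived
    (hcov : Sieve.ofArrows (fun _ : PUnit.{u + 1} => X) (fun _ => f) ∈ J Y)
    (F : Sheaf (J.over Y) AddCommGrpCat.{u}) (n : ℕ)
    (hVn : ∀ i, 1 ≤ i → i ≤ n →
      IsZero (((EpsCmp.G (SiteCmp.over_le h Y)).rightDerived i).obj F))
    (hD : ∀ m : ℕ, IsZero (((Hk f J').rightDerived m).obj
      ((EpsCmp.G (SiteCmp.over_le h Y)).obj F))) :
    Mono ((eta f J').app (((EpsCmp.G (SiteCmp.over_le h Y)).rightDerived (n + 1)).obj F)) := by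
  rw [← KerFun.isZero_obj_iff]
  have hc := SSCorner.corner (EpsCmp.G (SiteCmp.over_le h Y)) (Hk f J')
    (fun Q hQ q hq => by
      haveI := hQ
      haveI : Injective ((EpsCmp.G (SiteCmp.over_le h Y)).obj Q) :=
        (EpsCmp.adj (SiteCmp.over_le h Y)).map_injective Q hQ
      obtain ⟨q', rfl⟩ := Nat.exists_eq_succ_of_ne_zero (Nat.pos_iff_ne_zero.1 hq)
      exact Functor.isZero_rightDerived_obj_injective_succ _ _ _)
    F 0 (n + 1)
    (SSCorner.isZero_rightDerived_of_objwise (EpsCmp.G (SiteCmp.over_le h Y) ⋙ Hk f J')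
      (fun Z => (KerFun.isZero_obj_iff (eta f J') _).2
        (mono_eta_of_isSheaf f J' hcov _ Z.property)) _ _)
    (fun r hr2 hr0 => by omega)
    (fun r hr2 hrn => by
      by_cases hr : r ≤ n + 1
      · exact Functor.map_isZero _ (hVn (n + 1 + 1 - r) (by omega) (by omega))
      · obtain rfl : r = n + 2 := by omega
        have e : ((EpsCmp.G (SiteCmp.over_le h Y)).rightDerived (n + 1 + 1 - (n + 2))).obj F ≅
            (EpsCmp.G (SiteCmp.over_le h Y)).obj F := by
          have : n + 1 + 1 - (n + 2) = 0 := by omega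
          rw [this]
          exact (Functor.rightDerivedZeroIsoSelf (EpsCmp.G (SiteCmp.over_le h Y))).app F
        exact IsZero.of_iso (hD _) (((Hk f J').rightDerived (0 + (n + 2))).mapIso e))
  exact IsZero.of_iso hc ((Functor.rightDerivedZeroIsoSelf (Hk f J')).app _).symm

end Final

end CmpSep

end Groth.Agent.Lib.helper27
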