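import Mathlib
import Groth.Agent.Lib.Helper27.EpsCmp

/-!
# Partial degeneration of the comparison of cohomology for two topologies
-/

set_option autoImplicit false

namespace Groth.Agent.Lib.helper27

open CategoryTheory Limits Abelian Opposite Groth.Agent.Lib.helper7

universe u

namespace EpsCmp

variable {D : Type u} [SmallCategory D] {K K' : GrothendieckTopology D} (h : K' ≤ K)

lemma sheafHom_zero_app {J : GrothendieckTopology D} {P Q : Sheaf J AddCommGrpCat.{u}} (U : Dᵒᵖ)
    (x : P.obj.obj U) : (0 : P ⟶ Q).hom.app U x = 0 := rfl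

/-- if `H¹`-classes of `S.X₁` die `K'`-locally, then `ε_*` keeps `S.g` an epimorphism -/
lemma epi_G_map_g {S : ShortComplex (Sheaf K AddCommGrpCat.{u})} (hS : S.ShortExact)
    (hV : Vn (K' := K') S.X₁ 1) : Epi ((G h).map S.g) := by
  rw [← Sheaf.isLocallySurjective_iff_epi']
  constructor
  intro T σ
  let η : Ext.{u} ((FreeYoneda.freeSheaf K).obj T) S.X₃ 0 := (CohPsh.e₀ K S.X₃ T).symm σ
  have hk := hV T (η.comp hS.extClass (zero_add 1))
  refine K'.superset_covering ?_ hk
  intro V g hg
  obtain ⟨i, hi⟩ := KillSv.lift_of_kill K hS η g hg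
  refine ⟨i, ?_⟩
  rw [AddEquiv.apply_symm_apply] at hi
  exact hi

lemma shortExact_map_G {S : ShortComplex (Sheaf K AddCommGrpCat.{u})} (hS : S.ShortExact)
    (hV : Vn (K' := K') S.X₁ 1) : (S.map (G h)).ShortExact := by
  haveI := hS.mono_f
  haveI : Epi ((G h).map S.g) := epi_G_map_g h hS hV
  have hex : (S.map (G h)).Exact :=
    hS.exact.map_of_mono_of_preservesKernel (G h) inferInstance inferInstance
  haveI : Mono (S.map (G h)).f := inferInstanceAs (Mono ((G h).map S.f))
  haveI : Epi (S.map (G h)).g := inferInstanceAs (Epi ((G h).map S.g))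
  exact ShortComplex.ShortExact.mk' hex inferInstance inferInstance

/-- the key factorisation: a section of `Q` whose boundary dies `K'`-locally maps to zero in
the cokernel of `ε_* I → ε_* Q` -/
lemma comp_cokernel_eq_zero {S : ShortComplex (Sheaf K AddCommGrpCat.{u})} (hS : S.ShortExact)
    {T : D} (s : (FreeYoneda.freeSheaf K').obj T ⟶ (G h).obj S.X₃)
    (hk : KillSv.kill K ((cT h T S.X₃ 0 (Ext.mk₀ s)).comp hS.extClass (zero_add 1)) ∈ K' T) :
    s ≫ cokernel.π ((G h).map S.g) = 0 := by
  apply (CohPsh.homAddEquiv K' T _).injective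
  rw [map_zero]
  show FreeYoneda.homEquiv K' T _ (s ≫ cokernel.π ((G h).map S.g)) = 0
  rw [FreeYoneda.homEquiv_naturality_right]
  refine ShfLoc.sheaf_eq_zero K' _ _ _ hk ?_
  intro V g hg
  obtain ⟨i, hi⟩ := KillSv.lift_of_kill K hS _ g hg
  rw [e₀_cT, CohPsh.e₀_mk₀] at hi
  -- naturality of the cokernel projection
  have nat := congrArg (fun φ => (ConcreteCategory.hom φ) (FreeYoneda.homEquiv K' T _ s))
    ((cokernel.π ((G h).map S.g)).hom.naturality g.op)
  simp only [ConcreteCategory.comp_apply] at nat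
  rw [← nat]
  have hi' : ((G h).obj S.X₃).obj.map g.op (FreeYoneda.homEquiv K' T _ s) =
      ((G h).map S.g).hom.app (op V) i := hi.symm
  rw [hi']
  have hc := congrArg (fun ψ => (ConcreteCategory.hom (ψ.hom.app (op V))) i)
    (cokernel.condition ((G h).map S.g))
  simp only [ObjectProperty.FullSubcategory.comp_hom, NatTrans.comp_app,
    ConcreteCategory.comp_apply] at hc
  exact hc.trans (sheafHom_zero_app _ _)

/-- **partial degeneration**: if the classes of `F` of degrees `1..n` die `K'`-locally, the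
comparison maps are bijective in degrees `≤ n`, injective in degree `n+1`, with image in
degree `n+1` containing the `K'`-locally trivial classes. -/
theorem main (n : ℕ) : ∀ (F : Sheaf K AddCommGrpCat.{u}),
    (∀ i, 1 ≤ i → i ≤ n → Vn (K' := K') F i) →
    (∀ (T : D) (q : ℕ), q ≤ n → Function.Bijective (cT h T F q)) ∧
    (∀ T : D, Function.Injective (cT h T F (n + 1))) ∧
    (∀ (T : D) (ξ : Ext.{u} ((FreeYoneda.freeSheaf K).obj T) F (n + 1)),
      KillSv.kill K ξ ∈ K' T → ∃ w, cT h T F (n + 1) w = ξ) := by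
  induction n with
  | zero =>
    intro F _
    refine ⟨fun T q hq => ?_, fun T => ?_, fun T ξ hk => ?_⟩
    · obtain rfl : q = 0 := by omega
      exact cT_zero_bijective h T F
    · exact ExtCmp.c_one_injective (adj h) (γ h T) (fun F => cT_zero_bijective h T F) F
    · let S := cokerSES (Injective.ι F)
      have hS : S.ShortExact := cokerSES_shortExact _
      haveI : Injective S.X₂ := inferInstanceAs (Injective (Injective.under F))
      obtain ⟨η, hη⟩ := Ext.covariant_sequence_exact₁ ((FreeYoneda.freeSheaf K).obj T) hS ξ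
        (Ext.eq_zero_of_injective _) (zero_add 1)
      obtain ⟨x, hx⟩ := (cT_zero_bijective h T S.X₃).2 η
      obtain ⟨s, rfl⟩ := (Ext.mk₀_bijective _ _).2 x
      have hs : s ≫ cokernel.π ((G h).map S.g) = 0 := by
        apply comp_cokernel_eq_zero h hS s
        rw [hx, hη]
        exact hk
      obtain ⟨w, hw⟩ := ExtCmp.mem_range_c_one (adj h) (γ h T)
        (fun F => cT_zero_bijective h T F) hS s hs
      refine ⟨w, hw.trans ?_⟩
      have hx' : ExtCmp.c (adj h) (γ h T) S.X₃ 0 (Ext.mk₀ s) = η := hx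
      rw [hx', hη]
  | succ n ih =>
    intro F hF
    let S := cokerSES (Injective.ι F)
    have hS : S.ShortExact := cokerSES_shortExact _
    haveI : Injective S.X₂ := inferInstanceAs (Injective (Injective.under F))
    have hV1 : Vn (K' := K') S.X₁ 1 := hF 1 le_rfl (by omega)
    have hGS := shortExact_map_G h hS hV1
    -- vanishing for the quotient
    have hQ : ∀ i, 1 ≤ i → i ≤ n → Vn (K' := K') S.X₃ i := by
      intro i hi1 hin T η
      obtain ⟨j, rfl⟩ : ∃ j, i = j + 1 := ⟨i - 1, by omega⟩
      exact K'.superset_covering (KillSv.kill_le_of_injective K hS η)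
        (hF (j + 1 + 1) (by omega) (by omega) T _)
    have hI : ∀ i, 1 ≤ i → i ≤ n → Vn (K' := K') S.X₂ i := by
      intro i hi1 _
      obtain ⟨j, rfl⟩ : ∃ j, i = j + 1 := ⟨i - 1, by omega⟩
      exact Vn_of_injective S.X₂ j
    obtain ⟨aQ, bQ, cQ⟩ := ih S.X₃ hQ
    obtain ⟨aI, _, _⟩ := ih S.X₂ hI
    refine ⟨fun T q hq => ?_, fun T => ?_, fun T ξ hk => ?_⟩
    · rcases q with _ | q
      · exact cT_zero_bijective h T F
      · exact ExtCmp.c_bijective_step (adj h) (γ h T) hS hGS q (aI T q (by omega))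
          (aQ T q (by omega))
    · exact ExtCmp.c_injective_step (adj h) (γ h T) hS hGS n (bQ T)
    · obtain ⟨η, hη⟩ := Ext.covariant_sequence_exact₁ ((FreeYoneda.freeSheaf K).obj T) hS ξ
        (Ext.eq_zero_of_injective _) (rfl : n + 1 + 1 = n + 1 + 1)
      have hkη : KillSv.kill K η ∈ K' T := by
        refine K'.superset_covering (KillSv.kill_le_of_injective K hS η) ?_
        rw [hη]
        exact hk
      obtain ⟨y, hy⟩ := cQ T η hkη
      refine ⟨y.comp hGS.extClass rfl, ?_⟩
      have := ExtCmp.c_extClass (adj h) (γ h T) hS hGS (rfl : n + 1 + 1 = n + 1 + 1) y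
      refine this.trans ?_
      have hy' : ExtCmp.c (adj h) (γ h T) S.X₃ (n + 1) y = η := hy
      rw [hy', hη]

end EpsCmp

end Groth.Agent.Lib.helper27
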