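import Mathlib
import Groth.Prelude.Def_CohSite
import Groth.Agent.Lib.Helper27.CohPsh
import Groth.Agent.Lib.Helper27.ExtRho
import Groth.Agent.Lib.Helper27.OvShriek

/-!
# Cohomology and restriction along a continuous functor with exact, injective-preserving
restriction (e.g. localization `Over.map g`)
-/

set_option autoImplicit false

namespace Groth.Agent.Lib.helper27

open CategoryTheory Limits Abelian Opposite Groth.Agent.Lib.helper7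

universe u

namespace OvLoc

variable {D₁ D₂ : Type u} [SmallCategory D₁] [SmallCategory D₂]
  (K₁ : GrothendieckTopology D₁) (K₂ : GrothendieckTopology D₂) (u : D₁ ⥤ D₂)
  [u.IsContinuous K₁ K₂]

/-- restriction along `u` -/
noncomputable abbrev E : Sheaf K₂ AddCommGrpCat.{u} ⥤ Sheaf K₁ AddCommGrpCat.{u} :=
  CohSite.push K₂ K₁ u

/-- the canonical map `ℤ_S ⟶ u^{-1} ℤ_{uS}` -/
noncomputable def α (S : D₁) : (FreeYoneda.freeSheaf K₁).obj S ⟶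
    (E K₁ K₂ u).obj ((FreeYoneda.freeSheaf K₂).obj (u.obj S)) :=
  (FreeYoneda.homEquiv K₁ S _).symm (CohPsh.univ K₂ (u.obj S))

lemma homEquiv_α (S : D₁) :
    FreeYoneda.homEquiv K₁ S _ (α K₁ K₂ u S) = CohPsh.univ K₂ (u.obj S) :=
  Equiv.apply_symm_apply _ _

lemma α_natural {S₁ S₂ : D₁} (s : S₁ ⟶ S₂) :
    (FreeYoneda.freeSheaf K₁).map s ≫ α K₁ K₂ u S₂ =
      α K₁ K₂ u S₁ ≫ (E K₁ K₂ u).map ((FreeYoneda.freeSheaf K₂).map (u.map s)) := by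
  apply (FreeYoneda.homEquiv K₁ S₁ _).injective
  rw [FreeYoneda.homEquiv_naturality_left, FreeYoneda.homEquiv_naturality_right, homEquiv_α,
    homEquiv_α]
  have h1 := CohPsh.homEquiv_eq K₂ (u.obj S₁) _ ((FreeYoneda.freeSheaf K₂).map (u.map s))
  have h2 := FreeYoneda.homEquiv_naturality_left K₂ (u.map s) _
    (𝟙 ((FreeYoneda.freeSheaf K₂).obj (u.obj S₂)))
  rw [Category.comp_id] at h2
  exact h2.symm.trans h1

variable [(E K₁ K₂ u).Additive] [PreservesFiniteLimits (E K₁ K₂ u)]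
  [PreservesFiniteColimits (E K₁ K₂ u)]

/-- the localization map `H^q(uS, F) → H^q(S, u^{-1}F)` -/
noncomputable def loc (S : D₁) (F : Sheaf K₂ AddCommGrpCat.{u}) (q : ℕ) :
    Ext.{u} ((FreeYoneda.freeSheaf K₂).obj (u.obj S)) F q →+
      Ext.{u} ((FreeYoneda.freeSheaf K₁).obj S) ((E K₁ K₂ u).obj F) q :=
  ExtRho.ρ (E K₁ K₂ u) (α K₁ K₂ u S) (𝟙 _) q

lemma loc_natural_src {S₁ S₂ : D₁} (s : S₁ ⟶ S₂) (F : Sheaf K₂ AddCommGrpCat.{u}) (q : ℕ)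
    (x : Ext.{u} ((FreeYoneda.freeSheaf K₂).obj (u.obj S₂)) F q) :
    loc K₁ K₂ u S₁ F q ((Ext.mk₀ ((FreeYoneda.freeSheaf K₂).map (u.map s))).comp x (zero_add q)) =
      (Ext.mk₀ ((FreeYoneda.freeSheaf K₁).map s)).comp (loc K₁ K₂ u S₂ F q x) (zero_add q) :=
  ExtRho.ρ_natural_src (E K₁ K₂ u) (α K₁ K₂ u S₁) (α K₁ K₂ u S₂) _ _ (α_natural K₁ K₂ u s) _ q x

lemma loc_zero (S : D₁) (F : Sheaf K₂ AddCommGrpCat.{u})
    (b : (FreeYoneda.freeSheaf K₂).obj (u.obj S) ⟶ F) :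
    CohPsh.e₀ K₁ ((E K₁ K₂ u).obj F) S (loc K₁ K₂ u S F 0 (Ext.mk₀ b)) =
      CohPsh.e₀ K₂ F (u.obj S) (Ext.mk₀ b) := by
  have h : loc K₁ K₂ u S F 0 (Ext.mk₀ b) =
      Ext.mk₀ (α K₁ K₂ u S ≫ (E K₁ K₂ u).map b) := by
    simp [loc, ExtRho.ρ_apply, Ext.mapExactFunctor_mk₀]
  rw [h, CohPsh.e₀_mk₀, CohPsh.e₀_mk₀, FreeYoneda.homEquiv_naturality_right, homEquiv_α,
    CohPsh.homEquiv_eq]
  rfl

lemma loc_zero_bijective (S : D₁) (F : Sheaf K₂ AddCommGrpCat.{u}) :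
    Function.Bijective (loc K₁ K₂ u S F 0) := by
  have h : (CohPsh.e₀ K₁ ((E K₁ K₂ u).obj F) S : _ → _) ∘ (loc K₁ K₂ u S F 0) =
      (CohPsh.e₀ K₂ F (u.obj S) : _ → _) := by
    funext x
    obtain ⟨b, rfl⟩ := (Ext.mk₀_bijective _ _).2 x
    exact loc_zero K₁ K₂ u S F b
  have hb : Function.Bijective ((CohPsh.e₀ K₁ ((E K₁ K₂ u).obj F) S : _ → _) ∘
      (loc K₁ K₂ u S F 0)) := by
    rw [h]
    exact (CohPsh.e₀ K₂ F (u.obj S)).bijective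
  exact (Function.Bijective.of_comp_iff' (CohPsh.e₀ K₁ ((E K₁ K₂ u).obj F) S).bijective _).1 hb

/-- compatibility with connecting homomorphisms -/
lemma loc_extClass (S : D₁) {T : ShortComplex (Sheaf K₂ AddCommGrpCat.{u})} (hT : T.ShortExact)
    {n m : ℕ} (h : n + 1 = m) (x : Ext.{u} ((FreeYoneda.freeSheaf K₂).obj (u.obj S)) T.X₃ n) :
    loc K₁ K₂ u S T.X₁ m (x.comp hT.extClass h) =
      (loc K₁ K₂ u S T.X₃ n x).comp (hT.map_of_exact (E K₁ K₂ u)).extClass h :=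
  ExtRho.ρ_extClass_map (E K₁ K₂ u) (α K₁ K₂ u S) hT h x

variable [(E K₁ K₂ u).PreservesInjectiveObjects]

theorem loc_bijective (S : D₁) (F : Sheaf K₂ AddCommGrpCat.{u}) (q : ℕ) :
    Function.Bijective (loc K₁ K₂ u S F q) := by
  refine ExtRho.ρ_bijective (E K₁ K₂ u) (α K₁ K₂ u S) (fun F => loc_zero_bijective K₁ K₂ u S F)
    ?_ q F
  intro I hI q y
  haveI : Injective ((E K₁ K₂ u).obj I) := Functor.injective_obj _ _
  exact Ext.eq_zero_of_injective y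

/-- components of the isomorphism of presheaves `S ↦ H^q(uS, F)` and `S ↦ H^q(S, u^{-1}F)` -/
noncomputable def cohIso (F : Sheaf K₂ AddCommGrpCat.{u}) (q : ℕ) (S : D₁) :
    (F.cohomologyPresheaf q).obj (op (u.obj S)) ≅
      (((E K₁ K₂ u).obj F).cohomologyPresheaf q).obj (op S) :=
  (AddEquiv.ofBijective (loc K₁ K₂ u S F q) (loc_bijective K₁ K₂ u S F q)).toAddCommGrpIso

lemma cohIso_hom_apply (F : Sheaf K₂ AddCommGrpCat.{u}) (q : ℕ) (S : D₁)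
    (x : Ext.{u} ((FreeYoneda.freeSheaf K₂).obj (u.obj S)) F q) :
    (cohIso K₁ K₂ u F q S).hom x = loc K₁ K₂ u S F q x := rfl

lemma cohIso_natural (F : Sheaf K₂ AddCommGrpCat.{u}) (q : ℕ) {S₁ S₂ : D₁} (s : S₁ ⟶ S₂) :
    (F.cohomologyPresheaf q).map (u.map s).op ≫ (cohIso K₁ K₂ u F q S₁).hom =
      (cohIso K₁ K₂ u F q S₂).hom ≫ (((E K₁ K₂ u).obj F).cohomologyPresheaf q).map s.op := by
  apply AddCommGrpCat.hom_ext
  apply AddMonoidHom.ext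
  intro x
  exact loc_natural_src K₁ K₂ u s F q x

/-- the isomorphism of presheaves `S ↦ H^q(uS, F)` and `S ↦ H^q(S, u^{-1}F)` -/
noncomputable def cohPshIso (F : Sheaf K₂ AddCommGrpCat.{u}) (q : ℕ) :
    u.op ⋙ F.cohomologyPresheaf q ≅ ((E K₁ K₂ u).obj F).cohomologyPresheaf q :=
  NatIso.ofComponents (fun S => cohIso K₁ K₂ u F q S.unop)
    (fun {S₁ S₂} s => cohIso_natural K₁ K₂ u F q s.unop)

end OvLoc

end Groth.Agent.Lib.helper27
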