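import Mathlib
import Groth.Prelude.Def_CohSite
import Groth.Prelude.Def_SiteCmp
import Groth.Prelude.Def_WeakSerre
import Groth.Agent.Lib.Helper27.CmpSep
import Groth.Agent.Lib.Helper27.EpsCmp2
import Groth.Agent.Lib.Helper27.OvLoc

/-!
# Reduction steps for the comparison of two topologies
-/

set_option autoImplicit false

namespace Groth.Agent.Lib.helper27

open CategoryTheory Limits Abelian Opposite Groth.Agent.Lib.helper7

universe u

namespace CmpRed

section General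

variable {D : Type u} [SmallCategory D] (K : GrothendieckTopology D)

/-- restriction of classes -/
noncomputable abbrev res {F : Sheaf K AddCommGrpCat.{u}} {T₁ T₂ : D} (s : T₁ ⟶ T₂) {m : ℕ}
    (ξ : Ext.{u} ((FreeYoneda.freeSheaf K).obj T₂) F m) :
    Ext.{u} ((FreeYoneda.freeSheaf K).obj T₁) F m :=
  (Ext.mk₀ ((FreeYoneda.freeSheaf K).map s)).comp ξ (zero_add m)

lemma res_comp {F : Sheaf K AddCommGrpCat.{u}} {T₁ T₂ T₃ : D} (s : T₁ ⟶ T₂) (r : T₂ ⟶ T₃) {m : ℕ}
    (ξ : Ext.{u} ((FreeYoneda.freeSheaf K).obj T₃) F m) :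
    res K (s ≫ r) ξ = res K s (res K r ξ) := by
  show (Ext.mk₀ ((FreeYoneda.freeSheaf K).map (s ≫ r))).comp ξ (zero_add m) =
    (Ext.mk₀ ((FreeYoneda.freeSheaf K).map s)).comp
      ((Ext.mk₀ ((FreeYoneda.freeSheaf K).map r)).comp ξ (zero_add m)) (zero_add m)
  rw [Ext.mk₀_comp_mk₀_assoc, Functor.map_comp]

lemma res_zero {F : Sheaf K AddCommGrpCat.{u}} {T₁ T₂ : D} (s : T₁ ⟶ T₂) {m : ℕ} :
    res K s (0 : Ext.{u} ((FreeYoneda.freeSheaf K).obj T₂) F m) = 0 :=
  Ext.comp_zero _ _ _ _ _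

lemma kill_iff {F : Sheaf K AddCommGrpCat.{u}} {T V : D} {m : ℕ}
    (ξ : Ext.{u} ((FreeYoneda.freeSheaf K).obj T) F m) (g : V ⟶ T) :
    (KillSv.kill K ξ).arrows g ↔ res K g ξ = 0 := Iff.rfl

lemma kill_pullback {F : Sheaf K AddCommGrpCat.{u}} {T T' : D} {m : ℕ}
    (ξ : Ext.{u} ((FreeYoneda.freeSheaf K).obj T) F m) (r : T' ⟶ T) :
    (KillSv.kill K ξ).pullback r = KillSv.kill K (res K r ξ) := by
  ext V g
  show res K (g ≫ r) ξ = 0 ↔ res K g (res K r ξ) = 0
  rw [res_comp]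

/-- being locally zero is local -/
lemma kill_mem_of_local (K' : GrothendieckTopology D) {F : Sheaf K AddCommGrpCat.{u}} {T : D}
    {m : ℕ} (ξ : Ext.{u} ((FreeYoneda.freeSheaf K).obj T) F m) (R : Sieve T) (hR : R ∈ K' T)
    (hloc : ∀ ⦃T' : D⦄ (r : T' ⟶ T), R r → KillSv.kill K (res K r ξ) ∈ K' T') :
    KillSv.kill K ξ ∈ K' T := by
  refine K'.transitive hR _ ?_
  intro T' r hr
  rw [kill_pullback]
  exact hloc r hr

/-- being locally zero, checked on a generating family -/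
lemma kill_mem_of_family (K' : GrothendieckTopology D) {F : Sheaf K AddCommGrpCat.{u}} {T : D}
    {m : ℕ} (ξ : Ext.{u} ((FreeYoneda.freeSheaf K).obj T) F m) (R : Sieve T) (hR : R ∈ K' T)
    {ι : Type*} (Tj : ι → D) (rj : ∀ j, Tj j ⟶ T)
    (hfac : ∀ ⦃T' : D⦄ (r : T' ⟶ T), R r → ∃ (j : ι) (a : T' ⟶ Tj j), r = a ≫ rj j)
    (hloc : ∀ j, KillSv.kill K (res K (rj j) ξ) ∈ K' (Tj j)) :
    KillSv.kill K ξ ∈ K' T := by
  refine kill_mem_of_local K K' ξ R hR ?_
  intro T' r hr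
  obtain ⟨j, a, rfl⟩ := hfac r hr
  rw [res_comp, ← kill_pullback]
  exact K'.pullback_stable a (hloc j)

end General

section Slice

variable {C : Type u} [SmallCategory C] {J J' : GrothendieckTopology C} {V X : C} (t : V ⟶ X)

/-- local vanishing can be checked after restricting to a slice -/
lemma kill_mem_of_loc (S : Over V) (F : Sheaf (J.over X) AddCommGrpCat.{u}) (m : ℕ)
    (ξ : Ext.{u} ((FreeYoneda.freeSheaf (J.over X)).obj ((Over.map t).obj S)) F m)
    (hk : KillSv.kill (J.over V) (OvLoc.loc (J.over V) (J.over X) (Over.map t) S F m ξ) ∈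
      (J'.over V) S) :
    KillSv.kill (J.over X) ξ ∈ (J'.over X) ((Over.map t).obj S) := by
  rw [GrothendieckTopology.mem_over_iff] at hk ⊢
  refine J'.superset_covering ?_ hk
  intro Z g hg
  rw [Sieve.overEquiv_iff] at hg ⊢
  let γ : Over.mk (g ≫ S.hom) ⟶ S := Over.homMk g
  have hγ : res (J.over V) γ (OvLoc.loc (J.over V) (J.over X) (Over.map t) S F m ξ) = 0 := hg
  have h1 := OvLoc.loc_natural_src (J.over V) (J.over X) (Over.map t) γ F m ξ
  have h2 : OvLoc.loc (J.over V) (J.over X) (Over.map t) _ F m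
      (res (J.over X) ((Over.map t).map γ) ξ) = 0 := h1.trans hγ
  have h3 : res (J.over X) ((Over.map t).map γ) ξ = 0 := by
    apply (OvLoc.loc_bijective (J.over V) (J.over X) (Over.map t) _ F m).1
    rw [h2, map_zero]
  let b : Over.mk (g ≫ ((Over.map t).obj S).hom) ⟶ (Over.map t).obj (Over.mk (g ≫ S.hom)) :=
    Over.homMk (𝟙 _) (by simp)
  have hb : (Over.homMk g : Over.mk (g ≫ ((Over.map t).obj S).hom) ⟶ (Over.map t).obj S) =
      b ≫ (Over.map t).map γ := by
    apply Over.OverMorphism.ext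
    simp [b, γ]
  show res (J.over X) _ ξ = 0
  rw [hb, res_comp, h3, res_zero]

end Slice

section Sep

variable {C : Type u} [SmallCategory C] {J J' : GrothendieckTopology C} (h : J' ≤ J)
  {X Y : C} (f : X ⟶ Y) [HasPullbacksAlong f]

/-- separatedness of `R^m ε_* F` for the projections: a class dying on `T ×_Y X` is locally zero
for the coarser topology -/
lemma kill_mem_of_mono_eta (F : Sheaf (J.over Y) AddCommGrpCat.{u}) (m : ℕ)
    (hmono : Mono ((CmpSep.eta f J').app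
      (((EpsCmp.G (SiteCmp.over_le h Y)).rightDerived m).obj F)))
    (T : Over Y) (ξ : Ext.{u} ((FreeYoneda.freeSheaf (J.over Y)).obj T) F m)
    (hξ : res (J.over Y) (CmpKill.fstMap f T) ξ = 0) :
    KillSv.kill (J.over Y) ξ ∈ (J'.over Y) T := by
  haveI := SiteCmp.idContinuous (SiteCmp.over_le h Y)
  obtain ⟨e⟩ := RpushSheafify.rpush_iso (J.over Y) (J'.over Y) (𝟭 (Over Y)) F m
  let P : (Over Y)ᵒᵖ ⥤ AddCommGrpCat.{u} := (𝟭 (Over Y)).op ⋙ F.cohomologyPresheaf m
  let Q : Sheaf (J'.over Y) AddCommGrpCat.{u} := (presheafToSheaf (J'.over Y) AddCommGrpCat.{u}).obj P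
  have e' : ((EpsCmp.G (SiteCmp.over_le h Y)).rightDerived m).obj F ≅ Q := e
  -- transport monomorphy along the isomorphism
  have hmonoQ : Mono ((CmpSep.eta f J').app Q) := by
    have nat := (CmpSep.eta f J').naturality e'.inv
    have : Mono ((𝟭 _).map e'.inv ≫ (CmpSep.eta f J').app _) := mono_comp _ _
    rw [nat] at this
    exact mono_of_mono _ ((CmpSep.Lam f J').map e'.inv)
  have hinj : Function.Injective (Q.obj.map (CmpKill.fstMap f T).op) := by
    have h1 : Mono ((CmpSep.eta f J').app Q).hom := by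
      have := (sheafToPresheaf (J'.over Y) AddCommGrpCat.{u}).map_mono ((CmpSep.eta f J').app Q)
      exact this
    have h2 : Mono (((CmpSep.eta f J').app Q).hom.app (op T)) := inferInstance
    exact (AddCommGrpCat.mono_iff_injective _).1 h2
  have hx : (toSheafify (J'.over Y) P).app (op T) ξ = 0 := by
    apply hinj
    rw [map_zero]
    have nat := congrArg (fun φ => (ConcreteCategory.hom φ) ξ)
      ((toSheafify (J'.over Y) P).naturality (CmpKill.fstMap f T).op)
    simp only [ConcreteCategory.comp_apply] at nat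
    refine nat.symm.trans ?_
    have : P.map (CmpKill.fstMap f T).op ξ = 0 := hξ
    rw [this, map_zero]
  exact (ShfLoc.toSheafify_eq_zero_iff (J'.over Y) P ξ).1 hx

end Sep


section Core

variable {C : Type u} [SmallCategory C] {J J' : GrothendieckTopology C} (h : J' ≤ J)
  (P : MorphismProperty C)
  (A' : ∀ X : C, ObjectProperty (Sheaf (J'.over X) AddCommGrpCat.{u}))
  [∀ X : C, WSerre.IsWeakSerre (A' X)]
  (h1 : ∀ ⦃X Y : C⦄ (f : X ⟶ Y), P f → ∀ ⦃Y' : C⦄ (g : Y' ⟶ Y),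
    ∃ (W : C) (p : W ⟶ Y') (q : W ⟶ X), IsPullback p q g f ∧ P p)
  (h2 : ∀ ⦃X Y : C⦄ (f : X ⟶ Y) (F' : Sheaf (J'.over Y) AddCommGrpCat.{u}), A' Y F' →
    A' X ((CohSite.push (J'.over Y) (J'.over X) (Over.map f)).obj F'))
  (h3 : ∀ (X : C) (F' : Sheaf (J'.over X) AddCommGrpCat.{u}), A' X F' →
    Presheaf.IsSheaf (J.over X) F'.obj)
  (h4 : ∀ ⦃X Y : C⦄ (f : X ⟶ Y)
    [((Over.map f).sheafPushforwardCocontinuous AddCommGrpCat.{u} (J'.over X) (J'.over Y)).Additive],
    P f → ∀ (F' : Sheaf (J'.over X) AddCommGrpCat.{u}), A' X F' → ∀ i : ℕ,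
      A' Y ((((Over.map f).sheafPushforwardCocontinuous AddCommGrpCat.{u} (J'.over X)
        (J'.over Y)).rightDerived i).obj F'))

include h1 h2 h3 h4 in
/-- the core of the induction step, on the slice over `V` with a covering `w : W → V` in `P` -/
theorem core (n : ℕ)
    (hV : ∀ (Z : C) (G : Sheaf (J.over Z) AddCommGrpCat.{u}),
      A' Z ((SiteCmp.epsSh (SiteCmp.over_le h Z) AddCommGrpCat.{u}).obj G) →
      ∀ i : ℕ, 1 ≤ i → i ≤ n →
        IsZero (((SiteCmp.epsSh (SiteCmp.over_le h Z) AddCommGrpCat.{u}).rightDerived i).obj G))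
    {W V : C} (w : W ⟶ V) (hw : P w)
    (hcov : Sieve.ofArrows (fun _ : PUnit.{u + 1} => W) (fun _ => w) ∈ J V)
    (F : Sheaf (J.over V) AddCommGrpCat.{u})
    (hF : A' V ((SiteCmp.epsSh (SiteCmp.over_le h V) AddCommGrpCat.{u}).obj F))
    (ξ : Ext.{u} ((FreeYoneda.freeSheaf (J.over V)).obj (Over.mk (𝟙 V))) F (n + 1))
    {κ : Type u} (Wk : κ → C) (wk : ∀ k, Wk k ⟶ W) (hwk : Sieve.ofArrows Wk wk ∈ J' W)
    (hkill : ∀ k, res (J.over V)
      (Over.homMk (wk k ≫ w) (by simp) : Over.mk (wk k ≫ w) ⟶ Over.mk (𝟙 V)) ξ = 0) :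
    KillSv.kill (J.over V) ξ ∈ (J'.over V) (Over.mk (𝟙 V)) := by
  classical
  haveI : HasPullbacksAlong w := fun {W'} g => by
    obtain ⟨W'', p, q, hpb, _⟩ := h1 w hw g
    exact hpb.hasPullback
  have hle := SiteCmp.over_le h V
  let F' : Sheaf (J'.over V) AddCommGrpCat.{u} := (EpsCmp.G hle).obj F
  let wbar : Over.mk w ⟶ Over.mk (𝟙 V) := Over.homMk w
  let ξW := res (J.over V) wbar ξ
  -- (a) the restriction to `W` is locally zero for the coarser topology
  have hkW : KillSv.kill (J.over V) ξW ∈ (J'.over V) (Over.mk w) := by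
    rw [GrothendieckTopology.mem_over_iff]
    refine J'.superset_covering ?_ hwk
    intro Z g hg
    obtain ⟨k, a, rfl⟩ := (Sieve.mem_ofArrows_iff _ _ _).1 hg
    rw [Sieve.overEquiv_iff]
    let γk : Over.mk (wk k ≫ w) ⟶ Over.mk w := Over.homMk (wk k)
    have hγ : (KillSv.kill (J.over V) ξW).arrows γk := by
      show res (J.over V) γk (res (J.over V) wbar ξ) = 0
      rw [← res_comp]
      have : γk ≫ wbar = (Over.homMk (wk k ≫ w) (by simp) :
          Over.mk (wk k ≫ w) ⟶ Over.mk (𝟙 V)) := Over.OverMorphism.ext (by simp [γk, wbar])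
      rw [this]
      exact hkill k
    let b : Over.mk ((a ≫ wk k) ≫ (Over.mk w).hom) ⟶ Over.mk (wk k ≫ w) := Over.homMk a (by simp)
    have hb : (Over.homMk (a ≫ wk k) : Over.mk ((a ≫ wk k) ≫ (Over.mk w).hom) ⟶ Over.mk w) =
        b ≫ γk := Over.OverMorphism.ext (by simp [b, γk])
    rw [hb]
    exact (KillSv.kill (J.over V) ξW).downward_closed hγ b
  -- (b) it comes from the coarser topology
  have hVn : ∀ i, 1 ≤ i → i ≤ n → EpsCmp.Vn (K' := J'.over V) F i := fun i hi1 hi2 =>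
    (EpsCmp.isZero_rightDerived_iff hle F i).1 (hV V F hF i hi1 hi2)
  obtain ⟨-, hinj, hsurj⟩ := EpsCmp.main hle n F hVn
  obtain ⟨θ, hθ⟩ := hsurj (Over.mk w) ξW hkW
  -- (c) the two pullbacks agree
  have hθeq : res (J'.over V) (CmpKill.sndMap w (Over.mk w)) θ =
      res (J'.over V) (CmpKill.fstMap w (Over.mk w)) θ := by
    apply hinj
    show EpsCmp.cT hle _ F (n + 1) (res (J'.over V) (CmpKill.sndMap w (Over.mk w)) θ) =
      EpsCmp.cT hle _ F (n + 1) (res (J'.over V) (CmpKill.fstMap w (Over.mk w)) θ)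
    rw [EpsCmp.cT_res, EpsCmp.cT_res, hθ]
    show res (J.over V) _ (res (J.over V) wbar ξ) = res (J.over V) _ (res (J.over V) wbar ξ)
    rw [← res_comp, ← res_comp]
    congr 1
    exact Over.mkIdTerminal.hom_ext _ _
  -- (d) the sheaf condition for the finer topology
  have hFX := h2 w F' hF
  haveI : ((Over.map w).sheafPushforwardCocontinuous AddCommGrpCat.{u} (J'.over W)
      (J'.over V)).Additive := OvPush.additive_fStar J' w
  have hRn := h4 w hw _ hFX (n + 1)
  have hSh0 := h3 V _ hRn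
  obtain ⟨e⟩ := OvPush.main J' w F' (n + 1)
  have hSh : Presheaf.IsSheaf (J.over V) ((presheafToSheaf (J'.over V) AddCommGrpCat.{u}).obj
      ((OvPush.uu w).op ⋙ F'.cohomologyPresheaf (n + 1))).obj :=
    (Presheaf.isSheaf_of_iso_iff ((sheafToPresheaf _ _).mapIso e)).1 hSh0
  -- (e) killing on the base
  obtain ⟨S, hS, hS0⟩ := CmpKill.main (J := J) (J' := J') w hcov F' n hSh θ hθeq
  -- (g) separatedness of `R^{n+1} ε_* F`
  have hsep : ∀ F'' : Sheaf (J'.over V) AddCommGrpCat.{u}, A' V F'' →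
      Mono ((CmpSep.eta w J').app F'') := fun F'' hF'' =>
    CmpSep.mono_eta_of_isSheaf w J' hcov F'' (h3 V F'' hF'')
  have hR' : ∀ F'' : Sheaf (J'.over V) AddCommGrpCat.{u}, A' V F'' → ∀ b : ℕ,
      A' V (((OvPush.fStar J' w).rightDerived b).obj ((OvPush.fInv J' w).obj F'')) :=
    fun F'' hF'' b => h4 w hw _ (h2 w F'' hF'') b
  have hD : ∀ m : ℕ, IsZero (((CmpSep.Hk w J').rightDerived m).obj ((EpsCmp.G hle).obj F)) :=
    fun m => CmpSep.D_vanish w J' (A' V) hsep hR' m _ hF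
  have hmono := CmpSep.mono_eta_rightDerived w h hcov F n (hV V F hF) hD
  -- (f), (h)
  refine kill_mem_of_local (J.over V) (J'.over V) ξ S hS ?_
  intro T s hs
  have h0 : res (J'.over V) (CmpKill.sndMap w T) θ = 0 := hS0 s hs
  have hfst : res (J.over V) (CmpKill.fstMap w T) (res (J.over V) s ξ) = 0 := by
    rw [← res_comp]
    have : CmpKill.fstMap w T ≫ s = CmpKill.sndMap w T ≫ wbar := Over.mkIdTerminal.hom_ext _ _
    rw [this, res_comp]
    show res (J.over V) (CmpKill.sndMap w T) ξW = 0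
    rw [← hθ]
    have := EpsCmp.cT_res hle (CmpKill.sndMap w T) F (n + 1) θ
    refine this.symm.trans ?_
    have h0' : (Ext.mk₀ ((FreeYoneda.freeSheaf (J'.over V)).map (CmpKill.sndMap w T))).comp θ
        (zero_add (n + 1)) = 0 := h0
    rw [h0', map_zero]
  exact kill_mem_of_mono_eta h w F (n + 1) hmono T (res (J.over V) s ξ) hfst

variable (h5 : ∀ (U : C) (S : Sieve U), S ∈ J U → ∃ (ι : Type u) (V : ι → C) (v : ∀ j, V j ⟶ U),
    Sieve.ofArrows V v ∈ J' U ∧ ∀ j, ∃ (W : C) (w : W ⟶ V j), P w ∧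
      Sieve.ofArrows (fun _ : PUnit.{u + 1} => W) (fun _ => w) ∈ J (V j) ∧
      ∃ (κ : Type u) (Wk : κ → C) (wk : ∀ k, Wk k ⟶ W), Sieve.ofArrows Wk wk ∈ J' W ∧
        ∀ k, S.arrows (wk k ≫ w ≫ v j))

include h1 h2 h3 h4 h5 in
/-- the induction step `V_n ⇒ V_{n+1}` -/
theorem step (n : ℕ)
    (hV : ∀ (Z : C) (G : Sheaf (J.over Z) AddCommGrpCat.{u}),
      A' Z ((SiteCmp.epsSh (SiteCmp.over_le h Z) AddCommGrpCat.{u}).obj G) →
      ∀ i : ℕ, 1 ≤ i → i ≤ n →
        IsZero (((SiteCmp.epsSh (SiteCmp.over_le h Z) AddCommGrpCat.{u}).rightDerived i).obj G))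
    (X : C) (F : Sheaf (J.over X) AddCommGrpCat.{u})
    (hF : A' X ((SiteCmp.epsSh (SiteCmp.over_le h X) AddCommGrpCat.{u}).obj F)) :
    IsZero (((SiteCmp.epsSh (SiteCmp.over_le h X) AddCommGrpCat.{u}).rightDerived (n + 1)).obj F) := by
  classical
  refine (EpsCmp.isZero_rightDerived_iff (SiteCmp.over_le h X) F (n + 1)).2 ?_
  intro T ξ
  have hk := CmpKill.kill_mem (J.over X) F n ξ
  rw [GrothendieckTopology.mem_over_iff] at hk
  obtain ⟨ι, V, v, hv, hj⟩ := h5 T.left _ hk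
  let t : ∀ j, V j ⟶ X := fun j => v j ≫ T.hom
  let Tj : ι → Over X := fun j => (Over.map (t j)).obj (Over.mk (𝟙 (V j)))
  let rj : ∀ j, Tj j ⟶ T := fun j => Over.homMk (v j) (by simp [Tj, t])
  refine kill_mem_of_family (J.over X) (J'.over X) ξ ((Sieve.overEquiv T).symm (Sieve.ofArrows V v))
    ?_ Tj rj ?_ ?_
  · rw [GrothendieckTopology.mem_over_iff,
      show (Sieve.overEquiv T) ((Sieve.overEquiv T).symm (Sieve.ofArrows V v)) =
        Sieve.ofArrows V v from OrderIso.apply_symm_apply _ _]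
    exact hv
  · intro T' r hr
    rw [Sieve.overEquiv_symm_iff] at hr
    obtain ⟨j, a, ha⟩ := (Sieve.mem_ofArrows_iff _ _ _).1 hr
    refine ⟨j, Over.homMk a ?_, ?_⟩
    · have := Over.w r
      show a ≫ (𝟙 (V j) ≫ v j ≫ T.hom) = T'.hom
      rw [Category.id_comp, ← this, ha, Category.assoc]
    · apply Over.OverMorphism.ext
      simpa [rj] using ha
  · intro j
    obtain ⟨W, w, hPw, hcovw, κ, Wk, wk, hwk, hkill⟩ := hj j
    apply kill_mem_of_loc (t j) (Over.mk (𝟙 (V j))) F (n + 1)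
    have hFV : A' (V j) ((SiteCmp.epsSh (SiteCmp.over_le h (V j)) AddCommGrpCat.{u}).obj
        ((OvLoc.E (J.over (V j)) (J.over X) (Over.map (t j))).obj F)) :=
      h2 (t j) _ hF
    refine core h P A' h1 h2 h3 h4 n hV w hPw hcovw _ hFV _ Wk wk hwk ?_
    intro k
    let γ : Over.mk (wk k ≫ w) ⟶ Over.mk (𝟙 (V j)) := Over.homMk (wk k ≫ w) (by simp)
    have hnat := OvLoc.loc_natural_src (J.over (V j)) (J.over X) (Over.map (t j)) γ F (n + 1)
      (res (J.over X) (rj j) ξ)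
    refine hnat.symm.trans ?_
    have hzero : res (J.over X) ((Over.map (t j)).map γ) (res (J.over X) (rj j) ξ) = 0 := by
      rw [← res_comp]
      have hk' := hkill k
      rw [Sieve.overEquiv_iff] at hk'
      have hk'' : res (J.over X) (Over.homMk (wk k ≫ w ≫ v j) :
          Over.mk ((wk k ≫ w ≫ v j) ≫ T.hom) ⟶ T) ξ = 0 := hk'
      let b : (Over.map (t j)).obj (Over.mk (wk k ≫ w)) ⟶ Over.mk ((wk k ≫ w ≫ v j) ≫ T.hom) :=
        Over.homMk (𝟙 _) (by simp [t])
      have hb : (Over.map (t j)).map γ ≫ rj j = b ≫ (Over.homMk (wk k ≫ w ≫ v j) :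
          Over.mk ((wk k ≫ w ≫ v j) ≫ T.hom) ⟶ T) := by
        apply Over.OverMorphism.ext
        simp [b, γ, rj]
      rw [hb, res_comp, hk'', res_zero]
    show OvLoc.loc (J.over (V j)) (J.over X) (Over.map (t j)) _ F (n + 1)
      (res (J.over X) ((Over.map (t j)).map γ) (res (J.over X) (rj j) ξ)) = 0
    rw [hzero, map_zero]

end Core

end CmpRed

end Groth.Agent.Lib.helper27
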