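import Mathlib
import Groth.Prelude.Def_CohDer
import Groth.Agent.Lib.Helper27.CompactGen

set_option linter.unusedSectionVars false

namespace Groth.Agent.Lib.helper27

open CategoryTheory Limits Pretriangulated Opposite

universe v u u'

section adjCompact

variable {D : Type u} [Category.{v} D] [Preadditive D] [HasZeroObject D] [HasShift D ℤ]
  [∀ n : ℤ, (shiftFunctor D n).Additive] [Pretriangulated D] [HasCoproducts.{v} D]
  {E : Type u'} [Category.{v} E] [Preadditive E] [HasZeroObject E] [HasShift E ℤ]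
  [∀ n : ℤ, (shiftFunctor E n).Additive] [Pretriangulated E] [HasCoproducts.{v} E]
  (F : D ⥤ E) (G : E ⥤ D) (adj : F ⊣ G)

lemma sigmaComparison_map_sigmaP [G.Additive] {κ : Type v} (Y : κ → E) (s : Finset κ) :
    sigmaComparison G Y ≫ G.map (sigmaP Y s) =
      sigmaP (fun k => G.obj (Y k)) s ≫ sigmaComparison G Y := by
  refine Sigma.hom_ext _ _ (fun k => ?_)
  rw [← Category.assoc, ι_comp_sigmaComparison, ← Functor.map_comp, ← Category.assoc]
  by_cases hk : k ∈ s
  · rw [ι_sigmaP_of_mem Y hk, ι_sigmaP_of_mem _ hk, ι_comp_sigmaComparison]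
  · rw [ι_sigmaP_of_not_mem Y hk, ι_sigmaP_of_not_mem _ hk, Functor.map_zero, zero_comp]

include adj in
lemma isCompactObject_map_of_preservesCoproducts
    [∀ κ : Type v, PreservesColimitsOfShape (Discrete κ) G] [G.Additive]
    {K : D} (hK : CohDer.IsCompactObject K) : CohDer.IsCompactObject (F.obj K) := by
  rw [isCompactObject_iff] at hK ⊢
  intro κ Y α
  let β : K ⟶ G.obj (∐ Y) := adj.homEquiv _ _ α
  let c : (∐ fun k => G.obj (Y k)) ≅ G.obj (∐ Y) := (PreservesCoproduct.iso G Y).symm
  have hc : c.hom = sigmaComparison G Y := by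
    dsimp only [c]
    rw [Iso.symm_hom, PreservesCoproduct.inv_hom]
  obtain ⟨s, hs⟩ := hK κ _ (β ≫ c.inv)
  refine ⟨s, ?_⟩
  apply (adj.homEquiv _ _).injective
  rw [adj.homEquiv_naturality_right]
  change β ≫ G.map (sigmaP Y s) = β
  have h3 : β = (β ≫ c.inv) ≫ c.hom := by rw [Category.assoc, Iso.inv_hom_id, Category.comp_id]
  conv_lhs => rw [h3]
  rw [Category.assoc, hc, sigmaComparison_map_sigmaP, ← hc, ← Category.assoc, hs, ← h3]


lemma sigmaComparison_map_π [G.Additive] {κ : Type v} [DecidableEq κ] (Y : κ → E) (j : κ) :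
    sigmaComparison G Y ≫ G.map (Sigma.π Y j) = Sigma.π (fun k => G.obj (Y k)) j := by
  refine Sigma.hom_ext _ _ (fun k => ?_)
  rw [← Category.assoc, ι_comp_sigmaComparison, ← Functor.map_comp]
  by_cases h : k = j
  · subst h
    rw [Sigma.ι_π_eq_id, Sigma.ι_π_eq_id, CategoryTheory.Functor.map_id]
  · rw [Sigma.ι_π_of_ne Y h, Sigma.ι_π_of_ne _ h, Functor.map_zero]

include adj in
lemma sigmaComparison_bijective_of_compact [F.Additive] [G.Additive] {W : D}
    (hW : CohDer.IsCompactObject W) (hFW : CohDer.IsCompactObject (F.obj W))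
    {κ : Type v} (Y : κ → E) :
    Function.Bijective (fun g : W ⟶ ∐ fun k => G.obj (Y k) => g ≫ sigmaComparison G Y) := by
  classical
  constructor
  · intro g g' hgg'
    dsimp at hgg'
    suffices hz : ∀ g₀ : W ⟶ ∐ fun k => G.obj (Y k), g₀ ≫ sigmaComparison G Y = 0 → g₀ = 0 by
      have := hz (g - g') (by rw [Preadditive.sub_comp, hgg', sub_self])
      exact sub_eq_zero.mp this
    intro g₀ hg₀
    obtain ⟨s, hs⟩ := (isCompactObject_iff W).1 hW κ _ g₀
    rw [← hs, sigmaP_eq_sum', Preadditive.comp_sum]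
    refine Finset.sum_eq_zero (fun k _ => ?_)
    rw [← Category.assoc, ← sigmaComparison_map_π G Y k, ← Category.assoc, hg₀, zero_comp,
      zero_comp]
  · intro β
    let α : F.obj W ⟶ ∐ Y := (adj.homEquiv _ _).symm β
    obtain ⟨s, hs⟩ := (isCompactObject_iff _).1 hFW κ Y α
    have hβ : β = adj.homEquiv _ _ α := by simp [α]
    refine ⟨∑ k ∈ s, adj.homEquiv _ _ (α ≫ Sigma.π Y k) ≫ Sigma.ι (fun k => G.obj (Y k)) k, ?_⟩
    dsimp
    rw [Preadditive.sum_comp, hβ]
    conv_rhs => rw [← hs, sigmaP_eq_sum', Preadditive.comp_sum, adj.homEquiv_apply,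
      Functor.map_sum, Preadditive.comp_sum]
    refine Finset.sum_congr rfl (fun k _ => ?_)
    rw [Category.assoc, ι_comp_sigmaComparison, adj.homEquiv_apply, Category.assoc,
      ← Functor.map_comp, Category.assoc]

end adjCompact


section main7866

variable {D : Type u} [Category.{v} D] [Preadditive D] [HasZeroObject D] [HasShift D ℤ]
  [∀ n : ℤ, (shiftFunctor D n).Additive] [Pretriangulated D] [HasCoproducts.{v} D]
  {E : Type u'} [Category.{v} E] [Preadditive E] [HasZeroObject E] [HasShift E ℤ]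
  [∀ n : ℤ, (shiftFunctor E n).Additive] [Pretriangulated E] [HasCoproducts.{v} E]

theorem rightAdjoint_preservesCoproducts_iff
    {ι : Type v} (S : ι → D) (hSc : ∀ i, CohDer.IsCompactObject (S i)) (hSg : CohDer.Generates S)
    (F : D ⥤ E) [F.CommShift ℤ] [F.IsTriangulated]
    (G : E ⥤ D) (adj : F ⊣ G) :
    (∀ (κ : Type v), PreservesColimitsOfShape (Discrete κ) G) ↔
      ∀ i, CohDer.IsCompactObject (F.obj (S i)) := by
  have : G.Additive := adj.right_adjoint_additive
  constructor
  · intro hG i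
    exact isCompactObject_map_of_preservesCoproducts F G adj (hSc i)
  · intro hF κ
    have : HasColimitsOfShape (Discrete ℕ) D := has_smallest_coproducts_of_hasCoproducts.{v} ℕ
    have h1' : ∀ Y : D, ¬ IsZero Y → ∃ (p : ι × ℤ) (f : shiftedFamily S p ⟶ Y), f ≠ 0 :=
      fun Y hY => by
        obtain ⟨i, m, f, hf⟩ := h1s_of_generates S hSg Y hY
        exact ⟨(i, m), f, hf⟩
    have hiso : ∀ Y : κ → E, IsIso (sigmaComparison G Y) := fun Y => by
      refine isIso_of_ebij (shiftedFamily S) h1' (shiftedFamily_hsh S) _ (fun p => ?_)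
      refine sigmaComparison_bijective_of_compact F G adj
        (isCompactObject_shift (hSc p.1) p.2) ?_ Y
      exact isCompactObject_of_iso ((F.commShiftIso p.2).app (S p.1)).symm
        (isCompactObject_shift (hF p.1) p.2)
    constructor
    intro K
    have : PreservesColimit (Discrete.functor (K.obj ∘ Discrete.mk)) G := by
      have := hiso (K.obj ∘ Discrete.mk)
      exact PreservesCoproduct.of_iso_comparison G (K.obj ∘ Discrete.mk)
    exact preservesColimit_of_iso_diagram G (Discrete.natIsoFunctor (F := K)).symm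

end main7866

end Groth.Agent.Lib.helper27
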