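import Mathlib

set_option autoImplicit false
set_option linter.unusedSectionVars false
set_option linter.unusedVariables false

namespace Groth.Agent.Lib.helper27

open CategoryTheory Limits

namespace RelLift

variable {V : Type*} [Category V] [Abelian V]

/-- Extension step: a map defined compatibly on two (not nec. mono) pieces of `B` extends
to an injective target. -/
lemma step {A B S E : V} [Injective E] (a : A ⟶ B) (s : S ⟶ B) (u : A ⟶ E) (v : S ⟶ E)
    (h : ∀ ⦃T : V⦄ (x : T ⟶ A) (y : T ⟶ S), x ≫ a + y ≫ s = 0 → x ≫ u + y ≫ v = 0) :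
    ∃ w : B ⟶ E, a ≫ w = u ∧ s ≫ w = v := by
  let φ : A ⊞ S ⟶ B := biprod.desc a s
  let ψ : A ⊞ S ⟶ E := biprod.desc u v
  have hk : kernel.ι φ ≫ ψ = 0 := by
    have := h (kernel.ι φ ≫ biprod.fst) (kernel.ι φ ≫ biprod.snd) (by
      rw [Category.assoc, Category.assoc, ← Preadditive.comp_add, ← biprod.desc_eq,
        kernel.condition])
    rw [Category.assoc, Category.assoc, ← Preadditive.comp_add, ← biprod.desc_eq] at this
    exact this
  let e := Abelian.factorThruImage φ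
  let m := Abelian.image.ι φ
  have hfac : e ≫ m = φ := Abelian.image.fac φ
  have hke : kernel.ι e ≫ ψ = 0 := by
    have h0 : kernel.ι e ≫ φ = 0 := by
      have h1 : kernel.ι e ≫ e ≫ m = 0 := by rw [← Category.assoc, kernel.condition, zero_comp]
      rw [hfac] at h1
      exact h1
    rw [← kernel.lift_ι φ (kernel.ι e) h0, Category.assoc, hk, comp_zero]
  let t : Abelian.image φ ⟶ E := Abelian.epiDesc e ψ hke
  have ht : e ≫ t = ψ := Abelian.comp_epiDesc e ψ hke
  let w := Injective.factorThru t m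
  have hw : m ≫ w = t := Injective.comp_factorThru t m
  have hφw : φ ≫ w = ψ := by rw [← hfac, Category.assoc, hw, ht]
  refine ⟨w, ?_, ?_⟩
  · have := congrArg (fun k => biprod.inl ≫ k) hφw
    simpa [φ, ψ] using this
  · have := congrArg (fun k => biprod.inr ≫ k) hφw
    simpa [φ, ψ] using this

section main

variable {K L T : CochainComplex V ℕ} (p : T ⟶ K) (fT : T ⟶ L)

/-- the `n`-th stage of the construction -/
structure Stage (n : ℕ) where
  /-- the map in degree `n` -/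
  f : K.X n ⟶ L.X n
  h1 : p.f n ≫ f = fT.f n
  h3 : ∀ ⦃A : V⦄ (z : A ⟶ K.X n), z ≫ K.d n (n + 1) = 0 → z ≫ f ≫ L.d n (n + 1) = 0

variable {p fT}
variable (hL : ∀ n, Injective (L.X n))
  (hker : ∀ (n : ℕ) ⦃A : V⦄ (y : A ⟶ T.X n), y ≫ p.f n = 0 → y ≫ fT.f n = 0)
  (hT : ∀ (n : ℕ) ⦃A : V⦄ (y : A ⟶ T.X (n + 1)), y ≫ T.d (n + 1) (n + 2) ≫ p.f (n + 2) = 0 →
      ∃ (A' : V) (π : A' ⟶ A) (_ : Epi π) (c : A' ⟶ T.X n),
        π ≫ y ≫ p.f (n + 1) = c ≫ T.d n (n + 1) ≫ p.f (n + 1))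
  (hK : ∀ n, K.ExactAt (n + 1))

include hL hker hT hK in
lemma exists_next {n : ℕ} (s : Stage p fT n) :
    ∃ s' : Stage p fT (n + 1), K.d n (n + 1) ≫ s'.f = s.f ≫ L.d n (n + 1) := by
  have := hL (n + 1)
  obtain ⟨w, hw1, hw2⟩ := step (K.d n (n + 1)) (p.f (n + 1)) (s.f ≫ L.d n (n + 1)) (fT.f (n + 1))
    (by
      intro A x y hxy
      have h1 : y ≫ p.f (n + 1) = -(x ≫ K.d n (n + 1)) := eq_neg_of_add_eq_zero_right hxy
      have hy : y ≫ T.d (n + 1) (n + 2) ≫ p.f (n + 2) = 0 := by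
        rw [← p.comm (n + 1) (n + 2), ← Category.assoc, h1, Preadditive.neg_comp, Category.assoc,
          K.d_comp_d, comp_zero, neg_zero]
      obtain ⟨A', π, hπ, c, hc⟩ := hT n y hy
      have hz : (π ≫ x + c ≫ p.f n) ≫ K.d n (n + 1) = 0 := by
        rw [Preadditive.add_comp, Category.assoc, Category.assoc, p.comm n (n + 1), ← hc,
          ← Preadditive.comp_add, hxy, comp_zero]
      have h4 := s.h3 _ hz
      rw [Preadditive.add_comp, Category.assoc, Category.assoc, ← Category.assoc (p.f n),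
        s.h1, fT.comm n (n + 1)] at h4
      have h5 : (π ≫ y - c ≫ T.d n (n + 1)) ≫ fT.f (n + 1) = 0 := by
        apply hker
        rw [Preadditive.sub_comp, Category.assoc, Category.assoc, hc, sub_self]
      rw [Preadditive.sub_comp, Category.assoc, Category.assoc, sub_eq_zero] at h5
      rw [← cancel_epi π, comp_zero, Preadditive.comp_add, h5]
      exact h4)
  refine ⟨⟨w, hw2, ?_⟩, hw1⟩
  intro A z hz
  have hex := (K.exactAt_iff' n (n + 1) (n + 2) (by simp) (by simp)).1 (hK n)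
  obtain ⟨A', π, hπ, e, he⟩ := hex.exact_up_to_refinements z hz
  change A' ⟶ K.X n at e
  change π ≫ z = e ≫ K.d n (n + 1) at he
  rw [← cancel_epi π, comp_zero, ← Category.assoc, he, Category.assoc,
    ← Category.assoc (K.d n (n + 1)), hw1, Category.assoc, L.d_comp_d, comp_zero, comp_zero]

/-- the next stage -/
noncomputable def next {n : ℕ} (s : Stage p fT n) : Stage p fT (n + 1) :=
  (exists_next hL hker hT hK s).choose

lemma next_comm {n : ℕ} (s : Stage p fT n) :
    K.d n (n + 1) ≫ (next hL hker hT hK s).f = s.f ≫ L.d n (n + 1) :=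
  (exists_next hL hker hT hK s).choose_spec

variable (g₀ : K.cycles 0 ⟶ L.cycles 0)
  (hg₀ : ∀ ⦃A : V⦄ (y : A ⟶ T.X 0) (hy : y ≫ p.f 0 ≫ K.d 0 1 = 0),
    K.liftCycles (y ≫ p.f 0) 1 (by simp) (by rw [Category.assoc]; exact hy) ≫ g₀ ≫ L.iCycles 0 =
      y ≫ fT.f 0)

include hL hg₀ in
lemma exists_zero : ∃ s : Stage p fT 0, K.iCycles 0 ≫ s.f = g₀ ≫ L.iCycles 0 := by
  have := hL 0
  obtain ⟨w, hw1, hw2⟩ := step (K.iCycles 0) (p.f 0) (g₀ ≫ L.iCycles 0) (fT.f 0)
    (by
      intro A x y hxy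
      have h1 : y ≫ p.f 0 = (-x) ≫ K.iCycles 0 := by
        rw [Preadditive.neg_comp, eq_neg_iff_add_eq_zero, add_comm]; exact hxy
      have hy : y ≫ p.f 0 ≫ K.d 0 1 = 0 := by
        rw [← Category.assoc, h1, Category.assoc, K.iCycles_d, comp_zero]
      have h2 := hg₀ y hy
      have h3 : K.liftCycles (y ≫ p.f 0) 1 (by simp) (by rw [Category.assoc]; exact hy) = -x := by
        rw [← cancel_mono (K.iCycles 0), K.liftCycles_i, h1]
      rw [h3, Preadditive.neg_comp] at h2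
      rw [← h2, add_neg_cancel])
  refine ⟨⟨w, hw2, ?_⟩, hw1⟩
  intro A z hz
  have : z = K.liftCycles z 1 (by simp) hz ≫ K.iCycles 0 := (K.liftCycles_i _ _ _ _).symm
  rw [this, Category.assoc, ← Category.assoc (K.iCycles 0), hw1, Category.assoc, L.iCycles_d,
    comp_zero, comp_zero]

/-- the stages -/
noncomputable def stage : ∀ n, Stage p fT n
  | 0 => (exists_zero hL g₀ hg₀).choose
  | n + 1 => next hL hker hT hK (stage n)

lemma stage_zero : K.iCycles 0 ≫ (stage hL hker hT hK g₀ hg₀ 0).f = g₀ ≫ L.iCycles 0 :=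
  (exists_zero hL g₀ hg₀).choose_spec

/-- the lift -/
noncomputable def lift : K ⟶ L where
  f n := (stage hL hker hT hK g₀ hg₀ n).f
  comm' i j hij := by
    obtain rfl : i + 1 = j := hij
    exact (next_comm hL hker hT hK (stage hL hker hT hK g₀ hg₀ i)).symm

lemma comp_lift : p ≫ lift hL hker hT hK g₀ hg₀ = fT := by
  ext n
  exact (stage hL hker hT hK g₀ hg₀ n).h1

lemma iCycles_lift : K.iCycles 0 ≫ (lift hL hker hT hK g₀ hg₀).f 0 = g₀ ≫ L.iCycles 0 :=
  stage_zero hL hker hT hK g₀ hg₀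

lemma cyclesMap_lift : HomologicalComplex.cyclesMap (lift hL hker hT hK g₀ hg₀) 0 = g₀ := by
  rw [← cancel_mono (L.iCycles 0), HomologicalComplex.cyclesMap_i]
  exact iCycles_lift hL hker hT hK g₀ hg₀

include hL hker hT hK hg₀ in
/-- **Relative lifting lemma.** -/
theorem main : ∃ f : K ⟶ L, p ≫ f = fT ∧ HomologicalComplex.cyclesMap f 0 = g₀ :=
  ⟨lift hL hker hT hK g₀ hg₀, comp_lift hL hker hT hK g₀ hg₀, cyclesMap_lift hL hker hT hK g₀ hg₀⟩

end main

end RelLift

end Groth.Agent.Lib.helper27
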