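import Mathlib
import Groth.Agent.Lib.Helper27.RelLift

set_option autoImplicit false
set_option linter.unusedSectionVars false
set_option linter.unusedVariables false

namespace Groth.Agent.Lib.helper27

open CategoryTheory Limits

namespace CompatLift

variable {V : Type*} [Category V] [Abelian V]

section toCyc

variable {K L M : CochainComplex V ℕ}

/-- transport a map on `H⁰` to a map on `Z⁰` -/
noncomputable def toCyc (g : K.homology 0 ⟶ L.homology 0) : K.cycles 0 ⟶ L.cycles 0 :=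
  K.isoHomologyπ₀.hom ≫ g ≫ L.isoHomologyπ₀.inv

lemma toCyc_homologyMap (φ : K ⟶ L) :
    toCyc (HomologicalComplex.homologyMap φ 0) = HomologicalComplex.cyclesMap φ 0 := by
  rw [toCyc, CochainComplex.isoHomologyπ₀_inv_naturality, Iso.hom_inv_id_assoc]

lemma toCyc_comp (a : K.homology 0 ⟶ L.homology 0) (b : L.homology 0 ⟶ M.homology 0) :
    toCyc (a ≫ b) = toCyc a ≫ toCyc b := by
  simp only [toCyc, Category.assoc, Iso.inv_hom_id_assoc]

lemma homologyMap_eq (φ : K ⟶ L) (g : K.homology 0 ⟶ L.homology 0)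
    (h : HomologicalComplex.cyclesMap φ 0 = toCyc g) : HomologicalComplex.homologyMap φ 0 = g := by
  rw [← toCyc_homologyMap, toCyc, toCyc] at h
  rw [← cancel_epi K.isoHomologyπ₀.hom, ← cancel_mono L.isoHomologyπ₀.inv]
  simpa only [Category.assoc] using h

end toCyc

section abs

variable {K L : CochainComplex V ℕ} (hL : ∀ n, Injective (L.X n)) (hK : ∀ n, K.ExactAt (n + 1))
  (g : K.homology 0 ⟶ L.homology 0)

include hL hK in
/-- absolute lifting -/
lemma exists_lift : ∃ f : K ⟶ L, HomologicalComplex.homologyMap f 0 = g := by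
  obtain ⟨f, -, hf⟩ := RelLift.main
    (p := (0 : (HomologicalComplex.zero : CochainComplex V ℕ) ⟶ K))
    (fT := (0 : (HomologicalComplex.zero : CochainComplex V ℕ) ⟶ L)) hL
    (by intro n A y _; simp)
    (by
      intro n A y _
      exact ⟨A, 𝟙 A, inferInstance, 0, by simp⟩)
    hK (toCyc g)
    (by
      intro A y hy
      have h0 : K.liftCycles (y ≫ (0 : (HomologicalComplex.zero : CochainComplex V ℕ) ⟶ K).f 0) 1
          (by simp) (by rw [Category.assoc]; exact hy) = 0 := by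
        rw [← cancel_mono (K.iCycles 0), K.liftCycles_i]
        simp
      rw [h0]
      simp)
  exact ⟨f, homologyMap_eq f g hf⟩

end abs

section rel

variable {S K L : CochainComplex V ℕ} (j : S ⟶ K) [∀ n, Mono (j.f n)]
  (hL : ∀ n, Injective (L.X n)) (hS : ∀ n, S.ExactAt (n + 1)) (hK : ∀ n, K.ExactAt (n + 1))
  (fS : S ⟶ L) (g : K.homology 0 ⟶ L.homology 0)
  (hg : HomologicalComplex.homologyMap j 0 ≫ g = HomologicalComplex.homologyMap fS 0)

include hL hS hK hg in
/-- lifting relative to a subcomplex -/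
lemma exists_lift_mono :
    ∃ f : K ⟶ L, j ≫ f = fS ∧ HomologicalComplex.homologyMap f 0 = g := by
  have hg' : HomologicalComplex.cyclesMap j 0 ≫ toCyc g = HomologicalComplex.cyclesMap fS 0 := by
    rw [← toCyc_homologyMap, ← toCyc_comp, hg, toCyc_homologyMap]
  obtain ⟨f, hf1, hf2⟩ := RelLift.main (p := j) (fT := fS) hL
    (by
      intro n A y hy
      have : y = 0 := by rw [← cancel_mono (j.f n), hy, zero_comp]
      rw [this, zero_comp])
    (by
      intro n A y hy
      have hy' : y ≫ S.d (n + 1) (n + 2) = 0 := by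
        rw [← cancel_mono (j.f (n + 2)), Category.assoc, hy, zero_comp]
      have hex := (S.exactAt_iff' n (n + 1) (n + 2) (by simp) (by simp)).1 (hS n)
      obtain ⟨A', π, hπ, c, hc⟩ := hex.exact_up_to_refinements y hy'
      change A' ⟶ S.X n at c
      change π ≫ y = c ≫ S.d n (n + 1) at hc
      exact ⟨A', π, hπ, c, by rw [← Category.assoc, hc, Category.assoc]⟩)
    hK (toCyc g)
    (by
      intro A y hy
      have hy' : y ≫ S.d 0 1 = 0 := by
        rw [← cancel_mono (j.f 1), Category.assoc, ← j.comm 0 1, hy, zero_comp]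
      have h1 : K.liftCycles (y ≫ j.f 0) 1 (by simp) (by rw [Category.assoc]; exact hy) =
          S.liftCycles y 1 (by simp) hy' ≫ HomologicalComplex.cyclesMap j 0 := by
        rw [← cancel_mono (K.iCycles 0), K.liftCycles_i, Category.assoc,
          HomologicalComplex.cyclesMap_i, S.liftCycles_i_assoc]
      rw [h1, Category.assoc, ← Category.assoc (HomologicalComplex.cyclesMap j 0), hg',
        HomologicalComplex.cyclesMap_i, S.liftCycles_i_assoc])
  exact ⟨f, hf1, homologyMap_eq f g hf2⟩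

end rel

section quot

variable {C' C C'' I' I I'' : CochainComplex V ℕ}
  (jC : C' ⟶ C) (πC : C ⟶ C'') (jI : I' ⟶ I) (πI : I ⟶ I'')
  (mC : ∀ n, Mono (jC.f n)) (wC : ∀ n, jC.f n ≫ πC.f n = 0)
  (exC : ∀ n, (ShortComplex.mk (jC.f n) (πC.f n) (wC n)).Exact)
  (wI : ∀ n, jI.f n ≫ πI.f n = 0)
  (hC' : ∀ n, C'.ExactAt (n + 1)) (hC : ∀ n, C.ExactAt (n + 1)) (hC'' : ∀ n, C''.ExactAt (n + 1))
  (injI'' : ∀ n, Injective (I''.X n))
  (f' : C' ⟶ I') (f : C ⟶ I) (hf : jC ≫ f = f' ≫ jI)
  (g'' : C''.homology 0 ⟶ I''.homology 0)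
  (hg2 : HomologicalComplex.homologyMap πC 0 ≫ g'' =
    HomologicalComplex.homologyMap f 0 ≫ HomologicalComplex.homologyMap πI 0)

include mC exC wI hf in
lemma hker_quot (n : ℕ) ⦃A : V⦄ (y : A ⟶ C.X n) (hy : y ≫ πC.f n = 0) :
    y ≫ (f ≫ πI).f n = 0 := by
  obtain ⟨A', π, hπ, w, hw⟩ := (exC n).exact_up_to_refinements y hy
  change A' ⟶ C'.X n at w
  change π ≫ y = w ≫ jC.f n at hw
  have h1 : jC.f n ≫ f.f n = f'.f n ≫ jI.f n := by
    have := congrArg (fun φ => φ.f n) hf
    exact this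
  rw [← cancel_epi π, comp_zero, ← Category.assoc, hw, HomologicalComplex.comp_f, Category.assoc,
    ← Category.assoc (jC.f n), h1, Category.assoc, wI, comp_zero, comp_zero]

include mC exC hC' in
/-- key chase: a `y` in `C^{m}` whose differential dies in `C''` is, after refinement,
the sum of a cycle and something from `C'`. -/
lemma chase (m : ℕ) ⦃A : V⦄ (y : A ⟶ C.X m) (hy : y ≫ C.d m (m + 1) ≫ πC.f (m + 1) = 0) :
    ∃ (A' : V) (π : A' ⟶ A) (_ : Epi π) (w' : A' ⟶ C'.X m) (z : A' ⟶ C.X m),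
      z ≫ C.d m (m + 1) = 0 ∧ π ≫ y = z + w' ≫ jC.f m := by
  have := mC
  obtain ⟨A₁, π₁, hπ₁, w, hw⟩ := (exC (m + 1)).exact_up_to_refinements (y ≫ C.d m (m + 1))
    (by rw [Category.assoc]; exact hy)
  change A₁ ⟶ C'.X (m + 1) at w
  change π₁ ≫ y ≫ C.d m (m + 1) = w ≫ jC.f (m + 1) at hw
  have hw0 : w ≫ C'.d (m + 1) (m + 2) = 0 := by
    rw [← cancel_mono (jC.f (m + 2)), Category.assoc, ← jC.comm (m + 1) (m + 2), ← Category.assoc,
      ← hw, Category.assoc, Category.assoc, C.d_comp_d, comp_zero, comp_zero, zero_comp]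
  have hex := (C'.exactAt_iff' m (m + 1) (m + 2) (by simp) (by simp)).1 (hC' m)
  obtain ⟨A₂, π₂, hπ₂, w', hw'⟩ := hex.exact_up_to_refinements w hw0
  change A₂ ⟶ C'.X m at w'
  change π₂ ≫ w = w' ≫ C'.d m (m + 1) at hw'
  refine ⟨A₂, π₂ ≫ π₁, epi_comp _ _, w', π₂ ≫ π₁ ≫ y - w' ≫ jC.f m, ?_, ?_⟩
  · rw [Preadditive.sub_comp, Category.assoc, Category.assoc, Category.assoc, hw,
      jC.comm m (m + 1), ← Category.assoc w', ← hw', Category.assoc, sub_self]
  · rw [Category.assoc, sub_add_cancel]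

include mC wC exC hC' hC in
lemma hT_quot (n : ℕ) ⦃A : V⦄ (y : A ⟶ C.X (n + 1))
    (hy : y ≫ C.d (n + 1) (n + 2) ≫ πC.f (n + 2) = 0) :
    ∃ (A' : V) (π : A' ⟶ A) (_ : Epi π) (c : A' ⟶ C.X n),
      π ≫ y ≫ πC.f (n + 1) = c ≫ C.d n (n + 1) ≫ πC.f (n + 1) := by
  obtain ⟨A₁, π₁, hπ₁, w', z, hz, hyz⟩ := chase jC πC mC wC exC hC' (n + 1) y hy
  have hex := (C.exactAt_iff' n (n + 1) (n + 2) (by simp) (by simp)).1 (hC n)
  obtain ⟨A₂, π₂, hπ₂, c, hc⟩ := hex.exact_up_to_refinements z hz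
  change A₂ ⟶ C.X n at c
  change π₂ ≫ z = c ≫ C.d n (n + 1) at hc
  refine ⟨A₂, π₂ ≫ π₁, epi_comp _ _, c, ?_⟩
  rw [Category.assoc, ← Category.assoc π₁, hyz, Preadditive.add_comp, Category.assoc, wC,
    comp_zero, add_zero, ← Category.assoc, hc, Category.assoc]

include mC wC exC wI hC' hC hC'' injI'' hf hg2 in
/-- lifting along the quotient map -/
lemma exists_lift_quot :
    ∃ f'' : C'' ⟶ I'', πC ≫ f'' = f ≫ πI ∧ HomologicalComplex.homologyMap f'' 0 = g'' := by
  have hg2' : HomologicalComplex.cyclesMap πC 0 ≫ toCyc g'' =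
      HomologicalComplex.cyclesMap f 0 ≫ HomologicalComplex.cyclesMap πI 0 := by
    rw [← toCyc_homologyMap, ← toCyc_comp, hg2, toCyc_comp, toCyc_homologyMap, toCyc_homologyMap]
  obtain ⟨f'', h1, h2⟩ := RelLift.main (p := πC) (fT := f ≫ πI) injI''
    (hker_quot jC πC jI πI mC wC exC wI f' f hf)
    (hT_quot jC πC mC wC exC hC' hC)
    hC'' (toCyc g'')
    (by
      intro A y hy
      have hy' : y ≫ C.d 0 1 ≫ πC.f 1 = 0 := by
        rw [← πC.comm 0 1]; exact hy
      obtain ⟨A₁, π₁, hπ₁, w', z, hz, hyz⟩ := chase jC πC mC wC exC hC' 0 y hy'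
      have hjf : jC.f 0 ≫ f.f 0 = f'.f 0 ≫ jI.f 0 := by
        have := congrArg (fun φ => φ.f 0) hf
        exact this
      have e1 : π₁ ≫ C''.liftCycles (y ≫ πC.f 0) 1 (by simp) (by rw [Category.assoc]; exact hy) =
          C.liftCycles z 1 (by simp) hz ≫ HomologicalComplex.cyclesMap πC 0 := by
        rw [← cancel_mono (C''.iCycles 0), Category.assoc, C''.liftCycles_i, Category.assoc,
          HomologicalComplex.cyclesMap_i, C.liftCycles_i_assoc, ← Category.assoc, hyz,
          Preadditive.add_comp, Category.assoc, wC, comp_zero, add_zero]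
      rw [← cancel_epi π₁, ← Category.assoc, e1, Category.assoc,
        ← Category.assoc (HomologicalComplex.cyclesMap πC 0), hg2', Category.assoc,
        HomologicalComplex.cyclesMap_i, HomologicalComplex.cyclesMap_i_assoc,
        C.liftCycles_i_assoc, ← Category.assoc π₁, hyz, HomologicalComplex.comp_f,
        Preadditive.add_comp, Category.assoc w', ← Category.assoc (jC.f 0), hjf, Category.assoc,
        wI, comp_zero, comp_zero, add_zero])
  exact ⟨f'', h1, homologyMap_eq f'' g'' h2⟩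

end quot

end CompatLift

end Groth.Agent.Lib.helper27
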