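import Mathlib
set_option autoImplicit false
set_option linter.unusedSectionVars false
universe v u w
open CategoryTheory CategoryTheory.Limits

namespace Groth.Agent.Lib.helper27.Cosh

variable {C : Type u} [Category.{v} C] [HasPullbacks C] (W : MorphismProperty C)

def coshP : ObjectProperty (C ⥤ AddCommGrpCat.{w}) := fun F =>
  ∀ ⦃Y X : C⦄ (π : Y ⟶ X), W π → Function.Surjective (F.map π).hom ∧
    (F.map π).hom.ker = ((F.map (pullback.fst π π)).hom - (F.map (pullback.snd π π)).hom).range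

variable {W} (D : ObjectProperty C) (hD : ∀ X : C, ∃ (Y : C) (π : Y ⟶ X), W π ∧ D Y)

include hD in
theorem faithful_aux {F G : C ⥤ AddCommGrpCat.{w}} (hF : coshP W F) (α β : F ⟶ G)
    (h : ∀ Y, D Y → α.app Y = β.app Y) : α = β := by
  ext X : 2
  obtain ⟨Y, π, hπ, hY⟩ := hD X
  have hs := (hF π hπ).1
  ext x
  obtain ⟨y, rfl⟩ := hs x
  have h1 := NatTrans.naturality_apply α π y
  have h2 := NatTrans.naturality_apply β π y
  change (α.app X) ((F.map π) y) = (β.app X) ((F.map π) y)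
  rw [h1, h2, h Y hY]

variable [W.IsStableUnderBaseChange] [W.IsStableUnderComposition]

include hD in
/-- the kernel condition -/
theorem ker_le {F G : C ⥤ AddCommGrpCat.{w}} (hF : coshP W F)
    (γ : D.ι ⋙ F ⟶ D.ι ⋙ G) {Y X : C} (π : Y ⟶ X) (hπ : W π) (hY : D Y) :
    (F.map π).hom.ker ≤ ((γ.app ⟨Y, hY⟩ ≫ G.map π).hom).ker := by
  intro x hx
  rw [(hF π hπ).2] at hx
  obtain ⟨t, rfl⟩ := hx
  obtain ⟨Z, ρ, hρ, hZ⟩ := hD (pullback π π)
  obtain ⟨z, rfl⟩ := (hF ρ hρ).1 t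
  rw [AddMonoidHom.mem_ker]
  let f₁ : (⟨Z, hZ⟩ : D.FullSubcategory) ⟶ ⟨Y, hY⟩ := ObjectProperty.homMk (ρ ≫ pullback.fst π π)
  let f₂ : (⟨Z, hZ⟩ : D.FullSubcategory) ⟶ ⟨Y, hY⟩ := ObjectProperty.homMk (ρ ≫ pullback.snd π π)
  have n₁ := NatTrans.naturality_apply γ f₁ z
  have n₂ := NatTrans.naturality_apply γ f₂ z
  have e₁ : (F.map (pullback.fst π π)).hom ((F.map ρ).hom z) = (F.map (ρ ≫ pullback.fst π π)).hom z := by
    rw [F.map_comp]; rfl
  have e₂ : (F.map (pullback.snd π π)).hom ((F.map ρ).hom z) = (F.map (ρ ≫ pullback.snd π π)).hom z := by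
    rw [F.map_comp]; rfl
  rw [AddMonoidHom.sub_apply, e₁, e₂, map_sub]
  change (G.map π).hom ((γ.app ⟨Y, hY⟩).hom ((F.map (ρ ≫ pullback.fst π π)).hom z)) -
    (G.map π).hom ((γ.app ⟨Y, hY⟩).hom ((F.map (ρ ≫ pullback.snd π π)).hom z)) = 0
  have n₁' : (γ.app ⟨Y, hY⟩).hom ((F.map (ρ ≫ pullback.fst π π)).hom z) =
      (G.map (ρ ≫ pullback.fst π π)).hom ((γ.app ⟨Z, hZ⟩).hom z) := n₁
  have n₂' : (γ.app ⟨Y, hY⟩).hom ((F.map (ρ ≫ pullback.snd π π)).hom z) =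
      (G.map (ρ ≫ pullback.snd π π)).hom ((γ.app ⟨Z, hZ⟩).hom z) := n₂
  rw [n₁', n₂']
  have c₁ : (G.map π).hom ((G.map (ρ ≫ pullback.fst π π)).hom ((γ.app ⟨Z, hZ⟩).hom z)) =
      (G.map ((ρ ≫ pullback.fst π π) ≫ π)).hom ((γ.app ⟨Z, hZ⟩).hom z) := by
    rw [G.map_comp (ρ ≫ pullback.fst π π) π]; rfl
  have c₂ : (G.map π).hom ((G.map (ρ ≫ pullback.snd π π)).hom ((γ.app ⟨Z, hZ⟩).hom z)) =
      (G.map ((ρ ≫ pullback.snd π π) ≫ π)).hom ((γ.app ⟨Z, hZ⟩).hom z) := by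
    rw [G.map_comp (ρ ≫ pullback.snd π π) π]; rfl
  rw [c₁, c₂, Category.assoc, Category.assoc, pullback.condition, sub_self]


section full
variable {F G : C ⥤ AddCommGrpCat.{w}} (hF : coshP W F) (γ : D.ι ⋙ F ⟶ D.ι ⋙ G)

noncomputable def cY (X : C) : C := (hD X).choose
noncomputable def cπ (X : C) : cY D hD X ⟶ X := (hD X).choose_spec.choose
lemma cπ_mem (X : C) : W (cπ D hD X) := (hD X).choose_spec.choose_spec.1
lemma cY_mem (X : C) : D (cY D hD X) := (hD X).choose_spec.choose_spec.2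

noncomputable def comp (X : C) : F.obj X →+ G.obj X :=
  (F.map (cπ D hD X)).hom.liftOfRightInverse (Function.surjInv (hF (cπ D hD X) (cπ_mem D hD X)).1)
    (Function.rightInverse_surjInv (hF (cπ D hD X) (cπ_mem D hD X)).1)
    ⟨(γ.app ⟨cY D hD X, cY_mem D hD X⟩ ≫ G.map (cπ D hD X)).hom,
      ker_le D hD hF γ (cπ D hD X) (cπ_mem D hD X) (cY_mem D hD X)⟩

lemma comp_apply (X : C) (y : F.obj (cY D hD X)) :
    comp D hD hF γ X ((F.map (cπ D hD X)).hom y) =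
      (G.map (cπ D hD X)).hom ((γ.app ⟨cY D hD X, cY_mem D hD X⟩).hom y) :=
  AddMonoidHom.liftOfRightInverse_comp_apply _ _ _ _ _

lemma map_comp_hom_apply (H : C ⥤ AddCommGrpCat.{w}) {A B E : C} (f : A ⟶ B) (g : B ⟶ E) (a : H.obj A) :
    (H.map (f ≫ g)).hom a = (H.map g).hom ((H.map f).hom a) := by
  rw [H.map_comp]; rfl

lemma γ_nat {Z Y : C} (hZ : D Z) (hY : D Y) (f : Z ⟶ Y) (z : F.obj Z) :
    (γ.app ⟨Y, hY⟩).hom ((F.map f).hom z) = (G.map f).hom ((γ.app ⟨Z, hZ⟩).hom z) :=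
  NatTrans.naturality_apply γ (ObjectProperty.homMk f : (⟨Z, hZ⟩ : D.FullSubcategory) ⟶ ⟨Y, hY⟩) z

lemma comp_spec {X Y : C} (hY : D Y) (g : Y ⟶ X) (y : F.obj Y) :
    comp D hD hF γ X ((F.map g).hom y) = (G.map g).hom ((γ.app ⟨Y, hY⟩).hom y) := by
  obtain ⟨Z, ρ, hρ, hZ⟩ := hD (pullback g (cπ D hD X))
  have hfst : W (pullback.fst g (cπ D hD X)) := MorphismProperty.pullback_fst _ _ (cπ_mem D hD X)
  have hc : W (ρ ≫ pullback.fst g (cπ D hD X)) := W.comp_mem _ _ hρ hfst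
  obtain ⟨z, rfl⟩ := (hF _ hc).1 y
  rw [← map_comp_hom_apply, Category.assoc, pullback.condition, ← Category.assoc, map_comp_hom_apply,
    comp_apply, γ_nat D γ hZ (cY_mem D hD X), ← map_comp_hom_apply, Category.assoc, ← pullback.condition,
    ← Category.assoc, map_comp_hom_apply, γ_nat D γ hZ hY]

noncomputable def ext : F ⟶ G where
  app X := AddCommGrpCat.ofHom (comp D hD hF γ X)
  naturality X X' f := by
    ext x
    obtain ⟨y, rfl⟩ := (hF _ (cπ_mem D hD X)).1 x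
    change comp D hD hF γ X' ((F.map f).hom ((F.map (cπ D hD X)).hom y)) =
      (G.map f).hom (comp D hD hF γ X ((F.map (cπ D hD X)).hom y))
    rw [← map_comp_hom_apply, comp_spec D hD hF γ (cY_mem D hD X), comp_apply, map_comp_hom_apply]

lemma ext_app {X : C} (hX : D X) : (ext D hD hF γ).app X = γ.app ⟨X, hX⟩ := by
  ext x
  change comp D hD hF γ X x = _
  have := comp_spec D hD hF γ hX (𝟙 X) x
  simpa using this

end full

theorem main (W : MorphismProperty C) [W.IsStableUnderBaseChange] [W.IsStableUnderComposition]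
    (D : ObjectProperty C) (hD : ∀ X : C, ∃ (Y : C) (π : Y ⟶ X), W π ∧ D Y) :
    ((coshP.{v, u, w} W).ι ⋙ (Functor.whiskeringLeft D.FullSubcategory C AddCommGrpCat.{w}).obj D.ι).Full ∧
    ((coshP.{v, u, w} W).ι ⋙ (Functor.whiskeringLeft D.FullSubcategory C AddCommGrpCat.{w}).obj D.ι).Faithful := by
  constructor
  · refine ⟨fun {F G} γ => ?_⟩
    refine ⟨ObjectProperty.homMk (ext D hD F.property γ), ?_⟩
    ext ⟨X, hX⟩ : 2
    exact ext_app D hD F.property γ hX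
  · refine ⟨fun {F G} α β h => ?_⟩
    apply ObjectProperty.hom_ext
    apply faithful_aux D hD F.property
    intro Y hY
    exact congrArg (fun k => k.app ⟨Y, hY⟩) h

end Groth.Agent.Lib.helper27.Cosh
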