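import Mathlib
import Groth.Agent.Lib.Helper27.CosimpLim4

/-!
# A kernel of the first differential of a cosimplicial object is its limit (helper27)
-/

set_option autoImplicit false
universe v u

namespace Groth.Agent.Lib.helper27.CosimpLim

open CategoryTheory Limits Opposite Simplicial AlgebraicTopology

variable {𝒜 : Type u} [Category.{v} 𝒜] [Abelian 𝒜]

section

variable (F : SimplexCategory ⥤ 𝒜) {A : 𝒜} (a : A ⟶ F.obj (SimplexCategory.mk 0))
  (ha : a ≫ d₀ F = 0)

include ha in
lemma a_δ : a ≫ F.map (SimplexCategory.δ (n := 0) 0) = a ≫ F.map (SimplexCategory.δ (n := 0) 1) := by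
  have h := ha
  rw [d₀, Preadditive.comp_sub, sub_eq_zero] at h
  exact h

include ha in
lemma a_map_const (x : SimplexCategory) (i : Fin (x.len + 1)) :
    a ≫ F.map (SimplexCategory.const (SimplexCategory.mk 0) x i) =
      a ≫ F.map (SimplexCategory.const (SimplexCategory.mk 0) x 0) := by
  rw [← δ_zero_edge x i, ← δ_one_edge x i, F.map_comp, F.map_comp, ← Category.assoc,
    ← Category.assoc, a_δ F a ha]

/-- the cone over `F` given by a morphism killed by the first differential -/
noncomputable def coneOfKer : Cone F where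
  pt := A
  π :=
    { app := fun x => a ≫ F.map (SimplexCategory.const (SimplexCategory.mk 0) x 0)
      naturality := fun x y θ => by
        dsimp
        rw [Category.id_comp, Category.assoc, ← F.map_comp, SimplexCategory.const_comp]
        exact (a_map_const F a ha y _).symm }

lemma coneOfKer_π_app (x : SimplexCategory) :
    (coneOfKer F a ha).π.app x =
      a ≫ F.map (SimplexCategory.const (SimplexCategory.mk 0) x 0) := rfl

lemma coneOfKer_π_zero : (coneOfKer F a ha).π.app (SimplexCategory.mk 0) = a := by
  rw [coneOfKer_π_app, SimplexCategory.const_eq_id, F.map_id, Category.comp_id]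

/-- lifting to a kernel -/
noncomputable def liftK (hk : IsLimit (KernelFork.ofι a ha)) {B : 𝒜}
    (b : B ⟶ F.obj (SimplexCategory.mk 0)) (hb : b ≫ d₀ F = 0) : B ⟶ A :=
  (KernelFork.IsLimit.lift' hk b hb).1

lemma liftK_a (hk : IsLimit (KernelFork.ofι a ha)) {B : 𝒜}
    (b : B ⟶ F.obj (SimplexCategory.mk 0)) (hb : b ≫ d₀ F = 0) : liftK F a ha hk b hb ≫ a = b :=
  (KernelFork.IsLimit.lift' hk b hb).2

lemma cone_π_d₀ (s : Cone F) :
    (s.π.app (SimplexCategory.mk 0) : s.pt ⟶ F.obj (SimplexCategory.mk 0)) ≫ d₀ F = 0 := by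
  rw [d₀, Preadditive.comp_sub]
  have h1 := s.w (SimplexCategory.δ (n := 0) 0)
  have h2 := s.w (SimplexCategory.δ (n := 0) 1)
  rw [sub_eq_zero]
  exact h1.trans h2.symm

/-- a kernel of the first differential is a limit -/
noncomputable def isLimitConeOfKer (hk : IsLimit (KernelFork.ofι a ha)) :
    IsLimit (coneOfKer F a ha) where
  lift s := liftK F a ha hk (s.π.app (SimplexCategory.mk 0)) (cone_π_d₀ F s)
  fac s x := by
    rw [coneOfKer_π_app]
    have h := liftK_a F a ha hk (s.π.app (SimplexCategory.mk 0)) (cone_π_d₀ F s)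
    have h2 := congrArg (fun t => t ≫ F.map (SimplexCategory.const (SimplexCategory.mk 0) x 0)) h
    simp only [Category.assoc] at h2
    exact h2.trans (s.w _)
  uniq s m hm := by
    apply Fork.IsLimit.hom_ext hk
    have h := liftK_a F a ha hk (s.π.app (SimplexCategory.mk 0)) (cone_π_d₀ F s)
    have := hm (SimplexCategory.mk 0)
    rw [coneOfKer_π_zero] at this
    exact this.trans h.symm

end

end Groth.Agent.Lib.helper27.CosimpLim
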