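import Mathlib
import Groth.Prelude.Def_SixF1
set_option autoImplicit false
open CategoryTheory CategoryTheory.Limits
universe v₁ v₂ v₃ u₁ u₂ u₃

namespace Groth.Agent.Lib.helper27.DPlusComp

variable {A : Type u₁} [Category.{v₁} A] [Abelian A] {B : Type u₂} [Category.{v₂} B] [Abelian B]
  {C : Type u₃} [Category.{v₃} C] [Abelian C]

/-- `plusNatTrans` of an isomorphism is an isomorphism -/
theorem isIso_plusNatTrans {F G : A ⥤ B} [F.Additive] [G.Additive] (α : F ⟶ G) [IsIso α] :
    IsIso (EtSix.plusNatTrans α) := by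
  have h : IsIso (Functor.whiskerLeft (HomotopyCategory.Plus.ι A)
      (NatTrans.mapHomotopyCategory α (ComplexShape.up ℤ))) := by
    have : IsIso (NatTrans.mapHomotopyCategory α (ComplexShape.up ℤ)) := by
      refine ⟨NatTrans.mapHomotopyCategory (inv α) (ComplexShape.up ℤ), ?_, ?_⟩
      · rw [← NatTrans.mapHomotopyCategory_comp, IsIso.hom_inv_id, NatTrans.mapHomotopyCategory_id]
      · rw [← NatTrans.mapHomotopyCategory_comp, IsIso.inv_hom_id, NatTrans.mapHomotopyCategory_id]
    infer_instance
  let W := (Functor.whiskeringRight (HomotopyCategory.Plus A) (HomotopyCategory.plus B).FullSubcategory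
          (HomotopyCategory B (ComplexShape.up ℤ))).obj (HomotopyCategory.plus B).ι
  let Φ : W.FullyFaithful := ((HomotopyCategory.plus B).fullyFaithfulι.whiskeringRight (HomotopyCategory.Plus A))
  have h2 : IsIso (W.map (EtSix.plusNatTrans α)) := by
    have : W.map (EtSix.plusNatTrans α) = Functor.whiskerLeft (HomotopyCategory.Plus.ι A)
      (NatTrans.mapHomotopyCategory α (ComplexShape.up ℤ)) := Φ.map_preimage _
    rw [this]; exact h
  exact Φ.isIso_of_isIso_map _

variable [HasDerivedCategory A] [HasDerivedCategory B] [HasDerivedCategory C]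

/-- every object of `D⁺(A)` comes from a bounded below complex of injectives -/
theorem exists_iso_Qh_injective [EnoughInjectives A] (K : DerivedCategory.Plus A) :
    ∃ (X : HomotopyCategory.Plus (InjectiveObject A)),
      Nonempty (DerivedCategory.Plus.Qh.obj ((InjectiveObject.ι A).mapHomotopyCategoryPlus.obj X) ≅ K) := by
  obtain ⟨n, hn⟩ : ∃ n : ℤ, K.IsGE n := by
    obtain ⟨n, hn⟩ := K.property
    exact ⟨n, (K.isGE_ι_obj_iff n).1 hn⟩
  obtain ⟨L, _, ⟨e⟩⟩ := DerivedCategory.Plus.exists_injective_nonempty_iso K n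
  exact ⟨(HomotopyCategory.Plus.quotient _).obj L, ⟨e⟩⟩

/-- a natural transformation of functors on `D⁺(A)` is an isomorphism if it is on complexes of
injectives -/
theorem isIso_of_isIso_app_injective [EnoughInjectives A] {H : Type*} [Category H]
    {G₁ G₂ : DerivedCategory.Plus A ⥤ H} (τ : G₁ ⟶ G₂)
    (h : ∀ X : HomotopyCategory.Plus (InjectiveObject A), IsIso (τ.app (DerivedCategory.Plus.Qh.obj
      ((InjectiveObject.ι A).mapHomotopyCategoryPlus.obj X)))) : IsIso τ := by
  have : ∀ K, IsIso (τ.app K) := by
    intro K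
    obtain ⟨X, ⟨e⟩⟩ := exists_iso_Qh_injective K
    have := h X
    have hn := τ.naturality e.hom
    have : τ.app K = G₁.map e.inv ≫ τ.app _ ≫ G₂.map e.hom := by
      rw [← hn, ← G₁.map_comp_assoc, Iso.inv_hom_id, G₁.map_id, Category.id_comp]
    rw [this]
    infer_instance
  exact NatIso.isIso_of_isIso_app τ

section
variable [EnoughInjectives B] (G : B ⥤ C) [G.Additive]

/-- the unit of `R⁺G` is an isomorphism on objects isomorphic to complexes of injectives -/
theorem isIso_unit_of_iso (Y : HomotopyCategory.Plus B) (X : HomotopyCategory.Plus (InjectiveObject B))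
    (e : Y ≅ (InjectiveObject.ι B).mapHomotopyCategoryPlus.obj X) :
    IsIso (G.rightDerivedFunctorPlusUnit.app Y) := by
  have hn := G.rightDerivedFunctorPlusUnit.naturality e.hom
  have : G.rightDerivedFunctorPlusUnit.app Y =
      (G.mapHomotopyCategoryPlus ⋙ DerivedCategory.Plus.Qh).map e.hom ≫
        G.rightDerivedFunctorPlusUnit.app _ ≫
        (DerivedCategory.Plus.Qh ⋙ G.rightDerivedFunctorPlus).map e.inv := by
    rw [← Category.assoc, hn, Category.assoc, ← Functor.map_comp, Iso.hom_inv_id, CategoryTheory.Functor.map_id, Category.comp_id]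
  rw [this]
  infer_instance

end

section
variable [EnoughInjectives A] [EnoughInjectives B] {F : A ⥤ B} {G : B ⥤ C} {H : A ⥤ C}
  [F.Additive] [G.Additive] [H.Additive]

/-- the functor induced on injective objects by a functor preserving injectives -/
def injLift (F : A ⥤ B) (hF : ∀ I : A, Injective I → Injective (F.obj I)) :
    InjectiveObject A ⥤ InjectiveObject B :=
  ObjectProperty.lift _ (InjectiveObject.ι A ⋙ F) (fun I => hF _ I.property)

instance (F : A ⥤ B) [F.Additive] (hF : ∀ I : A, Injective I → Injective (F.obj I)) :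
    (injLift F hF).Additive where
  map_add := by
    intro X Y f g
    apply (InjectiveObject.ι B).map_injective
    simp only [injLift]
    exact F.map_add

theorem main (θ : H ⟶ F ⋙ G) [IsIso θ] (hF : ∀ I : A, Injective I → Injective (F.obj I)) :
    IsIso (EtSix.rPlusDesc₂ θ) := by
  apply isIso_of_isIso_app_injective
  intro X
  have hfac := H.rightDerivedFunctorPlus.rightDerived_fac_app H.rightDerivedFunctorPlusUnit
    (HomotopyCategory.Plus.quasiIso A) (F.rightDerivedFunctorPlus ⋙ G.rightDerivedFunctorPlus)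
    (EtSix.rPlusUnit₂ θ) ((InjectiveObject.ι A).mapHomotopyCategoryPlus.obj X)
  have h1 : IsIso ((EtSix.rPlusUnit₂ θ).app ((InjectiveObject.ι A).mapHomotopyCategoryPlus.obj X)) := by
    have i1 : IsIso (EtSix.plusNatTrans θ) := isIso_plusNatTrans θ
    have e₁ : injLift F hF ⋙ InjectiveObject.ι B ≅ InjectiveObject.ι A ⋙ F := Iso.refl _
    have e : F.mapHomotopyCategoryPlus.obj ((InjectiveObject.ι A).mapHomotopyCategoryPlus.obj X) ≅
        (InjectiveObject.ι B).mapHomotopyCategoryPlus.obj ((injLift F hF).mapHomotopyCategoryPlus.obj X) :=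
      ((Functor.mapHomotopyCategoryPlusCompIso (Iso.refl (InjectiveObject.ι A ⋙ F))).app X) ≪≫
        ((Functor.mapHomotopyCategoryPlusCompIso e₁).app X).symm
    have i2 := isIso_unit_of_iso G _ _ e
    have i3 : IsIso (F.rightDerivedFunctorPlusUnit.app
      ((InjectiveObject.ι A).mapHomotopyCategoryPlus.obj X)) := inferInstance
    dsimp only [EtSix.rPlusUnit₂, NatTrans.comp_app, Functor.whiskerRight_app, Functor.whiskerLeft_app,
      Functor.associator_hom_app, Functor.associator_inv_app]
    infer_instance
  exact IsIso.of_isIso_fac_left hfac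

end

end Groth.Agent.Lib.helper27.DPlusComp
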