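import Mathlib
import Groth.Agent.Lib.Helper25.DerAdjK
import Groth.Agent.Lib.Helper27.DPlusComp
set_option autoImplicit false
open CategoryTheory CategoryTheory.Limits
universe v₁ v₂ u₁ u₂

namespace Groth.Agent.Lib.helper27.DPlusAdj

variable {A : Type u₁} [Category.{v₁} A] [Abelian A] {B : Type u₂} [Category.{v₂} B] [Abelian B]

section
variable {G : A ⥤ B} {F : B ⥤ A} (adj : G ⊣ F) [G.Additive] [F.Additive]

/-- the adjunction on bounded below homotopy categories -/
noncomputable def adjPlus : G.mapHomotopyCategoryPlus ⊣ F.mapHomotopyCategoryPlus :=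
  (Groth.Agent.Lib.Helper25.DerAdjK.adjK adj (ComplexShape.up ℤ)).restrictFullyFaithful
    (HomotopyCategory.Plus.fullyFaithfulι A) (HomotopyCategory.Plus.fullyFaithfulι B)
    (Iso.refl _) (Iso.refl _)

end

variable [HasDerivedCategory A] [HasDerivedCategory B]

theorem isInvertedBy (G : A ⥤ B) [G.Additive] [PreservesFiniteLimits G] [PreservesFiniteColimits G] :
    (HomotopyCategory.Plus.quasiIso A).IsInvertedBy
      (G.mapHomotopyCategoryPlus ⋙ DerivedCategory.Plus.Qh) := by
  intro K L f hf
  have h1 : IsIso (DerivedCategory.Qh.map ((HomotopyCategory.Plus.ι A).map f)) :=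
    Localization.inverts DerivedCategory.Qh (HomotopyCategory.quasiIso A (ComplexShape.up ℤ)) _ hf
  have h2 : IsIso (G.mapDerivedCategory.map (DerivedCategory.Qh.map ((HomotopyCategory.Plus.ι A).map f))) :=
    inferInstance
  have h3 : IsIso ((G.mapHomotopyCategory (ComplexShape.up ℤ) ⋙ DerivedCategory.Qh).map
      ((HomotopyCategory.Plus.ι A).map f)) :=
    (NatIso.isIso_map_iff G.mapDerivedCategoryFactorsh _).1 h2
  have h4 : IsIso ((DerivedCategory.Plus.Qh ⋙ DerivedCategory.Plus.ι).map
      (G.mapHomotopyCategoryPlus.map f)) :=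
    (NatIso.isIso_map_iff (DerivedCategory.Plus.QhCompιIsoιCompQh (C := B)) _).2 h3
  have h5 : IsIso (DerivedCategory.Plus.ι.map
      ((G.mapHomotopyCategoryPlus ⋙ DerivedCategory.Plus.Qh).map f)) := h4
  exact isIso_of_reflects_iso _ DerivedCategory.Plus.ι

/-- every object of `D⁺(B)` comes from a bounded below complex of injectives (complex form) -/
theorem exists_iso_Q_injective [EnoughInjectives B] (K : DerivedCategory.Plus B) :
    ∃ (L : CochainComplex.Plus (InjectiveObject B)),
      Nonempty (DerivedCategory.Plus.Qh.obj ((InjectiveObject.ι B).mapHomotopyCategoryPlus.obj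
        ((HomotopyCategory.Plus.quotient _).obj L)) ≅ K) := by
  obtain ⟨n, hn⟩ : ∃ n : ℤ, K.IsGE n := by
    obtain ⟨n, hn⟩ := K.property
    exact ⟨n, (K.isGE_ι_obj_iff n).1 hn⟩
  obtain ⟨L, _, ⟨e⟩⟩ := DerivedCategory.Plus.exists_injective_nonempty_iso K n
  exact ⟨L, ⟨e⟩⟩

theorem main {G : A ⥤ B} {F : B ⥤ A} (adj : G ⊣ F) [G.Additive] [F.Additive]
    [PreservesFiniteLimits G] [PreservesFiniteColimits G] [EnoughInjectives A] [EnoughInjectives B] :
    Nonempty (G.rightDerivedFunctorPlus ⊣ F.rightDerivedFunctorPlus) := by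
  have hiso : IsIso G.rightDerivedFunctorPlusUnit :=
    Functor.isIso_of_isRightDerivedFunctor_of_inverts G.rightDerivedFunctorPlus
      G.rightDerivedFunctorPlusUnit (isInvertedBy G)
  choose Lc he using fun K : DerivedCategory.Plus B => exists_iso_Q_injective K
  let r : DerivedCategory.Plus B → HomotopyCategory.Plus B := fun K =>
    (InjectiveObject.ι B).mapHomotopyCategoryPlus.obj ((HomotopyCategory.Plus.quotient _).obj (Lc K))
  have e : ∀ K, DerivedCategory.Plus.Qh.obj (r K) ≅ K := fun K => (he K).some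
  have hr : ∀ (X : HomotopyCategory.Plus B) (Y : DerivedCategory.Plus B),
      Function.Bijective (fun f : X ⟶ r Y => DerivedCategory.Plus.Qh.map f) := by
    intro X Y
    apply DerivedCategory.Plus.Qh_map_bijective_of_isKInjective
    exact (inferInstance : CochainComplex.IsKInjective
      (((InjectiveObject.ι B).mapHomologicalComplex (.up ℤ)).obj (Lc Y).obj))
  obtain ⟨adj', -⟩ := Groth.Agent.Lib.Helper25.DerAdjAbs.exists_derived_adjunction (adjPlus adj)
    (HomotopyCategory.Plus.quasiIso A) (HomotopyCategory.Plus.quasiIso B)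
    (inv G.rightDerivedFunctorPlusUnit) F.rightDerivedFunctorPlusUnit r e hr
  exact ⟨adj'⟩

end Groth.Agent.Lib.helper27.DPlusAdj
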