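import Mathlib
import Groth.Agent.Lib.Helper27.HomotopyAdj

set_option linter.unusedSectionVars false
set_option linter.unusedVariables false

namespace Groth.Agent.Lib.helper27

open CategoryTheory Limits

universe w v u

namespace HomotopyAdj

variable {A B : Type u} [Category.{v} A] [Category.{v} B]
    [Abelian A] [Abelian B] [HasDerivedCategory.{w} A] [HasDerivedCategory.{w} B]

omit [HasDerivedCategory.{w} A] in
lemma inverts_of_exact (L : A ⥤ B) [L.Additive] [PreservesFiniteLimits L]
    [PreservesFiniteColimits L] :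
    (HomotopyCategory.Plus.quasiIso A).IsInvertedBy
      (L.mapHomotopyCategoryPlus ⋙ DerivedCategory.Plus.Qh) := by
  intro X Y f hf
  obtain ⟨K, rfl⟩ := HomotopyCategory.Plus.quotient_obj_surjective X
  obtain ⟨K', rfl⟩ := HomotopyCategory.Plus.quotient_obj_surjective Y
  obtain ⟨φ, rfl⟩ := (HomotopyCategory.Plus.quotient A).map_surjective f
  have hφ : QuasiIso φ.hom := by
    change HomotopyCategory.quasiIso A _ ((HomotopyCategory.quotient A _).map φ.hom) at hf
    rwa [HomotopyCategory.quotient_map_mem_quasiIso_iff, HomologicalComplex.mem_quasiIso_iff] at hf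
  have h2 : QuasiIso ((L.mapHomologicalComplex (ComplexShape.up ℤ)).map φ.hom) := inferInstance
  refine Localization.inverts DerivedCategory.Plus.Qh (HomotopyCategory.Plus.quasiIso B) _ ?_
  change HomotopyCategory.quasiIso B _ ((HomotopyCategory.quotient B _).map
    ((L.mapHomologicalComplex (ComplexShape.up ℤ)).map φ.hom))
  rw [HomotopyCategory.quotient_map_mem_quasiIso_iff, HomologicalComplex.mem_quasiIso_iff]
  exact h2

variable [EnoughInjectives A] [EnoughInjectives B] {L : A ⥤ B} {R : B ⥤ A} (adj : L ⊣ R)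
    [L.Additive] [R.Additive] [PreservesFiniteLimits L] [PreservesFiniteColimits L]

include adj in
theorem derivedAdj : Nonempty (L.rightDerivedFunctorPlus ⊣ R.rightDerivedFunctorPlus) := by
  let G := L.mapHomotopyCategoryPlus
  let F := R.mapHomotopyCategoryPlus
  let adjK : G ⊣ F := homotopyAdjPlus adj
  let W₁ := HomotopyCategory.Plus.quasiIso A
  let W₂ := HomotopyCategory.Plus.quasiIso B
  let G' := L.rightDerivedFunctorPlus
  let F' := R.rightDerivedFunctorPlus
  let ηL := L.rightDerivedFunctorPlusUnit
  let β := R.rightDerivedFunctorPlusUnit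
  have hinv := inverts_of_exact (A := A) L
  have hη : IsIso ηL := Functor.isIso_of_isRightDerivedFunctor_of_inverts G' ηL hinv
  let e : DerivedCategory.Plus.Qh ⋙ G' ≅ G ⋙ DerivedCategory.Plus.Qh := (asIso ηL).symm
  have i1 : G'.IsLeftDerivedFunctor e.hom W₁ := Functor.isLeftDerivedFunctor_of_inverts W₁ G' e
  let e' : DerivedCategory.Plus.Qh ⋙ (G' ⋙ F') ≅ (G ⋙ DerivedCategory.Plus.Qh) ⋙ F' :=
    (Functor.associator _ _ _).symm ≪≫ Functor.isoWhiskerRight e F'
  have i3 : (G' ⋙ F').IsLeftDerivedFunctor
      ((Functor.associator _ _ _).inv ≫ Functor.whiskerRight e.hom F') W₁ :=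
    Functor.isLeftDerivedFunctor_of_inverts W₁ (G' ⋙ F') e'
  have i4 : (F' ⋙ G').IsRightDerivedFunctor
      (Functor.whiskerRight β G' ≫ (Functor.associator _ _ _).hom) W₂ := by
    apply (HomotopyCategory.Plus.localizerMorphism_derives
      ((F ⋙ DerivedCategory.Plus.Qh) ⋙ G')).isRightDerivedFunctor_of_isIso
    intro X₁
    have : IsIso (β.app ((HomotopyCategory.Plus.localizerMorphism B).functor.obj X₁)) :=
      inferInstance
    simp only [NatTrans.comp_app, Functor.whiskerRight_app, Functor.associator_hom_app,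
      Category.comp_id]
    infer_instance
  exact ⟨adjK.derived W₁ W₂ e.hom β⟩

end HomotopyAdj

end Groth.Agent.Lib.helper27
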