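import Mathlib
import Groth.Prelude.Def_EtCore
import Groth.Prelude.Def_SpSeq
import Groth.Agent.Lib.Helper27.PullFunEt
import Groth.Agent.Lib.Helper27.CechOver
import Groth.Agent.Lib.Helper27.DegSS

set_option autoImplicit false
set_option linter.unusedSectionVars false

namespace Groth.Agent.Lib.helper27

open CategoryTheory Limits Abelian Opposite AlgebraicGeometry Simplicial

universe u

namespace DescSecEt

variable {X S : Scheme.{u}} (f : X ⟶ S) (s : S ⟶ X) (hs : s ≫ f = 𝟙 S) (F : EtCoh.Ab S)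

/-- the augmented Čech nerve of `f` -/
noncomputable abbrev Y : SimplicialObject.Augmented Scheme.{u} :=
  (Arrow.mk f).augmentedCechNerve

/-- the extra degeneracy given by the section -/
noncomputable def ed : SimplicialObject.Augmented.ExtraDegeneracy (Y f) :=
  Arrow.AugmentedCechNerve.extraDegeneracy (Arrow.mk f) ⟨s, hs⟩

/-- the rows of the first page -/
noncomputable def R (q : ℕ) : CochainComplex AddCommGrpCat.{u + 1} ℕ :=
  CechOver.K (Y f) (PullFunEt.Φ F q)

lemma R_X (q p : ℕ) : (R f F q).X p =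
    AddCommGrpCat.of (EtCoh.H (widePullback S (fun _ : Fin (p + 1) => X) (fun _ => f))
      ((EtCoh.pull (WidePullback.base (fun _ : Fin (p + 1) => f) :
        widePullback S (fun _ : Fin (p + 1) => X) (fun _ => f) ⟶ S)).obj F) q) := rfl

/-- cohomology is invariant under isomorphisms of sheaves -/
noncomputable def HIso {T : Scheme.{u}} {G G' : EtCoh.Ab T} (e : G ≅ G') (q : ℕ) :
    AddCommGrpCat.of (EtCoh.H T G q) ≅ AddCommGrpCat.of (EtCoh.H T G' q) where
  hom := AddCommGrpCat.ofHom ((Ext.mk₀ e.hom).postcomp _ (add_zero q))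
  inv := AddCommGrpCat.ofHom ((Ext.mk₀ e.inv).postcomp _ (add_zero q))
  hom_inv_id := by
    ext x
    simp
  inv_hom_id := by
    ext x
    simp

/-- the degree zero cohomology of the rows -/
noncomputable def e1 (q : ℕ) :
    (R f F q).homology 0 ≅ (PullFunEt.Φ F q).obj (op (Over.mk (𝟙 S))) :=
  (CechOver.K_homology_zero (Y := Y f) (𝒜 := AddCommGrpCat.{u + 1}) (PullFunEt.Φ F q)
    (ed f s hs)).some

/-- the degree zero cohomology of the rows -/
noncomputable def e2 (q : ℕ) :
    (PullFunEt.Φ F q).obj (op (Over.mk (𝟙 S))) ≅ AddCommGrpCat.of (EtCoh.H S F q) :=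
  HIso (G := (EtCoh.pull (𝟙 S)).obj F) (G' := F) ((PullFunEt.pullIdIso S).app F) q

/-- the degree zero cohomology of the rows -/
noncomputable def e0 (q : ℕ) : (R f F q).homology 0 ≅ AddCommGrpCat.of (EtCoh.H S F q) :=
  e1 f s hs F q ≪≫ e2 F q

include s hs in
theorem main :
    ∃ (E : CohomologicalSpectralSequence AddCommGrpCat.{u + 1} 1)
      (a : SpSeq.Abutment E (fun n : ℤ =>
        if 0 ≤ n then AddCommGrpCat.of (EtCoh.H S F n.toNat) else AddCommGrpCat.of PUnit.{u + 2})),
      (∀ n, a.IsFinite n) ∧ SpSeq.IsBounded E ∧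
      ∀ p q : ℤ, Nonempty ((E.page 1 le_rfl).X (p, q) ≅
        (if 0 ≤ p ∧ 0 ≤ q then
          AddCommGrpCat.of (EtCoh.H (widePullback S (fun _ : Fin (p.toNat + 1) => X) (fun _ => f))
            ((EtCoh.pull (WidePullback.base (fun _ : Fin (p.toNat + 1) => f) :
              widePullback S (fun _ : Fin (p.toNat + 1) => X) (fun _ => f) ⟶ S)).obj F) q.toNat)
         else AddCommGrpCat.of PUnit.{u + 2})) :=
  DegSS.main (R f F) (fun q => AddCommGrpCat.of (EtCoh.H S F q)) (AddCommGrpCat.of PUnit.{u + 2})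
    (AddCommGrpCat.isZero_of_subsingleton _) (e0 f s hs F)
    (fun q p => CechOver.K_homology_succ (Y := Y f) (𝒜 := AddCommGrpCat.{u + 1}) (PullFunEt.Φ F q)
      (ed f s hs) p)

end DescSecEt

end Groth.Agent.Lib.helper27
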