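import Mathlib
import Groth.Prelude.Def_SiteCmp
import Groth.Prelude.Def_CohSite
import Groth.Agent.Lib.Helper27.EpsCmp2

/-!
# Further tools for comparing two topologies: full faithfulness of `ε_*`, sheaves for the finer
topology, comparison of cohomology groups
-/

set_option autoImplicit false

namespace Groth.Agent.Lib.helper27

open CategoryTheory Limits Abelian Opposite Groth.Agent.Lib.helper7

universe u

namespace EpsCmp

variable {D : Type u} [SmallCategory D] {K K' : GrothendieckTopology D} (h : K' ≤ K)

/-- `ε_*` is fully faithful -/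
noncomputable def fullyFaithfulG : (G h).FullyFaithful where
  preimage {M N} φ := ⟨{ app := fun T => φ.hom.app T
                         naturality := fun T₁ T₂ s => φ.hom.naturality s }⟩
  map_preimage := by
    intros
    rfl
  preimage_map := by
    intros
    rfl

/-- a sheaf for the coarser topology which is a sheaf for the finer one -/
def asK (F' : Sheaf K' AddCommGrpCat.{u}) (hK : Presheaf.IsSheaf K F'.obj) :
    Sheaf K AddCommGrpCat.{u} := ⟨F'.obj, hK⟩

/-- `ε_*` of it is the original sheaf -/
noncomputable def GasKIso (F' : Sheaf K' AddCommGrpCat.{u}) (hK : Presheaf.IsSheaf K F'.obj) :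
    (G h).obj (asK F' hK) ≅ F' :=
  (fullyFaithfulSheafToPresheaf K' AddCommGrpCat.{u}).preimageIso
    (NatIso.ofComponents (fun T => Iso.refl _) (by
      intro T₁ T₂ s
      simp only [Iso.refl_hom, Category.comp_id, Category.id_comp]
      rfl))

/-- `ε^{-1}` of a sheaf for the finer topology is that sheaf -/
noncomputable def LIso (F' : Sheaf K' AddCommGrpCat.{u}) (hK : Presheaf.IsSheaf K F'.obj) :
    (L h).obj F' ≅ asK F' hK :=
  haveI := (fullyFaithfulG h).full
  haveI := (fullyFaithfulG h).faithful
  (L h).mapIso (GasKIso h F' hK).symm ≪≫ asIso ((adj h).counit.app (asK F' hK))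

/-- `ε_* ε^{-1} F' ≅ F'` for a sheaf for the finer topology -/
noncomputable def GLIso (F' : Sheaf K' AddCommGrpCat.{u}) (hK : Presheaf.IsSheaf K F'.obj) :
    (G h).obj ((L h).obj F') ≅ F' :=
  (G h).mapIso (LIso h F' hK) ≪≫ GasKIso h F' hK

/-- isomorphic coefficients have isomorphic cohomology -/
noncomputable def cohIsoOfIso {J : GrothendieckTopology D} {F₁ F₂ : Sheaf J AddCommGrpCat.{u}}
    (e : F₁ ≅ F₂) (n : ℕ) (T : D) :
    CohSite.HU F₁ n T ≃+ CohSite.HU F₂ n T :=
  (((Sheaf.cohomologyPresheafFunctor.{u} J n).mapIso e).app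
    (op T)).addCommGroupIsoToAddEquiv

/-- comparison of cohomology groups in degrees `≤ n` under `V_n` -/
noncomputable def cohCmp (n : ℕ) (F : Sheaf K AddCommGrpCat.{u})
    (hV : ∀ i, 1 ≤ i → i ≤ n → Vn (K' := K') F i) (T : D) :
    CohSite.HU ((G h).obj F) n T ≃+ CohSite.HU F n T :=
  AddEquiv.ofBijective (cT h T F n) ((main h n F hV).1 T n le_rfl)

end EpsCmp

end Groth.Agent.Lib.helper27
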