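import Mathlib
import Groth.Prelude.Def_SiteCmp
import Groth.Prelude.Def_WeakSerre
import Groth.Agent.Lib.Helper27.EpsCmp2

/-!
# The inverse image of a weak Serre class of acyclic sheaves under `ε_*` is weak Serre
-/

set_option autoImplicit false

namespace Groth.Agent.Lib.helper27

open CategoryTheory Limits Abelian Opposite Groth.Agent.Lib.helper7
open scoped ZeroObject

universe u

namespace EpsCmp

variable {D : Type u} [SmallCategory D] {K K' : GrothendieckTopology D} (h : K' ≤ K)

section

variable {𝒜 : Type*} [Category 𝒜] [Abelian 𝒜] {X Y : 𝒜} (f : X ⟶ Y)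

lemma kernel_ι_factorThruImage : kernel.ι f ≫ Abelian.factorThruImage f = 0 := by
  rw [← cancel_mono (Abelian.image.ι f), Category.assoc, Abelian.image.fac, kernel.condition,
    zero_comp]

lemma shortExact_kernel_image :
    (ShortComplex.mk (kernel.ι f) (Abelian.factorThruImage f)
      (kernel_ι_factorThruImage f)).ShortExact := by
  refine ShortComplex.ShortExact.mk' ?_ (inferInstanceAs (Mono (kernel.ι f)))
    (inferInstanceAs (Epi (Abelian.factorThruImage f)))
  let φ : ShortComplex.mk (kernel.ι f) (Abelian.factorThruImage f) (kernel_ι_factorThruImage f) ⟶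
      ShortComplex.mk (kernel.ι f) f (kernel.condition f) :=
    { τ₁ := 𝟙 _
      τ₂ := 𝟙 _
      τ₃ := Abelian.image.ι f
      comm₁₂ := by simp
      comm₂₃ := by simp }
  haveI : Epi φ.τ₁ := inferInstanceAs (Epi (𝟙 _))
  haveI : IsIso φ.τ₂ := inferInstanceAs (IsIso (𝟙 _))
  haveI : Mono φ.τ₃ := inferInstanceAs (Mono (Abelian.image.ι f))
  exact (ShortComplex.exact_iff_of_epi_of_isIso_of_mono φ).2 (ShortComplex.exact_kernel f)

lemma image_ι_cokernel_π : Abelian.image.ι f ≫ cokernel.π f = 0 := by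
  rw [← cancel_epi (Abelian.factorThruImage f), ← Category.assoc, Abelian.image.fac,
    cokernel.condition, comp_zero]

lemma shortExact_image_cokernel :
    (ShortComplex.mk (Abelian.image.ι f) (cokernel.π f) (image_ι_cokernel_π f)).ShortExact := by
  refine ShortComplex.ShortExact.mk' ?_ (inferInstanceAs (Mono (Abelian.image.ι f)))
    (inferInstanceAs (Epi (cokernel.π f)))
  let φ : ShortComplex.mk f (cokernel.π f) (cokernel.condition f) ⟶
      ShortComplex.mk (Abelian.image.ι f) (cokernel.π f) (image_ι_cokernel_π f) :=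
    { τ₁ := Abelian.factorThruImage f
      τ₂ := 𝟙 _
      τ₃ := 𝟙 _
      comm₁₂ := by simp
      comm₂₃ := by simp }
  haveI : Epi φ.τ₁ := inferInstanceAs (Epi (Abelian.factorThruImage f))
  haveI : IsIso φ.τ₂ := inferInstanceAs (IsIso (𝟙 _))
  haveI : Mono φ.τ₃ := inferInstanceAs (Mono (𝟙 _))
  exact (ShortComplex.exact_iff_of_epi_of_isIso_of_mono φ).1 (ShortComplex.exact_cokernel f)

end

/-- the inverse image under `ε_*` of a weak Serre class all of whose preimages have vanishing
`R^1 ε_*` is a weak Serre class -/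
theorem isWeakSerre_inverseImage (𝒜' : ObjectProperty (Sheaf K' AddCommGrpCat.{u}))
    [WSerre.IsWeakSerre 𝒜']
    (hacyc : ∀ F : Sheaf K AddCommGrpCat.{u}, 𝒜' ((G h).obj F) → Vn (K' := K') F 1) :
    WSerre.IsWeakSerre (𝒜'.inverseImage (G h)) := by
  have hker : ∀ {X Y : Sheaf K AddCommGrpCat.{u}} (f : X ⟶ Y), 𝒜' ((G h).obj X) →
      𝒜' ((G h).obj Y) → 𝒜' ((G h).obj (kernel f)) := by
    intro X Y f hX hY
    exact 𝒜'.prop_of_isLimit_kernelFork
      ((KernelFork.ofι (kernel.ι f) (kernel.condition f)).mapIsLimit (kernelIsKernel f) (G h)) hX hY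
  have hcok : ∀ {X Y : Sheaf K AddCommGrpCat.{u}} (f : X ⟶ Y), 𝒜' ((G h).obj X) →
      𝒜' ((G h).obj Y) → 𝒜' ((G h).obj (cokernel f)) := by
    intro X Y f hX hY
    have hK := hker f hX hY
    have hS₁ := shortExact_map_G h (shortExact_kernel_image f) (hacyc _ hK)
    have hI : 𝒜' ((G h).obj (Abelian.image f)) :=
      𝒜'.prop_of_isColimit_cokernelCofork hS₁.gIsCokernel hK hX
    have hS₂ := shortExact_map_G h (shortExact_image_cokernel f) (hacyc _ hI)
    exact 𝒜'.prop_of_isColimit_cokernelCofork hS₂.gIsCokernel hI hY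
  haveI : (𝒜'.inverseImage (G h)).IsClosedUnderIsomorphisms := inferInstance
  exact
    { exists_zero := ⟨0, isZero_zero _, 𝒜'.prop_of_isZero ((G h).map_isZero (isZero_zero _))⟩
      kernels_le := by
        rintro Z ⟨f, k, hk, hX, hY⟩
        exact (𝒜'.inverseImage (G h)).prop_of_iso
          (IsLimit.conePointUniqueUpToIso (kernelIsKernel f) hk) (hker f hX hY)
      cokernels_le := by
        rintro Z ⟨f, k, hk, hX, hY⟩
        exact (𝒜'.inverseImage (G h)).prop_of_iso
          (IsColimit.coconePointUniqueUpToIso (cokernelIsCokernel f) hk) (hcok f hX hY)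
      prop_X₂_of_shortExact := fun {S} hS h₁ h₃ =>
        𝒜'.prop_X₂_of_shortExact (shortExact_map_G h hS (hacyc _ h₁)) h₁ h₃ }

end EpsCmp

end Groth.Agent.Lib.helper27
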