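import Mathlib
import Groth.Prelude.Def_SiteCmp
import Groth.Prelude.Def_CohSite
import Groth.Agent.Lib.Helper27.EpsCmp2
import Groth.Agent.Lib.Helper27.OvPush

/-!
# Comparison of higher direct images for two topologies
-/

set_option autoImplicit false

namespace Groth.Agent.Lib.helper27

open CategoryTheory Limits Abelian Opposite Groth.Agent.Lib.helper7

universe u

namespace EpsCmp

variable {D : Type u} [SmallCategory D] {K K' : GrothendieckTopology D} (h : K' ≤ K)

/-- components of the comparison of cohomology presheaves -/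
noncomputable def cohCmpApp (F : Sheaf K AddCommGrpCat.{u}) (i : ℕ)
    (hb : ∀ T : D, Function.Bijective (cT h T F i)) (T : D) :
    (((G h).obj F).cohomologyPresheaf i).obj (op T) ≅ (F.cohomologyPresheaf i).obj (op T) :=
  (AddEquiv.ofBijective (cT h T F i) (hb T)).toAddCommGrpIso

lemma cohCmpApp_natural (F : Sheaf K AddCommGrpCat.{u}) (i : ℕ)
    (hb : ∀ T : D, Function.Bijective (cT h T F i)) {T₁ T₂ : D} (s : T₁ ⟶ T₂) :
    (((G h).obj F).cohomologyPresheaf i).map s.op ≫ (cohCmpApp h F i hb T₁).hom =
      (cohCmpApp h F i hb T₂).hom ≫ (F.cohomologyPresheaf i).map s.op := by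
  apply AddCommGrpCat.hom_ext
  apply AddMonoidHom.ext
  intro x
  exact cT_res h s F i x

/-- the comparison of cohomology presheaves in a degree where `cT` is bijective -/
noncomputable def cohCmpIso (F : Sheaf K AddCommGrpCat.{u}) (i : ℕ)
    (hb : ∀ T : D, Function.Bijective (cT h T F i)) :
    ((G h).obj F).cohomologyPresheaf i ≅ F.cohomologyPresheaf i :=
  NatIso.ofComponents (fun T => cohCmpApp h F i hb T.unop)
    (fun s => cohCmpApp_natural h F i hb s.unop)

/-- if the sheafification for the coarser topology is a sheaf for the finer one, it is the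
sheafification for the finer one -/
noncomputable def sheafifyCmp (P : Dᵒᵖ ⥤ AddCommGrpCat.{u})
    (hK : Presheaf.IsSheaf K ((presheafToSheaf K' AddCommGrpCat.{u}).obj P).obj) :
    (G h).obj ((presheafToSheaf K AddCommGrpCat.{u}).obj P) ≅
      (presheafToSheaf K' AddCommGrpCat.{u}).obj P := by
  let M : Sheaf K AddCommGrpCat.{u} := ⟨((presheafToSheaf K' AddCommGrpCat.{u}).obj P).obj, hK⟩
  have hK' : Presheaf.IsSheaf K' ((presheafToSheaf K AddCommGrpCat.{u}).obj P).obj :=
    fun E => Presieve.isSheaf_of_le _ h (((presheafToSheaf K AddCommGrpCat.{u}).obj P).property E)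
  let α : (presheafToSheaf K AddCommGrpCat.{u}).obj P ⟶ M := ⟨sheafifyLift K (toSheafify K' P) hK⟩
  let β : M ⟶ (presheafToSheaf K AddCommGrpCat.{u}).obj P :=
    ⟨sheafifyLift K' (toSheafify K P) hK'⟩
  have hαβ : α ≫ β = 𝟙 _ := by
    apply ObjectProperty.hom_ext
    apply sheafify_hom_ext K _ _ ((presheafToSheaf K AddCommGrpCat.{u}).obj P).property
    show toSheafify K P ≫ sheafifyLift K (toSheafify K' P) hK ≫
      sheafifyLift K' (toSheafify K P) hK' = toSheafify K P ≫ 𝟙 _
    rw [toSheafify_sheafifyLift_assoc, toSheafify_sheafifyLift, Category.comp_id]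
  have hβα : β ≫ α = 𝟙 _ := by
    apply ObjectProperty.hom_ext
    apply sheafify_hom_ext K' _ _ ((presheafToSheaf K' AddCommGrpCat.{u}).obj P).property
    show toSheafify K' P ≫ sheafifyLift K' (toSheafify K P) hK' ≫
      sheafifyLift K (toSheafify K' P) hK = toSheafify K' P ≫ 𝟙 _
    rw [toSheafify_sheafifyLift_assoc, toSheafify_sheafifyLift, Category.comp_id]
  let e : (presheafToSheaf K AddCommGrpCat.{u}).obj P ≅ M := ⟨α, β, hαβ, hβα⟩
  exact (G h).mapIso e ≪≫
    (fullyFaithfulSheafToPresheaf K' AddCommGrpCat.{u}).preimageIso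
      (NatIso.ofComponents (fun T => Iso.refl _) (by
        intro T₁ T₂ s
        simp only [Iso.refl_hom]
        exact (Category.comp_id _).trans (Category.id_comp _).symm))

end EpsCmp

namespace OvPush

variable {C : Type u} [SmallCategory C] (K : GrothendieckTopology C) {X Y : C} (f : X ⟶ Y)
  [HasPullbacksAlong f]

/-- `R^i f_* G` is the sheafification of `T ↦ H^i(T ×_Y X, G)` -/
theorem main' [(fStar K f).Additive] (G : Sheaf (K.over X) AddCommGrpCat.{u}) (i : ℕ) :
    Nonempty (((fStar K f).rightDerived i).obj G ≅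
      (presheafToSheaf (K.over Y) AddCommGrpCat.{u}).obj
        ((Over.pullback f).op ⋙ G.cohomologyPresheaf i)) := by
  have e1 := (Helper21.DerivedComm.rightDerivedIso (pushIso K f) i).app G
  obtain ⟨e2⟩ := RpushSheafify.rpush_iso (K.over X) (K.over Y) (Over.pullback f) G i
  exact ⟨e1 ≪≫ e2⟩

end OvPush

end Groth.Agent.Lib.helper27
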