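import Mathlib
import Groth.Prelude.Def_EtBCD
import Groth.Agent.Lib.Helper27.EtLoc2

set_option autoImplicit false
set_option linter.unusedVariables false

/-!
helper27: etale-local nature of the degree-zero base change map for sheaves of sets on small etale sites.
-/
universe u
open CategoryTheory CategoryTheory.Limits AlgebraicGeometry Opposite
open EtBC

namespace Groth.Agent.Lib.helper27

namespace EtLocSh

/-- the coefficient category -/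
abbrev TT := Type (u + 1)

lemma bc0_iff {X S X' S' : Scheme.{u}} (f : X ⟶ S) (g : S' ⟶ S) (f' : X' ⟶ S') (g' : X' ⟶ X)
    (w : g' ≫ f = f' ≫ g) (F : EtDesc.Sh X) :
    IsIso (EtBC.baseChange0Sh f g f' g' w F) ↔
      BcAbs.IsoAdj (EtDesc.pushSh g)
        (BcAbs.u0 (EtDesc.pullSh g') (EtDesc.pushSh g') (EtDesc.adjSh g') (EtDesc.pushSh f)
          (EtDesc.pushSh f') (EtDesc.pushSh g) (EtLoc.gσ TT.{u} f g f' g' w) F) := by
  rw [← BcAbs.isoAdj_iff (EtDesc.adjSh g)]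
  rfl

/-- etale base change in degree zero for sheaves of sets, in adjoint form -/
lemma isoAdj_etale {S T V T' : Scheme.{u}} (g : T ⟶ S) (j : V ⟶ S) [Etale j] (g' : T' ⟶ V)
    (t : T' ⟶ T) (h : IsPullback t g' g j) (F : EtDesc.Sh T) :
    BcAbs.IsoAdj (EtDesc.pushSh j)
      (BcAbs.u0 (EtDesc.pullSh t) (EtDesc.pushSh t) (EtDesc.adjSh t) (EtDesc.pushSh g)
        (EtDesc.pushSh g') (EtDesc.pushSh j) (EtLoc.gσ TT.{u} g j g' t h.w) F) := by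
  have : Etale t := MorphismProperty.of_isPullback (P := @Etale) h.flip inferInstance
  rw [BcAbs.u0_congr (EtDesc.pullSh t) (EtDesc.pushSh t) (EtDesc.adjSh t) (EtDesc.pushSh g)
    (EtDesc.pushSh g') (EtDesc.pushSh j) (EtLoc.gσ TT.{u} g j g' t h.w) (EtLoc.gadj TT.{u} t) F]
  exact (EtLoc.isoAdj_u0_restr g j g' t h F).comp_iso _

lemma isoAdj_congr {X S Y T : Scheme.{u}} (g : T ⟶ S) (h : Y ⟶ X) {f₁ f₂ : X ⟶ S} (hf : f₁ = f₂)
    {e₁ e₂ : Y ⟶ T} (he : e₁ = e₂) (w₁ : e₁ ≫ g = h ≫ f₁) (w₂ : e₂ ≫ g = h ≫ f₂) (F : EtDesc.Sh T)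
    (H : BcAbs.IsoAdj (EtDesc.pushSh f₁)
      (BcAbs.u0 (EtDesc.pullSh e₁) (EtDesc.pushSh e₁) (EtDesc.adjSh e₁) (EtDesc.pushSh g)
        (EtDesc.pushSh h) (EtDesc.pushSh f₁) (EtLoc.gσ TT.{u} g f₁ h e₁ w₁) F)) :
    BcAbs.IsoAdj (EtDesc.pushSh f₂)
      (BcAbs.u0 (EtDesc.pullSh e₂) (EtDesc.pushSh e₂) (EtDesc.adjSh e₂) (EtDesc.pushSh g)
        (EtDesc.pushSh h) (EtDesc.pushSh f₂) (EtLoc.gσ TT.{u} g f₂ h e₂ w₂) F) := by
  subst hf
  subst he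
  exact H

theorem main {X S Y T : Scheme.{u}} (f : X ⟶ S) (g : T ⟶ S) (h : Y ⟶ X) (e : Y ⟶ T)
    (c : IsPullback e h g f) (F : EtDesc.Sh T)
    {ι : Type u} (U : ι → X.Etale) (hU : EtCoh.Covers U) (V : ι → S.Etale)
    (a : ∀ i, (U i).left ⟶ (V i).left) (ha : ∀ i, a i ≫ (V i).hom = (U i).hom ≫ f)
    (Ti Yi : ι → Scheme.{u}) (gi : ∀ i, Ti i ⟶ (V i).left) (ti : ∀ i, Ti i ⟶ T)
    (cT : ∀ i, IsPullback (ti i) (gi i) g (V i).hom)
    (hi : ∀ i, Yi i ⟶ (U i).left) (ei : ∀ i, Yi i ⟶ Ti i) (cY : ∀ i, IsPullback (ei i) (hi i) (gi i) (a i))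
    (hloc : ∀ i, IsIso (EtBC.baseChange0Sh (gi i) (a i) (hi i) (ei i) (cY i).w ((EtDesc.pullSh (ti i)).obj F))) :
    IsIso (EtBC.baseChange0Sh g f h e c.w F) := by
  refine EtLoc.isIso_of_isIso_grestr (A := TT.{u}) _ U hU (fun i => ?_)
  -- notation
  have hwk : (ei i ≫ ti i) ≫ g = (hi i ≫ (U i).hom) ≫ f := by
    rw [Category.assoc, (cT i).w, ← Category.assoc, (cY i).w, Category.assoc, ha i, Category.assoc]
  let k : Yi i ⟶ Y := c.lift (ei i ≫ ti i) (hi i ≫ (U i).hom) hwk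
  have hke : k ≫ e = ei i ≫ ti i := c.lift_fst _ _ _
  have hkh : k ≫ h = hi i ≫ (U i).hom := c.lift_snd _ _ _
  have hbig : IsPullback (k ≫ e) (hi i) g ((U i).hom ≫ f) := by
    have := (cY i).paste_horiz (cT i)
    rw [ha i, ← hke] at this
    exact this
  have hD : IsPullback k (hi i) h (U i).hom := IsPullback.of_right hbig hkh c
  -- outer rectangle through V
  have hO₂ := BcAbs.u0_isoAdj_vcomp (EtDesc.pushSh g) (EtDesc.pushSh (gi i)) (EtDesc.pushSh (hi i))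
    (EtDesc.pullSh (ti i)) (EtDesc.pushSh (ti i)) (EtDesc.adjSh (ti i))
    (EtDesc.pullSh (ei i)) (EtDesc.pushSh (ei i)) (EtDesc.adjSh (ei i))
    (EtDesc.pullSh (ei i ≫ ti i)) (EtDesc.pushSh (ei i ≫ ti i)) (EtDesc.adjSh (ei i ≫ ti i))
    (EtDesc.pushSh (V i).hom) (EtDesc.pushSh (a i)) (EtDesc.pushSh (a i ≫ (V i).hom))
    (EtLoc.gσ TT.{u} g (V i).hom (gi i) (ti i) (cT i).w)
    (EtLoc.gσ TT.{u} (gi i) (a i) (hi i) (ei i) (cY i).w)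
    (EtLoc.gσ TT.{u} g (a i ≫ (V i).hom) (hi i) (ei i ≫ ti i) ((cY i).paste_horiz (cT i)).w)
    (EtLoc.gpushComp TT.{u} (ti i) (ei i)) (EtLoc.gpushComp TT.{u} (V i).hom (a i))
    (fun M => EtLoc.gcoh (V i).hom g (gi i) (ti i) (cT i).w (a i) (hi i) (ei i) (cY i).w
      ((cY i).paste_horiz (cT i)).w M) F
    (isoAdj_etale g (V i).hom (gi i) (ti i) (cT i) F)
    ((bc0_iff (gi i) (a i) (hi i) (ei i) (cY i).w _).1 (hloc i))
  have hO₁ := isoAdj_congr g (hi i) (ha i) hke.symm ((cY i).paste_horiz (cT i)).w hbig.w F hO₂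
  -- cancellation
  have hv := BcAbs.u0_vcomp (EtDesc.pushSh g) (EtDesc.pushSh h) (EtDesc.pushSh (hi i))
    (EtDesc.pullSh e) (EtDesc.pushSh e) (EtDesc.adjSh e)
    (EtDesc.pullSh k) (EtDesc.pushSh k) (EtDesc.adjSh k)
    (EtDesc.pullSh (k ≫ e)) (EtDesc.pushSh (k ≫ e)) (EtDesc.adjSh (k ≫ e))
    (EtDesc.pushSh f) (EtDesc.pushSh (U i).hom) (EtDesc.pushSh ((U i).hom ≫ f))
    (EtLoc.gσ TT.{u} g f h e c.w)
    (EtLoc.gσ TT.{u} h (U i).hom (hi i) k hD.w)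
    (EtLoc.gσ TT.{u} g ((U i).hom ≫ f) (hi i) (k ≫ e) hbig.w)
    (EtLoc.gpushComp TT.{u} e k) (EtLoc.gpushComp TT.{u} f (U i).hom)
    (fun M => EtLoc.gcoh f g h e c.w (U i).hom (hi i) k hD.w hbig.w M) F
  exact BcAbs.isIso_map_of_pasting (EtLoc.gpushComp TT.{u} f (U i).hom) (EtDesc.adjSh f)
    (EtLoc.gadj TT.{u} (U i).hom) _ _ _ _ hv hO₁
    (isoAdj_etale h (U i).hom (hi i) k hD ((EtDesc.pullSh e).obj F))

end EtLocSh

end Groth.Agent.Lib.helper27
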