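import Mathlib

set_option autoImplicit false
set_option linter.unusedSectionVars false
set_option linter.unusedVariables false

namespace Groth.Agent.Lib.helper27

open CategoryTheory Limits Opposite Abelian

universe w v u

namespace ExtProd

variable {A : Type u} [Category.{v} A] [Abelian A] [HasExt.{w} A] [EnoughInjectives A]
  [HasProducts.{v} A] {I : Type v} (F : I → A)

/-- the injective hulls -/
noncomputable abbrev Iu (i : I) : A := Injective.under (F i)

/-- the product of the embeddings into injective hulls -/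
noncomputable abbrev m : ∏ᶜ F ⟶ ∏ᶜ (Iu F) := Limits.Pi.map (fun i => Injective.ι (F i))

instance : Mono (m F) := by
  unfold m
  infer_instance

instance : Injective (∏ᶜ (Iu F)) := by
  infer_instance

/-- the short complex of the product -/
noncomputable abbrev S : ShortComplex A := ShortComplex.mk (m F) (cokernel.π (m F)) (cokernel.condition _)

lemma hS : (S F).ShortExact :=
  ShortComplex.ShortExact.mk' (ShortComplex.exact_cokernel _)
    (inferInstanceAs (Mono (m F))) (inferInstanceAs (Epi (cokernel.π (m F))))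

/-- the short complexes of the factors -/
noncomputable abbrev Si (i : I) : ShortComplex A :=
  ShortComplex.mk (Injective.ι (F i)) (cokernel.π (Injective.ι (F i))) (cokernel.condition _)

lemma hSi (i : I) : (Si F i).ShortExact :=
  ShortComplex.ShortExact.mk' (ShortComplex.exact_cokernel _)
    (inferInstanceAs (Mono (Injective.ι (F i))))
    (inferInstanceAs (Epi (cokernel.π (Injective.ι (F i)))))

/-- the induced maps on cokernels -/
noncomputable def q (i : I) : cokernel (m F) ⟶ cokernel (Injective.ι (F i)) :=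
  cokernel.map (m F) (Injective.ι (F i)) (Pi.π F i) (Pi.π (Iu F) i) (by simp [m])

lemma π_q (i : I) : cokernel.π (m F) ≫ q F i = Pi.π (Iu F) i ≫ cokernel.π (Injective.ι (F i)) := by
  simp [q]

/-- the projection morphisms of short complexes -/
noncomputable def φ (i : I) : S F ⟶ Si F i :=
  ShortComplex.homMk (Pi.π F i) (Pi.π (Iu F) i) (q F i) (by simp [S, Si, m]) (by
    simp [S, Si, π_q])


/-- the comparison from the cokernel of the product to the product of the cokernels -/
noncomputable abbrev j : cokernel (m F) ⟶ ∏ᶜ (fun i => cokernel (Injective.ι (F i))) :=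
  Pi.lift (fun i => q F i)

instance mono_j : Mono (j F) := by
  apply Preadditive.mono_of_cancel_zero
  intro K k hk
  obtain ⟨K', p, hp, l, hl⟩ := surjective_up_to_refinements_of_epi (cokernel.π (m F)) k
  have h1 : ∀ i, (l ≫ Pi.π (Iu F) i) ≫ (Si F i).g = 0 := by
    intro i
    show (l ≫ Pi.π (Iu F) i) ≫ cokernel.π (Injective.ι (F i)) = 0
    rw [Category.assoc, ← π_q, ← Category.assoc, ← hl, Category.assoc]
    have : k ≫ q F i = 0 := by
      have := congrArg (fun f => f ≫ Pi.π _ i) hk
      simpa [j] using this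
    rw [this, comp_zero]
  let li : ∀ i, K' ⟶ F i := fun i =>
    haveI : Mono (Si F i).f := inferInstanceAs (Mono (Injective.ι (F i)))
    (hSi F i).exact.lift (l ≫ Pi.π (Iu F) i) (h1 i)
  have hli : ∀ i, li i ≫ Injective.ι (F i) = l ≫ Pi.π (Iu F) i := fun i =>
    haveI : Mono (Si F i).f := inferInstanceAs (Mono (Injective.ι (F i)))
    (hSi F i).exact.lift_f _ _
  have h2 : l = Pi.lift li ≫ m F := by
    apply Pi.hom_ext
    intro i
    simp [m, hli]
  rw [← cancel_epi p, comp_zero, hl, h2, Category.assoc, cokernel.condition, comp_zero]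

variable (X : A)

/-- `Ext^1` into a product injects into the product of the `Ext^1` -/
theorem ext_one_eq_zero (x : Ext.{w} X (∏ᶜ F) 1)
    (hx : ∀ i, x.comp (Ext.mk₀ (Pi.π F i)) (add_zero 1) = 0) : x = 0 := by
  have hx0 : x.comp (Ext.mk₀ (S F).f) (add_zero 1) = 0 := by
    have : Injective (S F).X₂ := inferInstanceAs (Injective (∏ᶜ (Iu F)))
    exact Ext.eq_zero_of_injective _
  obtain ⟨b', hb'⟩ := Ext.covariant_sequence_exact₁ X (hS F) x hx0 (rfl : 0 + 1 = 1)
  obtain ⟨b, rfl⟩ := (Ext.mk₀_bijective _ _).2 b'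
  have h3 : ∀ i, (Ext.mk₀ (b ≫ q F i)).comp (hSi F i).extClass (zero_add 1) = 0 := by
    intro i
    have hn := ShortComplex.ShortExact.extClass_naturality (hS F) (hSi F i) (φ F i)
    have hτ₁ : (φ F i).τ₁ = Pi.π F i := rfl
    have hτ₃ : (φ F i).τ₃ = q F i := rfl
    rw [hτ₁, hτ₃] at hn
    rw [← Ext.mk₀_comp_mk₀, Ext.comp_assoc_of_second_deg_zero, ← hn,
      ← Ext.comp_assoc_of_third_deg_zero, hb', hx i]
  choose c' hc' using fun i => Ext.covariant_sequence_exact₃ X (hSi F i) (Ext.mk₀ (b ≫ q F i)) rfl (h3 i)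
  choose c hc using fun i => (Ext.mk₀_bijective _ _).2 (c' i)
  have hcg : ∀ i, c i ≫ cokernel.π (Injective.ι (F i)) = b ≫ q F i := by
    intro i
    apply (Ext.mk₀_bijective _ _).1
    rw [← hc' i, ← hc i, Ext.mk₀_comp_mk₀]
  have h5 : Pi.lift c ≫ cokernel.π (m F) = b := by
    rw [← cancel_mono (j F)]
    apply Pi.hom_ext
    intro i
    simp only [j, Category.assoc, Pi.lift_π]
    rw [π_q, ← Category.assoc, Pi.lift_π, hcg]
  rw [← hb', ← h5, ← Ext.mk₀_comp_mk₀, Ext.comp_assoc_of_second_deg_zero]
  have : (Ext.mk₀ (cokernel.π (m F))).comp (hS F).extClass (zero_add 1) = 0 :=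
    (hS F).comp_extClass
  rw [this, Ext.comp_zero]

end ExtProd

end Groth.Agent.Lib.helper27
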