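import Mathlib

/-!
# Orthogonal decompositions in triangulated categories (helper27)

`extensionProduct_isTriangulated`: if `P`, `Q` are triangulated object properties of a triangulated
category with `Hom(P, Q) = 0`, then the class `P * Q` of objects `X` sitting in a distinguished
triangle `A ⟶ X ⟶ B ⟶ A⟦1⟧` with `P A` and `Q B` is again triangulated.
-/

open CategoryTheory Limits Pretriangulated ObjectProperty

universe v u

namespace Groth.Agent.Lib.helper27

variable {C : Type u} [Category.{v} C] [Preadditive C] [HasZeroObject C] [HasShift C ℤ]
    [∀ n : ℤ, (shiftFunctor C n).Additive] [Pretriangulated C]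

theorem extensionProduct_swap_le (P Q : ObjectProperty C) [Q.IsStableUnderShift ℤ]
    (h : ∀ (X Y : C) (f : X ⟶ Y), P X → Q Y → f = 0) :
    extensionProduct Q P ≤ extensionProduct P Q := by
  intro X ⟨Y, Z, f, g, k, hT, hQ, hP⟩
  have hk : k = 0 := h _ _ k hP (Q.le_shift (1 : ℤ) _ hQ)
  obtain ⟨e, -, -⟩ := exists_iso_binaryBiproduct_of_distTriang _ hT hk
  refine (extensionProduct P Q).prop_of_iso (e ≪≫ biprod.braiding _ _).symm ?_
  exact ⟨_, _, _, _, _, binaryBiproductTriangle_distinguished Z Y, hP, hQ⟩

theorem extensionProduct_isTriangulated [IsTriangulated C]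
    (P Q : ObjectProperty C) [P.IsTriangulated] [Q.IsTriangulated]
    (h : ∀ (X Y : C) (f : X ⟶ Y), P X → Q Y → f = 0) :
    (extensionProduct P Q).IsTriangulated := by
  have hzero : (extensionProduct P Q).ContainsZero := by
    obtain ⟨Z, hZ, hP⟩ := P.exists_prop_of_containsZero
    exact ⟨Z, hZ, le_extensionProduct_left Q _ hP⟩
  have hmul : extensionProduct (extensionProduct P Q) (extensionProduct P Q) ≤
      extensionProduct P Q := by
    calc extensionProduct (extensionProduct P Q) (extensionProduct P Q)
        = extensionProduct P (extensionProduct (extensionProduct Q P) Q) := by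
          rw [extensionProduct_assoc, extensionProduct_assoc]
      _ ≤ extensionProduct P (extensionProduct (extensionProduct P Q) Q) :=
          monotone_extensionProduct_right _
            (monotone_extensionProduct_left _ (extensionProduct_swap_le P Q h))
      _ = extensionProduct (extensionProduct P P) (extensionProduct Q Q) := by
          rw [extensionProduct_assoc, extensionProduct_assoc]
      _ ≤ extensionProduct P.isoClosure Q.isoClosure :=
          (monotone_extensionProduct_left _
            (extensionProduct_le_of_isTriangulatedClosed₂' le_rfl le_rfl)).trans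
          (monotone_extensionProduct_right _
            (extensionProduct_le_of_isTriangulatedClosed₂' le_rfl le_rfl))
      _ = extensionProduct P Q := by
          rw [extensionProduct_isoClosure_left, extensionProduct_isoClosure_right]
  have : (extensionProduct P Q).IsTriangulatedClosed₂ :=
    .mk' (fun T hT h₁ h₃ => hmul _ ⟨_, _, _, _, _, hT, h₁, h₃⟩)
  exact { }

end Groth.Agent.Lib.helper27
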