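import Mathlib
import Groth.Agent.Lib.Helper27.CosimpLim4

set_option autoImplicit false
set_option linter.unusedSectionVars false
set_option linter.unusedVariables false
set_option linter.style.haveILetI false

namespace Groth.Agent.Lib.helper27

open CategoryTheory Limits

universe u

namespace FamExact

open CosimpLim

/-- exactness of the alternating coface map complex of a cosimplicial abelian group which is a
"filtered union" of a family of cosimplicial abelian groups with exact complexes -/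
theorem exactAt_of_family {ι : Type*} (A : ι → (SimplexCategory ⥤ AddCommGrpCat.{u}))
    (A' : SimplexCategory ⥤ AddCommGrpCat.{u}) (γ : ∀ i, A i ⟶ A')
    (hsurj : ∀ (k : SimplexCategory) (a : A'.obj k), ∃ (i : ι) (t : (A i).obj k),
      (γ i).app k t = a)
    (hinj : ∀ (i : ι) (k : SimplexCategory) (t : (A i).obj k), (γ i).app k t = 0 →
      ∃ (i' : ι) (r : A i ⟶ A i'), r ≫ γ i' = γ i ∧ r.app k t = 0)
    (m : ℕ) (hex : ∀ i, ((Cfun (𝒜 := AddCommGrpCat.{u})).obj (A i)).ExactAt (m + 1)) :
    ((Cfun (𝒜 := AddCommGrpCat.{u})).obj A').ExactAt (m + 1) := by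
  let C' := (Cfun (𝒜 := AddCommGrpCat.{u})).obj A'
  rw [HomologicalComplex.exactAt_iff' C' m (m + 1) (m + 2) (by simp) (by simp),
    ShortComplex.ab_exact_iff]
  intro x₂ hx₂
  obtain ⟨i, t, ht⟩ := hsurj (SimplexCategory.mk (m + 1)) x₂
  let Ci := (Cfun (𝒜 := AddCommGrpCat.{u})).obj (A i)
  let g := (Cfun (𝒜 := AddCommGrpCat.{u})).map (γ i)
  have hc1 : (γ i).app (SimplexCategory.mk (m + 2)) (Ci.d (m + 1) (m + 2) t) =
      C'.d (m + 1) (m + 2) ((γ i).app (SimplexCategory.mk (m + 1)) t) :=
    (ConcreteCategory.congr_hom (g.comm (m + 1) (m + 2)) t).symm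
  have hc2 : (γ i).app (SimplexCategory.mk (m + 2)) (Ci.d (m + 1) (m + 2) t) = 0 := by
    rw [hc1, ht]
    exact hx₂
  obtain ⟨i', r, hr, hr0⟩ := hinj i (SimplexCategory.mk (m + 2)) _ hc2
  let Ci' := (Cfun (𝒜 := AddCommGrpCat.{u})).obj (A i')
  let gr := (Cfun (𝒜 := AddCommGrpCat.{u})).map r
  let g' := (Cfun (𝒜 := AddCommGrpCat.{u})).map (γ i')
  have hd : Ci'.d (m + 1) (m + 2) (r.app (SimplexCategory.mk (m + 1)) t) = 0 := by
    have := ConcreteCategory.congr_hom (gr.comm (m + 1) (m + 2)) t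
    exact this.trans hr0
  have hex' := hex i'
  rw [HomologicalComplex.exactAt_iff' Ci' m (m + 1) (m + 2) (by simp) (by simp),
    ShortComplex.ab_exact_iff] at hex'
  obtain ⟨b, hb⟩ := hex' (r.app (SimplexCategory.mk (m + 1)) t) hd
  refine ⟨(γ i').app (SimplexCategory.mk m) b, ?_⟩
  have h1 : C'.d m (m + 1) ((γ i').app (SimplexCategory.mk m) b) =
      (γ i').app (SimplexCategory.mk (m + 1)) (Ci'.d m (m + 1) b) :=
    ConcreteCategory.congr_hom (g'.comm m (m + 1)) b
  have h2 : (γ i').app (SimplexCategory.mk (m + 1)) (r.app (SimplexCategory.mk (m + 1)) t) =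
      (γ i).app (SimplexCategory.mk (m + 1)) t := by
    have := congrArg (fun f => f.app (SimplexCategory.mk (m + 1))) hr
    exact ConcreteCategory.congr_hom this t
  refine h1.trans ?_
  have hb' : Ci'.d m (m + 1) b = r.app (SimplexCategory.mk (m + 1)) t := hb
  rw [hb', h2]
  exact ht

end FamExact

end Groth.Agent.Lib.helper27
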