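import Mathlib
import Groth.Prelude.Def_CohTop
import Groth.Agent.Lib.Helper27.PullGerm

set_option autoImplicit false
set_option backward.isDefEq.respectTransparency false
set_option linter.unusedVariables false
set_option linter.unusedSectionVars false

/-!
# Sections of an inverse image as locally representable families of germs
-/

namespace Groth.Agent.Lib.helper27

open CategoryTheory Limits Opposite TopologicalSpace

universe u

namespace LHSec

variable {Y S : TopCat.{u}} (g : Y ⟶ S) (G : CohTop.Ab S)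

/-- the stalk of `G` at `s`, as a type -/
abbrev Stk (G : CohTop.Ab S) (s : S) : Type u := ↑(TopCat.Presheaf.stalk G.obj s)

/-- the germ map as a function -/
noncomputable abbrev gm (G : CohTop.Ab S) (U : Opens S) (s : S) (hs : s ∈ U) (t : G.obj.obj (op U)) :
    Stk G s := TopCat.Presheaf.germ G.obj U s hs t

/-- local representability of a family of germs along `g` -/
def IsLocRep (V : Opens Y) (σ : ∀ y : V, Stk G (g y.1)) : Prop :=
  ∀ y : V, ∃ (N : Opens Y) (U : Opens S) (s : G.obj.obj (op U)) (hNV : N ≤ V)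
    (hNU : N ≤ (Opens.map g).obj U), y.1 ∈ N ∧
      ∀ (y' : Y) (h : y' ∈ N), σ ⟨y', hNV h⟩ = gm G U (g y') (hNU h) s

/-- the group of locally representable families of germs over `V` -/
noncomputable def SecOn (V : Opens Y) : AddSubgroup (∀ y : V, Stk G (g y.1)) where
  carrier := {σ | IsLocRep g G V σ}
  zero_mem' := by
    intro y
    refine ⟨V, ⊤, 0, le_rfl, fun _ _ => trivial, y.2, fun y' h => ?_⟩
    simp [gm]
  add_mem' := by
    intro σ τ hσ hτ y
    obtain ⟨N, U, s, hNV, hNU, hy, h⟩ := hσ y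
    obtain ⟨N', U', s', hNV', hNU', hy', h'⟩ := hτ y
    refine ⟨N ⊓ N', U ⊓ U', G.obj.map (homOfLE inf_le_left).op s +
      G.obj.map (homOfLE inf_le_right).op s', inf_le_left.trans hNV,
      fun z hz => ⟨hNU hz.1, hNU' hz.2⟩, ⟨hy, hy'⟩, fun y' hy'' => ?_⟩
    show σ _ + τ _ = _
    rw [h y' hy''.1, h' y' hy''.2]
    simp only [gm, map_add]
    rw [TopCat.Presheaf.germ_res_apply, TopCat.Presheaf.germ_res_apply]
  neg_mem' := by
    intro σ hσ y
    obtain ⟨N, U, s, hNV, hNU, hy, h⟩ := hσ y
    refine ⟨N, U, -s, hNV, hNU, hy, fun y' hy'' => ?_⟩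
    show - σ _ = _
    rw [h y' hy'']
    simp [gm]

/-- the stalk comparison as an additive equivalence -/
noncomputable def ΦE (y : Y) :
    Stk G (g y) ≃+ ↑(TopCat.Presheaf.stalk ((CohTop.pull g).obj G).obj y) :=
  AddEquiv.ofBijective (PullGerm.Φ g G y).hom (PullGerm.Φ_bijective g G y)

lemma ΦE_gm (y : Y) (U : Opens S) (hy : g y ∈ U) (s : G.obj.obj (op U)) :
    ΦE g G y (gm G U (g y) hy s) =
      TopCat.Presheaf.germ ((CohTop.pull g).obj G).obj ((Opens.map g).obj U) y hy
        (PullGerm.ρ g G U s) :=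
  PullGerm.germ_unit_apply g G y U hy s

/-- the family of germs of a section of the inverse image -/
noncomputable def toFam (V : Opens Y) (t : ((CohTop.pull g).obj G).obj.obj (op V)) :
    ∀ y : V, Stk G (g y.1) :=
  fun y => (ΦE g G y.1).symm (TopCat.Presheaf.germ ((CohTop.pull g).obj G).obj V y.1 y.2 t)

lemma toFam_isLocRep (V : Opens Y) (t : ((CohTop.pull g).obj G).obj.obj (op V)) :
    IsLocRep g G V (toFam g G V t) := by
  intro y
  obtain ⟨U, hyU, s, hs⟩ := PullGerm.exists_local_rep g G V t y.1 y.2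
  obtain ⟨N, hyN, i₁, i₂, e⟩ := TopCat.Presheaf.germ_eq _ y.1 y.2 hyU t (PullGerm.ρ g G U s) hs
  refine ⟨N, U, s, i₁.le, i₂.le, hyN, fun y' hy' => ?_⟩
  unfold toFam
  rw [AddEquiv.symm_apply_eq, ΦE_gm]
  rw [← TopCat.Presheaf.germ_res_apply _ i₁ y' hy' t, e, TopCat.Presheaf.germ_res_apply]

lemma toFam_add (V : Opens Y) (t t' : ((CohTop.pull g).obj G).obj.obj (op V)) :
    toFam g G V (t + t') = toFam g G V t + toFam g G V t' := by
  funext y
  simp [toFam]

lemma toFam_injective (V : Opens Y) : Function.Injective (toFam g G V) := by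
  intro t t' h
  apply TopCat.Presheaf.section_ext ((CohTop.pull g).obj G) V
  intro y hy
  have := congrFun h ⟨y, hy⟩
  exact (ΦE g G y).symm.injective this

lemma toFam_surjective (V : Opens Y) (σ : ∀ y : V, Stk G (g y.1)) (hσ : IsLocRep g G V σ) :
    ∃ t, toFam g G V t = σ := by
  choose N U s hNV hNU hy h using hσ
  obtain ⟨sf, hgerm⟩ : ∃ sf : ∀ y : V, ((CohTop.pull g).obj G).obj.obj (op (N y)),
      ∀ (y : V) (y' : Y) (hy' : y' ∈ N y),
      TopCat.Presheaf.germ ((CohTop.pull g).obj G).obj (N y) y' hy' (sf y) =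
        ΦE g G y' (σ ⟨y', hNV y hy'⟩) := by
    refine ⟨fun y => ((CohTop.pull g).obj G).obj.map (homOfLE (hNU y)).op
      (PullGerm.ρ g G (U y) (s y)), fun y y' hy' => ?_⟩
    rw [h y y' hy', ΦE_gm]
    exact TopCat.Presheaf.germ_res_apply _ _ _ _ _
  have hcompat : TopCat.Presheaf.IsCompatible ((CohTop.pull g).obj G).obj N sf := by
    intro y₁ y₂
    apply TopCat.Presheaf.section_ext ((CohTop.pull g).obj G)
    intro y' hy'
    have e1 := TopCat.Presheaf.germ_res_apply ((CohTop.pull g).obj G).obj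
      (Opens.infLELeft (N y₁) (N y₂)) y' hy' (sf y₁)
    have e2 := TopCat.Presheaf.germ_res_apply ((CohTop.pull g).obj G).obj
      (Opens.infLERight (N y₁) (N y₂)) y' hy' (sf y₂)
    exact e1.trans ((hgerm y₁ y' hy'.1).trans ((hgerm y₂ y' hy'.2).symm.trans e2.symm))
  obtain ⟨t, ht, -⟩ := TopCat.Sheaf.existsUnique_gluing' ((CohTop.pull g).obj G) N V
    (fun y => homOfLE (hNV y))
    (fun y hyV => Opens.mem_iSup.2 ⟨⟨y, hyV⟩, hy ⟨y, hyV⟩⟩) sf hcompat
  refine ⟨t, ?_⟩
  funext y
  unfold toFam
  rw [AddEquiv.symm_apply_eq, ← hgerm y y.1 (hy y), ← ht y, TopCat.Presheaf.germ_res_apply]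

/-- the additive map to families -/
noncomputable def toFamHom (V : Opens Y) :
    ((CohTop.pull g).obj G).obj.obj (op V) →+ SecOn g G V where
  toFun := fun t => ⟨toFam g G V t, toFam_isLocRep g G V t⟩
  map_zero' := by
    apply Subtype.ext
    funext y
    simp [toFam]
  map_add' := fun t t' => Subtype.ext (toFam_add g G V t t')

/-- sections of the inverse image over `V` are the locally representable families of germs -/
noncomputable def secEquiv (V : Opens Y) :
    ((CohTop.pull g).obj G).obj.obj (op V) ≃+ SecOn g G V :=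
  AddEquiv.ofBijective (toFamHom g G V)
    ⟨fun t t' h => toFam_injective g G V (congrArg Subtype.val h),
      fun σ => by
        obtain ⟨t, ht⟩ := toFam_surjective g G V σ.1 σ.2
        exact ⟨t, Subtype.ext ht⟩⟩

lemma secEquiv_apply (V : Opens Y) (t : ((CohTop.pull g).obj G).obj.obj (op V)) (y : V) :
    (secEquiv g G V t).1 y =
      (ΦE g G y.1).symm (TopCat.Presheaf.germ ((CohTop.pull g).obj G).obj V y.1 y.2 t) := by
  simp only [secEquiv, AddEquiv.ofBijective_apply]
  rfl

/-- compatibility with restriction -/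
lemma secEquiv_res {V V' : Opens Y} (hV : V' ≤ V) (t : ((CohTop.pull g).obj G).obj.obj (op V))
    (y : V') :
    (secEquiv g G V' (((CohTop.pull g).obj G).obj.map (homOfLE hV).op t)).1 y =
      (secEquiv g G V t).1 ⟨y.1, hV y.2⟩ := by
  rw [secEquiv_apply, secEquiv_apply, TopCat.Presheaf.germ_res_apply]

section nat

variable {G} {G' : CohTop.Ab S} (φ : G ⟶ G')

/-- the map on stalks -/
noncomputable abbrev stkMap (s : S) : Stk G s →+ Stk G' s :=
  ((TopCat.Presheaf.stalkFunctor AddCommGrpCat.{u} s).map φ.hom).hom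

lemma Φ_naturality (y : Y) :
    (TopCat.Presheaf.stalkFunctor AddCommGrpCat.{u} (g y)).map φ.hom ≫ PullGerm.Φ g G' y =
      PullGerm.Φ g G y ≫
        (TopCat.Presheaf.stalkFunctor AddCommGrpCat.{u} y).map ((CohTop.pull g).map φ).hom := by
  apply TopCat.Presheaf.stalk_hom_ext
  intro U hy
  have h1 : TopCat.Presheaf.germ G.obj U (g y) hy ≫
      (TopCat.Presheaf.stalkFunctor AddCommGrpCat.{u} (g y)).map φ.hom =
      φ.hom.app (op U) ≫ TopCat.Presheaf.germ G'.obj U (g y) hy :=
    TopCat.Presheaf.stalkFunctor_map_germ U (g y) hy φ.hom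
  have h2 := PullGerm.germ_unit g G' y U hy
  have h3 := PullGerm.germ_unit g G y U hy
  have h4 : TopCat.Presheaf.germ ((CohTop.pull g).obj G).obj ((Opens.map g).obj U) y hy ≫
      (TopCat.Presheaf.stalkFunctor AddCommGrpCat.{u} y).map ((CohTop.pull g).map φ).hom =
      ((CohTop.pull g).map φ).hom.app (op ((Opens.map g).obj U)) ≫
        TopCat.Presheaf.germ ((CohTop.pull g).obj G').obj ((Opens.map g).obj U) y hy :=
    TopCat.Presheaf.stalkFunctor_map_germ ((Opens.map g).obj U) y hy ((CohTop.pull g).map φ).hom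
  have h5 : φ.hom.app (op U) ≫ PullGerm.ρ g G' U =
      PullGerm.ρ g G U ≫ ((CohTop.pull g).map φ).hom.app (op ((Opens.map g).obj U)) := by
    have := (PullConst.pbAdj g).unit.naturality φ
    exact congrArg (fun α => α.hom.app (op U)) this
  rw [← Category.assoc, h1, Category.assoc, h2, ← Category.assoc, h5, Category.assoc, ← h4,
    ← Category.assoc, ← h3, Category.assoc]

lemma ΦE_naturality (y : Y) (a : Stk G (g y)) :
    ΦE g G' y (stkMap φ (g y) a) =
      ((TopCat.Presheaf.stalkFunctor AddCommGrpCat.{u} y).map ((CohTop.pull g).map φ).hom).hom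
        (ΦE g G y a) := by
  have := ConcreteCategory.congr_hom (Φ_naturality g φ y) a
  rw [ConcreteCategory.comp_apply, ConcreteCategory.comp_apply] at this
  exact this

/-- compatibility with morphisms of sheaves -/
lemma secEquiv_map (V : Opens Y) (t : ((CohTop.pull g).obj G).obj.obj (op V)) (y : V) :
    (secEquiv g G' V (((CohTop.pull g).map φ).hom.app (op V) t)).1 y =
      stkMap φ (g y.1) ((secEquiv g G V t).1 y) := by
  rw [secEquiv_apply, secEquiv_apply, AddEquiv.symm_apply_eq, ΦE_naturality,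
    AddEquiv.apply_symm_apply]
  exact (TopCat.Presheaf.stalkFunctor_map_germ_apply V y.1 y.2 ((CohTop.pull g).map φ).hom t).symm

end nat

end LHSec

end Groth.Agent.Lib.helper27
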