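import Mathlib

set_option autoImplicit false
universe u

open CategoryTheory TopologicalSpace Opposite

namespace Groth.Agent.Lib.helper27.QHomC

variable {X₀ X : TopCat.{u}}

/-- sheaf of abelian groups of all dependent functions into a family of abelian groups -/
def funPre (T : X → Type u) [∀ x, AddCommGroup (T x)] : TopCat.Presheaf AddCommGrpCat.{u} X where
  obj V := AddCommGrpCat.of (∀ x : (unop V : Opens X), T x)
  map {V V'} i := AddCommGrpCat.ofHom
    { toFun := fun g x => g ⟨x.1, leOfHom i.unop x.2⟩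
      map_zero' := rfl
      map_add' := fun _ _ => rfl }

lemma funPre_isSheaf (T : X → Type u) [∀ x, AddCommGroup (T x)] : (funPre T).IsSheaf := by
  rw [TopCat.Presheaf.isSheaf_iff_isSheaf_comp (forget AddCommGrpCat.{u})]
  exact (TopCat.Presheaf.isSheaf_iso_iff
    (NatIso.ofComponents (fun _ => Iso.refl _) (fun _ => rfl) :
      funPre T ⋙ forget AddCommGrpCat.{u} ≅ TopCat.presheafToTypes X T)).mpr
    (TopCat.Presheaf.toTypes_isSheaf X T)

def funSheaf (T : X → Type u) [∀ x, AddCommGroup (T x)] : TopCat.Sheaf AddCommGrpCat.{u} X :=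
  ⟨funPre T, funPre_isSheaf T⟩

end Groth.Agent.Lib.helper27.QHomC

namespace Groth.Agent.Lib.helper27.QHomC

variable {X₀ X : TopCat.{u}} (f : X₀ ⟶ X)

lemma injective_ab [(TopCat.Sheaf.pushforward AddCommGrpCat.{u} f).EssSurj] :
    Function.Injective (fun U : Opens X => (Opens.map f).obj U) := by
  have key : ∀ U V : Opens X, (Opens.map f).obj U = (Opens.map f).obj V → U ≤ V := by
    intro U V h x hxU
    by_contra hxV
    let S : TopCat.Sheaf AddCommGrpCat.{u} X := funSheaf (fun y : X => (PLift (y = x) → ULift.{u} ℤ))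
    let G := (TopCat.Sheaf.pushforward AddCommGrpCat.{u} f).objPreimage S
    let e : (TopCat.Sheaf.pushforward AddCommGrpCat.{u} f).obj G ≅ S :=
      (TopCat.Sheaf.pushforward AddCommGrpCat.{u} f).objObjPreimageIso S
    let e' := (TopCat.Sheaf.forget AddCommGrpCat.{u} X).mapIso e
    let eU : G.obj.obj (op ((Opens.map f).obj U)) ≃+ (∀ y : U, (PLift (y.1 = x) → ULift.{u} ℤ)) :=
      (e'.app (op U)).addCommGroupIsoToAddEquiv
    let eV : G.obj.obj (op ((Opens.map f).obj V)) ≃+ (∀ y : V, (PLift (y.1 = x) → ULift.{u} ℤ)) :=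
      (e'.app (op V)).addCommGroupIsoToAddEquiv
    have hsub : Subsingleton (∀ y : V, (PLift (y.1 = x) → ULift.{u} ℤ)) :=
      ⟨fun a b => by
        funext y hy
        exact absurd (hy.down ▸ y.2) hxV⟩
    have hsubG : Subsingleton (G.obj.obj (op ((Opens.map f).obj V))) := eV.toEquiv.subsingleton
    have hsubG' : Subsingleton (G.obj.obj (op ((Opens.map f).obj U))) := by rw [h]; exact hsubG
    have hsubU : Subsingleton (∀ y : U, (PLift (y.1 = x) → ULift.{u} ℤ)) := eU.symm.toEquiv.subsingleton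
    have : (fun (y : U) (_ : PLift (y.1 = x)) => (⟨1⟩ : ULift.{u} ℤ)) = fun _ _ => ⟨0⟩ :=
      Subsingleton.elim _ _
    have h2 := congr_fun (congr_fun this ⟨x, hxU⟩) ⟨rfl⟩
    simpa using congr_arg ULift.down h2
  intro U V h
  exact le_antisymm (key U V h) (key V U h.symm)

end Groth.Agent.Lib.helper27.QHomC

namespace Groth.Agent.Lib.helper27.QHomC

variable {X₀ X : TopCat.{u}} (f : X₀ ⟶ X)

lemma surjective_ab [(TopCat.Sheaf.pushforward AddCommGrpCat.{u} f).Full] :
    Function.Surjective (fun U : Opens X => (Opens.map f).obj U) := by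
  intro W₀
  let U₀ : Opens X := sSup {U | (Opens.map f).obj U ≤ W₀}
  have h1 : (Opens.map f).obj U₀ ≤ W₀ := by
    intro x hx
    obtain ⟨U, hU, hxU⟩ := Opens.mem_sSup.mp (show f x ∈ U₀ from hx)
    exact hU hxU
  refine ⟨U₀, le_antisymm h1 ?_⟩
  intro x₀ hx₀
  by_contra hx₀U
  -- the sheaf of functions on the complement of W₀
  let G : TopCat.Sheaf AddCommGrpCat.{u} X₀ :=
    funSheaf (fun y : X₀ => (PLift (y ∉ W₀) → ULift.{u} ℤ))
  let F := (TopCat.Sheaf.pushforward AddCommGrpCat.{u} f).obj G
  let M : AddCommGrpCat.{u} := TopCat.Presheaf.stalk F.obj (f x₀)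
  let Sk : TopCat.Sheaf AddCommGrpCat.{u} X₀ :=
    funSheaf (fun y : X₀ => (PLift (y = x₀) → M))
  let α : F ⟶ (TopCat.Sheaf.pushforward AddCommGrpCat.{u} f).obj Sk :=
    ⟨{ app := fun U => AddCommGrpCat.ofHom
        { toFun := fun s x hx => TopCat.Presheaf.germ F.obj (unop U) (f x₀) (by
            have := x.2
            rw [hx.down] at this
            exact this) s
          map_zero' := by
            funext x hx
            exact map_zero _
          map_add' := fun a b => by
            funext x hx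
            exact map_add _ _ _ }
       naturality := fun U V i => by
        ext s
        funext x hx
        exact TopCat.Presheaf.germ_res_apply' F.obj i (f x₀) _ s }⟩
  let β := (TopCat.Sheaf.pushforward AddCommGrpCat.{u} f).preimage α
  have hβ : (TopCat.Sheaf.pushforward AddCommGrpCat.{u} f).map β = α :=
    (TopCat.Sheaf.pushforward AddCommGrpCat.{u} f).map_preimage α
  -- sections of G over opens inside W₀ vanish
  have hsub : ∀ V : Opens X₀, V ≤ W₀ → Subsingleton (G.obj.obj (op V)) := by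
    intro V hV
    refine ⟨fun a b => ?_⟩
    funext y hy
    exact absurd (hV y.2) hy.down
  -- all germs at f x₀ vanish
  have hgerm : ∀ (U : Opens X) (hU : f x₀ ∈ U) (s : F.obj.obj (op U)),
      TopCat.Presheaf.germ F.obj U (f x₀) hU s = 0 := by
    intro U hU s
    have e1 : (α.hom.app (op U)).hom s =
        (β.hom.app (op ((Opens.map f).obj U))).hom s := by
      rw [← hβ]
      rfl
    have e2 : TopCat.Presheaf.germ F.obj U (f x₀) hU s =
        (β.hom.app (op ((Opens.map f).obj U))).hom s ⟨x₀, hU⟩ ⟨rfl⟩ := by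
      rw [← e1]
      rfl
    rw [e2]
    let i : (Opens.map f).obj U ⊓ W₀ ⟶ (Opens.map f).obj U := homOfLE inf_le_left
    have nat := β.hom.naturality i.op
    have nat' := congr_arg (fun φ => φ.hom s) nat
    simp only [AddCommGrpCat.hom_comp, AddMonoidHom.comp_apply] at nat'
    have := hsub ((Opens.map f).obj U ⊓ W₀) inf_le_right
    have hz : (G.obj.map i.op).hom s = 0 := Subsingleton.elim _ _
    rw [hz, map_zero] at nat'
    have := congr_fun (congr_fun nat' ⟨x₀, ⟨hU, hx₀⟩⟩) ⟨rfl⟩
    exact this.symm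
  -- the constant section 1
  let one : F.obj.obj (op ⊤) := fun _ _ => (⟨1⟩ : ULift.{u} ℤ)
  have g1 := hgerm ⊤ trivial one
  have g0 : TopCat.Presheaf.germ F.obj ⊤ (f x₀) trivial (0 : F.obj.obj (op ⊤)) = 0 := map_zero _
  obtain ⟨W, hW, iU, iV, hres⟩ :=
    TopCat.Presheaf.germ_eq F.obj (U := ⊤) (V := ⊤) (f x₀) trivial trivial one 0 (g1.trans g0.symm)
  have hWle : (Opens.map f).obj W ≤ W₀ := by
    intro y hy
    by_contra hyW
    have := congr_fun (congr_fun hres ⟨y, hy⟩) ⟨hyW⟩
    have h2 : (1 : ℤ) = 0 := congr_arg ULift.down this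
    exact one_ne_zero h2
  have : W ≤ U₀ := le_sSup hWle
  exact hx₀U (this hW)

end Groth.Agent.Lib.helper27.QHomC
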