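import Mathlib
import Groth.Prelude.Def_CohTop
import Groth.Agent.Lib.Helper27.LHSec
import Groth.Agent.Lib.Helper27.QHomC

set_option autoImplicit false
set_option backward.isDefEq.respectTransparency false
set_option linter.unusedVariables false
set_option linter.unusedSectionVars false

/-!
# Sheaves of all functions and their inverse images along local homeomorphisms
-/

namespace Groth.Agent.Lib.helper27

open CategoryTheory Limits Opposite TopologicalSpace

universe u

namespace LHFun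

open LHSec

variable {Y S : TopCat.{u}} (D : Type u) [AddCommGroup D]

/-- the sheaf of all functions into `D` -/
abbrev funD (S : TopCat.{u}) (D : Type u) [AddCommGroup D] : CohTop.Ab S :=
  QHomC.funSheaf (fun _ : S => D)

/-- the evaluation cocone -/
def evCocone (s : S) : Cocone ((OpenNhds.inclusion s).op ⋙ (funD S D).obj) where
  pt := AddCommGrpCat.of D
  ι :=
    { app := fun W => AddCommGrpCat.ofHom
        { toFun := fun t => t ⟨s, W.unop.2⟩
          map_zero' := rfl
          map_add' := fun _ _ => rfl }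
      naturality := fun _ _ _ => rfl }

/-- evaluation of germs of functions -/
noncomputable def evS (s : S) : Stk (funD S D) s →+ D :=
  (colimit.desc _ (evCocone D s)).hom

lemma evS_gm (s : S) (U : Opens S) (hs : s ∈ U) (t : (funD S D).obj.obj (op U)) :
    evS D s (gm (funD S D) U s hs t) = t ⟨s, hs⟩ := by
  have h : TopCat.Presheaf.germ (funD S D).obj U s hs ≫ colimit.desc _ (evCocone D s) =
      (evCocone D s).ι.app (op ⟨U, hs⟩) :=
    colimit.ι_desc (evCocone D s) (op ⟨U, hs⟩)
  exact ConcreteCategory.congr_hom h t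

variable (g : Y ⟶ S)

/-- the values of a family of germs of functions -/
noncomputable def evFam (V : Opens Y) : SecOn g (funD S D) V →+ (V → D) where
  toFun σ := fun y => evS D (g y.1) (σ.1 y)
  map_zero' := by
    funext y
    simp
  map_add' σ τ := by
    funext y
    simp

variable (ho : IsOpenMap g) (hi : ∀ y : Y, ∃ N : Opens Y, y ∈ N ∧ Set.InjOn g (N : Set Y))

include ho in
lemma evFam_injective (V : Opens Y) : Function.Injective (evFam D g V) := by
  rw [injective_iff_map_eq_zero]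
  intro σ hσ
  apply Subtype.ext
  funext y
  obtain ⟨N, U, s, hNV, hNU, hy, h⟩ := σ.2 y
  let W : Opens S := ⟨g '' (N : Set Y), ho _ N.2⟩
  have hWU : W ≤ U := by
    rintro _ ⟨y', hy', rfl⟩
    exact hNU hy'
  have hs0 : (funD S D).obj.map (homOfLE hWU).op s = 0 := by
    funext w
    obtain ⟨y', hy', hw⟩ := w.2
    have e1 := congrFun hσ ⟨y', hNV hy'⟩
    have e2 : evS D (g y') (σ.1 ⟨y', hNV hy'⟩) = s ⟨g y', hNU hy'⟩ := by
      rw [h y' hy', evS_gm]
    have e3 : s ⟨w.1, hWU w.2⟩ = s ⟨g y', hNU hy'⟩ := by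
      congr 1
      exact Subtype.ext hw.symm
    show s ⟨w.1, hWU w.2⟩ = 0
    rw [e3, ← e2]
    exact e1
  have hyW : g y.1 ∈ W := ⟨y.1, hy, rfl⟩
  have := h y.1 hy
  show σ.1 y = 0
  rw [show y = ⟨y.1, hNV hy⟩ from rfl, this, gm,
    ← TopCat.Presheaf.germ_res_apply _ (homOfLE hWU) (g y.1) hyW s, hs0, map_zero]

include ho hi in
lemma evFam_surjective (V : Opens Y) : Function.Surjective (evFam D g V) := by
  classical
  intro d
  choose N₀ hyN₀ hinj₀ using hi
  let N : V → Opens Y := fun y => N₀ y.1 ⊓ V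
  have hyN : ∀ y : V, y.1 ∈ N y := fun y => ⟨hyN₀ y.1, y.2⟩
  have hinj : ∀ y : V, Set.InjOn g (N y : Set Y) := fun y =>
    (hinj₀ y.1).mono (fun _ h => h.1)
  have hNV : ∀ y : V, N y ≤ V := fun y => inf_le_right
  let W : V → Opens S := fun y => ⟨g '' (N y : Set Y), ho _ (N y).2⟩
  -- the local sections
  let s : ∀ y : V, (funD S D).obj.obj (op (W y)) := fun y w =>
    d ⟨Classical.choose w.2, hNV y (Classical.choose_spec w.2).1⟩
  have hs : ∀ (y : V) (y' : Y) (hy' : y' ∈ N y), s y ⟨g y', ⟨y', hy', rfl⟩⟩ = d ⟨y', hNV y hy'⟩ := by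
    intro y y' hy'
    have hw : ∃ z ∈ (N y : Set Y), g z = g y' := ⟨y', hy', rfl⟩
    have e : Classical.choose hw = y' :=
      hinj y (Classical.choose_spec hw).1 hy' (Classical.choose_spec hw).2
    show d ⟨Classical.choose hw, _⟩ = _
    congr 1
    exact Subtype.ext e
  have hgW : ∀ (y : V) (y' : Y) (hy' : y' ∈ N y), g y' ∈ W y := fun y y' hy' => ⟨y', hy', rfl⟩
  let σ : ∀ y : V, Stk (funD S D) (g y.1) := fun y =>
    gm (funD S D) (W y) (g y.1) (hgW y y.1 (hyN y)) (s y)
  have hσ : IsLocRep g (funD S D) V σ := by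
    intro y
    refine ⟨N y, W y, s y, hNV y, fun y' hy' => hgW y y' hy', hyN y, fun y' hy' => ?_⟩
    -- compare the germs of `s ⟨y', _⟩` and `s y` at `g y'`
    let y'' : V := ⟨y', hNV y hy'⟩
    let W' : Opens S := ⟨g '' ((N y ⊓ N y'' : Opens Y) : Set Y), ho _ (N y ⊓ N y'').2⟩
    have hW'1 : W' ≤ W y'' := by
      rintro _ ⟨z, hz, rfl⟩
      exact ⟨z, hz.2, rfl⟩
    have hW'2 : W' ≤ W y := by
      rintro _ ⟨z, hz, rfl⟩
      exact ⟨z, hz.1, rfl⟩
    have hmem : g y' ∈ W' := ⟨y', ⟨hy', hyN y''⟩, rfl⟩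
    show gm (funD S D) (W y'') (g y') _ (s y'') = gm (funD S D) (W y) (g y') _ (s y)
    apply TopCat.Presheaf.germ_ext (funD S D).obj W' hmem (homOfLE hW'1) (homOfLE hW'2)
    funext w
    obtain ⟨z, hz, hw⟩ := w.2
    show s y'' ⟨w.1, hW'1 w.2⟩ = s y ⟨w.1, hW'2 w.2⟩
    have e1 : s y'' ⟨w.1, hW'1 w.2⟩ = s y'' ⟨g z, ⟨z, hz.2, rfl⟩⟩ := by
      congr 1
      exact Subtype.ext hw.symm
    have e2 : s y ⟨w.1, hW'2 w.2⟩ = s y ⟨g z, ⟨z, hz.1, rfl⟩⟩ := by
      congr 1
      exact Subtype.ext hw.symm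
    rw [e1, e2, hs y'' z hz.2, hs y z hz.1]
  refine ⟨⟨σ, hσ⟩, ?_⟩
  funext y
  show evS D (g y.1) (σ y) = d y
  rw [show σ y = gm (funD S D) (W y) (g y.1) (hgW y y.1 (hyN y)) (s y) from rfl, evS_gm]
  exact hs y y.1 (hyN y)

/-- sections of the inverse image of a sheaf of functions are functions -/
noncomputable def funEquiv (V : Opens Y) :
    ((CohTop.pull g).obj (funD S D)).obj.obj (op V) ≃+ (V → D) :=
  (secEquiv g (funD S D) V).trans
    (AddEquiv.ofBijective (evFam D g V) ⟨evFam_injective D g ho V, evFam_surjective D g ho hi V⟩)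

lemma funEquiv_res {V V' : Opens Y} (hV : V' ≤ V)
    (t : ((CohTop.pull g).obj (funD S D)).obj.obj (op V)) (y : V') :
    funEquiv D g ho hi V' (((CohTop.pull g).obj (funD S D)).obj.map (homOfLE hV).op t) y =
      funEquiv D g ho hi V t ⟨y.1, hV y.2⟩ := by
  show evS D (g y.1) ((secEquiv g (funD S D) V' _).1 y) = evS D (g y.1) ((secEquiv g (funD S D) V t).1 ⟨y.1, hV y.2⟩)
  rw [secEquiv_res]

include ho hi in
/-- the inverse image of a sheaf of functions along a local homeomorphism is flasque -/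
theorem isFlasque_pull : TopCat.Sheaf.IsFlasque ((CohTop.pull g).obj (funD S D)) where
  epi {U V} i := by
    classical
    rw [AddCommGrpCat.epi_iff_surjective]
    intro t'
    have hV : V.unop ≤ U.unop := leOfHom i.unop
    let d' := funEquiv D g ho hi V.unop t'
    let d : U.unop → D := fun y => if h : y.1 ∈ V.unop then d' ⟨y.1, h⟩ else 0
    refine ⟨(funEquiv D g ho hi U.unop).symm d, ?_⟩
    apply (funEquiv D g ho hi V.unop).injective
    funext y
    have := funEquiv_res D g ho hi hV ((funEquiv D g ho hi U.unop).symm d) y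
    rw [AddEquiv.apply_symm_apply] at this
    have e : i = (homOfLE hV).op := rfl
    rw [e, this]
    show (if h : y.1 ∈ V.unop then d' ⟨y.1, h⟩ else 0) = d' y
    rw [dif_pos y.2]

end LHFun

end Groth.Agent.Lib.helper27
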