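import Mathlib
import Groth.Prelude.Def_CohTop
import Groth.Agent.Lib.Helper27.LHFun

set_option autoImplicit false
set_option backward.isDefEq.respectTransparency false
set_option linter.unusedVariables false
set_option linter.unusedSectionVars false

/-!
# Every abelian sheaf embeds into a sheaf of all functions
-/

namespace Groth.Agent.Lib.helper27

open CategoryTheory Limits Opposite TopologicalSpace

universe u

namespace LHEmb

open LHSec LHFun

variable {S : TopCat.{u}} (Q : CohTop.Ab S)

/-- the product of all stalks -/
abbrev DQ : Type u := ∀ s : S, Stk Q s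

open Classical in
/-- the embedding into the sheaf of all functions into the product of the stalks -/
noncomputable def emb : Q ⟶ funD S (DQ Q) :=
  ⟨{ app := fun U => AddCommGrpCat.ofHom
      { toFun := fun t w => Pi.single w.1 (gm Q U.unop w.1 w.2 t)
        map_zero' := by
          funext w
          simp [gm]
        map_add' := fun a b => by
          funext w
          simp [gm, Pi.single_add] }
     naturality := fun U V i => by
       ext t
       funext w
       show Pi.single w.1 (gm Q V.unop w.1 w.2 (Q.obj.map i t)) =
         Pi.single w.1 (gm Q U.unop w.1 (leOfHom i.unop w.2) t)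
       congr 1
       exact TopCat.Presheaf.germ_res_apply Q.obj i.unop w.1 w.2 t }⟩

lemma emb_injective (U : Opens S) : Function.Injective ((emb Q).hom.app (op U)).hom := by
  classical
  intro s t h
  apply TopCat.Presheaf.section_ext Q U
  intro x hx
  have h1 := congrFun (congrFun h ⟨x, hx⟩) x
  have h2 : (Pi.single x (gm Q U x hx s) : DQ Q) x = (Pi.single x (gm Q U x hx t) : DQ Q) x := h1
  rw [Pi.single_eq_same, Pi.single_eq_same] at h2
  exact h2

instance mono_emb : Mono (emb Q) := by
  have : Mono (emb Q).hom := by
    have : ∀ U, Mono ((emb Q).hom.app U) := by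
      intro U
      rw [AddCommGrpCat.mono_iff_injective]
      exact emb_injective Q U.unop
    exact NatTrans.mono_of_mono_app (emb Q).hom
  exact Sheaf.Hom.mono_of_presheaf_mono _ _ _

/-- an injective sheaf is a retract of a sheaf of functions -/
theorem exists_retract [Injective Q] : ∃ r : funD S (DQ Q) ⟶ Q, emb Q ≫ r = 𝟙 Q :=
  ⟨Injective.factorThru (𝟙 Q) (emb Q), Injective.comp_factorThru _ _⟩

/-- vanishing passes to retracts -/
lemma isZero_of_retract {A B : Type*} [Category A] [Category B] [HasZeroMorphisms B]
    (Φ : A ⥤ B) {X Y : A} (i : X ⟶ Y) (r : Y ⟶ X) (h : i ≫ r = 𝟙 X) (hY : IsZero (Φ.obj Y)) :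
    IsZero (Φ.obj X) := by
  rw [IsZero.iff_id_eq_zero, ← Φ.map_id, ← h, Φ.map_comp, hY.eq_of_tgt (Φ.map i) 0, zero_comp]

end LHEmb

end Groth.Agent.Lib.helper27
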