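import Mathlib
import Groth.Prelude.Def_CohTop

set_option autoImplicit false
set_option linter.unusedVariables false
set_option linter.unusedSectionVars false

/-!
# Explicit fibre powers of a continuous map
-/

namespace Groth.Agent.Lib.helper27

open CategoryTheory Limits Opposite TopologicalSpace Topology

universe u

namespace LHFib

variable {X S : TopCat.{u}} (f : X ⟶ S)

/-- the points of the `(p+1)`-fold fibre power -/
abbrev FPt (p : ℕ) : Type u := {z : S × (Fin (p + 1) → X) // ∀ i, f (z.2 i) = z.1}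

/-- the `(p+1)`-fold fibre power -/
abbrev FP (p : ℕ) : TopCat.{u} := TopCat.of (FPt f p)

/-- the base point -/
def bs {p : ℕ} (z : FPt f p) : S := z.1.1

/-- the coordinates -/
def co {p : ℕ} (z : FPt f p) (i : Fin (p + 1)) : X := z.1.2 i

lemma f_co {p : ℕ} (z : FPt f p) (i : Fin (p + 1)) : f (co f z i) = bs f z := z.2 i

lemma continuous_bs (p : ℕ) : Continuous (bs f : FPt f p → S) :=
  continuous_fst.comp continuous_subtype_val

lemma continuous_co (p : ℕ) (i : Fin (p + 1)) : Continuous (fun z : FPt f p => co f z i) :=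
  (continuous_apply i).comp (continuous_snd.comp continuous_subtype_val)

lemma FPt_ext {p : ℕ} (z z' : FPt f p) (h1 : bs f z = bs f z') (h2 : ∀ i, co f z i = co f z' i) :
    z = z' :=
  Subtype.ext (Prod.ext h1 (funext h2))

/-- the structure map -/
def gp (p : ℕ) : FP f p ⟶ S := TopCat.ofHom ⟨bs f, continuous_bs f p⟩

/-- constructor -/
def mk {p : ℕ} (s : S) (x : Fin (p + 1) → X) (h : ∀ i, f (x i) = s) : FPt f p := ⟨(s, x), h⟩

lemma continuous_mk {p : ℕ} {T : Type*} [TopologicalSpace T] (s : T → S) (x : T → Fin (p + 1) → X)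
    (h : ∀ t i, f (x t i) = s t) (hs : Continuous s) (hx : ∀ i, Continuous fun t => x t i) :
    Continuous (fun t => mk f (s t) (x t) (h t)) :=
  Continuous.subtype_mk (hs.prodMk (continuous_pi hx)) _

/-- reindexing -/
def re {p q : ℕ} (θ : Fin (p + 1) → Fin (q + 1)) : FP f q ⟶ FP f p :=
  TopCat.ofHom ⟨fun z => mk f (bs f z) (fun i => co f z (θ i)) (fun i => f_co f z (θ i)),
    continuous_mk f _ _ _ (continuous_bs f q) (fun i => continuous_co f q (θ i))⟩

lemma bs_re {p q : ℕ} (θ : Fin (p + 1) → Fin (q + 1)) (z : FPt f q) :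
    bs f (re f θ z) = bs f z := rfl

lemma co_re {p q : ℕ} (θ : Fin (p + 1) → Fin (q + 1)) (z : FPt f q) (i : Fin (p + 1)) :
    co f (re f θ z) i = co f z (θ i) := rfl

section lh

variable (ho : IsOpenMap f) (hi : IsLocallyInjective f)

lemma mem_nhds_FPt {p : ℕ} (z : FPt f p) (O : Set (FPt f p)) :
    O ∈ 𝓝 z ↔ ∃ M ∈ 𝓝 z.1, Subtype.val ⁻¹' M ⊆ O := by
  rw [nhds_induced, Filter.mem_comap]

include ho in
lemma isOpenMap_gp (p : ℕ) : IsOpenMap (gp f p) := by
  apply IsOpenMap.of_nhds_le
  intro z T hT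
  have hT' : (bs f) ⁻¹' T ∈ 𝓝 (z : FPt f p) := hT
  rw [mem_nhds_FPt] at hT'
  obtain ⟨M, hM, hMT⟩ := hT'
  rw [nhds_prod_eq, Filter.mem_prod_iff] at hM
  obtain ⟨A, hA, B, hB, hAB⟩ := hM
  rw [nhds_pi, Filter.mem_pi] at hB
  obtain ⟨I, hI, t, ht, htB⟩ := hB
  have h1 : ∀ i, f '' (t i) ∈ 𝓝 (bs f z) := by
    intro i
    have := ho.image_mem_nhds (ht i)
    rwa [show f (z.1.2 i) = bs f z from z.2 i] at this
  have h2 : A ∩ ⋂ i, f '' (t i) ∈ 𝓝 (bs f z) :=
    Filter.inter_mem hA (Filter.iInter_mem.2 h1)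
  refine Filter.mem_of_superset h2 ?_
  rintro w ⟨hwA, hw⟩
  rw [Set.mem_iInter] at hw
  choose x hx hfx using hw
  have : mk f w x hfx ∈ (gp f p) ⁻¹' T := by
    apply hMT
    apply hAB
    exact ⟨hwA, htB (fun i _ => hx i)⟩
  exact this

include hi in
lemma exists_injOn_gp (p : ℕ) (z : FP f p) :
    ∃ N : Opens (FP f p), z ∈ N ∧ Set.InjOn (gp f p) (N : Set (FP f p)) := by
  choose U hU hxU hinj using fun i => hi (co f z i)
  refine ⟨⟨⋂ i, (fun z' : FPt f p => co f z' i) ⁻¹' (U i),
    isOpen_iInter_of_finite fun i => (hU i).preimage (continuous_co f p i)⟩, ?_, ?_⟩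
  · exact Set.mem_iInter.2 fun i => hxU i
  · intro z' hz' z'' hz'' h
    have hz'1 := Set.mem_iInter.1 hz'
    have hz''1 := Set.mem_iInter.1 hz''
    have hb : bs f z' = bs f z'' := h
    refine FPt_ext f z' z'' hb fun i => hinj i (hz'1 i) (hz''1 i) ?_
    rw [f_co, f_co, hb]

end lh

section wp

/-- the Mathlib fibre power -/
noncomputable abbrev WP (p : ℕ) : TopCat.{u} :=
  widePullback S (fun _ : Fin (p + 1) => X) (fun _ => f)

/-- the comparison to the wide pullback -/
noncomputable def toWP (p : ℕ) : FP f p ⟶ WP f p :=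
  WidePullback.lift (gp f p)
    (fun i => TopCat.ofHom ⟨fun z : FPt f p => co f z i, continuous_co f p i⟩)
    (fun i => by
      ext z
      exact f_co f z i)

/-- the comparison from the wide pullback -/
noncomputable def fromWP (p : ℕ) : WP f p ⟶ FP f p :=
  TopCat.ofHom ⟨fun t => mk f (WidePullback.base (fun _ : Fin (p + 1) => f) t)
      (fun i => WidePullback.π (fun _ : Fin (p + 1) => f) i t)
      (fun i => ConcreteCategory.congr_hom (WidePullback.π_arrow (fun _ : Fin (p + 1) => f) i) t),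
    continuous_mk f _ _ _ (WidePullback.base (fun _ : Fin (p + 1) => f)).hom.continuous
      (fun i => (WidePullback.π (fun _ : Fin (p + 1) => f) i).hom.continuous)⟩

/-- the explicit fibre power is the wide pullback -/
noncomputable def isoWP (p : ℕ) : FP f p ≅ WP f p where
  hom := toWP f p
  inv := fromWP f p
  hom_inv_id := by
    refine ConcreteCategory.hom_ext _ _ (fun z => ?_)
    apply FPt_ext f
    · exact ConcreteCategory.congr_hom (WidePullback.lift_base (fun _ : Fin (p + 1) => f) _ _ _) z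
    · intro i
      exact ConcreteCategory.congr_hom (WidePullback.lift_π (fun _ : Fin (p + 1) => f) _ _ _ i) z
  inv_hom_id := by
    apply WidePullback.hom_ext
    · intro i
      rw [Category.assoc, Category.id_comp]
      unfold toWP
      rw [WidePullback.lift_π]
      rfl
    · rw [Category.assoc, Category.id_comp]
      unfold toWP
      rw [WidePullback.lift_base]
      rfl

lemma isoWP_hom_base (p : ℕ) :
    (isoWP f p).hom ≫ WidePullback.base (fun _ : Fin (p + 1) => f) = gp f p :=
  WidePullback.lift_base _ _ _ _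

/-- the comparison as an isomorphism over `S` -/
noncomputable def overIso (p : ℕ) :
    Over.mk (gp f p) ≅ Over.mk (WidePullback.base (fun _ : Fin (p + 1) => f)) :=
  Over.isoMk (isoWP f p) (isoWP_hom_base f p)

end wp

end LHFib

end Groth.Agent.Lib.helper27
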