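import Mathlib
import Groth.Prelude.Def_CohTop
import Groth.Agent.Lib.Helper27.LHSec

set_option autoImplicit false
set_option backward.isDefEq.respectTransparency false
set_option linter.unusedVariables false
set_option linter.unusedSectionVars false

/-!
# Functoriality of locally representable families of germs
-/

namespace Groth.Agent.Lib.helper27

open CategoryTheory Limits Opposite TopologicalSpace

universe u

namespace LHSec

variable {Y S : TopCat.{u}} (g : Y ⟶ S) {G G' G'' : CohTop.Ab S}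

lemma stkMap_gm (φ : G ⟶ G') (U : Opens S) (s : S) (hs : s ∈ U) (t : G.obj.obj (op U)) :
    stkMap φ s (gm G U s hs t) = gm G' U s hs (φ.hom.app (op U) t) :=
  TopCat.Presheaf.stalkFunctor_map_germ_apply U s hs φ.hom t

lemma stkMap_id (s : S) (a : Stk G s) : stkMap (𝟙 G) s a = a := by
  show ((TopCat.Presheaf.stalkFunctor AddCommGrpCat.{u} s).map (𝟙 G.obj)).hom a = a
  rw [CategoryTheory.Functor.map_id]
  rfl

lemma stkMap_comp (φ : G ⟶ G') (ψ : G' ⟶ G'') (s : S) (a : Stk G s) :
    stkMap (φ ≫ ψ) s a = stkMap ψ s (stkMap φ s a) := by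
  show ((TopCat.Presheaf.stalkFunctor AddCommGrpCat.{u} s).map (φ.hom ≫ ψ.hom)).hom a = _
  rw [CategoryTheory.Functor.map_comp]
  rfl

/-- functoriality of families of germs in the sheaf -/
noncomputable def secMap (φ : G ⟶ G') (V : Opens Y) : SecOn g G V →+ SecOn g G' V where
  toFun σ := ⟨fun y => stkMap φ (g y.1) (σ.1 y), by
    intro y
    obtain ⟨N, U, s, hNV, hNU, hy, h⟩ := σ.2 y
    refine ⟨N, U, φ.hom.app (op U) s, hNV, hNU, hy, fun y' hy' => ?_⟩
    show stkMap φ (g y') (σ.1 ⟨y', hNV hy'⟩) = _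
    rw [h y' hy', stkMap_gm]⟩
  map_zero' := by
    apply Subtype.ext
    funext y
    exact map_zero _
  map_add' σ τ := by
    apply Subtype.ext
    funext y
    exact map_add _ _ _

lemma secMap_apply (φ : G ⟶ G') (V : Opens Y) (σ : SecOn g G V) (y : V) :
    (secMap g φ V σ).1 y = stkMap φ (g y.1) (σ.1 y) := rfl

/-- naturality of `secEquiv` -/
lemma secEquiv_naturality (φ : G ⟶ G') (V : Opens Y)
    (t : ((CohTop.pull g).obj G).obj.obj (op V)) :
    secEquiv g G' V (((CohTop.pull g).map φ).hom.app (op V) t) = secMap g φ V (secEquiv g G V t) := by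
  apply Subtype.ext
  funext y
  exact secEquiv_map g φ V t y

/-- sections of `G` itself from locally representable families on the base -/
lemma exists_section (G : CohTop.Ab S) (τ : ∀ s : S, Stk G s)
    (h : ∀ s : S, ∃ (U : Opens S) (t : G.obj.obj (op U)) (hs : s ∈ U),
      ∀ (s' : S) (hs' : s' ∈ U), τ s' = gm G U s' hs' t) :
    ∃ t : G.obj.obj (op ⊤), ∀ s : S, gm G ⊤ s trivial t = τ s := by
  choose U t hs ht using h
  have hcompat : TopCat.Presheaf.IsCompatible G.obj U t := by
    intro s₁ s₂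
    apply TopCat.Presheaf.section_ext G
    intro s' hs'
    have e1 := TopCat.Presheaf.germ_res_apply G.obj (Opens.infLELeft (U s₁) (U s₂)) s' hs' (t s₁)
    have e2 := TopCat.Presheaf.germ_res_apply G.obj (Opens.infLERight (U s₁) (U s₂)) s' hs' (t s₂)
    exact e1.trans ((ht s₁ s' hs'.1).symm.trans ((ht s₂ s' hs'.2).trans e2.symm))
  obtain ⟨t₀, ht₀, -⟩ := TopCat.Sheaf.existsUnique_gluing' G U ⊤ (fun s => homOfLE le_top)
    (fun s _ => Opens.mem_iSup.2 ⟨s, hs s⟩) t hcompat
  refine ⟨t₀, fun s => ?_⟩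
  rw [ht s s (hs s), ← ht₀ s]
  exact (TopCat.Presheaf.germ_res_apply G.obj (homOfLE le_top) s (hs s) t₀).symm

end LHSec

end Groth.Agent.Lib.helper27
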