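import Mathlib
import Groth.Prelude.Def_CohTop
import Groth.Agent.Lib.Helper27.LHSec2
import Groth.Agent.Lib.Helper27.LHFib
import Groth.Agent.Lib.Helper27.CosimpKer
import Groth.Agent.Lib.Helper27.LerayDegTop

set_option autoImplicit false
set_option backward.isDefEq.respectTransparency false
set_option linter.unusedVariables false
set_option linter.unusedSectionVars false

/-!
# The cosimplicial group of sections over the fibre powers
-/

namespace Groth.Agent.Lib.helper27

open CategoryTheory Limits Opposite TopologicalSpace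

universe u

namespace LHCosimp

open LHSec LHFib

variable {X S : TopCat.{u}} (f : X ⟶ S)

/-- sections over the whole fibre power -/
noncomputable abbrev SecT (G : CohTop.Ab S) (p : ℕ) : AddSubgroup (∀ y : (⊤ : Opens (FP f p)), Stk G (gp f p y.1)) :=
  SecOn (gp f p) G ⊤

/-- the point of `⊤` -/
abbrev tp {p : ℕ} (z : FPt f p) : (⊤ : Opens (FP f p)) := ⟨z, trivial⟩

lemma sec_congr {G : CohTop.Ab S} {p : ℕ} (σ : ∀ y : (⊤ : Opens (FP f p)), Stk G (gp f p y.1))
    {z z' : FPt f p} (h : z = z') : HEq (σ (tp f z)) (σ (tp f z')) := by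
  subst h
  rfl

/-- precomposition with reindexing -/
noncomputable def pre (G : CohTop.Ab S) {p q : ℕ} (θ : Fin (p + 1) → Fin (q + 1)) :
    SecT f G p →+ SecT f G q where
  toFun σ := ⟨fun z => σ.1 (tp f (re f θ z.1)), by
    intro z
    obtain ⟨N, U, s, hNV, hNU, hy, h⟩ := σ.2 (tp f (re f θ z.1))
    exact ⟨(Opens.map (re f θ)).obj N, U, s, le_top, fun z' hz' => hNU hz', hy,
      fun z' hz' => h (re f θ z') hz'⟩⟩
  map_zero' := rfl
  map_add' _ _ := rfl

lemma pre_apply (G : CohTop.Ab S) {p q : ℕ} (θ : Fin (p + 1) → Fin (q + 1)) (σ : SecT f G p)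
    (z : FPt f q) : (pre f G θ σ).1 (tp f z) = σ.1 (tp f (re f θ z)) := rfl

/-- the cosimplicial group attached to a sheaf -/
noncomputable def Kobj (G : CohTop.Ab S) : SimplexCategory ⥤ AddCommGrpCat.{u} where
  obj x := AddCommGrpCat.of (SecT f G x.len)
  map θ := AddCommGrpCat.ofHom (pre f G θ.toOrderHom)
  map_id x := by
    ext σ z
    rfl
  map_comp θ θ' := by
    ext σ z
    rfl

/-- functoriality in the sheaf -/
noncomputable def Kmap {G G' : CohTop.Ab S} (φ : G ⟶ G') : Kobj f G ⟶ Kobj f G' where
  app x := AddCommGrpCat.ofHom (secMap (gp f x.len) φ ⊤)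
  naturality x y θ := by
    ext σ
    rfl

/-- the cosimplicial group of sections over the fibre powers, as a functor -/
noncomputable def K : CohTop.Ab S ⥤ (SimplexCategory ⥤ AddCommGrpCat.{u}) where
  obj G := Kobj f G
  map φ := Kmap f φ
  map_id G := by
    ext x σ
    apply Subtype.ext
    funext z
    exact stkMap_id _ _
  map_comp φ ψ := by
    ext x σ
    apply Subtype.ext
    funext z
    exact stkMap_comp φ ψ _ _

/-- evaluation of `K` is global sections of the inverse image -/
noncomputable def evIso (p : ℕ) :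
    K f ⋙ (evaluation SimplexCategory AddCommGrpCat.{u}).obj (SimplexCategory.mk p) ≅
      CohTop.pull (gp f p) ⋙ LerayDegTop.ΓT (FP f p) :=
  (NatIso.ofComponents
    (fun G => AddEquiv.toAddCommGrpIso (secEquiv (gp f p) G ⊤))
    (fun {G G'} φ => by
      ext t
      exact secEquiv_naturality (gp f p) φ ⊤ t)).symm

end LHCosimp

end Groth.Agent.Lib.helper27
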