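import Mathlib
import Groth.Prelude.Def_CohTop
import Groth.Agent.Lib.Helper27.LHCosimp

set_option autoImplicit false
set_option backward.isDefEq.respectTransparency false
set_option linter.unusedVariables false
set_option linter.unusedSectionVars false

/-!
# Descent of sections along a surjective open map: `Γ(S, -) ≅ lim K`
-/

namespace Groth.Agent.Lib.helper27

open CategoryTheory Limits Opposite TopologicalSpace

universe u

namespace LHGamma

open LHSec LHFib LHCosimp

variable {X S : TopCat.{u}} (f : X ⟶ S) (hsurj : Function.Surjective f) (ho : IsOpenMap f)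

/-- a chosen point in each fibre -/
noncomputable def cpt (s : S) : X := Function.surjInv hsurj s

lemma f_cpt (s : S) : f (cpt f hsurj s) = s := Function.surjInv_eq hsurj s

/-- the chosen point of the fibre, as a point of `X_0` -/
noncomputable def pt (s : S) : FPt f 0 := mk f s (fun _ => cpt f hsurj s) (fun _ => f_cpt f hsurj s)

/-- the augmentation `Γ(S, G) ⟶ Γ(X, f⁻¹G)` -/
noncomputable def aug (G : CohTop.Ab S) :
    (LerayDegTop.ΓT S).obj G ⟶ (Kobj f G).obj (SimplexCategory.mk 0) :=
  AddCommGrpCat.ofHom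
    { toFun := fun t => ⟨fun z => gm G ⊤ (gp f 0 z.1) trivial t, fun z =>
        ⟨⊤, ⊤, t, le_rfl, fun _ _ => trivial, trivial, fun _ _ => rfl⟩⟩
      map_zero' := by
        apply Subtype.ext
        funext z
        exact map_zero _
      map_add' := fun a b => by
        apply Subtype.ext
        funext z
        exact map_add _ a b }

lemma aug_apply (G : CohTop.Ab S) (t : G.obj.obj (op ⊤)) (z : FPt f 0) :
    ((aug f G).hom t).1 (tp f z) = gm G ⊤ (bs f z) trivial t := rfl

lemma aug_δ (G : CohTop.Ab S) :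
    aug f G ≫ (Kobj f G).map (SimplexCategory.δ (n := 0) 0) =
      aug f G ≫ (Kobj f G).map (SimplexCategory.δ (n := 0) 1) := by
  ext t
  rfl

lemma aug_d₀ (G : CohTop.Ab S) : aug f G ≫ CosimpLim.d₀ (Kobj f G) = 0 := by
  rw [CosimpLim.d₀, Preadditive.comp_sub, aug_δ, sub_self]

include hsurj in
lemma aug_injective (G : CohTop.Ab S) : Function.Injective (aug f G).hom := by
  rw [injective_iff_map_eq_zero]
  intro t ht
  apply TopCat.Presheaf.section_ext G ⊤
  intro s hs
  have := congrFun (congrArg Subtype.val ht) (tp f (pt f hsurj s))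
  rw [map_zero]
  exact this

/-- the edge of `X_1` joining a point and the chosen point of its fibre -/
noncomputable def edge (z : FPt f 0) : FPt f 1 :=
  mk f (bs f z) (Fin.cons (co f z 0) (fun _ => cpt f hsurj (bs f z))) (by
    intro i
    induction i using Fin.cases with
    | zero => exact f_co f z 0
    | succ i => exact f_cpt f hsurj (bs f z))

lemma re_δ_one_edge (z : FPt f 0) :
    re f (SimplexCategory.δ (n := 0) 1).toOrderHom (edge f hsurj z) = z := by
  apply FPt_ext f
  · rfl
  · intro i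
    have hi : i = (0 : Fin (0 + 1)) := Subsingleton.elim (α := Fin 1) _ _
    subst hi
    rfl

lemma re_δ_zero_edge (z : FPt f 0) :
    re f (SimplexCategory.δ (n := 0) 0).toOrderHom (edge f hsurj z) = pt f hsurj (bs f z) := by
  apply FPt_ext f
  · rfl
  · intro i
    have hi : i = (0 : Fin (0 + 1)) := Subsingleton.elim (α := Fin 1) _ _
    subst hi
    rfl

lemma key (G : CohTop.Ab S) (σ : SecT f G 0)
    (h : pre f G (SimplexCategory.δ (n := 0) 0).toOrderHom σ =
      pre f G (SimplexCategory.δ (n := 0) 1).toOrderHom σ) (z : FPt f 0) :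
    σ.1 (tp f (pt f hsurj (bs f z))) = σ.1 (tp f z) := by
  have h1 := congrFun (congrArg Subtype.val h) (tp f (edge f hsurj z))
  rw [pre_apply, pre_apply] at h1
  have e0 := sec_congr f σ.1 (re_δ_zero_edge f hsurj z)
  have e1 := sec_congr f σ.1 (re_δ_one_edge f hsurj z)
  exact eq_of_heq (e0.symm.trans ((heq_of_eq h1).trans e1))

include hsurj ho in
lemma aug_exact (G : CohTop.Ab S) (σ : SecT f G 0)
    (h : pre f G (SimplexCategory.δ (n := 0) 0).toOrderHom σ =
      pre f G (SimplexCategory.δ (n := 0) 1).toOrderHom σ) :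
    ∃ t : G.obj.obj (op ⊤), (aug f G).hom t = σ := by
  let τ : ∀ s : S, Stk G s := fun s => σ.1 (tp f (pt f hsurj s))
  have hτ : ∀ s : S, ∃ (U : Opens S) (t : G.obj.obj (op U)) (hs : s ∈ U),
      ∀ (s' : S) (hs' : s' ∈ U), τ s' = gm G U s' hs' t := by
    intro s
    obtain ⟨N, U, t, hNV, hNU, hz₀, hN⟩ := σ.2 (tp f (pt f hsurj s))
    let W : Opens S := ⟨gp f 0 '' (N : Set (FP f 0)), isOpenMap_gp f ho 0 _ N.2⟩
    have hWU : W ≤ U := by
      rintro _ ⟨z', hz', rfl⟩
      exact hNU hz'
    refine ⟨W, G.obj.map (homOfLE hWU).op t, ⟨pt f hsurj s, hz₀, rfl⟩, ?_⟩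
    rintro s' ⟨z', hz', rfl⟩
    show σ.1 (tp f (pt f hsurj (bs f z'))) = _
    rw [key f hsurj G σ h z']
    have := hN z' hz'
    refine this.trans ?_
    exact (TopCat.Presheaf.germ_res_apply G.obj (homOfLE hWU) (bs f z') ⟨z', hz', rfl⟩ t).symm
  obtain ⟨t₀, ht₀⟩ := exists_section G τ hτ
  refine ⟨t₀, ?_⟩
  apply Subtype.ext
  funext z
  show gm G ⊤ (bs f z.1) trivial t₀ = σ.1 z
  rw [ht₀]
  exact key f hsurj G σ h z.1

section lim

/-- the short complex `Γ(S, G) ⟶ K⁰ ⟶ K¹` -/
noncomputable def sc (G : CohTop.Ab S) : ShortComplex AddCommGrpCat.{u} :=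
  ShortComplex.mk (aug f G) (CosimpLim.d₀ (Kobj f G)) (aug_d₀ f G)

include hsurj in
lemma mono_aug (G : CohTop.Ab S) : Mono (aug f G) :=
  (AddCommGrpCat.mono_iff_injective _).2 (aug_injective f hsurj G)

include hsurj ho in
lemma sc_exact (G : CohTop.Ab S) : (sc f G).Exact := by
  rw [ShortComplex.ab_exact_iff]
  intro σ hσ
  have h : pre f G (SimplexCategory.δ (n := 0) 0).toOrderHom σ =
      pre f G (SimplexCategory.δ (n := 0) 1).toOrderHom σ := by
    have h1 : ((Kobj f G).map (SimplexCategory.δ (n := 0) 0) -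
        (Kobj f G).map (SimplexCategory.δ (n := 0) 1)).hom σ = 0 := hσ
    rw [AddCommGrpCat.hom_sub, AddMonoidHom.sub_apply, sub_eq_zero] at h1
    exact h1
  exact aug_exact f hsurj ho G σ h

/-- the augmentation is a kernel of the first differential -/
noncomputable def isKernel (G : CohTop.Ab S) :
    IsLimit (KernelFork.ofι (aug f G) (aug_d₀ f G)) :=
  haveI := mono_aug f hsurj G
  haveI : Mono (sc f G).f := mono_aug f hsurj G
  (sc_exact f hsurj ho G).fIsKernel

/-- the limit cone -/
noncomputable def isLimitCone (G : CohTop.Ab S) :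
    IsLimit (CosimpLim.coneOfKer (Kobj f G) (aug f G) (aug_d₀ f G)) :=
  CosimpLim.isLimitConeOfKer _ _ _ (isKernel f hsurj ho G)

/-- the components of `Γ(S, -) ≅ lim K` -/
noncomputable def eG (G : CohTop.Ab S) :
    (LerayDegTop.ΓT S).obj G ≅
      (lim : (SimplexCategory ⥤ AddCommGrpCat.{u}) ⥤ AddCommGrpCat.{u}).obj ((K f).obj G) :=
  (isLimitCone f hsurj ho G).conePointUniqueUpToIso (limit.isLimit _)

lemma eG_hom_π (G : CohTop.Ab S) (x : SimplexCategory) :
    (eG f hsurj ho G).hom ≫ limit.π ((K f).obj G) x =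
      aug f G ≫ ((K f).obj G).map (SimplexCategory.const (SimplexCategory.mk 0) x 0) :=
  IsLimit.conePointUniqueUpToIso_hom_comp _ _ x

lemma aug_naturality {G G' : CohTop.Ab S} (φ : G ⟶ G') :
    (LerayDegTop.ΓT S).map φ ≫ aug f G' =
      aug f G ≫ ((K f).map φ).app (SimplexCategory.mk 0) := by
  ext t
  apply Subtype.ext
  funext z
  exact (stkMap_gm φ ⊤ _ trivial t).symm

/-- global sections are the limit of the cosimplicial group of sections on the fibre powers -/
noncomputable def ΓIso :
    LerayDegTop.ΓT S ≅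
      K f ⋙ (lim : (SimplexCategory ⥤ AddCommGrpCat.{u}) ⥤ AddCommGrpCat.{u}) :=
  NatIso.ofComponents (eG f hsurj ho)
    (by
      intro G G' φ
      apply limit.hom_ext
      intro x
      have h3 : (lim : (SimplexCategory ⥤ AddCommGrpCat.{u}) ⥤ AddCommGrpCat.{u}).map
          ((K f).map φ) ≫ limit.π ((K f).obj G') x =
          limit.π ((K f).obj G) x ≫ ((K f).map φ).app x := limMap_π _ _
      have e1 : ((LerayDegTop.ΓT S).map φ ≫ (eG f hsurj ho G').hom) ≫ limit.π ((K f).obj G') x =
          aug f G ≫ ((K f).map φ).app (SimplexCategory.mk 0) ≫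
            ((K f).obj G').map (SimplexCategory.const (SimplexCategory.mk 0) x 0) := by
        rw [Category.assoc, eG_hom_π, ← Category.assoc, aug_naturality, Category.assoc]
      have e2 : ((eG f hsurj ho G).hom ≫
          (lim : (SimplexCategory ⥤ AddCommGrpCat.{u}) ⥤ AddCommGrpCat.{u}).map ((K f).map φ)) ≫
            limit.π ((K f).obj G') x =
          aug f G ≫ ((K f).obj G).map (SimplexCategory.const (SimplexCategory.mk 0) x 0) ≫
            ((K f).map φ).app x := by
        rw [Category.assoc, h3, ← Category.assoc, eG_hom_π, Category.assoc]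
      refine e1.trans (Eq.trans ?_ e2.symm)
      congr 1)

end lim

end LHGamma

end Groth.Agent.Lib.helper27
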