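import Mathlib
import Groth.Prelude.Def_CohTop
import Groth.Agent.Lib.Helper27.LHGamma
import Groth.Agent.Lib.Helper27.LHFun
import Groth.Agent.Lib.Helper27.LHEmb

set_option autoImplicit false
set_option backward.isDefEq.respectTransparency false
set_option linter.unusedVariables false
set_option linter.unusedSectionVars false

/-!
# Čech acyclicity of injective sheaves for a surjective local homeomorphism
-/

namespace Groth.Agent.Lib.helper27

open CategoryTheory Limits Opposite TopologicalSpace AlgebraicTopology

universe u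

namespace LHCech

open LHSec LHFib LHCosimp LHFun LHGamma

variable {X S : TopCat.{u}} (f : X ⟶ S) (hsurj : Function.Surjective f)
  (D : Type u) [AddCommGroup D]

/-- the cosimplicial group of all functions on the fibre powers -/
noncomputable def M : SimplexCategory ⥤ AddCommGrpCat.{u} where
  obj x := AddCommGrpCat.of (FPt f x.len → D)
  map θ := AddCommGrpCat.ofHom
    { toFun := fun m z => m (re f θ.toOrderHom z)
      map_zero' := rfl
      map_add' := fun _ _ => rfl }
  map_id x := by
    ext m z
    rfl
  map_comp θ θ' := by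
    ext m z
    rfl

/-- evaluation at a point -/
noncomputable def πz (n : ℕ) (z : FPt f n) : (M f D).obj (SimplexCategory.mk n) ⟶ AddCommGrpCat.of D :=
  AddCommGrpCat.ofHom
    { toFun := fun m => m z
      map_zero' := rfl
      map_add' := fun _ _ => rfl }

lemma hom_ext_πz (n : ℕ) {A : AddCommGrpCat.{u}} (a b : A ⟶ (M f D).obj (SimplexCategory.mk n))
    (h : ∀ z, a ≫ πz f D n z = b ≫ πz f D n z) : a = b := by
  ext t
  funext z
  exact ConcreteCategory.congr_hom (h z) t

lemma map_πz {n m : ℕ} (θ : SimplexCategory.mk n ⟶ SimplexCategory.mk m) (z : FPt f m) :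
    (M f D).map θ ≫ πz f D m z = πz f D n (re f θ.toOrderHom z) := rfl

/-- prepend the chosen point of the fibre -/
noncomputable def cz {n : ℕ} (z : FPt f n) : FPt f (n + 1) :=
  mk f (bs f z) (Fin.cons (cpt f hsurj (bs f z)) (co f z)) (by
    intro i
    induction i using Fin.cases with
    | zero => exact f_cpt f hsurj (bs f z)
    | succ i => exact f_co f z i)

lemma re_δ_zero_cz {n : ℕ} (z : FPt f n) :
    re f (SimplexCategory.δ (n := n) 0).toOrderHom (cz f hsurj z) = z := by
  apply FPt_ext f
  · rfl
  · intro i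
    show (Fin.cons (cpt f hsurj (bs f z)) (co f z) : Fin (n + 2) → X) (Fin.succAbove 0 i) = _
    rw [Fin.succAbove_zero, Fin.cons_succ]

lemma re_δ_succ_cz {n : ℕ} (k : Fin (n + 2)) (z : FPt f (n + 1)) :
    re f (SimplexCategory.δ (n := n + 1) k.succ).toOrderHom (cz f hsurj z) =
      cz f hsurj (re f (SimplexCategory.δ (n := n) k).toOrderHom z) := by
  apply FPt_ext f
  · rfl
  · intro i
    show (Fin.cons (cpt f hsurj (bs f z)) (co f z) : Fin (n + 3) → X) (Fin.succAbove k.succ i) =
      (Fin.cons (cpt f hsurj (bs f z)) (fun j => co f z (Fin.succAbove k j)) : Fin (n + 2) → X) i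
    induction i using Fin.cases with
    | zero => rw [Fin.succ_succAbove_zero, Fin.cons_zero, Fin.cons_zero]
    | succ i => rw [Fin.succ_succAbove_succ, Fin.cons_succ, Fin.cons_succ]

/-- the contracting homotopy -/
noncomputable def hh (n : ℕ) :
    (M f D).obj (SimplexCategory.mk (n + 1)) ⟶ (M f D).obj (SimplexCategory.mk n) :=
  AddCommGrpCat.ofHom
    { toFun := fun m z => m (cz f hsurj z)
      map_zero' := rfl
      map_add' := fun _ _ => rfl }

@[reassoc]
lemma hh_πz (n : ℕ) (z : FPt f n) :
    hh f hsurj D n ≫ πz f D n z = πz f D (n + 1) (cz f hsurj z) := rfl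

theorem homotopy_identity (n : ℕ) :
    AlternatingCofaceMapComplex.objD (M f D) (n + 1) ≫ hh f hsurj D (n + 1) +
      hh f hsurj D n ≫ AlternatingCofaceMapComplex.objD (M f D) n = 𝟙 _ := by
  apply hom_ext_πz
  intro z
  simp only [AlternatingCofaceMapComplex.objD, Preadditive.add_comp, Category.assoc, hh_πz,
    Preadditive.sum_comp, Preadditive.zsmul_comp, Preadditive.comp_sum, Preadditive.comp_zsmul,
    CosimplicialObject.δ, map_πz, Category.id_comp]
  rw [Fin.sum_univ_succ]
  have h0 := re_δ_zero_cz f hsurj z
  have hs : ∀ x : Fin (n + 2), _ := fun x => re_δ_succ_cz f hsurj x z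
  rw [h0]
  simp only [hs]
  simp only [Fin.val_zero, pow_zero, one_smul, Fin.val_succ, pow_succ,
    mul_neg, mul_one, neg_smul, Finset.sum_neg_distrib]
  abel

include hsurj in
theorem isZero_homology_M (n : ℕ) :
    IsZero (((alternatingCofaceMapComplex AddCommGrpCat.{u}).obj (M f D)).homology (n + 1)) := by
  refine CosimpLim.isZero_homology_of_homotopy _ n (hh f hsurj D (n + 1)) (hh f hsurj D n) ?_
  have h := homotopy_identity f hsurj D n
  have hd : ∀ k : ℕ, ((alternatingCofaceMapComplex AddCommGrpCat.{u}).obj (M f D)).d k (k + 1) =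
      AlternatingCofaceMapComplex.objD (M f D) k := by
    intro k
    change (AlternatingCofaceMapComplex.obj (M f D : CosimplicialObject AddCommGrpCat.{u})).d k (k + 1) = _
    exact CochainComplex.of_d (α := ℕ) (fun n => (M f D).obj (SimplexCategory.mk n))
      (AlternatingCofaceMapComplex.objD (M f D : CosimplicialObject AddCommGrpCat.{u})) k
  have hd1 := hd n
  have hd2 := hd (n + 1)
  rw [hd1, hd2]
  exact h

section iso

variable (ho : IsOpenMap f) (hi : IsLocallyInjective f)

/-- the values of a family of germs of functions on a fibre power -/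
noncomputable def evT (p : ℕ) : SecT f (funD S D) p →+ (FPt f p → D) where
  toFun σ := fun z => evS D (bs f z) (σ.1 (tp f z))
  map_zero' := by
    funext z
    simp
  map_add' σ τ := by
    funext z
    simp

include ho hi in
lemma evT_bijective (p : ℕ) : Function.Bijective (evT f D p) := by
  have hi' : ∀ y : FP f p, ∃ N : Opens (FP f p), y ∈ N ∧ Set.InjOn (gp f p) (N : Set (FP f p)) :=
    fun y => exists_injOn_gp f hi p y
  have ho' := isOpenMap_gp f ho p
  constructor
  · intro σ τ h
    apply evFam_injective D (gp f p) ho' ⊤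
    funext z
    exact congrFun h z.1
  · intro d
    obtain ⟨σ, hσ⟩ := evFam_surjective D (gp f p) ho' hi' ⊤ (fun z => d z.1)
    refine ⟨σ, ?_⟩
    funext z
    exact congrFun hσ (tp f z)

/-- the cosimplicial group of sections of a sheaf of functions is the cosimplicial group of functions -/
noncomputable def KfunIso : (K f).obj (funD S D) ≅ M f D :=
  NatIso.ofComponents
    (fun x => AddEquiv.toAddCommGrpIso
      (AddEquiv.ofBijective (evT f D x.len) (evT_bijective f D ho hi x.len)))
    (by
      intro x y θ
      ext σ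
      funext z
      rfl)

include hsurj ho hi in
theorem isZero_T_funD (n : ℕ) :
    IsZero ((CosimpLim.T (𝒜 := AddCommGrpCat.{u}) (n + 1)).obj ((K f).obj (funD S D))) :=
  (isZero_homology_M f hsurj D n).of_iso
    ((CosimpLim.T (𝒜 := AddCommGrpCat.{u}) (n + 1)).mapIso (KfunIso f D ho hi))

include hsurj ho hi in
/-- Čech acyclicity of injective sheaves -/
theorem isZero_T_injective (Q : CohTop.Ab S) [Injective Q] (n : ℕ) :
    IsZero ((CosimpLim.T (𝒜 := AddCommGrpCat.{u}) (n + 1)).obj ((K f).obj Q)) := by
  obtain ⟨r, hr⟩ := LHEmb.exists_retract Q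
  exact LHEmb.isZero_of_retract (K f ⋙ CosimpLim.T (𝒜 := AddCommGrpCat.{u}) (n + 1))
    (LHEmb.emb Q) r hr (isZero_T_funD f hsurj (LHEmb.DQ Q) ho hi n)

end iso

end LHCech

end Groth.Agent.Lib.helper27
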