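import Mathlib
import Groth.Prelude.Def_CohTop
import Groth.Agent.Lib.Helper27.LHCech
import Groth.Agent.Lib.Helper27.FlasqueAcyc

set_option autoImplicit false
set_option linter.unusedVariables false
set_option linter.unusedSectionVars false

/-!
# Inverse images of injective sheaves along local homeomorphisms are acyclic
-/

namespace Groth.Agent.Lib.helper27

open CategoryTheory Limits Opposite TopologicalSpace

universe u

namespace LHAcyc

open LerayDegTop

/-- flasque sheaves are acyclic for global sections -/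
theorem isZero_ΓT_flasque {Y : TopCat.{u}} (F : CohTop.Ab Y) [TopCat.Sheaf.IsFlasque F] (q : ℕ) :
    IsZero (((ΓT Y).rightDerived (q + 1)).obj F) :=
  Horseshoe.isZero_rightDerived_succ_of_class (ΓT Y)
    (fun G => TopCat.Sheaf.IsFlasque G) FlasqueAcyc.h1
    (fun S hS a b => by
      haveI : TopCat.Sheaf.IsFlasque S.X₁ := a
      haveI : TopCat.Sheaf.IsFlasque S.X₂ := b
      refine ⟨TopCat.Sheaf.IsFlasque.of_shortExact_of_isFlasque₁₂ hS, ?_⟩
      have hepi : Epi (S.g.1.app (op (⊤ : Opens Y))) := TopCat.Sheaf.IsFlasque.epi_of_shortExact hS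
      exact Horseshoe.map_shortExact_of_epi (ΓT Y) hS hepi) q F inferInstance

variable {Y S : TopCat.{u}} (g : Y ⟶ S) (ho : IsOpenMap g)
  (hi : ∀ y : Y, ∃ N : Opens Y, y ∈ N ∧ Set.InjOn g (N : Set Y))

include ho hi in
/-- the inverse image of an injective sheaf along a local homeomorphism is acyclic -/
theorem isZero_pull_injective (Q : CohTop.Ab S) [Injective Q] (q : ℕ) :
    IsZero (((ΓT Y).rightDerived (q + 1)).obj ((CohTop.pull g).obj Q)) := by
  obtain ⟨r, hr⟩ := LHEmb.exists_retract Q
  haveI := LHFun.isFlasque_pull (LHEmb.DQ Q) g ho hi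
  exact LHEmb.isZero_of_retract (CohTop.pull g ⋙ (ΓT Y).rightDerived (q + 1))
    (LHEmb.emb Q) r hr (isZero_ΓT_flasque _ q)

end LHAcyc

end Groth.Agent.Lib.helper27
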