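import Mathlib
import Groth.Prelude.Def_SpSeq
import Groth.Agent.Lib.Helper27.DegSS

set_option autoImplicit false
set_option linter.unusedVariables false
set_option linter.unusedSectionVars false

/-!
# Prepending a first page to an `E₂`-spectral sequence (helper27)
-/

namespace Groth.Agent.Lib.helper27

open CategoryTheory Limits

universe v u

namespace Prepend

open DegSS

variable {C : Type u} [Category.{v} C] [Abelian C]

section

variable (E : E₂CohomologicalSpectralSequence C) (P : HomologicalComplex C (cc 1))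
  (e : ∀ pq, P.homology pq ≅ (E.page 2 le_rfl).X pq)

/-- the pages -/
noncomputable def page (r : ℤ) (hr : 1 ≤ r) : HomologicalComplex C (cc r) :=
  if h : r = 1 then h ▸ P else E.page r (by omega)

lemma page_one : page E P 1 le_rfl = P := by
  simp [page]

lemma page_of_ne (r : ℤ) (hr : 1 ≤ r) (h : r ≠ 1) : page E P r hr = E.page r (by omega) := by
  simp [page, h]

/-- the spectral sequence with a first page prepended -/
noncomputable def E₁ : CohomologicalSpectralSequence C 1 where
  page r hr := page E P r hr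
  iso r r' pq hrr' hr :=
    if h : r = 1 then
      eqToIso (by subst h; rw [page_one]) ≪≫ e pq ≪≫
        eqToIso (by
          obtain rfl : r' = 2 := by omega
          rw [page_of_ne E P 2 (by norm_num) (by norm_num)])
    else
      eqToIso (by rw [page_of_ne E P r hr h]) ≪≫ E.iso r r' pq hrr' (by omega) ≪≫
        eqToIso (by rw [page_of_ne E P r' (by omega) (by omega)])

lemma E₁_page (r : ℤ) (hr : 1 ≤ r) : (E₁ E P e).page r hr = page E P r hr := rfl

/-- the first page -/
noncomputable def page1XIso (pq : ℤ × ℤ) : ((E₁ E P e).page 1 le_rfl).X pq ≅ P.X pq :=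
  eqToIso (by rw [E₁_page, page_one])

variable {E} {H : ℤ → C} (a : SpSeq.Abutment E H)

/-- the abutment of the extended spectral sequence -/
noncomputable def abut : SpSeq.Abutment (E₁ E P e) H where
  fil := a.fil
  anti := a.anti
  rk := a.rk
  stat pq := ⟨by have := (a.stat pq).1; omega, fun r' h₀ hr' => by
    have h2 : (2 : ℤ) ≤ r' := le_trans (a.stat pq).1 hr'
    have := (a.stat pq).2 r' h2 hr'
    rw [E₁_page, page_of_ne E P r' h₀ (by omega)]
    exact this⟩
  β pq :=
    eqToIso (by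
      have h2 : (2 : ℤ) ≤ a.rk pq := (a.stat pq).1
      rw [E₁_page, page_of_ne E P (a.rk pq) (by omega) (by omega)]) ≪≫ a.β pq

lemma abut_isFinite (n : ℤ) (h : a.IsFinite n) : (abut P e a).IsFinite n := h

end

section Rows

variable (E : E₂CohomologicalSpectralSequence C) {H : ℤ → C} (a : SpSeq.Abutment E H)
  (ha : ∀ n, a.IsFinite n) (R : ℕ → CochainComplex C ℕ) (Z₂ : C) (hZ₂ : IsZero Z₂)
  (hE : ∀ p q : ℤ, Nonempty ((E.page 2 le_rfl).X (p, q) ≅
    (if 0 ≤ p ∧ 0 ≤ q then (R q.toNat).homology p.toNat else Z₂)))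

include ha hZ₂ hE in
theorem main :
    ∃ (E' : CohomologicalSpectralSequence C 1) (a' : SpSeq.Abutment E' H),
      (∀ n, a'.IsFinite n) ∧ SpSeq.IsBounded E' ∧
      ∀ p q : ℤ, Nonempty ((E'.page 1 le_rfl).X (p, q) ≅
        (if 0 ≤ p ∧ 0 ≤ q then (R q.toNat).X p.toNat else Z₂)) := by
  let R' := extRows R
  let P := rowsPage R'
  have he : ∀ pq : ℤ × ℤ, Nonempty (P.homology pq ≅ (E.page 2 le_rfl).X pq) := by
    rintro ⟨p, q⟩
    obtain ⟨i⟩ := hE p q
    by_cases h : 0 ≤ p ∧ 0 ≤ q
    · rw [if_pos h] at i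
      exact ⟨rowsPageHomologyIso R' p q ≪≫ extRowsHomologyIso R p q h.1 h.2 ≪≫ i.symm⟩
    · rw [if_neg h] at i
      exact ⟨rowsPageHomologyIso R' p q ≪≫
        (isZero_extRows_homology R p q h).iso (hZ₂.of_iso i)⟩
  let e : ∀ pq, P.homology pq ≅ (E.page 2 le_rfl).X pq := fun pq => (he pq).some
  have hterm : ∀ p q : ℤ, Nonempty (((E₁ E P e).page 1 le_rfl).X (p, q) ≅
      (if 0 ≤ p ∧ 0 ≤ q then (R q.toNat).X p.toNat else Z₂)) := by
    intro p q
    by_cases h : 0 ≤ p ∧ 0 ≤ q
    · rw [if_pos h]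
      exact ⟨page1XIso E P e (p, q) ≪≫ extRowsXIso R p q h.1 h.2⟩
    · rw [if_neg h]
      exact ⟨page1XIso E P e (p, q) ≪≫ (isZero_extRows_X R p q h).iso hZ₂⟩
  refine ⟨E₁ E P e, abut P e a, fun n => abut_isFinite P e a n (ha n), ?_, hterm⟩
  intro n
  apply Set.Finite.subset (Set.finite_Icc (0 : ℤ) n)
  intro p hp
  simp only [Set.mem_ofPred_eq] at hp
  by_contra hc
  apply hp
  obtain ⟨i⟩ := hterm p (n - p)
  rw [if_neg (by simp only [Set.mem_Icc] at hc; omega)] at i
  exact hZ₂.of_iso i

end Rows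

end Prepend

end Groth.Agent.Lib.helper27
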