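import Mathlib
import Groth.Prelude.Def_CohTop
import Groth.Prelude.Def_SpSeq
import Groth.Agent.Lib.Helper27.LHAcyc
import Groth.Agent.Lib.Helper27.Prepend
import Groth.Agent.Lib.Helper27.SSGroth4
import Groth.Agent.Lib.Helper27.PullFunTop

set_option autoImplicit false
set_option linter.unusedVariables false
set_option linter.unusedSectionVars false
set_option linter.style.haveILetI false

/-!
# The descent spectral sequence of a surjective local homeomorphism
-/

namespace Groth.Agent.Lib.helper27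

open CategoryTheory Limits Opposite TopologicalSpace AlgebraicTopology

universe u

namespace LHMain

open LerayDegTop LHFib LHCosimp

/-- cosimplicial abelian groups have enough injectives -/
instance enoughInjectives_cosimp : EnoughInjectives (SimplexCategory ⥤ AddCommGrpCat.{u}) where
  presentation F := by
    let J : ℕ → AddCommGrpCat.{u} := fun m => Injective.under (F.obj (SimplexCategory.mk m))
    let g : ∀ m, F.obj (SimplexCategory.mk m) ⟶ J m := fun m => Injective.ι _
    haveI : ∀ m, Mono (g m) := fun m => by dsimp [g]; infer_instance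
    haveI : ∀ m, Injective (J m) := fun m => by dsimp [J]; infer_instance
    haveI := CosimpLim.mono_lift J g
    haveI := CosimpLim.injective_E J
    exact ⟨InjectivePresentation.mk (CosimpLim.E J) inferInstance (CosimpLim.lift J g) inferInstance⟩

instance lim_additive :
    (lim : (SimplexCategory ⥤ AddCommGrpCat.{u}) ⥤ AddCommGrpCat.{u}).Additive :=
  Functor.additive_of_preserves_binary_products _

section generic

variable {Y S : TopCat.{u}} (g : Y ⟶ S)

lemma pfl_pull_ΓT : PreservesFiniteLimits (CohTop.pull g ⋙ ΓT Y) := inferInstance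

variable (ho : IsOpenMap g) (hi : ∀ y : Y, ∃ N : Opens Y, y ∈ N ∧ Set.InjOn g (N : Set Y))

include ho hi in
lemma generic (T' : ℕ → CohTop.Ab S ⥤ AddCommGrpCat.{u}) (h1 : DeltaSeq.IsExSeq T')
    (e0' : T' 0 ≅ CohTop.pull g ⋙ ΓT Y) (F : CohTop.Ab S) (l : ℕ) :
    Nonempty ((T' l).obj F ≅ AddCommGrpCat.of (CohTop.H ((CohTop.pull g).obj F) l)) := by
  have h2 : DeltaSeq.IsExSeq (fun l => CohTop.pull g ⋙ (ΓT Y).rightDerived l) :=
    (DeltaSeq.isExSeq_rightDerived (ΓT Y)).precomp (CohTop.pull g)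
      (fun I hI i => by
        haveI := hI
        exact LHAcyc.isZero_pull_injective g ho hi I i)
  have e0 : T' 0 ≅ CohTop.pull g ⋙ (ΓT Y).rightDerived 0 :=
    e0' ≪≫ (Functor.isoWhiskerLeft _ (ΓT Y).rightDerivedZeroIsoSelf).symm
  obtain ⟨e1⟩ := DeltaSeq.iso h1 h2 e0 l F
  obtain ⟨e2⟩ := rightDerived_ΓT_iso Y l ((CohTop.pull g).obj F)
  exact ⟨e1 ≪≫ e2⟩

end generic

variable {X S : TopCat.{u}} (f : X ⟶ S)

instance K_evaluation_preservesFiniteLimits (k : SimplexCategory) :
    PreservesFiniteLimits (K f ⋙ (evaluation SimplexCategory AddCommGrpCat.{u}).obj k) :=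
  haveI := pfl_pull_ΓT (gp f k.len)
  preservesFiniteLimits_of_natIso (evIso f k.len).symm

instance K_preservesFiniteLimits : PreservesFiniteLimits (K f) :=
  preservesFiniteLimits_of_evaluation _ (fun k => K_evaluation_preservesFiniteLimits f k)

instance K_additive : (K f).Additive := Functor.additive_of_preserves_binary_products _

variable (hsurj : Function.Surjective f) (ho : IsOpenMap f) (hi : IsLocallyInjective f)

include hsurj ho hi in
lemma hT (Q : CohTop.Ab S) (hQ : Injective Q) (q : ℕ) (hq : 0 < q) :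
    IsZero (((lim : (SimplexCategory ⥤ AddCommGrpCat.{u}) ⥤ AddCommGrpCat.{u}).rightDerived q).obj
      ((K f).obj Q)) := by
  obtain ⟨n, rfl⟩ : ∃ n, q = n + 1 := ⟨q - 1, by omega⟩
  obtain ⟨e⟩ := CosimpLim.main ((K f).obj Q) (n + 1)
  exact (LHCech.isZero_T_injective f hsurj ho hi Q n).of_iso e

include hsurj ho in
lemma hH (F : CohTop.Ab S) (k : ℕ) :
    Nonempty (AddCommGrpCat.of (CohTop.H F k) ≅
      ((K f ⋙ (lim : (SimplexCategory ⥤ AddCommGrpCat.{u}) ⥤ AddCommGrpCat.{u})).rightDerived k).obj F) := by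
  obtain ⟨e1⟩ := rightDerived_ΓT_iso S k F
  obtain ⟨e2⟩ := DeltaSeq.rightDerived_iso
    (K f ⋙ (lim : (SimplexCategory ⥤ AddCommGrpCat.{u}) ⥤ AddCommGrpCat.{u}))
    (DeltaSeq.isExSeq_rightDerived (ΓT S))
    ((ΓT S).rightDerivedZeroIsoSelf ≪≫ LHGamma.ΓIso f hsurj ho) k F
  exact ⟨e1.symm ≪≫ e2.symm⟩

/-- the rows of the first page -/
noncomputable def R (F : CohTop.Ab S) (l : ℕ) : CochainComplex AddCommGrpCat.{u} ℕ :=
  (alternatingCofaceMapComplex AddCommGrpCat.{u}).obj (((K f).rightDerived l).obj F)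

lemma hE (F : CohTop.Ab S) (k l : ℕ) :
    Nonempty ((R f F l).homology k ≅
      ((lim : (SimplexCategory ⥤ AddCommGrpCat.{u}) ⥤ AddCommGrpCat.{u}).rightDerived k).obj
        (((K f).rightDerived l).obj F)) := by
  obtain ⟨e⟩ := CosimpLim.main (((K f).rightDerived l).obj F) k
  exact ⟨e.symm⟩

include ho hi in
/-- the terms of the first page -/
lemma hX (F : CohTop.Ab S) (k l : ℕ) :
    Nonempty ((R f F l).X k ≅ AddCommGrpCat.of (CohTop.H ((CohTop.pull
      (WidePullback.base (fun _ : Fin (k + 1) => f) :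
        widePullback S (fun _ : Fin (k + 1) => X) (fun _ => f) ⟶ S)).obj F) l)) := by
  have h1 : DeltaSeq.IsExSeq (fun l => (K f).rightDerived l ⋙
      (evaluation SimplexCategory AddCommGrpCat.{u}).obj (SimplexCategory.mk k)) :=
    (DeltaSeq.isExSeq_rightDerived (K f)).comp _
  have e0 : (K f).rightDerived 0 ⋙
      (evaluation SimplexCategory AddCommGrpCat.{u}).obj (SimplexCategory.mk k) ≅
      CohTop.pull (gp f k) ⋙ ΓT (FP f k) :=
    Functor.isoWhiskerRight (K f).rightDerivedZeroIsoSelf _ ≪≫ evIso f k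
  obtain ⟨e1⟩ := generic (gp f k) (isOpenMap_gp f ho k) (fun y => exists_injOn_gp f hi k y)
    (fun l => (K f).rightDerived l ⋙
      (evaluation SimplexCategory AddCommGrpCat.{u}).obj (SimplexCategory.mk k)) h1 e0 F l
  have e3 := (PullFunTop.Φ F l).mapIso (overIso f k).op
  exact ⟨e1 ≪≫ e3.symm⟩

include hsurj ho hi in
theorem main (F : CohTop.Ab S) :
    ∃ (E : CohomologicalSpectralSequence AddCommGrpCat.{u} 1)
      (a : SpSeq.Abutment E (fun n : ℤ =>
        if 0 ≤ n then AddCommGrpCat.of (CohTop.H F n.toNat) else AddCommGrpCat.of PUnit.{u + 1})),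
      (∀ n, a.IsFinite n) ∧ SpSeq.IsBounded E ∧
      ∀ p q : ℤ, Nonempty ((E.page 1 le_rfl).X (p, q) ≅
        (if 0 ≤ p ∧ 0 ≤ q then
          AddCommGrpCat.of (CohTop.H ((CohTop.pull
            (WidePullback.base (fun _ : Fin (p.toNat + 1) => f) :
              widePullback S (fun _ : Fin (p.toNat + 1) => X) (fun _ => f) ⟶ S)).obj F) q.toNat)
         else AddCommGrpCat.of PUnit.{u + 1})) := by
  have hZ : IsZero (AddCommGrpCat.of PUnit.{u + 1}) := AddCommGrpCat.isZero_of_subsingleton _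
  obtain ⟨E, a, ha, -, hE2⟩ := SSGroth.grothendieck_ss_nat (K f)
    (lim : (SimplexCategory ⥤ AddCommGrpCat.{u}) ⥤ AddCommGrpCat.{u})
    (hT f hsurj ho hi) F (fun k => AddCommGrpCat.of (CohTop.H F k)) (hH f hsurj ho F)
    (fun k l => (R f F l).homology k) (hE f F)
    (AddCommGrpCat.of PUnit.{u + 1}) (AddCommGrpCat.of PUnit.{u + 1}) hZ hZ
  obtain ⟨E', a', ha', hb', hX'⟩ := Prepend.main E a ha (R f F) (AddCommGrpCat.of PUnit.{u + 1}) hZ hE2
  refine ⟨E', a', ha', hb', fun p q => ?_⟩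
  obtain ⟨i⟩ := hX' p q
  by_cases h : 0 ≤ p ∧ 0 ≤ q
  · rw [if_pos h] at i ⊢
    obtain ⟨j⟩ := hX f ho hi F p.toNat q.toNat
    exact ⟨i ≪≫ j⟩
  · rw [if_neg h] at i ⊢
    exact ⟨i⟩

end LHMain

end Groth.Agent.Lib.helper27
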