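import Mathlib
import Groth.Prelude.Def_CohTop
import Groth.Agent.Lib.Helper27.PBCMain
import Groth.Agent.Lib.Helper27.LerayDegTop
import Groth.Agent.Lib.Helper27.LHAcyc
import Groth.Agent.Lib.Helper27.Godement1

set_option autoImplicit false
set_option backward.isDefEq.respectTransparency false
set_option linter.unusedVariables false
set_option linter.unusedSectionVars false
set_option linter.style.haveILetI false

namespace Groth.Agent.Lib.helper27

open CategoryTheory Limits Opposite TopologicalSpace Topology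

universe u

namespace PBCFl

open SpecLim HausSep LerayDegTop

variable {X Y X' Y' : TopCat.{u}} {f : X ⟶ Y} {g : Y' ⟶ Y} {f' : X' ⟶ Y'} {g' : X' ⟶ X}
  (hsq : IsPullback g' f' f g) (hf : IsProperMap f)
  (hs : ∀ x x' : X, f x = f x' → x ≠ x' →
    ∃ U V : Set X, IsOpen U ∧ IsOpen V ∧ x ∈ U ∧ x' ∈ V ∧ Disjoint U V)

include hsq hf hs in
/-- pullbacks of flasque sheaves are acyclic for the base-changed map -/
theorem isZero_Rpush_pull (I : CohTop.Ab X) [hfl : TopCat.Sheaf.IsFlasque I] (i : ℕ) :
    IsZero ((CohTop.Rpush f' (i + 1)).obj ((CohTop.pull g').obj I)) := by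
  have hf' := PBCTop.isProperMap_base_change hsq hf
  have hs' := PBCTop.separated_base_change hsq hs
  refine PBCMain.isZero_of_stalks _ (fun y' => ?_)
  obtain ⟨e⟩ := HausMain.stalk_Rpush f' y' hf' hs' ((CohTop.pull g').obj I) (i + 1)
  refine IsZero.of_iso ?_ e
  have hA' : IsCompact (f' ⁻¹' {y'} : Set X') := hf'.isCompact_preimage isCompact_singleton
  have hsepA' : Sep (f' ⁻¹' {y'} : Set X') := by
    intro x hx x' hx' hne
    have h1 : f' x = y' := hx
    have h2 : f' x' = y' := hx'
    exact hs' x x' (h1.trans h2.symm) hne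
  have := HausMain.compactSpace_of (f' ⁻¹' {y'} : Set X') hA'
  have := HausMain.t2Space_of (f' ⁻¹' {y'} : Set X') hsepA'
  have hsub := Soft.subsingleton_H_of_isSoft _ (PBCSoft.isSoft_fibre hsq hf hs I y') i
  exact AddCommGrpCat.isZero_of_subsingleton _

/-- sheaves on a one-point space have no higher cohomology -/
lemma subsingleton_H_pt (hS : ∀ a b : Y', a = b) (F : CohTop.Ab Y') (p : ℕ) :
    Subsingleton (CohTop.H F (p + 1)) := by
  haveI : Subsingleton Y' := ⟨hS⟩
  haveI : DiscreteTopology Y' := inferInstance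
  haveI : TopCat.Sheaf.IsFlasque F := Godement.isFlasque_of_discrete F
  have h1 := LHAcyc.isZero_ΓT_flasque F p
  obtain ⟨e⟩ := rightDerived_ΓT_iso Y' (p + 1) F
  have h2 : IsZero (AddCommGrpCat.of (CohTop.H F (p + 1))) := IsZero.of_iso h1 e.symm
  exact AddCommGrpCat.subsingleton_of_isZero h2

include hsq hf hs in
/-- the cohomology of the fibre over a point with values in the pullback of a flasque sheaf
vanishes -/
theorem subsingleton_H_pull (hS : ∀ a b : Y', a = b) (I : CohTop.Ab X)
    [hfl : TopCat.Sheaf.IsFlasque I] (q : ℕ) :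
    Subsingleton (CohTop.H ((CohTop.pull g').obj I) (q + 1)) := by
  obtain ⟨e⟩ := LerayDegTop.main f' ((CohTop.pull g').obj I)
    (fun p q => subsingleton_H_pt hS _ p) (q + 1)
  have hz := isZero_Rpush_pull hsq hf hs I q
  have hz2 : IsZero ((ΓT Y').obj ((CohTop.Rpush f' (q + 1)).obj ((CohTop.pull g').obj I))) :=
    (ΓT Y').map_isZero hz
  haveI : Subsingleton (((CohTop.Rpush f' (q + 1)).obj ((CohTop.pull g').obj I)).obj.obj
      (op (⊤ : Opens Y'))) := AddCommGrpCat.subsingleton_of_isZero hz2
  exact e.toEquiv.subsingleton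

include hsq hf hs in
theorem isZero_ΓT_pull (hS : ∀ a b : Y', a = b) (I : CohTop.Ab X)
    [hfl : TopCat.Sheaf.IsFlasque I] (q : ℕ) :
    IsZero (((ΓT X').rightDerived (q + 1)).obj ((CohTop.pull g').obj I)) := by
  obtain ⟨e⟩ := rightDerived_ΓT_iso X' (q + 1) ((CohTop.pull g').obj I)
  haveI := subsingleton_H_pull hsq hf hs hS I q
  exact IsZero.of_iso (AddCommGrpCat.isZero_of_subsingleton _) e

end PBCFl

end Groth.Agent.Lib.helper27
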