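import Mathlib
import Groth.Prelude.Def_FibDesc
import Groth.Agent.Lib.Helper27.BCIso
import Groth.Agent.Lib.Helper27.LanKV
import Groth.Agent.Lib.Helper27.InjLev
import Groth.Agent.Lib.Helper27.EvalDer
import Groth.Agent.Lib.Helper27.FamExact
import Groth.Agent.Lib.Helper27.PBCFl
import Groth.Agent.Lib.Helper27.CompAcyc
import Groth.Agent.Lib.Helper27.LHMain

set_option autoImplicit false
set_option linter.unusedSectionVars false
set_option linter.unusedVariables false
set_option linter.style.haveILetI false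
set_option backward.isDefEq.respectTransparency false
set_option backward.isDefEq.respectTransparency.types false

namespace Groth.Agent.Lib.helper27

open CategoryTheory Limits Opposite Pseudofunctor Pseudofunctor.CoGrothendieck
open FibDesc TopologicalSpace

universe u

namespace HAcyc

open BigSec TotSide TAug RanV SqSec PullConst DecDef GPull DecNat GPullK PushSec ResTr BaseCh SimpEq
  BCIso LerayDegTop

/-- transport to cosimplicial objects -/
noncomputable abbrev WΔ : (SimplexCategoryᵒᵖᵒᵖ ⥤ AddCommGrpCat.{u}) ⥤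
    (SimplexCategory ⥤ AddCommGrpCat.{u}) :=
  (Functor.whiskeringLeft _ _ _).obj (opOp SimplexCategory)

variable (Y : (WithInitial SimplexCategory)ᵒᵖ ⥤ TopCat.{u})
  (V : Opens (Y.obj (bot SimplexCategory)))

/-- sections over the preimages of `V`, as a cosimplicial abelian group -/
noncomputable def KΔ : DShY Y ⥤ (SimplexCategory ⥤ AddCommGrpCat.{u}) := KV Y V ⋙ WΔ

instance : PreservesFiniteLimits (KΔ Y V) := by
  unfold KΔ KV
  infer_instance

instance : (KΔ Y V).Additive := Functor.additive_of_preserves_binary_products _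

lemma KΔ_obj (M : DShY Y) (k : SimplexCategory) :
    ((KΔ Y V).obj M).obj k = M.obj.obj (op (tpOb Y (op k) (WV Y V (op k)))) := rfl

lemma KΔ_map (M : DShY Y) {k k' : SimplexCategory} (θ : k ⟶ k') :
    ((KΔ Y V).obj M).map θ = M.obj.map (tpHom Y θ.op (WV_le Y V θ.op)).op := rfl

/-- the limit over the cosimplicial indexing -/
noncomputable def KΔlimIso :
    KΔ Y V ⋙ (lim : (SimplexCategory ⥤ AddCommGrpCat.{u}) ⥤ AddCommGrpCat.{u}) ≅
      KV Y V ⋙ (lim : (SimplexCategoryᵒᵖᵒᵖ ⥤ AddCommGrpCat.{u}) ⥤ AddCommGrpCat.{u}) :=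
  Functor.associator _ _ _ ≪≫ Functor.isoWhiskerLeft (KV Y V)
    (Functor.Initial.limIso (opOp SimplexCategory))

theorem injective_KΔ (I : DShY Y) [Injective I] : Injective ((KΔ Y V).obj I) := by
  haveI := LanKV.injective_KV Y V I
  let e : (SimplexCategoryᵒᵖᵒᵖ ⥤ AddCommGrpCat.{u}) ≌ (SimplexCategory ⥤ AddCommGrpCat.{u}) :=
    (opOpEquivalence SimplexCategory).congrLeft
  exact Injective.injective_of_adjoint e.symm.toAdjunction ((KV Y V).obj I)

variable {Y V} in
/-- the restriction maps -/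
noncomputable def rΔ (M : DShY Y) {V₁ : Opens (Y.obj (bot SimplexCategory))} (h : V₁ ≤ V) :
    (KΔ Y V).obj M ⟶ (KΔ Y V₁).obj M where
  app k := M.obj.map (vertP Y (op k) (WV_mono Y V h (op k))).op
  naturality k k' θ := by
    rw [KΔ_map, KΔ_map]
    have hle : WV Y V₁ (op k') ≤ (Opens.map (Ym Y θ.op)).obj (WV Y V (op k)) :=
      (WV_le Y V₁ θ.op).trans ((Opens.map (Ym Y θ.op)).monotone (WV_mono Y V h (op k)))
    have a0 := mapP_comp Y M (tpHom Y θ.op (WV_le Y V₁ θ.op))
      (vertP Y (op k) (WV_mono Y V h (op k))) (tpHom Y θ.op hle) (Category.comp_id _)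
    have a1 := mapP_comp Y M (vertP Y (op k') (WV_mono Y V h (op k')))
      (tpHom Y θ.op (WV_le Y V θ.op)) (tpHom Y θ.op hle) (Category.id_comp _)
    exact a1.trans a0.symm

/-- evaluation of the sections functor at a level -/
noncomputable def evIso (k : SimplexCategory) :
    KΔ Y ⊤ ⋙ (evaluation SimplexCategory AddCommGrpCat.{u}).obj k ≅
      restrP Y (op k) ⋙ ΓT (Xs Y (op k)) :=
  NatIso.ofComponents (fun M => Iso.refl _) (by
    intro M M' φ
    exact (Category.comp_id _).trans (Category.id_comp _).symm)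

/-- the derived functors of the sections functor, levelwise -/
theorem evalDer_KΔ (N : DShY Y) (q : ℕ) (k : SimplexCategory) :
    Nonempty ((((KΔ Y ⊤).rightDerived q).obj N).obj k ≅
      ((ΓT (Xs Y (op k))).rightDerived q).obj ((restrP Y (op k)).obj N)) :=
  EvalDer.evalDer (KΔ Y ⊤) k (restrP Y (op k)) (ΓT (Xs Y (op k))) (evIso Y k)
    (fun I hI q => by
      haveI := hI
      exact LHAcyc.isZero_ΓT_flasque ((restrP Y (op k)).obj I) q) q N

section fibre

variable {Y} {Y' : (WithInitial SimplexCategory)ᵒᵖ ⥤ TopCat.{u}} (d : FData Y Y')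
  (hS : ∀ a b : Y'.obj (bot SimplexCategory), a = b) (p : Y'.obj (bot SimplexCategory))
  (M : DShY Y)

include hS in
lemma top_le (hV : d.j p ∈ V) (k : SimplexCategory) :
    WV Y' ⊤ (op k) ≤ (Opens.map (d.e (op k))).obj (WV Y V (op k)) :=
  (WV_mono Y' _ (PtSp.le_of_mem hS p ⊤ (jV d.toA V) hV) (op k)).trans (WV_le_e d.toA V (op k))

/-- the maps to the cosimplicial group of the fibre -/
noncomputable def γΔ (hV : d.j p ∈ V) :
    (KΔ Y V).obj M ⟶ (KΔ Y' ⊤).obj ((FPull d).obj M) where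
  app k := γsec d.toA.toPData M (op k) (WV Y V (op k)) (WV Y' ⊤ (op k)) (top_le V d hS p hV k)
  naturality k k' θ := by
    ext x
    have h1 := γsec_natural d.toA.toPData M θ.op (WV Y V (op k)) (WV Y' ⊤ (op k))
      (top_le V d hS p hV k) (WV Y V (op k')) (WV Y' ⊤ (op k')) (top_le V d hS p hV k')
      (WV_le Y V θ.op) (WV_le Y' ⊤ θ.op) x
    exact h1.symm

lemma rΔ_γΔ {V₁ : Opens (Y.obj (bot SimplexCategory))} (h : V₁ ≤ V) (hV₁ : d.j p ∈ V₁) :
    rΔ M h ≫ γΔ V₁ d hS p M hV₁ = γΔ V d hS p M (h hV₁) := by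
  apply NatTrans.ext
  funext k
  ext x
  have a := γsec_res d.toA M (op k) (WV Y V (op k)) (WV Y V₁ (op k)) (WV Y' ⊤ (op k))
    (WV Y' ⊤ (op k)) (top_le V d hS p (h hV₁) k) (top_le V₁ d hS p hV₁ k)
    (WV_mono Y V h (op k)) le_rfl x
  refine a.symm.trans ?_
  exact γsec_resW d M (op k) _ _ _ _ le_rfl x

variable (hsq : ∀ n, IsPullback (d.e n) (aP Y' n) (aP Y n) d.j)
  (hprop : ∀ n, IsProperMap (aP Y n))
  (hsep : ∀ n, ∀ x x' : Xs Y n, aP Y n x = aP Y n x' → x ≠ x' →
    ∃ U V : Set (Xs Y n), IsOpen U ∧ IsOpen V ∧ x ∈ U ∧ x' ∈ V ∧ Disjoint U V)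

include hS p hsq hprop hsep in
/-- the cosimplicial group of sections over the fibre of the pullback of an injective sheaf is
acyclic for the limit -/
theorem isZero_lim_KΔ (J : DShY Y) [Injective J] (m : ℕ) :
    IsZero (((lim : (SimplexCategory ⥤ AddCommGrpCat.{u}) ⥤ AddCommGrpCat.{u}).rightDerived
      (m + 1)).obj ((KΔ Y' ⊤).obj ((FPull d).obj J))) := by
  let N := (FPull d).obj J
  obtain ⟨e⟩ := CosimpLim.main ((KΔ Y' ⊤).obj N) (m + 1)
  refine IsZero.of_iso ?_ e
  show IsZero (((CosimpLim.Cfun (𝒜 := AddCommGrpCat.{u})).obj ((KΔ Y' ⊤).obj N)).homology (m + 1))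
  rw [← HomologicalComplex.exactAt_iff_isZero_homology]
  refine FamExact.exactAt_of_family
    (ι := {V : Opens (Y.obj (bot SimplexCategory)) // d.j p ∈ V})
    (fun V => (KΔ Y V.1).obj J) ((KΔ Y' ⊤).obj N) (fun V => γΔ V.1 d hS p J V.2) ?_ ?_ m ?_
  · intro k a
    obtain ⟨V, hV, t, W'', hW'', h1, h2, e⟩ :=
      level_surj d p hsq hprop hsep J (op k) ⊤ trivial a
    obtain rfl : W'' = ⊤ := PtSp.eq_of_mem hS p W'' ⊤ hW'' trivial
    exact ⟨⟨V, hV⟩, t, e.symm.trans (mapP_self Y' N _ rfl a)⟩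
  · intro V k t h0
    obtain ⟨V₁, hV₁, hpV₁, h1⟩ := level_inj d p hsq hprop J (op k) V.1 V.2 ⊤ trivial
      (PtSp.le_of_mem hS p ⊤ _ V.2) t h0
    exact ⟨⟨V₁, hpV₁⟩, rΔ J hV₁, rΔ_γΔ V.1 d hS p J hV₁ hpV₁, h1⟩
  · intro V
    haveI := injective_KΔ Y V.1 J
    have hz := CosimpLim.isZero_T_of_injective ((KΔ Y V.1).obj J) m
    rw [HomologicalComplex.exactAt_iff_isZero_homology]
    exact hz

include hS p hsq hprop hsep in
theorem acyc_KΔ (J : DShY Y) [Injective J] : CompAcyc.Acyc (KΔ Y' ⊤) ((FPull d).obj J) := by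
  intro i hi
  obtain ⟨q, rfl⟩ : ∃ q, i = q + 1 := ⟨i - 1, by omega⟩
  apply Functor.isZero
  intro k
  obtain ⟨e⟩ := evalDer_KΔ Y' ((FPull d).obj J) (q + 1) k
  refine IsZero.of_iso ?_ e
  let e2 := (GPull.levelIso d.toA.toPData (op k)).app J
  refine IsZero.of_iso ?_ (((ΓT (Xs Y' (op k))).rightDerived (q + 1)).mapIso e2)
  exact PBCFl.isZero_ΓT_pull (hsq (op k)) (hprop (op k)) (hsep (op k)) hS
    ((restrP Y (op k)).obj J) q

include hS p hsq hprop hsep in
/-- **Effaceability**: the pullback to the fibre of an injective sheaf on the total site is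
acyclic for the direct image -/
theorem hacyc (J : DShY Y) [Injective J] (i : ℕ) :
    IsZero (((pushY Y').rightDerived (i + 1)).obj ((FPull d).obj J)) := by
  let N := (FPull d).obj J
  apply PtSp.isZero_rightDerived_pt hS p (pushY Y')
  refine IsZero.of_iso ?_ ((DescCrit.rdIso (pushΓIso Y' ⊤) (i + 1)).app N)
  refine IsZero.of_iso ?_ ((DescCrit.rdIso (KΔlimIso Y' ⊤) (i + 1)).app N).symm
  obtain ⟨e⟩ := CompAcyc.rightDerived_comp_iso (KΔ Y' ⊤)
    (lim : (SimplexCategory ⥤ AddCommGrpCat.{u}) ⥤ AddCommGrpCat.{u})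
    (fun I hI => by haveI := hI; exact injective_KΔ Y' ⊤ I) N
    (acyc_KΔ d hS p hsq hprop hsep J) (i + 1)
  exact IsZero.of_iso (isZero_lim_KΔ d hS p hsq hprop hsep J i) e.symm

end fibre

end HAcyc

end Groth.Agent.Lib.helper27
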