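import Mathlib
import Groth.Prelude.Def_FibDesc
import Groth.Agent.Lib.Helper27.HAcyc
import Groth.Agent.Lib.Helper27.TpPull
import Groth.Agent.Lib.Helper27.ConvFF2
import Groth.Agent.Lib.Helper27.LocCrit

set_option autoImplicit false
set_option linter.unusedSectionVars false
set_option linter.unusedVariables false
set_option linter.style.haveILetI false
set_option backward.isDefEq.respectTransparency false
set_option backward.isDefEq.respectTransparency.types false

namespace Groth.Agent.Lib.helper27

open CategoryTheory Limits Opposite Pseudofunctor Pseudofunctor.CoGrothendieck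
open FibDesc TopologicalSpace

universe u

namespace FibCrit

open BigSec TotSide TAug RanV SqSec PullConst DecDef GPull DecNat GPullK PushSec ResTr BaseCh SimpEq
  BCIso TpFun TpUniv TpPull HAcyc StalkAb

attribute [local instance] HasDerivedCategory.standard

variable {Y Y' : (WithInitial SimplexCategory)ᵒᵖ ⥤ TopCat.{u}} (d : FData Y Y')
  (hS : ∀ a b : Y'.obj (bot SimplexCategory), a = b) (p : Y'.obj (bot SimplexCategory))
  (hsq : ∀ n, IsPullback (d.e n) (aP Y' n) (aP Y n) d.j)
  (hprop : ∀ n, IsProperMap (aP Y n))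
  (hsep : ∀ n, ∀ x x' : Xs Y n, aP Y n x = aP Y n x' → x ≠ x' →
    ∃ U V : Set (Xs Y n), IsOpen U ∧ IsOpen V ∧ x ∈ U ∧ x' ∈ V ∧ Disjoint U V)

include hS p hsq hprop hsep in
/-- the base change isomorphism in degree zero, as a natural isomorphism -/
noncomputable def bcIso : pushY Y ⋙ CohTop.pull d.j ≅ FPull d ⋙ pushY Y' :=
  NatIso.ofComponents
    (fun M => by
      haveI := isIso_bc d hS p hsq hprop hsep M
      exact asIso (bc d.toA M))
    (by
      intro M M' φ
      exact bc_natural d.toA φ)

include hS p hsq hprop hsep in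
/-- **Proper base change for the direct image of the augmentation**, objectwise -/
theorem baseChange (M : DShY Y) (q : ℕ) :
    Nonempty ((CohTop.pull d.j).obj (((pushY Y).rightDerived q).obj M) ≅
      ((pushY Y').rightDerived q).obj ((FPull d).obj M)) := by
  haveI : (CohTop.pull d.j).Additive := PullConst.pull_additive d.j
  haveI : PreservesFiniteLimits (CohTop.pull d.j) := PullConst.pull_preservesFiniteLimits d.j
  haveI : PreservesFiniteColimits (CohTop.pull d.j) := PullConst.pull_preservesFiniteColimits d.j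
  have hT : DeltaSeq.IsExSeq (fun i => (pushY Y).rightDerived i ⋙ CohTop.pull d.j) :=
    (DeltaSeq.isExSeq_rightDerived (pushY Y)).comp (CohTop.pull d.j)
  have hT' : DeltaSeq.IsExSeq (fun i => FPull d ⋙ (pushY Y').rightDerived i) :=
    (DeltaSeq.isExSeq_rightDerived (pushY Y')).precomp (FPull d) (fun J hJ i => by
      haveI := hJ
      exact hacyc d hS p hsq hprop hsep J i)
  let e : (pushY Y).rightDerived 0 ⋙ CohTop.pull d.j ≅ FPull d ⋙ (pushY Y').rightDerived 0 :=
    Functor.isoWhiskerRight (pushY Y).rightDerivedZeroIsoSelf (CohTop.pull d.j) ≪≫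
      bcIso d hS p hsq hprop hsep ≪≫
      (Functor.isoWhiskerLeft (FPull d) (pushY Y').rightDerivedZeroIsoSelf).symm
  exact DeltaSeq.iso hT hT' e q M

variable (hdesc : IsCohDescentTop Y')

include hS p hsq hprop hsep hdesc in
lemma isZero_pull_Rpush (I : CohTop.Ab (Y.obj (bot SimplexCategory))) (q : ℕ) :
    IsZero ((CohTop.pull d.j).obj (((pushY Y).rightDerived (q + 1)).obj (Tp Y I))) := by
  haveI : HasExt.{u + 1} (BSh Y') := HasExt.standard _
  haveI : HasExt.{u + 1} (DShY Y') := HasExt.standard _
  obtain ⟨e⟩ := baseChange d hS p hsq hprop hsep (Tp Y I) (q + 1)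
  refine IsZero.of_iso ?_ e
  haveI := isIso_κ d.toA I
  refine IsZero.of_iso ?_ (((pushY Y').rightDerived (q + 1)).mapIso (asIso (κ d.toA I)).symm)
  refine IsZero.of_iso ?_ (((pushY Y').rightDerived (q + 1)).mapIso
    ((pullIso Y').app (Gp d.toA I)).symm)
  exact ConvFF.isZero_rightDerived_all.{u + 1, u + 1}
    (adj (topAug Y') (topAugTop Y') AddCommGrpCat.{u}) (LocCrit.ffPlus_of Y' hdesc) q
    (toB Y' (Gp d.toA I))

include hdesc in
lemma isIso_uT' (G' : CohTop.Ab (Y'.obj (bot SimplexCategory))) : IsIso (uT Y' G') := by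
  haveI : HasExt.{u + 1} (BSh Y') := HasExt.standard _
  haveI : HasExt.{u + 1} (DShY Y') := HasExt.standard _
  haveI hu : IsIso ((adj (topAug Y') (topAugTop Y') AddCommGrpCat.{u}).unit.app (toB Y' G')) :=
    ConvFF.isIso_unit.{u + 1, u + 1} (adj (topAug Y') (topAugTop Y') AddCommGrpCat.{u})
      (LocCrit.ffPlus_of Y' hdesc) _
  rw [← unit_pullIso Y' G']
  infer_instance

include hS p hsq hprop hsep hdesc in
lemma isIso_pull_uT (I : CohTop.Ab (Y.obj (bot SimplexCategory))) :
    IsIso ((CohTop.pull d.j).map (uT Y I)) := by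
  have h := pull_uT_bc d.toA I
  haveI := isIso_bc d hS p hsq hprop hsep (Tp Y I)
  haveI := isIso_uT' hdesc (Gp d.toA I)
  haveI := isIso_κ d.toA I
  have h2 : (CohTop.pull d.toA.j).map (uT Y I) =
      (uT Y' (Gp d.toA I) ≫ (pushY Y').map (κ d.toA I)) ≫ inv (bc d.toA (Tp Y I)) := by
    rw [← h, Category.assoc, IsIso.hom_inv_id, Category.comp_id]
  show IsIso ((CohTop.pull d.toA.j).map (uT Y I))
  rw [h2]
  infer_instance

/-- the data of the fibre of an augmented simplicial space over a point of the base -/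
structure FibreAt (Y : (WithInitial SimplexCategory)ᵒᵖ ⥤ TopCat.{u})
    (s : Y.obj (bot SimplexCategory)) where
  Y' : (WithInitial SimplexCategory)ᵒᵖ ⥤ TopCat.{u}
  d : FData Y Y'
  hS : ∀ a b : Y'.obj (bot SimplexCategory), a = b
  p : Y'.obj (bot SimplexCategory)
  hp : d.j p = s
  hsq : ∀ n, IsPullback (d.e n) (aP Y' n) (aP Y n) d.j
  hdesc : IsCohDescentTop Y'

omit d hS p hsq in
/-- **Fibre criterion**: an augmented simplicial space all of whose levels are proper and separated
over the base, and all of whose fibres over points of the base are of cohomological descent, is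
of cohomological descent -/
theorem isCohDescentTop_of_fibres (Y : (WithInitial SimplexCategory)ᵒᵖ ⥤ TopCat.{u})
    (hprop : ∀ n, IsProperMap (aP Y n))
    (hsep : ∀ n, ∀ x x' : Xs Y n, aP Y n x = aP Y n x' → x ≠ x' →
      ∃ U V : Set (Xs Y n), IsOpen U ∧ IsOpen V ∧ x ∈ U ∧ x' ∈ V ∧ Disjoint U V)
    (hfib : ∀ s : Y.obj (bot SimplexCategory), Nonempty (FibreAt Y s)) :
    IsCohDescentTop Y := by
  refine ⟨inferInstance, inferInstance, inferInstance, inferInstance, inferInstance,
    inferInstance, ?_⟩
  intro K L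
  obtain ⟨n, hn⟩ := L.property
  haveI : L.obj.IsGE n := hn
  refine FFThm.main (adj (topAug Y) (topAugTop Y) AddCommGrpCat.{u}) ?_ ?_ K.obj L.obj n
  · intro I hI
    refine (isIso_unit_iff Y I).2 ?_
    have hu : IsIso (uT Y I) := by
      apply isIso_of_stk
      intro s
      obtain ⟨A⟩ := hfib s
      obtain ⟨Y', d, hS, p, hp, hsq, hdesc⟩ := A
      subst hp
      exact PtSp.isIso_stk_of_pull d.j (uT Y I) p
        (isIso_pull_uT d hS p hsq hprop hsep hdesc I)
    haveI := isIso_uG Y I
    haveI : IsIso (uG Y I ≫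
      (FibSite.restr (topAug Y) (topAugTop Y) AddCommGrpCat.{u} (bot SimplexCategory)).map
        ((inclAdj Y).unit.app (Taug Y I))) := hu
    exact IsIso.of_isIso_comp_left (uG Y I) _
  · intro I hI q hq
    refine IsZero.of_iso ?_
      (((push (topAug Y) (topAugTop Y) AddCommGrpCat.{u}).rightDerived q).mapIso
        ((pullIso Y).app I))
    obtain ⟨q', rfl⟩ : ∃ q', q = q' + 1 := ⟨q - 1, by omega⟩
    apply isZero_of_stk
    intro s
    obtain ⟨A⟩ := hfib s
    obtain ⟨Y', d, hS, p, hp, hsq, hdesc⟩ := A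
    subst hp
    exact PtSp.isZero_stk_of_pull d.j _ p
      (isZero_pull_Rpush d hS p hsq hprop hsep hdesc I q')

end FibCrit

end Groth.Agent.Lib.helper27
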