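import Mathlib
import Groth.Prelude.Def_FibDesc
import Groth.Agent.Lib.Helper27.CechContr
import Groth.Agent.Lib.Helper27.PBCTop

set_option autoImplicit false
set_option linter.unusedSectionVars false
set_option linter.unusedVariables false
set_option linter.style.haveILetI false
set_option backward.isDefEq.respectTransparency false
set_option backward.isDefEq.respectTransparency.types false

namespace Groth.Agent.Lib.helper27

open CategoryTheory Limits Opposite
open FibDesc TopologicalSpace

universe u

namespace PropLev

open CechContr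

variable {X S : TopCat.{u}} (f : X ⟶ S)

/-- forgetting the last coordinate -/
noncomputable abbrev drop (k : ℕ) : Lw f (k + 1) ⟶ Lw f k := Yo f (dO k)

lemma drop_pr (k : ℕ) (i : Fin (k + 1)) : drop f k ≫ pr f k i = pr f (k + 1) i.castSucc :=
  Yo_pr f (dO k) i

lemma drop_bs (k : ℕ) : drop f k ≫ bs f k = bs f (k + 1) := Yo_bs f (dO k)

/-- the family defining the lift -/
noncomputable def lFam {T : TopCat.{u}} (k : ℕ) (a : T ⟶ X) (b : T ⟶ Lw f k)
    (i : Fin (k + 1 + 1)) : T ⟶ X :=
  Fin.lastCases a (fun j => b ≫ pr f k j) i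

lemma lFam_f {T : TopCat.{u}} (k : ℕ) (a : T ⟶ X) (b : T ⟶ Lw f k) (w : a ≫ f = b ≫ bs f k)
    (i : Fin (k + 1 + 1)) : lFam f k a b i ≫ f = b ≫ bs f k := by
  induction i using Fin.lastCases with
  | last => rw [lFam, Fin.lastCases_last, w]
  | cast j => rw [lFam, Fin.lastCases_castSucc, Category.assoc, pr_f]

/-- the next fibre power is the fibre product of the previous one with `X` -/
theorem isPullback_drop (k : ℕ) :
    IsPullback (pr f (k + 1) (Fin.last (k + 1))) (drop f k) f (bs f k) := by
  refine IsPullback.of_isLimit' ⟨by rw [pr_f, drop_bs]⟩ ?_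
  refine PullbackCone.IsLimit.mk _
    (fun s => WidePullback.lift (s.snd ≫ bs f k) (lFam f k s.fst s.snd)
      (lFam_f f k s.fst s.snd s.condition)) ?_ ?_ ?_
  · intro s
    have h := WidePullback.lift_π _ (s.snd ≫ bs f k) (lFam f k s.fst s.snd)
      (lFam_f f k s.fst s.snd s.condition) (Fin.last (k + 1))
    refine h.trans ?_
    rw [lFam, Fin.lastCases_last]
  · intro s
    apply hom_ext'
    · intro i
      rw [Category.assoc, drop_pr]
      have h := WidePullback.lift_π _ (s.snd ≫ bs f k) (lFam f k s.fst s.snd)
        (lFam_f f k s.fst s.snd s.condition) i.castSucc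
      refine h.trans ?_
      rw [lFam, Fin.lastCases_castSucc]
    · rw [Category.assoc, drop_bs]
      exact WidePullback.lift_base _ _ _ _
  · intro s m h1 h2
    apply hom_ext'
    · intro i
      have h := WidePullback.lift_π _ (s.snd ≫ bs f k) (lFam f k s.fst s.snd)
        (lFam_f f k s.fst s.snd s.condition) i
      refine Eq.trans ?_ h.symm
      induction i using Fin.lastCases with
      | last => rw [lFam, Fin.lastCases_last]; exact h1
      | cast j =>
        rw [lFam, Fin.lastCases_castSucc, ← h2, Category.assoc, drop_pr]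
    · have h := WidePullback.lift_base _ (s.snd ≫ bs f k) (lFam f k s.fst s.snd)
        (lFam_f f k s.fst s.snd s.condition)
      refine Eq.trans ?_ h.symm
      rw [← h2, Category.assoc, drop_bs]

/-- the zeroth fibre power is `X` -/
noncomputable def iso0 : Lw f 0 ≅ X where
  hom := pr f 0 0
  inv := WidePullback.lift f (fun _ => 𝟙 X) (fun _ => Category.id_comp _)
  hom_inv_id := by
    apply hom_ext'
    · intro i
      obtain rfl : i = 0 := Fin.ext (by have := i.isLt; omega)
      rw [Category.assoc, Category.id_comp]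
      have := WidePullback.lift_π (fun _ : Fin (0 + 1) => f) f (fun _ => 𝟙 X)
        (fun _ => Category.id_comp _) (0 : Fin (0 + 1))
      rw [this, Category.comp_id]
    · rw [Category.assoc, Category.id_comp]
      have := WidePullback.lift_base (fun _ : Fin (0 + 1) => f) f (fun _ => 𝟙 X)
        (fun _ => Category.id_comp _)
      rw [this, pr_f]
  inv_hom_id := WidePullback.lift_π (fun _ : Fin (0 + 1) => f) f (fun _ => 𝟙 X)
    (fun _ => Category.id_comp _) (0 : Fin (0 + 1))

variable (hf : IsProperMap f)
  (hs : ∀ x x' : X, f x = f x' → x ≠ x' →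
    ∃ U V : Set X, IsOpen U ∧ IsOpen V ∧ x ∈ U ∧ x' ∈ V ∧ Disjoint U V)

include hf in
/-- the fibre powers of a proper map are proper over the base -/
theorem isProperMap_bs : ∀ k : ℕ, IsProperMap (bs f k) := by
  intro k
  induction k with
  | zero =>
    have h1 : IsProperMap (pr f 0 0) := (TopCat.homeoOfIso (iso0 f)).isProperMap
    have h2 : (bs f 0 : Lw f 0 → S) = f ∘ pr f 0 0 := by
      funext x
      exact (ConcreteCategory.congr_hom (pr_f f 0 0) x).symm
    rw [h2]
    exact hf.comp h1
  | succ k ih =>
    have h1 : IsProperMap (drop f k) := PBCTop.isProperMap_base_change (isPullback_drop f k) hf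
    have h2 : (bs f (k + 1) : Lw f (k + 1) → S) = bs f k ∘ drop f k := by
      funext x
      exact (ConcreteCategory.congr_hom (drop_bs f k) x).symm
    rw [h2]
    exact ih.comp h1

include hs in
/-- the fibre powers of a map with separated fibres have separated fibres over the base -/
theorem separated_bs (k : ℕ) : ∀ x x' : Lw f k, bs f k x = bs f k x' → x ≠ x' →
    ∃ U V : Set (Lw f k), IsOpen U ∧ IsOpen V ∧ x ∈ U ∧ x' ∈ V ∧ Disjoint U V := by
  intro x x' hb hne
  have hex : ∃ i, pr f k i x ≠ pr f k i x' := by
    by_contra hcon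
    have hcon' : ∀ i, pr f k i x = pr f k i x' := fun i => by
      by_contra h
      exact hcon ⟨i, h⟩
    exact hne (Concrete.widePullback_ext (fun _ : Fin (k + 1) => f) x x' hb hcon')
  obtain ⟨i, hi⟩ := hex
  have hfi : f (pr f k i x) = f (pr f k i x') := by
    have e1 := ConcreteCategory.congr_hom (pr_f f k i) x
    have e2 := ConcreteCategory.congr_hom (pr_f f k i) x'
    exact e1.trans (hb.trans e2.symm)
  obtain ⟨U, V, hU, hV, hxU, hxV, hd⟩ := hs _ _ hfi hi
  refine ⟨pr f k i ⁻¹' U, pr f k i ⁻¹' V, hU.preimage (pr f k i).hom.continuous,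
    hV.preimage (pr f k i).hom.continuous, hxU, hxV, hd.preimage _⟩

end PropLev

end Groth.Agent.Lib.helper27
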