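import Mathlib
import Groth.Prelude.Def_FibDesc
import Groth.Agent.Lib.Helper27.FibCrit
import Groth.Agent.Lib.Helper27.PropLev
import Groth.Agent.Lib.Helper27.CechOpen

set_option autoImplicit false
set_option linter.unusedSectionVars false
set_option linter.unusedVariables false
set_option linter.style.haveILetI false
set_option backward.isDefEq.respectTransparency false
set_option backward.isDefEq.respectTransparency.types false

namespace Groth.Agent.Lib.helper27

open CategoryTheory Limits Opposite
open FibDesc TopologicalSpace

universe u

namespace FibCech

open CechContr CechOpen RanV TAug BCIso FibCrit TotSide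

variable {X S : TopCat.{u}} (f : X ⟶ S)

/-- the one-point space -/
abbrev Pt : TopCat.{u} := TopCat.of PUnit.{u + 1}

/-- the inclusion of a point -/
noncomputable abbrev jpt (s : S) : Pt.{u} ⟶ S := TopCat.ofHom ⟨fun _ => s, continuous_const⟩

/-- the fibre data of the Cech nerve over a point -/
noncomputable def fdata (s : S) : FData (cechAug f) (cechAug (pullback.snd f (jpt s))) where
  e n := (φC f (jpt s)).app ((toAug SimplexCategory).obj n)
  e_nat θ := (φC f (jpt s)).naturality ((toAug SimplexCategory).map θ)
  j := (φC f (jpt s)).app (bot SimplexCategory)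
  e_aug n := (φC f (jpt s)).naturality (toBot ((toAug SimplexCategory).obj n))

/-- **Proper surjective maps with separated fibres are of cohomological descent** -/
theorem isCohDescentMap_of_proper (hf : IsProperMap f)
    (hs : ∀ x x' : X, f x = f x' → x ≠ x' →
      ∃ U V : Set X, IsOpen U ∧ IsOpen V ∧ x ∈ U ∧ x' ∈ V ∧ Disjoint U V)
    (hsurj : Function.Surjective f) : IsCohDescentMap f := by
  apply isCohDescentTop_of_fibres (cechAug f)
  · intro n
    exact PropLev.isProperMap_bs f hf n.unop.len
  · intro n
    exact PropLev.separated_bs f hs n.unop.len
  · intro s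
    obtain ⟨x, hx⟩ := hsurj s
    let sec : Pt.{u} ⟶ pullback f (jpt s) :=
      pullback.lift (TopCat.ofHom ⟨fun _ => x, continuous_const⟩) (𝟙 _) (by
        ext a
        exact hx)
    have hsec : sec ≫ pullback.snd f (jpt s) = 𝟙 _ := pullback.lift_snd _ _ _
    exact ⟨{ Y' := cechAug (pullback.snd f (jpt s))
             d := fdata f s
             hS := fun a b => Subsingleton.elim (α := PUnit.{u + 1}) a b
             p := (PUnit.unit : PUnit.{u + 1})
             hp := rfl
             hsq := fun n => isPullback_φk f (jpt s) n.unop.len
             hdesc := isCohDescentMap_of_section (pullback.snd f (jpt s)) sec hsec }⟩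

end FibCech

end Groth.Agent.Lib.helper27
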