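import Mathlib
import Groth.Prelude.Def_CohCx
import Groth.Prelude.Def_CohTop
import Groth.Agent.Lib.Helper27.FiltCohTop

set_option autoImplicit false
set_option backward.isDefEq.respectTransparency false
set_option linter.unusedVariables false
set_option linter.unusedSectionVars false

namespace Groth.Agent.Lib.helper27

open CategoryTheory Limits Opposite Abelian TopologicalSpace

universe u

namespace FiltCoh

section top

variable {X : TopCat.{u}} (𝔅 : Set (Opens X))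
  (hcomp : ∀ W ∈ 𝔅, IsCompact (W : Set X))
  (hinf : ∀ W ∈ 𝔅, ∀ W' ∈ 𝔅, W ⊓ W' ∈ 𝔅)
  (hbasis : ∀ W ∈ 𝔅, ∀ (V : Opens X), V ≤ W → ∀ x ∈ V, ∃ W' ∈ 𝔅, x ∈ W' ∧ W' ≤ V)

/-- the finite covering families by members of `𝔅` -/
def CovTop : ∀ (V : Opens X) (ι : Type u), (ι → Over V) → Prop := fun V ι Y =>
  Finite ι ∧ V ∈ 𝔅 ∧
    Sieve.ofArrows (fun i => (Y i).left) (fun i => (Y i).hom) ∈ Opens.grothendieckTopology X V ∧
    ∀ i, (Y i).left ∈ 𝔅

include hinf in
lemma top_h1 : ∀ (U : Opens X) (ι : Type u) (Y : ι → Over U), CovTop 𝔅 U ι Y → Finite ι ∧ U ∈ 𝔅 ∧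
    Sieve.ofArrows (fun i => (Y i).left) (fun i => (Y i).hom) ∈ Opens.grothendieckTopology X U ∧
    ∀ (p : ℕ) (a : Fin (p + 1) → ι), (∏ᶜ fun k => Y (a k)).left ∈ 𝔅 := by
  rintro V ι Y ⟨hfin, hV, hcov, hY⟩
  exact ⟨hfin, hV, hcov, fun n a => prod_mem 𝔅 hinf Y hY n a⟩

include hcomp hbasis in
lemma top_h2 : ∀ U ∈ 𝔅, ∀ T ∈ Opens.grothendieckTopology X U,
    ∃ (ι : Type u) (Y : ι → Over U), CovTop 𝔅 U ι Y ∧ ∀ i, T.arrows (Y i).hom := by
  intro V hV T hT
  have hx : ∀ x : (V : Set X), ∃ W' ∈ 𝔅, (x : X) ∈ W' ∧ ∃ h : W' ≤ V, T.arrows (homOfLE h) := by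
    rintro ⟨x, hxV⟩
    obtain ⟨V', f, hf, hxV'⟩ := hT x hxV
    obtain ⟨W', hW', hxW', hle⟩ := hbasis V hV V' (leOfHom f) x hxV'
    refine ⟨W', hW', hxW', hle.trans (leOfHom f), ?_⟩
    have : homOfLE (hle.trans (leOfHom f)) = homOfLE hle ≫ f := Subsingleton.elim _ _
    rw [this]
    exact T.downward_closed hf _
  choose W hW hxW hle hT' using hx
  obtain ⟨t, ht⟩ := (hcomp V hV).elim_finite_subcover
    (fun x : (V : Set X) => ((W x : Opens X) : Set X))
    (fun x => (W x).isOpen) (fun x hx => Set.mem_iUnion.2 ⟨⟨x, hx⟩, hxW ⟨x, hx⟩⟩)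
  refine ⟨{x // x ∈ t}, fun i => Over.mk (homOfLE (hle i.1)),
    ⟨inferInstance, hV, ?_, fun i => hW i.1⟩, fun i => hT' i.1⟩
  intro x hxV
  obtain ⟨i, hi⟩ := Set.mem_iUnion.1 (ht hxV)
  obtain ⟨hit, hxi⟩ := Set.mem_iUnion.1 hi
  exact ⟨W i, homOfLE (hle i), Sieve.ofArrows_mk _ _ (⟨i, hit⟩ : {x // x ∈ t}), hxi⟩

include hcomp hinf hbasis in
/-- sections over members of `𝔅` commute with filtered colimits of sheaves -/
theorem secLike_top {Λ : Type u} [SmallCategory Λ] [IsFiltered Λ] (F : Λ ⥤ CohTop.Ab X)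
    (c : Cocone F) (hc : IsColimit c) (U : Opens X) (hU : U ∈ 𝔅) : SecLike F c U :=
  secLike F 𝔅 (CovTop 𝔅) (top_h1 𝔅 hinf) (top_h2 𝔅 hcomp hbasis) c hc U hU

end top

section noeth

variable {X : TopCat.{u}} [NoetherianSpace X]

/-- on a Noetherian space sections over any open commute with filtered colimits of sheaves -/
theorem secLike_noetherian {Λ : Type u} [SmallCategory Λ] [IsFiltered Λ] (F : Λ ⥤ CohTop.Ab X)
    (c : Cocone F) (hc : IsColimit c) (U : Opens X) : SecLike F c U :=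
  secLike_top (Set.univ : Set (Opens X))
    (fun W _ => NoetherianSpace.isCompact (W : Set X)) (fun _ _ _ _ => Set.mem_univ _)
    (fun W _ V _ x hx => ⟨V, Set.mem_univ _, hx, le_rfl⟩) F c hc U (Set.mem_univ _)

/-- a filtered colimit of flasque sheaves on a Noetherian space is flasque -/
theorem isFlasque_of_isColimit {Λ : Type u} [SmallCategory Λ] [IsFiltered Λ] (F : Λ ⥤ CohTop.Ab X)
    (hF : ∀ μ, TopCat.Sheaf.IsFlasque (F.obj μ)) (c : Cocone F) (hc : IsColimit c) :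
    TopCat.Sheaf.IsFlasque c.pt := by
  refine ⟨fun {U V} i => ?_⟩
  rw [AddCommGrpCat.epi_iff_surjective]
  intro s
  obtain ⟨μ, t, ht⟩ := (secLike_noetherian F c hc V.unop).surj s
  have hepi : Epi ((F.obj μ).obj.map i) := (hF μ).epi i
  rw [AddCommGrpCat.epi_iff_surjective] at hepi
  obtain ⟨t', ht'⟩ := hepi t
  refine ⟨(c.ι.app μ).hom.app U t', ?_⟩
  have hn := ConcreteCategory.congr_hom ((c.ι.app μ).hom.naturality i) t'
  refine hn.symm.trans ?_
  rw [ConcreteCategory.comp_apply, ht']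
  exact ht

end noeth

end FiltCoh

end Groth.Agent.Lib.helper27
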