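import Mathlib
import Groth.Prelude.Def_Cyc

/-!
# Helper library (helper27): the local equations of the graph of an endomorphism inside a product,
pulled back along sections (scheme-level generalities for the fixed point formula).
-/

set_option autoImplicit false
set_option linter.style.haveILetI false
universe u
open AlgebraicGeometry CategoryTheory Opposite TopologicalSpace

namespace Groth.Agent.Lib.helper27.Fix1

theorem stalkMap_germ_congr {X Y : Scheme.{u}} (f g : X ⟶ Y) (hfg : f = g) (x : X) (U : Y.Opens)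
    (hx : f x ∈ U) (hx' : g x ∈ U) (s : Γ(Y, U)) :
    (f.stalkMap x).hom (Y.presheaf.germ U (f x) hx s) =
      (g.stalkMap x).hom (Y.presheaf.germ U (g x) hx' s) := by
  subst hfg
  rfl

theorem stalkMap_comp_germ {X Y Z : Scheme.{u}} (f : X ⟶ Y) (g : Y ⟶ Z) (x : X) (U : Z.Opens)
    (hx : g (f x) ∈ U) (s : Γ(Z, U)) :
    ((f ≫ g).stalkMap x).hom (Z.presheaf.germ U ((f ≫ g) x) hx s) =
      (f.stalkMap x).hom ((g.stalkMap (f x)).hom (Z.presheaf.germ U (g (f x)) hx s)) := by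
  rw [Scheme.Hom.stalkMap_comp]
  rfl

/-- the value of `specMap` on a germ is the evaluation at the generization. -/
theorem specMap_germ {X : Scheme.{u}} (x ξ : X) (h : ξ ⤳ x) (V : X.Opens) (hx : x ∈ V)
    (g : Γ(X, V)) :
    Cyc.specMap x ξ h (X.presheaf.germ V x hx g) =
      (X.evaluation V ξ (h.mem_open V.2 hx)).hom g := by
  unfold Cyc.specMap
  rw [CommRingCat.hom_comp, RingHom.comp_apply]
  have := TopCat.Presheaf.germ_stalkSpecializes_apply X.presheaf hx h g
  erw [this]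
  rfl

/-- a section vanishing at a point vanishes at its specializations. -/
theorem evaluation_eq_zero_of_specializes {X : Scheme.{u}} (ξ z : X) (h : ξ ⤳ z) (V : X.Opens)
    (hz : z ∈ V) (g : Γ(X, V)) (h0 : (X.evaluation V ξ (h.mem_open V.2 hz)).hom g = 0) :
    (X.evaluation V z hz).hom g = 0 := by
  rw [Scheme.evaluation_eq_zero_iff_notMem_basicOpen] at h0 ⊢
  intro hzb
  exact h0 (h.mem_open (X.basicOpen g).2 hzb)

section graph

variable {X P : Scheme.{u}} (p q : P ⟶ X) (φ : X ⟶ X)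

/-- the open of the product on which the equation `q^* s = p^* φ^* s` of the graph of `φ` makes
sense, for a section `s` over `U`. -/
abbrev VV (U : X.Opens) : P.Opens := q ⁻¹ᵁ U ⊓ p ⁻¹ᵁ (φ ⁻¹ᵁ U)

/-- the equation `q^* s - p^* φ^* s` of the graph of `φ`. -/
noncomputable def gsec (U : X.Opens) (s : Γ(X, U)) : Γ(P, VV p q φ U) :=
  (P.presheaf.map (homOfLE (inf_le_left : VV p q φ U ≤ q ⁻¹ᵁ U)).op).hom ((q.app U).hom s) -
    (P.presheaf.map (homOfLE (inf_le_right : VV p q φ U ≤ p ⁻¹ᵁ (φ ⁻¹ᵁ U))).op).hom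
      ((p.app (φ ⁻¹ᵁ U)).hom ((φ.app U).hom s))

theorem germ_gsec (U : X.Opens) (s : Γ(X, U)) (z : P) (hz : z ∈ VV p q φ U) :
    P.presheaf.germ (VV p q φ U) z hz (gsec p q φ U s) =
      (q.stalkMap z).hom (X.presheaf.germ U (q z) hz.1 s) -
        (p.stalkMap z).hom ((φ.stalkMap (p z)).hom (X.presheaf.germ U (φ (p z)) hz.2 s)) := by
  unfold gsec
  rw [map_sub]
  congr 1
  · erw [TopCat.Presheaf.germ_res_apply]
    exact (Scheme.Hom.germ_stalkMap_apply q U z hz.1 s).symm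
  · erw [TopCat.Presheaf.germ_res_apply]
    rw [Scheme.Hom.germ_stalkMap_apply φ U (p z) hz.2 s]
    exact (Scheme.Hom.germ_stalkMap_apply p (φ ⁻¹ᵁ U) z hz.2 _).symm

theorem stalkMap_germ_gsec (t : X ⟶ P) (ψ : X ⟶ X) (htp : t ≫ p = 𝟙 X) (htq : t ≫ q = ψ)
    (U : X.Opens) (s : Γ(X, U)) (x : X) (hx : t x ∈ VV p q φ U) (hψx : ψ x ∈ U) (hφx : φ x ∈ U) :
    (t.stalkMap x).hom (P.presheaf.germ (VV p q φ U) (t x) hx (gsec p q φ U s)) =
      (ψ.stalkMap x).hom (X.presheaf.germ U (ψ x) hψx s) -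
        (φ.stalkMap x).hom (X.presheaf.germ U (φ x) hφx s) := by
  rw [germ_gsec, map_sub]
  congr 1
  · rw [← stalkMap_comp_germ t q x U hx.1 s]
    exact stalkMap_germ_congr (t ≫ q) ψ htq x U hx.1 hψx s
  · have h1 := stalkMap_comp_germ t (p ≫ φ) x U hx.2 s
    have h2 : ((p ≫ φ).stalkMap (t x)).hom (X.presheaf.germ U ((p ≫ φ) (t x)) hx.2 s) =
        (p.stalkMap (t x)).hom ((φ.stalkMap (p (t x))).hom
          (X.presheaf.germ U (φ (p (t x))) hx.2 s)) := stalkMap_comp_germ p φ (t x) U hx.2 s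
    rw [← h2, ← h1]
    have h3 : t ≫ p ≫ φ = φ := by rw [← Category.assoc, htp, Category.id_comp]
    exact stalkMap_germ_congr (t ≫ p ≫ φ) φ h3 x U hx.2 hφx s

end graph

end Groth.Agent.Lib.helper27.Fix1
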