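import Mathlib
import Groth.Prelude.Def_WeilCoh
import Groth.Prelude.Def_P1
import Groth.Agent.Lib.Helper19.ProjSpaceProper

/-!
# Weil cohomology, formal consequences I: the point `Spec k` as an object of `Var k` (helper27)
-/

set_option autoImplicit false
universe u v w
open CategoryTheory CategoryTheory.Limits AlgebraicGeometry
open WeilCoh

namespace Groth.Agent.Lib.helper27.WC1

variable (k : Type u) [Field k]

/-- the structure morphism of an object of `Var k` is proper -/
theorem isProper_hom (X : WeilCoh.Var k) : IsProper X.obj.hom := by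
  obtain ⟨-, ⟨n, i, hi, hcomp⟩, -⟩ := X.property
  rw [← hcomp]
  have := hi
  infer_instance

theorem sect_toBase (S : Scheme.{u}) (i : Fin (1 + 1)) :
    P1.sect S i ≫ CohB1.ProjSpaceOver.toBase 1 S = 𝟙 S := by
  unfold P1.sect CohB1.ProjSpaceOver.toBase
  exact pullback.lift_snd _ _ _

theorem isClosedImmersion_sect (S : Scheme.{u}) (i : Fin (1 + 1)) :
    IsClosedImmersion (P1.sect S i) := by
  have : IsClosedImmersion (P1.sect S i ≫ CohB1.ProjSpaceOver.toBase 1 S) := by
    rw [sect_toBase]; infer_instance
  exact IsClosedImmersion.of_comp (P1.sect S i) (CohB1.ProjSpaceOver.toBase 1 S)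

theorem isVar_pt : WeilCoh.IsVar k (Over.mk (𝟙 (Spec (CommRingCat.of k)))) := by
  refine ⟨?_, ⟨1, P1.sect _ 0, isClosedImmersion_sect _ 0, sect_toBase _ 0⟩, ?_⟩
  · show Smooth (𝟙 (Spec (CommRingCat.of k)))
    infer_instance
  · show IrreducibleSpace ↥(Spec (CommRingCat.of k))
    infer_instance

/-- The point `Spec k` as an object of `Var k`. -/
noncomputable def pt : WeilCoh.Var k := ⟨Over.mk (𝟙 (Spec (CommRingCat.of k))), isVar_pt k⟩

/-- The structure morphism to the point. -/
noncomputable def toPt (X : WeilCoh.Var k) : X ⟶ pt k :=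
  ObjectProperty.homMk (Over.homMk X.obj.hom)

@[simp] theorem sm_toPt (X : WeilCoh.Var k) : WeilCoh.sm (toPt k X) = X.obj.hom := rfl

theorem natDim_eq_zero_of_le (T : Type u) [TopologicalSpace T]
    (h : topologicalKrullDim T ≤ 0) : WeilCoh.natDim T = 0 := by
  unfold WeilCoh.natDim
  cases hd : topologicalKrullDim T with
  | bot => rfl
  | coe a =>
    rw [hd] at h
    have : a ≤ 0 := by exact_mod_cast h
    have ha : a = 0 := le_antisymm this zero_le
    subst ha
    rfl

theorem natDim_eq_zero_of_subsingleton (T : Type u) [TopologicalSpace T] [Subsingleton T] :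
    WeilCoh.natDim T = 0 :=
  natDim_eq_zero_of_le T (topologicalKrullDim_zero_of_discreteTopology T)

theorem dim_pt : WeilCoh.dim (pt k).obj.left = 0 := by
  show WeilCoh.natDim ↥(Spec (CommRingCat.of k)) = 0
  exact natDim_eq_zero_of_subsingleton _

end Groth.Agent.Lib.helper27.WC1
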