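import Mathlib
import Groth.Prelude.Def_WeilCoh
import Groth.Agent.Lib.Helper27.WC1
import Groth.Agent.Lib.Helper27.BMTop
import Groth.Agent.Lib.Helper27.BMCodim
import Groth.Agent.Lib.Helper3.FTField
import Groth.Agent.Lib.Helper3.FTFieldClosureDim
import Groth.Agent.Lib.Helper3.FTFieldDim

/-!
# Weil cohomology, formal consequences II: dimension theory on objects of `Var k` (helper27)
-/

set_option autoImplicit false
set_option linter.style.haveILetI false
universe u v w
open CategoryTheory CategoryTheory.Limits AlgebraicGeometry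
open WeilCoh

namespace Groth.Agent.Lib.helper27.WC2

open Groth.Agent.Lib.helper27.WC1 Groth.Agent.Lib.helper27.BMTop

variable {k : Type u} [Field k]

/-- the transcendence degree over `k` of the residue field at a point of a `k`-scheme -/
noncomputable def td (X : Over (Spec (CommRingCat.of k))) (ξ : X.left) : Cardinal.{u} :=
  @Algebra.trdeg k (X.left.residueField ξ) _ _ (@Curv2.resAlgebra k _ X.left ⟨X.hom⟩ ξ)

theorem lft (X : WeilCoh.Var k) : LocallyOfFiniteType X.obj.hom := by
  have := isProper_hom k X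
  infer_instance

theorem exists_td (X : WeilCoh.Var k) (ξ : X.obj.left) : ∃ n : ℕ, td X.obj ξ = n := by
  letI : X.obj.left.Over (Spec (CommRingCat.of k)) := ⟨X.obj.hom⟩
  haveI : LocallyOfFiniteType (X.obj.left ↘ Spec (CommRingCat.of k)) := lft X
  exact Groth.Agent.Lib.helper3.FTField.exists_nat_trdeg_residueField k X.obj.left ξ

theorem dim_closure (X : WeilCoh.Var k) (ξ : X.obj.left) (n : ℕ) (hn : td X.obj ξ = n) :
    topologicalKrullDim ↥(closure ({ξ} : Set X.obj.left)) = (n : WithBot ℕ∞) := by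
  letI : X.obj.left.Over (Spec (CommRingCat.of k)) := ⟨X.obj.hom⟩
  haveI : LocallyOfFiniteType (X.obj.left ↘ Spec (CommRingCat.of k)) := lft X
  exact Groth.Agent.Lib.helper3.FTField.dim_closure_eq_trdeg k X.obj.left ξ n hn

theorem pdim_eq (X : WeilCoh.Var k) (ξ : X.obj.left) (n : ℕ) (hn : td X.obj ξ = n) :
    WeilCoh.pdim X.obj.left ξ = n := by
  unfold WeilCoh.pdim WeilCoh.natDim
  rw [dim_closure X ξ n hn]
  rfl

theorem irred (X : WeilCoh.Var k) : IrreducibleSpace ↥X.obj.left := X.property.2.2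

theorem finiteDim (X : WeilCoh.Var k) : topologicalKrullDim ↥X.obj.left < ⊤ := by
  haveI := irred X
  obtain ⟨n, hn⟩ := exists_td X (genericPoint ↥X.obj.left)
  have h1 := dim_closure X _ n hn
  have h2 : closure ({genericPoint ↥X.obj.left} : Set X.obj.left) = Set.univ :=
    genericPoint_spec ↥X.obj.left
  rw [h2] at h1
  have h3 : topologicalKrullDim ↥(Set.univ : Set X.obj.left) = topologicalKrullDim ↥X.obj.left :=
    (Homeomorph.Set.univ ↥X.obj.left).isHomeomorph.topologicalKrullDim_eq
  rw [← h3, h1]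
  exact WithBot.coe_lt_coe.mpr (ENat.natCast_lt_top n)

theorem pdim_le_dim (X : WeilCoh.Var k) (ξ : X.obj.left) :
    WeilCoh.pdim X.obj.left ξ ≤ WeilCoh.dim X.obj.left := by
  unfold WeilCoh.pdim WeilCoh.dim
  exact natDim_le_of_isInducing Topology.IsInducing.subtypeVal (finiteDim X)

theorem pdim_generic (X : WeilCoh.Var k) [IrreducibleSpace ↥X.obj.left] :
    WeilCoh.pdim X.obj.left (genericPoint ↥X.obj.left) = WeilCoh.dim X.obj.left := by
  unfold WeilCoh.pdim WeilCoh.dim
  have h2 : closure ({genericPoint ↥X.obj.left} : Set X.obj.left) = Set.univ :=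
    genericPoint_spec ↥X.obj.left
  rw [h2]
  exact natDim_eq_of_homeomorph (Homeomorph.Set.univ ↥X.obj.left)

theorem codim_generic (X : WeilCoh.Var k) [IrreducibleSpace ↥X.obj.left] :
    WeilCoh.codim X.obj.left (genericPoint ↥X.obj.left) = 0 := by
  unfold WeilCoh.codim
  rw [pdim_generic]; simp

theorem pdim_closed (X : WeilCoh.Var k) (x : X.obj.left) (hx : IsClosed ({x} : Set X.obj.left)) :
    WeilCoh.pdim X.obj.left x = 0 := by
  unfold WeilCoh.pdim
  rw [hx.closure_eq]
  exact natDim_eq_zero_of_subsingleton _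

theorem codim_add_pdim (X : WeilCoh.Var k) (ξ : X.obj.left) :
    (WeilCoh.codim X.obj.left ξ : ℤ) + WeilCoh.pdim X.obj.left ξ = WeilCoh.dim X.obj.left := by
  have := pdim_le_dim X ξ
  unfold WeilCoh.codim
  omega

/-- a section of a morphism in `Var k` is a closed immersion -/
theorem isClosedImmersion_of_section {X P : WeilCoh.Var k} (j : X ⟶ P) (p : P ⟶ X)
    (h : j ≫ p = 𝟙 X) : IsClosedImmersion (WeilCoh.sm j) := by
  have hX := isProper_hom k X
  have hP := isProper_hom k P
  have hw : WeilCoh.sm p ≫ X.obj.hom = P.obj.hom := Over.w p.hom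
  have hsep : IsSeparated (WeilCoh.sm p) := by
    have : IsSeparated (WeilCoh.sm p ≫ X.obj.hom) := by rw [hw]; infer_instance
    exact IsSeparated.of_comp (WeilCoh.sm p) X.obj.hom
  have h' : WeilCoh.sm j ≫ WeilCoh.sm p = 𝟙 X.obj.left := by
    have := congrArg (fun f => WeilCoh.sm f) h
    exact this
  have : IsClosedImmersion (WeilCoh.sm j ≫ WeilCoh.sm p) := by rw [h']; infer_instance
  exact IsClosedImmersion.of_comp (WeilCoh.sm j) (WeilCoh.sm p)

theorem pdim_section {X P : WeilCoh.Var k} (j : X ⟶ P) (p : P ⟶ X)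
    (h : j ≫ p = 𝟙 X) (ξ : X.obj.left) :
    WeilCoh.pdim P.obj.left (WeilCoh.sm j ξ) = WeilCoh.pdim X.obj.left ξ := by
  haveI := isClosedImmersion_of_section j p h
  exact Groth.Agent.Lib.helper27.BMCodim.pdim_map_of_isClosedImmersion (WeilCoh.sm j) ξ

end Groth.Agent.Lib.helper27.WC2
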