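import Mathlib
import Groth.Prelude.Def_WeilCoh
import Groth.Agent.Lib.Helper27.WC2
import Groth.Agent.Lib.Helper3.ResMap
import Groth.Agent.Lib.Helper3.FibreField

/-!
# Weil cohomology, formal consequences III: closed points of objects of `Var k`, `k` algebraically
closed: residue degrees, rational points as morphisms from the point (helper27)
-/

set_option autoImplicit false
set_option linter.style.haveILetI false
universe u v w
open CategoryTheory CategoryTheory.Limits AlgebraicGeometry
open WeilCoh

namespace Groth.Agent.Lib.helper27.WC3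

open Groth.Agent.Lib.helper27.WC1 Groth.Agent.Lib.helper27.WC2

theorem residueDegree_eq_one_of_bijective {X Y : Scheme.{u}} (f : X ⟶ Y) (x : X)
    (h : Function.Bijective (f.residueFieldMap x).hom) : f.residueDegree x = 1 := by
  unfold Scheme.Hom.residueDegree
  letI := (f.residueFieldMap x).hom.toAlgebra
  rw [finrank_eq_one_iff_of_nonzero' (1 : X.residueField x) one_ne_zero]
  intro w
  obtain ⟨c, hc⟩ := h.2 w
  refine ⟨c, ?_⟩
  rw [Algebra.smul_def, mul_one]
  exact hc

theorem residueFieldMap_surjective_of_comp_eq_id {X Y : Scheme.{u}} (f : X ⟶ Y) (g : Y ⟶ X)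
    (h : f ≫ g = 𝟙 X) (x : X) : Function.Surjective (f.residueFieldMap x).hom := by
  have key : ∀ (e : X ⟶ X), e = 𝟙 X → Function.Surjective (e.residueFieldMap x).hom := by
    intro e he
    subst he
    rw [Scheme.residueFieldMap_id]
    exact Function.surjective_id
  have h1 := key (f ≫ g) h
  rw [Scheme.residueFieldMap_comp] at h1
  intro w
  obtain ⟨c, hc⟩ := h1 w
  exact ⟨(g.residueFieldMap (f x)).hom c, hc⟩

theorem residueDegree_section {X Y : Scheme.{u}} (f : X ⟶ Y) (g : Y ⟶ X)
    (h : f ≫ g = 𝟙 X) (x : X) : f.residueDegree x = 1 :=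
  residueDegree_eq_one_of_bijective f x
    ⟨(f.residueFieldMap x).hom.injective, residueFieldMap_surjective_of_comp_eq_id f g h x⟩

variable {k : Type u} [Field k]

theorem residueDegree_section_var {X P : WeilCoh.Var k} (j : X ⟶ P) (p : P ⟶ X)
    (h : j ≫ p = 𝟙 X) (ξ : X.obj.left) : (WeilCoh.sm j).residueDegree ξ = 1 :=
  residueDegree_section (WeilCoh.sm j) (WeilCoh.sm p)
    (congrArg (fun f => WeilCoh.sm f) h) ξ

variable [IsAlgClosed k]

theorem resMap_bijective (X : WeilCoh.Var k) (x : X.obj.left)
    (hx : IsClosed ({x} : Set X.obj.left)) :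
    Function.Bijective (@Curv2.resMap k _ X.obj.left ⟨X.obj.hom⟩ x) := by
  letI : X.obj.left.Over (Spec (CommRingCat.of k)) := ⟨X.obj.hom⟩
  haveI : LocallyOfFiniteType (X.obj.left ↘ Spec (CommRingCat.of k)) := lft X
  have h0 := Groth.Agent.Lib.helper3.FTField.trdeg_residueField_eq_zero_of_isClosed k X.obj.left x hx
  letI := Curv2.resAlgebra k X.obj.left x
  have h1 : Algebra.IsAlgebraic k (X.obj.left.residueField x) := _root_.trdeg_eq_zero_iff.mp h0
  haveI : Algebra.IsIntegral k (X.obj.left.residueField x) := Algebra.IsAlgebraic.isIntegral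
  exact IsAlgClosed.algebraMap_bijective_of_isIntegral (k := k) (K := X.obj.left.residueField x)

theorem residueFieldMap_bijective {X Y : WeilCoh.Var k} (f : X ⟶ Y) (x : X.obj.left)
    (hx : IsClosed ({x} : Set X.obj.left)) :
    Function.Bijective ((WeilCoh.sm f).residueFieldMap x).hom := by
  refine ⟨((WeilCoh.sm f).residueFieldMap x).hom.injective, ?_⟩
  have h1 := Groth.Agent.Lib.helper3.FTField.resMap_comp k Y.obj.hom X.obj.hom (WeilCoh.sm f)
    (Over.w f.hom) x
  have h2 := (resMap_bijective X x hx).2
  intro w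
  obtain ⟨c, hc⟩ := h2 w
  refine ⟨@Curv2.resMap k _ Y.obj.left ⟨Y.obj.hom⟩ (WeilCoh.sm f x) c, ?_⟩
  rw [← hc, h1]
  rfl

theorem residueDegree_closed {X Y : WeilCoh.Var k} (f : X ⟶ Y) (x : X.obj.left)
    (hx : IsClosed ({x} : Set X.obj.left)) : (WeilCoh.sm f).residueDegree x = 1 :=
  residueDegree_eq_one_of_bijective _ x (residueFieldMap_bijective f x hx)

/-- the underlying scheme morphism of the rational point at a closed point -/
noncomputable def ptHom (X : WeilCoh.Var k) (x : X.obj.left)
    (hx : IsClosed ({x} : Set X.obj.left)) : Spec (CommRingCat.of k) ⟶ X.obj.left :=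
  Spec.map (CommRingCat.ofHom
    ((RingEquiv.ofBijective _ (resMap_bijective X x hx)).symm : X.obj.left.residueField x →+* k)) ≫
    X.obj.left.fromSpecResidueField x

theorem ptHom_comp (X : WeilCoh.Var k) (x : X.obj.left)
    (hx : IsClosed ({x} : Set X.obj.left)) : ptHom X x hx ≫ X.obj.hom = 𝟙 _ := by
  letI : X.obj.left.Over (Spec (CommRingCat.of k)) := ⟨X.obj.hom⟩
  unfold ptHom
  rw [Category.assoc]
  have h := Groth.Agent.Lib.helper3.ResMap.specMap_resMap k X.obj.left x
  change Spec.map _ = X.obj.left.fromSpecResidueField x ≫ X.obj.hom at h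
  rw [← h, ← Spec.map_comp, ← CommRingCat.ofHom_comp]
  have : ((RingEquiv.ofBijective _ (resMap_bijective X x hx)).symm :
      X.obj.left.residueField x →+* k).comp (Curv2.resMap k X.obj.left x) = RingHom.id k := by
    ext c
    exact (RingEquiv.ofBijective _ (resMap_bijective X x hx)).symm_apply_apply c
  rw [this]
  exact Spec.map_id _

/-- the rational point at a closed point, as a morphism from the point in `Var k` -/
noncomputable def ptOf (X : WeilCoh.Var k) (x : X.obj.left)
    (hx : IsClosed ({x} : Set X.obj.left)) : pt k ⟶ X :=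
  ObjectProperty.homMk (Over.homMk (ptHom X x hx) (ptHom_comp X x hx))

theorem sm_ptOf_apply (X : WeilCoh.Var k) (x : X.obj.left)
    (hx : IsClosed ({x} : Set X.obj.left)) (w : (pt k).obj.left) :
    WeilCoh.sm (ptOf X x hx) w = x := by
  show (ptHom X x hx) w = x
  unfold ptHom
  rw [Scheme.Hom.comp_apply]
  exact Scheme.fromSpecResidueField_apply _ _

omit [IsAlgClosed k] in
theorem exists_closed_point (X : WeilCoh.Var k) : ∃ x : X.obj.left, IsClosed ({x} : Set X.obj.left) := by
  haveI := irred X
  have hP := isProper_hom k X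
  haveI : CompactSpace ↥X.obj.left := by
    have : QuasiCompact X.obj.hom := inferInstance
    exact (quasiCompact_iff_compactSpace (f := X.obj.hom)).mp this
  obtain ⟨x, -, hx⟩ := (isClosed_univ (X := ↥X.obj.left)).exists_closed_singleton Set.univ_nonempty
  exact ⟨x, hx⟩

end Groth.Agent.Lib.helper27.WC3
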