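import Mathlib
import Groth.Prelude.Def_WeilCoh
import Groth.Agent.Lib.Helper27.WC3
import Groth.Agent.Lib.Helper17.WeilCohPush
import Groth.Agent.S15442

/-!
# Weil cohomology, formal consequences IV: classes of points and of the whole variety (helper27)
-/

set_option autoImplicit false
set_option linter.style.haveILetI false
set_option linter.unusedSectionVars false
universe u v w
open CategoryTheory CategoryTheory.Limits AlgebraicGeometry
open WeilCoh

namespace Groth.Agent.Lib.helper27.WC4

open Groth.Agent.Lib.helper27.WC1 Groth.Agent.Lib.helper27.WC2 Groth.Agent.Lib.helper27.WC3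

section preim

variable {k : Type u} [Field k]

theorem isField_stalk_spec (p : Spec (CommRingCat.of k)) :
    IsField ((Spec (CommRingCat.of k)).presheaf.stalk p) := by
  let K' := (Spec.structureSheaf k).presheaf.stalk p
  let e : k ≃ₐ[k] K' := IsLocalization.atUnits _ p.asIdeal.primeCompl
      (fun y hy ↦ by aesop (add simp IsUnit.mem_submonoid_iff))
  exact e.symm.toRingEquiv.toMulEquiv.isField (Field.toIsField k)

/-- the multiplicity of any inverse image along a morphism from the spectrum of a field is 1 -/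
theorem preimMult_spec_field {Y : Scheme.{u}} (g : Spec (CommRingCat.of k) ⟶ Y) (ξ : Y)
    (w : Spec (CommRingCat.of k)) (h : g w ∈ closure ({ξ} : Set Y)) :
    WeilCoh.preimMult g ξ w h = 1 := by
  unfold WeilCoh.preimMult
  set R := (Spec (CommRingCat.of k)).presheaf.stalk w
  set I : Ideal R := Ideal.map (g.stalkMap w).hom
      (RingHom.ker (Cyc.specMap (g w) ξ (specializes_iff_mem_closure.mpr h))) with hI
  have hmax : IsLocalRing.maximalIdeal R = ⊥ :=
    IsLocalRing.isField_iff_maximalIdeal_eq.mp (isField_stalk_spec w)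
  have hker : RingHom.ker (Cyc.specMap (g w) ξ (specializes_iff_mem_closure.mpr h)) ≤
      IsLocalRing.maximalIdeal (Y.presheaf.stalk (g w)) :=
    IsLocalRing.le_maximalIdeal (RingHom.ker_ne_top _)
  have hIle : I ≤ IsLocalRing.maximalIdeal R := by
    rw [hI, Ideal.map_le_iff_le_comap]
    refine hker.trans ?_
    intro a ha
    rw [Ideal.mem_comap]
    rw [IsLocalRing.mem_maximalIdeal, mem_nonunits_iff] at ha ⊢
    intro hu
    exact ha (isUnit_of_map_unit (g.stalkMap w).hom a hu)
  have hIeq : I = IsLocalRing.maximalIdeal R := by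
    rw [hmax] at hIle ⊢
    exact le_bot_iff.mp hIle
  have hsimple : IsSimpleModule R (R ⧸ I) := by
    rw [isSimpleModule_iff_isCoatom, hIeq, ← Ideal.isMaximal_def]
    infer_instance
  have : Module.length R (R ⧸ I) = 1 := Module.length_eq_one_iff.mpr hsimple
  rw [this]
  rfl

end preim

variable {k : Type u} [Field k] [IsAlgClosed k] {K : Type v} [Field K] [CharZero K]
variable (T : WeilCoh.Theory k K)

theorem cl_pt (w : (pt k).obj.left) : T.cl (pt k) w = 1 := (T.point (pt k) (dim_pt k)).1 w

theorem tr_pt_one : T.tr (pt k) 1 = 1 := (T.point (pt k) (dim_pt k)).2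

/-- `Tr_X(cl(x)) = 1` for a closed point `x`. -/
theorem tr_cl_closed (X : WeilCoh.Var k) (x : X.obj.left) (hx : IsClosed ({x} : Set X.obj.left)) :
    T.tr X (T.cl X x) = 1 := by
  have h1 : (1 : T.H (pt k)) ∈ T.gr (pt k) (2 * (WeilCoh.pdim X.obj.left x : ℤ)) := by
    rw [pdim_closed X x hx]
    exact SetLike.one_mem_graded (T.gr (pt k))
  have h2 := T.cl_push (toPt k X) x 1 h1
  rw [map_one, mul_one, mul_one, cl_pt, tr_pt_one, mul_one, residueDegree_closed (toPt k X) x hx]
    at h2
  simpa using h2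

theorem isCompPt_univ_pt (S : Set (pt k).obj.left) (hS : S = Set.univ) (w : (pt k).obj.left) :
    WeilCoh.IsCompPt S w := by
  subst hS
  refine ⟨Set.mem_univ _, fun w' _ _ => ?_⟩
  haveI : Subsingleton (pt k).obj.left :=
    (inferInstance : Subsingleton ↥(Spec (CommRingCat.of k)))
  exact Subsingleton.elim _ _

theorem pdim_pt (w : (pt k).obj.left) : WeilCoh.pdim (pt k).obj.left w = 0 := by
  have h := pdim_le_dim (pt k) w
  rw [dim_pt] at h
  omega

/-- the class of the whole variety is 1 -/
theorem cl_generic (X : WeilCoh.Var k) [IrreducibleSpace ↥X.obj.left] :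
    T.cl X (genericPoint ↥X.obj.left) = 1 := by
  set η := genericPoint ↥X.obj.left with hη
  obtain ⟨x, hx⟩ := exists_closed_point X
  set i := ptOf X x hx with hi
  have hcl : closure ({η} : Set X.obj.left) = Set.univ := genericPoint_spec ↥X.obj.left
  have hpre : (WeilCoh.sm i) ⁻¹' closure ({η} : Set X.obj.left) = Set.univ := by
    rw [hcl]; rfl
  have hw0 : Nonempty (pt k).obj.left :=
    (inferInstance : Nonempty ↥(Spec (CommRingCat.of k)))
  obtain ⟨w0⟩ := hw0
  haveI : Subsingleton (pt k).obj.left :=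
    (inferInstance : Subsingleton ↥(Spec (CommRingCat.of k)))
  have h1 : ∀ w : (pt k).obj.left,
      WeilCoh.IsCompPt ((WeilCoh.sm i) ⁻¹' closure ({η} : Set X.obj.left)) w →
      (WeilCoh.pdim (pt k).obj.left w : ℤ) =
        WeilCoh.pdim X.obj.left η + WeilCoh.dim (pt k).obj.left - WeilCoh.dim X.obj.left := by
    intro w _
    rw [pdim_pt, pdim_generic, dim_pt]
    simp
  have h2 : ∀ (w : (pt k).obj.left)
      (hw : WeilCoh.IsCompPt ((WeilCoh.sm i) ⁻¹' closure ({η} : Set X.obj.left)) w),
      WeilCoh.preimMult (WeilCoh.sm i) η w hw.1 = 1 := by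
    intro w hw
    exact preimMult_spec_field (k := k) (WeilCoh.sm i) η w hw.1
  have h3 := T.cl_pull i η h1 (Or.inr h2)
  have h4 : (∑ᶠ w : {w : (pt k).obj.left //
      WeilCoh.IsCompPt ((WeilCoh.sm i) ⁻¹' closure ({η} : Set X.obj.left)) w},
        (WeilCoh.preimMult (WeilCoh.sm i) η w.1 w.2.1 : K) • T.cl (pt k) w.1) = 1 := by
    rw [finsum_eq_single _ ⟨w0, isCompPt_univ_pt _ hpre w0⟩]
    · rw [h2 w0 (isCompPt_univ_pt _ hpre w0), cl_pt]; simp
    · intro y hy
      exact absurd (Subtype.ext (Subsingleton.elim _ _)) hy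
  rw [h4] at h3
  -- cl X η is a multiple of 1
  have hmem : T.cl X η ∈ T.gr X 0 := by
    have := T.cl_mem X η
    rw [codim_generic] at this
    simpa using this
  obtain ⟨c, hc⟩ := (Groth.Agent.S15442.result k K T X).2 ⟨T.cl X η, hmem⟩
  have hc' : c • (1 : T.H X) = T.cl X η := congrArg Subtype.val hc
  rw [← hc', map_smul, map_one] at h3
  have hne : (1 : T.H (pt k)) ≠ 0 := by
    intro h0
    have := tr_pt_one T
    rw [h0, map_zero] at this
    exact zero_ne_one this
  have hc1 : c = 1 := by
    have h5 : (c - 1) • (1 : T.H (pt k)) = 0 := by rw [sub_smul, h3, one_smul, sub_self]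
    rcases smul_eq_zero.mp h5 with h6 | h6
    · exact sub_eq_zero.mp h6
    · exact absurd h6 hne
  rw [← hc', hc1, one_smul]

/-- `Tr_X(f^* a) = deg(f) · Tr_Y(a)` for dominant `f` between varieties of the same dimension -/
theorem tr_pull_dominant (X Y : WeilCoh.Var k)
    [IrreducibleSpace ↥X.obj.left] [IrreducibleSpace ↥Y.obj.left] (f : X ⟶ Y)
    (hdom : WeilCoh.sm f (genericPoint ↥X.obj.left) = genericPoint ↥Y.obj.left)
    (hdim : WeilCoh.dim X.obj.left = WeilCoh.dim Y.obj.left) (a : T.H Y)
    (ha : a ∈ T.gr Y (2 * (WeilCoh.dim Y.obj.left : ℤ))) :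
    T.tr X (T.pull f a) =
      ((WeilCoh.sm f).residueDegree (genericPoint ↥X.obj.left) : K) * T.tr Y a := by
  have h1 : a ∈ T.gr Y (2 * (WeilCoh.pdim X.obj.left (genericPoint ↥X.obj.left) : ℤ)) := by
    rw [pdim_generic, hdim]; exact ha
  have h2 := T.cl_push f (genericPoint ↥X.obj.left) a h1
  rw [hdom, cl_generic, cl_generic, one_mul, one_mul] at h2
  exact h2

end Groth.Agent.Lib.helper27.WC4
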