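import Mathlib
import Groth.Prelude.Def_WeilCoh
import Groth.Agent.Lib.Helper27.WC4

/-!
# Weil cohomology, formal consequences VI: graphs, diagonal, push-forward of classes (helper27)
-/

set_option autoImplicit false
set_option linter.style.haveILetI false
set_option linter.unusedSectionVars false
universe u v w
open CategoryTheory CategoryTheory.Limits AlgebraicGeometry
open WeilCoh

namespace Groth.Agent.Lib.helper27.WC6

open Groth.Agent.Lib.helper27.WC1 Groth.Agent.Lib.helper27.WC2 Groth.Agent.Lib.helper27.WC3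
  Groth.Agent.Lib.helper27.WC4 Groth.Agent.Lib.helper17.WeilCohPush

section general

variable {k : Type u} [Field k] {P : ObjectProperty (Over (Spec (CommRingCat.of k)))}
variable {K : Type v} [Field K] (T : WeilCoh.TheoryOn.{u, v, w} k P K)

/-- classes of even degree commute with homogeneous classes -/
theorem mul_comm_of_even {X : P.FullSubcategory} (c j : ℤ) (x y : T.H X)
    (hx : x ∈ T.gr X (2 * c)) (hy : y ∈ T.gr X j) : x * y = y * x := by
  have h2 := T.gradedComm X _ _ _ _ hx hy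
  rw [h2]
  have he : Even ((2 * c).natAbs * j.natAbs) :=
    Even.mul_right (Int.natAbs_even.mpr (even_two_mul _)) _
  rw [he.neg_one_pow, one_smul]

theorem mul_comm_of_even' {X : P.FullSubcategory} (c j : ℤ) (x y : T.H X)
    (hx : x ∈ T.gr X (2 * c)) (hy : y ∈ T.gr X j) : y * x = x * y :=
  (mul_comm_of_even T c j x y hx hy).symm

theorem pull_comp_apply {X Y Z : P.FullSubcategory} (f : X ⟶ Y) (g : Y ⟶ Z) (a : T.H Z) :
    T.pull f (T.pull g a) = T.pull (f ≫ g) a := by
  rw [T.pull_comp]; rfl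

theorem pull_id_apply {X : P.FullSubcategory} (a : T.H X) : T.pull (𝟙 X) a = a := by
  rw [T.pull_id]; rfl

/-- the trace of a homogeneous class of degree other than the top degree vanishes -/
theorem tr_eq_zero_of_mem {X : P.FullSubcategory} (i : ℤ) (a : T.H X) (ha : a ∈ T.gr X i)
    (hi : i ≠ 2 * (WeilCoh.dim X.obj.left : ℤ)) : T.tr X a = 0 := T.tr_vanish X i a ha hi

include T in
/-- the dimension of a product is the sum of the dimensions -/
theorem dim_prod {X Y Q : P.FullSubcategory} (p : Q ⟶ X) (q : Q ⟶ Y) (hQ : WeilCoh.IsProd p q) :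
    WeilCoh.dim Q.obj.left = WeilCoh.dim X.obj.left + WeilCoh.dim Y.obj.left := by
  have hdim : 2 * (WeilCoh.dim X.obj.left : ℤ) + 2 * (WeilCoh.dim Y.obj.left : ℤ) =
      2 * (WeilCoh.dim Q.obj.left : ℤ) := by
    obtain ⟨a0, ha0⟩ := (T.tr_bijective X).2 1
    obtain ⟨b0, hb0⟩ := (T.tr_bijective Y).2 1
    have ha0' : T.tr X (a0 : T.H X) = 1 := ha0
    have hb0' : T.tr Y (b0 : T.H Y) = 1 := hb0
    by_contra hne
    have hmem := SetLike.mul_mem_graded (T.pull_mem p _ _ a0.2) (T.pull_mem q _ _ b0.2)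
    have h0 := T.tr_vanish Q _ _ hmem hne
    rw [T.tr_prod p q hQ _ _ a0.2 b0.2, ha0', hb0'] at h0
    simp at h0
  omega

end general

variable {k : Type u} [Field k] [IsAlgClosed k] {K : Type v} [Field K] [CharZero K]
variable (T : WeilCoh.Theory k K)

/-- push-forward identity for a section `j` of `p`, at any point: the residue degree is 1 and the
dimension of the closure is preserved -/
theorem tr_cl_section {X P : WeilCoh.Var k} (j : X ⟶ P) (p : P ⟶ X) (h : j ≫ p = 𝟙 X)
    (ξ : X.obj.left) (a : T.H P) (ha : a ∈ T.gr P (2 * (WeilCoh.pdim X.obj.left ξ : ℤ))) :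
    T.tr P (T.cl P (WeilCoh.sm j ξ) * a) = T.tr X (T.cl X ξ * T.pull j a) := by
  have h2 := T.cl_push j ξ a ha
  rw [residueDegree_section_var j p h ξ] at h2
  simpa using h2.symm

theorem codim_section {X P : WeilCoh.Var k} (j : X ⟶ P) (p : P ⟶ X) (h : j ≫ p = 𝟙 X)
    (ξ : X.obj.left) :
    (WeilCoh.codim P.obj.left (WeilCoh.sm j ξ) : ℤ) =
      WeilCoh.dim P.obj.left - WeilCoh.pdim X.obj.left ξ := by
  have h1 := codim_add_pdim P (WeilCoh.sm j ξ)
  rw [pdim_section j p h ξ] at h1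
  omega

/-- `f^* β = p_*(cl(Γ_f) · q^* β)` -/
theorem graph_formula (X Y P : WeilCoh.Var k)
    [IrreducibleSpace ↥X.obj.left] (f : X ⟶ Y) (p : P ⟶ X) (q : P ⟶ Y)
    (j : X ⟶ P) (hjp : j ≫ p = 𝟙 X) (hjq : j ≫ q = f)
    (i : ℤ) (β : ↥(T.gr Y i)) :
    (T.push p (2 * (WeilCoh.codim P.obj.left (WeilCoh.sm j (genericPoint ↥X.obj.left)) : ℤ) + i)
        ⟨T.cl P (WeilCoh.sm j (genericPoint ↥X.obj.left)) * T.pull q (β : T.H Y),
          SetLike.mul_mem_graded (T.cl_mem P (WeilCoh.sm j (genericPoint ↥X.obj.left)))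
            (T.pull_mem q i β β.2)⟩ : T.H X) = T.pull f (β : T.H Y) := by
  set η := genericPoint ↥X.obj.left with hη
  have hcod := codim_section j p hjp η
  rw [pdim_generic] at hcod
  set m : ℤ := 2 * (WeilCoh.codim P.obj.left (WeilCoh.sm j η) : ℤ) + i with hm
  have hi' : m + 2 * (WeilCoh.dim X.obj.left : ℤ) - 2 * (WeilCoh.dim P.obj.left : ℤ) = i := by
    rw [hm, hcod]; ring
  refine eq_of_forall_tr_mul_eq T
    (m + 2 * (WeilCoh.dim X.obj.left : ℤ) - 2 * (WeilCoh.dim P.obj.left : ℤ))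
    (2 * (WeilCoh.dim P.obj.left : ℤ) - m) (by ring) _ _ (T.push p m _).2 ?_ ?_
  · rw [hi']; exact T.pull_mem f i β β.2
  · intro b hb
    rw [tr_push_mul T p m _ b hb]
    show T.tr P (T.cl P (WeilCoh.sm j η) * T.pull q (β : T.H Y) * T.pull p b) = _
    have hb' : b ∈ T.gr X (2 * (WeilCoh.dim X.obj.left : ℤ) - i) := by
      have : 2 * (WeilCoh.dim P.obj.left : ℤ) - m = 2 * (WeilCoh.dim X.obj.left : ℤ) - i := by
        rw [hm, hcod]; ring
      rwa [this] at hb
    have ha' : T.pull q (β : T.H Y) * T.pull p b ∈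
        T.gr P (2 * (WeilCoh.pdim X.obj.left η : ℤ)) := by
      have := SetLike.mul_mem_graded (T.pull_mem q i β β.2) (T.pull_mem p _ b hb')
      rw [pdim_generic]
      convert this using 2
      ring
    rw [mul_assoc, tr_cl_section T j p hjp η _ ha', cl_generic, one_mul, map_mul,
      pull_comp_apply, pull_comp_apply, hjp, hjq, pull_id_apply]

/-- the class of the diagonal image of `Z` acts as cup product with the class of `Z` -/
theorem diag_formula (X P : WeilCoh.Var k)
    (p q : P ⟶ X) (d : X ⟶ P) (hdp : d ≫ p = 𝟙 X) (hdq : d ≫ q = 𝟙 X)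
    (η : ↥X.obj.left) (i : ℤ) (a : ↥(T.gr X i)) :
    (T.push q (i + 2 * (WeilCoh.codim P.obj.left (WeilCoh.sm d η) : ℤ))
        ⟨T.pull p (a : T.H X) * T.cl P (WeilCoh.sm d η),
          SetLike.mul_mem_graded (T.pull_mem p i a a.2) (T.cl_mem P (WeilCoh.sm d η))⟩ : T.H X) =
      (a : T.H X) * T.cl X η := by
  have hcod := codim_section d p hdp η
  have hcodX := codim_add_pdim X η
  set m : ℤ := i + 2 * (WeilCoh.codim P.obj.left (WeilCoh.sm d η) : ℤ) with hm
  have hi' : m + 2 * (WeilCoh.dim X.obj.left : ℤ) - 2 * (WeilCoh.dim P.obj.left : ℤ) =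
      i + 2 * (WeilCoh.codim X.obj.left η : ℤ) := by
    rw [hm, hcod]; linarith
  refine eq_of_forall_tr_mul_eq T
    (m + 2 * (WeilCoh.dim X.obj.left : ℤ) - 2 * (WeilCoh.dim P.obj.left : ℤ))
    (2 * (WeilCoh.dim P.obj.left : ℤ) - m) (by ring) _ _ (T.push q m _).2 ?_ ?_
  · rw [hi']; exact SetLike.mul_mem_graded a.2 (T.cl_mem X η)
  · intro b hb
    rw [tr_push_mul T q m _ b hb]
    show T.tr P (T.pull p (a : T.H X) * T.cl P (WeilCoh.sm d η) * T.pull q b) = _
    have hb' : b ∈ T.gr X (2 * (WeilCoh.pdim X.obj.left η : ℤ) - i) := by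
      have : 2 * (WeilCoh.dim P.obj.left : ℤ) - m = 2 * (WeilCoh.pdim X.obj.left η : ℤ) - i := by
        rw [hm, hcod]; ring
      rwa [this] at hb
    have ha' : T.pull p (a : T.H X) * T.pull q b ∈
        T.gr P (2 * (WeilCoh.pdim X.obj.left η : ℤ)) := by
      have := SetLike.mul_mem_graded (T.pull_mem p i a a.2) (T.pull_mem q _ b hb')
      convert this using 2
      ring
    rw [mul_comm_of_even' T _ i _ _ (T.cl_mem P (WeilCoh.sm d η)) (T.pull_mem p i a a.2),
      mul_assoc, tr_cl_section T d p hdp η _ ha', map_mul (T.pull d),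
      pull_comp_apply, pull_comp_apply, hdp, hdq, pull_id_apply, pull_id_apply,
      ← mul_assoc, mul_comm_of_even T _ i _ _ (T.cl_mem X η) a.2]

end Groth.Agent.Lib.helper27.WC6
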