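import Mathlib
import Groth.Prelude.Def_WeilCoh
import Groth.Agent.Lib.Helper27.Fix1
import Groth.Agent.Lib.Helper27.WC2
import Groth.Agent.Lib.Helper27.WC4
import Groth.Agent.Lib.Helper27.WC6
import Groth.Agent.Lib.Helper27.BMDim

/-!
# Helper library (helper27): the intersection of the graph of a Frobenius-like endomorphism with
the diagonal, through the pull-back formula for classes: `tr (cl Γ_φ · cl Δ) = #Fix φ`.
-/

set_option autoImplicit false
set_option linter.style.haveILetI false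
set_option linter.unusedSectionVars false
universe u v
open AlgebraicGeometry CategoryTheory Opposite TopologicalSpace

namespace Groth.Agent.Lib.helper27.Fix2

open Groth.Agent.Lib.helper27 Groth.Agent.Lib.helper27.Fix1

section sets

variable {k : Type u} [Field k] {X P : WeilCoh.Var k} (p q : P ⟶ X) (φ : X ⟶ X) (j d : X ⟶ P)
  (hjp : j ≫ p = 𝟙 X) (hjq : j ≫ q = φ) (hdp : d ≫ p = 𝟙 X) (hdq : d ≫ q = 𝟙 X)

theorem sm_comp_apply {A B C : WeilCoh.Var k} (f : A ⟶ B) (g : B ⟶ C) (x : A.obj.left) :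
    WeilCoh.sm (f ≫ g) x = WeilCoh.sm g (WeilCoh.sm f x) := rfl

include hjp in
theorem closure_graph [IrreducibleSpace ↥X.obj.left] :
    closure ({WeilCoh.sm j (genericPoint ↥X.obj.left)} : Set P.obj.left) =
      Set.range (WeilCoh.sm j) := by
  haveI := WC2.isClosedImmersion_of_section j p hjp
  have hce : Topology.IsClosedEmbedding (WeilCoh.sm j) := (WeilCoh.sm j).isClosedEmbedding
  rw [← Set.image_singleton, hce.closure_image_eq, (genericPoint_spec ↥X.obj.left).def,
    Set.image_univ]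

include hjp hjq hdp hdq in
theorem mem_preimage_iff [IrreducibleSpace ↥X.obj.left] (w : X.obj.left) :
    w ∈ (WeilCoh.sm d) ⁻¹' closure ({WeilCoh.sm j (genericPoint ↥X.obj.left)} : Set P.obj.left) ↔
      WeilCoh.sm j w = WeilCoh.sm d w := by
  rw [closure_graph p j hjp, Set.mem_preimage]
  constructor
  · rintro ⟨x, hx⟩
    have h1 : x = w := by
      have h2 := congrArg (fun z => WeilCoh.sm p z) hx
      simp only [← sm_comp_apply, hjp, hdp] at h2
      exact h2
    rw [← hx, h1]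
  · intro h
    exact ⟨w, h⟩

include hjq hdq in
theorem fixed_of_eq (w : X.obj.left) (h : WeilCoh.sm j w = WeilCoh.sm d w) :
    WeilCoh.sm φ w = w := by
  have h2 := congrArg (fun z => WeilCoh.sm q z) h
  simp only [← sm_comp_apply, hjq, hdq] at h2
  exact h2

end sets

section loc

variable {k : Type u} [Field k] {X P : WeilCoh.Var k} (p q : P ⟶ X) (φ : X ⟶ X) (j d : X ⟶ P)
  (hjp : j ≫ p = 𝟙 X) (hjq : j ≫ q = φ) (hdp : d ≫ p = 𝟙 X) (hdq : d ≫ q = 𝟙 X)

include hjp hjq hdp hdq in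
/-- for a point `w` of the diagonal lying on the graph and a local section `s` at `w`: the
difference `s - φ^* s` is the image under `d^*` of an element of the prime ideal of the graph. -/
theorem exists_mem_ker (ξ₀ : X.obj.left) (w : X.obj.left)
    (hspec : WeilCoh.sm j ξ₀ ⤳ WeilCoh.sm d w) (U : X.obj.left.Opens) (hwU : w ∈ U)
    (hφw : WeilCoh.sm φ w ∈ U) (s : Γ(X.obj.left, U)) :
    ∃ g ∈ RingHom.ker (Cyc.specMap (WeilCoh.sm d w) (WeilCoh.sm j ξ₀) hspec),
      ((WeilCoh.sm d).stalkMap w).hom g = X.obj.left.presheaf.germ U w hwU s -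
        ((WeilCoh.sm φ).stalkMap w).hom (X.obj.left.presheaf.germ U (WeilCoh.sm φ w) hφw s) := by
  have hjp' : WeilCoh.sm j ≫ WeilCoh.sm p = 𝟙 X.obj.left := congrArg (fun f => WeilCoh.sm f) hjp
  have hjq' : WeilCoh.sm j ≫ WeilCoh.sm q = WeilCoh.sm φ := congrArg (fun f => WeilCoh.sm f) hjq
  have hdp' : WeilCoh.sm d ≫ WeilCoh.sm p = 𝟙 X.obj.left := congrArg (fun f => WeilCoh.sm f) hdp
  have hdq' : WeilCoh.sm d ≫ WeilCoh.sm q = 𝟙 X.obj.left := congrArg (fun f => WeilCoh.sm f) hdq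
  have hqd : WeilCoh.sm q (WeilCoh.sm d w) = w := by
    have := congrArg (fun f : X.obj.left ⟶ X.obj.left => f w) hdq'
    simpa using this
  have hpd : WeilCoh.sm p (WeilCoh.sm d w) = w := by
    have := congrArg (fun f : X.obj.left ⟶ X.obj.left => f w) hdp'
    simpa using this
  have hφξ : WeilCoh.sm φ ξ₀ ∈ U := by
    have h1 : WeilCoh.sm q (WeilCoh.sm j ξ₀) ⤳ WeilCoh.sm q (WeilCoh.sm d w) :=
      hspec.map (WeilCoh.sm q).continuous
    have h2 : WeilCoh.sm q (WeilCoh.sm j ξ₀) = WeilCoh.sm φ ξ₀ := by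
      have := congrArg (fun f : X.obj.left ⟶ X.obj.left => f ξ₀) hjq'
      simpa using this
    rw [h2, hqd] at h1
    exact h1.mem_open U.2 hwU
  have hdV : WeilCoh.sm d w ∈ VV (WeilCoh.sm p) (WeilCoh.sm q) (WeilCoh.sm φ) U := by
    refine ⟨?_, ?_⟩
    · change WeilCoh.sm q (WeilCoh.sm d w) ∈ U
      rw [hqd]
      exact hwU
    · change WeilCoh.sm φ (WeilCoh.sm p (WeilCoh.sm d w)) ∈ U
      rw [hpd]
      exact hφw
  have hjV : WeilCoh.sm j ξ₀ ∈ VV (WeilCoh.sm p) (WeilCoh.sm q) (WeilCoh.sm φ) U :=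
    hspec.mem_open (VV (WeilCoh.sm p) (WeilCoh.sm q) (WeilCoh.sm φ) U).2 hdV
  refine ⟨P.obj.left.presheaf.germ _ (WeilCoh.sm d w) hdV
    (gsec (WeilCoh.sm p) (WeilCoh.sm q) (WeilCoh.sm φ) U s), ?_, ?_⟩
  · rw [RingHom.mem_ker, specMap_germ]
    apply ((WeilCoh.sm j).residueFieldMap ξ₀).hom.injective
    rw [map_zero]
    have h1 := congrArg (fun ψ => ψ.hom (P.obj.left.presheaf.germ _ (WeilCoh.sm j ξ₀) hjV
      (gsec (WeilCoh.sm p) (WeilCoh.sm q) (WeilCoh.sm φ) U s)))
      (Scheme.residue_residueFieldMap (WeilCoh.sm j) ξ₀)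
    simp only [CommRingCat.hom_comp, RingHom.comp_apply] at h1
    refine h1.trans ?_
    rw [stalkMap_germ_gsec (WeilCoh.sm p) (WeilCoh.sm q) (WeilCoh.sm φ) (WeilCoh.sm j) (WeilCoh.sm φ)
      hjp' hjq' U s ξ₀ hjV hφξ hφξ, sub_self, map_zero]
  · rw [stalkMap_germ_gsec (WeilCoh.sm p) (WeilCoh.sm q) (WeilCoh.sm φ) (WeilCoh.sm d) (𝟙 X.obj.left)
      hdp' hdq' U s w hdV hwU hφw]
    congr 1
    rw [Scheme.Hom.stalkMap_id]
    rfl

include hjp hjq hdp hdq in
theorem residue_eq (ξ₀ : X.obj.left) (w : X.obj.left)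
    (hspec : WeilCoh.sm j ξ₀ ⤳ WeilCoh.sm d w) (U : X.obj.left.Opens) (hwU : w ∈ U)
    (hφw : WeilCoh.sm φ w ∈ U) (s : Γ(X.obj.left, U)) :
    (X.obj.left.residue w).hom (X.obj.left.presheaf.germ U w hwU s) =
      (X.obj.left.residue w).hom (((WeilCoh.sm φ).stalkMap w).hom
        (X.obj.left.presheaf.germ U (WeilCoh.sm φ w) hφw s)) := by
  obtain ⟨g, hg, hgd⟩ := exists_mem_ker p q φ j d hjp hjq hdp hdq ξ₀ w hspec U hwU hφw s
  have hgm : g ∈ IsLocalRing.maximalIdeal (P.obj.left.presheaf.stalk (WeilCoh.sm d w)) :=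
    IsLocalRing.le_maximalIdeal (RingHom.ker_ne_top _) hg
  have h1 := congrArg (fun ψ => ψ.hom g) (Scheme.residue_residueFieldMap (WeilCoh.sm d) w)
  simp only [CommRingCat.hom_comp, RingHom.comp_apply] at h1
  have h2 : (P.obj.left.residue (WeilCoh.sm d w)).hom g = 0 :=
    (IsLocalRing.residue_eq_zero_iff g).mpr hgm
  rw [h2, map_zero, hgd, map_sub] at h1
  exact (sub_eq_zero.mp h1.symm)

include hjp hjq hdp hdq in
theorem map_ker_eq [IsAlgClosed k] (ξ₀ : X.obj.left) (w : X.obj.left)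
    (hspec : WeilCoh.sm j ξ₀ ⤳ WeilCoh.sm d w) (hfix : WeilCoh.sm φ w = w)
    (Hm : ∀ t ∈ IsLocalRing.maximalIdeal (X.obj.left.presheaf.stalk (WeilCoh.sm φ w)),
      ((WeilCoh.sm φ).stalkMap w).hom t ∈
        (IsLocalRing.maximalIdeal (X.obj.left.presheaf.stalk w)) ^ 2) :
    Ideal.map ((WeilCoh.sm d).stalkMap w).hom
        (RingHom.ker (Cyc.specMap (WeilCoh.sm d w) (WeilCoh.sm j ξ₀) hspec)) =
      IsLocalRing.maximalIdeal (X.obj.left.presheaf.stalk w) := by
  haveI := WC2.lft X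
  haveI : IsLocallyNoetherian X.obj.left := LocallyOfFiniteType.isLocallyNoetherian X.obj.hom
  have hker : RingHom.ker (Cyc.specMap (WeilCoh.sm d w) (WeilCoh.sm j ξ₀) hspec) ≤
      IsLocalRing.maximalIdeal (P.obj.left.presheaf.stalk (WeilCoh.sm d w)) :=
    IsLocalRing.le_maximalIdeal (RingHom.ker_ne_top _)
  have hIle : Ideal.map ((WeilCoh.sm d).stalkMap w).hom
      (RingHom.ker (Cyc.specMap (WeilCoh.sm d w) (WeilCoh.sm j ξ₀) hspec)) ≤
      IsLocalRing.maximalIdeal (X.obj.left.presheaf.stalk w) := by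
    rw [Ideal.map_le_iff_le_comap]
    refine hker.trans ?_
    intro a ha
    rw [Ideal.mem_comap]
    rw [IsLocalRing.mem_maximalIdeal, mem_nonunits_iff] at ha ⊢
    intro hu
    exact ha (isUnit_of_map_unit ((WeilCoh.sm d).stalkMap w).hom a hu)
  refine le_antisymm hIle ?_
  have hfg : (IsLocalRing.maximalIdeal (X.obj.left.presheaf.stalk w)).FG :=
    IsNoetherian.noetherian _
  refine Submodule.le_of_le_smul_of_le_jacobson_bot hfg
    (IsLocalRing.maximalIdeal_le_jacobson ⊥) ?_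
  intro a ha
  obtain ⟨U, hwU, s, rfl⟩ := X.obj.left.presheaf.exists_germ_eq a
  have hφw : WeilCoh.sm φ w ∈ U := by rw [hfix]; exact hwU
  obtain ⟨g, hg, hgd⟩ := exists_mem_ker p q φ j d hjp hjq hdp hdq ξ₀ w hspec U hwU hφw s
  have hnot : w ∉ X.obj.left.basicOpen s := by
    rw [Scheme.mem_basicOpen X.obj.left s w hwU]
    exact (IsLocalRing.mem_maximalIdeal _).mp ha
  have hmem : X.obj.left.presheaf.germ U (WeilCoh.sm φ w) hφw s ∈
      IsLocalRing.maximalIdeal (X.obj.left.presheaf.stalk (WeilCoh.sm φ w)) := by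
    rw [IsLocalRing.mem_maximalIdeal, mem_nonunits_iff,
      ← Scheme.mem_basicOpen X.obj.left s (WeilCoh.sm φ w) hφw, hfix]
    exact hnot
  have h2 := Hm _ hmem
  have h3 : X.obj.left.presheaf.germ U w hwU s =
      ((WeilCoh.sm d).stalkMap w).hom g + ((WeilCoh.sm φ).stalkMap w).hom
        (X.obj.left.presheaf.germ U (WeilCoh.sm φ w) hφw s) := by
    rw [hgd]
    ring
  rw [h3]
  refine Submodule.add_mem_sup (Ideal.mem_map_of_mem _ hg) ?_
  rw [smul_eq_mul, ← sq]
  exact h2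

end loc

section closedpts

variable {k : Type u} [Field k]

theorem eq_of_specializes_of_pdim_zero (X : WeilCoh.Var k) (w' w : X.obj.left)
    (h0 : WeilCoh.pdim X.obj.left w' = 0) (hs : w' ⤳ w) : w' = w := by
  let _ : PartialOrder X.obj.left := specializationOrder X.obj.left
  have h1 : (BMTop.ht w').toNat = 0 := by
    rw [← BMTop.natDim_closure_eq_ht]
    exact h0
  have h2 := BMDim.ht_le_natDim' (WC2.finiteDim X) w'
  have h3 : BMTop.ht w' = 0 := by
    rcases ENat.toNat_eq_zero.mp h1 with h | h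
    · exact h
    · rw [h] at h2
      exact absurd h2 (by simp)
  have h4 : IsMin w' := Order.height_eq_zero.mp h3
  have h5 : w ≤ w' := hs
  exact le_antisymm (h4 h5) h5

end closedpts

section trace

variable {k : Type u} [Field k] [IsAlgClosed k] {K : Type v} [Field K] [CharZero K]
  (T : WeilCoh.Theory k K) (X P : WeilCoh.Var k) [IrreducibleSpace ↥X.obj.left]
  (p q : P ⟶ X) (hP : WeilCoh.IsProd p q) (φ : X ⟶ X) (j d : X ⟶ P)
  (hjp : j ≫ p = 𝟙 X) (hjq : j ≫ q = φ) (hdp : d ≫ p = 𝟙 X) (hdq : d ≫ q = 𝟙 X)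
  (Hm : ∀ w : X.obj.left, WeilCoh.sm φ w = w →
    ∀ t ∈ IsLocalRing.maximalIdeal (X.obj.left.presheaf.stalk (WeilCoh.sm φ w)),
      ((WeilCoh.sm φ).stalkMap w).hom t ∈
        (IsLocalRing.maximalIdeal (X.obj.left.presheaf.stalk w)) ^ 2)
  (Hc : ∀ w : X.obj.left, WeilCoh.sm φ w = w →
    (∀ (U : X.obj.left.Opens) (hwU : w ∈ U) (hφw : WeilCoh.sm φ w ∈ U) (s : Γ(X.obj.left, U)),
      (X.obj.left.residue w).hom (X.obj.left.presheaf.germ U w hwU s) =
        (X.obj.left.residue w).hom (((WeilCoh.sm φ).stalkMap w).hom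
          (X.obj.left.presheaf.germ U (WeilCoh.sm φ w) hφw s))) →
    WeilCoh.pdim X.obj.left w = 0)

include hjp hjq hdp hdq Hc in
theorem pdim_zero_of_eq (w : X.obj.left) (hw : WeilCoh.sm j w = WeilCoh.sm d w) :
    WeilCoh.pdim X.obj.left w = 0 := by
  have hmem := (mem_preimage_iff p q φ j d hjp hjq hdp hdq w).mpr hw
  have hspec : WeilCoh.sm j (genericPoint ↥X.obj.left) ⤳ WeilCoh.sm d w :=
    specializes_iff_mem_closure.mpr hmem
  exact Hc w (fixed_of_eq q φ j d hjq hdq w hw) (fun U hwU hφw s =>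
    residue_eq p q φ j d hjp hjq hdp hdq _ w hspec U hwU hφw s)

include hjp hjq hdp hdq Hc in
theorem isCompPt_iff (w : X.obj.left) :
    WeilCoh.IsCompPt ((WeilCoh.sm d) ⁻¹'
      closure ({WeilCoh.sm j (genericPoint ↥X.obj.left)} : Set P.obj.left)) w ↔
      WeilCoh.sm j w = WeilCoh.sm d w := by
  constructor
  · intro h
    exact (mem_preimage_iff p q φ j d hjp hjq hdp hdq w).mp h.1
  · intro h
    refine ⟨(mem_preimage_iff p q φ j d hjp hjq hdp hdq w).mpr h, ?_⟩
    intro w' hw' hs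
    have h' := (mem_preimage_iff p q φ j d hjp hjq hdp hdq w').mp hw'
    exact eq_of_specializes_of_pdim_zero X w' w
      (pdim_zero_of_eq X P p q φ j d hjp hjq hdp hdq Hc w' h') hs

include hjp hjq hdp hdq Hc in
theorem isClosed_of_eq (w : X.obj.left) (hw : WeilCoh.sm j w = WeilCoh.sm d w) :
    IsClosed ({w} : Set X.obj.left) := by
  have h0 := pdim_zero_of_eq X P p q φ j d hjp hjq hdp hdq Hc w hw
  have : closure ({w} : Set X.obj.left) = {w} := by
    apply Set.Subset.antisymm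
    · intro w' hw'
      have hs : w ⤳ w' := specializes_iff_mem_closure.mpr hw'
      exact (eq_of_specializes_of_pdim_zero X w w' h0 hs).symm
    · exact subset_closure
  rw [← this]
  exact isClosed_closure

include hP hjp hjq hdp hdq Hm Hc in
theorem pull_cl_graph :
    T.pull d (T.cl P (WeilCoh.sm j (genericPoint ↥X.obj.left))) =
      ∑ᶠ w : {w : X.obj.left // WeilCoh.sm j w = WeilCoh.sm d w}, T.cl X w.1 := by
  have hdim : ∀ w : X.obj.left, WeilCoh.IsCompPt ((WeilCoh.sm d) ⁻¹'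
      closure ({WeilCoh.sm j (genericPoint ↥X.obj.left)} : Set P.obj.left)) w →
      (WeilCoh.pdim X.obj.left w : ℤ) =
        WeilCoh.pdim P.obj.left (WeilCoh.sm j (genericPoint ↥X.obj.left)) +
          WeilCoh.dim X.obj.left - WeilCoh.dim P.obj.left := by
    intro w hw
    rw [pdim_zero_of_eq X P p q φ j d hjp hjq hdp hdq Hc w
      ((isCompPt_iff X P p q φ j d hjp hjq hdp hdq Hc w).mp hw),
      WC2.pdim_section j p hjp, WC2.pdim_generic X, WC6.dim_prod T p q hP]
    push_cast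
    ring
  have hmult : ∀ (w : X.obj.left) (hw : WeilCoh.IsCompPt ((WeilCoh.sm d) ⁻¹'
      closure ({WeilCoh.sm j (genericPoint ↥X.obj.left)} : Set P.obj.left)) w),
      WeilCoh.preimMult (WeilCoh.sm d) (WeilCoh.sm j (genericPoint ↥X.obj.left)) w hw.1 = 1 := by
    intro w hw
    have hjd := (isCompPt_iff X P p q φ j d hjp hjq hdp hdq Hc w).mp hw
    have hfix := fixed_of_eq q φ j d hjq hdq w hjd
    unfold WeilCoh.preimMult
    have hIeq := map_ker_eq p q φ j d hjp hjq hdp hdq (genericPoint ↥X.obj.left) w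
      (specializes_iff_mem_closure.mpr hw.1) hfix (Hm w hfix)
    have hsimple : IsSimpleModule (X.obj.left.presheaf.stalk w)
        (X.obj.left.presheaf.stalk w ⧸ Ideal.map ((WeilCoh.sm d).stalkMap w).hom
          (RingHom.ker (Cyc.specMap (WeilCoh.sm d w) (WeilCoh.sm j (genericPoint ↥X.obj.left))
            (specializes_iff_mem_closure.mpr hw.1)))) := by
      rw [isSimpleModule_iff_isCoatom, hIeq, ← Ideal.isMaximal_def]
      infer_instance
    rw [Module.length_eq_one_iff.mpr hsimple]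
    rfl
  rw [T.cl_pull d _ hdim (Or.inr hmult)]
  let e : {w : X.obj.left // WeilCoh.IsCompPt ((WeilCoh.sm d) ⁻¹'
      closure ({WeilCoh.sm j (genericPoint ↥X.obj.left)} : Set P.obj.left)) w} ≃
      {w : X.obj.left // WeilCoh.sm j w = WeilCoh.sm d w} :=
    Equiv.subtypeEquivRight (isCompPt_iff X P p q φ j d hjp hjq hdp hdq Hc)
  rw [← finsum_comp_equiv e]
  apply finsum_congr
  intro w
  rw [hmult w.1 w.2]
  simp [e]

include hP hjp hjq hdp hdq Hm Hc in
theorem tr_graph_diag :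
    T.tr P (T.cl P (WeilCoh.sm j (genericPoint ↥X.obj.left)) *
        T.cl P (WeilCoh.sm d (genericPoint ↥X.obj.left))) =
      (Nat.card {w : X.obj.left // WeilCoh.sm j w = WeilCoh.sm d w} : K) := by
  have hcod : (WeilCoh.codim P.obj.left (WeilCoh.sm j (genericPoint ↥X.obj.left)) : ℤ) =
      WeilCoh.pdim X.obj.left (genericPoint ↥X.obj.left) := by
    rw [WC6.codim_section j p hjp, WC2.pdim_generic X, WC6.dim_prod T p q hP]
    push_cast
    ring
  have ha : T.cl P (WeilCoh.sm j (genericPoint ↥X.obj.left)) ∈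
      T.gr P (2 * (WeilCoh.pdim X.obj.left (genericPoint ↥X.obj.left) : ℤ)) := by
    rw [← hcod]
    exact T.cl_mem P _
  rw [WC6.mul_comm_of_even T _ _ _ _ ha (T.cl_mem P _),
    WC6.tr_cl_section T d p hdp (genericPoint ↥X.obj.left) _ ha, WC4.cl_generic T X, one_mul,
    pull_cl_graph T X P p q hP φ j d hjp hjq hdp hdq Hm Hc]
  have htr : ∀ w : {w : X.obj.left // WeilCoh.sm j w = WeilCoh.sm d w},
      T.tr X (T.cl X w.1) = 1 := fun w =>
    WC4.tr_cl_closed T X w.1 (isClosed_of_eq X P p q φ j d hjp hjq hdp hdq Hc w.1 w.2)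
  by_cases hfin : Finite {w : X.obj.left // WeilCoh.sm j w = WeilCoh.sm d w}
  · haveI := Fintype.ofFinite {w : X.obj.left // WeilCoh.sm j w = WeilCoh.sm d w}
    rw [finsum_eq_sum_of_fintype, map_sum, Finset.sum_congr rfl (fun w _ => htr w)]
    simp [Nat.card_eq_fintype_card]
  · rw [not_finite_iff_infinite] at hfin
    rw [Nat.card_eq_zero_of_infinite, Nat.cast_zero, finsum_of_infinite_support, map_zero]
    have hsupp : Function.support (fun w : {w : X.obj.left // WeilCoh.sm j w = WeilCoh.sm d w} =>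
        T.cl X w.1) = Set.univ := by
      ext w
      simp only [Function.mem_support, Set.mem_univ, iff_true]
      intro h0
      have := htr w
      rw [h0, map_zero] at this
      exact zero_ne_one this
    rw [hsupp]
    exact Set.infinite_univ

end trace

end Groth.Agent.Lib.helper27.Fix2
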