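import Mathlib

/-!
# Helper library (helper27): the absolute Frobenius endomorphism of a scheme of characteristic `p`.
-/

set_option autoImplicit false
set_option linter.style.haveILetI false
universe u
open AlgebraicGeometry CategoryTheory Opposite TopologicalSpace

namespace Groth.Agent.Lib.helper27.Frob2

/-- the `p ^ e`-power ring endomorphism of a ring in which `p = 0`. -/
noncomputable def powHom (R : Type*) [CommRing R] (p : ℕ) (hp : p.Prime) (h : (p : R) = 0) (e : ℕ) :
    R →+* R where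
  toFun x := x ^ p ^ e
  map_one' := one_pow _
  map_mul' x y := mul_pow x y _
  map_zero' := zero_pow (pow_ne_zero _ hp.ne_zero)
  map_add' x y := by
    rcases subsingleton_or_nontrivial R with hs | hn
    · exact Subsingleton.elim _ _
    · haveI : CharP R p := by
        have := CharP.ringChar_of_prime_eq_zero hp h
        rw [← this]
        exact ringChar.charP R
      haveI := Fact.mk hp
      exact add_pow_char_pow x y p e

@[simp] theorem powHom_apply (R : Type*) [CommRing R] (p : ℕ) (hp : p.Prime) (h : (p : R) = 0)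
    (e : ℕ) (x : R) : powHom R p hp h e x = x ^ p ^ e := rfl

variable (Y : Scheme.{u}) (p : ℕ) (hp : p.Prime) (h : ∀ U : Y.Opens, (p : Γ(Y, U)) = 0) (e : ℕ)

/-- the underlying morphism of presheafed spaces of the absolute Frobenius. -/
noncomputable def absFrobPre : Y.toPresheafedSpace.Hom Y.toPresheafedSpace where
  base := 𝟙 _
  c :=
    { app := fun U => CommRingCat.ofHom (powHom Γ(Y, U.unop) p hp (h U.unop) e)
      naturality := by
        intro U V i
        ext x
        simp only [CommRingCat.hom_comp, CommRingCat.hom_ofHom, RingHom.comp_apply]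
        change ((Y.presheaf.map i).hom x) ^ (p ^ e) = (Y.presheaf.map i).hom (x ^ (p ^ e))
        rw [map_pow] }

theorem absFrobPre_stalkMap_germ (x : Y) (U : Y.Opens) (hx : x ∈ U) (s : Γ(Y, U)) :
    ((absFrobPre Y p hp h e).stalkMap x).hom (Y.presheaf.germ U x hx s) =
      (Y.presheaf.germ U x hx s) ^ (p ^ e) := by
  have := PresheafedSpace.stalkMap_germ (absFrobPre Y p hp h e) U x hx
  have h2 := congrArg (fun φ => φ.hom s) this
  simp only [CommRingCat.hom_comp, RingHom.comp_apply] at h2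
  refine h2.trans ?_
  change (Y.presheaf.germ U x hx).hom (s ^ (p ^ e)) = _
  rw [map_pow]

/-- the absolute `p ^ e`-Frobenius of a scheme in which `p = 0`. -/
noncomputable def absFrob : Y ⟶ Y :=
  ⟨{ toHom := absFrobPre Y p hp h e
     prop := by
      intro x
      constructor
      intro a ha
      obtain ⟨U, hxU, s, rfl⟩ := Y.presheaf.exists_germ_eq a
      have key := absFrobPre_stalkMap_germ Y p hp h e x U hxU s
      have ha' : IsUnit ((Y.presheaf.germ U x hxU s) ^ (p ^ e)) := by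
        rw [← key]
        exact ha
      exact (isUnit_pow_iff (pow_ne_zero _ hp.ne_zero)).mp ha' }⟩

@[simp] theorem absFrob_base : (absFrob Y p hp h e).base = 𝟙 _ := rfl

@[simp] theorem absFrob_apply (x : Y) : (absFrob Y p hp h e) x = x := rfl

theorem absFrob_preimage (U : Y.Opens) : (absFrob Y p hp h e) ⁻¹ᵁ U = U := rfl

theorem absFrob_app (U : Y.Opens) (s : Γ(Y, U)) :
    ((absFrob Y p hp h e).app U).hom s = s ^ (p ^ e) := rfl

theorem absFrob_stalkMap_germ (x : Y) (U : Y.Opens) (hx : x ∈ U) (s : Γ(Y, U)) :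
    ((absFrob Y p hp h e).stalkMap x).hom (Y.presheaf.germ U x hx s) =
      (Y.presheaf.germ U x hx s) ^ (p ^ e) :=
  absFrobPre_stalkMap_germ Y p hp h e x U hx s

theorem absFrob_stalkMap (x : Y) (a : Y.presheaf.stalk x) :
    ((absFrob Y p hp h e).stalkMap x).hom a = a ^ (p ^ e) := by
  obtain ⟨U, hxU, s, rfl⟩ := Y.presheaf.exists_germ_eq a
  exact absFrob_stalkMap_germ Y p hp h e x U hxU s

theorem absFrob_residueFieldMap (x : Y) (z : Y.residueField x) :
    ((absFrob Y p hp h e).residueFieldMap x).hom z = z ^ (p ^ e) := by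
  obtain ⟨a, rfl⟩ := Y.residue_surjective x z
  have h1 := congrArg (fun φ => φ.hom a) (Scheme.residue_residueFieldMap (absFrob Y p hp h e) x)
  simp only [CommRingCat.hom_comp, RingHom.comp_apply] at h1
  refine h1.trans ?_
  rw [absFrob_stalkMap, map_pow]

section naturality

variable {Y}

/-- characteristic `p` propagates along morphisms. -/
theorem char_of_hom {Y Z : Scheme.{u}} (g : Y ⟶ Z) (p : ℕ) (hZ : (p : Γ(Z, ⊤)) = 0) (U : Y.Opens) :
    (p : Γ(Y, U)) = 0 := by
  have h1 : (g.appLE ⊤ U (by simp)).hom (p : Γ(Z, ⊤)) = (p : Γ(Y, U)) := map_natCast _ p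
  rw [← h1, hZ, map_zero]

theorem map_eqToHom_apply {Y : Scheme.{u}} {V W : Y.Opens} (h : V = W) (t : Γ(Y, W)) (t' : Γ(Y, V))
    (htt' : HEq t t') : (Y.presheaf.map (eqToHom h).op).hom t = t' := by
  subst h
  simp only [eqToHom_refl, op_id, CategoryTheory.Functor.map_id, CommRingCat.hom_id,
    RingHom.id_apply]
  exact eq_of_heq htt'

theorem absFrob_naturality {Y Z : Scheme.{u}} (g : Y ⟶ Z) (p : ℕ) (hp : p.Prime)
    (hY : ∀ U : Y.Opens, (p : Γ(Y, U)) = 0) (hZ : ∀ U : Z.Opens, (p : Γ(Z, U)) = 0) (e : ℕ) :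
    absFrob Y p hp hY e ≫ g = g ≫ absFrob Z p hp hZ e := by
  refine Scheme.Hom.ext rfl ?_
  intro U
  ext s
  change (Y.presheaf.map (eqToHom _).op).hom
    (((absFrob Y p hp hY e).app (g ⁻¹ᵁ U)).hom ((g.app U).hom s)) =
    (g.app ((absFrob Z p hp hZ e) ⁻¹ᵁ U)).hom (((absFrob Z p hp hZ e).app U).hom s)
  refine map_eqToHom_apply _ _ _ ?_
  change HEq (((g.app U).hom s) ^ (p ^ e)) ((g.app U).hom (s ^ (p ^ e)))
  rw [map_pow]

theorem eq_absFrob {X : Scheme.{u}} (p : ℕ) (hp : p.Prime) (hX : ∀ U : X.Opens, (p : Γ(X, U)) = 0)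
    (e : ℕ) (FX : X ⟶ X) (hFb : FX.base = 𝟙 _) (hle : ∀ U : X.Opens, U ≤ FX ⁻¹ᵁ U)
    (hFapp : ∀ (U : X.Opens) (s : Γ(X, U)), (FX.appLE U U (hle U)).hom s = s ^ (p ^ e)) :
    FX = absFrob X p hp hX e := by
  refine Scheme.Hom.ext hFb ?_
  intro U
  ext s
  have := hFapp U s
  rw [Scheme.Hom.appLE] at this
  exact this

theorem absFrob_Spec (R : CommRingCat.{u}) (p : ℕ) (hp : p.Prime) (hR : (p : R) = 0)
    (hS : ∀ U : (Spec R).Opens, (p : Γ(Spec R, U)) = 0) (e : ℕ) :
    absFrob (Spec R) p hp hS e = Spec.map (CommRingCat.ofHom (powHom R p hp hR e)) := by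
  apply ext_of_isAffine
  rw [← cancel_mono (Scheme.ΓSpecIso R).hom, Scheme.ΓSpecIso_naturality]
  ext s
  simp only [CommRingCat.hom_comp, RingHom.comp_apply, CommRingCat.hom_ofHom, powHom_apply]
  change (Scheme.ΓSpecIso R).hom.hom (s ^ (p ^ e)) = _
  rw [map_pow]
  rfl

theorem char_Spec (R : CommRingCat.{u}) (p : ℕ) (hR : (p : R) = 0) (U : (Spec R).Opens) :
    (p : Γ(Spec R, U)) = 0 := by
  have h0 : (p : Γ(Spec R, ⊤)) = 0 := by
    have h1 : (Scheme.ΓSpecIso R).inv.hom (p : R) = (p : Γ(Spec R, ⊤)) := map_natCast _ p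
    rw [← h1, hR, map_zero]
  exact char_of_hom (𝟙 (Spec R)) p h0 U

end naturality

end Groth.Agent.Lib.helper27.Frob2
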