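import Mathlib
import Groth.Prelude.Def_CurvBase
import Groth.Agent.Lib.Helper27.Frob1
import Groth.Agent.Lib.Helper27.Frob2
import Groth.Agent.Lib.Helper3.FTField

/-!
# Helper library (helper27): residue degrees of composites, of isomorphisms and of the absolute
Frobenius; residue fields of schemes locally of finite type over a field are essentially of finite
type.
-/

set_option autoImplicit false
set_option linter.style.haveILetI false
universe u
open AlgebraicGeometry CategoryTheory Opposite TopologicalSpace

namespace Groth.Agent.Lib.helper27.Frob3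

open Groth.Agent.Lib.helper27.Frob1 Groth.Agent.Lib.helper27.Frob2

theorem residueDegree_eq_rdeg {X Y : Scheme.{u}} (f : X ⟶ Y) (x : X) :
    f.residueDegree x = rdeg (f.residueFieldMap x).hom := rfl

theorem residueDegree_comp {X Y Z : Scheme.{u}} (f : X ⟶ Y) (g : Y ⟶ Z) (x : X) :
    (f ≫ g).residueDegree x = g.residueDegree (f x) * f.residueDegree x := by
  have h2 : rdeg ((f ≫ g).residueFieldMap x).hom =
      rdeg ((f.residueFieldMap x).hom.comp (g.residueFieldMap (f x)).hom) := by
    rw [Scheme.residueFieldMap_comp]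
    rfl
  rw [residueDegree_eq_rdeg, residueDegree_eq_rdeg, residueDegree_eq_rdeg, h2,
    rdeg_comp _ _ (RingHom.injective _)]

theorem residueDegree_of_isIso {X Y : Scheme.{u}} (f : X ⟶ Y) [IsIso f] (x : X) :
    f.residueDegree x = 1 := by
  rw [residueDegree_eq_rdeg]
  exact rdeg_of_bijective _ (ConcreteCategory.bijective_of_isIso (f.residueFieldMap x))

theorem residueDegree_absFrob (Y : Scheme.{u}) (p : ℕ) (hp : p.Prime)
    (h : ∀ U : Y.Opens, (p : Γ(Y, U)) = 0) (e : ℕ) (x : Y) [ExpChar (Y.residueField x) p] :
    (absFrob Y p hp h e).residueDegree x = fd p (Y.residueField x) ^ e := by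
  rw [residueDegree_eq_rdeg, ← rdeg_iterateFrobenius]
  congr 1
  ext z
  exact absFrob_residueFieldMap Y p hp h e x z

section ess

variable (k : Type u) [Field k] (X : Scheme.{u}) [X.Over (Spec (CommRingCat.of k))]
  [LocallyOfFiniteType (X ↘ Spec (CommRingCat.of k))]

theorem essFiniteType_resMap (x : X) : (Curv2.resMap k X x).EssFiniteType := by
  obtain ⟨U, hU, hxU, -⟩ := exists_isAffineOpen_mem_and_subset (x := x) (U := ⊤) trivial
  rw [Groth.Agent.Lib.helper3.FTField.resMap_eq k X U x hxU]
  refine RingHom.EssFiniteType.comp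
    (Groth.Agent.Lib.helper3.FTField.sec_finiteType k X hU).essFiniteType ?_
  have h1 : (X.evaluation U x hxU).hom = (X.residue x).hom.comp (X.presheaf.germ U x hxU).hom := rfl
  rw [h1]
  refine RingHom.EssFiniteType.comp ?_ ?_
  · letI : Algebra Γ(X, U) (X.presheaf.stalk x) :=
      TopCat.Presheaf.algebra_section_stalk X.presheaf ⟨x, hxU⟩
    have := hU.isLocalization_stalk ⟨x, hxU⟩
    have h2 : Algebra.EssFiniteType Γ(X, U) (X.presheaf.stalk x) :=
      Algebra.EssFiniteType.of_isLocalization _ (hU.primeIdealOf ⟨x, hxU⟩).asIdeal.primeCompl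
    exact RingHom.essFiniteType_algebraMap.mpr h2
  · exact (RingHom.FiniteType.of_surjective _ (X.residue_surjective x)).essFiniteType

end ess

end Groth.Agent.Lib.helper27.Frob3
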