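import Mathlib
import Groth.Prelude.Def_CurvBase
import Groth.Agent.Lib.Helper27.Frob3

/-!
# Helper library (helper27): the degree of the relative Frobenius `Frob_X × id` of `X ×_{k₀} k`.
-/

set_option autoImplicit false
set_option linter.style.haveILetI false
universe u
open AlgebraicGeometry CategoryTheory Opposite TopologicalSpace

namespace Groth.Agent.Lib.helper27.Frob4

open Groth.Agent.Lib.helper27.Frob1 Groth.Agent.Lib.helper27.Frob2 Groth.Agent.Lib.helper27.Frob3

theorem exists_char (k₀ : Type u) [Field k₀] [Finite k₀] :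
    ∃ p e : ℕ, p.Prime ∧ CharP k₀ p ∧ Nat.card k₀ = p ^ e := by
  obtain ⟨p, hp⟩ := CharP.exists k₀
  haveI := Fintype.ofFinite k₀
  obtain ⟨n, hprime, hcard⟩ := FiniteField.card k₀ p
  exact ⟨p, n, hprime, hp, by rw [Nat.card_eq_fintype_card, hcard]⟩

theorem pow_card_eq (k₀ : Type u) [Field k₀] [Finite k₀] (a : k₀) : a ^ Nat.card k₀ = a := by
  haveI := Fintype.ofFinite k₀
  rw [Nat.card_eq_fintype_card]
  exact FiniteField.pow_card a

/-- an isomorphism of schemes fixes the generic point. -/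
theorem iso_genericPoint {Y : Scheme.{u}} [IrreducibleSpace Y] (σ σ' : Y ⟶ Y) (h1 : σ' ≫ σ = 𝟙 Y) :
    σ (genericPoint Y) = genericPoint Y := by
  have hsurj : Function.Surjective σ := by
    intro y
    refine ⟨σ' y, ?_⟩
    have := congrArg (fun φ : Y ⟶ Y => φ y) h1
    simpa using this
  have hg : IsGenericPoint (σ (genericPoint Y)) (⊤ : Set Y) := by
    rw [IsGenericPoint]
    apply top_unique
    intro y _
    obtain ⟨z, rfl⟩ := hsurj y
    have hz : z ∈ closure ({genericPoint Y} : Set Y) := by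
      rw [(genericPoint_spec Y).def]
      trivial
    have := image_closure_subset_closure_image σ.continuous ⟨z, hz, rfl⟩
    rwa [Set.image_singleton] at this
  exact hg.eq (genericPoint_spec Y)

theorem frob_degree (k₀ : Type u) [Field k₀] [Finite k₀] (k : Type u) [Field k] [PerfectField k]
    [Algebra k₀ k] {X : Scheme.{u}} (f : X ⟶ Spec (CommRingCat.of k₀))
    (FX : X ⟶ X) (hFb : FX.base = 𝟙 _) (hle : ∀ U : X.Opens, U ≤ FX ⁻¹ᵁ U)
    (hFapp : ∀ (U : X.Opens) (s : Γ(X, U)), (FX.appLE U U (hle U)).hom s = s ^ Nat.card k₀)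
    {Y : Scheme.{u}} (g : Y ⟶ Spec (CommRingCat.of k)) [LocallyOfFiniteType g] [IrreducibleSpace Y]
    (π : Y ⟶ X) (hπ : IsPullback π g f (Spec.map (CommRingCat.ofHom (algebraMap k₀ k))))
    (F : Y ⟶ Y) (hFg : F ≫ g = g) (hF : F ≫ π = π ≫ FX) (n : ℕ)
    (hn : @Algebra.trdeg k (Y.residueField (genericPoint Y)) _ _
      (@Curv2.resAlgebra k _ Y ⟨g⟩ (genericPoint Y)) = n) :
    F (genericPoint Y) = genericPoint Y ∧
      F.residueDegree (genericPoint Y) = (Nat.card k₀) ^ n := by
  obtain ⟨p, e, hp, hchar, hq⟩ := exists_char k₀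
  haveI := hchar
  haveI : CharP k p := charP_of_injective_algebraMap (algebraMap k₀ k).injective p
  haveI := Fact.mk hp
  haveI : ExpChar k p := ExpChar.prime hp
  -- characteristic of the schemes
  have hk₀0 : (p : (CommRingCat.of k₀ : CommRingCat)) = 0 := CharP.cast_eq_zero k₀ p
  have hk0 : (p : (CommRingCat.of k : CommRingCat)) = 0 := CharP.cast_eq_zero k p
  have hS₀ := char_Spec (CommRingCat.of k₀) p hk₀0
  have hS := char_Spec (CommRingCat.of k) p hk0
  have hX : ∀ U : X.Opens, (p : Γ(X, U)) = 0 := char_of_hom f p (hS₀ ⊤)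
  have hY : ∀ U : Y.Opens, (p : Γ(Y, U)) = 0 := char_of_hom g p (hS ⊤)
  -- FX is the absolute Frobenius of X
  have hFX : FX = absFrob X p hp hX e := eq_absFrob p hp hX e FX hFb hle (by
    intro U s
    rw [hFapp U s, hq])
  -- the Frobenius of k
  let φ : k →+* k := powHom (CommRingCat.of k) p hp hk0 e
  let s : Spec (CommRingCat.of k) ⟶ Spec (CommRingCat.of k) := Spec.map (CommRingCat.ofHom φ)
  have hAFg : absFrob Y p hp hY e ≫ g = g ≫ s := by
    rw [absFrob_naturality g p hp hY hS e, absFrob_Spec (CommRingCat.of k) p hp hk0 hS e]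
  have hAFπ : absFrob Y p hp hY e ≫ π = π ≫ FX := by
    rw [absFrob_naturality π p hp hY hX e, hFX]
  -- `φ` is bijective
  have hφ : φ = iterateFrobenius k p e := by
    ext x
    rfl
  let ψ : k →+* k := ((iterateFrobeniusEquiv k p e).symm : k ≃+* k).toRingHom
  have hφψ : φ.comp ψ = RingHom.id k := by
    ext x
    rw [hφ]
    exact (iterateFrobeniusEquiv k p e).apply_symm_apply x
  have hψφ : ψ.comp φ = RingHom.id k := by
    ext x
    rw [hφ]
    exact (iterateFrobeniusEquiv k p e).symm_apply_apply x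
  let s' : Spec (CommRingCat.of k) ⟶ Spec (CommRingCat.of k) := Spec.map (CommRingCat.ofHom ψ)
  have hss' : s ≫ s' = 𝟙 _ := by
    rw [← Spec.map_comp, ← CommRingCat.ofHom_comp, hφψ]
    exact Spec.map_id _
  have hs's : s' ≫ s = 𝟙 _ := by
    rw [← Spec.map_comp, ← CommRingCat.ofHom_comp, hψφ]
    exact Spec.map_id _
  have hsa : s ≫ Spec.map (CommRingCat.ofHom (algebraMap k₀ k)) =
      Spec.map (CommRingCat.ofHom (algebraMap k₀ k)) := by
    rw [← Spec.map_comp, ← CommRingCat.ofHom_comp]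
    congr 2
    ext a
    change (algebraMap k₀ k a) ^ (p ^ e) = algebraMap k₀ k a
    rw [← map_pow, ← hq, pow_card_eq]
  have hs'a : s' ≫ Spec.map (CommRingCat.ofHom (algebraMap k₀ k)) =
      Spec.map (CommRingCat.ofHom (algebraMap k₀ k)) := by
    conv_lhs => rw [← hsa, ← Category.assoc, hs's, Category.id_comp]
  let σ : Y ⟶ Y := hπ.lift π (g ≫ s) (by rw [Category.assoc, hsa]; exact hπ.w)
  let σ' : Y ⟶ Y := hπ.lift π (g ≫ s') (by rw [Category.assoc, hs'a]; exact hπ.w)
  have hσπ : σ ≫ π = π := hπ.lift_fst _ _ _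
  have hσg : σ ≫ g = g ≫ s := hπ.lift_snd _ _ _
  have hσ'π : σ' ≫ π = π := hπ.lift_fst _ _ _
  have hσ'g : σ' ≫ g = g ≫ s' := hπ.lift_snd _ _ _
  have hσσ' : σ ≫ σ' = 𝟙 Y := hπ.hom_ext (by rw [Category.assoc, hσ'π, hσπ, Category.id_comp])
    (by rw [Category.assoc, hσ'g, ← Category.assoc, hσg, Category.assoc, hss', Category.comp_id,
      Category.id_comp])
  have hσ'σ : σ' ≫ σ = 𝟙 Y := hπ.hom_ext (by rw [Category.assoc, hσπ, hσ'π, Category.id_comp])
    (by rw [Category.assoc, hσg, ← Category.assoc, hσ'g, Category.assoc, hs's, Category.comp_id,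
      Category.id_comp])
  have hFσ : F ≫ σ = absFrob Y p hp hY e := hπ.hom_ext
    (by rw [Category.assoc, hσπ, hF, hAFπ])
    (by rw [Category.assoc, hσg, ← Category.assoc, hFg, hAFg])
  haveI : IsIso σ := ⟨σ', hσσ', hσ'σ⟩
  -- the generic point
  have hση : σ (genericPoint Y) = genericPoint Y := iso_genericPoint σ σ' hσ'σ
  have hFη : F (genericPoint Y) = genericPoint Y := by
    have h1 : σ (F (genericPoint Y)) = genericPoint Y := by
      have := congrArg (fun φ : Y ⟶ Y => φ (genericPoint Y)) hFσ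
      simpa using this
    have h2 : σ (F (genericPoint Y)) = σ (genericPoint Y) := h1.trans hση.symm
    have h3 := congrArg (fun y => σ' y) h2
    have h4 : ∀ y : Y, σ' (σ y) = y := fun y => by
      have := congrArg (fun φ : Y ⟶ Y => φ y) hσσ'
      simpa using this
    simpa [h4] using h3
  refine ⟨hFη, ?_⟩
  have hdeg : (absFrob Y p hp hY e).residueDegree (genericPoint Y) =
      σ.residueDegree (F (genericPoint Y)) * F.residueDegree (genericPoint Y) := by
    rw [← hFσ]
    exact residueDegree_comp F σ _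
  rw [residueDegree_of_isIso σ, one_mul] at hdeg
  rw [← hdeg]
  letI : Y.Over (Spec (CommRingCat.of k)) := ⟨g⟩
  haveI : LocallyOfFiniteType (Y ↘ Spec (CommRingCat.of k)) := ‹LocallyOfFiniteType g›
  letI : Algebra k (Y.residueField (genericPoint Y)) := Curv2.resAlgebra k Y (genericPoint Y)
  haveI : ExpChar (Y.residueField (genericPoint Y)) p :=
    expChar_of_injective_algebraMap (algebraMap k (Y.residueField (genericPoint Y))).injective p
  haveI : Algebra.EssFiniteType k (Y.residueField (genericPoint Y)) :=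
    essFiniteType_resMap k Y (genericPoint Y)
  haveI : PerfectRing k p := inferInstance
  rw [residueDegree_absFrob, fd_of_essFiniteType p hp.pos k _ n hn, hq, ← pow_mul, ← pow_mul,
    mul_comm]

end Groth.Agent.Lib.helper27.Frob4
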