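import Mathlib
import Groth.Prelude.Def_CurvBase
import Groth.Agent.Lib.Helper27.Frob4

/-!
# Helper library (helper27): the relative Frobenius `Frob_X × id` of `X ×_{k₀} k` is the absolute
Frobenius followed by an automorphism (the inverse of the arithmetic Frobenius); powers.
-/

set_option autoImplicit false
set_option linter.style.haveILetI false
universe u
open AlgebraicGeometry CategoryTheory Opposite TopologicalSpace

namespace Groth.Agent.Lib.helper27.Frob9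

open Groth.Agent.Lib.helper27.Frob1 Groth.Agent.Lib.helper27.Frob2 Groth.Agent.Lib.helper27.Frob3
  Groth.Agent.Lib.helper27.Frob4

theorem exists_twist (k₀ : Type u) [Field k₀] [Finite k₀] (k : Type u) [Field k] [PerfectField k]
    [Algebra k₀ k] {X : Scheme.{u}} (f : X ⟶ Spec (CommRingCat.of k₀))
    (FX : X ⟶ X) (hFb : FX.base = 𝟙 _) (hle : ∀ U : X.Opens, U ≤ FX ⁻¹ᵁ U)
    (hFapp : ∀ (U : X.Opens) (s : Γ(X, U)), (FX.appLE U U (hle U)).hom s = s ^ Nat.card k₀)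
    {Y : Scheme.{u}} (g : Y ⟶ Spec (CommRingCat.of k))
    (π : Y ⟶ X) (hπ : IsPullback π g f (Spec.map (CommRingCat.ofHom (algebraMap k₀ k))))
    (F : Y ⟶ Y) (hFg : F ≫ g = g) (hF : F ≫ π = π ≫ FX) :
    ∃ (p e : ℕ) (hp : p.Prime) (hY : ∀ U : Y.Opens, (p : Γ(Y, U)) = 0) (σ σ' : Y ⟶ Y),
      Nat.card k₀ = p ^ e ∧ CharP k p ∧ σ ≫ σ' = 𝟙 Y ∧ σ' ≫ σ = 𝟙 Y ∧
        F ≫ σ = absFrob Y p hp hY e := by
  obtain ⟨p, e, hp, hchar, hq⟩ := exists_char k₀
  haveI := hchar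
  haveI : CharP k p := charP_of_injective_algebraMap (algebraMap k₀ k).injective p
  haveI := Fact.mk hp
  haveI : ExpChar k p := ExpChar.prime hp
  -- characteristic of the schemes
  have hk₀0 : (p : (CommRingCat.of k₀ : CommRingCat)) = 0 := CharP.cast_eq_zero k₀ p
  have hk0 : (p : (CommRingCat.of k : CommRingCat)) = 0 := CharP.cast_eq_zero k p
  have hS₀ := char_Spec (CommRingCat.of k₀) p hk₀0
  have hS := char_Spec (CommRingCat.of k) p hk0
  have hX : ∀ U : X.Opens, (p : Γ(X, U)) = 0 := char_of_hom f p (hS₀ ⊤)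
  have hY : ∀ U : Y.Opens, (p : Γ(Y, U)) = 0 := char_of_hom g p (hS ⊤)
  -- FX is the absolute Frobenius of X
  have hFX : FX = absFrob X p hp hX e := eq_absFrob p hp hX e FX hFb hle (by
    intro U s
    rw [hFapp U s, hq])
  -- the Frobenius of k
  let φ : k →+* k := powHom (CommRingCat.of k) p hp hk0 e
  let s : Spec (CommRingCat.of k) ⟶ Spec (CommRingCat.of k) := Spec.map (CommRingCat.ofHom φ)
  have hAFg : absFrob Y p hp hY e ≫ g = g ≫ s := by
    rw [absFrob_naturality g p hp hY hS e, absFrob_Spec (CommRingCat.of k) p hp hk0 hS e]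
  have hAFπ : absFrob Y p hp hY e ≫ π = π ≫ FX := by
    rw [absFrob_naturality π p hp hY hX e, hFX]
  -- `φ` is bijective
  have hφ : φ = iterateFrobenius k p e := by
    ext x
    rfl
  let ψ : k →+* k := ((iterateFrobeniusEquiv k p e).symm : k ≃+* k).toRingHom
  have hφψ : φ.comp ψ = RingHom.id k := by
    ext x
    rw [hφ]
    exact (iterateFrobeniusEquiv k p e).apply_symm_apply x
  have hψφ : ψ.comp φ = RingHom.id k := by
    ext x
    rw [hφ]
    exact (iterateFrobeniusEquiv k p e).symm_apply_apply x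
  let s' : Spec (CommRingCat.of k) ⟶ Spec (CommRingCat.of k) := Spec.map (CommRingCat.ofHom ψ)
  have hss' : s ≫ s' = 𝟙 _ := by
    rw [← Spec.map_comp, ← CommRingCat.ofHom_comp, hφψ]
    exact Spec.map_id _
  have hs's : s' ≫ s = 𝟙 _ := by
    rw [← Spec.map_comp, ← CommRingCat.ofHom_comp, hψφ]
    exact Spec.map_id _
  have hsa : s ≫ Spec.map (CommRingCat.ofHom (algebraMap k₀ k)) =
      Spec.map (CommRingCat.ofHom (algebraMap k₀ k)) := by
    rw [← Spec.map_comp, ← CommRingCat.ofHom_comp]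
    congr 2
    ext a
    change (algebraMap k₀ k a) ^ (p ^ e) = algebraMap k₀ k a
    rw [← map_pow, ← hq, pow_card_eq]
  have hs'a : s' ≫ Spec.map (CommRingCat.ofHom (algebraMap k₀ k)) =
      Spec.map (CommRingCat.ofHom (algebraMap k₀ k)) := by
    conv_lhs => rw [← hsa, ← Category.assoc, hs's, Category.id_comp]
  let σ : Y ⟶ Y := hπ.lift π (g ≫ s) (by rw [Category.assoc, hsa]; exact hπ.w)
  let σ' : Y ⟶ Y := hπ.lift π (g ≫ s') (by rw [Category.assoc, hs'a]; exact hπ.w)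
  have hσπ : σ ≫ π = π := hπ.lift_fst _ _ _
  have hσg : σ ≫ g = g ≫ s := hπ.lift_snd _ _ _
  have hσ'π : σ' ≫ π = π := hπ.lift_fst _ _ _
  have hσ'g : σ' ≫ g = g ≫ s' := hπ.lift_snd _ _ _
  have hσσ' : σ ≫ σ' = 𝟙 Y := hπ.hom_ext (by rw [Category.assoc, hσ'π, hσπ, Category.id_comp])
    (by rw [Category.assoc, hσ'g, ← Category.assoc, hσg, Category.assoc, hss', Category.comp_id,
      Category.id_comp])
  have hσ'σ : σ' ≫ σ = 𝟙 Y := hπ.hom_ext (by rw [Category.assoc, hσπ, hσ'π, Category.id_comp])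
    (by rw [Category.assoc, hσg, ← Category.assoc, hσ'g, Category.assoc, hs's, Category.comp_id,
      Category.id_comp])
  have hFσ : F ≫ σ = absFrob Y p hp hY e := hπ.hom_ext
    (by rw [Category.assoc, hσπ, hF, hAFπ])
    (by rw [Category.assoc, hσg, ← Category.assoc, hFg, hAFg])
  exact ⟨p, e, hp, hY, σ, σ', hq, inferInstance, hσσ', hσ'σ, hFσ⟩

section powers

variable (Y : Scheme.{u}) (p : ℕ) (hp : p.Prime) (hY : ∀ U : Y.Opens, (p : Γ(Y, U)) = 0)

theorem absFrob_zero : absFrob Y p hp hY 0 = 𝟙 Y := by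
  refine Scheme.Hom.ext rfl ?_
  intro U
  ext s
  change (Y.presheaf.map (eqToHom _).op).hom (((absFrob Y p hp hY 0).app U).hom s) =
    ((𝟙 Y : Y ⟶ Y).app U).hom s
  refine map_eqToHom_apply _ _ _ ?_
  change HEq (s ^ p ^ 0 : Γ(Y, U)) s
  rw [pow_zero, pow_one]

theorem absFrob_comp (e₁ e₂ : ℕ) :
    absFrob Y p hp hY e₁ ≫ absFrob Y p hp hY e₂ = absFrob Y p hp hY (e₁ + e₂) := by
  refine Scheme.Hom.ext rfl ?_
  intro U
  ext s
  change (Y.presheaf.map (eqToHom _).op).hom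
    (((absFrob Y p hp hY e₁).app ((absFrob Y p hp hY e₂) ⁻¹ᵁ U)).hom
      (((absFrob Y p hp hY e₂).app U).hom s)) = ((absFrob Y p hp hY (e₁ + e₂)).app U).hom s
  refine map_eqToHom_apply _ _ _ ?_
  change HEq ((s ^ p ^ e₂) ^ p ^ e₁ : Γ(Y, U)) (s ^ p ^ (e₁ + e₂))
  rw [← pow_mul, ← pow_add, add_comm]

theorem exists_pow_eq (F : Y ⟶ Y) (e : ℕ) (σ' : Y ⟶ Y)
    (hF : F = absFrob Y p hp hY e ≫ σ') (Fp : ℕ → (Y ⟶ Y)) (h0 : Fp 0 = 𝟙 Y)
    (hs : ∀ m, Fp (m + 1) = Fp m ≫ F) (m : ℕ) :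
    ∃ ρ : Y ⟶ Y, Fp m = absFrob Y p hp hY (e * m) ≫ ρ := by
  induction m with
  | zero => exact ⟨𝟙 Y, by rw [h0, Nat.mul_zero, absFrob_zero, Category.comp_id]⟩
  | succ m ih =>
    obtain ⟨ρ, hρ⟩ := ih
    refine ⟨ρ ≫ σ', ?_⟩
    rw [hs, hρ, hF, Category.assoc, ← Category.assoc ρ, ← absFrob_naturality ρ p hp hY hY e,
      Category.assoc, ← Category.assoc, absFrob_comp, Nat.mul_succ]

end powers

end Groth.Agent.Lib.helper27.Frob9
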