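import Mathlib
import Groth.Prelude.Def_WeilCoh
import Groth.Agent.Lib.Helper27.Frob9
import Groth.Agent.Lib.Helper27.Fix2
import Groth.Agent.Lib.Helper27.WC2

/-!
# Helper library (helper27): an endomorphism of the form (absolute Frobenius) ≫ ρ satisfies the
hypotheses of the fixed point computation of `Fix2`.
-/

set_option autoImplicit false
set_option linter.style.haveILetI false
set_option linter.unusedSectionVars false
universe u v
open AlgebraicGeometry CategoryTheory Opposite TopologicalSpace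

namespace Groth.Agent.Lib.helper27.Fix3

open Groth.Agent.Lib.helper27 Groth.Agent.Lib.helper27.Frob1 Groth.Agent.Lib.helper27.Frob2
  Groth.Agent.Lib.helper27.Frob3

section general

variable (Y : Scheme.{u}) (p : ℕ) (hp : p.Prime) (hY : ∀ U : Y.Opens, (p : Γ(Y, U)) = 0)
  (e' : ℕ) (ρ ψ : Y ⟶ Y) (hψ : ψ = absFrob Y p hp hY e' ≫ ρ)

include hψ in
theorem stalkMap_eq_pow (w : Y) (t : Y.presheaf.stalk (ψ w)) :
    ∃ a : Y.presheaf.stalk w,
      (t ∈ IsLocalRing.maximalIdeal (Y.presheaf.stalk (ψ w)) →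
        a ∈ IsLocalRing.maximalIdeal (Y.presheaf.stalk w)) ∧
      (ψ.stalkMap w).hom t = a ^ (p ^ e') := by
  subst hψ
  refine ⟨(ρ.stalkMap ((absFrob Y p hp hY e') w)).hom t, ?_, ?_⟩
  · intro ht
    exact map_nonunit (ρ.stalkMap ((absFrob Y p hp hY e') w)).hom t ht
  · have h2 : ((absFrob Y p hp hY e' ≫ ρ).stalkMap w).hom t =
        ((absFrob Y p hp hY e').stalkMap w).hom
          ((ρ.stalkMap ((absFrob Y p hp hY e') w)).hom t) := by
      rw [Scheme.Hom.stalkMap_comp]
      rfl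
    rw [h2]
    exact absFrob_stalkMap Y p hp hY e' w _

include hψ in
theorem Hm_of_frob (he' : 1 ≤ e') (w : Y)
    (t : Y.presheaf.stalk (ψ w)) (ht : t ∈ IsLocalRing.maximalIdeal (Y.presheaf.stalk (ψ w))) :
    (ψ.stalkMap w).hom t ∈ (IsLocalRing.maximalIdeal (Y.presheaf.stalk w)) ^ 2 := by
  obtain ⟨a, ha, hat⟩ := stalkMap_eq_pow Y p hp hY e' ρ ψ hψ w t
  rw [hat]
  have hN : 2 ≤ p ^ e' := by
    calc 2 ≤ p := hp.two_le
      _ = p ^ 1 := (pow_one p).symm
      _ ≤ p ^ e' := Nat.pow_le_pow_right hp.pos he'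
  obtain ⟨r, hr⟩ := Nat.exists_eq_add_of_le hN
  rw [hr, pow_add]
  exact Ideal.mul_mem_right _ _ (Ideal.pow_mem_pow (ha ht) 2)

include hψ in
/-- if `ψ^*` is the identity on the residue field at a fixed point `w`, every element of `κ(w)` is a
`p ^ e'`-th power. -/
theorem exists_pow_eq_of_residue_eq (w : Y)
    (hE : ∀ (U : Y.Opens) (hwU : w ∈ U) (hψw : ψ w ∈ U) (s : Γ(Y, U)),
      (Y.residue w).hom (Y.presheaf.germ U w hwU s) =
        (Y.residue w).hom ((ψ.stalkMap w).hom (Y.presheaf.germ U (ψ w) hψw s)))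
    (hfix : ψ w = w) (z : Y.residueField w) : ∃ y : Y.residueField w, y ^ (p ^ e') = z := by
  obtain ⟨a, rfl⟩ := Y.residue_surjective w z
  obtain ⟨U, hwU, s, rfl⟩ := Y.presheaf.exists_germ_eq a
  have hψw : ψ w ∈ U := by rw [hfix]; exact hwU
  obtain ⟨b, -, hb⟩ := stalkMap_eq_pow Y p hp hY e' ρ ψ hψ w (Y.presheaf.germ U (ψ w) hψw s)
  refine ⟨(Y.residue w).hom b, ?_⟩
  rw [← map_pow, ← hb]
  exact (hE U hwU hψw s).symm

end general

section var

variable {k : Type u} [Field k] [PerfectField k] (X : WeilCoh.Var k) (p : ℕ) (hp : p.Prime)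
  [CharP k p]
  (hY : ∀ U : X.obj.left.Opens, (p : Γ(X.obj.left, U)) = 0)
  (e' : ℕ) (ρ ψ : X.obj.left ⟶ X.obj.left) (hψ : ψ = absFrob X.obj.left p hp hY e' ≫ ρ)

include hψ in
theorem pdim_zero_of_frob (he' : 1 ≤ e') (w : X.obj.left) (hfix : ψ w = w)
    (hE : ∀ (U : X.obj.left.Opens) (hwU : w ∈ U) (hψw : ψ w ∈ U) (s : Γ(X.obj.left, U)),
      (X.obj.left.residue w).hom (X.obj.left.presheaf.germ U w hwU s) =
        (X.obj.left.residue w).hom
          ((ψ.stalkMap w).hom (X.obj.left.presheaf.germ U (ψ w) hψw s))) :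
    WeilCoh.pdim X.obj.left w = 0 := by
  obtain ⟨n, hn⟩ := WC2.exists_td X w
  rw [WC2.pdim_eq X w n hn]
  haveI := Fact.mk hp
  haveI : ExpChar k p := ExpChar.prime hp
  letI : X.obj.left.Over (Spec (CommRingCat.of k)) := ⟨X.obj.hom⟩
  haveI : LocallyOfFiniteType (X.obj.left ↘ Spec (CommRingCat.of k)) := WC2.lft X
  letI : Algebra k (X.obj.left.residueField w) := Curv2.resAlgebra k X.obj.left w
  haveI : ExpChar (X.obj.left.residueField w) p :=
    expChar_of_injective_algebraMap (algebraMap k (X.obj.left.residueField w)).injective p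
  haveI : Algebra.EssFiniteType k (X.obj.left.residueField w) :=
    essFiniteType_resMap k X.obj.left w
  haveI : PerfectRing k p := inferInstance
  have h1 : fd p (X.obj.left.residueField w) = p ^ n :=
    fd_of_essFiniteType p hp.pos k _ n hn
  have hsurj : Function.Surjective (iterateFrobenius (X.obj.left.residueField w) p e') := by
    intro z
    obtain ⟨y, hy⟩ := exists_pow_eq_of_residue_eq X.obj.left p hp hY e' ρ ψ hψ w hE hfix z
    exact ⟨y, by rw [iterateFrobenius_def]; exact hy⟩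
  have h2 : rdeg (iterateFrobenius (X.obj.left.residueField w) p e') = 1 :=
    rdeg_of_bijective _ ⟨RingHom.injective _, hsurj⟩
  rw [rdeg_iterateFrobenius, h1, ← pow_mul] at h2
  have h3 : n * e' = 0 := by
    by_contra hne
    have : 1 < p ^ (n * e') := Nat.one_lt_pow hne hp.one_lt
    omega
  rcases Nat.mul_eq_zero.mp h3 with h | h
  · exact h
  · omega

end var

end Groth.Agent.Lib.helper27.Fix3
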