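import Mathlib
import Groth.Prelude.Def_WeilCoh
import Groth.Prelude.Def_ChowOps
import Groth.Agent.Lib.Helper27.WC4

/-!
# Weil cohomology, formal consequences V: zero-cycles, degree and trace (helper27)
-/

set_option autoImplicit false
set_option linter.style.haveILetI false
set_option linter.unusedSectionVars false
universe u v w
open CategoryTheory CategoryTheory.Limits AlgebraicGeometry
open WeilCoh

namespace Groth.Agent.Lib.helper27.WC5

open Groth.Agent.Lib.helper27.WC1 Groth.Agent.Lib.helper27.WC2 Groth.Agent.Lib.helper27.WC3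
  Groth.Agent.Lib.helper27.WC4

section delta

variable {k : Type u} [Field k]

open Groth.Agent.Lib.helper3.DimIneq in
/-- for a weight function induced from weight 0 on `Spec k`, the weight of a point is the
dimension of its closure -/
theorem delta_eq_pdim (X : WeilCoh.Var k) (δ : ↥X.obj.left → ℤ)
    (hδ : Cyc.DeltaCompat X.obj.hom δ (fun _ => 0)) (ξ : X.obj.left) :
    δ ξ = WeilCoh.pdim X.obj.left ξ := by
  obtain ⟨n, hn, hδn⟩ := hδ ξ
  have h1 : td (X.obj.hom.residueFieldMap ξ).hom = n := hn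
  have h2 := Groth.Agent.Lib.helper3.FTField.resMap_comp k (𝟙 (Spec (CommRingCat.of k)))
    X.obj.hom X.obj.hom (Category.comp_id _) ξ
  have h3 : WC2.td X.obj ξ = td (@Curv2.resMap k _ X.obj.left ⟨X.obj.hom⟩ ξ) := rfl
  have h4 : WC2.td X.obj ξ = n := by
    rw [h3, h2, Groth.Agent.Lib.helper3.FibreField.td_comp_left _ _
      (Groth.Agent.Lib.helper3.FibreField.resMap_Spec_surjective k _), h1]
  rw [pdim_eq X ξ n h4, hδn]
  simp

end delta

variable {k : Type u} [Field k] [IsAlgClosed k] {K : Type v} [Field K] [CharZero K]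
variable (T : WeilCoh.Theory k K)

/-- `Tr_X(cl(x))` is the residue degree over `k` when the closure of `x` has dimension 0. -/
theorem tr_cl_of_pdim_zero (X : WeilCoh.Var k) (x : X.obj.left)
    (hx : WeilCoh.pdim X.obj.left x = 0) :
    T.tr X (T.cl X x) = (X.obj.hom.residueDegree x : K) := by
  have h1 : (1 : T.H (pt k)) ∈ T.gr (pt k) (2 * (WeilCoh.pdim X.obj.left x : ℤ)) := by
    rw [hx]
    exact SetLike.one_mem_graded (T.gr (pt k))
  have h2 := T.cl_push (toPt k X) x 1 h1
  rw [map_one, mul_one, mul_one, cl_pt, tr_pt_one, mul_one] at h2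
  exact h2

theorem finite_support (X : WeilCoh.Var k) (α : AlgebraicCycle X.obj.left ℤ) :
    (Function.support (α : X.obj.left → ℤ)).Finite := by
  have hP := isProper_hom k X
  haveI : CompactSpace ↥X.obj.left := by
    have : QuasiCompact X.obj.hom := inferInstance
    exact (quasiCompact_iff_compactSpace (f := X.obj.hom)).mp this
  have := α.locallyFiniteSupport.finite_inter_support_of_isCompact isCompact_univ
  rwa [Set.univ_inter] at this

theorem clCyc_eq_sum (X : WeilCoh.Var k) (α : AlgebraicCycle X.obj.left ℤ) :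
    T.clCyc X α = ∑ ξ ∈ (finite_support X α).toFinset, ((α ξ : ℤ) : K) • T.cl X ξ := by
  unfold WeilCoh.TheoryOn.clCyc
  apply finsum_eq_sum_of_support_subset
  intro ξ hξ
  rw [Function.mem_support] at hξ
  rw [Finset.mem_coe, Set.Finite.mem_toFinset, Function.mem_support]
  intro h0
  apply hξ
  rw [h0]; simp

theorem deg_eq_sum (X : WeilCoh.Var k) [QuasiCompact X.obj.hom] (δ : ↥X.obj.left → ℤ)
    (α : AlgebraicCycle X.obj.left ℤ) :
    ChowOps.deg X.obj.hom δ α = ∑ ξ ∈ (finite_support X α).toFinset,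
      α ξ * ((AlgebraicCycle.mapCoeff X.obj.hom δ (fun _ => (0 : ℤ)) ξ : ℕ) : ℤ) := by
  unfold ChowOps.deg AlgebraicCycle.map
  rw [Function.locallyFinsupp.map_apply]
  have key : ∀ (S : Set X.obj.left) (f : X.obj.left → ℤ), (∀ x, x ∈ S) →
      ∑ᶠ x ∈ S, f x = ∑ᶠ x, f x := by
    intro S f hS
    have : S = Set.univ := Set.eq_univ_of_forall hS
    subst this
    exact finsum_mem_univ f
  haveI : Subsingleton ↥(Spec (CommRingCat.of k)) := inferInstance
  refine (key _ _ (fun x => Subsingleton.elim (α := ↥(Spec (CommRingCat.of k))) _ _)).trans ?_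
  apply finsum_eq_sum_of_support_subset
  intro ξ hξ
  rw [Function.mem_support] at hξ
  rw [Finset.mem_coe, Set.Finite.mem_toFinset, Function.mem_support]
  intro h0
  apply hξ
  rw [h0]; simp

/-- degree of a zero-cycle = trace of its class -/
theorem deg_eq_tr_clCyc (X : WeilCoh.Var k) [QuasiCompact X.obj.hom] (δ : ↥X.obj.left → ℤ)
    (hδ : Cyc.DeltaCompat X.obj.hom δ (fun _ => 0)) (α : AlgebraicCycle X.obj.left ℤ)
    (hα : α ∈ Cyc.Zk X.obj.left δ 0) :
    (ChowOps.deg X.obj.hom δ α : K) = T.tr X (T.clCyc X α) := by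
  rw [deg_eq_sum, clCyc_eq_sum, map_sum]
  push_cast
  refine Finset.sum_congr rfl fun ξ hξ => ?_
  rw [Set.Finite.mem_toFinset, Function.mem_support] at hξ
  have hδξ : δ ξ = 0 := by
    by_contra h
    exact hξ (hα ξ h)
  have hp : WeilCoh.pdim X.obj.left ξ = 0 := by
    have := delta_eq_pdim X δ hδ ξ
    rw [hδξ] at this
    exact_mod_cast this.symm
  rw [map_smul, tr_cl_of_pdim_zero T X ξ hp, smul_eq_mul]
  congr 1
  unfold AlgebraicCycle.mapCoeff
  rw [if_pos hδξ]

/-- the class of a zero-cycle lies in top degree -/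
theorem clCyc_mem_top (X : WeilCoh.Var k) (δ : ↥X.obj.left → ℤ)
    (hδ : Cyc.DeltaCompat X.obj.hom δ (fun _ => 0)) (α : AlgebraicCycle X.obj.left ℤ)
    (hα : α ∈ Cyc.Zk X.obj.left δ 0) :
    T.clCyc X α ∈ T.gr X (2 * (WeilCoh.dim X.obj.left : ℤ)) := by
  rw [clCyc_eq_sum]
  refine Submodule.sum_mem _ fun ξ hξ => Submodule.smul_mem _ _ ?_
  rw [Set.Finite.mem_toFinset, Function.mem_support] at hξ
  have hδξ : δ ξ = 0 := by
    by_contra h
    exact hξ (hα ξ h)
  have hp : WeilCoh.pdim X.obj.left ξ = 0 := by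
    have := delta_eq_pdim X δ hδ ξ
    rw [hδξ] at this
    exact_mod_cast this.symm
  have hc : WeilCoh.codim X.obj.left ξ = WeilCoh.dim X.obj.left := by
    unfold WeilCoh.codim; rw [hp]; simp
  have := T.cl_mem X ξ
  rwa [hc] at this

/-- a zero-cycle is homologically trivial iff its degree vanishes -/
theorem isHomEquivZero_iff (X : WeilCoh.Var k) [QuasiCompact X.obj.hom] (δ : ↥X.obj.left → ℤ)
    (hδ : Cyc.DeltaCompat X.obj.hom δ (fun _ => 0)) (α : AlgebraicCycle X.obj.left ℤ)
    (hα : α ∈ Cyc.Zk X.obj.left δ 0) :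
    T.IsHomEquivZero X α ↔ ChowOps.deg X.obj.hom δ α = 0 := by
  unfold WeilCoh.TheoryOn.IsHomEquivZero
  have h1 := deg_eq_tr_clCyc T X δ hδ α hα
  have h2 := clCyc_mem_top T X δ hδ α hα
  constructor
  · intro h0
    rw [h0, map_zero] at h1
    exact_mod_cast h1
  · intro h0
    rw [h0] at h1
    have h3 : (T.tr X).domRestrict (T.gr X (2 * (WeilCoh.dim X.obj.left : ℤ)))
        ⟨T.clCyc X α, h2⟩ = (T.tr X).domRestrict (T.gr X (2 * (WeilCoh.dim X.obj.left : ℤ))) 0 := by
      rw [map_zero]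
      show T.tr X (T.clCyc X α) = 0
      rw [← h1]; simp
    have h4 := (T.tr_bijective X).1 h3
    exact congrArg Subtype.val h4

end Groth.Agent.Lib.helper27.WC5
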