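import Mathlib
import Groth.Prelude.Def_WeilCoh
import Groth.Agent.Lib.Helper27.WC6
import Groth.Agent.Lib.Helper27.WC5

/-!
# Weil cohomology, formal consequences VII: push-forward of cycle classes (helper27)
-/

set_option autoImplicit false
set_option linter.style.haveILetI false
set_option linter.unusedSectionVars false
universe u v w
open CategoryTheory CategoryTheory.Limits AlgebraicGeometry
open WeilCoh

namespace Groth.Agent.Lib.helper27.WC7

open Groth.Agent.Lib.helper27.WC1 Groth.Agent.Lib.helper27.WC2 Groth.Agent.Lib.helper27.WC3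
  Groth.Agent.Lib.helper27.WC4 Groth.Agent.Lib.helper27.WC5 Groth.Agent.Lib.helper27.WC6
  Groth.Agent.Lib.helper17.WeilCohPush

section dim

variable {k : Type u} [Field k]

open Groth.Agent.Lib.helper3.DimIneq in
/-- a finite residue field extension preserves the dimension of the closure -/
theorem pdim_eq_of_residueDegree_ne_zero {X Y : WeilCoh.Var k} (f : X ⟶ Y) (ξ : X.obj.left)
    (h : (WeilCoh.sm f).residueDegree ξ ≠ 0) :
    WeilCoh.pdim Y.obj.left (WeilCoh.sm f ξ) = WeilCoh.pdim X.obj.left ξ := by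
  obtain ⟨n, hn⟩ := exists_td X ξ
  have hfin : @Module.Finite (Y.obj.left.residueField (WeilCoh.sm f ξ)) (X.obj.left.residueField ξ)
      _ _ ((WeilCoh.sm f).residueFieldMap ξ).hom.toAlgebra.toModule := by
    letI := ((WeilCoh.sm f).residueFieldMap ξ).hom.toAlgebra
    exact Module.finite_of_finrank_pos (Nat.pos_of_ne_zero h)
  have halg : @Algebra.IsAlgebraic (Y.obj.left.residueField (WeilCoh.sm f ξ))
      (X.obj.left.residueField ξ) _ _ ((WeilCoh.sm f).residueFieldMap ξ).hom.toAlgebra := by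
    letI := ((WeilCoh.sm f).residueFieldMap ξ).hom.toAlgebra
    exact Algebra.IsAlgebraic.of_finite _ _
  have hcomp := Groth.Agent.Lib.helper3.FTField.resMap_comp k Y.obj.hom X.obj.hom (WeilCoh.sm f)
    (Over.w f.hom) ξ
  have h1 : td (@Curv2.resMap k _ Y.obj.left ⟨Y.obj.hom⟩ (WeilCoh.sm f ξ)) =
      td (@Curv2.resMap k _ X.obj.left ⟨X.obj.hom⟩ ξ) :=
    td_eq_of_square _ ((WeilCoh.sm f).residueFieldMap ξ).hom (RingHom.id k) _
      (by rw [hcomp]; rfl) (RingHom.injective _) (RingHom.injective _) Function.injective_id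
      (RingHom.injective _) halg (isAlgebraic_of_surjective _ Function.surjective_id)
  have h2 : WC2.td Y.obj (WeilCoh.sm f ξ) = n := by
    show td (@Curv2.resMap k _ Y.obj.left ⟨Y.obj.hom⟩ (WeilCoh.sm f ξ)) = n
    rw [h1]; exact hn
  rw [pdim_eq X ξ n hn, pdim_eq Y _ n h2]

end dim

variable {k : Type u} [Field k] [IsAlgClosed k] {K : Type v} [Field K] [CharZero K]
variable (T : WeilCoh.Theory k K)

/-- `f_*(cl(Z)) = deg(Z/f(Z)) · cl(f(Z))` -/
theorem push_cl (X Y : WeilCoh.Var k) (f : X ⟶ Y) (ξ : ↥X.obj.left) :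
    (T.push f (2 * (WeilCoh.codim X.obj.left ξ : ℤ)) ⟨T.cl X ξ, T.cl_mem X ξ⟩ : T.H Y) =
      ((WeilCoh.sm f).residueDegree ξ : K) • T.cl Y (WeilCoh.sm f ξ) := by
  have hcX := codim_add_pdim X ξ
  have hcY := codim_add_pdim Y (WeilCoh.sm f ξ)
  set m : ℤ := 2 * (WeilCoh.codim X.obj.left ξ : ℤ) with hm
  have hb2 : 2 * (WeilCoh.dim X.obj.left : ℤ) - m = 2 * (WeilCoh.pdim X.obj.left ξ : ℤ) := by
    rw [hm]; linarith
  by_cases hdeg : (WeilCoh.sm f).residueDegree ξ = 0
  · rw [hdeg, Nat.cast_zero, zero_smul]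
    refine eq_of_forall_tr_mul_eq T
      (m + 2 * (WeilCoh.dim Y.obj.left : ℤ) - 2 * (WeilCoh.dim X.obj.left : ℤ))
      (2 * (WeilCoh.dim X.obj.left : ℤ) - m) (by ring) _ _ (T.push f m _).2
      (Submodule.zero_mem _) ?_
    intro b hb
    rw [tr_push_mul T f m _ b hb, zero_mul, map_zero]
    show T.tr X (T.cl X ξ * T.pull f b) = 0
    rw [hb2] at hb
    rw [T.cl_push f ξ b hb, hdeg, Nat.cast_zero, zero_mul]
  · have hp := pdim_eq_of_residueDegree_ne_zero f ξ hdeg
    refine eq_of_forall_tr_mul_eq T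
      (m + 2 * (WeilCoh.dim Y.obj.left : ℤ) - 2 * (WeilCoh.dim X.obj.left : ℤ))
      (2 * (WeilCoh.dim X.obj.left : ℤ) - m) (by ring) _ _ (T.push f m _).2 ?_ ?_
    · refine Submodule.smul_mem _ _ ?_
      have := T.cl_mem Y (WeilCoh.sm f ξ)
      convert this using 2
      rw [hm]; rw [hp] at hcY; linarith
    · intro b hb
      rw [tr_push_mul T f m _ b hb]
      show T.tr X (T.cl X ξ * T.pull f b) = _
      rw [hb2] at hb
      rw [T.cl_push f ξ b hb, smul_mul_assoc, map_smul, smul_eq_mul]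

/-- the pointwise identity behind the compatibility of the cycle class with push-forward -/
theorem mapCoeff_tr (X Y : WeilCoh.Var k) (f : X ⟶ Y)
    (δX : ↥X.obj.left → ℤ) (hδX : Cyc.DeltaCompat X.obj.hom δX (fun _ => 0))
    (δY : ↥Y.obj.left → ℤ) (hδY : Cyc.DeltaCompat Y.obj.hom δY (fun _ => 0))
    (ξ : X.obj.left) (j : ℤ) (b : T.H Y) (hb : b ∈ T.gr Y j) :
    ((AlgebraicCycle.mapCoeff (WeilCoh.sm f) δX δY ξ : ℕ) : K) *
        T.tr Y (T.cl Y (WeilCoh.sm f ξ) * b) = T.tr X (T.cl X ξ * T.pull f b) := by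
  have hcX := codim_add_pdim X ξ
  have hcY := codim_add_pdim Y (WeilCoh.sm f ξ)
  have hdX := delta_eq_pdim X δX hδX ξ
  have hdY := delta_eq_pdim Y δY hδY (WeilCoh.sm f ξ)
  unfold AlgebraicCycle.mapCoeff
  by_cases hj : j = 2 * (WeilCoh.pdim X.obj.left ξ : ℤ)
  · subst hj
    rw [T.cl_push f ξ b hb]
    split_ifs with hw
    · rfl
    · have hne : WeilCoh.pdim Y.obj.left (WeilCoh.sm f ξ) ≠ WeilCoh.pdim X.obj.left ξ := by
        intro h
        apply hw
        show δX ξ = δY ((WeilCoh.sm f) ξ)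
        rw [hdX, hdY, h]
      have h0 : (WeilCoh.sm f).residueDegree ξ = 0 := by
        by_contra h
        exact hne (pdim_eq_of_residueDegree_ne_zero f ξ h)
      rw [h0]
  · have hR : T.tr X (T.cl X ξ * T.pull f b) = 0 := by
      refine T.tr_vanish X _ _ (SetLike.mul_mem_graded (T.cl_mem X ξ) (T.pull_mem f j b hb)) ?_
      intro h
      apply hj
      linarith
    rw [hR]
    split_ifs with hw
    · have hpe : WeilCoh.pdim Y.obj.left (WeilCoh.sm f ξ) = WeilCoh.pdim X.obj.left ξ := by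
        have hw' : δX ξ = δY ((WeilCoh.sm f) ξ) := hw
        rw [hdX, hdY] at hw'
        exact_mod_cast hw'.symm
      have hL : T.tr Y (T.cl Y (WeilCoh.sm f ξ) * b) = 0 := by
        refine T.tr_vanish Y _ _ (SetLike.mul_mem_graded (T.cl_mem Y _) hb) ?_
        intro h
        apply hj
        rw [hpe] at hcY
        linarith
      rw [hL, mul_zero]
    · simp

end Groth.Agent.Lib.helper27.WC7
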