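import Mathlib
import Groth.Prelude.Def_WeilCoh
import Groth.Agent.Lib.Helper27.WC7

/-!
# Weil cohomology, formal consequences VIII: the cycle class map commutes with push-forward
(helper27)
-/

set_option autoImplicit false
set_option linter.style.haveILetI false
set_option linter.unusedSectionVars false
universe u v w
open CategoryTheory CategoryTheory.Limits AlgebraicGeometry
open WeilCoh

namespace Groth.Agent.Lib.helper27.WC8

open Groth.Agent.Lib.helper27.WC1 Groth.Agent.Lib.helper27.WC2 Groth.Agent.Lib.helper27.WC3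
  Groth.Agent.Lib.helper27.WC4 Groth.Agent.Lib.helper27.WC5 Groth.Agent.Lib.helper27.WC6
  Groth.Agent.Lib.helper27.WC7

variable {k : Type u} [Field k] [IsAlgClosed k] {K : Type v} [Field K] [CharZero K]
variable (T : WeilCoh.Theory k K)

theorem clCyc_eq_sum_of_subset (X : WeilCoh.Var k) (α : AlgebraicCycle X.obj.left ℤ)
    (t : Finset X.obj.left) (ht : Function.support (α : X.obj.left → ℤ) ⊆ ↑t) :
    T.clCyc X α = ∑ ξ ∈ t, ((α ξ : ℤ) : K) • T.cl X ξ := by
  unfold WeilCoh.TheoryOn.clCyc
  apply finsum_eq_sum_of_support_subset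
  intro ξ hξ
  rw [Function.mem_support] at hξ
  apply ht
  rw [Function.mem_support]
  intro h0
  apply hξ
  rw [h0]; simp

/-- every class is a sum of homogeneous ones: induction principle -/
theorem hom_induction (X : WeilCoh.Var k) (motive : T.H X → Prop)
    (hmem : ∀ (j : ℤ) (b : T.H X), b ∈ T.gr X j → motive b) (h0 : motive 0)
    (hadd : ∀ a b, motive a → motive b → motive (a + b)) (b : T.H X) : motive b := by
  have htop : (⨆ j, T.gr X j) = ⊤ := (T.decomp X).submodule_iSup_eq_top
  have hb : b ∈ ⨆ j, T.gr X j := by rw [htop]; trivial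
  exact Submodule.iSup_induction (T.gr X) (motive := motive) hb hmem h0 hadd

theorem tr_clCyc_map (X Y : WeilCoh.Var k) (f : X ⟶ Y)
    [QuasiCompact (WeilCoh.sm f)]
    (δX : ↥X.obj.left → ℤ) (hδX : Cyc.DeltaCompat X.obj.hom δX (fun _ => 0))
    (δY : ↥Y.obj.left → ℤ) (hδY : Cyc.DeltaCompat Y.obj.hom δY (fun _ => 0))
    (α : AlgebraicCycle X.obj.left ℤ) (b : T.H Y) :
    T.tr Y (T.clCyc Y (AlgebraicCycle.map (WeilCoh.sm f) δX δY α) * b) =
      T.tr X (T.clCyc X α * T.pull f b) := by
  classical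
  induction b using hom_induction T Y with
  | h0 => simp
  | hadd a b ha hb => rw [mul_add, map_add, map_add, mul_add, map_add, ha, hb]
  | hmem j b hb =>
    set s := (finite_support X α).toFinset with hs
    set β := AlgebraicCycle.map (WeilCoh.sm f) δX δY α with hβ
    have hβy : ∀ y : Y.obj.left, β y =
        ∑ ξ ∈ s.filter (fun ξ => WeilCoh.sm f ξ = y),
          α ξ * ((AlgebraicCycle.mapCoeff (WeilCoh.sm f) δX δY ξ : ℕ) : ℤ) := by
      intro y
      rw [hβ]
      unfold AlgebraicCycle.map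
      rw [Function.locallyFinsupp.map_apply]
      apply finsum_mem_eq_sum_of_inter_support_eq
      ext ξ
      simp only [Set.mem_inter_iff, Set.mem_preimage, Set.mem_singleton_iff, Function.mem_support,
        Finset.coe_filter, Set.mem_ofPred_eq, hs, Set.Finite.mem_toFinset]
      constructor
      · rintro ⟨h1, h2⟩
        refine ⟨⟨?_, h1⟩, h2⟩
        intro h0
        apply h2
        rw [h0, zero_mul]
      · rintro ⟨⟨_, h1⟩, h2⟩
        exact ⟨h1, h2⟩
    have hsuppβ : Function.support (β : Y.obj.left → ℤ) ⊆ ↑(s.image (WeilCoh.sm f)) := by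
      intro y hy
      rw [Function.mem_support, hβy y] at hy
      obtain ⟨ξ, hξ, -⟩ := Finset.exists_ne_zero_of_sum_ne_zero hy
      rw [Finset.mem_filter] at hξ
      rw [Finset.mem_coe, Finset.mem_image]
      exact ⟨ξ, hξ.1, hξ.2⟩
    rw [clCyc_eq_sum_of_subset T Y β _ hsuppβ, clCyc_eq_sum T X α, Finset.sum_mul, map_sum,
      Finset.sum_mul, map_sum]
    have hL : ∀ y ∈ s.image (WeilCoh.sm f),
        T.tr Y (((β y : ℤ) : K) • T.cl Y y * b) =
          ∑ ξ ∈ s.filter (fun ξ => WeilCoh.sm f ξ = y),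
            ((α ξ : ℤ) : K) * T.tr X (T.cl X ξ * T.pull f b) := by
      intro y _
      rw [smul_mul_assoc, map_smul, smul_eq_mul, hβy y]
      push_cast
      rw [Finset.sum_mul]
      refine Finset.sum_congr rfl fun ξ hξ => ?_
      rw [Finset.mem_filter] at hξ
      rw [mul_assoc, ← hξ.2, mapCoeff_tr T X Y f δX hδX δY hδY ξ j b hb]
    rw [Finset.sum_congr rfl hL]
    refine (Finset.sum_fiberwise_of_maps_to (s := s) (t := s.image (WeilCoh.sm f))
      (g := fun ξ => WeilCoh.sm f ξ) (fun ξ hξ => Finset.mem_image_of_mem _ hξ) _).trans ?_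
    refine Finset.sum_congr rfl fun ξ _ => ?_
    rw [smul_mul_assoc, map_smul, smul_eq_mul]

end Groth.Agent.Lib.helper27.WC8
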