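import Mathlib
import Groth.Prelude.Def_WeilCoh
import Groth.Agent.Lib.Helper27.WC8

/-!
# Weil cohomology, formal consequences IX: Künneth tools, the trace on a product, the class of a
graph in a Künneth basis (helper27)
-/

set_option autoImplicit false
set_option linter.style.haveILetI false
set_option linter.unusedSectionVars false
universe u v w
open CategoryTheory CategoryTheory.Limits AlgebraicGeometry
open WeilCoh

namespace Groth.Agent.Lib.helper27.WC9

open Groth.Agent.Lib.helper27.WC1 Groth.Agent.Lib.helper27.WC2 Groth.Agent.Lib.helper27.WC3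
  Groth.Agent.Lib.helper27.WC4 Groth.Agent.Lib.helper27.WC6 Groth.Agent.Lib.helper17.WeilCohPush

section general

variable {k : Type u} [Field k] {P : ObjectProperty (Over (Spec (CommRingCat.of k)))}
variable {K : Type v} [Field K] (T : WeilCoh.TheoryOn.{u, v, w} k P K)

/-- every class is a sum of homogeneous ones: induction principle -/
theorem hom_induction (X : P.FullSubcategory) (motive : T.H X → Prop)
    (hmem : ∀ (j : ℤ) (b : T.H X), b ∈ T.gr X j → motive b)
    (hadd : ∀ a b, motive a → motive b → motive (a + b)) (b : T.H X) : motive b := by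
  have htop : (⨆ j, T.gr X j) = ⊤ := (T.decomp X).submodule_iSup_eq_top
  have hb : b ∈ ⨆ j, T.gr X j := by rw [htop]; trivial
  exact Submodule.iSup_induction (T.gr X) (motive := motive) hb hmem
    (hmem 0 0 (Submodule.zero_mem _)) hadd

theorem kunnethMap_tmul {X Y Q : P.FullSubcategory} (p : Q ⟶ X) (q : Q ⟶ Y) (a : T.H X)
    (b : T.H Y) : kunnethMap K (T.pull p) (T.pull q) (a ⊗ₜ[K] b) = T.pull p a * T.pull q b := by
  unfold WeilCoh.kunnethMap
  rw [TensorProduct.lift.tmul]
  rfl

/-- every class on a product is a sum of products of pulled back homogeneous classes -/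
theorem kunneth_induction {X Y Q : P.FullSubcategory} (p : Q ⟶ X) (q : Q ⟶ Y)
    (hQ : WeilCoh.IsProd p q) (motive : T.H Q → Prop)
    (hpure : ∀ (s t : ℤ) (a : T.H X) (b : T.H Y), a ∈ T.gr X s → b ∈ T.gr Y t →
      motive (T.pull p a * T.pull q b))
    (hadd : ∀ a b, motive a → motive b → motive (a + b)) (w : T.H Q) : motive w := by
  have h0 : motive 0 := by
    have := hpure 0 0 0 0 (Submodule.zero_mem _) (Submodule.zero_mem _)
    simpa using this
  have hpure' : ∀ (a : T.H X) (b : T.H Y), motive (T.pull p a * T.pull q b) := by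
    intro a
    induction a using hom_induction T X with
    | hmem s a ha =>
      intro b
      induction b using hom_induction T Y with
      | hmem t b hb => exact hpure s t a b ha hb
      | hadd b₁ b₂ h₁ h₂ => rw [map_add, mul_add]; exact hadd _ _ h₁ h₂
    | hadd a₁ a₂ h₁ h₂ =>
      intro b
      rw [map_add, add_mul]; exact hadd _ _ (h₁ b) (h₂ b)
  obtain ⟨t, rfl⟩ := (T.kunneth p q hQ).2 w
  induction t using TensorProduct.induction_on with
  | zero => rw [map_zero]; exact h0
  | tmul a b => rw [kunnethMap_tmul]; exact hpure' a b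
  | add x y hx hy => rw [map_add]; exact hadd _ _ hx hy

/-- a homogeneous class of degree above the top degree, or of negative degree, vanishes -/
theorem eq_zero_of_mem_of_lt {X : P.FullSubcategory} (i : ℤ) (a : T.H X) (ha : a ∈ T.gr X i)
    (hi : i < 0 ∨ 2 * (WeilCoh.dim X.obj.left : ℤ) < i) : a = 0 := by
  have := T.vanish X i hi
  rw [this] at ha
  exact (Submodule.mem_bot K).mp ha

/-- the trace of a product of pulled back classes on a product is the product of the traces -/
theorem tr_prod_hom {X Y Q : P.FullSubcategory} (p : Q ⟶ X) (q : Q ⟶ Y)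
    (hQ : WeilCoh.IsProd p q) (s t : ℤ) (a : T.H X) (b : T.H Y) (ha : a ∈ T.gr X s)
    (hb : b ∈ T.gr Y t) : T.tr Q (T.pull p a * T.pull q b) = T.tr X a * T.tr Y b := by
  have hdim := dim_prod T p q hQ
  by_cases hs : s = 2 * (WeilCoh.dim X.obj.left : ℤ)
  · by_cases ht : t = 2 * (WeilCoh.dim Y.obj.left : ℤ)
    · subst hs ht
      exact T.tr_prod p q hQ a b ha hb
    · rw [T.tr_vanish Y t b hb ht, mul_zero]
      refine T.tr_vanish Q _ _ (SetLike.mul_mem_graded (T.pull_mem p s a ha)
        (T.pull_mem q t b hb)) ?_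
      rw [hdim, hs]; push_cast; intro h; apply ht; linarith
  · rw [T.tr_vanish X s a ha hs, zero_mul]
    by_cases hst : s + t = 2 * (WeilCoh.dim Q.obj.left : ℤ)
    · rcases lt_or_gt_of_ne hs with h | h
      · have : b = 0 := eq_zero_of_mem_of_lt T t b hb (Or.inr (by
          rw [hdim] at hst; push_cast at hst; linarith))
        rw [this, map_zero, mul_zero, map_zero]
      · have : a = 0 := eq_zero_of_mem_of_lt T s a ha (Or.inr h)
        rw [this, map_zero, zero_mul, map_zero]
    · exact T.tr_vanish Q _ _ (SetLike.mul_mem_graded (T.pull_mem p s a ha)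
        (T.pull_mem q t b hb)) hst

theorem tr_prod_general {X Y Q : P.FullSubcategory} (p : Q ⟶ X) (q : Q ⟶ Y)
    (hQ : WeilCoh.IsProd p q) (a : T.H X) (b : T.H Y) :
    T.tr Q (T.pull p a * T.pull q b) = T.tr X a * T.tr Y b := by
  induction a using hom_induction T X with
  | hmem s a ha =>
    induction b using hom_induction T Y with
    | hmem t b hb => exact tr_prod_hom T p q hQ s t a b ha hb
    | hadd b₁ b₂ h₁ h₂ => rw [map_add, mul_add, map_add, map_add, mul_add, h₁, h₂]
  | hadd a₁ a₂ h₁ h₂ => rw [map_add, add_mul, map_add, map_add, add_mul, h₁, h₂]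

/-- two classes with the same pairing against everything are equal (homogeneous of a common
degree) -/
theorem eq_of_forall_tr_mul_eq' {Y : P.FullSubcategory} (m : ℤ) (y y' : T.H Y)
    (hy : y ∈ T.gr Y m) (hy' : y' ∈ T.gr Y m)
    (h : ∀ b : T.H Y, T.tr Y (y * b) = T.tr Y (y' * b)) : y = y' :=
  eq_of_forall_tr_mul_eq T m (2 * (WeilCoh.dim Y.obj.left : ℤ) - m) (by ring) y y' hy hy'
    (fun b _ => h b)

/-- the sign `(-1)^(|i| |j|)` of graded commutativity depends only on parities -/
theorem sign_eq_one_of_even (i j : ℤ) (h : Even (i * j)) :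
    ((-1 : K) ^ (i.natAbs * j.natAbs)) = 1 := by
  rw [← Int.natAbs_mul]
  exact (Int.natAbs_even.mpr h).neg_one_pow

theorem sign_eq_neg_one_of_odd (i j : ℤ) (h : Odd (i * j)) :
    ((-1 : K) ^ (i.natAbs * j.natAbs)) = -1 := by
  rw [← Int.natAbs_mul]
  exact (Int.natAbs_odd.mpr h).neg_one_pow

/-- graded commutativity inside the trace, in complementary degrees: the sign is `(-1)^i` -/
theorem tr_mul_comm {X : P.FullSubcategory} (i j : ℤ) (a b : T.H X) (ha : a ∈ T.gr X i)
    (hb : b ∈ T.gr X j) :
    T.tr X (a * b) = ((-1 : K) ^ i.natAbs) * T.tr X (b * a) := by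
  by_cases hij : i + j = 2 * (WeilCoh.dim X.obj.left : ℤ)
  · rw [T.gradedComm X i j a b ha hb, map_smul, smul_eq_mul]
    congr 1
    rcases Int.even_or_odd i with he | ho
    · rw [sign_eq_one_of_even i j (he.mul_right j), (Int.natAbs_even.mpr he).neg_one_pow]
    · have hj : Odd j := by
        have : j = 2 * (WeilCoh.dim X.obj.left : ℤ) - i := by linarith
        rw [this]
        exact (even_two_mul _).sub_odd ho
      rw [sign_eq_neg_one_of_odd i j (ho.mul hj), (Int.natAbs_odd.mpr ho).neg_one_pow]
  · rw [T.tr_vanish X _ _ (SetLike.mul_mem_graded ha hb) hij,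
      T.tr_vanish X _ _ (SetLike.mul_mem_graded hb ha) (by rw [add_comm]; exact hij), mul_zero]

end general

end Groth.Agent.Lib.helper27.WC9
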