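import Mathlib
import Groth.Prelude.Def_WeilCoh
import Groth.Agent.Lib.Helper27.WC9

/-!
# Weil cohomology, formal consequences X: the class of a graph in a Künneth basis and the
Lefschetz trace formula (helper27)
-/

set_option autoImplicit false
set_option linter.style.haveILetI false
set_option linter.unusedSectionVars false
universe u v w
open CategoryTheory CategoryTheory.Limits AlgebraicGeometry
open WeilCoh

namespace Groth.Agent.Lib.helper27.WC10

open Groth.Agent.Lib.helper27.WC1 Groth.Agent.Lib.helper27.WC2 Groth.Agent.Lib.helper27.WC3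
  Groth.Agent.Lib.helper27.WC4 Groth.Agent.Lib.helper27.WC6 Groth.Agent.Lib.helper27.WC9
  Groth.Agent.Lib.helper17.WeilCohPush

section general

variable {k : Type u} [Field k] {P : ObjectProperty (Over (Spec (CommRingCat.of k)))}
variable {K : Type v} [Field K] (T : WeilCoh.TheoryOn.{u, v, w} k P K)

/-- rearranging a product of four pulled back classes on a product -/
theorem rearr {X Y Q : P.FullSubcategory} (p : Q ⟶ X) (q : Q ⟶ Y) (β s : ℤ)
    (a x : T.H X) (b y : T.H Y) (hb : b ∈ T.gr Y β) (hx : x ∈ T.gr X s) :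
    T.pull p a * T.pull q b * (T.pull p x * T.pull q y) =
      ((-1 : K) ^ (β.natAbs * s.natAbs)) • (T.pull p (a * x) * T.pull q (b * y)) := by
  have h := T.gradedComm Q β s _ _ (T.pull_mem q β b hb) (T.pull_mem p s x hx)
  calc T.pull p a * T.pull q b * (T.pull p x * T.pull q y)
      = T.pull p a * (T.pull q b * T.pull p x) * T.pull q y := by simp only [mul_assoc]
    _ = T.pull p a * (((-1 : K) ^ (β.natAbs * s.natAbs)) • (T.pull p x * T.pull q b)) *
          T.pull q y := by rw [h]
    _ = ((-1 : K) ^ (β.natAbs * s.natAbs)) • (T.pull p (a * x) * T.pull q (b * y)) := by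
        rw [mul_smul_comm, smul_mul_assoc, map_mul, map_mul]
        simp only [mul_assoc]

theorem neg_one_pow_mul_self (m : ℕ) : ((-1 : K) ^ (m * m)) = (-1 : K) ^ m := by
  rcases Nat.even_or_odd m with h | h
  · rw [(h.mul_right m).neg_one_pow, h.neg_one_pow]
  · rw [(h.mul h).neg_one_pow, h.neg_one_pow]

/-- coordinates with respect to a basis through a dual family -/
theorem repr_eq_tr {X : P.FullSubcategory} (r c : ℤ) {ι : Type} [Fintype ι] [DecidableEq ι]
    (e : Module.Basis ι K ↥(T.gr X r)) (f : ι → ↥(T.gr X c))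
    (hef : ∀ i l : ι, T.tr X ((f l : T.H X) * (e i : T.H X)) = if i = l then 1 else 0)
    (y : ↥(T.gr X r)) (l : ι) : e.repr y l = T.tr X ((f l : T.H X) * (y : T.H X)) := by
  conv_rhs => rw [← e.sum_repr y]
  rw [Submodule.coe_sum, Finset.mul_sum, map_sum]
  simp only [Submodule.coe_smul, mul_smul_comm, map_smul, smul_eq_mul, hef]
  simp

end general

variable {k : Type u} [Field k] [IsAlgClosed k] {K : Type v} [Field K] [CharZero K]
variable (T : WeilCoh.Theory k K)

theorem graph_class (X P : WeilCoh.Var k) [IrreducibleSpace ↥X.obj.left] (φ : X ⟶ X)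
    (p q : P ⟶ X) (hP : WeilCoh.IsProd p q) (j : X ⟶ P) (hjp : j ≫ p = 𝟙 X) (hjq : j ≫ q = φ)
    (ι : ℕ → Type) [∀ r, Fintype (ι r)] [∀ r, DecidableEq (ι r)]
    (e : (r : ℕ) → Module.Basis (ι r) K ↥(T.gr X (r : ℤ)))
    (f : (r : ℕ) → ι r → ↥(T.gr X (2 * (WeilCoh.dim X.obj.left : ℤ) - r)))
    (hef : ∀ r, r ≤ 2 * WeilCoh.dim X.obj.left → ∀ i l : ι r,
      T.tr X ((f r l : T.H X) * (e r i : T.H X)) = if i = l then 1 else 0) :
    T.cl P (WeilCoh.sm j (genericPoint ↥X.obj.left)) =
      ∑ r ∈ Finset.range (2 * WeilCoh.dim X.obj.left + 1), ∑ i : ι r,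
        T.pull p (T.pull φ (e r i : T.H X)) * T.pull q (f r i : T.H X) := by
  set η := genericPoint ↥X.obj.left with hη
  have hdimP : WeilCoh.dim P.obj.left = WeilCoh.dim X.obj.left + WeilCoh.dim X.obj.left := dim_prod T p q hP
  have hcod := codim_section j p hjp η
  rw [pdim_generic, hdimP] at hcod
  have hL : T.cl P (WeilCoh.sm j η) ∈ T.gr P (2 * (WeilCoh.dim X.obj.left : ℤ)) := by
    have := T.cl_mem P (WeilCoh.sm j η)
    convert this using 2
    rw [hcod]; push_cast; ring
  have hR : (∑ r ∈ Finset.range (2 * WeilCoh.dim X.obj.left + 1), ∑ i : ι r,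
        T.pull p (T.pull φ (e r i : T.H X)) * T.pull q (f r i : T.H X)) ∈ T.gr P (2 * (WeilCoh.dim X.obj.left : ℤ)) := by
    refine Submodule.sum_mem _ fun r _ => Submodule.sum_mem _ fun i _ => ?_
    have := SetLike.mul_mem_graded (T.pull_mem p _ _ (T.pull_mem φ _ _ (e r i).2))
      (T.pull_mem q _ _ (f r i).2)
    convert this using 2
    ring
  refine eq_of_forall_tr_mul_eq' T (2 * (WeilCoh.dim X.obj.left : ℤ)) _ _ hL hR ?_
  intro w
  induction w using kunneth_induction T p q hP with
  | hadd a b ha hb => rw [mul_add, map_add, ha, hb, mul_add, map_add]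
  | hpure s t x y hx hy =>
    -- left side
    have hLeft : T.tr P (T.cl P (WeilCoh.sm j η) * (T.pull p x * T.pull q y)) =
        T.tr X (x * T.pull φ y) := by
      by_cases hst : s + t = 2 * (WeilCoh.dim X.obj.left : ℤ)
      · have ha' : T.pull p x * T.pull q y ∈ T.gr P (2 * (WeilCoh.pdim X.obj.left η : ℤ)) := by
          rw [pdim_generic, ← hst]
          exact SetLike.mul_mem_graded (T.pull_mem p s x hx) (T.pull_mem q t y hy)
        rw [tr_cl_section T j p hjp η _ ha', cl_generic, one_mul, map_mul,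
          pull_comp_apply, pull_comp_apply, hjp, hjq, pull_id_apply]
      · rw [T.tr_vanish P _ _ (SetLike.mul_mem_graded hL
            (SetLike.mul_mem_graded (T.pull_mem p s x hx) (T.pull_mem q t y hy))) (by
              rw [hdimP]; push_cast; intro h; apply hst; linarith),
          T.tr_vanish X _ _ (SetLike.mul_mem_graded hx (T.pull_mem φ t y hy)) hst]
    rw [hLeft, Finset.sum_mul, map_sum]
    -- right side, term by term
    have hterm : ∀ (r : ℕ) (i : ι r),
        T.tr P (T.pull p (T.pull φ (e r i : T.H X)) * T.pull q (f r i : T.H X) *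
          (T.pull p x * T.pull q y)) =
        ((-1 : K) ^ ((2 * (WeilCoh.dim X.obj.left : ℤ) - r).natAbs * s.natAbs)) *
          (T.tr X (T.pull φ (e r i : T.H X) * x) * T.tr X ((f r i : T.H X) * y)) := by
      intro r i
      rw [rearr T p q (2 * (WeilCoh.dim X.obj.left : ℤ) - r) s _ x _ y (f r i).2 hx, map_smul, smul_eq_mul,
        tr_prod_general T p q hP]
    have hsum : ∀ r : ℕ, T.tr P ((∑ i : ι r,
        T.pull p (T.pull φ (e r i : T.H X)) * T.pull q (f r i : T.H X)) *
          (T.pull p x * T.pull q y)) =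
        ∑ i : ι r, ((-1 : K) ^ ((2 * (WeilCoh.dim X.obj.left : ℤ) - r).natAbs * s.natAbs)) *
          (T.tr X (T.pull φ (e r i : T.H X) * x) * T.tr X ((f r i : T.H X) * y)) := by
      intro r
      rw [Finset.sum_mul, map_sum]
      exact Finset.sum_congr rfl fun i _ => hterm r i
    rw [Finset.sum_congr rfl fun r _ => hsum r]
    by_cases ht : t < 0 ∨ 2 * (WeilCoh.dim X.obj.left : ℤ) < t
    · have hy0 : y = 0 := eq_zero_of_mem_of_lt T t y hy ht
      subst hy0
      simp
    · push_neg at ht
      obtain ⟨r₀, hr₀⟩ := Int.eq_ofNat_of_zero_le ht.1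
      subst hr₀
      have hr₀le : r₀ ≤ 2 * WeilCoh.dim X.obj.left := by
        have := ht.2
        exact_mod_cast this
      rw [Finset.sum_eq_single r₀]
      · -- the contributing degree
        set y' : ↥(T.gr X (r₀ : ℤ)) := ⟨y, hy⟩ with hy'
        have hrepr : ∀ l : ι r₀, (e r₀).repr y' l = T.tr X ((f r₀ l : T.H X) * y) :=
          fun l => repr_eq_tr T _ _ (e r₀) (f r₀) (hef r₀ hr₀le) y' l
        have hyexp : y = ∑ i : ι r₀, (e r₀).repr y' i • (e r₀ i : T.H X) := by
          have := congrArg Subtype.val ((e r₀).sum_repr y')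
          rw [Submodule.coe_sum] at this
          simpa using this.symm
        have h1 : ∑ i : ι r₀, ((-1 : K) ^ ((2 * (WeilCoh.dim X.obj.left : ℤ) - r₀).natAbs * s.natAbs)) *
            (T.tr X (T.pull φ (e r₀ i : T.H X) * x) * T.tr X ((f r₀ i : T.H X) * y)) =
            ((-1 : K) ^ ((2 * (WeilCoh.dim X.obj.left : ℤ) - r₀).natAbs * s.natAbs)) * T.tr X (T.pull φ y * x) := by
          rw [← Finset.mul_sum]
          congr 1
          conv_rhs => rw [hyexp]
          rw [map_sum, Finset.sum_mul, map_sum]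
          refine Finset.sum_congr rfl fun i _ => ?_
          rw [map_smul, smul_mul_assoc, map_smul, smul_eq_mul, hrepr i, mul_comm]
        rw [h1, tr_mul_comm T s r₀ x (T.pull φ y) hx (T.pull_mem φ _ y hy)]
        by_cases hsr : s + r₀ = 2 * (WeilCoh.dim X.obj.left : ℤ)
        · have hs' : 2 * (WeilCoh.dim X.obj.left : ℤ) - r₀ = s := by linarith
          rw [hs', neg_one_pow_mul_self]
        · rw [T.tr_vanish X _ _ (SetLike.mul_mem_graded (T.pull_mem φ _ y hy) hx)
            (by rw [add_comm]; exact hsr)]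
          simp
      · intro r _ hr
        refine Finset.sum_eq_zero fun i _ => ?_
        have : T.tr X ((f r i : T.H X) * y) = 0 := by
          refine T.tr_vanish X _ _ (SetLike.mul_mem_graded (f r i).2 hy) ?_
          intro h
          apply hr
          have : (r : ℤ) = r₀ := by linarith
          exact_mod_cast this
        rw [this, mul_zero, mul_zero]
      · intro h
        exfalso
        apply h
        rw [Finset.mem_range]
        omega

end Groth.Agent.Lib.helper27.WC10
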