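import Mathlib
import Groth.Prelude.Def_WeilCoh
import Groth.Agent.Lib.Helper27.WC10

/-!
# Weil cohomology, formal consequences XI: the Lefschetz trace formula (helper27)
-/

set_option autoImplicit false
set_option linter.style.haveILetI false
set_option linter.unusedSectionVars false
universe u v w
open CategoryTheory CategoryTheory.Limits AlgebraicGeometry
open WeilCoh

namespace Groth.Agent.Lib.helper27.WC11

open Groth.Agent.Lib.helper27.WC1 Groth.Agent.Lib.helper27.WC2 Groth.Agent.Lib.helper27.WC3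
  Groth.Agent.Lib.helper27.WC4 Groth.Agent.Lib.helper27.WC6 Groth.Agent.Lib.helper27.WC9
  Groth.Agent.Lib.helper27.WC10 Groth.Agent.Lib.helper17.WeilCohPush

section general

variable {k : Type u} [Field k] {P : ObjectProperty (Over (Spec (CommRingCat.of k)))}
variable {K : Type v} [Field K] (T : WeilCoh.TheoryOn.{u, v, w} k P K)

/-- Poincaré duality: a dual family to a basis, in the complementary degree -/
theorem exists_dual_family {X : P.FullSubcategory} (r c : ℤ)
    (hrc : c + r = 2 * (WeilCoh.dim X.obj.left : ℤ)) {ι : Type} [Fintype ι] [DecidableEq ι]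
    (e : Module.Basis ι K ↥(T.gr X r)) :
    ∃ f : ι → ↥(T.gr X c), ∀ i l : ι,
      T.tr X ((f l : T.H X) * (e i : T.H X)) = if i = l then 1 else 0 := by
  haveI := T.duality X c r hrc
  have hbij := LinearMap.IsPerfPair.bijective_left
    (p := pairing K (T.gr X c) (T.gr X r) (T.tr X))
  choose f hf using fun l : ι => hbij.2 (e.coord l)
  refine ⟨f, fun i l => ?_⟩
  have := congrArg (fun ψ => ψ (e i)) (hf l)
  simp only [Module.Basis.coord_apply, Module.Basis.repr_self] at this
  rw [Finsupp.single_apply] at this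
  exact this

/-- the trace of an endomorphism of a graded piece through a basis and a dual family -/
theorem trace_eq_sum_tr {X : P.FullSubcategory} (r c : ℤ) {ι : Type} [Fintype ι] [DecidableEq ι]
    (e : Module.Basis ι K ↥(T.gr X r)) (f : ι → ↥(T.gr X c))
    (hef : ∀ i l : ι, T.tr X ((f l : T.H X) * (e i : T.H X)) = if i = l then 1 else 0)
    (L : ↥(T.gr X r) →ₗ[K] ↥(T.gr X r)) :
    LinearMap.trace K ↥(T.gr X r) L = ∑ i : ι, T.tr X ((f i : T.H X) * (L (e i) : T.H X)) := by
  rw [LinearMap.trace_eq_matrix_trace K e, Matrix.trace]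
  refine Finset.sum_congr rfl fun i _ => ?_
  rw [Matrix.diag_apply, LinearMap.toMatrix_apply, repr_eq_tr T r c e f hef]

end general

variable {k : Type u} [Field k] [IsAlgClosed k] {K : Type v} [Field K] [CharZero K]
variable (T : WeilCoh.Theory k K)

theorem lefschetz (X P : WeilCoh.Var k) [IrreducibleSpace ↥X.obj.left] (φ : X ⟶ X)
    (p q : P ⟶ X) (hP : WeilCoh.IsProd p q) (j d : X ⟶ P)
    (hjp : j ≫ p = 𝟙 X) (hjq : j ≫ q = φ) (hdp : d ≫ p = 𝟙 X) (hdq : d ≫ q = 𝟙 X) :
    T.tr P (T.cl P (WeilCoh.sm j (genericPoint ↥X.obj.left)) *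
        T.cl P (WeilCoh.sm d (genericPoint ↥X.obj.left))) =
      ∑ i ∈ Finset.range (2 * WeilCoh.dim X.obj.left + 1),
        (-1 : K) ^ i * LinearMap.trace K ↥(T.gr X (i : ℤ)) (T.pullDeg φ (i : ℤ)) := by
  classical
  set η := genericPoint ↥X.obj.left with hη
  have hdimP : WeilCoh.dim P.obj.left = WeilCoh.dim X.obj.left + WeilCoh.dim X.obj.left :=
    dim_prod T p q hP
  have hcod := codim_section j p hjp η
  rw [pdim_generic, hdimP] at hcod
  have hL : T.cl P (WeilCoh.sm j η) ∈ T.gr P (2 * (WeilCoh.pdim X.obj.left η : ℤ)) := by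
    have := T.cl_mem P (WeilCoh.sm j η)
    rw [pdim_generic]
    convert this using 2
    rw [hcod]; push_cast; ring
  -- bases and dual families
  let ι : ℕ → Type := fun r => Fin (Module.finrank K ↥(T.gr X (r : ℤ)))
  let e : (r : ℕ) → Module.Basis (ι r) K ↥(T.gr X (r : ℤ)) :=
    fun r => Module.finBasis K ↥(T.gr X (r : ℤ))
  have hex : ∀ r : ℕ, ∃ f : ι r → ↥(T.gr X (2 * (WeilCoh.dim X.obj.left : ℤ) - r)),
      ∀ i l : ι r, T.tr X ((f l : T.H X) * (e r i : T.H X)) = if i = l then 1 else 0 :=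
    fun r => exists_dual_family T (r : ℤ) _ (by ring) (e r)
  choose f hef using hex
  have hG := graph_class T X P φ p q hP j hjp hjq ι e f (fun r _ => hef r)
  rw [mul_comm_of_even T _ _ _ _ (T.cl_mem P (WeilCoh.sm j η)) (T.cl_mem P (WeilCoh.sm d η)),
    tr_cl_section T d p hdp η _ hL, cl_generic, one_mul, hG, map_sum, map_sum]
  refine Finset.sum_congr rfl fun r _ => ?_
  rw [map_sum, map_sum, trace_eq_sum_tr T (r : ℤ) _ (e r) (f r) (hef r), Finset.mul_sum]
  refine Finset.sum_congr rfl fun i _ => ?_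
  rw [map_mul, pull_comp_apply T d p, hdp, pull_id_apply, pull_comp_apply T d q, hdq, pull_id_apply,
    tr_mul_comm T (r : ℤ) _ _ _ (T.pull_mem φ _ _ (e r i).2) (f r i).2, Int.natAbs_natCast]
  rfl

end Groth.Agent.Lib.helper27.WC11
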