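import Mathlib
import Groth.Prelude.Def_WeilCoh
import Groth.Agent.Lib.Helper27.WC11

/-!
# Weil cohomology, formal consequences XII: correspondences; classes on a product as graded
homomorphisms (helper27)
-/

set_option autoImplicit false
set_option linter.style.haveILetI false
set_option linter.unusedSectionVars false
universe u v w
open CategoryTheory CategoryTheory.Limits AlgebraicGeometry
open WeilCoh

namespace Groth.Agent.Lib.helper27.WC12

open Groth.Agent.Lib.helper27.WC6 Groth.Agent.Lib.helper27.WC9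
  Groth.Agent.Lib.helper27.WC10 Groth.Agent.Lib.helper27.WC11 Groth.Agent.Lib.helper17.WeilCohPush

variable {k : Type u} [Field k] {P : ObjectProperty (Over (Spec (CommRingCat.of k)))}
variable {K : Type v} [Field K] (T : WeilCoh.TheoryOn.{u, v, w} k P K)

/-- the action of a class `φ` of degree `m` on a product `Q` of `X` and `Y` as a correspondence:
`x ↦ q_*(p^* x · φ)` on `H^i(X)` -/
noncomputable def act {X Y Q : P.FullSubcategory} (p : Q ⟶ X) (q : Q ⟶ Y) (m : ℤ)
    (φ : ↥(T.gr Q m)) (i : ℤ) :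
    ↥(T.gr X i) →ₗ[K] ↥(T.gr Y (i + m + 2 * (WeilCoh.dim Y.obj.left : ℤ) -
      2 * (WeilCoh.dim Q.obj.left : ℤ))) :=
  (T.push q (i + m)) ∘ₗ
    ((LinearMap.mulRight K (φ : T.H Q)).restrict (p := T.gr Q i) (q := T.gr Q (i + m))
      (fun x hx => SetLike.mul_mem_graded hx φ.2)) ∘ₗ (T.pullDeg p i)

theorem act_apply {X Y Q : P.FullSubcategory} (p : Q ⟶ X) (q : Q ⟶ Y) (m : ℤ)
    (φ : ↥(T.gr Q m)) (i : ℤ) (x : ↥(T.gr X i)) :
    act T p q m φ i x = T.push q (i + m) ⟨T.pull p (x : T.H X) * (φ : T.H Q),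
      SetLike.mul_mem_graded (T.pull_mem p i x x.2) φ.2⟩ := rfl

theorem tr_act_mul {X Y Q : P.FullSubcategory} (p : Q ⟶ X) (q : Q ⟶ Y) (m : ℤ)
    (φ : ↥(T.gr Q m)) (i : ℤ) (x : ↥(T.gr X i)) (y : T.H Y)
    (hy : y ∈ T.gr Y (2 * (WeilCoh.dim Q.obj.left : ℤ) - (i + m))) :
    T.tr Y ((act T p q m φ i x : T.H Y) * y) =
      T.tr Q (T.pull p (x : T.H X) * (φ : T.H Q) * T.pull q y) := by
  rw [act_apply, tr_push_mul T q (i + m) _ y hy]

/-- an element of a graded piece of `Y` is determined by its pairings; version adapted to `act` -/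
theorem act_ext {X Y Q : P.FullSubcategory} (p : Q ⟶ X) (q : Q ⟶ Y) (m : ℤ)
    (φ : ↥(T.gr Q m)) (i : ℤ) (x : ↥(T.gr X i))
    (z : ↥(T.gr Y (i + m + 2 * (WeilCoh.dim Y.obj.left : ℤ) - 2 * (WeilCoh.dim Q.obj.left : ℤ))))
    (h : ∀ y ∈ T.gr Y (2 * (WeilCoh.dim Q.obj.left : ℤ) - (i + m)),
      T.tr Q (T.pull p (x : T.H X) * (φ : T.H Q) * T.pull q y) = T.tr Y ((z : T.H Y) * y)) :
    act T p q m φ i x = z := by
  apply Subtype.ext
  refine eq_of_forall_tr_mul_eq T _ (2 * (WeilCoh.dim Q.obj.left : ℤ) - (i + m)) (by ring) _ _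
    (act T p q m φ i x).2 z.2 ?_
  intro y hy
  rw [tr_act_mul T p q m φ i x y hy, h y hy]

/-- the correspondence action determines the class -/
theorem act_injective {X Y Q : P.FullSubcategory} (p : Q ⟶ X) (q : Q ⟶ Y)
    (hQ : WeilCoh.IsProd p q) (m : ℤ) :
    Function.Injective (fun φ : ↥(T.gr Q m) => fun i : ℤ => act T p q m φ i) := by
  intro φ φ' h
  apply Subtype.ext
  refine eq_of_forall_tr_mul_eq' T m _ _ φ.2 φ'.2 ?_
  intro w
  induction w using kunneth_induction T p q hQ with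
  | hadd a b ha hb => rw [mul_add, map_add, ha, hb, mul_add, map_add]
  | hpure s t x y hx hy =>
    have hcomm : ∀ ψ : ↥(T.gr Q m), (ψ : T.H Q) * (T.pull p x * T.pull q y) =
        ((-1 : K) ^ (m.natAbs * s.natAbs)) • (T.pull p x * (ψ : T.H Q) * T.pull q y) := by
      intro ψ
      rw [← mul_assoc, T.gradedComm Q m s _ _ ψ.2 (T.pull_mem p s x hx), smul_mul_assoc]
    rw [hcomm φ, hcomm φ', map_smul, map_smul]
    congr 1
    by_cases ht : t = 2 * (WeilCoh.dim Q.obj.left : ℤ) - (s + m)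
    · subst ht
      have h1 := tr_act_mul T p q m φ s ⟨x, hx⟩ y hy
      have h2 := tr_act_mul T p q m φ' s ⟨x, hx⟩ y hy
      have h3 : act T p q m φ s = act T p q m φ' s := congrFun h s
      rw [← h1, ← h2, h3]
    · have hne : s + m + t ≠ 2 * (WeilCoh.dim Q.obj.left : ℤ) := by
        intro h'; apply ht; linarith
      rw [T.tr_vanish Q _ _ (SetLike.mul_mem_graded (SetLike.mul_mem_graded
          (T.pull_mem p s x hx) φ.2) (T.pull_mem q t y hy)) hne,
        T.tr_vanish Q _ _ (SetLike.mul_mem_graded (SetLike.mul_mem_graded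
          (T.pull_mem p s x hx) φ'.2) (T.pull_mem q t y hy)) hne]

end Groth.Agent.Lib.helper27.WC12
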