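import Mathlib
import Groth.Prelude.Def_WeilCoh
import Groth.Agent.Lib.Helper27.WC12

/-!
# Weil cohomology, formal consequences XIII: every graded homomorphism is a correspondence
(helper27)
-/

set_option autoImplicit false
set_option linter.style.haveILetI false
set_option linter.unusedSectionVars false
universe u v w
open CategoryTheory CategoryTheory.Limits AlgebraicGeometry
open WeilCoh

namespace Groth.Agent.Lib.helper27.WC13

open Groth.Agent.Lib.helper27.WC6 Groth.Agent.Lib.helper27.WC9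
  Groth.Agent.Lib.helper27.WC10 Groth.Agent.Lib.helper27.WC11 Groth.Agent.Lib.helper27.WC12
  Groth.Agent.Lib.helper17.WeilCohPush

variable {k : Type u} [Field k] {P : ObjectProperty (Over (Spec (CommRingCat.of k)))}
variable {K : Type v} [Field K] (T : WeilCoh.TheoryOn.{u, v, w} k P K)

theorem neg_one_pow_mul_self' (m : ℕ) : ((-1 : K) ^ m) * ((-1 : K) ^ m) = 1 := by
  rw [← pow_add, ← two_mul]
  exact (even_two_mul m).neg_one_pow

theorem act_surjective {X Y Q : P.FullSubcategory} (p : Q ⟶ X) (q : Q ⟶ Y)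
    (hQ : WeilCoh.IsProd p q) (m : ℤ) :
    Function.Surjective (fun φ : ↥(T.gr Q m) => fun i : ℤ => act T p q m φ i) := by
  classical
  intro L
  have hdimQ := dim_prod T p q hQ
  let ι : ℕ → Type := fun r => Fin (Module.finrank K ↥(T.gr X (r : ℤ)))
  let e : (r : ℕ) → Module.Basis (ι r) K ↥(T.gr X (r : ℤ)) :=
    fun r => Module.finBasis K ↥(T.gr X (r : ℤ))
  have hex : ∀ r : ℕ, ∃ f : ι r → ↥(T.gr X (2 * (WeilCoh.dim X.obj.left : ℤ) - r)),
      ∀ i l : ι r, T.tr X ((f l : T.H X) * (e r i : T.H X)) = if i = l then 1 else 0 :=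
    fun r => exists_dual_family T (r : ℤ) _ (by ring) (e r)
  choose f hef using hex
  set φ₀ : T.H Q := ∑ i ∈ Finset.range (2 * WeilCoh.dim X.obj.left + 1), ∑ s : ι i,
    ((-1 : K) ^ i) • (T.pull p (f i s : T.H X) * T.pull q (L (i : ℤ) (e i s) : T.H Y)) with hφ₀
  have hmem : φ₀ ∈ T.gr Q m := by
    refine Submodule.sum_mem _ fun i _ => Submodule.sum_mem _ fun s _ =>
      Submodule.smul_mem _ _ ?_
    have := SetLike.mul_mem_graded (T.pull_mem p _ _ (f i s).2)
      (T.pull_mem q _ _ (L (i : ℤ) (e i s)).2)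
    convert this using 2
    rw [hdimQ]; push_cast; ring
  refine ⟨⟨φ₀, hmem⟩, ?_⟩
  funext i
  by_cases hi : i < 0 ∨ 2 * (WeilCoh.dim X.obj.left : ℤ) < i
  · apply LinearMap.ext
    intro x
    have hx0 : x = 0 := Subtype.ext (eq_zero_of_mem_of_lt T i x x.2 hi)
    rw [hx0, map_zero, map_zero]
  · push Not at hi
    obtain ⟨i₀, rfl⟩ := Int.eq_ofNat_of_zero_le hi.1
    have hi₀ : i₀ ≤ 2 * WeilCoh.dim X.obj.left := by exact_mod_cast hi.2
    refine (e i₀).ext fun s₀ => ?_
    show act T p q m ⟨φ₀, hmem⟩ (i₀ : ℤ) (e i₀ s₀) = L (i₀ : ℤ) (e i₀ s₀)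
    refine act_ext T p q m ⟨φ₀, hmem⟩ (i₀ : ℤ) (e i₀ s₀) _ ?_
    intro y hy
    show T.tr Q (T.pull p (e i₀ s₀ : T.H X) * φ₀ * T.pull q y) = _
    rw [hφ₀, Finset.mul_sum, Finset.sum_mul, map_sum, Finset.sum_eq_single i₀]
    · rw [Finset.mul_sum, Finset.sum_mul, map_sum, Finset.sum_eq_single s₀]
      · rw [mul_smul_comm, smul_mul_assoc, map_smul, smul_eq_mul]
        have h1 : T.pull p (e i₀ s₀ : T.H X) * (T.pull p (f i₀ s₀ : T.H X) *
            T.pull q (L (i₀ : ℤ) (e i₀ s₀) : T.H Y)) * T.pull q y =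
            T.pull p ((e i₀ s₀ : T.H X) * (f i₀ s₀ : T.H X)) *
              T.pull q ((L (i₀ : ℤ) (e i₀ s₀) : T.H Y) * y) := by
          rw [map_mul, map_mul]; simp only [mul_assoc]
        rw [h1, tr_prod_general T p q hQ,
          tr_mul_comm T (i₀ : ℤ) _ _ _ (e i₀ s₀).2 (f i₀ s₀).2, hef i₀ s₀ s₀, if_pos rfl,
          Int.natAbs_natCast, mul_one, ← mul_assoc, neg_one_pow_mul_self', one_mul]
      · intro s _ hs
        rw [mul_smul_comm, smul_mul_assoc, map_smul]
        have h1 : T.pull p (e i₀ s₀ : T.H X) * (T.pull p (f i₀ s : T.H X) *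
            T.pull q (L (i₀ : ℤ) (e i₀ s) : T.H Y)) * T.pull q y =
            T.pull p ((e i₀ s₀ : T.H X) * (f i₀ s : T.H X)) *
              T.pull q ((L (i₀ : ℤ) (e i₀ s) : T.H Y) * y) := by
          rw [map_mul, map_mul]; simp only [mul_assoc]
        rw [h1, tr_prod_general T p q hQ,
          tr_mul_comm T (i₀ : ℤ) _ _ _ (e i₀ s₀).2 (f i₀ s).2, hef i₀ s₀ s,
          if_neg (Ne.symm hs)]
        simp
      · intro h; exact absurd (Finset.mem_univ _) h
    · intro i _ hi'
      rw [Finset.mul_sum, Finset.sum_mul, map_sum]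
      refine Finset.sum_eq_zero fun s _ => ?_
      rw [mul_smul_comm, smul_mul_assoc, map_smul]
      have h1 : T.pull p (e i₀ s₀ : T.H X) * (T.pull p (f i s : T.H X) *
          T.pull q (L (i : ℤ) (e i s) : T.H Y)) * T.pull q y =
          T.pull p ((e i₀ s₀ : T.H X) * (f i s : T.H X)) *
            T.pull q ((L (i : ℤ) (e i s) : T.H Y) * y) := by
        rw [map_mul, map_mul]; simp only [mul_assoc]
      have h2 : T.tr X ((e i₀ s₀ : T.H X) * (f i s : T.H X)) = 0 := by
        refine T.tr_vanish X _ _ (SetLike.mul_mem_graded (e i₀ s₀).2 (f i s).2) ?_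
        intro h
        apply hi'
        have : (i : ℤ) = i₀ := by linarith
        exact_mod_cast this
      rw [h1, tr_prod_general T p q hQ, h2]
      simp
    · intro h
      exfalso; apply h
      rw [Finset.mem_range]; omega

theorem act_bijective {X Y Q : P.FullSubcategory} (p : Q ⟶ X) (q : Q ⟶ Y)
    (hQ : WeilCoh.IsProd p q) (m : ℤ) :
    Function.Bijective (fun φ : ↥(T.gr Q m) => fun i : ℤ => act T p q m φ i) :=
  ⟨act_injective T p q hQ m, act_surjective T p q hQ m⟩

end Groth.Agent.Lib.helper27.WC13
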