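import Mathlib
import Groth.Prelude.Def_WeilCoh
import Groth.Agent.Lib.Helper27.WC13

/-!
# Weil cohomology, formal consequences XIV: Künneth expansion of a class on a product in terms of
its action; the trace and the swap (helper27)
-/

set_option autoImplicit false
set_option linter.style.haveILetI false
set_option linter.unusedSectionVars false
universe u v w
open CategoryTheory CategoryTheory.Limits AlgebraicGeometry
open WeilCoh

namespace Groth.Agent.Lib.helper27.WC14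

open Groth.Agent.Lib.helper27.WC6 Groth.Agent.Lib.helper27.WC9
  Groth.Agent.Lib.helper27.WC10 Groth.Agent.Lib.helper27.WC11 Groth.Agent.Lib.helper27.WC12
  Groth.Agent.Lib.helper27.WC13 Groth.Agent.Lib.helper17.WeilCohPush

variable {k : Type u} [Field k] {P : ObjectProperty (Over (Spec (CommRingCat.of k)))}
variable {K : Type v} [Field K] (T : WeilCoh.TheoryOn.{u, v, w} k P K)

/-- the explicit class with a prescribed action, for given bases and dual families -/
noncomputable def expl {X Y Q : P.FullSubcategory} (p : Q ⟶ X) (q : Q ⟶ Y) (m : ℤ)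
    (ι : ℕ → Type) [∀ r, Fintype (ι r)]
    (e : (r : ℕ) → Module.Basis (ι r) K ↥(T.gr X (r : ℤ)))
    (f : (r : ℕ) → ι r → ↥(T.gr X (2 * (WeilCoh.dim X.obj.left : ℤ) - r)))
    (L : (i : ℤ) → ↥(T.gr X i) →ₗ[K] ↥(T.gr Y (i + m + 2 * (WeilCoh.dim Y.obj.left : ℤ) -
      2 * (WeilCoh.dim Q.obj.left : ℤ)))) : T.H Q :=
  ∑ i ∈ Finset.range (2 * WeilCoh.dim X.obj.left + 1), ∑ s : ι i,
    ((-1 : K) ^ i) • (T.pull p (f i s : T.H X) * T.pull q (L (i : ℤ) (e i s) : T.H Y))

theorem expl_mem {X Y Q : P.FullSubcategory} (p : Q ⟶ X) (q : Q ⟶ Y)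
    (hQ : WeilCoh.IsProd p q) (m : ℤ)
    (ι : ℕ → Type) [∀ r, Fintype (ι r)]
    (e : (r : ℕ) → Module.Basis (ι r) K ↥(T.gr X (r : ℤ)))
    (f : (r : ℕ) → ι r → ↥(T.gr X (2 * (WeilCoh.dim X.obj.left : ℤ) - r)))
    (L : (i : ℤ) → ↥(T.gr X i) →ₗ[K] ↥(T.gr Y (i + m + 2 * (WeilCoh.dim Y.obj.left : ℤ) -
      2 * (WeilCoh.dim Q.obj.left : ℤ)))) : expl T p q m ι e f L ∈ T.gr Q m := by
  have hdimQ := dim_prod T p q hQ
  refine Submodule.sum_mem _ fun i _ => Submodule.sum_mem _ fun s _ =>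
    Submodule.smul_mem _ _ ?_
  have := SetLike.mul_mem_graded (T.pull_mem p _ _ (f i s).2)
    (T.pull_mem q _ _ (L (i : ℤ) (e i s)).2)
  convert this using 2
  rw [hdimQ]; push_cast; ring

theorem act_expl {X Y Q : P.FullSubcategory} (p : Q ⟶ X) (q : Q ⟶ Y)
    (hQ : WeilCoh.IsProd p q) (m : ℤ)
    (ι : ℕ → Type) [∀ r, Fintype (ι r)] [∀ r, DecidableEq (ι r)]
    (e : (r : ℕ) → Module.Basis (ι r) K ↥(T.gr X (r : ℤ)))
    (f : (r : ℕ) → ι r → ↥(T.gr X (2 * (WeilCoh.dim X.obj.left : ℤ) - r)))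
    (hef : ∀ (r : ℕ) (i l : ι r),
      T.tr X ((f r l : T.H X) * (e r i : T.H X)) = if i = l then 1 else 0)
    (L : (i : ℤ) → ↥(T.gr X i) →ₗ[K] ↥(T.gr Y (i + m + 2 * (WeilCoh.dim Y.obj.left : ℤ) -
      2 * (WeilCoh.dim Q.obj.left : ℤ)))) (i : ℤ) :
    act T p q m ⟨expl T p q m ι e f L, expl_mem T p q hQ m ι e f L⟩ i = L i := by
  by_cases hi : i < 0 ∨ 2 * (WeilCoh.dim X.obj.left : ℤ) < i
  · apply LinearMap.ext
    intro x
    have hx0 : x = 0 := Subtype.ext (eq_zero_of_mem_of_lt T i x x.2 hi)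
    rw [hx0, map_zero, map_zero]
  · push Not at hi
    obtain ⟨i₀, rfl⟩ := Int.eq_ofNat_of_zero_le hi.1
    have hi₀ : i₀ ≤ 2 * WeilCoh.dim X.obj.left := by exact_mod_cast hi.2
    refine (e i₀).ext fun s₀ => ?_
    refine act_ext T p q m _ (i₀ : ℤ) (e i₀ s₀) _ ?_
    intro y hy
    show T.tr Q (T.pull p (e i₀ s₀ : T.H X) * expl T p q m ι e f L * T.pull q y) = _
    unfold expl
    rw [Finset.mul_sum, Finset.sum_mul, map_sum, Finset.sum_eq_single i₀]
    · rw [Finset.mul_sum, Finset.sum_mul, map_sum, Finset.sum_eq_single s₀]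
      · rw [mul_smul_comm, smul_mul_assoc, map_smul, smul_eq_mul]
        have h1 : T.pull p (e i₀ s₀ : T.H X) * (T.pull p (f i₀ s₀ : T.H X) *
            T.pull q (L (i₀ : ℤ) (e i₀ s₀) : T.H Y)) * T.pull q y =
            T.pull p ((e i₀ s₀ : T.H X) * (f i₀ s₀ : T.H X)) *
              T.pull q ((L (i₀ : ℤ) (e i₀ s₀) : T.H Y) * y) := by
          rw [map_mul, map_mul]; simp only [mul_assoc]
        rw [h1, tr_prod_general T p q hQ,
          tr_mul_comm T (i₀ : ℤ) _ _ _ (e i₀ s₀).2 (f i₀ s₀).2, hef i₀ s₀ s₀, if_pos rfl,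
          Int.natAbs_natCast, mul_one, ← mul_assoc, neg_one_pow_mul_self', one_mul]
      · intro s _ hs
        rw [mul_smul_comm, smul_mul_assoc, map_smul]
        have h1 : T.pull p (e i₀ s₀ : T.H X) * (T.pull p (f i₀ s : T.H X) *
            T.pull q (L (i₀ : ℤ) (e i₀ s) : T.H Y)) * T.pull q y =
            T.pull p ((e i₀ s₀ : T.H X) * (f i₀ s : T.H X)) *
              T.pull q ((L (i₀ : ℤ) (e i₀ s) : T.H Y) * y) := by
          rw [map_mul, map_mul]; simp only [mul_assoc]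
        rw [h1, tr_prod_general T p q hQ,
          tr_mul_comm T (i₀ : ℤ) _ _ _ (e i₀ s₀).2 (f i₀ s).2, hef i₀ s₀ s,
          if_neg (Ne.symm hs)]
        simp
      · intro h; exact absurd (Finset.mem_univ _) h
    · intro i _ hi'
      rw [Finset.mul_sum, Finset.sum_mul, map_sum]
      refine Finset.sum_eq_zero fun s _ => ?_
      rw [mul_smul_comm, smul_mul_assoc, map_smul]
      have h1 : T.pull p (e i₀ s₀ : T.H X) * (T.pull p (f i s : T.H X) *
          T.pull q (L (i : ℤ) (e i s) : T.H Y)) * T.pull q y =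
          T.pull p ((e i₀ s₀ : T.H X) * (f i s : T.H X)) *
            T.pull q ((L (i : ℤ) (e i s) : T.H Y) * y) := by
        rw [map_mul, map_mul]; simp only [mul_assoc]
      have h2 : T.tr X ((e i₀ s₀ : T.H X) * (f i s : T.H X)) = 0 := by
        refine T.tr_vanish X _ _ (SetLike.mul_mem_graded (e i₀ s₀).2 (f i s).2) ?_
        intro h
        apply hi'
        have : (i : ℤ) = i₀ := by linarith
        exact_mod_cast this
      rw [h1, tr_prod_general T p q hQ, h2]
      simp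
    · intro h
      exfalso; apply h
      rw [Finset.mem_range]; omega

/-- Künneth expansion of a class on a product in terms of its action -/
theorem expansion {X Y Q : P.FullSubcategory} (p : Q ⟶ X) (q : Q ⟶ Y)
    (hQ : WeilCoh.IsProd p q) (m : ℤ)
    (ι : ℕ → Type) [∀ r, Fintype (ι r)] [∀ r, DecidableEq (ι r)]
    (e : (r : ℕ) → Module.Basis (ι r) K ↥(T.gr X (r : ℤ)))
    (f : (r : ℕ) → ι r → ↥(T.gr X (2 * (WeilCoh.dim X.obj.left : ℤ) - r)))
    (hef : ∀ (r : ℕ) (i l : ι r),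
      T.tr X ((f r l : T.H X) * (e r i : T.H X)) = if i = l then 1 else 0)
    (φ : ↥(T.gr Q m)) :
    (φ : T.H Q) = ∑ i ∈ Finset.range (2 * WeilCoh.dim X.obj.left + 1), ∑ s : ι i,
      ((-1 : K) ^ i) • (T.pull p (f i s : T.H X) *
        T.pull q (act T p q m φ (i : ℤ) (e i s) : T.H Y)) := by
  have h : (fun φ : ↥(T.gr Q m) => fun i : ℤ => act T p q m φ i)
      ⟨expl T p q m ι e f (fun i => act T p q m φ i), expl_mem T p q hQ m ι e f _⟩ =
      (fun φ : ↥(T.gr Q m) => fun i : ℤ => act T p q m φ i) φ := by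
    funext i
    exact act_expl T p q hQ m ι e f hef (fun i => act T p q m φ i) i
  have h2 := act_injective T p q hQ m h
  exact (congrArg Subtype.val h2).symm

/-- the trace is compatible with the swap of the factors of a product -/
theorem tr_pull_swap {X Y Q Q' : P.FullSubcategory} (p : Q ⟶ X) (q : Q ⟶ Y)
    (hQ : WeilCoh.IsProd p q) (p' : Q' ⟶ Y) (q' : Q' ⟶ X) (hQ' : WeilCoh.IsProd p' q')
    (σ : Q ⟶ Q') (hσ₁ : σ ≫ p' = q) (hσ₂ : σ ≫ q' = p) (a : T.H Q') :
    T.tr Q (T.pull σ a) = T.tr Q' a := by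
  induction a using kunneth_induction T p' q' hQ' with
  | hadd a b ha hb => rw [map_add, map_add, map_add, ha, hb]
  | hpure s t c d hc hd =>
    rw [map_mul, pull_comp_apply, pull_comp_apply, hσ₁, hσ₂, tr_prod_general T p' q' hQ']
    by_cases hs : s = 2 * (WeilCoh.dim Y.obj.left : ℤ)
    · rw [mul_comm_of_even T _ t _ _ (hs ▸ T.pull_mem q s c hc) (T.pull_mem p t d hd),
        tr_prod_general T p q hQ, mul_comm]
    · rw [T.tr_vanish Y s c hc hs, zero_mul, T.gradedComm Q s t _ _ (T.pull_mem q s c hc)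
        (T.pull_mem p t d hd), map_smul, tr_prod_general T p q hQ, T.tr_vanish Y s c hc hs]
      simp

end Groth.Agent.Lib.helper27.WC14
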