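import Mathlib
import Groth.Prelude.Def_WeilCoh
import Groth.Agent.Lib.Helper27.WC14

/-!
# Weil cohomology, formal consequences XV: the Lefschetz trace formula for correspondences
(helper27)
-/

set_option autoImplicit false
set_option linter.style.haveILetI false
set_option linter.unusedSectionVars false
universe u v w
open CategoryTheory CategoryTheory.Limits AlgebraicGeometry
open WeilCoh

namespace Groth.Agent.Lib.helper27.WC15

open Groth.Agent.Lib.helper27.WC6 Groth.Agent.Lib.helper27.WC9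
  Groth.Agent.Lib.helper27.WC10 Groth.Agent.Lib.helper27.WC11 Groth.Agent.Lib.helper27.WC12
  Groth.Agent.Lib.helper27.WC13 Groth.Agent.Lib.helper27.WC14 Groth.Agent.Lib.helper17.WeilCohPush

variable {k : Type u} [Field k] {P : ObjectProperty (Over (Spec (CommRingCat.of k)))}
variable {K : Type v} [Field K] (T : WeilCoh.TheoryOn.{u, v, w} k P K)

theorem lefschetz_corr (X Y Q Q' : P.FullSubcategory)
    (p : Q ⟶ X) (q : Q ⟶ Y) (hQ : WeilCoh.IsProd p q)
    (p' : Q' ⟶ Y) (q' : Q' ⟶ X) (hQ' : WeilCoh.IsProd p' q')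
    (σ : Q ⟶ Q') (hσ₁ : σ ≫ p' = q) (hσ₂ : σ ≫ q' = p) (m m' : ℤ)
    (hdim : ∀ i : ℤ, ((i + m + 2 * (WeilCoh.dim Y.obj.left : ℤ) -
      2 * (WeilCoh.dim Q.obj.left : ℤ)) + m' + 2 * (WeilCoh.dim X.obj.left : ℤ) -
      2 * (WeilCoh.dim Q'.obj.left : ℤ)) = i)
    (φ : ↥(T.gr Q m)) (ψ : ↥(T.gr Q' m')) :
    T.tr Q ((φ : T.H Q) * T.pull σ (ψ : T.H Q')) =
      ∑ i ∈ Finset.range (2 * WeilCoh.dim X.obj.left + 1),
        (-1 : K) ^ i * LinearMap.trace K ↥(T.gr X (i : ℤ))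
          ((LinearEquiv.ofEq (T.gr X ((((i : ℤ) + m + 2 * (WeilCoh.dim Y.obj.left : ℤ) -
              2 * (WeilCoh.dim Q.obj.left : ℤ)) + m' + 2 * (WeilCoh.dim X.obj.left : ℤ) -
              2 * (WeilCoh.dim Q'.obj.left : ℤ))))
            (T.gr X (i : ℤ)) (congrArg (T.gr X) (hdim (i : ℤ)))).toLinearMap ∘ₗ
            ((act T p' q' m' ψ ((i : ℤ) + m + 2 * (WeilCoh.dim Y.obj.left : ℤ) -
              2 * (WeilCoh.dim Q.obj.left : ℤ))) ∘ₗ (act T p q m φ (i : ℤ)))) := by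
  classical
  let ι : ℕ → Type := fun r => Fin (Module.finrank K ↥(T.gr X (r : ℤ)))
  let e : (r : ℕ) → Module.Basis (ι r) K ↥(T.gr X (r : ℤ)) :=
    fun r => Module.finBasis K ↥(T.gr X (r : ℤ))
  have hex : ∀ r : ℕ, ∃ f : ι r → ↥(T.gr X (2 * (WeilCoh.dim X.obj.left : ℤ) - r)),
      ∀ i l : ι r, T.tr X ((f l : T.H X) * (e r i : T.H X)) = if i = l then 1 else 0 :=
    fun r => exists_dual_family T (r : ℤ) _ (by ring) (e r)
  choose f hef using hex
  have hexp := expansion T p q hQ m ι e f hef φ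
  rw [hexp, Finset.sum_mul, map_sum]
  refine Finset.sum_congr rfl fun i _ => ?_
  rw [trace_eq_sum_tr T (i : ℤ) _ (e i) (f i) (hef i), Finset.sum_mul, map_sum, Finset.mul_sum]
  refine Finset.sum_congr rfl fun s _ => ?_
  rw [smul_mul_assoc, map_smul, smul_eq_mul]
  congr 1
  set z := act T p q m φ (i : ℤ) (e i s) with hz
  have h1 : T.pull p (f i s : T.H X) * T.pull q (z : T.H Y) * T.pull σ (ψ : T.H Q') =
      T.pull σ (T.pull q' (f i s : T.H X) * (T.pull p' (z : T.H Y) * (ψ : T.H Q'))) := by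
    rw [map_mul, map_mul, pull_comp_apply, pull_comp_apply, hσ₂, hσ₁, mul_assoc]
  rw [h1, tr_pull_swap T p q hQ p' q' hQ' σ hσ₁ hσ₂,
    tr_mul_comm T _ _ _ _ (T.pull_mem q' _ _ (f i s).2)
      (SetLike.mul_mem_graded (T.pull_mem p' _ _ z.2) ψ.2)]
  have hB : ((LinearEquiv.ofEq (T.gr X ((((i : ℤ) + m + 2 * (WeilCoh.dim Y.obj.left : ℤ) -
              2 * (WeilCoh.dim Q.obj.left : ℤ)) + m' + 2 * (WeilCoh.dim X.obj.left : ℤ) -
              2 * (WeilCoh.dim Q'.obj.left : ℤ))))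
            (T.gr X (i : ℤ)) (congrArg (T.gr X) (hdim (i : ℤ)))).toLinearMap ∘ₗ
            ((act T p' q' m' ψ ((i : ℤ) + m + 2 * (WeilCoh.dim Y.obj.left : ℤ) -
              2 * (WeilCoh.dim Q.obj.left : ℤ))) ∘ₗ (act T p q m φ (i : ℤ)))) (e i s) =
      (act T p' q' m' ψ _ z : T.H X) := rfl
  rw [hB, tr_mul_comm T _ _ _ _ (f i s).2 (act T p' q' m' ψ _ z).2]
  congr 1
  have hf : (f i s : T.H X) ∈ T.gr X (2 * (WeilCoh.dim Q'.obj.left : ℤ) -
      (((i : ℤ) + m + 2 * (WeilCoh.dim Y.obj.left : ℤ) - 2 * (WeilCoh.dim Q.obj.left : ℤ)) + m')) := by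
    have := (f i s).2
    convert this using 2
    have := hdim (i : ℤ)
    linarith
  rw [tr_act_mul T p' q' m' ψ _ z _ hf]

end Groth.Agent.Lib.helper27.WC15
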