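import Mathlib
import Groth.Prelude.Def_WeilCoh
import Groth.Agent.Lib.Helper27.WC15
import Groth.Agent.Lib.Helper27.WC2

/-!
# Weil cohomology, formal consequences XVI: pull-back of cycle classes along an isomorphism,
the transposed action of a correspondence (helper27)
-/

set_option autoImplicit false
set_option linter.style.haveILetI false
set_option linter.unusedSectionVars false
universe u v w
open CategoryTheory CategoryTheory.Limits AlgebraicGeometry
open WeilCoh

namespace Groth.Agent.Lib.helper27.WC16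

open Groth.Agent.Lib.helper27.WC2 Groth.Agent.Lib.helper27.WC6 Groth.Agent.Lib.helper27.WC9
  Groth.Agent.Lib.helper27.WC10 Groth.Agent.Lib.helper27.WC11 Groth.Agent.Lib.helper27.WC12
  Groth.Agent.Lib.helper27.WC13 Groth.Agent.Lib.helper27.WC14 Groth.Agent.Lib.helper17.WeilCohPush

section general

variable {k : Type u} [Field k] {P : ObjectProperty (Over (Spec (CommRingCat.of k)))}
variable {K : Type v} [Field K] (T : WeilCoh.TheoryOn.{u, v, w} k P K)

/-- the action in the opposite direction is the action of the class pulled back by the swap -/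
theorem act_swap {X Q : P.FullSubcategory} (p q : Q ⟶ X) (hQ : WeilCoh.IsProd p q)
    (σ : Q ⟶ Q) (hσp : σ ≫ p = q) (hσq : σ ≫ q = p) (m : ℤ) (v : ↥(T.gr Q m)) (i : ℤ)
    (z : ↥(T.gr X i)) :
    (act T q p m v i z : T.H X) =
      (act T p q m ⟨T.pull σ (v : T.H Q), T.pull_mem σ m v v.2⟩ i z : T.H X) := by
  refine eq_of_forall_tr_mul_eq T _ (2 * (WeilCoh.dim Q.obj.left : ℤ) - (i + m)) (by ring) _ _
    (act T q p m v i z).2 (act T p q m _ i z).2 ?_
  intro y hy
  rw [tr_act_mul T q p m v i z y hy, tr_act_mul T p q m _ i z y hy]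
  show _ = T.tr Q (T.pull p (z : T.H X) * T.pull σ (v : T.H Q) * T.pull q y)
  have h1 : T.pull p (z : T.H X) * T.pull σ (v : T.H Q) * T.pull q y =
      T.pull σ (T.pull q (z : T.H X) * (v : T.H Q) * T.pull p y) := by
    rw [map_mul, map_mul, pull_comp_apply, pull_comp_apply, hσq, hσp]
  rw [h1, tr_pull_swap T p q hQ p q hQ σ hσp hσq]

end general

variable {k : Type u} [Field k] {K : Type v} [Field K]
variable (T : WeilCoh.TheoryOn.{u, v, w} k (WeilCoh.IsVar k) K)

/-- the pull-back of a cycle class along an isomorphism is a combination of cycle classes -/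
theorem pull_cl_mem_span_of_isIso {X Y : WeilCoh.Var k} (f : X ⟶ Y) [IsIso (WeilCoh.sm f)]
    (ξ : Y.obj.left) :
    T.pull f (T.cl Y ξ) ∈ Submodule.span K (Set.range (T.cl X)) := by
  have hdim : WeilCoh.dim X.obj.left = WeilCoh.dim Y.obj.left :=
    Groth.Agent.Lib.helper27.BMTop.natDim_eq_of_homeomorph
      (TopCat.homeoOfIso (Scheme.forgetToTop.mapIso (asIso (WeilCoh.sm f))))
  have h1 : ∀ w : X.obj.left,
      WeilCoh.IsCompPt ((WeilCoh.sm f) ⁻¹' closure ({ξ} : Set Y.obj.left)) w →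
      (WeilCoh.pdim X.obj.left w : ℤ) =
        WeilCoh.pdim Y.obj.left ξ + WeilCoh.dim X.obj.left - WeilCoh.dim Y.obj.left := by
    intro w hw
    have hfw : WeilCoh.sm f w = ξ := by
      set g := inv (WeilCoh.sm f) with hg
      have hfg : ∀ y, WeilCoh.sm f (g y) = y := fun y => by
        rw [← Scheme.Hom.comp_apply, hg, IsIso.inv_hom_id]; rfl
      have hgf : ∀ x, g (WeilCoh.sm f x) = x := fun x => by
        rw [← Scheme.Hom.comp_apply, hg, IsIso.hom_inv_id]; rfl
      have hs : ξ ⤳ WeilCoh.sm f w := specializes_iff_mem_closure.mpr hw.1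
      have hs' : g ξ ⤳ w := by
        have := hs.map g.continuous
        rwa [hgf] at this
      have hmem : g ξ ∈ (WeilCoh.sm f) ⁻¹' closure ({ξ} : Set Y.obj.left) := by
        show WeilCoh.sm f (g ξ) ∈ closure ({ξ} : Set Y.obj.left)
        rw [hfg]; exact subset_closure rfl
      have := hw.2 (g ξ) hmem hs'
      rw [← this, hfg]
    rw [hdim, ← hfw,
      Groth.Agent.Lib.helper27.BMCodim.pdim_map_of_isClosedImmersion (WeilCoh.sm f) w]
    ring
  have h2 : ∃ U : Y.obj.left.Opens, closure ({ξ} : Set Y.obj.left) ⊆ (U : Set Y.obj.left) ∧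
      Flat ((WeilCoh.sm f) ∣_ U) := ⟨⊤, Set.subset_univ _, inferInstance⟩
  rw [T.cl_pull f ξ h1 (Or.inl h2)]
  refine finsum_induction _ (Submodule.zero_mem _) (fun _ _ hx hy => Submodule.add_mem _ hx hy)
    (fun w => Submodule.smul_mem _ _ (Submodule.subset_span ⟨w.1, rfl⟩))

theorem pull_mem_span_of_isIso {X Y : WeilCoh.Var k} (f : X ⟶ Y) [IsIso (WeilCoh.sm f)]
    (v : T.H Y) (hv : v ∈ Submodule.span K (Set.range (T.cl Y))) :
    T.pull f v ∈ Submodule.span K (Set.range (T.cl X)) := by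
  induction hv using Submodule.span_induction with
  | mem x hx =>
    obtain ⟨ξ, rfl⟩ := hx
    exact pull_cl_mem_span_of_isIso T f ξ
  | zero => rw [map_zero]; exact Submodule.zero_mem _
  | add x y _ _ hx hy => rw [map_add]; exact Submodule.add_mem _ hx hy
  | smul c x _ hx => rw [map_smul]; exact Submodule.smul_mem _ _ hx

/-- the swap of a product is an isomorphism -/
theorem isIso_swap {X Q : WeilCoh.Var k} (p q : Q ⟶ X) (hQ : WeilCoh.IsProd p q)
    (σ : Q ⟶ Q) (hσp : σ ≫ p = q) (hσq : σ ≫ q = p) : IsIso (WeilCoh.sm σ) := by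
  have h1 : (σ ≫ σ) ≫ p = p := by rw [Category.assoc, hσp, hσq]
  have h2 : (σ ≫ σ) ≫ q = q := by rw [Category.assoc, hσq, hσp]
  have h1' : (WeilCoh.sm σ ≫ WeilCoh.sm σ) ≫ WeilCoh.sm p = 𝟙 _ ≫ WeilCoh.sm p := by
    have := congrArg (fun f => WeilCoh.sm f) h1
    rw [Category.id_comp]; exact this
  have h2' : (WeilCoh.sm σ ≫ WeilCoh.sm σ) ≫ WeilCoh.sm q = 𝟙 _ ≫ WeilCoh.sm q := by
    have := congrArg (fun f => WeilCoh.sm f) h2
    rw [Category.id_comp]; exact this
  have h3 : WeilCoh.sm σ ≫ WeilCoh.sm σ = 𝟙 _ := hQ.hom_ext h1' h2'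
  exact ⟨⟨WeilCoh.sm σ, h3, h3⟩⟩

end Groth.Agent.Lib.helper27.WC16
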