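import Mathlib
import Groth.Prelude.Def_WeilCoh
import Groth.Agent.Lib.Helper27.WC16

/-!
# Weil cohomology, formal consequences XVII: nilpotent correspondences are numerically trivial
(helper27)
-/

set_option autoImplicit false
set_option linter.style.haveILetI false
set_option linter.unusedSectionVars false
universe u v w
open CategoryTheory CategoryTheory.Limits AlgebraicGeometry
open WeilCoh

namespace Groth.Agent.Lib.helper27.WC17

open Groth.Agent.Lib.helper27.WC6 Groth.Agent.Lib.helper27.WC9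
  Groth.Agent.Lib.helper27.WC10 Groth.Agent.Lib.helper27.WC11 Groth.Agent.Lib.helper27.WC12
  Groth.Agent.Lib.helper27.WC13 Groth.Agent.Lib.helper27.WC14 Groth.Agent.Lib.helper27.WC15
  Groth.Agent.Lib.helper27.WC16 Groth.Agent.Lib.helper17.WeilCohPush

section general

variable {k : Type u} [Field k] {P : ObjectProperty (Over (Spec (CommRingCat.of k)))}
variable {K : Type v} [Field K] (T : WeilCoh.TheoryOn.{u, v, w} k P K)

theorem act_congr_index {X Y Q : P.FullSubcategory} (p : Q ⟶ X) (q : Q ⟶ Y) (m : ℤ)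
    (φ : ↥(T.gr Q m)) (i i' : ℤ) (h : i = i') (z : ↥(T.gr X i)) (z' : ↥(T.gr X i'))
    (hz : (z : T.H X) = (z' : T.H X)) :
    (act T p q m φ i z : T.H Y) = (act T p q m φ i' z' : T.H Y) := by
  subst h
  have : z = z' := Subtype.ext hz
  rw [this]

end general

variable {k : Type u} [Field k] {K : Type v} [Field K]
variable (T : WeilCoh.TheoryOn.{u, v, w} k (WeilCoh.IsVar k) K)

theorem nilpotent_numerically_trivial (X Q : WeilCoh.Var k)
    (p q : Q ⟶ X) (hQ : WeilCoh.IsProd p q) (σ : Q ⟶ Q) (hσp : σ ≫ p = q) (hσq : σ ≫ q = p)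
    (hdim : ∀ j : ℤ, j + 2 * (WeilCoh.dim X.obj.left : ℤ) + 2 * (WeilCoh.dim X.obj.left : ℤ) -
      2 * (WeilCoh.dim Q.obj.left : ℤ) = j)
    (u : ↥(T.gr Q (2 * (WeilCoh.dim X.obj.left : ℤ))))
    (hJ : ∀ ψ ∈ Algebra.adjoin K
          (Set.range (fun w : {w : ↥(T.gr Q (2 * (WeilCoh.dim X.obj.left : ℤ))) //
              (w : T.H Q) ∈ Submodule.span K (Set.range (T.cl Q))} =>
            fun j : Fin (2 * WeilCoh.dim X.obj.left + 1) =>
              ((LinearEquiv.ofEq (T.gr X (((j : ℕ) : ℤ) + 2 * (WeilCoh.dim X.obj.left : ℤ) +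
                  2 * (WeilCoh.dim X.obj.left : ℤ) - 2 * (WeilCoh.dim Q.obj.left : ℤ)))
                (T.gr X ((j : ℕ) : ℤ)) (congrArg (T.gr X) (hdim ((j : ℕ) : ℤ)))).toLinearMap ∘ₗ
              (act T p q (2 * (WeilCoh.dim X.obj.left : ℤ)) w.1 ((j : ℕ) : ℤ))))),
        IsNilpotent (ψ * fun j : Fin (2 * WeilCoh.dim X.obj.left + 1) =>
          ((LinearEquiv.ofEq (T.gr X (((j : ℕ) : ℤ) + 2 * (WeilCoh.dim X.obj.left : ℤ) +
                  2 * (WeilCoh.dim X.obj.left : ℤ) - 2 * (WeilCoh.dim Q.obj.left : ℤ)))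
                (T.gr X ((j : ℕ) : ℤ)) (congrArg (T.gr X) (hdim ((j : ℕ) : ℤ)))).toLinearMap ∘ₗ
              (act T p q (2 * (WeilCoh.dim X.obj.left : ℤ)) u ((j : ℕ) : ℤ)))))
    (v : ↥(T.gr Q (2 * (WeilCoh.dim X.obj.left : ℤ))))
    (hv : (v : T.H Q) ∈ Submodule.span K (Set.range (T.cl Q))) :
    T.tr Q ((u : T.H Q) * (v : T.H Q)) = 0 := by
  haveI hiso := isIso_swap p q hQ σ hσp hσq
  let w : {w : ↥(T.gr Q (2 * (WeilCoh.dim X.obj.left : ℤ))) // (w : T.H Q) ∈ Submodule.span K (Set.range (T.cl Q))} :=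
    ⟨⟨T.pull σ (v : T.H Q), T.pull_mem σ (2 * (WeilCoh.dim X.obj.left : ℤ)) v v.2⟩, pull_mem_span_of_isIso T σ v hv⟩
  have hnil := hJ _ (Algebra.subset_adjoin ⟨w, rfl⟩)
  have hdim' : ∀ i : ℤ, ((i + (2 * (WeilCoh.dim X.obj.left : ℤ)) + 2 * (WeilCoh.dim X.obj.left : ℤ) -
      2 * (WeilCoh.dim Q.obj.left : ℤ)) + (2 * (WeilCoh.dim X.obj.left : ℤ)) + 2 * (WeilCoh.dim X.obj.left : ℤ) -
      2 * (WeilCoh.dim Q.obj.left : ℤ)) = i := by
    intro i
    have := hdim 0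
    linarith
  have hL := lefschetz_corr T X X Q Q p q hQ q p hQ.flip (𝟙 Q) (Category.id_comp _)
    (Category.id_comp _) (2 * (WeilCoh.dim X.obj.left : ℤ)) (2 * (WeilCoh.dim X.obj.left : ℤ)) hdim' u v
  rw [pull_id_apply] at hL
  rw [hL]
  refine Finset.sum_eq_zero fun i hi => ?_
  rw [Finset.mem_range] at hi
  obtain ⟨N, hN⟩ := hnil
  have hNj := congrFun hN ⟨i, hi⟩
  rw [Pi.pow_apply, Pi.mul_apply] at hNj
  have hnilj : IsNilpotent
      (((LinearEquiv.ofEq (T.gr X ((i : ℤ) + 2 * (WeilCoh.dim X.obj.left : ℤ) +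
                  2 * (WeilCoh.dim X.obj.left : ℤ) - 2 * (WeilCoh.dim Q.obj.left : ℤ)))
                (T.gr X (i : ℤ)) (congrArg (T.gr X) (hdim (i : ℤ)))).toLinearMap ∘ₗ
              (act T p q (2 * (WeilCoh.dim X.obj.left : ℤ)) w.1 (i : ℤ))) *
       ((LinearEquiv.ofEq (T.gr X ((i : ℤ) + 2 * (WeilCoh.dim X.obj.left : ℤ) +
                  2 * (WeilCoh.dim X.obj.left : ℤ) - 2 * (WeilCoh.dim Q.obj.left : ℤ)))
                (T.gr X (i : ℤ)) (congrArg (T.gr X) (hdim (i : ℤ)))).toLinearMap ∘ₗ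
              (act T p q (2 * (WeilCoh.dim X.obj.left : ℤ)) u (i : ℤ)))) := ⟨N, hNj⟩
  have htr := (LinearMap.isNilpotent_trace_of_isNilpotent hnilj).eq_zero
  have heq : ((LinearEquiv.ofEq (T.gr X ((((i : ℤ) + (2 * (WeilCoh.dim X.obj.left : ℤ)) + 2 * (WeilCoh.dim X.obj.left : ℤ) -
              2 * (WeilCoh.dim Q.obj.left : ℤ)) + (2 * (WeilCoh.dim X.obj.left : ℤ)) + 2 * (WeilCoh.dim X.obj.left : ℤ) -
              2 * (WeilCoh.dim Q.obj.left : ℤ))))
            (T.gr X (i : ℤ)) (congrArg (T.gr X) (hdim' (i : ℤ)))).toLinearMap ∘ₗ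
            ((act T q p (2 * (WeilCoh.dim X.obj.left : ℤ)) v ((i : ℤ) + (2 * (WeilCoh.dim X.obj.left : ℤ)) + 2 * (WeilCoh.dim X.obj.left : ℤ) -
              2 * (WeilCoh.dim Q.obj.left : ℤ))) ∘ₗ (act T p q (2 * (WeilCoh.dim X.obj.left : ℤ)) u (i : ℤ)))) =
      (((LinearEquiv.ofEq (T.gr X ((i : ℤ) + 2 * (WeilCoh.dim X.obj.left : ℤ) +
                  2 * (WeilCoh.dim X.obj.left : ℤ) - 2 * (WeilCoh.dim Q.obj.left : ℤ)))
                (T.gr X (i : ℤ)) (congrArg (T.gr X) (hdim (i : ℤ)))).toLinearMap ∘ₗ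
              (act T p q (2 * (WeilCoh.dim X.obj.left : ℤ)) w.1 (i : ℤ))) *
       ((LinearEquiv.ofEq (T.gr X ((i : ℤ) + 2 * (WeilCoh.dim X.obj.left : ℤ) +
                  2 * (WeilCoh.dim X.obj.left : ℤ) - 2 * (WeilCoh.dim Q.obj.left : ℤ)))
                (T.gr X (i : ℤ)) (congrArg (T.gr X) (hdim (i : ℤ)))).toLinearMap ∘ₗ
              (act T p q (2 * (WeilCoh.dim X.obj.left : ℤ)) u (i : ℤ)))) := by
    apply LinearMap.ext
    intro x
    apply Subtype.ext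
    show (act T q p (2 * (WeilCoh.dim X.obj.left : ℤ)) v _ (act T p q (2 * (WeilCoh.dim X.obj.left : ℤ)) u (i : ℤ) x) : T.H X) =
      (act T p q (2 * (WeilCoh.dim X.obj.left : ℤ)) w.1 (i : ℤ) ((LinearEquiv.ofEq _ _ (congrArg (T.gr X) (hdim (i : ℤ))))
        (act T p q (2 * (WeilCoh.dim X.obj.left : ℤ)) u (i : ℤ) x)) : T.H X)
    rw [act_swap T p q hQ σ hσp hσq (2 * (WeilCoh.dim X.obj.left : ℤ)) v]
    exact act_congr_index T p q (2 * (WeilCoh.dim X.obj.left : ℤ)) w.1 _ _ (hdim (i : ℤ)) _ _ rfl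
  rw [heq, htr, mul_zero]

end Groth.Agent.Lib.helper27.WC17
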