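import Mathlib
import Groth.Prelude.Def_WeilCoh
import Groth.Agent.Lib.Helper27.WC17
import Groth.Agent.Lib.Helper27.WC4

/-!
# Weil cohomology, formal consequences XVIII: Künneth projectors from an endomorphism with
coprime characteristic polynomials (helper27)
-/

set_option autoImplicit false
set_option linter.style.haveILetI false
set_option linter.unusedSectionVars false
universe u v w
open CategoryTheory CategoryTheory.Limits AlgebraicGeometry
open WeilCoh

namespace Groth.Agent.Lib.helper27.WC18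

open Groth.Agent.Lib.helper27.WC2 Groth.Agent.Lib.helper27.WC4 Groth.Agent.Lib.helper27.WC6
  Groth.Agent.Lib.helper27.WC9
  Groth.Agent.Lib.helper27.WC10 Groth.Agent.Lib.helper27.WC11 Groth.Agent.Lib.helper27.WC12
  Groth.Agent.Lib.helper17.WeilCohPush

section lift

variable {k : Type u} [Field k]

/-- morphisms into a product in `Var k` -/
theorem exists_lift {X Y Z Q : WeilCoh.Var k} (p : Q ⟶ X) (q : Q ⟶ Y) (hQ : WeilCoh.IsProd p q)
    (a : Z ⟶ X) (b : Z ⟶ Y) : ∃ j : Z ⟶ Q, j ≫ p = a ∧ j ≫ q = b := by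
  have hw : WeilCoh.sm a ≫ X.obj.hom = WeilCoh.sm b ≫ Y.obj.hom := by
    rw [Over.w a.hom, Over.w b.hom]
  let l := hQ.lift (WeilCoh.sm a) (WeilCoh.sm b) hw
  have hl1 : l ≫ WeilCoh.sm p = WeilCoh.sm a := hQ.lift_fst _ _ _
  have hl2 : l ≫ WeilCoh.sm q = WeilCoh.sm b := hQ.lift_snd _ _ _
  have hlw : l ≫ Q.obj.hom = Z.obj.hom := by
    rw [← Over.w p.hom, ← Category.assoc]
    show (l ≫ WeilCoh.sm p) ≫ _ = _
    rw [hl1, Over.w a.hom]
  refine ⟨ObjectProperty.homMk (Over.homMk l hlw), ?_, ?_⟩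
  · apply ObjectProperty.hom_ext
    apply Over.OverMorphism.ext
    exact hl1
  · apply ObjectProperty.hom_ext
    apply Over.OverMorphism.ext
    exact hl2

/-- iterates of an endomorphism -/
noncomputable def Fpow {X : WeilCoh.Var k} (F : X ⟶ X) : ℕ → (X ⟶ X)
  | 0 => 𝟙 X
  | (N + 1) => Fpow F N ≫ F

end lift

variable {k : Type u} [Field k] [IsAlgClosed k] {K : Type v} [Field K] [CharZero K]
variable (T : WeilCoh.Theory k K)

theorem pull_Fpow {X : WeilCoh.Var k} (F : X ⟶ X) (j : ℤ) (N : ℕ) (b : ↥(T.gr X j)) :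
    T.pull (Fpow F N) (b : T.H X) = (((T.pullDeg F j) ^ N) b : T.H X) := by
  induction N generalizing b with
  | zero => simp [Fpow, pull_id_apply]
  | succ N ih =>
    rw [Fpow, ← pull_comp_apply, pow_succ, Module.End.mul_apply]
    have : T.pull F (b : T.H X) = ((T.pullDeg F j b : ↥(T.gr X j)) : T.H X) := rfl
    rw [this, ih]

/-- the action of the class of the transposed graph of `f` is `f^*` -/
theorem tr_graph_transpose {X Q : WeilCoh.Var k} [IrreducibleSpace ↥X.obj.left]
    (p q : Q ⟶ X) (hQ : WeilCoh.IsProd p q) (f : X ⟶ X) (j' : X ⟶ Q) (hjp : j' ≫ p = f)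
    (hjq : j' ≫ q = 𝟙 X) (s : ℤ) (b y : T.H X) (hb : b ∈ T.gr X s)
    (hy : y ∈ T.gr X (2 * (WeilCoh.dim X.obj.left : ℤ) - s)) :
    T.tr Q (T.pull p b * T.cl Q (WeilCoh.sm j' (genericPoint ↥X.obj.left)) * T.pull q y) =
      T.tr X (T.pull f b * y) := by
  set η := genericPoint ↥X.obj.left
  have ha' : T.pull p b * T.pull q y ∈ T.gr Q (2 * (WeilCoh.pdim X.obj.left η : ℤ)) := by
    rw [pdim_generic]
    have := SetLike.mul_mem_graded (T.pull_mem p s b hb) (T.pull_mem q _ y hy)
    convert this using 2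
    ring
  rw [mul_comm_of_even' T _ s _ _ (T.cl_mem Q (WeilCoh.sm j' η)) (T.pull_mem p s b hb),
    mul_assoc, tr_cl_section T j' q hjq η _ ha', cl_generic, one_mul, map_mul,
    pull_comp_apply, pull_comp_apply, hjp, hjq, pull_id_apply]

theorem kunneth_projector (X Q : WeilCoh.Var k) (p q : Q ⟶ X) (hQ : WeilCoh.IsProd p q)
    (F : X ⟶ X)
    (hF : ∀ i j : ℤ, i ≠ j → IsCoprime (T.pullDeg F i).charpoly (T.pullDeg F j).charpoly)
    (i : ℤ) :
    ∃ u : ↥(T.gr Q (2 * (WeilCoh.dim X.obj.left : ℤ))),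
      (u : T.H Q) ∈ Submodule.span K (Set.range (T.cl Q)) ∧
        ∀ (j : ℤ) (b : ↥(T.gr X j)),
          (T.push q (j + 2 * (WeilCoh.dim X.obj.left : ℤ))
              ⟨T.pull p (b : T.H X) * (u : T.H Q),
                SetLike.mul_mem_graded (T.pull_mem p j b b.2) u.2⟩ : T.H X) =
            if j = i then (b : T.H X) else 0 := by
  classical
  haveI := irred X
  set η := genericPoint ↥X.obj.left with hη
  have hdimQ : WeilCoh.dim Q.obj.left = WeilCoh.dim X.obj.left + WeilCoh.dim X.obj.left :=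
    dim_prod T p q hQ
  -- the polynomial
  let S : Finset ℤ := (Finset.Icc (0 : ℤ) (2 * (WeilCoh.dim X.obj.left : ℤ))).erase i
  let χ : ℤ → Polynomial K := fun j => (T.pullDeg F j).charpoly
  have hcop : IsCoprime (∏ j ∈ S, χ j) (χ i) :=
    IsCoprime.prod_left fun j hj => hF j i (Finset.ne_of_mem_erase hj)
  obtain ⟨a, c, hac⟩ := hcop
  set g : Polynomial K := a * ∏ j ∈ S, χ j with hg
  have hgi : Polynomial.aeval (T.pullDeg F i) g = 1 := by
    have h1 := congrArg (Polynomial.aeval (T.pullDeg F i)) hac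
    rw [map_add, map_mul _ c, LinearMap.aeval_self_charpoly, mul_zero, add_zero, map_one] at h1
    exact h1
  have hgj : ∀ j ∈ S, Polynomial.aeval (T.pullDeg F j) g = 0 := by
    intro j hj
    obtain ⟨d, hd⟩ := Finset.dvd_prod_of_mem χ hj
    rw [hg, hd, map_mul, map_mul, LinearMap.aeval_self_charpoly, zero_mul, mul_zero]
  -- the transposed graphs
  have hgr : ∀ N : ℕ, ∃ j' : X ⟶ Q, j' ≫ p = Fpow F N ∧ j' ≫ q = 𝟙 X :=
    fun N => exists_lift p q hQ (Fpow F N) (𝟙 X)
  choose jN hjNp hjNq using hgr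
  have hclmem : ∀ N : ℕ, T.cl Q (WeilCoh.sm (jN N) η) ∈
      T.gr Q (2 * (WeilCoh.dim X.obj.left : ℤ)) := by
    intro N
    have hcod := codim_section (jN N) q (hjNq N) η
    rw [pdim_generic, hdimQ] at hcod
    have := T.cl_mem Q (WeilCoh.sm (jN N) η)
    convert this using 2
    rw [hcod]; push_cast; ring
  set u₀ : T.H Q := ∑ N ∈ Finset.range (g.natDegree + 1),
    g.coeff N • T.cl Q (WeilCoh.sm (jN N) η) with hu₀
  have hu₀mem : u₀ ∈ T.gr Q (2 * (WeilCoh.dim X.obj.left : ℤ)) :=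
    Submodule.sum_mem _ fun N _ => Submodule.smul_mem _ _ (hclmem N)
  have hu₀span : u₀ ∈ Submodule.span K (Set.range (T.cl Q)) :=
    Submodule.sum_mem _ fun N _ => Submodule.smul_mem _ _ (Submodule.subset_span ⟨_, rfl⟩)
  refine ⟨⟨u₀, hu₀mem⟩, hu₀span, ?_⟩
  intro j b
  -- the action of u₀ is g(F^*)
  have hact : (T.push q (j + 2 * (WeilCoh.dim X.obj.left : ℤ))
      ⟨T.pull p (b : T.H X) * u₀,
        SetLike.mul_mem_graded (T.pull_mem p j b b.2) hu₀mem⟩ : T.H X) =
      ((Polynomial.aeval (T.pullDeg F j) g) b : T.H X) := by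
    refine eq_of_forall_tr_mul_eq T _
      (2 * (WeilCoh.dim Q.obj.left : ℤ) - (j + 2 * (WeilCoh.dim X.obj.left : ℤ))) (by ring) _ _
      (T.push q _ _).2 ?_ ?_
    · have := ((Polynomial.aeval (T.pullDeg F j) g) b).2
      convert this using 2
      rw [hdimQ]; push_cast; ring
    · intro y hy
      rw [tr_push_mul T q _ _ y hy]
      show T.tr Q (T.pull p (b : T.H X) * u₀ * T.pull q y) = _
      have hy' : y ∈ T.gr X (2 * (WeilCoh.dim X.obj.left : ℤ) - j) := by
        convert hy using 2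
        rw [hdimQ]; push_cast; ring
      rw [hu₀, Finset.mul_sum, Finset.sum_mul, map_sum, Polynomial.aeval_eq_sum_range,
        LinearMap.sum_apply, Submodule.coe_sum, Finset.sum_mul, map_sum]
      refine Finset.sum_congr rfl fun N _ => ?_
      rw [mul_smul_comm, smul_mul_assoc, map_smul,
        tr_graph_transpose T p q hQ (Fpow F N) (jN N) (hjNp N) (hjNq N) j _ y b.2 hy',
        pull_Fpow T F j N b, LinearMap.smul_apply, Submodule.coe_smul, smul_mul_assoc, map_smul]
  rw [hact]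
  by_cases hji : j = i
  · subst hji
    rw [if_pos rfl, hgi]
    rfl
  · rw [if_neg hji]
    by_cases hj : j ∈ Finset.Icc (0 : ℤ) (2 * (WeilCoh.dim X.obj.left : ℤ))
    · rw [hgj j (Finset.mem_erase.mpr ⟨hji, hj⟩)]
      rfl
    · have hb0 : b = 0 := by
        apply Subtype.ext
        refine eq_zero_of_mem_of_lt T j (b : T.H X) b.2 ?_
        rw [Finset.mem_Icc] at hj
        by_contra h
        push Not at h
        exact hj ⟨h.1, h.2⟩
      rw [hb0, map_zero]
      rfl

end Groth.Agent.Lib.helper27.WC18
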