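import Mathlib
import Groth.Prelude.Def_WeilCoh
import Groth.Agent.Lib.Helper27.Fix3
import Groth.Agent.Lib.Helper27.WC11
import Groth.Agent.Lib.Helper27.WC18

/-!
# Helper library (helper27): the Lefschetz fixed point count for the powers of `Frob_X × id`.
-/

set_option autoImplicit false
set_option linter.style.haveILetI false
set_option linter.unusedSectionVars false
universe u v
open AlgebraicGeometry CategoryTheory Opposite TopologicalSpace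

namespace Groth.Agent.Lib.helper27.Fix4

open Groth.Agent.Lib.helper27 Groth.Agent.Lib.helper27.Frob1 Groth.Agent.Lib.helper27.Frob2
  Groth.Agent.Lib.helper27.Frob3

theorem pullDeg_Fpow {k : Type u} [Field k] [IsAlgClosed k] {K : Type v} [Field K] [CharZero K]
    (T : WeilCoh.Theory k K) {X : WeilCoh.Var k} (F : X ⟶ X) (i : ℤ) (m : ℕ) :
    T.pullDeg (WC18.Fpow F m) i = (T.pullDeg F i) ^ m := by
  ext b
  exact WC18.pull_Fpow T F i m b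

theorem sm_Fpow_zero {k : Type u} [Field k] {X : WeilCoh.Var k} (F : X ⟶ X) :
    WeilCoh.sm (WC18.Fpow F 0) = 𝟙 X.obj.left := rfl

theorem sm_Fpow_succ {k : Type u} [Field k] {X : WeilCoh.Var k} (F : X ⟶ X) (m : ℕ) :
    WeilCoh.sm (WC18.Fpow F (m + 1)) = WeilCoh.sm (WC18.Fpow F m) ≫ WeilCoh.sm F := rfl

/-- the powers of `Frob_X × id` are of the form (absolute Frobenius) ≫ (automorphism). -/
theorem exists_frob_form (k₀ : Type u) [Field k₀] [Finite k₀] (k : Type u) [Field k]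
    [PerfectField k] [Algebra k₀ k]
    {X : Scheme.{u}} (f : X ⟶ Spec (CommRingCat.of k₀))
    (FX : X ⟶ X) (hFb : FX.base = 𝟙 _) (hle : ∀ U : X.Opens, U ≤ FX ⁻¹ᵁ U)
    (hFapp : ∀ (U : X.Opens) (s : Γ(X, U)), (FX.appLE U U (hle U)).hom s = s ^ Nat.card k₀)
    (Xb : WeilCoh.Var k) (π : Xb.obj.left ⟶ X)
    (hπ : IsPullback π Xb.obj.hom f (Spec.map (CommRingCat.ofHom (algebraMap k₀ k))))
    (F : Xb ⟶ Xb) (hF : WeilCoh.sm F ≫ π = π ≫ FX) :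
    ∃ (p e : ℕ) (hp : p.Prime) (hY : ∀ U : Xb.obj.left.Opens, (p : Γ(Xb.obj.left, U)) = 0),
      1 ≤ e ∧ CharP k p ∧ ∀ m : ℕ, ∃ ρ : Xb.obj.left ⟶ Xb.obj.left,
        WeilCoh.sm (WC18.Fpow F m) = absFrob Xb.obj.left p hp hY (e * m) ≫ ρ := by
  have hFg : WeilCoh.sm F ≫ Xb.obj.hom = Xb.obj.hom := Over.w F.hom
  obtain ⟨p, e, hp, hY, σ, σ', hq, hchar, hσσ', hσ'σ, hFσ⟩ :=
    Frob9.exists_twist k₀ k f FX hFb hle hFapp Xb.obj.hom π hπ (WeilCoh.sm F) hFg hF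
  refine ⟨p, e, hp, hY, ?_, hchar, ?_⟩
  · by_contra h0
    have he0 : e = 0 := by omega
    rw [he0, pow_zero] at hq
    haveI := Fintype.ofFinite k₀
    have := Fintype.one_lt_card (α := k₀)
    rw [Nat.card_eq_fintype_card] at hq
    omega
  · intro m
    have hFeq : WeilCoh.sm F = absFrob Xb.obj.left p hp hY e ≫ σ' := by
      rw [← hFσ, Category.assoc, hσσ', Category.comp_id]
    exact Frob9.exists_pow_eq Xb.obj.left p hp hY (WeilCoh.sm F) e σ' hFeq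
      (fun m => WeilCoh.sm (WC18.Fpow F m)) (sm_Fpow_zero F) (sm_Fpow_succ F) m

/-- the hypotheses of the fixed point computation `Fix2.tr_graph_diag` hold for the positive
powers of `Frob_X × id`. -/
theorem hyps_Fpow (k₀ : Type u) [Field k₀] [Finite k₀] (k : Type u) [Field k] [IsAlgClosed k]
    [Algebra k₀ k]
    {X : Scheme.{u}} (f : X ⟶ Spec (CommRingCat.of k₀))
    (FX : X ⟶ X) (hFb : FX.base = 𝟙 _) (hle : ∀ U : X.Opens, U ≤ FX ⁻¹ᵁ U)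
    (hFapp : ∀ (U : X.Opens) (s : Γ(X, U)), (FX.appLE U U (hle U)).hom s = s ^ Nat.card k₀)
    (Xb : WeilCoh.Var k) (π : Xb.obj.left ⟶ X)
    (hπ : IsPullback π Xb.obj.hom f (Spec.map (CommRingCat.ofHom (algebraMap k₀ k))))
    (F : Xb ⟶ Xb) (hF : WeilCoh.sm F ≫ π = π ≫ FX) (m : ℕ) (hm : 1 ≤ m) :
    (∀ w : Xb.obj.left, WeilCoh.sm (WC18.Fpow F m) w = w →
      ∀ t ∈ IsLocalRing.maximalIdeal (Xb.obj.left.presheaf.stalk (WeilCoh.sm (WC18.Fpow F m) w)),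
        ((WeilCoh.sm (WC18.Fpow F m)).stalkMap w).hom t ∈
          (IsLocalRing.maximalIdeal (Xb.obj.left.presheaf.stalk w)) ^ 2) ∧
    (∀ w : Xb.obj.left, WeilCoh.sm (WC18.Fpow F m) w = w →
      (∀ (U : Xb.obj.left.Opens) (hwU : w ∈ U) (hφw : WeilCoh.sm (WC18.Fpow F m) w ∈ U)
        (s : Γ(Xb.obj.left, U)),
        (Xb.obj.left.residue w).hom (Xb.obj.left.presheaf.germ U w hwU s) =
          (Xb.obj.left.residue w).hom (((WeilCoh.sm (WC18.Fpow F m)).stalkMap w).hom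
            (Xb.obj.left.presheaf.germ U (WeilCoh.sm (WC18.Fpow F m) w) hφw s))) →
      WeilCoh.pdim Xb.obj.left w = 0) := by
  obtain ⟨p', e, hp, hY, he, hchar, hform⟩ :=
    exists_frob_form k₀ k f FX hFb hle hFapp Xb π hπ F hF
  obtain ⟨ρ, hρ⟩ := hform m
  haveI := hchar
  have hem : 1 ≤ e * m := Nat.mul_pos he hm
  exact ⟨fun w _ t ht => Fix3.Hm_of_frob Xb.obj.left p' hp hY (e * m) ρ _ hρ hem w t ht,
    fun w hfix hE => Fix3.pdim_zero_of_frob Xb p' hp hY (e * m) ρ _ hρ hem w hfix hE⟩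

theorem card_fix_eq (k₀ : Type u) [Field k₀] [Finite k₀] (k : Type u) [Field k] [IsAlgClosed k]
    [Algebra k₀ k] (K : Type v) [Field K] [CharZero K] (T : WeilCoh.Theory k K)
    {X : Scheme.{u}} (f : X ⟶ Spec (CommRingCat.of k₀))
    (FX : X ⟶ X) (hFb : FX.base = 𝟙 _) (hle : ∀ U : X.Opens, U ≤ FX ⁻¹ᵁ U)
    (hFapp : ∀ (U : X.Opens) (s : Γ(X, U)), (FX.appLE U U (hle U)).hom s = s ^ Nat.card k₀)
    (Xb : WeilCoh.Var k) (π : Xb.obj.left ⟶ X)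
    (hπ : IsPullback π Xb.obj.hom f (Spec.map (CommRingCat.ofHom (algebraMap k₀ k))))
    (F : Xb ⟶ Xb) (hF : WeilCoh.sm F ≫ π = π ≫ FX)
    (Pb : WeilCoh.Var k) (p q : Pb ⟶ Xb) (hP : WeilCoh.IsProd p q)
    (m : ℕ) (hm : 1 ≤ m) (j d : Xb ⟶ Pb)
    (hjp : j ≫ p = 𝟙 Xb) (hjq : j ≫ q = WC18.Fpow F m) (hdp : d ≫ p = 𝟙 Xb) (hdq : d ≫ q = 𝟙 Xb) :
    (Nat.card {w : Xb.obj.left // WeilCoh.sm j w = WeilCoh.sm d w} : K) =
      ∑ i ∈ Finset.range (2 * WeilCoh.dim Xb.obj.left + 1),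
        (-1 : K) ^ i * LinearMap.trace K ↥(T.gr Xb (i : ℤ)) ((T.pullDeg F (i : ℤ)) ^ m) := by
  haveI : IrreducibleSpace ↥Xb.obj.left := WC2.irred Xb
  obtain ⟨Hm, Hc⟩ := hyps_Fpow k₀ k f FX hFb hle hFapp Xb π hπ F hF m hm
  rw [← Fix2.tr_graph_diag T Xb Pb p q hP (WC18.Fpow F m) j d hjp hjq hdp hdq Hm Hc,
    WC11.lefschetz T Xb Pb (WC18.Fpow F m) p q hP j d hjp hjq hdp hdq]
  refine Finset.sum_congr rfl (fun i _ => ?_)
  rw [pullDeg_Fpow]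

end Groth.Agent.Lib.helper27.Fix4
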