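import Mathlib
import Groth.Prelude.Def_W4c1zetahwZeta
import Groth.Prelude.Def_SgaExt
import Groth.Agent.Lib.Helper27.Pts3

/-!
# Helper library (helper27): the number of points with values in a finite extension of a finite
field is `∑_{e ∣ r} e · #{closed points of degree e}`.
-/

set_option autoImplicit false
set_option linter.style.haveILetI false
set_option linter.unusedSectionVars false
universe u
open AlgebraicGeometry CategoryTheory Opposite TopologicalSpace

namespace Groth.Agent.Lib.helper27.Pts4

open Groth.Agent.Lib.helper27.Frob1 Groth.Agent.Lib.helper27.Pts1 Groth.Agent.Lib.helper27.Pts2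
  Groth.Agent.Lib.helper27.Pts3

/-- a sigma type with finitely many nonempty fibres. -/
theorem card_sigma_of_finite_support {α : Type*} (β : α → Type*) [∀ a, Finite (β a)]
    (S : Finset α) (hS : ∀ a, Nonempty (β a) → a ∈ S) :
    Nat.card (Σ a, β a) = ∑ a ∈ S, Nat.card (β a) := by
  classical
  let e : (Σ a, β a) ≃ Σ a : {a // a ∈ S}, β a.1 :=
    { toFun := fun σ => ⟨⟨σ.1, hS σ.1 ⟨σ.2⟩⟩, σ.2⟩
      invFun := fun τ => ⟨τ.1.1, τ.2⟩
      left_inv := fun _ => rfl
      right_inv := fun _ => rfl }
  rw [Nat.card_congr e, Nat.card_sigma]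
  exact Finset.sum_coe_sort S (fun a => Nat.card (β a))

variable {k₀ : Type u} [Field k₀] [Finite k₀] {X : Scheme.{u}} (f : X ⟶ Spec (CommRingCat.of k₀))
  [LocallyOfFiniteType f] [QuasiCompact f] (k' : Type u) [Field k'] [Algebra k₀ k'] [Finite k']

theorem pointCount_eq_nPts : SgaExt.pointCount f k' = Zeta.nPts f (Module.finrank k₀ k') := by
  classical
  have hr : 0 < Module.finrank k₀ k' := Module.finrank_pos
  haveI : ∀ x, Finite (Emb f k' x) := finite_emb f k'
  let S : Finset X := (finite_support f k').toFinset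
  have hS : ∀ x, x ∈ S ↔ EGA4loc.residueDegree f x ∣ Module.finrank k₀ k' := by
    intro x
    rw [Set.Finite.mem_toFinset, Set.mem_ofPred_eq, nonempty_emb_iff]
  rw [pointCount_eq, card_sigma_of_finite_support (Emb f k') S
    (fun x hx => (Set.Finite.mem_toFinset _).mpr hx)]
  have h1 : ∀ x ∈ S, Nat.card (Emb f k' x) = EGA4loc.residueDegree f x := by
    intro x hx
    rw [card_emb, if_pos ((hS x).mp hx)]
  rw [Finset.sum_congr rfl h1]
  have hmaps : ∀ x ∈ S, EGA4loc.residueDegree f x ∈ (Module.finrank k₀ k').divisors := by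
    intro x hx
    exact Nat.mem_divisors.mpr ⟨(hS x).mp hx, hr.ne'⟩
  rw [← Finset.sum_fiberwise_of_maps_to hmaps]
  unfold Zeta.nPts
  refine Finset.sum_congr rfl (fun e he => ?_)
  have hcard : Zeta.degCount f e =
      (S.filter (fun x => EGA4loc.residueDegree f x = e)).card := by
    unfold Zeta.degCount
    rw [← Nat.card_eq_finsetCard]
    refine Nat.card_congr (Equiv.subtypeEquivRight (fun x => ?_))
    rw [Finset.mem_filter, hS]
    constructor
    · rintro ⟨-, hx⟩
      exact ⟨hx ▸ (Nat.mem_divisors.mp he).1, hx⟩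
    · rintro ⟨hd, hx⟩
      refine ⟨isClosed_of_residueDegree_pos f x ?_, hx⟩
      rw [hx]
      exact Nat.pos_of_mem_divisors he
  rw [hcard, Finset.sum_congr rfl (fun x hx => (Finset.mem_filter.mp hx).2), Finset.sum_const,
    smul_eq_mul, mul_comm]

end Groth.Agent.Lib.helper27.Pts4
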