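import Mathlib
import Groth.Prelude.Def_W4c1zetahwZeta
import Groth.Prelude.Def_SgaExt
import Groth.Agent.Lib.Helper27.Pts4

/-!
# Helper library (helper27): the points of `X` with values in an algebraically closed field that are
fixed by a power of the Frobenius of the field are the points with values in the fixed subfield.
-/

set_option autoImplicit false
set_option linter.style.haveILetI false
set_option linter.unusedSectionVars false
universe u
open AlgebraicGeometry CategoryTheory Opposite TopologicalSpace Polynomial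

namespace Groth.Agent.Lib.helper27.Pts5

open Groth.Agent.Lib.helper27.Frob1 Groth.Agent.Lib.helper27.Pts1 Groth.Agent.Lib.helper27.Pts2
  Groth.Agent.Lib.helper27.Pts3 Groth.Agent.Lib.helper27.Pts4

section fixedField

variable (k₀ : Type u) [Field k₀] [Finite k₀] (k : Type u) [Field k] [Algebra k₀ k]
  (ψ : k →+* k) (hψ₀ : ∀ a : k₀, ψ (algebraMap k₀ k a) = algebraMap k₀ k a)

/-- the subfield of elements fixed by `ψ`, as an intermediate field. -/
def fixedField : IntermediateField k₀ k where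
  toSubalgebra :=
    { (ψ.eqLocusField (RingHom.id k)).toSubring.toSubsemiring with
      algebraMap_mem' := fun a => hψ₀ a }
  inv_mem' := fun _ hx => (ψ.eqLocusField (RingHom.id k)).inv_mem hx

theorem mem_fixedField (y : k) : y ∈ fixedField k₀ k ψ hψ₀ ↔ ψ y = y := Iff.rfl

variable (p N : ℕ) (hp : p.Prime) [CharP k p] (hN : 1 ≤ N) (hψ : ∀ y : k, ψ y = y ^ (p ^ N))

include hp hN hψ in
theorem fixedField_eq_rootSet :
    ((fixedField k₀ k ψ hψ₀ : IntermediateField k₀ k) : Set k) =
      (X ^ (p ^ N) - X : k[X]).rootSet k := by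
  have hne : (X ^ (p ^ N) - X : k[X]) ≠ 0 :=
    FiniteField.X_pow_card_pow_sub_X_ne_zero k (by omega) hp.one_lt
  ext y
  rw [Polynomial.mem_rootSet_of_ne hne]
  change ψ y = y ↔ _
  rw [hψ]
  simp [sub_eq_zero]

include hp hN hψ in
theorem finite_fixedField : Finite (fixedField k₀ k ψ hψ₀) := by
  have h := fixedField_eq_rootSet k₀ k ψ hψ₀ p N hp hN hψ
  have hfin : ((fixedField k₀ k ψ hψ₀ : IntermediateField k₀ k) : Set k).Finite := by
    rw [h]
    exact Polynomial.rootSet_finite _ _
  exact hfin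

include hp hN hψ in
theorem card_fixedField [IsAlgClosed k] : Nat.card (fixedField k₀ k ψ hψ₀) = p ^ N := by
  have h := fixedField_eq_rootSet k₀ k ψ hψ₀ p N hp hN hψ
  have hsep : (X ^ (p ^ N) - X : k[X]).Separable :=
    galois_poly_separable p (p ^ N) (dvd_pow_self p (by omega))
  have hcard := Polynomial.card_rootSet_eq_natDegree (K := k) hsep (IsAlgClosed.splits _)
  rw [FiniteField.X_pow_card_pow_sub_X_natDegree_eq k (by omega) hp.one_lt] at hcard
  rw [← hcard, ← Nat.card_eq_fintype_card]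
  exact Nat.card_congr (Equiv.setCongr h)

include hp hN hψ in
theorem finrank_fixedField [IsAlgClosed k] (m : ℕ) (hm : Nat.card k₀ ^ m = p ^ N) :
    Module.finrank k₀ (fixedField k₀ k ψ hψ₀) = m := by
  haveI := finite_fixedField k₀ k ψ hψ₀ p N hp hN hψ
  haveI := Fintype.ofFinite k₀
  haveI := Fintype.ofFinite (fixedField k₀ k ψ hψ₀)
  have h1 : Fintype.card (fixedField k₀ k ψ hψ₀) =
      Fintype.card k₀ ^ Module.finrank k₀ (fixedField k₀ k ψ hψ₀) := Module.card_eq_pow_finrank
  have h2 := card_fixedField k₀ k ψ hψ₀ p N hp hN hψ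
  rw [Nat.card_eq_fintype_card, h1, ← hm, Nat.card_eq_fintype_card] at h2
  exact Nat.pow_right_injective Fintype.one_lt_card h2

end fixedField


section pts

variable {k₀ : Type u} [Field k₀] {X : Scheme.{u}} (f : X ⟶ Spec (CommRingCat.of k₀))
  (k : Type u) [Field k] [Algebra k₀ k]

theorem specMap_comp_fromSpec_injective (x : X) (ι₁ ι₂ : X.residueField x ⟶ CommRingCat.of k)
    (h : Spec.map ι₁ ≫ X.fromSpecResidueField x = Spec.map ι₂ ≫ X.fromSpecResidueField x) :
    ι₁ = ι₂ := by
  have h2 : (Scheme.SpecToEquivOfField k X).symm ⟨x, ι₁⟩ =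
      (Scheme.SpecToEquivOfField k X).symm ⟨x, ι₂⟩ := h
  have h3 := (Scheme.SpecToEquivOfField k X).symm.injective h2
  exact eq_of_heq (Sigma.mk.inj h3).2

variable (ψ : k →+* k)

/-- the points fixed by `ψ`, as pairs. -/
noncomputable def fixedPtsEquiv :
    {a : Pts f k // Spec.map (CommRingCat.ofHom ψ) ≫ a.1 = a.1} ≃
      Σ x : X, {ι : Emb f k x // ι.1 ≫ CommRingCat.ofHom ψ = ι.1} :=
  (subtypeSigmaEquiv (ptsEquiv f k)
    (fun a => Spec.map (CommRingCat.ofHom ψ) ≫ a.1 = a.1)).trans
    (Equiv.sigmaCongrRight fun x => Equiv.subtypeEquivRight fun ι => by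
      rw [ptsEquiv_symm_apply, ← Category.assoc, ← Spec.map_comp]
      constructor
      · intro h
        exact specMap_comp_fromSpec_injective k x _ _ h
      · intro h
        rw [h])

variable (hψ₀ : ∀ a : k₀, ψ (algebraMap k₀ k a) = algebraMap k₀ k a)

/-- embeddings fixed by `ψ` are embeddings in the fixed field. -/
noncomputable def fixedEmbEquiv [Finite k₀] (x : X) :
    {ι : Emb f k x // ι.1 ≫ CommRingCat.ofHom ψ = ι.1} ≃ Emb f (fixedField k₀ k ψ hψ₀) x where
  toFun ι := ⟨CommRingCat.ofHom (RingHom.codRestrict ι.1.1.hom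
      (fixedField k₀ k ψ hψ₀).toSubalgebra.toSubring (fun z => by
        have := congrArg (fun φ => φ.hom z) ι.2
        exact this)), by
      ext a
      have := congrArg (fun φ => φ.hom a) ι.1.2
      exact this⟩
  invFun ι' := ⟨⟨ι'.1 ≫ CommRingCat.ofHom (fixedField k₀ k ψ hψ₀).val.toRingHom, by
      rw [← Category.assoc, ι'.2]
      rfl⟩, by
      ext z
      exact (ι'.1.hom z).2⟩
  left_inv ι := rfl
  right_inv ι' := rfl

end pts

section count

variable {k₀ : Type u} [Field k₀] [Finite k₀] {X : Scheme.{u}} (f : X ⟶ Spec (CommRingCat.of k₀))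
  [LocallyOfFiniteType f] [QuasiCompact f]
  (k : Type u) [Field k] [IsAlgClosed k] [Algebra k₀ k]
  (ψ : k →+* k) (p N : ℕ) (hp : p.Prime) [CharP k p] (hN : 1 ≤ N) (hψ : ∀ y : k, ψ y = y ^ (p ^ N))
  (m : ℕ) (hm : Nat.card k₀ ^ m = p ^ N)

include hp hN hψ hm in
theorem card_fixedPts :
    Nat.card {a : Pts f k // Spec.map (CommRingCat.ofHom ψ) ≫ a.1 = a.1} = Zeta.nPts f m := by
  have hψ₀ : ∀ a : k₀, ψ (algebraMap k₀ k a) = algebraMap k₀ k a := by
    intro a
    haveI := Fintype.ofFinite k₀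
    rw [hψ, ← hm, ← map_pow, Nat.card_eq_fintype_card, FiniteField.pow_card_pow]
  haveI := finite_fixedField k₀ k ψ hψ₀ p N hp hN hψ
  rw [Nat.card_congr (fixedPtsEquiv f k ψ),
    Nat.card_congr (Equiv.sigmaCongrRight (fixedEmbEquiv f k ψ hψ₀)),
    ← pointCount_eq, pointCount_eq_nPts, finrank_fixedField k₀ k ψ hψ₀ p N hp hN hψ m hm]

end count

end Groth.Agent.Lib.helper27.Pts5
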