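import Mathlib
import Groth.Prelude.Def_W4c1zetahwZeta
import Groth.Prelude.Def_SgaExt
import Groth.Agent.Lib.Helper27.Pts5

/-!
# Helper library (helper27): closed points of a base change `Y = X ×_{k₀} k` fixed by an endomorphism
`φ` covering an endomorphism of `X` that acts on `k`-points as a field endomorphism `ψ`, are the
`k`-points of `X` fixed by `ψ`.
-/

set_option autoImplicit false
set_option linter.style.haveILetI false
set_option linter.unusedSectionVars false
universe u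
open AlgebraicGeometry CategoryTheory Opposite TopologicalSpace

namespace Groth.Agent.Lib.helper27.Pts6

open Groth.Agent.Lib.helper27.Pts1 Groth.Agent.Lib.helper27.Pts5

variable {k₀ : Type u} [Field k₀] {k : Type u} [Field k] [IsAlgClosed k] [Algebra k₀ k]
  {X Y : Scheme.{u}} (f : X ⟶ Spec (CommRingCat.of k₀)) (g : Y ⟶ Spec (CommRingCat.of k))
  [LocallyOfFiniteType g] (π : Y ⟶ X)
  (hπ : IsPullback π g f (Spec.map (CommRingCat.ofHom (algebraMap k₀ k))))
  (φ : Y ⟶ Y) (hφg : φ ≫ g = g) (FXm : X ⟶ X) (hφπ : φ ≫ π = π ≫ FXm) (ψ : k →+* k)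
  (hFψ : ∀ a : Spec (CommRingCat.of k) ⟶ X, a ≫ FXm = Spec.map (CommRingCat.ofHom ψ) ≫ a)

include hπ in
/-- sections of `Y → Spec k` are `k`-points of `X` over `k₀`. -/
noncomputable def secEquivPts :
    {s : Spec (CommRingCat.of k) ⟶ Y // s ≫ g = 𝟙 _} ≃ Pts f k where
  toFun s := ⟨s.1 ≫ π, by rw [Category.assoc, hπ.w, ← Category.assoc, s.2, Category.id_comp]⟩
  invFun a := ⟨hπ.lift a.1 (𝟙 _) (by rw [a.2, Category.id_comp]), hπ.lift_snd _ _ _⟩
  left_inv s := by
    apply Subtype.ext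
    apply hπ.hom_ext
    · rw [hπ.lift_fst]
    · rw [hπ.lift_snd, s.2]
  right_inv a := by
    apply Subtype.ext
    exact hπ.lift_fst _ _ _

include hφg hφπ hFψ in
theorem fixed_iff (s : {s : Spec (CommRingCat.of k) ⟶ Y // s ≫ g = 𝟙 _}) :
    s.1 ≫ φ = s.1 ↔
      Spec.map (CommRingCat.ofHom ψ) ≫ (secEquivPts f g π hπ s).1 = (secEquivPts f g π hπ s).1 := by
  change _ ↔ Spec.map (CommRingCat.ofHom ψ) ≫ s.1 ≫ π = s.1 ≫ π
  rw [← hFψ, Category.assoc, ← hφπ]
  constructor
  · intro h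
    rw [← Category.assoc, h]
  · intro h
    apply hπ.hom_ext
    · rw [Category.assoc, h]
    · rw [Category.assoc, hφg]

include hφg in
theorem sec_fixed_iff (s : {s : Spec (CommRingCat.of k) ⟶ Y // s ≫ g = 𝟙 _}) :
    s.1 ≫ φ = s.1 ↔ φ ((pointEquivClosedPoint g s).1) = (pointEquivClosedPoint g s).1 := by
  constructor
  · intro h
    have := congrArg (fun t : Spec (CommRingCat.of k) ⟶ Y => t (IsLocalRing.closedPoint k)) h
    exact this
  · intro h
    refine ext_of_apply_closedPoint_eq g ?_ s.2 h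
    rw [Category.assoc, hφg, s.2]

include hπ hφg hφπ hFψ in
theorem card_closed_fixed :
    Nat.card {w : Y // IsClosed ({w} : Set Y) ∧ φ w = w} =
      Nat.card {a : Pts f k // Spec.map (CommRingCat.ofHom ψ) ≫ a.1 = a.1} := by
  let e1 : {w : Y // IsClosed ({w} : Set Y) ∧ φ w = w} ≃
      {w : closedPoints Y // φ w.1 = w.1} :=
    { toFun := fun w => ⟨⟨w.1, w.2.1⟩, w.2.2⟩
      invFun := fun w => ⟨w.1.1, w.1.2, w.2⟩
      left_inv := fun _ => rfl
      right_inv := fun _ => rfl }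
  let e2 : {s : {s : Spec (CommRingCat.of k) ⟶ Y // s ≫ g = 𝟙 _} // s.1 ≫ φ = s.1} ≃
      {w : closedPoints Y // φ w.1 = w.1} :=
    Equiv.subtypeEquiv (pointEquivClosedPoint g) (fun s => sec_fixed_iff g φ hφg s)
  let e3 : {s : {s : Spec (CommRingCat.of k) ⟶ Y // s ≫ g = 𝟙 _} // s.1 ≫ φ = s.1} ≃
      {a : Pts f k // Spec.map (CommRingCat.ofHom ψ) ≫ a.1 = a.1} :=
    Equiv.subtypeEquiv (secEquivPts f g π hπ)
      (fun s => fixed_iff f g π hπ φ hφg FXm hφπ ψ hFψ s)
  exact Nat.card_congr (e1.trans (e2.symm.trans e3))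

end Groth.Agent.Lib.helper27.Pts6
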