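import Mathlib
import Groth.Prelude.Def_WeilCoh
import Groth.Prelude.Def_W4c1zetahwZeta
import Groth.Agent.Lib.Helper27.Fix4
import Groth.Agent.Lib.Helper27.Pts6

/-!
# Helper library (helper27): the number of fixed points of the `m`-th power of `Frob_X × id` is
`N_m = Zeta.nPts f m`; Lefschetz trace formula for `N_m`.
-/

set_option autoImplicit false
set_option linter.style.haveILetI false
set_option linter.unusedSectionVars false
universe u v
open AlgebraicGeometry CategoryTheory Opposite TopologicalSpace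

namespace Groth.Agent.Lib.helper27.Fix5

open Groth.Agent.Lib.helper27 Groth.Agent.Lib.helper27.Frob1 Groth.Agent.Lib.helper27.Frob2
  Groth.Agent.Lib.helper27.Frob3 Groth.Agent.Lib.helper27.Frob4 Groth.Agent.Lib.helper27.Frob9

/-- the number of closed points of `X ×_{k₀} k` fixed by the `m`-th power of `Frob_X × id`. -/
theorem card_closed_fixed_eq_nPts (k₀ : Type u) [Field k₀] [Finite k₀] (k : Type u) [Field k]
    [IsAlgClosed k] [Algebra k₀ k]
    {X : Scheme.{u}} (f : X ⟶ Spec (CommRingCat.of k₀)) [LocallyOfFiniteType f] [QuasiCompact f]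
    (FX : X ⟶ X) (hFb : FX.base = 𝟙 _) (hle : ∀ U : X.Opens, U ≤ FX ⁻¹ᵁ U)
    (hFapp : ∀ (U : X.Opens) (s : Γ(X, U)), (FX.appLE U U (hle U)).hom s = s ^ Nat.card k₀)
    (Xb : WeilCoh.Var k) (π : Xb.obj.left ⟶ X)
    (hπ : IsPullback π Xb.obj.hom f (Spec.map (CommRingCat.ofHom (algebraMap k₀ k))))
    (F : Xb ⟶ Xb) (hF : WeilCoh.sm F ≫ π = π ≫ FX) (m : ℕ) (hm : 1 ≤ m) :
    Nat.card {w : Xb.obj.left // IsClosed ({w} : Set Xb.obj.left) ∧
        WeilCoh.sm (WC18.Fpow F m) w = w} = Zeta.nPts f m := by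
  obtain ⟨p, e, hp, hchar, hq⟩ := exists_char k₀
  haveI := hchar
  haveI : CharP k p := charP_of_injective_algebraMap (algebraMap k₀ k).injective p
  have he : 1 ≤ e := by
    by_contra h0
    have he0 : e = 0 := by omega
    rw [he0, pow_zero] at hq
    haveI := Fintype.ofFinite k₀
    have := Fintype.one_lt_card (α := k₀)
    rw [Nat.card_eq_fintype_card] at hq
    omega
  have hk₀0 : (p : (CommRingCat.of k₀ : CommRingCat)) = 0 := CharP.cast_eq_zero k₀ p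
  have hk0 : (p : (CommRingCat.of k : CommRingCat)) = 0 := CharP.cast_eq_zero k p
  have hS₀ := char_Spec (CommRingCat.of k₀) p hk₀0
  have hS := char_Spec (CommRingCat.of k) p hk0
  have hX : ∀ U : X.Opens, (p : Γ(X, U)) = 0 := char_of_hom f p (hS₀ ⊤)
  have hFX : FX = absFrob X p hp hX e := eq_absFrob p hp hX e FX hFb hle (by
    intro U s
    rw [hFapp U s, hq])
  have hφπ : ∀ n : ℕ, WeilCoh.sm (WC18.Fpow F n) ≫ π = π ≫ absFrob X p hp hX (e * n) := by
    intro n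
    induction n with
    | zero =>
      rw [Fix4.sm_Fpow_zero, Category.id_comp, Nat.mul_zero, absFrob_zero, Category.comp_id]
    | succ n ih =>
      rw [Fix4.sm_Fpow_succ, Category.assoc, hF, ← Category.assoc, ih, Category.assoc, hFX,
        absFrob_comp, Nat.mul_succ]
  have hφg : WeilCoh.sm (WC18.Fpow F m) ≫ Xb.obj.hom = Xb.obj.hom := Over.w (WC18.Fpow F m).hom
  let ψ : k →+* k := powHom (CommRingCat.of k) p hp hk0 (e * m)
  have hFψ : ∀ a : Spec (CommRingCat.of k) ⟶ X,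
      a ≫ absFrob X p hp hX (e * m) = Spec.map (CommRingCat.ofHom ψ) ≫ a := by
    intro a
    rw [← absFrob_naturality a p hp hS hX (e * m),
      absFrob_Spec (CommRingCat.of k) p hp hk0 hS (e * m)]
  haveI : LocallyOfFiniteType Xb.obj.hom := WC2.lft Xb
  rw [Pts6.card_closed_fixed f Xb.obj.hom π hπ (WeilCoh.sm (WC18.Fpow F m)) hφg
    (absFrob X p hp hX (e * m)) (hφπ m) ψ hFψ]
  exact Pts5.card_fixedPts f k ψ p (e * m) hp (Nat.mul_pos he hm) (fun y => rfl) m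
    (by rw [hq, pow_mul])

/-- the coincidence locus of the graph of `F^m` and the diagonal has `N_m` points. -/
theorem card_coincidence_eq_nPts (k₀ : Type u) [Field k₀] [Finite k₀] (k : Type u) [Field k]
    [IsAlgClosed k] [Algebra k₀ k]
    {X : Scheme.{u}} (f : X ⟶ Spec (CommRingCat.of k₀)) [LocallyOfFiniteType f] [QuasiCompact f]
    (FX : X ⟶ X) (hFb : FX.base = 𝟙 _) (hle : ∀ U : X.Opens, U ≤ FX ⁻¹ᵁ U)
    (hFapp : ∀ (U : X.Opens) (s : Γ(X, U)), (FX.appLE U U (hle U)).hom s = s ^ Nat.card k₀)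
    (Xb : WeilCoh.Var k) (π : Xb.obj.left ⟶ X)
    (hπ : IsPullback π Xb.obj.hom f (Spec.map (CommRingCat.ofHom (algebraMap k₀ k))))
    (F : Xb ⟶ Xb) (hF : WeilCoh.sm F ≫ π = π ≫ FX)
    (Pb : WeilCoh.Var k) (p q : Pb ⟶ Xb) (hP : WeilCoh.IsProd p q)
    (m : ℕ) (hm : 1 ≤ m) (j d : Xb ⟶ Pb)
    (hjp : j ≫ p = 𝟙 Xb) (hjq : j ≫ q = WC18.Fpow F m) (hdp : d ≫ p = 𝟙 Xb) (hdq : d ≫ q = 𝟙 Xb) :
    Nat.card {w : Xb.obj.left // WeilCoh.sm j w = WeilCoh.sm d w} = Zeta.nPts f m := by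
  haveI : IrreducibleSpace ↥Xb.obj.left := WC2.irred Xb
  haveI : LocallyOfFiniteType Xb.obj.hom := WC2.lft Xb
  obtain ⟨Hm, Hc⟩ := Fix4.hyps_Fpow k₀ k f FX hFb hle hFapp Xb π hπ F hF m hm
  rw [← card_closed_fixed_eq_nPts k₀ k f FX hFb hle hFapp Xb π hπ F hF m hm]
  refine Nat.card_congr (Equiv.subtypeEquivRight (fun w => ?_))
  constructor
  · intro h
    exact ⟨Fix2.isClosed_of_eq Xb Pb p q (WC18.Fpow F m) j d hjp hjq hdp hdq Hc w h,
      Fix2.fixed_of_eq q (WC18.Fpow F m) j d hjq hdq w h⟩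
  · rintro ⟨hcl, hfix⟩
    have hφg : WeilCoh.sm (WC18.Fpow F m) ≫ Xb.obj.hom = Xb.obj.hom :=
      Over.w (WC18.Fpow F m).hom
    let s := pointOfClosedPoint Xb.obj.hom w hcl
    have hs : s ≫ Xb.obj.hom = 𝟙 _ := pointOfClosedPoint_comp Xb.obj.hom w hcl
    have hsw : ∀ a, s a = w := pointOfClosedPoint_apply Xb.obj.hom w hcl
    have hsφ : s ≫ WeilCoh.sm (WC18.Fpow F m) = s := by
      refine ext_of_apply_closedPoint_eq Xb.obj.hom ?_ hs ?_
      · rw [Category.assoc, hφg, hs]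
      · change WeilCoh.sm (WC18.Fpow F m) (s _) = s _
        rw [hsw, hfix]
    have hjd : s ≫ WeilCoh.sm j = s ≫ WeilCoh.sm d := by
      have e1 : WeilCoh.sm j ≫ WeilCoh.sm p = 𝟙 _ := congrArg (fun t => WeilCoh.sm t) hjp
      have e2 : WeilCoh.sm j ≫ WeilCoh.sm q = WeilCoh.sm (WC18.Fpow F m) :=
        congrArg (fun t => WeilCoh.sm t) hjq
      have e3 : WeilCoh.sm d ≫ WeilCoh.sm p = 𝟙 _ := congrArg (fun t => WeilCoh.sm t) hdp
      have e4 : WeilCoh.sm d ≫ WeilCoh.sm q = 𝟙 _ := congrArg (fun t => WeilCoh.sm t) hdq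
      apply hP.hom_ext
      · rw [Category.assoc, Category.assoc, e1, e3]
      · rw [Category.assoc, Category.assoc, e2, e4, hsφ, Category.comp_id]
    have := congrArg (fun t : Spec (CommRingCat.of k) ⟶ Pb.obj.left =>
      t (IsLocalRing.closedPoint k)) hjd
    change WeilCoh.sm j (s _) = WeilCoh.sm d (s _) at this
    rwa [hsw] at this

/-- **Lefschetz trace formula for `N_m`**. -/
theorem nPts_eq_sum_trace (k₀ : Type u) [Field k₀] [Finite k₀] (k : Type u) [Field k]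
    [IsAlgClosed k] [Algebra k₀ k] (K : Type v) [Field K] [CharZero K] (T : WeilCoh.Theory k K)
    {X : Scheme.{u}} (f : X ⟶ Spec (CommRingCat.of k₀)) [LocallyOfFiniteType f] [QuasiCompact f]
    (FX : X ⟶ X) (hFb : FX.base = 𝟙 _) (hle : ∀ U : X.Opens, U ≤ FX ⁻¹ᵁ U)
    (hFapp : ∀ (U : X.Opens) (s : Γ(X, U)), (FX.appLE U U (hle U)).hom s = s ^ Nat.card k₀)
    (Xb : WeilCoh.Var k) (π : Xb.obj.left ⟶ X)
    (hπ : IsPullback π Xb.obj.hom f (Spec.map (CommRingCat.ofHom (algebraMap k₀ k))))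
    (F : Xb ⟶ Xb) (hF : WeilCoh.sm F ≫ π = π ≫ FX)
    (Pb : WeilCoh.Var k) (p q : Pb ⟶ Xb) (hP : WeilCoh.IsProd p q)
    (m : ℕ) (hm : 1 ≤ m) :
    (Zeta.nPts f m : K) =
      ∑ i ∈ Finset.range (2 * WeilCoh.dim Xb.obj.left + 1),
        (-1 : K) ^ i * LinearMap.trace K ↥(T.gr Xb (i : ℤ)) ((T.pullDeg F (i : ℤ)) ^ m) := by
  obtain ⟨j, hjp, hjq⟩ := WC18.exists_lift p q hP (𝟙 Xb) (WC18.Fpow F m)
  obtain ⟨d, hdp, hdq⟩ := WC18.exists_lift p q hP (𝟙 Xb) (𝟙 Xb)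
  rw [← card_coincidence_eq_nPts k₀ k f FX hFb hle hFapp Xb π hπ F hF Pb p q hP m hm j d
    hjp hjq hdp hdq]
  exact Fix4.card_fix_eq k₀ k K T f FX hFb hle hFapp Xb π hπ F hF Pb p q hP m hm j d
    hjp hjq hdp hdq

end Groth.Agent.Lib.helper27.Fix5
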