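import Mathlib
import Groth.Prelude.Def_FinFr
import Groth.Agent.Lib.Helper27.Frob4

/-!
# Helper library (helper27): the fixed-point scheme of `Frob_X × id` on `X ×_{k₀} k` is reduced.
-/

set_option autoImplicit false
set_option linter.style.haveILetI false
set_option linter.unusedSectionVars false
universe u
open AlgebraicGeometry CategoryTheory Opposite TopologicalSpace Limits

namespace Groth.Agent.Lib.helper27.FixRed1

open Groth.Agent.Lib.helper27.Frob1 Groth.Agent.Lib.helper27.Frob2 Groth.Agent.Lib.helper27.Frob3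
  Groth.Agent.Lib.helper27.Frob4

/-- `Frob_X × id` is the absolute Frobenius up to an automorphism. -/
theorem exists_decomp (k₀ : Type u) [Field k₀] [Finite k₀] (k : Type u) [Field k] [PerfectField k]
    [Algebra k₀ k] {X : Scheme.{u}} (f : X ⟶ Spec (CommRingCat.of k₀))
    (FX : X ⟶ X) (hFb : FX.base = 𝟙 _) (hle : ∀ U : X.Opens, U ≤ FX ⁻¹ᵁ U)
    (hFapp : ∀ (U : X.Opens) (s : Γ(X, U)), (FX.appLE U U (hle U)).hom s = s ^ Nat.card k₀)
    {Y : Scheme.{u}} (g : Y ⟶ Spec (CommRingCat.of k))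
    (π : Y ⟶ X) (hπ : IsPullback π g f (Spec.map (CommRingCat.ofHom (algebraMap k₀ k))))
    (F : Y ⟶ Y) (hFg : F ≫ g = g) (hF : F ≫ π = π ≫ FX) :
    ∃ (p e : ℕ) (hp : p.Prime) (hX : ∀ U : X.Opens, (p : Γ(X, U)) = 0)
      (hY : ∀ U : Y.Opens, (p : Γ(Y, U)) = 0) (σ σ' : Y ⟶ Y),
      Nat.card k₀ = p ^ e ∧ FX = absFrob X p hp hX e ∧ σ ≫ σ' = 𝟙 Y ∧ σ' ≫ σ = 𝟙 Y ∧
        F ≫ σ = absFrob Y p hp hY e := by
  obtain ⟨p, e, hp, hchar, hq⟩ := exists_char k₀
  haveI := hchar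
  haveI : CharP k p := charP_of_injective_algebraMap (algebraMap k₀ k).injective p
  haveI := Fact.mk hp
  haveI : ExpChar k p := ExpChar.prime hp
  have hk₀0 : (p : (CommRingCat.of k₀ : CommRingCat)) = 0 := CharP.cast_eq_zero k₀ p
  have hk0 : (p : (CommRingCat.of k : CommRingCat)) = 0 := CharP.cast_eq_zero k p
  have hS₀ := char_Spec (CommRingCat.of k₀) p hk₀0
  have hS := char_Spec (CommRingCat.of k) p hk0
  have hX : ∀ U : X.Opens, (p : Γ(X, U)) = 0 := char_of_hom f p (hS₀ ⊤)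
  have hY : ∀ U : Y.Opens, (p : Γ(Y, U)) = 0 := char_of_hom g p (hS ⊤)
  have hFX : FX = absFrob X p hp hX e := eq_absFrob p hp hX e FX hFb hle (by
    intro U s
    rw [hFapp U s, hq])
  let φ : k →+* k := powHom (CommRingCat.of k) p hp hk0 e
  let s : Spec (CommRingCat.of k) ⟶ Spec (CommRingCat.of k) := Spec.map (CommRingCat.ofHom φ)
  have hAFg : absFrob Y p hp hY e ≫ g = g ≫ s := by
    rw [absFrob_naturality g p hp hY hS e, absFrob_Spec (CommRingCat.of k) p hp hk0 hS e]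
  have hAFπ : absFrob Y p hp hY e ≫ π = π ≫ FX := by
    rw [absFrob_naturality π p hp hY hX e, hFX]
  have hφ : φ = iterateFrobenius k p e := by
    ext x
    rfl
  let ψ : k →+* k := ((iterateFrobeniusEquiv k p e).symm : k ≃+* k).toRingHom
  have hφψ : φ.comp ψ = RingHom.id k := by
    ext x
    rw [hφ]
    exact (iterateFrobeniusEquiv k p e).apply_symm_apply x
  have hψφ : ψ.comp φ = RingHom.id k := by
    ext x
    rw [hφ]
    exact (iterateFrobeniusEquiv k p e).symm_apply_apply x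
  let s' : Spec (CommRingCat.of k) ⟶ Spec (CommRingCat.of k) := Spec.map (CommRingCat.ofHom ψ)
  have hss' : s ≫ s' = 𝟙 _ := by
    rw [← Spec.map_comp, ← CommRingCat.ofHom_comp, hφψ]
    exact Spec.map_id _
  have hs's : s' ≫ s = 𝟙 _ := by
    rw [← Spec.map_comp, ← CommRingCat.ofHom_comp, hψφ]
    exact Spec.map_id _
  have hsa : s ≫ Spec.map (CommRingCat.ofHom (algebraMap k₀ k)) =
      Spec.map (CommRingCat.ofHom (algebraMap k₀ k)) := by
    rw [← Spec.map_comp, ← CommRingCat.ofHom_comp]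
    congr 2
    ext a
    change (algebraMap k₀ k a) ^ (p ^ e) = algebraMap k₀ k a
    rw [← map_pow, ← hq, pow_card_eq]
  have hs'a : s' ≫ Spec.map (CommRingCat.ofHom (algebraMap k₀ k)) =
      Spec.map (CommRingCat.ofHom (algebraMap k₀ k)) := by
    conv_lhs => rw [← hsa, ← Category.assoc, hs's, Category.id_comp]
  let σ : Y ⟶ Y := hπ.lift π (g ≫ s) (by rw [Category.assoc, hsa]; exact hπ.w)
  let σ' : Y ⟶ Y := hπ.lift π (g ≫ s') (by rw [Category.assoc, hs'a]; exact hπ.w)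
  have hσπ : σ ≫ π = π := hπ.lift_fst _ _ _
  have hσg : σ ≫ g = g ≫ s := hπ.lift_snd _ _ _
  have hσ'π : σ' ≫ π = π := hπ.lift_fst _ _ _
  have hσ'g : σ' ≫ g = g ≫ s' := hπ.lift_snd _ _ _
  have hσσ' : σ ≫ σ' = 𝟙 Y := hπ.hom_ext (by rw [Category.assoc, hσ'π, hσπ, Category.id_comp])
    (by rw [Category.assoc, hσ'g, ← Category.assoc, hσg, Category.assoc, hss', Category.comp_id,
      Category.id_comp])
  have hσ'σ : σ' ≫ σ = 𝟙 Y := hπ.hom_ext (by rw [Category.assoc, hσπ, hσ'π, Category.id_comp])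
    (by rw [Category.assoc, hσg, ← Category.assoc, hσ'g, Category.assoc, hs's, Category.comp_id,
      Category.id_comp])
  have hFσ : F ≫ σ = absFrob Y p hp hY e := hπ.hom_ext
    (by rw [Category.assoc, hσπ, hF, hAFπ])
    (by rw [Category.assoc, hσg, ← Category.assoc, hFg, hAFg])
  exact ⟨p, e, hp, hX, hY, σ, σ', hq, hFX, hσσ', hσ'σ, hFσ⟩

section fix

variable {k : Type u} [Field k] {Y : Scheme.{u}} (g : Y ⟶ Spec (CommRingCat.of k)) (F : Y ⟶ Y)
  (hF : F ≫ g = g)

/-- the inclusion of the fixed-point scheme. -/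
noncomputable def fixι : FinFr.fixScheme g F hF ⟶ Y :=
  pullback.fst (pullback.lift (𝟙 Y) F (by rw [hF, Category.id_comp]) : Y ⟶ pullback g g)
    (pullback.lift (𝟙 Y) (𝟙 Y) rfl : Y ⟶ pullback g g)

theorem fixι_comp : fixι g F hF ≫ F = fixι g F hF := by
  have hc := pullback.condition
    (f := (pullback.lift (𝟙 Y) F (by rw [hF, Category.id_comp]) : Y ⟶ pullback g g))
    (g := (pullback.lift (𝟙 Y) (𝟙 Y) rfl : Y ⟶ pullback g g))
  have h1 := congrArg (fun t => t ≫ pullback.fst g g) hc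
  have h2 := congrArg (fun t => t ≫ pullback.snd g g) hc
  simp only [Category.assoc, pullback.lift_fst, pullback.lift_snd, Category.comp_id] at h1 h2
  change pullback.fst _ _ ≫ F = pullback.fst _ _
  rw [h2, h1]

instance : Mono (fixι g F hF) := by
  haveI : Mono (pullback.lift (𝟙 Y) (𝟙 Y) rfl : Y ⟶ pullback g g) :=
    mono_of_mono_fac (pullback.lift_fst _ _ _ : _ ≫ pullback.fst g g = 𝟙 Y)
  unfold fixι
  exact pullback.fst_of_mono

/-- maps equalizing `F` and the identity factor through the fixed-point scheme. -/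
noncomputable def fixLift {T : Scheme.{u}} (t : T ⟶ Y) (ht : t ≫ F = t) :
    T ⟶ FinFr.fixScheme g F hF :=
  pullback.lift t t (by
    apply pullback.hom_ext
    · simp only [Category.assoc, pullback.lift_fst]
    · simp only [Category.assoc, pullback.lift_snd, Category.comp_id, ht])

theorem fixLift_ι {T : Scheme.{u}} (t : T ⟶ Y) (ht : t ≫ F = t) :
    fixLift g F hF t ht ≫ fixι g F hF = t :=
  pullback.lift_fst _ _ _

end fix

/-- the fixed-point scheme of `Frob_X × id` is reduced. -/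
theorem isReduced_fixScheme (k₀ : Type u) [Field k₀] [Finite k₀] (k : Type u) [Field k]
    [PerfectField k] [Algebra k₀ k] {X : Scheme.{u}} (f : X ⟶ Spec (CommRingCat.of k₀))
    (FX : X ⟶ X) (hFb : FX.base = 𝟙 _) (hle : ∀ U : X.Opens, U ≤ FX ⁻¹ᵁ U)
    (hFapp : ∀ (U : X.Opens) (s : Γ(X, U)), (FX.appLE U U (hle U)).hom s = s ^ Nat.card k₀)
    {Y : Scheme.{u}} (g : Y ⟶ Spec (CommRingCat.of k))
    (π : Y ⟶ X) (hπ : IsPullback π g f (Spec.map (CommRingCat.ofHom (algebraMap k₀ k))))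
    (F : Y ⟶ Y) (hFg : F ≫ g = g) (hF : F ≫ π = π ≫ FX) :
    IsReduced (FinFr.fixScheme g F hFg) := by
  obtain ⟨p, e, hp, hX, hY, σ, σ', hq, hFX, hσσ', hσ'σ, hFσ⟩ :=
    exists_decomp k₀ k f FX hFb hle hFapp g π hπ F hFg hF
  have hZ : ∀ U : (FinFr.fixScheme g F hFg).Opens, (p : Γ(FinFr.fixScheme g F hFg, U)) = 0 :=
    char_of_hom (fixι g F hFg) p (hY ⊤)
  have hnat : absFrob _ p hp hZ e ≫ fixι g F hFg = fixι g F hFg ≫ absFrob Y p hp hY e :=
    absFrob_naturality (fixι g F hFg) p hp hZ hY e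
  have hσFr : absFrob Y p hp hY e ≫ σ = σ ≫ absFrob Y p hp hY e :=
    absFrob_naturality σ p hp hY hY e
  have hσ'Fr : absFrob Y p hp hY e ≫ σ' = σ' ≫ absFrob Y p hp hY e :=
    absFrob_naturality σ' p hp hY hY e
  have hF' : F = absFrob Y p hp hY e ≫ σ' := by
    rw [← hFσ, Category.assoc, hσσ', Category.comp_id]
  have hiσ : fixι g F hFg ≫ σ = fixι g F hFg ≫ absFrob Y p hp hY e := by
    rw [← hFσ, ← Category.assoc, fixι_comp]
  have hσ'F : σ' ≫ F = F ≫ σ' :=
    calc σ' ≫ F = σ' ≫ (absFrob Y p hp hY e ≫ σ') := congrArg (fun t => σ' ≫ t) hF'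
      _ = (σ' ≫ absFrob Y p hp hY e) ≫ σ' := (Category.assoc _ _ _).symm
      _ = (absFrob Y p hp hY e ≫ σ') ≫ σ' := by rw [hσ'Fr]
      _ = F ≫ σ' := congrArg (fun t => t ≫ σ') hF'.symm
  have hT : (fixι g F hFg ≫ σ') ≫ F = fixι g F hFg ≫ σ' := by
    rw [Category.assoc, hσ'F, ← Category.assoc, fixι_comp]
  let T' := fixLift g F hFg (fixι g F hFg ≫ σ') hT
  have hT'ι : T' ≫ fixι g F hFg = fixι g F hFg ≫ σ' := fixLift_ι g F hFg _ hT
  have h1 : absFrob _ p hp hZ e ≫ T' = 𝟙 _ := by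
    rw [← cancel_mono (fixι g F hFg), Category.assoc, hT'ι, ← Category.assoc, hnat, ← hiσ,
      Category.assoc, hσσ', Category.comp_id, Category.id_comp]
  have h2 : T' ≫ absFrob _ p hp hZ e = 𝟙 _ := by
    rw [← cancel_mono (fixι g F hFg), Category.assoc, hnat, ← hiσ, ← Category.assoc, hT'ι,
      Category.assoc, hσ'σ, Category.comp_id, Category.id_comp]
  haveI : IsIso (absFrob (FinFr.fixScheme g F hFg) p hp hZ e) := ⟨T', h1, h2⟩
  have hq2 : 1 < p ^ e := by
    rw [← hq]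
    exact Finite.one_lt_card
  refine ⟨fun U => ?_⟩
  rw [isReduced_iff_pow_one_lt (p ^ e) hq2]
  intro s hs
  have hinj : Function.Injective ((absFrob (FinFr.fixScheme g F hFg) p hp hZ e).app U).hom :=
    ((ConcreteCategory.isIso_iff_bijective _).mp inferInstance).1
  apply hinj
  rw [map_zero]
  exact hs

end Groth.Agent.Lib.helper27.FixRed1
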