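import Mathlib
import Groth.Prelude.Def_FinFr
import Groth.Agent.Lib.Helper27.FixRed1
import Groth.Agent.Lib.Helper27.Pts3

/-!
# Helper library (helper27): the fixed-point scheme of `Frob_X × id` on `X ×_{k₀} k` is finite.
-/

set_option autoImplicit false
set_option linter.style.haveILetI false
set_option linter.unusedSectionVars false
universe u
open AlgebraicGeometry CategoryTheory Opposite TopologicalSpace Limits

namespace Groth.Agent.Lib.helper27.FixRed2

open Groth.Agent.Lib.helper27.Frob1 Groth.Agent.Lib.helper27.Frob2 Groth.Agent.Lib.helper27.Frob3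
  Groth.Agent.Lib.helper27.Frob4 Groth.Agent.Lib.helper27.FixRed1 Groth.Agent.Lib.helper27.Pts1
  Groth.Agent.Lib.helper27.Pts3

/-- the spectrum of a ring isomorphic to a field is a subsingleton. -/
theorem subsingleton_spec_of_iso (R K : CommRingCat.{u}) (hK : IsField K) (e : K ≅ R) :
    Subsingleton (Spec R) := by
  have hunit : ∀ x : R, x ≠ 0 → IsUnit x := by
    intro x hx
    have hx' : e.inv.hom x ≠ 0 := by
      intro h0
      apply hx
      have := congrArg e.hom.hom h0
      rw [map_zero] at this
      rw [← this]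
      exact (congrArg (fun φ => φ.hom x) e.inv_hom_id).symm
    obtain ⟨y, hy⟩ := hK.mul_inv_cancel hx'
    have hu : IsUnit (e.inv.hom x) := IsUnit.of_mul_eq_one y hy
    have := hu.map e.hom.hom
    have hxe : e.hom.hom (e.inv.hom x) = x := congrArg (fun φ => φ.hom x) e.inv_hom_id
    rwa [hxe] at this
  refine ⟨fun P Q => ?_⟩
  have hbot : ∀ P : PrimeSpectrum R, P.asIdeal = ⊥ := by
    intro P
    rw [eq_bot_iff]
    intro x hx
    by_contra hx0
    exact P.2.ne_top (Ideal.eq_top_of_isUnit_mem _ hx (hunit x hx0))
  exact PrimeSpectrum.ext ((hbot P).trans (hbot Q).symm)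

/-- two points of a fibre product with the same projections coincide when the residue field
extension on one side is trivial. -/
theorem eq_of_proj_eq {X Y S : Scheme.{u}} (f : X ⟶ S) (g : Y ⟶ S) (t₁ t₂ : ↑(pullback f g))
    (h1 : pullback.fst f g t₁ = pullback.fst f g t₂)
    (h2 : pullback.snd f g t₁ = pullback.snd f g t₂)
    (hiso : IsIso (f.residueFieldMap (pullback.fst f g t₂))) : t₁ = t₂ := by
  apply (Scheme.Pullback.carrierEquiv (f := f) (g := g)).injective
  rw [Scheme.Pullback.carrierEquiv_eq_iff]
  have hT : (Scheme.Pullback.carrierEquiv t₁).1 = (Scheme.Pullback.carrierEquiv t₂).1 :=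
    Scheme.Pullback.Triplet.ext h1 h2
  refine ⟨hT, ?_⟩
  let T := (Scheme.Pullback.carrierEquiv t₂).1
  haveI : IsIso (f.residueFieldMap T.x) := hiso
  haveI : IsIso ((S.residueFieldCongr T.hx).inv ≫ f.residueFieldMap T.x) := inferInstance
  have hinr : IsIso (pushout.inr ((S.residueFieldCongr T.hx).inv ≫ f.residueFieldMap T.x)
      ((S.residueFieldCongr T.hy).inv ≫ g.residueFieldMap T.y)) := inferInstance
  haveI : Subsingleton (Spec T.tensor) :=
    subsingleton_spec_of_iso T.tensor (Y.residueField T.y) (Field.toIsField _)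
      (@asIso _ _ _ _ _ hinr)
  exact Subsingleton.elim _ _

section rational

variable {k₀ : Type u} [Field k₀] [Finite k₀] {X : Scheme.{u}} (f : X ⟶ Spec (CommRingCat.of k₀))

/-- a point all of whose residue field elements are fixed by the `q`-th power map is rational. -/
theorem cmap_bijective_of_pow_eq (x : X)
    (h : ∀ a : X.residueField x, a ^ Nat.card k₀ = a) : Function.Bijective (cmap f x).hom := by
  classical
  have hq : 1 < Nat.card k₀ := Finite.one_lt_card
  have hne : (Polynomial.X ^ Nat.card k₀ - Polynomial.X : Polynomial (X.residueField x)) ≠ 0 :=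
    FiniteField.X_pow_card_sub_X_ne_zero _ hq
  have hfin : (Set.univ : Set (X.residueField x)).Finite := by
    refine (Polynomial.finite_setOfPred_isRoot hne).subset fun a _ => ?_
    change Polynomial.IsRoot _ a
    rw [Polynomial.IsRoot.def, Polynomial.eval_sub, Polynomial.eval_pow, Polynomial.eval_X, h a,
      sub_self]
  haveI : Finite (X.residueField x) := Set.finite_univ_iff.mp hfin
  haveI := Fintype.ofFinite (X.residueField x)
  have hcard : Nat.card (X.residueField x) ≤ Nat.card k₀ := by
    rw [Nat.card_eq_fintype_card, ← Finset.card_univ]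
    have hsub : (Finset.univ : Finset (X.residueField x)) ⊆
        (Polynomial.X ^ Nat.card k₀ - Polynomial.X : Polynomial (X.residueField x)).roots.toFinset := by
      intro a _
      rw [Multiset.mem_toFinset, Polynomial.mem_roots hne, Polynomial.IsRoot.def,
        Polynomial.eval_sub, Polynomial.eval_pow, Polynomial.eval_X, h a, sub_self]
    calc (Finset.univ : Finset (X.residueField x)).card
        ≤ _ := Finset.card_le_card hsub
      _ ≤ Multiset.card (Polynomial.X ^ Nat.card k₀ - Polynomial.X :
            Polynomial (X.residueField x)).roots := Multiset.toFinset_card_le _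
      _ ≤ (Polynomial.X ^ Nat.card k₀ - Polynomial.X :
            Polynomial (X.residueField x)).natDegree := Polynomial.card_roots' _
      _ = Nat.card k₀ := FiniteField.X_pow_card_sub_X_natDegree_eq _ hq
  exact Function.Injective.bijective_of_nat_card_le (cmap f x).hom.injective hcard

theorem nonempty_emb_of_bijective (x : X) (h : Function.Bijective (cmap f x).hom) :
    Nonempty (Emb f k₀ x) := by
  let e : k₀ ≃+* X.residueField x := RingEquiv.ofBijective (cmap f x).hom h
  refine ⟨⟨CommRingCat.ofHom e.symm.toRingHom, ?_⟩⟩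
  ext a
  exact e.symm_apply_apply a

theorem isIso_residueFieldMap_of_bijective (x : X) (h : Function.Bijective (cmap f x).hom) :
    IsIso (f.residueFieldMap x) := by
  rw [ConcreteCategory.isIso_iff_bijective]
  have h1 : (cmap f x).hom = (f.residueFieldMap x).hom.comp (tmap (f x)).hom := by
    rw [cmap_eq]
    rfl
  have h2 : Function.Bijective ((f.residueFieldMap x).hom ∘ (tmap (f x)).hom) := by
    have := h
    rw [h1] at this
    exact this
  exact (Function.Bijective.of_comp_iff _ (tmap_bijective (f x))).mp h2

end rational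

/-- the fixed-point scheme of `Frob_X × id` has finitely many points. -/
theorem finite_fixScheme (k₀ : Type u) [Field k₀] [Finite k₀] (k : Type u) [Field k]
    [PerfectField k] [Algebra k₀ k] {X : Scheme.{u}} (f : X ⟶ Spec (CommRingCat.of k₀))
    [LocallyOfFiniteType f] [QuasiCompact f]
    (FX : X ⟶ X) (hFb : FX.base = 𝟙 _) (hle : ∀ U : X.Opens, U ≤ FX ⁻¹ᵁ U)
    (hFapp : ∀ (U : X.Opens) (s : Γ(X, U)), (FX.appLE U U (hle U)).hom s = s ^ Nat.card k₀)
    (F : FinFr.ext k f ⟶ FinFr.ext k f)
    (hF1 : F ≫ FinFr.extπ k f = FinFr.extπ k f ≫ FX)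
    (hF2 : F ≫ FinFr.extStr k f = FinFr.extStr k f) :
    Finite ↥(FinFr.fixScheme (FinFr.extStr k f) F hF2) := by
  obtain ⟨p, e, hp, hX, hY, σ, σ', hq, hFX, -, -, -⟩ :=
    exists_decomp k₀ k f FX hFb hle hFapp (FinFr.extStr k f) (FinFr.extπ k f)
      (IsPullback.of_hasPullback f (FinFr.specι k₀ k)) F hF2 hF1
  let i := fixι (FinFr.extStr k f) F hF2
  let G := i ≫ FinFr.extπ k f
  have hG : G ≫ absFrob X p hp hX e = G := by
    change (i ≫ FinFr.extπ k f) ≫ absFrob X p hp hX e = i ≫ FinFr.extπ k f
    rw [Category.assoc, ← hFX, ← hF1, ← Category.assoc, fixι_comp]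
  -- residue fields of the image points
  have hres : ∀ z, ∀ a : X.residueField (G z), a ^ Nat.card k₀ = a := by
    intro z a
    have h := Scheme.Hom.residueFieldMap_congr hG z
    rw [Scheme.residueFieldMap_comp] at h
    have h' : (absFrob X p hp hX e).residueFieldMap (G z) ≫ G.residueFieldMap z =
        G.residueFieldMap z := by
      rw [h]
      exact Category.id_comp _
    have h2 := congrArg (fun φ => φ.hom a) h'
    change (G.residueFieldMap z).hom (((absFrob X p hp hX e).residueFieldMap (G z)).hom a) =
      (G.residueFieldMap z).hom a at h2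
    rw [absFrob_residueFieldMap] at h2
    rw [hq]
    exact (G.residueFieldMap z).hom.injective h2
  have hbij : ∀ z, Function.Bijective (cmap f (G z)).hom := fun z =>
    cmap_bijective_of_pow_eq f (G z) (hres z)
  have hS := Pts3.finite_support f k₀
  haveI : Finite {x : X // Nonempty (Emb f k₀ x)} := hS.to_subtype
  -- injectivity
  have hinj : Function.Injective (fun z => G z) := by
    intro z₁ z₂ h12
    have hi : i z₁ = i z₂ := by
      refine eq_of_proj_eq f (FinFr.specι k₀ k) (i z₁) (i z₂) h12 (Subsingleton.elim _ _) ?_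
      exact isIso_residueFieldMap_of_bijective f _ (hbij z₂)
    exact Scheme.Hom.injective i hi
  exact Finite.of_injective (fun z => (⟨G z, nonempty_emb_of_bijective f (G z) (hbij z)⟩ :
    {x : X // Nonempty (Emb f k₀ x)})) (fun z₁ z₂ h => hinj (congrArg Subtype.val h))

end Groth.Agent.Lib.helper27.FixRed2
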