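import Mathlib
import Groth.Prelude.Def_CohTop

open CategoryTheory CategoryTheory.Limits TopologicalSpace Opposite

universe u

namespace Groth.Agent.Lib.helper27.FlasqueTower

variable {X : TopCat.{u}}

/-- sections over `U` -/
noncomputable abbrev Γ (U : Opens X) : CohTop.Ab X ⥤ AddCommGrpCat.{u} :=
  sheafToPresheaf _ _ ⋙ (evaluation _ _).obj (op U)

instance (U : Opens X) : PreservesLimits (Γ (X := X) U) := by
  unfold Γ; infer_instance

instance (U : Opens X) : (Γ (X := X) U).Additive where
  map_add := rfl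

/-- F1 : sections of an epi with flasque kernel are surjective -/
lemma surj_of_shortExact {S : ShortComplex (CohTop.Ab X)} (hS : S.ShortExact)
    (h1 : TopCat.Sheaf.IsFlasque S.X₁) (U : Opens X) :
    Function.Surjective (S.g.hom.app (op U)) := by
  have := h1
  have := TopCat.Sheaf.IsFlasque.epi_of_shortExact (U := U) hS
  exact (AddCommGrpCat.epi_iff_surjective _).1 this

/-- F2 : left exactness of sections -/
lemma exists_of_g_eq_zero {S : ShortComplex (CohTop.Ab X)} (hS : S.ShortExact) (U : Opens X)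
    (x₂ : S.X₂.obj.obj (op U)) (h : S.g.hom.app (op U) x₂ = 0) :
    ∃ x₁ : S.X₁.obj.obj (op U), S.f.hom.app (op U) x₁ = x₂ := by
  have := hS.mono_f
  have hex : (S.map (Γ U)).Exact :=
    hS.exact.map_of_mono_of_preservesKernel (Γ U) inferInstance inferInstance
  exact (ShortComplex.ab_exact_iff _).1 hex x₂ h

/-- the short exact sequence attached to an epimorphism -/
lemma shortExact_of_epi {A B : CohTop.Ab X} (π : A ⟶ B) [Epi π] :
    (ShortComplex.mk (kernel.ι π) π (kernel.condition π)).ShortExact where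
  exact := ShortComplex.exact_of_f_is_kernel _ (kernelIsKernel π)

/-- sections of an epi with flasque kernel are surjective -/
lemma surj_of_epi {A B : CohTop.Ab X} (π : A ⟶ B) [Epi π]
    (hK : TopCat.Sheaf.IsFlasque (kernel π : CohTop.Ab X)) (U : Opens X) :
    Function.Surjective (π.hom.app (op U)) :=
  surj_of_shortExact (shortExact_of_epi π) hK U

/-- towers of nonempty sets with surjective transition maps have sections -/
lemma nonempty_sections (E : ℕᵒᵖ ⥤ Type u) (h0 : Nonempty (E.obj (op 0)))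
    (hE : ∀ n, Function.Surjective (E.map (homOfLE (Nat.le_succ n)).op)) :
    Nonempty E.sections := by
  obtain ⟨e0⟩ := h0
  obtain ⟨s, -⟩ := Types.surjective_π_app_zero_of_surjective_map (Types.limitConeIsLimit E) hE e0
  exact ⟨s⟩

section lim

variable (M : ℕᵒᵖ ⥤ CohTop.Ab X) (U : Opens X)

/-- sections of the limit sheaf are compatible families of sections -/
noncomputable def secEquiv :
    ((limit M : CohTop.Ab X).obj.obj (op U)) ≃
      (M ⋙ Γ U ⋙ forget AddCommGrpCat.{u}).sections :=
  Types.isLimitEquivSections (isLimitOfPreserves (Γ U ⋙ forget AddCommGrpCat.{u}) (limit.isLimit M))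

lemma secEquiv_apply (x : (limit M : CohTop.Ab X).obj.obj (op U)) (n : ℕᵒᵖ) :
    (secEquiv M U x).1 n = (limit.π M n).hom.app (op U) x :=
  Types.isLimitEquivSections_apply _ _ _

lemma sec_ext (x y : (limit M : CohTop.Ab X).obj.obj (op U))
    (h : ∀ n : ℕ, (limit.π M (op n)).hom.app (op U) x = (limit.π M (op n)).hom.app (op U) y) :
    x = y := by
  apply (secEquiv M U).injective
  apply Subtype.ext
  funext n
  rw [secEquiv_apply, secEquiv_apply]
  exact h n.unop

/-- a compatible family (given on successive levels) defines a section of the limit -/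
lemma exists_sec (s : ∀ n : ℕ, (M.obj (op n)).obj.obj (op U))
    (hs : ∀ n : ℕ, (M.map (homOfLE (Nat.le_succ n)).op).hom.app (op U) (s (n + 1)) = s n) :
    ∃ x : (limit M : CohTop.Ab X).obj.obj (op U),
      ∀ n : ℕ, (limit.π M (op n)).hom.app (op U) x = s n := by
  have hcompat : ∀ (n m : ℕ) (h : m ≤ n),
      (M.map (homOfLE h).op).hom.app (op U) (s n) = s m := by
    intro n m h
    induction h with
    | refl =>
      have : (homOfLE (le_refl m)).op = 𝟙 (op m) := rfl
      rw [this, M.map_id]
      rfl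
    | @step p h ih =>
      have : (homOfLE (Nat.le_succ_of_le h)).op =
          (homOfLE (Nat.le_succ p)).op ≫ (homOfLE h).op := rfl
      rw [this, M.map_comp]
      show (M.map (homOfLE h).op).hom.app (op U)
        ((M.map (homOfLE (Nat.le_succ p)).op).hom.app (op U) (s (p + 1))) = s m
      rw [hs, ih]
  let σ : (M ⋙ Γ U ⋙ forget AddCommGrpCat.{u}).sections :=
    ⟨fun n => s n.unop, by
      intro n m f
      have h : m.unop ≤ n.unop := leOfHom f.unop
      have : f = (homOfLE h).op := rfl
      rw [this]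
      exact hcompat n.unop m.unop h⟩
  refine ⟨(secEquiv M U).symm σ, fun n => ?_⟩
  rw [← secEquiv_apply, Equiv.apply_symm_apply]

end lim

section flasqueLimit

variable (M : ℕᵒᵖ ⥤ CohTop.Ab X)
  (h1 : ∀ n : ℕ, TopCat.Sheaf.IsFlasque (M.obj (op n)))
  (h2 : ∀ n : ℕ, Epi (M.map (homOfLE (Nat.le_succ n)).op))
  (h3 : ∀ n : ℕ, TopCat.Sheaf.IsFlasque (kernel (M.map (homOfLE (Nat.le_succ n)).op) : CohTop.Ab X))

include h2 h3 in
/-- the inductive step -/
lemma step {U V : (Opens X)ᵒᵖ} (i : U ⟶ V) (n : ℕ)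
    (tn : (M.obj (op n)).obj.obj V) (tn1 : (M.obj (op (n + 1))).obj.obj V)
    (ht : (M.map (homOfLE (Nat.le_succ n)).op).hom.app V tn1 = tn)
    (sn : (M.obj (op n)).obj.obj U) (hsn : (M.obj (op n)).obj.map i sn = tn) :
    ∃ sn1 : (M.obj (op (n + 1))).obj.obj U,
      (M.obj (op (n + 1))).obj.map i sn1 = tn1 ∧
        (M.map (homOfLE (Nat.le_succ n)).op).hom.app U sn1 = sn := by
  let π := M.map (homOfLE (Nat.le_succ n)).op
  have : Epi π := h2 n
  obtain ⟨s', hs'⟩ := surj_of_epi π (h3 n) U.unop sn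
  -- the difference on `V`
  let d : (M.obj (op (n + 1))).obj.obj V := (M.obj (op (n + 1))).obj.map i s' - tn1
  have hd : π.hom.app V d = 0 := by
    have nat := ConcreteCategory.congr_hom (π.hom.naturality i) s'
    simp only [ConcreteCategory.comp_apply] at nat
    show π.hom.app V ((M.obj (op (n + 1))).obj.map i s' - tn1) = 0
    rw [map_sub, nat, ht]
    have : π.hom.app U s' = sn := hs'
    rw [this, hsn, sub_self]
  obtain ⟨k, hk⟩ := exists_of_g_eq_zero (shortExact_of_epi π) V.unop d hd
  have := h3 n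
  have hepi : Epi ((kernel π : CohTop.Ab X).obj.map i) := inferInstance
  obtain ⟨k', hk'⟩ := (AddCommGrpCat.epi_iff_surjective _).1 hepi k
  refine ⟨s' - (kernel.ι π).hom.app U k', ?_, ?_⟩
  · have nat := ConcreteCategory.congr_hom ((kernel.ι π).hom.naturality i) k'
    simp only [ConcreteCategory.comp_apply] at nat
    rw [map_sub]
    erw [← nat]
    rw [hk']
    have : (kernel.ι π).hom.app V k = d := hk
    rw [this]
    show (M.obj (op (n + 1))).obj.map i s' - ((M.obj (op (n + 1))).obj.map i s' - tn1) = tn1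
    abel
  · show π.hom.app U (s' - (kernel.ι π).hom.app U k') = sn
    rw [map_sub]
    have h0 : π.hom.app U ((kernel.ι π).hom.app U k') = 0 := by
      have := congrArg (fun α => α.hom.app U) (kernel.condition π)
      exact ConcreteCategory.congr_hom this k'
    rw [h0, sub_zero]
    exact hs'

include h1 h2 h3 in
theorem isFlasque_limit : TopCat.Sheaf.IsFlasque (limit M : CohTop.Ab X) := by
  constructor
  intro U V i
  rw [AddCommGrpCat.epi_iff_surjective]
  intro t
  -- components of `t`
  let tn : ∀ n : ℕ, (M.obj (op n)).obj.obj V := fun n => (limit.π M (op n)).hom.app V t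
  have htn : ∀ n : ℕ, (M.map (homOfLE (Nat.le_succ n)).op).hom.app V (tn (n + 1)) = tn n := by
    intro n
    have := congrArg (fun α => α.hom.app V) (limit.w M (homOfLE (Nat.le_succ n)).op)
    exact ConcreteCategory.congr_hom this t
  -- the recursive construction
  have h0 : ∃ s0 : (M.obj (op 0)).obj.obj U, (M.obj (op 0)).obj.map i s0 = tn 0 := by
    have := h1 0
    have hepi : Epi ((M.obj (op 0)).obj.map i) := inferInstance
    exact (AddCommGrpCat.epi_iff_surjective _).1 hepi (tn 0)
  let f : ∀ n : ℕ, {s : (M.obj (op n)).obj.obj U // (M.obj (op n)).obj.map i s = tn n} :=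
    fun n => Nat.rec (motive := fun n =>
        {s : (M.obj (op n)).obj.obj U // (M.obj (op n)).obj.map i s = tn n})
      ⟨h0.choose, h0.choose_spec⟩
      (fun n a => ⟨(step M h2 h3 i n (tn n) (tn (n + 1)) (htn n) a.1 a.2).choose,
        (step M h2 h3 i n (tn n) (tn (n + 1)) (htn n) a.1 a.2).choose_spec.1⟩) n
  have hf : ∀ n : ℕ, (M.map (homOfLE (Nat.le_succ n)).op).hom.app U (f (n + 1)).1 = (f n).1 :=
    fun n => (step M h2 h3 i n (tn n) (tn (n + 1)) (htn n) (f n).1 (f n).2).choose_spec.2
  obtain ⟨x, hx⟩ := exists_sec M U.unop (fun n => (f n).1) hf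
  refine ⟨x, ?_⟩
  apply sec_ext M V.unop
  intro n
  have nat := ConcreteCategory.congr_hom ((limit.π M (op n)).hom.naturality i) x
  simp only [ConcreteCategory.comp_apply] at nat
  refine nat.trans ?_
  have : (limit.π M (op n)).hom.app U x = (f n).1 := hx n
  rw [this]
  exact (f n).2

end flasqueLimit

section limMap

variable (S : ShortComplex (ℕᵒᵖ ⥤ CohTop.Ab X)) (hS : S.ShortExact)
  (h1 : ∀ n : ℕ, TopCat.Sheaf.IsFlasque (S.X₁.obj (op n)))
  (h2 : ∀ n : ℕ, Epi (S.X₁.map (homOfLE (Nat.le_succ n)).op))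
  (h3 : ∀ n : ℕ, TopCat.Sheaf.IsFlasque
    (kernel (S.X₁.map (homOfLE (Nat.le_succ n)).op) : CohTop.Ab X))

include hS in
lemma level_shortExact (n : ℕ) :
    (S.map ((evaluation ℕᵒᵖ (CohTop.Ab X)).obj (op n))).ShortExact :=
  hS.map_of_exact _

include hS h1 h2 h3 in
lemma stepMap (U : Opens X) (n : ℕ)
    (cn : (S.X₃.obj (op n)).obj.obj (op U)) (cn1 : (S.X₃.obj (op (n + 1))).obj.obj (op U))
    (hc : (S.X₃.map (homOfLE (Nat.le_succ n)).op).hom.app (op U) cn1 = cn)
    (bn : (S.X₂.obj (op n)).obj.obj (op U)) (hbn : (S.g.app (op n)).hom.app (op U) bn = cn) :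
    ∃ bn1 : (S.X₂.obj (op (n + 1))).obj.obj (op U),
      (S.g.app (op (n + 1))).hom.app (op U) bn1 = cn1 ∧
        (S.X₂.map (homOfLE (Nat.le_succ n)).op).hom.app (op U) bn1 = bn := by
  have hsurj : Function.Surjective ((S.g.app (op (n + 1))).hom.app (op U)) :=
    surj_of_shortExact (level_shortExact S hS (n + 1)) (h1 (n + 1)) U
  obtain ⟨b', hb''⟩ := hsurj cn1
  let d : (S.X₂.obj (op n)).obj.obj (op U) :=
    (S.X₂.map (homOfLE (Nat.le_succ n)).op).hom.app (op U) b' - bn
  have natg : (S.g.app (op n)).hom.app (op U)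
      ((S.X₂.map (homOfLE (Nat.le_succ n)).op).hom.app (op U) b') =
      (S.X₃.map (homOfLE (Nat.le_succ n)).op).hom.app (op U)
        ((S.g.app (op (n + 1))).hom.app (op U) b') := by
    have nat := congrArg (fun α => α.hom.app (op U)) (S.g.naturality (homOfLE (Nat.le_succ n)).op)
    exact ConcreteCategory.congr_hom nat b'
  have hd : (S.g.app (op n)).hom.app (op U) d = 0 := by
    show (S.g.app (op n)).hom.app (op U)
      ((S.X₂.map (homOfLE (Nat.le_succ n)).op).hom.app (op U) b' - bn) = 0
    rw [map_sub, hbn, natg, hb'', hc, sub_self]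
  have hex : ∀ x₂ : (S.X₂.obj (op n)).obj.obj (op U), (S.g.app (op n)).hom.app (op U) x₂ = 0 →
      ∃ x₁ : (S.X₁.obj (op n)).obj.obj (op U), (S.f.app (op n)).hom.app (op U) x₁ = x₂ :=
    exists_of_g_eq_zero (level_shortExact S hS n) U
  obtain ⟨a, ha'⟩ := hex d hd
  have := h2 n
  obtain ⟨a', ha''⟩ := surj_of_epi (S.X₁.map (homOfLE (Nat.le_succ n)).op) (h3 n) U a
  have natf : (S.f.app (op n)).hom.app (op U)
      ((S.X₁.map (homOfLE (Nat.le_succ n)).op).hom.app (op U) a') =
      (S.X₂.map (homOfLE (Nat.le_succ n)).op).hom.app (op U)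
        ((S.f.app (op (n + 1))).hom.app (op U) a') := by
    have nat := congrArg (fun α => α.hom.app (op U)) (S.f.naturality (homOfLE (Nat.le_succ n)).op)
    exact ConcreteCategory.congr_hom nat a'
  refine ⟨b' - (S.f.app (op (n + 1))).hom.app (op U) a', ?_, ?_⟩
  · rw [map_sub, hb'']
    have h0 : (S.g.app (op (n + 1))).hom.app (op U)
        ((S.f.app (op (n + 1))).hom.app (op U) a') = 0 := by
      have := congrArg (fun α => (α.app (op (n + 1))).hom.app (op U)) S.zero
      exact ConcreteCategory.congr_hom this a'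
    rw [h0, sub_zero]
  · rw [map_sub, ← natf, ha'', ha']
    show (S.X₂.map (homOfLE (Nat.le_succ n)).op).hom.app (op U) b' -
      ((S.X₂.map (homOfLE (Nat.le_succ n)).op).hom.app (op U) b' - bn) = bn
    abel

include hS h1 h2 h3 in
theorem epi_limMap : Epi (limMap S.g) := by
  have hsurj : ∀ U : Opens X, Function.Surjective ((limMap S.g).hom.app (op U)) := by
    intro U c
    let cn : ∀ n : ℕ, (S.X₃.obj (op n)).obj.obj (op U) :=
      fun n => (limit.π S.X₃ (op n)).hom.app (op U) c
    have hcn : ∀ n : ℕ, (S.X₃.map (homOfLE (Nat.le_succ n)).op).hom.app (op U) (cn (n + 1)) =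
        cn n := by
      intro n
      have := congrArg (fun α => α.hom.app (op U)) (limit.w S.X₃ (homOfLE (Nat.le_succ n)).op)
      exact ConcreteCategory.congr_hom this c
    have h0 : ∃ b0 : (S.X₂.obj (op 0)).obj.obj (op U),
        (S.g.app (op 0)).hom.app (op U) b0 = cn 0 :=
      surj_of_shortExact (level_shortExact S hS 0) (h1 0) U (cn 0)
    let f : ∀ n : ℕ, {b : (S.X₂.obj (op n)).obj.obj (op U) //
        (S.g.app (op n)).hom.app (op U) b = cn n} :=
      fun n => Nat.rec (motive := fun n => {b : (S.X₂.obj (op n)).obj.obj (op U) //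
          (S.g.app (op n)).hom.app (op U) b = cn n})
        ⟨h0.choose, h0.choose_spec⟩
        (fun n a => ⟨(stepMap S hS h1 h2 h3 U n (cn n) (cn (n + 1)) (hcn n) a.1 a.2).choose,
          (stepMap S hS h1 h2 h3 U n (cn n) (cn (n + 1)) (hcn n) a.1 a.2).choose_spec.1⟩) n
    have hf : ∀ n : ℕ, (S.X₂.map (homOfLE (Nat.le_succ n)).op).hom.app (op U) (f (n + 1)).1 =
        (f n).1 :=
      fun n => (stepMap S hS h1 h2 h3 U n (cn n) (cn (n + 1)) (hcn n) (f n).1 (f n).2).choose_spec.2
    obtain ⟨x, hx⟩ := exists_sec S.X₂ U (fun n => (f n).1) hf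
    refine ⟨x, ?_⟩
    apply sec_ext S.X₃ U
    intro n
    have e := congrArg (fun α => α.hom.app (op U)) (limMap_π S.g (op n))
    have e' := ConcreteCategory.congr_hom e x
    refine e'.trans ?_
    show (S.g.app (op n)).hom.app (op U) ((limit.π S.X₂ (op n)).hom.app (op U) x) = cn n
    have : (limit.π S.X₂ (op n)).hom.app (op U) x = (f n).1 := hx n
    rw [this]
    exact (f n).2
  have : Sheaf.IsLocallySurjective (limMap S.g) := by
    constructor
    intro U s
    obtain ⟨t, ht⟩ := hsurj U s
    convert (Opens.grothendieckTopology X).top_mem U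
    rw [eq_top_iff]
    intro V i _
    refine ⟨(limit S.X₂ : CohTop.Ab X).obj.map i.op t, ?_⟩
    have nat := ConcreteCategory.congr_hom ((limMap S.g).hom.naturality i.op) t
    simp only [ConcreteCategory.comp_apply] at nat
    refine nat.trans ?_
    have ht' : (limMap S.g).hom.app (op U) t = s := ht
    rw [ht']
  infer_instance

end limMap

end Groth.Agent.Lib.helper27.FlasqueTower
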