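import Mathlib
import Groth.Agent.Lib.Helper25.FBCFinal
import Groth.Agent.Lib.Helper25.FBCIso
import Groth.Agent.Lib.Helper25.RpushQC
import Groth.Agent.Lib.Helper13.LpullQCoh
import Groth.Agent.Lib.Helper13.CurveDual10

/-!
helper27: flat base change for the higher direct images `R^i f_*` of a quasi-coherent module
(existence of an isomorphism), as a corollary of helper25's derived flat base change.
-/

set_option autoImplicit false
set_option linter.unusedVariables false
set_option linter.unusedSectionVars false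
set_option linter.style.haveILetI false

universe u
open CategoryTheory CategoryTheory.Limits AlgebraicGeometry Opposite
attribute [local instance] HasDerivedCategory.standard

namespace Groth.Agent.Lib.helper27.FlatBCHigher

open DerivedCategory Groth.Agent.Lib.Helper25.FBCFormal

attribute [local instance] Groth.Agent.Lib.Helper25.SchKInj.hasRpush
  Groth.Agent.Lib.Helper25.LpullAdapted.hasLpull

/-- for flat `h`, `H^i (Lh^* A) ≅ h^* H^i(A)` -/
theorem nonempty_HD_Lpull_flat {Y' Y : Scheme.{u}} (h : Y' ⟶ Y) [Flat h] (A : DCoh.D Y) (i : ℤ) :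
    Nonempty (DCoh.HD ((DCoh.Lpull h).obj A) i ≅ (Scheme.Modules.pullback h).obj (DCoh.HD A i)) := by
  obtain ⟨e⟩ := Groth.Agent.Lib.Helper25.FBCIso.nonempty_mapDC_iso_Lpull h
  let K : CochainComplex Y.Modules ℤ := Q.objPreimage A
  let eA : Q.obj K ≅ A := Q.objObjPreimageIso A
  let e1 : (DCoh.Lpull h).obj A ≅ (Scheme.Modules.pullback h).mapDerivedCategory.obj (Q.obj K) :=
    (DCoh.Lpull h).mapIso eA.symm ≪≫ (e.app (Q.obj K)).symm
  let e2 : (Scheme.Modules.pullback h).mapDerivedCategory.obj (Q.obj K) ≅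
      DCoh.toD Y' (((Scheme.Modules.pullback h).mapHomologicalComplex (ComplexShape.up ℤ)).obj K) :=
    ((Scheme.Modules.pullback h).mapDerivedCategoryFactors).app K
  let e3 := Groth.Agent.Lib.helper13.LpullQCoh.HDtoDIso h K i
  let e4 : K.homology i ≅ DCoh.HD A i :=
    ((DerivedCategory.homologyFunctorFactors Y.Modules i).app K).symm ≪≫
      (DerivedCategory.homologyFunctor Y.Modules i).mapIso eA
  exact ⟨(DerivedCategory.homologyFunctor Y'.Modules i).mapIso (e1 ≪≫ e2) ≪≫ e3 ≪≫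
    (Scheme.Modules.pullback h).mapIso e4⟩

/-- for flat `h`, `Lh^* (M[0]) ≅ (h^* M)[0]` -/
theorem nonempty_Lpull_inD_flat {Y' Y : Scheme.{u}} (h : Y' ⟶ Y) [Flat h] (M : Y.Modules) :
    Nonempty ((DCoh.Lpull h).obj (DCoh.inD Y M) ≅
      DCoh.inD Y' ((Scheme.Modules.pullback h).obj M)) := by
  obtain ⟨e⟩ := Groth.Agent.Lib.Helper25.FBCIso.nonempty_mapDC_iso_Lpull h
  let e0 : DCoh.inD Y M ≅ Q.obj ((CochainComplex.singleFunctor Y.Modules 0).obj M) :=
    (DerivedCategory.singleFunctorIsoCompQ Y.Modules 0).app M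
  let e0' : DCoh.inD Y' ((Scheme.Modules.pullback h).obj M) ≅
      Q.obj ((CochainComplex.singleFunctor Y'.Modules 0).obj ((Scheme.Modules.pullback h).obj M)) :=
    (DerivedCategory.singleFunctorIsoCompQ Y'.Modules 0).app _
  let e1 : (DCoh.Lpull h).obj (DCoh.inD Y M) ≅
      (Scheme.Modules.pullback h).mapDerivedCategory.obj
        (Q.obj ((CochainComplex.singleFunctor Y.Modules 0).obj M)) :=
    (DCoh.Lpull h).mapIso e0 ≪≫ (e.app _).symm
  let e2 : (Scheme.Modules.pullback h).mapDerivedCategory.obj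
        (Q.obj ((CochainComplex.singleFunctor Y.Modules 0).obj M)) ≅
      Q.obj (((Scheme.Modules.pullback h).mapHomologicalComplex (ComplexShape.up ℤ)).obj
        ((CochainComplex.singleFunctor Y.Modules 0).obj M)) :=
    ((Scheme.Modules.pullback h).mapDerivedCategoryFactors).app _
  let e3 : ((Scheme.Modules.pullback h).mapHomologicalComplex (ComplexShape.up ℤ)).obj
        ((CochainComplex.singleFunctor Y.Modules 0).obj M) ≅
      (CochainComplex.singleFunctor Y'.Modules 0).obj ((Scheme.Modules.pullback h).obj M) :=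
    (HomologicalComplex.singleMapHomologicalComplex (Scheme.Modules.pullback h)
      (ComplexShape.up ℤ) 0).app M
  exact ⟨e1 ≪≫ e2 ≪≫ Q.mapIso e3 ≪≫ e0'.symm⟩

/-- `H^p (Rf_* (M[0])) ≅ R^p f_* M` -/
theorem nonempty_HD_Rpush_inD {X S : Scheme.{u}} (f : X ⟶ S) [HasInjectiveResolutions X.Modules]
    (M : X.Modules) (p : ℕ) :
    Nonempty (DCoh.HD ((DCoh.Rpush f).obj (DCoh.inD X M)) (p : ℤ) ≅ (Coh.Rpush f p).obj M) := by
  haveI : HasInjectiveResolutions (ModSite.Mod X.sheaf) := ‹HasInjectiveResolutions X.Modules›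
  haveI : SiteCmp.HasRpushD (ModSite.RMor.ofScheme f) := Groth.Agent.Lib.Helper25.SchKInj.hasRpush f
  exact Groth.Agent.H1.PushLoc.nonempty_homology_rpush_single (ModSite.RMor.ofScheme f) M p

theorem main {X S X' S' : Scheme.{u}} (f : X ⟶ S) (g : S' ⟶ S)
    (g' : X' ⟶ X) (f' : X' ⟶ S') (h : IsPullback g' f' f g) [QuasiCompact f] [QuasiSeparated f]
    [Flat g] [HasInjectiveResolutions X.Modules] [HasInjectiveResolutions X'.Modules]
    (M : X.Modules) [M.IsQuasicoherent] (i : ℕ) :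
    Nonempty ((Scheme.Modules.pullback g).obj ((Coh.Rpush f i).obj M) ≅
      (Coh.Rpush f' i).obj ((Scheme.Modules.pullback g').obj M)) := by
  haveI : Flat g' := MorphismProperty.of_isPullback h.flip ‹Flat g›
  let adjg := Groth.Agent.Lib.Helper25.LpullRpushAdj.adj g
  let adjg' := Groth.Agent.Lib.Helper25.LpullRpushAdj.adj g'
  obtain ⟨ε⟩ := Groth.Agent.Lib.Helper25.FBCFinal.nonempty_Rpush_square (f := f) (g := g)
    (f' := f') (g' := g') h.w
  have hE : DCoh.IsQCohD (DCoh.inD X M) :=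
    Groth.Agent.Lib.helper13.CurveDual.isQCohD_single M inferInstance 0
  haveI := Groth.Agent.Lib.Helper25.FBCFinal.isIso_bc h adjg adjg' ε (DCoh.inD X M) hE
  let β := asIso (bc adjg adjg' ε (DCoh.inD X M))
  obtain ⟨a1⟩ := nonempty_HD_Lpull_flat g ((DCoh.Rpush f).obj (DCoh.inD X M)) (i : ℤ)
  obtain ⟨a2⟩ := nonempty_HD_Rpush_inD f M i
  obtain ⟨b1⟩ := nonempty_Lpull_inD_flat g' M
  obtain ⟨b2⟩ := nonempty_HD_Rpush_inD f' ((Scheme.Modules.pullback g').obj M) i
  exact ⟨(Scheme.Modules.pullback g).mapIso a2.symm ≪≫ a1.symm ≪≫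
    (DerivedCategory.homologyFunctor S'.Modules (i : ℤ)).mapIso
      (β ≪≫ (DCoh.Rpush f').mapIso b1) ≪≫ b2⟩

end Groth.Agent.Lib.helper27.FlatBCHigher
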