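import Mathlib

/-!
# Helper library (helper27): linear algebra for the functional equation: two endomorphisms
adjoint up to a scalar `c` with respect to a perfect pairing.
-/

set_option autoImplicit false
set_option linter.style.haveILetI false
open Polynomial Matrix

namespace Groth.Agent.Lib.helper27.Frob5

section matrix

variable {K : Type*} [Field K] {n : Type*} [Fintype n] [DecidableEq n]

theorem det_mul_det_of_transpose_mul (A A' : Matrix n n K) (c : K)
    (h : Aᵀ * A' = c • (1 : Matrix n n K)) : A.det * A'.det = c ^ Fintype.card n := by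
  rw [← det_transpose A, ← det_mul, h, det_smul, det_one, mul_one]

theorem charpoly_comp (A : Matrix n n K) (q : K[X]) :
    A.charpoly.comp q = (Matrix.scalar n q - A.map C).det := by
  have h1 : A.charpoly.comp q = (Polynomial.compRingHom q) (charmatrix A).det := rfl
  rw [h1, RingHom.map_det]
  congr 1
  ext i j
  by_cases hij : i = j
  · subst hij
    simp [charmatrix_apply_eq]
  · simp [hij]

theorem charpoly_identity (A A' : Matrix n n K) (c : K) (h : Aᵀ * A' = c • (1 : Matrix n n K)) :
    C A.det * A'.charpoly.reverse = (-1) ^ Fintype.card n * A.charpoly.comp (C c * X) := by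
  rw [Matrix.reverse_charpoly, Matrix.charpolyRev, charpoly_comp, ← Matrix.det_neg,
    ← det_transpose (-_), RingHom.map_det, ← det_transpose ((C : K →+* K[X]).mapMatrix A), ← det_mul]
  congr 1
  have h2 : ((C : K →+* K[X]).mapMatrix A)ᵀ * A'.map C = (C c) • (1 : Matrix n n K[X]) := by
    have := congrArg (fun M : Matrix n n K => M.map (C : K → K[X])) h
    simp only [Matrix.map_mul, Matrix.transpose_map] at this
    rw [RingHom.mapMatrix_apply]
    rw [← Matrix.transpose_map] at this
    refine this.trans ?_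
    ext i j
    by_cases hij : i = j
    · subst hij
      simp
    · simp [hij]
  rw [mul_sub, mul_one, Matrix.mul_smul, h2]
  ext i j
  by_cases hij : i = j
  · subst hij
    simp
  · simp [hij, Ne.symm hij]

end matrix

section pairing

variable {K : Type*} [Field K] {V W : Type*} [AddCommGroup V] [Module K V] [AddCommGroup W]
  [Module K W] [FiniteDimensional K V] [FiniteDimensional K W]

theorem exists_matrices (p : V →ₗ[K] W →ₗ[K] K) [p.IsPerfPair] (φ : V →ₗ[K] V) (φ' : W →ₗ[K] W)
    (c : K) (h : ∀ v w, p (φ v) (φ' w) = c * p v w) :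
    ∃ (A A' : Matrix (Fin (Module.finrank K V)) (Fin (Module.finrank K V)) K),
      Aᵀ * A' = c • (1 : Matrix _ _ K) ∧ A.det = LinearMap.det φ ∧ A'.det = LinearMap.det φ' ∧
        A.charpoly = φ.charpoly ∧ A'.charpoly = φ'.charpoly := by
  classical
  let b := Module.finBasis K V
  let b' : Module.Basis (Fin (Module.finrank K V)) K W :=
    b.dualBasis.map (p.flip.toPerfPair.symm)
  have hrepr : ∀ (w : W) (i : Fin (Module.finrank K V)), b'.repr w i = p (b i) w := by
    intro w i
    simp [b', Module.Basis.map_repr]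
  refine ⟨LinearMap.toMatrix b b φ, LinearMap.toMatrix b' b' φ', ?_, LinearMap.det_toMatrix b φ,
    LinearMap.det_toMatrix b' φ', LinearMap.charpoly_toMatrix φ b, LinearMap.charpoly_toMatrix φ' b'⟩
  ext j l
  rw [Matrix.mul_apply]
  simp only [Matrix.transpose_apply, LinearMap.toMatrix_apply, hrepr]
  have h1 : p (φ (b j)) (φ' (b' l)) = ∑ i, b.repr (φ (b j)) i * p (b i) (φ' (b' l)) := by
    have := congrArg (fun v => p v (φ' (b' l))) (b.sum_repr (φ (b j))).symm
    simp only [map_sum, LinearMap.sum_apply, map_smul, LinearMap.smul_apply, smul_eq_mul] at this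
    exact this
  rw [← h1, h, ← hrepr]
  simp [Matrix.one_apply, Finsupp.single_apply, eq_comm]

theorem det_mul_det (p : V →ₗ[K] W →ₗ[K] K) [p.IsPerfPair] (φ : V →ₗ[K] V) (φ' : W →ₗ[K] W)
    (c : K) (h : ∀ v w, p (φ v) (φ' w) = c * p v w) :
    LinearMap.det φ' * LinearMap.det φ = c ^ Module.finrank K V := by
  obtain ⟨A, A', hAA', h1, h2, -, -⟩ := exists_matrices p φ φ' c h
  rw [← h1, ← h2, mul_comm, det_mul_det_of_transpose_mul A A' c hAA', Fintype.card_fin]

theorem charpoly_reverse (p : V →ₗ[K] W →ₗ[K] K) [p.IsPerfPair] (φ : V →ₗ[K] V) (φ' : W →ₗ[K] W)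
    (c : K) (h : ∀ v w, p (φ v) (φ' w) = c * p v w) :
    LinearMap.det φ • φ'.charpoly.reverse =
      (-1 : K[X]) ^ Module.finrank K V * φ.charpoly.comp (C c * X) := by
  obtain ⟨A, A', hAA', h1, -, h3, h4⟩ := exists_matrices p φ φ' c h
  rw [← h1, ← h3, ← h4, Polynomial.smul_eq_C_mul, charpoly_identity A A' c hAA', Fintype.card_fin]

end pairing

end Groth.Agent.Lib.helper27.Frob5
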