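import Mathlib
import Groth.Prelude.Def_WeilCoh
import Groth.Agent.Lib.Helper27.Frob4
import Groth.Agent.Lib.Helper27.Frob5
import Groth.Agent.Lib.Helper27.WC2
import Groth.Agent.Lib.Helper27.WC4

/-!
# Helper library (helper27): the Frobenius `F = Frob_X × id` on the cohomology of `X ×_{k₀} k`:
`tr (F^* a) = q^n tr a` on the top degree, and the resulting adjunction of `F^*` on `H^i` and
`H^{2n-i}` up to `q^n`.
-/

set_option autoImplicit false
set_option linter.style.haveILetI false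
universe u v
open AlgebraicGeometry CategoryTheory Opposite TopologicalSpace

namespace Groth.Agent.Lib.helper27.Frob6

open Groth.Agent.Lib.helper27

variable (k₀ : Type u) [Field k₀] [Finite k₀] (k : Type u) [Field k] [IsAlgClosed k] [Algebra k₀ k]
    (K : Type v) [Field K] [CharZero K] (T : WeilCoh.Theory k K)
    {X : Scheme.{u}} (f : X ⟶ Spec (CommRingCat.of k₀))
    (FX : X ⟶ X) (hFb : FX.base = 𝟙 _) (hle : ∀ U : X.Opens, U ≤ FX ⁻¹ᵁ U)
    (hFapp : ∀ (U : X.Opens) (s : Γ(X, U)), (FX.appLE U U (hle U)).hom s = s ^ Nat.card k₀)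
    (Xb : WeilCoh.Var k) (π : Xb.obj.left ⟶ X)
    (hπ : IsPullback π Xb.obj.hom f (Spec.map (CommRingCat.ofHom (algebraMap k₀ k))))
    (F : Xb ⟶ Xb) (hF : WeilCoh.sm F ≫ π = π ≫ FX)

include hFb hFapp hπ hF in
theorem tr_pull_frob (a : T.H Xb) (ha : a ∈ T.gr Xb (2 * (WeilCoh.dim Xb.obj.left : ℤ))) :
    T.tr Xb (T.pull F a) = (Nat.card k₀ : K) ^ (WeilCoh.dim Xb.obj.left) * T.tr Xb a := by
  haveI := WC2.irred Xb
  haveI := WC2.lft Xb
  obtain ⟨n, hn⟩ := WC2.exists_td Xb (genericPoint ↥Xb.obj.left)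
  have hnd : n = WeilCoh.dim Xb.obj.left := by
    rw [← WC2.pdim_eq Xb _ n hn, WC2.pdim_generic]
  obtain ⟨h1, h2⟩ := Frob4.frob_degree k₀ k f FX hFb hle hFapp Xb.obj.hom π hπ (WeilCoh.sm F)
    (Over.w F.hom) hF n hn
  rw [WC4.tr_pull_dominant T Xb Xb F h1 rfl a ha, h2, hnd]
  push_cast
  rfl

include hFb hFapp hπ hF in
theorem pairing_pull (i j : ℤ) (hij : i + j = 2 * (WeilCoh.dim Xb.obj.left : ℤ))
    (v : T.gr Xb i) (w : T.gr Xb j) :
    WeilCoh.pairing K (T.gr Xb i) (T.gr Xb j) (T.tr Xb) (T.pullDeg F i v) (T.pullDeg F j w) =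
      (Nat.card k₀ : K) ^ (WeilCoh.dim Xb.obj.left) *
        WeilCoh.pairing K (T.gr Xb i) (T.gr Xb j) (T.tr Xb) v w := by
  have hvw : (v : T.H Xb) * (w : T.H Xb) ∈ T.gr Xb (2 * (WeilCoh.dim Xb.obj.left : ℤ)) := by
    rw [← hij]
    exact SetLike.GradedMul.mul_mem v.2 w.2
  have := tr_pull_frob k₀ k K T f FX hFb hle hFapp Xb π hπ F hF _ hvw
  rw [map_mul] at this
  simpa [WeilCoh.pairing, WeilCoh.TheoryOn.pullDeg] using this

end Groth.Agent.Lib.helper27.Frob6
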