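import Mathlib

/-!
# Helper library (helper27): the formal derivation of the functional equation of the zeta
function from the relations between the characteristic polynomials in complementary degrees.
-/

set_option autoImplicit false
set_option linter.style.haveILetI false
open Polynomial

namespace Groth.Agent.Lib.helper27.Frob7

theorem sum_alt_split (n : ℕ) (g : ℕ → ℤ) :
    ∑ i ∈ Finset.range (2 * n + 1), (-1 : ℤ) ^ i * g i =
      ∑ m ∈ Finset.range (n + 1), g (2 * m) - ∑ m ∈ Finset.range n, g (2 * m + 1) := by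
  induction n with
  | zero => simp
  | succ n ih =>
    rw [show 2 * (n + 1) + 1 = (2 * n + 1) + 1 + 1 by ring, Finset.sum_range_succ,
      Finset.sum_range_succ, ih, Finset.sum_range_succ (fun m => g (2 * m)) (n + 1),
      Finset.sum_range_succ (fun m => g (2 * m + 1)) n]
    have h1 : (-1 : ℤ) ^ (2 * n + 1) = -1 := by
      rw [pow_succ, pow_mul]
      simp
    have h2 : (-1 : ℤ) ^ (2 * n + 1 + 1) = 1 := by
      rw [pow_succ, h1]
      simp
    rw [h1, h2, show 2 * (n + 1) = 2 * n + 1 + 1 by ring]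
    ring

theorem sum_symm (n : ℕ) (g : ℕ → ℤ) (hg : ∀ i ≤ 2 * n, g (2 * n - i) = g i) :
    ∑ i ∈ Finset.range (2 * n + 1), g i = 2 * ∑ i ∈ Finset.range n, g i + g n := by
  rw [show 2 * n + 1 = n + (n + 1) by ring, Finset.sum_range_add, Finset.sum_range_succ']
  have h1 : ∑ i ∈ Finset.range n, g (n + (i + 1)) = ∑ i ∈ Finset.range n, g i := by
    rw [← Finset.sum_range_reflect (fun i => g (n + (i + 1))) n]
    apply Finset.sum_congr rfl
    intro i hi
    have hi' := Finset.mem_range.mp hi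
    rw [← hg i (by omega)]
    congr 1
    omega
  rw [h1]
  simp
  ring

section main

variable {K : Type*} [Field K]

/-- the products over the odd, resp. even, indices of the relation `hb`. -/
theorem prod_relation (n : ℕ) (B : ℕ → ℕ) (d : ℕ → K) (P : ℕ → K[X])
    (y u : RatFunc K)
    (hb : ∀ i ≤ 2 * n, RatFunc.C (d i) * algebraMap K[X] (RatFunc K) (P (2 * n - i)) =
      (-1) ^ B i * aeval y (P i) * u ^ B i) :
    (RatFunc.C (∏ m ∈ Finset.range n, d (2 * m + 1)) *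
        algebraMap K[X] (RatFunc K) (∏ m ∈ Finset.range n, P (2 * m + 1)) =
      (-1) ^ (∑ m ∈ Finset.range n, B (2 * m + 1)) *
        aeval y (∏ m ∈ Finset.range n, P (2 * m + 1)) *
        u ^ (∑ m ∈ Finset.range n, B (2 * m + 1))) ∧
    (RatFunc.C (∏ m ∈ Finset.range (n + 1), d (2 * m)) *
        algebraMap K[X] (RatFunc K) (∏ m ∈ Finset.range (n + 1), P (2 * m)) =
      (-1) ^ (∑ m ∈ Finset.range (n + 1), B (2 * m)) *
        aeval y (∏ m ∈ Finset.range (n + 1), P (2 * m)) *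
        u ^ (∑ m ∈ Finset.range (n + 1), B (2 * m))) := by
  constructor
  · have h1 : ∏ m ∈ Finset.range n, (RatFunc.C (d (2 * m + 1)) *
        algebraMap K[X] (RatFunc K) (P (2 * n - (2 * m + 1)))) =
        ∏ m ∈ Finset.range n, ((-1) ^ B (2 * m + 1) * aeval y (P (2 * m + 1)) *
          u ^ B (2 * m + 1)) :=
      Finset.prod_congr rfl (fun m hm => hb _ (by have := Finset.mem_range.mp hm; omega))
    rw [Finset.prod_mul_distrib, Finset.prod_mul_distrib, Finset.prod_mul_distrib,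
      Finset.prod_pow_eq_pow_sum, Finset.prod_pow_eq_pow_sum, ← map_prod, ← map_prod,
      ← map_prod] at h1
    rw [← h1]
    congr 2
    rw [← Finset.prod_range_reflect (fun m => P (2 * m + 1)) n]
    apply Finset.prod_congr rfl
    intro m hm
    have := Finset.mem_range.mp hm
    congr 1
    omega
  · have h1 : ∏ m ∈ Finset.range (n + 1), (RatFunc.C (d (2 * m)) *
        algebraMap K[X] (RatFunc K) (P (2 * n - (2 * m)))) =
        ∏ m ∈ Finset.range (n + 1), ((-1) ^ B (2 * m) * aeval y (P (2 * m)) *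
          u ^ B (2 * m)) :=
      Finset.prod_congr rfl (fun m hm => hb _ (by have := Finset.mem_range.mp hm; omega))
    rw [Finset.prod_mul_distrib, Finset.prod_mul_distrib, Finset.prod_mul_distrib,
      Finset.prod_pow_eq_pow_sum, Finset.prod_pow_eq_pow_sum, ← map_prod, ← map_prod,
      ← map_prod] at h1
    rw [← h1]
    congr 2
    rw [← Finset.prod_range_reflect (fun m => P (2 * m)) (n + 1)]
    apply Finset.prod_congr rfl
    intro m hm
    have := Finset.mem_range.mp hm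
    congr 1
    omega

/-- the squares of the products of the determinants. -/
theorem prod_det_sq (n : ℕ) (c : K) (B : ℕ → ℕ) (d : ℕ → K)
    (ha : ∀ i ≤ 2 * n, d (2 * n - i) * d i = c ^ B i) :
    ((∏ m ∈ Finset.range n, d (2 * m + 1)) ^ 2 = c ^ (∑ m ∈ Finset.range n, B (2 * m + 1))) ∧
    ((∏ m ∈ Finset.range (n + 1), d (2 * m)) ^ 2 =
      c ^ (∑ m ∈ Finset.range (n + 1), B (2 * m))) := by
  constructor
  · rw [sq, ← Finset.prod_pow_eq_pow_sum]
    have hr : ∏ m ∈ Finset.range n, d (2 * m + 1) =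
        ∏ m ∈ Finset.range n, d (2 * (n - 1 - m) + 1) :=
      (Finset.prod_range_reflect (fun m => d (2 * m + 1)) n).symm
    nth_rewrite 1 [hr]
    rw [← Finset.prod_mul_distrib]
    apply Finset.prod_congr rfl
    intro m hm
    have := Finset.mem_range.mp hm
    rw [← ha (2 * m + 1) (by omega)]
    congr 2
    omega
  · rw [sq, ← Finset.prod_pow_eq_pow_sum]
    have hr : ∏ m ∈ Finset.range (n + 1), d (2 * m) =
        ∏ m ∈ Finset.range (n + 1), d (2 * (n + 1 - 1 - m)) :=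
      (Finset.prod_range_reflect (fun m => d (2 * m)) (n + 1)).symm
    nth_rewrite 1 [hr]
    rw [← Finset.prod_mul_distrib]
    apply Finset.prod_congr rfl
    intro m hm
    have := Finset.mem_range.mp hm
    rw [← ha (2 * m) (by omega)]
    congr 2
    omega

theorem functional_equation (n : ℕ) (q : K) (hq : q ≠ 0)
    (B : ℕ → ℕ) (d : ℕ → K) (P : ℕ → K[X])
    (ha : ∀ i ≤ 2 * n, d (2 * n - i) * d i = (q ^ n) ^ B i)
    (hb : ∀ i ≤ 2 * n, RatFunc.C (d i) * algebraMap K[X] (RatFunc K) (P (2 * n - i)) =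
        (-1) ^ B i * aeval ((RatFunc.X : RatFunc K)⁻¹ * RatFunc.C (q ^ n)⁻¹) (P i) *
          (RatFunc.C (q ^ n) * RatFunc.X) ^ B i)
    (hE : Even ((n : ℤ) * ∑ i ∈ Finset.range (2 * n + 1), (-1 : ℤ) ^ i * (B i : ℤ))) :
    ∃ ε : K, (ε = 1 ∨ ε = -1) ∧
      aeval ((RatFunc.X : RatFunc K)⁻¹ * RatFunc.C (q ^ n)⁻¹)
          (∏ i ∈ Finset.range n, P (2 * i + 1)) /
        aeval ((RatFunc.X : RatFunc K)⁻¹ * RatFunc.C (q ^ n)⁻¹)
          (∏ i ∈ Finset.range (n + 1), P (2 * i)) =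
      RatFunc.C ε * RatFunc.C q ^
          ((n : ℤ) * (∑ i ∈ Finset.range (2 * n + 1), (-1 : ℤ) ^ i * (B i : ℤ)) / 2) *
        (RatFunc.X : RatFunc K) ^ (∑ i ∈ Finset.range (2 * n + 1), (-1 : ℤ) ^ i * (B i : ℤ)) *
        (algebraMap K[X] (RatFunc K) (∏ i ∈ Finset.range n, P (2 * i + 1)) /
         algebraMap K[X] (RatFunc K) (∏ i ∈ Finset.range (n + 1), P (2 * i))) := by
  obtain ⟨h1, h2⟩ := prod_relation n B d P _ _ hb
  obtain ⟨h3, h4⟩ := prod_det_sq n (q ^ n) B d ha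
  have hE' : (∑ i ∈ Finset.range (2 * n + 1), (-1 : ℤ) ^ i * (B i : ℤ)) =
      ((∑ m ∈ Finset.range (n + 1), B (2 * m) : ℕ) : ℤ) -
        ((∑ m ∈ Finset.range n, B (2 * m + 1) : ℕ) : ℤ) := by
    rw [sum_alt_split n (fun i => (B i : ℤ))]
    push_cast
    rfl
  generalize (∑ i ∈ Finset.range (2 * n + 1), (-1 : ℤ) ^ i * (B i : ℤ)) = E at hE hE' ⊢
  generalize (∑ m ∈ Finset.range n, B (2 * m + 1)) = So at h1 h3 hE'
  generalize (∑ m ∈ Finset.range (n + 1), B (2 * m)) = Se at h2 h4 hE'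
  generalize (∏ m ∈ Finset.range n, d (2 * m + 1)) = Do at h1 h3
  generalize (∏ m ∈ Finset.range (n + 1), d (2 * m)) = De at h2 h4
  generalize algebraMap K[X] (RatFunc K) (∏ m ∈ Finset.range n, P (2 * m + 1)) = Ao at h1 ⊢
  generalize algebraMap K[X] (RatFunc K) (∏ m ∈ Finset.range (n + 1), P (2 * m)) = Ae at h2 ⊢
  generalize aeval ((RatFunc.X : RatFunc K)⁻¹ * RatFunc.C (q ^ n)⁻¹)
    (∏ m ∈ Finset.range n, P (2 * m + 1)) = Yo at h1 ⊢
  generalize aeval ((RatFunc.X : RatFunc K)⁻¹ * RatFunc.C (q ^ n)⁻¹)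
    (∏ m ∈ Finset.range (n + 1), P (2 * m)) = Ye at h2 ⊢
  obtain ⟨h, hh⟩ := hE
  have hh2 : (n : ℤ) * E / 2 = h := by
    rw [hh]
    omega
  rw [hh2]
  have hQ : (RatFunc.C q : RatFunc K) ≠ 0 := by
    simpa using hq
  have hX : (RatFunc.X : RatFunc K) ≠ 0 := RatFunc.X_ne_zero
  have hu0 : (RatFunc.C (q ^ n) * RatFunc.X : RatFunc K) ≠ 0 :=
    mul_ne_zero (by simpa using pow_ne_zero n hq) hX
  have hu_pow : ∀ m : ℕ, (RatFunc.C (q ^ n) * RatFunc.X : RatFunc K) ^ m =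
      (RatFunc.C q) ^ (((n * m : ℕ)) : ℤ) * RatFunc.X ^ (m : ℤ) := by
    intro m
    rw [mul_pow, map_pow, ← pow_mul, zpow_natCast, zpow_natCast]
  have hratio : ((RatFunc.C (q ^ n) * RatFunc.X : RatFunc K) ^ So)⁻¹ /
      ((RatFunc.C (q ^ n) * RatFunc.X : RatFunc K) ^ Se)⁻¹ =
      (RatFunc.C q) ^ ((n : ℤ) * E) * RatFunc.X ^ E := by
    rw [hu_pow, hu_pow, inv_div_inv, mul_div_mul_comm, ← zpow_sub₀ hQ, ← zpow_sub₀ hX, hE']
    congr 2
    push_cast
    ring
  -- the determinants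
  have hDe : De ≠ 0 := by
    intro h0
    rw [h0] at h4
    exact pow_ne_zero Se (pow_ne_zero n hq) (by simpa using h4.symm)
  have hD : (Do / De) ^ 2 = (q ^ (-h)) ^ 2 := by
    rw [div_pow, h3, h4, ← pow_mul, ← pow_mul, ← zpow_natCast, ← zpow_natCast q,
      ← zpow_sub₀ hq, ← zpow_natCast (q ^ (-h)), ← zpow_mul]
    congr 1
    push_cast
    have : (n : ℤ) * E = (n : ℤ) * Se - n * So := by rw [hE']; ring
    omega
  obtain ⟨ε₂, hε₂, hDε⟩ : ∃ ε₂ : K, (ε₂ = 1 ∨ ε₂ = -1) ∧ Do / De = ε₂ * q ^ (-h) := by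
    rcases sq_eq_sq_iff_eq_or_eq_neg.mp hD with h5 | h5
    · exact ⟨1, Or.inl rfl, by rw [h5, one_mul]⟩
    · exact ⟨-1, Or.inr rfl, by rw [h5]; ring⟩
  have hsq : ∀ m : ℕ, ((-1 : RatFunc K) ^ m) * ((-1 : RatFunc K) ^ m) = 1 := by
    intro m
    rw [← mul_pow]
    simp
  have hYo : Yo = (-1) ^ So * RatFunc.C Do * Ao *
      ((RatFunc.C (q ^ n) * RatFunc.X : RatFunc K) ^ So)⁻¹ := by
    rw [mul_assoc ((-1 : RatFunc K) ^ So), h1, ← mul_assoc, ← mul_assoc, hsq, one_mul,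
      mul_assoc, mul_inv_cancel₀ (pow_ne_zero So hu0), mul_one]
  have hYe : Ye = (-1) ^ Se * RatFunc.C De * Ae *
      ((RatFunc.C (q ^ n) * RatFunc.X : RatFunc K) ^ Se)⁻¹ := by
    rw [mul_assoc ((-1 : RatFunc K) ^ Se), h2, ← mul_assoc, ← mul_assoc, hsq, one_mul,
      mul_assoc, mul_inv_cancel₀ (pow_ne_zero Se hu0), mul_one]
  refine ⟨(-1) ^ (So + Se) * ε₂, ?_, ?_⟩
  · rcases neg_one_pow_eq_or K (So + Se) with h6 | h6 <;> rcases hε₂ with h7 | h7 <;>
      simp [h6, h7]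
  · rw [hYo, hYe, mul_div_mul_comm, mul_div_mul_comm, mul_div_mul_comm, hratio]
    have h8 : (RatFunc.C Do : RatFunc K) / RatFunc.C De =
        RatFunc.C ε₂ * (RatFunc.C q) ^ (-h) := by
      rw [← map_div₀, hDε, map_mul, map_zpow₀]
    have h9 : ((-1 : RatFunc K) ^ So) / ((-1 : RatFunc K) ^ Se) =
        RatFunc.C ((-1 : K) ^ (So + Se)) := by
      rw [div_eq_iff (pow_ne_zero _ (by simp)), map_pow, map_neg, map_one, pow_add, mul_assoc,
        hsq, mul_one]
    rw [h8, h9, map_mul]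
    have h10 : (RatFunc.C q : RatFunc K) ^ ((n : ℤ) * E) =
        (RatFunc.C q) ^ h * (RatFunc.C q) ^ h := by
      rw [← zpow_add₀ hQ, hh]
    rw [h10, zpow_neg]
    field_simp

end main

end Groth.Agent.Lib.helper27.Frob7
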