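import Mathlib
import Groth.Prelude.Def_WeilCoh
import Groth.Agent.Lib.Helper27.Frob6
import Groth.Agent.Lib.Helper27.Frob7
import Groth.Agent.Lib.Helper27.WC9

/-!
# Helper library (helper27): the functional equation for `F = Frob_X × id` from a Weil cohomology.
-/

set_option autoImplicit false
set_option linter.style.haveILetI false
set_option linter.unusedSectionVars false
universe u v
open AlgebraicGeometry CategoryTheory Opposite TopologicalSpace Polynomial

namespace Groth.Agent.Lib.helper27.Frob8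

open Groth.Agent.Lib.helper27

section alt

variable {K : Type*} [Field K] [CharZero K] {V : Type*} [AddCommGroup V] [Module K V]
  [FiniteDimensional K V]

/-- a perfect alternating pairing lives on an even-dimensional space. -/
theorem even_finrank_of_alternating (p : V →ₗ[K] V →ₗ[K] K) [p.IsPerfPair]
    (hp : ∀ v w, p v w = - p w v) : Even (Module.finrank K V) := by
  classical
  let b := Module.finBasis K V
  let b' : Module.Basis (Fin (Module.finrank K V)) K V :=
    b.dualBasis.map (p.flip.toPerfPair.symm)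
  have hrepr : ∀ (w : V) (i : Fin (Module.finrank K V)), b'.repr w i = p (b i) w := by
    intro w i
    simp [b', Module.Basis.map_repr]
  let G : Matrix (Fin (Module.finrank K V)) (Fin (Module.finrank K V)) K :=
    fun i j => p (b i) (b j)
  let Y : Matrix (Fin (Module.finrank K V)) (Fin (Module.finrank K V)) K :=
    fun m j => b.repr (b' j) m
  have hGY : G * Y = 1 := by
    ext i j
    rw [Matrix.mul_apply]
    have h1 : p (b i) (b' j) = ∑ m, p (b i) (b m) * b.repr (b' j) m := by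
      have := congrArg (fun v => p (b i) v) (b.sum_repr (b' j)).symm
      simp only [map_sum, map_smul, smul_eq_mul] at this
      rw [this]
      apply Finset.sum_congr rfl
      intro m _
      ring
    rw [← h1, ← hrepr]
    simp [Matrix.one_apply, Finsupp.single_apply, eq_comm]
  have hdet : G.det ≠ 0 := by
    intro h0
    have := congrArg Matrix.det hGY
    rw [Matrix.det_mul, h0, zero_mul, Matrix.det_one] at this
    exact zero_ne_one this
  have hGT : G.transpose = -G := by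
    ext i j
    simp only [Matrix.transpose_apply, Matrix.neg_apply, G]
    exact hp _ _
  rcases Nat.even_or_odd (Module.finrank K V) with he | ho
  · exact he
  · exfalso
    have h1 : G.det = -G.det := by
      conv_lhs => rw [← Matrix.det_transpose, hGT, Matrix.det_neg, Fintype.card_fin, ho.neg_one_pow]
      ring
    exact hdet (self_eq_neg.mp h1)

end alt

section weilgeneral

variable {k : Type u} [Field k] [IsAlgClosed k] {K : Type v} [Field K] [CharZero K]
  (T : WeilCoh.Theory k K) (Xb : WeilCoh.Var k)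

theorem finrank_symm (i j : ℤ) (hij : i + j = 2 * (WeilCoh.dim Xb.obj.left : ℤ)) :
    Module.finrank K ↥(T.gr Xb i) = Module.finrank K ↥(T.gr Xb j) := by
  have := T.duality Xb i j hij
  exact Module.finrank_of_isPerfPair (WeilCoh.pairing K (T.gr Xb i) (T.gr Xb j) (T.tr Xb))

theorem even_finrank_middle (hn : Odd (WeilCoh.dim Xb.obj.left)) :
    Even (Module.finrank K ↥(T.gr Xb (WeilCoh.dim Xb.obj.left : ℤ))) := by
  have := T.duality Xb (WeilCoh.dim Xb.obj.left : ℤ) (WeilCoh.dim Xb.obj.left : ℤ) (by ring)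
  refine even_finrank_of_alternating
    (WeilCoh.pairing K (T.gr Xb (WeilCoh.dim Xb.obj.left : ℤ))
      (T.gr Xb (WeilCoh.dim Xb.obj.left : ℤ)) (T.tr Xb)) ?_
  intro v w
  have h1 := T.gradedComm Xb _ _ (v : T.H Xb) (w : T.H Xb) v.2 w.2
  rw [WC9.sign_eq_neg_one_of_odd (K := K) _ _ (by
    have : Odd ((WeilCoh.dim Xb.obj.left : ℤ)) := by exact_mod_cast hn
    exact this.mul this)] at h1
  have h2 := congrArg (T.tr Xb) h1
  rw [map_smul, smul_eq_mul, neg_one_mul] at h2
  simpa [WeilCoh.pairing] using h2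

theorem even_mul_euler :
    Even ((WeilCoh.dim Xb.obj.left : ℤ) *
      ∑ i ∈ Finset.range (2 * WeilCoh.dim Xb.obj.left + 1),
        (-1 : ℤ) ^ i * (Module.finrank K ↥(T.gr Xb (i : ℤ)) : ℤ)) := by
  rcases Nat.even_or_odd (WeilCoh.dim Xb.obj.left) with he | ho
  · have : Even ((WeilCoh.dim Xb.obj.left : ℤ)) := by exact_mod_cast he
    exact this.mul_right _
  · apply Even.mul_left
    rw [Frob7.sum_symm (WeilCoh.dim Xb.obj.left)
      (fun i => (-1 : ℤ) ^ i * (Module.finrank K ↥(T.gr Xb (i : ℤ)) : ℤ))]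
    · apply Even.add (even_two_mul _)
      apply Even.mul_left
      exact_mod_cast even_finrank_middle T Xb ho
    · intro i hi
      rw [finrank_symm T Xb ((2 * WeilCoh.dim Xb.obj.left - i : ℕ) : ℤ) (i : ℤ) (by
        push_cast [Nat.cast_sub hi]
        ring)]
      congr 1
      have h3 : (-1 : ℤ) ^ (2 * WeilCoh.dim Xb.obj.left - i) * (-1 : ℤ) ^ i = 1 := by
        rw [← pow_add, Nat.sub_add_cancel hi, pow_mul]
        simp
      have h4 : (-1 : ℤ) ^ i * (-1 : ℤ) ^ i = 1 := by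
        rw [← mul_pow]
        simp
      have h5 : ((-1 : ℤ) ^ i) ≠ 0 := pow_ne_zero _ (by norm_num)
      exact mul_right_cancel₀ h5 (h3.trans h4.symm)

end weilgeneral

section reverse

theorem aeval_eq_aeval_inv_reverse {K L : Type*} [Field K] [Field L] [Algebra K L] (χ : K[X])
    (u : L) (hu : u ≠ 0) : aeval u χ = aeval u⁻¹ χ.reverse * u ^ χ.natDegree := by
  letI := invertibleOfNonzero hu
  have := Polynomial.eval₂_reverse_mul_pow (algebraMap K L) u χ
  rw [invOf_eq_inv] at this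
  exact this.symm

end reverse

section frobenius

variable (k₀ : Type u) [Field k₀] [Finite k₀] (k : Type u) [Field k] [IsAlgClosed k] [Algebra k₀ k]
    (K : Type v) [Field K] [CharZero K] (T : WeilCoh.Theory k K)
    {X : Scheme.{u}} (f : X ⟶ Spec (CommRingCat.of k₀))
    (FX : X ⟶ X) (hFb : FX.base = 𝟙 _) (hle : ∀ U : X.Opens, U ≤ FX ⁻¹ᵁ U)
    (hFapp : ∀ (U : X.Opens) (s : Γ(X, U)), (FX.appLE U U (hle U)).hom s = s ^ Nat.card k₀)
    (Xb : WeilCoh.Var k) (π : Xb.obj.left ⟶ X)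
    (hπ : IsPullback π Xb.obj.hom f (Spec.map (CommRingCat.ofHom (algebraMap k₀ k))))
    (F : Xb ⟶ Xb) (hF : WeilCoh.sm F ≫ π = π ≫ FX)

include hFb hFapp hπ hF in
theorem det_relation (i : ℕ) (hi : i ≤ 2 * WeilCoh.dim Xb.obj.left) :
    LinearMap.det (T.pullDeg F ((2 * WeilCoh.dim Xb.obj.left - i : ℕ) : ℤ)) *
        LinearMap.det (T.pullDeg F (i : ℤ)) =
      ((Nat.card k₀ : K) ^ WeilCoh.dim Xb.obj.left) ^ Module.finrank K ↥(T.gr Xb (i : ℤ)) := by
  have hj : ((2 * WeilCoh.dim Xb.obj.left - i : ℕ) : ℤ) =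
      2 * (WeilCoh.dim Xb.obj.left : ℤ) - (i : ℤ) := by
    push_cast [Nat.cast_sub hi]
    ring
  rw [hj]
  have := T.duality Xb (i : ℤ) (2 * (WeilCoh.dim Xb.obj.left : ℤ) - i) (by omega)
  exact Frob5.det_mul_det
    (WeilCoh.pairing K (T.gr Xb (i : ℤ)) (T.gr Xb (2 * (WeilCoh.dim Xb.obj.left : ℤ) - i)) (T.tr Xb))
    (T.pullDeg F (i : ℤ)) (T.pullDeg F (2 * (WeilCoh.dim Xb.obj.left : ℤ) - i))
    ((Nat.card k₀ : K) ^ (WeilCoh.dim Xb.obj.left))
    (Frob6.pairing_pull k₀ k K T f FX hFb hle hFapp Xb π hπ F hF (i : ℤ) _ (by omega))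

include hFb hFapp hπ hF in
theorem charpoly_relation (i : ℕ) (hi : i ≤ 2 * WeilCoh.dim Xb.obj.left) :
    RatFunc.C (LinearMap.det (T.pullDeg F (i : ℤ))) * algebraMap K[X] (RatFunc K)
        (LinearMap.charpoly (T.pullDeg F ((2 * WeilCoh.dim Xb.obj.left - i : ℕ) : ℤ))).reverse =
      (-1) ^ Module.finrank K ↥(T.gr Xb (i : ℤ)) *
        aeval ((RatFunc.X : RatFunc K)⁻¹ *
          RatFunc.C ((Nat.card k₀ : K) ^ WeilCoh.dim Xb.obj.left)⁻¹)
          (LinearMap.charpoly (T.pullDeg F (i : ℤ))).reverse *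
        (RatFunc.C ((Nat.card k₀ : K) ^ WeilCoh.dim Xb.obj.left) * RatFunc.X) ^
          Module.finrank K ↥(T.gr Xb (i : ℤ)) := by
  have hj : ((2 * WeilCoh.dim Xb.obj.left - i : ℕ) : ℤ) =
      2 * (WeilCoh.dim Xb.obj.left : ℤ) - (i : ℤ) := by
    push_cast [Nat.cast_sub hi]
    ring
  rw [hj]
  have := T.duality Xb (i : ℤ) (2 * (WeilCoh.dim Xb.obj.left : ℤ) - i) (by omega)
  have h1 := Frob5.charpoly_reverse
    (WeilCoh.pairing K (T.gr Xb (i : ℤ)) (T.gr Xb (2 * (WeilCoh.dim Xb.obj.left : ℤ) - i)) (T.tr Xb))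
    (T.pullDeg F (i : ℤ)) (T.pullDeg F (2 * (WeilCoh.dim Xb.obj.left : ℤ) - i))
    ((Nat.card k₀ : K) ^ (WeilCoh.dim Xb.obj.left))
    (Frob6.pairing_pull k₀ k K T f FX hFb hle hFapp Xb π hπ F hF (i : ℤ) _ (by omega))
  have h2 := congrArg (algebraMap K[X] (RatFunc K)) h1
  rw [Polynomial.smul_eq_C_mul, map_mul, RatFunc.algebraMap_C, map_mul, map_pow, map_neg,
    map_one] at h2
  rw [h2]
  have hc : ((Nat.card k₀ : K) ^ WeilCoh.dim Xb.obj.left) ≠ 0 :=
    pow_ne_zero _ (by
      have : Nat.card k₀ ≠ 0 := Nat.card_pos.ne'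
      exact_mod_cast this)
  have hu0 : (RatFunc.C ((Nat.card k₀ : K) ^ WeilCoh.dim Xb.obj.left) * RatFunc.X : RatFunc K) ≠ 0 :=
    mul_ne_zero (by simpa using hc) RatFunc.X_ne_zero
  have h3 : algebraMap K[X] (RatFunc K) ((LinearMap.charpoly (T.pullDeg F (i : ℤ))).comp
      (C ((Nat.card k₀ : K) ^ WeilCoh.dim Xb.obj.left) * Polynomial.X)) =
      aeval (RatFunc.C ((Nat.card k₀ : K) ^ WeilCoh.dim Xb.obj.left) * RatFunc.X : RatFunc K)
        (LinearMap.charpoly (T.pullDeg F (i : ℤ))) := by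
    rw [← RatFunc.aeval_X_left_eq_algebraMap, aeval_comp]
    congr 1
    simp [RatFunc.aeval_X_left_eq_algebraMap]
  rw [h3, aeval_eq_aeval_inv_reverse _ _ hu0, LinearMap.charpoly_natDegree, mul_inv_rev, ← map_inv₀,
    mul_assoc]

end frobenius

end Groth.Agent.Lib.helper27.Frob8
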