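import Mathlib
import Groth.Agent.Lib.Helper27.Pts6
import Groth.Agent.Lib.Helper27.Frob9
import Groth.Agent.Lib.Helper27.Frob3

/-!
# Helper library (helper27): two closed points of `X ×_{k₀} k̄` over the same point of `X` are
conjugate under a power of `Frob_X × id`.
-/

set_option autoImplicit false
set_option linter.style.haveILetI false
set_option linter.unusedSectionVars false
universe u
open AlgebraicGeometry CategoryTheory Opposite TopologicalSpace

namespace Groth.Agent.Lib.helper27.FrobConj1

open Groth.Agent.Lib.helper27 Groth.Agent.Lib.helper27.Frob1 Groth.Agent.Lib.helper27.Frob2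
  Groth.Agent.Lib.helper27.Frob3 Groth.Agent.Lib.helper27.Frob4 Groth.Agent.Lib.helper27.Frob9
  Groth.Agent.Lib.helper27.Pts1 Groth.Agent.Lib.helper27.Pts3

section field

/-- two embeddings of a finite extension of a finite field into an algebraically closed field differ
by a power of the Frobenius. -/
theorem exists_pow_of_algHom (k κ K : Type*) [Field k] [Fintype k] [Field κ] [Algebra k κ]
    [Finite κ] [Field K] [Algebra k K] [IsAlgClosed K] (ι₀ ι' : κ →ₐ[k] K) :
    ∃ j : ℕ, ∀ z, ι' z = (ι₀ z) ^ (Fintype.card k ^ j) := by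
  classical
  haveI : FiniteDimensional k κ := Module.Finite.of_finite
  haveI : Algebra.IsSeparable k κ := Algebra.IsAlgebraic.isSeparable_of_perfectField
  let G : Fin (Module.finrank k κ) → (κ →ₐ[k] K) :=
    fun n => ι₀.comp (FiniteField.frobeniusAlgHom k κ ^ n.1)
  have hG : Function.Injective G := by
    intro m n hmn
    apply (FiniteField.bijective_frobeniusAlgHom_pow k κ).1
    apply AlgHom.ext
    intro z
    have := congrArg (fun φ : κ →ₐ[k] K => φ z) hmn
    exact ι₀.injective this
  have hcard : Nat.card (κ →ₐ[k] K) ≤ Nat.card (Fin (Module.finrank k κ)) := by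
    rw [Nat.card_eq_fintype_card, Nat.card_eq_fintype_card, AlgHom.card, Fintype.card_fin]
  obtain ⟨n, hn⟩ := (hG.bijective_of_nat_card_le hcard).2 ι'
  refine ⟨n.1, fun z => ?_⟩
  rw [← hn]
  change ι₀ ((FiniteField.frobeniusAlgHom k κ ^ n.1) z) = _
  rw [AlgHom.coe_pow, FiniteField.coe_frobeniusAlgHom, pow_iterate, map_pow]

end field

end Groth.Agent.Lib.helper27.FrobConj1
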