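import Mathlib
import Groth.Agent.Lib.Helper27.Fix5
import Groth.Agent.Lib.Helper27.FrobConj1

/-!
# Helper library (helper27): closed points of `X ×_{k₀} k̄` over the same point of `X` are conjugate
under a power of `Frob_X × id`.
-/

set_option autoImplicit false
set_option linter.style.haveILetI false
set_option linter.unusedSectionVars false
universe u
open AlgebraicGeometry CategoryTheory Opposite TopologicalSpace

namespace Groth.Agent.Lib.helper27.FrobDesc1

open Groth.Agent.Lib.helper27 Groth.Agent.Lib.helper27.Frob1 Groth.Agent.Lib.helper27.Frob2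
  Groth.Agent.Lib.helper27.Frob3 Groth.Agent.Lib.helper27.Frob4 Groth.Agent.Lib.helper27.Frob9
  Groth.Agent.Lib.helper27.Pts1 Groth.Agent.Lib.helper27.Pts3

section conj

variable {k₀ : Type u} [Field k₀] [Finite k₀] {X : Scheme.{u}} (f : X ⟶ Spec (CommRingCat.of k₀))
  [LocallyOfFiniteType f]
  (K : Type u) [Field K] [IsAlgClosed K] [Algebra k₀ K] [Algebra.IsAlgebraic k₀ K]

theorem finite_residueField_of_emb (x : X) (ι : Emb f K x) : Finite (X.residueField x) := by
  letI : Algebra k₀ (X.residueField x) := (cmap f x).hom.toAlgebra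
  let φ := embEquiv f K x ι
  haveI : Algebra.IsAlgebraic k₀ (X.residueField x) :=
    Algebra.IsAlgebraic.of_injective φ φ.injective
  haveI : Algebra.EssFiniteType k₀ (X.residueField x) := by
    have := @Frob3.essFiniteType_resMap k₀ _ X ⟨f⟩ ‹_› x
    rw [← cmap_eq_resMap] at this
    exact this
  haveI : Module.Finite k₀ (X.residueField x) :=
    Algebra.finite_of_essFiniteType_of_isAlgebraic
  exact Module.finite_of_finite k₀

theorem exists_pow_pts (a₀ a' : Pts f K)
    (h : a₀.1 (IsLocalRing.closedPoint K) = a'.1 (IsLocalRing.closedPoint K)) :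
    ∃ j : ℕ, ∀ ψ : K →+* K, (∀ y, ψ y = y ^ (Nat.card k₀ ^ j)) →
      a'.1 = Spec.map (CommRingCat.ofHom ψ) ≫ a₀.1 := by
  obtain ⟨⟨x, ι₀⟩, h₀⟩ : ∃ σ, (ptsEquiv f K).symm σ = a₀ :=
    ⟨ptsEquiv f K a₀, Equiv.symm_apply_apply _ _⟩
  obtain ⟨⟨x', ι'⟩, h'⟩ : ∃ σ, (ptsEquiv f K).symm σ = a' :=
    ⟨ptsEquiv f K a', Equiv.symm_apply_apply _ _⟩
  subst h₀ h'
  rw [ptsEquiv_symm_apply, ptsEquiv_symm_apply] at h
  have hx : x = x' := by
    simpa using h
  subst hx
  haveI := finite_residueField_of_emb f K x ι₀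
  haveI := Fintype.ofFinite k₀
  letI : Algebra k₀ (X.residueField x) := (cmap f x).hom.toAlgebra
  obtain ⟨j, hj⟩ := FrobConj1.exists_pow_of_algHom k₀ (X.residueField x) K
    (embEquiv f K x ι₀) (embEquiv f K x ι')
  refine ⟨j, fun ψ hψ => ?_⟩
  rw [ptsEquiv_symm_apply, ptsEquiv_symm_apply]
  have e1 : ι'.1 = ι₀.1 ≫ CommRingCat.ofHom ψ := by
    ext z
    have := hj z
    rw [← Nat.card_eq_fintype_card] at this
    change ι'.1.hom z = ψ (ι₀.1.hom z)
    rw [hψ]
    exact this
  rw [e1, Spec.map_comp, Category.assoc]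

end conj


section desc

variable (k₀ : Type u) [Field k₀] [Finite k₀] (K : Type u) [Field K] [IsAlgClosed K] [Algebra k₀ K]
  [Algebra.IsAlgebraic k₀ K]
  {X : Scheme.{u}} (f : X ⟶ Spec (CommRingCat.of k₀)) [LocallyOfFiniteType f] [QuasiCompact f]
  (FX : X ⟶ X) (hFb : FX.base = 𝟙 _) (hle : ∀ U : X.Opens, U ≤ FX ⁻¹ᵁ U)
  (hFapp : ∀ (U : X.Opens) (s : Γ(X, U)), (FX.appLE U U (hle U)).hom s = s ^ Nat.card k₀)
  {Y : Scheme.{u}} (g : Y ⟶ Spec (CommRingCat.of K)) (π : Y ⟶ X)
  (hπ : IsPullback π g f (Spec.map (CommRingCat.ofHom (algebraMap k₀ K))))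
  (F : Y ⟶ Y) (hF1 : F ≫ π = π ≫ FX) (hF2 : F ≫ g = g)

include hFb hFapp hπ hF1 hF2 in
/-- two closed points of `X ×_{k₀} K` over the same point of `X` are conjugate under a power of
`Frob_X × id`. -/
theorem exists_iterate_eq [LocallyOfFiniteType g] (y₀ y' : Y) (h₀ : IsClosed ({y₀} : Set Y))
    (h' : IsClosed ({y'} : Set Y)) (h : π y₀ = π y') : ∃ j : ℕ, F.base^[j] y₀ = y' := by
  obtain ⟨p, e, hp, hchar, hq⟩ := exists_char k₀
  haveI := hchar
  haveI : CharP K p := charP_of_injective_algebraMap (algebraMap k₀ K).injective p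
  have hk₀0 : (p : (CommRingCat.of k₀ : CommRingCat)) = 0 := CharP.cast_eq_zero k₀ p
  have hk0 : (p : (CommRingCat.of K : CommRingCat)) = 0 := CharP.cast_eq_zero K p
  have hS₀ := char_Spec (CommRingCat.of k₀) p hk₀0
  have hS := char_Spec (CommRingCat.of K) p hk0
  have hX : ∀ U : X.Opens, (p : Γ(X, U)) = 0 := char_of_hom f p (hS₀ ⊤)
  have hFX : FX = absFrob X p hp hX e := eq_absFrob p hp hX e FX hFb hle (by
    intro U s
    rw [hFapp U s, hq])
  let Fit : ℕ → (Y ⟶ Y) := fun n => Nat.rec (𝟙 Y) (fun _ G => G ≫ F) n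
  have Fit0 : Fit 0 = 𝟙 Y := rfl
  have FitS : ∀ n, Fit (n + 1) = Fit n ≫ F := fun n => rfl
  have hφπ : ∀ n : ℕ, Fit n ≫ π = π ≫ absFrob X p hp hX (e * n) := by
    intro n
    induction n with
    | zero =>
      rw [Fit0, Category.id_comp, Nat.mul_zero, absFrob_zero, Category.comp_id]
    | succ n ih =>
      rw [FitS, Category.assoc, hF1, ← Category.assoc, ih, Category.assoc, hFX,
        absFrob_comp, Nat.mul_succ]
  have hφg : ∀ n : ℕ, Fit n ≫ g = g := by
    intro n
    induction n with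
    | zero => rw [Fit0, Category.id_comp]
    | succ n ih => rw [FitS, Category.assoc, hF2, ih]
  have hφit : ∀ (n : ℕ) (y : Y), (Fit n) y = F.base^[n] y := by
    intro n
    induction n with
    | zero => intro y; rfl
    | succ n ih =>
      intro y
      rw [FitS, Function.iterate_succ_apply', ← ih y]
      rfl
  let s₀ := pointOfClosedPoint g y₀ h₀
  have hs₀ : s₀ ≫ g = 𝟙 _ := pointOfClosedPoint_comp g y₀ h₀
  have hs₀w : ∀ a, s₀ a = y₀ := pointOfClosedPoint_apply g y₀ h₀
  let s' := pointOfClosedPoint g y' h'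
  have hs' : s' ≫ g = 𝟙 _ := pointOfClosedPoint_comp g y' h'
  have hs'w : ∀ a, s' a = y' := pointOfClosedPoint_apply g y' h'
  let a₀ : Pts f K := Pts6.secEquivPts f g π hπ ⟨s₀, hs₀⟩
  let a' : Pts f K := Pts6.secEquivPts f g π hπ ⟨s', hs'⟩
  have ha₀ : a₀.1 = s₀ ≫ π := rfl
  have ha' : a'.1 = s' ≫ π := rfl
  have hpt : a₀.1 (IsLocalRing.closedPoint K) = a'.1 (IsLocalRing.closedPoint K) := by
    rw [ha₀, ha']
    change π (s₀ _) = π (s' _)
    rw [hs₀w, hs'w, h]
  obtain ⟨j, hj⟩ := exists_pow_pts f K a₀ a' hpt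
  let ψ : K →+* K := powHom (CommRingCat.of K) p hp hk0 (e * j)
  have hψ : ∀ y, ψ y = y ^ (Nat.card k₀ ^ j) := by
    intro y
    rw [hq, ← pow_mul]
    rfl
  have hFψ : ∀ a : Spec (CommRingCat.of K) ⟶ X,
      a ≫ absFrob X p hp hX (e * j) = Spec.map (CommRingCat.ofHom ψ) ≫ a := by
    intro a
    rw [← absFrob_naturality a p hp hS hX (e * j),
      absFrob_Spec (CommRingCat.of K) p hp hk0 hS (e * j)]
  have key : s' = s₀ ≫ Fit j := by
    apply hπ.hom_ext
    · rw [Category.assoc, hφπ, ← Category.assoc, ← ha₀, hFψ, ← hj ψ hψ, ha']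
    · rw [Category.assoc, hφg, hs₀, hs']
  refine ⟨j, ?_⟩
  rw [← hφit j y₀, ← hs₀w (IsLocalRing.closedPoint K), ← hs'w (IsLocalRing.closedPoint K), key]
  rfl

include hFb hFapp hπ hF1 hF2 in
/-- a closed subset of `X ×_{k₀} K` descends to `X` iff it is stable under `Frob_X × id`. -/
theorem closed_descends_iff (W : Set Y) (hW : IsClosed W) :
    (∃ Z : Set X, IsClosed Z ∧ π.base ⁻¹' Z = W) ↔ F.base '' W ⊆ W := by
  have hFπ : ∀ y : Y, π (F y) = π y := by
    intro y
    have h1 : (F ≫ π) y = (π ≫ FX) y := by rw [hF1]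
    rw [Scheme.Hom.comp_apply, Scheme.Hom.comp_apply] at h1
    rw [h1]
    change FX.base (π y) = π y
    rw [hFb]
    rfl
  constructor
  · rintro ⟨Z, hZ, rfl⟩
    rintro _ ⟨y, hy, rfl⟩
    change π (F y) ∈ Z
    rw [hFπ]
    exact hy
  · intro hst
    haveI : LocallyOfFiniteType g := MorphismProperty.of_isPullback hπ inferInstance
    haveI : QuasiCompact g := MorphismProperty.of_isPullback hπ inferInstance
    haveI : CompactSpace Y := QuasiCompact.compactSpace_of_compactSpace g
    haveI : JacobsonSpace Y := LocallyOfFiniteType.jacobsonSpace g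
    haveI : IsIntegralHom (Spec.map (CommRingCat.ofHom (algebraMap k₀ K))) := by
      rw [IsIntegralHom.SpecMap_iff]
      exact algebraMap_isIntegral_iff.mpr inferInstance
    haveI : IsIntegralHom π := MorphismProperty.of_isPullback hπ.flip inferInstance
    have hcl : IsClosedMap π.base := π.isClosedMap
    have hstab : ∀ (j : ℕ) (y : Y), y ∈ W → F.base^[j] y ∈ W := by
      intro j
      induction j with
      | zero => intro y hy; exact hy
      | succ n ih =>
        intro y hy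
        rw [Function.iterate_succ_apply']
        exact hst ⟨_, ih y hy, rfl⟩
    refine ⟨π.base '' W, hcl W hW, ?_⟩
    apply Set.Subset.antisymm
    · have hcl2 : IsClosed (π.base ⁻¹' (π.base '' W)) := (hcl W hW).preimage π.continuous
      rw [← hcl2.closure_eq,
        ← JacobsonSpace.closure_inter_closedPoints_eq_closure hcl2.isLocallyClosed]
      apply closure_minimal _ hW
      rintro y' ⟨⟨y, hy, hyy'⟩, hy'cl⟩
      have hy'cl' : IsClosed ({y'} : Set Y) := hy'cl
      obtain ⟨y₀, hy₀mem, hy₀cl⟩ :=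
        (isClosed_closure (s := ({y} : Set Y))).exists_closed_singleton
          ⟨y, subset_closure rfl⟩
      have hy₀W : y₀ ∈ W := (closure_minimal (Set.singleton_subset_iff.mpr hy) hW) hy₀mem
      have hxcl : IsClosed ({π y'} : Set X) := by
        have := hcl _ hy'cl'
        rwa [Set.image_singleton] at this
      have h1 : π y₀ ∈ closure ({π y} : Set X) := by
        have := image_closure_subset_closure_image π.continuous (s := {y}) ⟨y₀, hy₀mem, rfl⟩
        rwa [Set.image_singleton] at this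
      have hyy'' : π y = π y' := hyy'
      rw [hyy'', hxcl.closure_eq] at h1
      obtain ⟨j, hj⟩ := exists_iterate_eq k₀ K f FX hFb hle hFapp g π hπ F hF1 hF2 y₀ y' hy₀cl
        hy'cl' h1
      rw [← hj]
      exact hstab j y₀ hy₀W
    · exact Set.subset_preimage_image _ _

end desc

end Groth.Agent.Lib.helper27.FrobDesc1
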