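import Mathlib
import Groth.Prelude.Def_CohCx
import Groth.Agent.S0883
import Groth.Agent.S0931
import Groth.Agent.Lib.Helper27.HDirPsh
import Groth.Agent.Lib.Helper27.MapExtend3

/-!
helper27: the cohomology sheaves of `R f_* K` are the sheafifications of `V ↦ H^p(f⁻¹ V, K)`.
-/

set_option autoImplicit false
universe u
open CategoryTheory CategoryTheory.Limits Opposite DerivedCategory TopologicalSpace

namespace Groth.Agent.Lib.helper27.HDirMain

open Groth.Agent.Lib.helper27.HDirPsh

variable {X Y : TopCat.{u}} (f : X ⟶ Y)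
  [HasDerivedCategory.{u} (CohTop.Ab X)] [HasDerivedCategory.{u} (CohTop.Ab Y)]

theorem hKinj (K : CochainComplex (CohTop.Ab X) ℤ) :
    ∃ (I : CochainComplex (CohTop.Ab X) ℤ) (f : K ⟶ I), I.IsKInjective ∧ QuasiIso f := by
  obtain ⟨I, f, hI, hf, -, -⟩ := Groth.Agent.Lib.Helper25.KInjMain.exists_kInjective_resolution K
  exact ⟨I, f, hI, hf⟩

theorem exists_RG :
    ∃ (RG : DerivedCategory (CohTop.Ab X) ⥤ DerivedCategory (CohTop.Ab Y))
      (_ : (CohTop.pull f).mapDerivedCategory ⊣ RG),
      ∀ (I : CochainComplex (CohTop.Ab X) ℤ), I.IsKInjective →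
        Nonempty (RG.obj (Q.obj I) ≅
          Q.obj (((CohTop.push f).mapHomologicalComplex (ComplexShape.up ℤ)).obj I)) := by
  have hD : ((CohTop.push f).mapHomotopyCategory (ComplexShape.up ℤ) ⋙
      DerivedCategory.Qh).HasRightDerivedFunctor
      (HomotopyCategory.quasiIso (CohTop.Ab X) (ComplexShape.up ℤ)) :=
    Groth.Agent.Lib.Helper25.DerBC.hasRightDerivedFunctor (hKinj (X := X)) _
  obtain ⟨adj', -⟩ := Groth.Agent.Lib.Helper25.DerAdjK.exists_adjunction (hKinj (X := X))
    (PullConst.pbAdj f)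
    (((CohTop.push f).mapHomotopyCategory (ComplexShape.up ℤ) ⋙
      DerivedCategory.Qh).totalRightDerived DerivedCategory.Qh
      (HomotopyCategory.quasiIso (CohTop.Ab X) (ComplexShape.up ℤ)))
    (((CohTop.push f).mapHomotopyCategory (ComplexShape.up ℤ) ⋙
      DerivedCategory.Qh).totalRightDerivedUnit DerivedCategory.Qh
      (HomotopyCategory.quasiIso (CohTop.Ab X) (ComplexShape.up ℤ)))
  refine ⟨_, adj', fun I hI => ?_⟩
  have := Groth.Agent.Lib.Helper25.DerAdjK.isIso_unit_of_isKInjective (hKinj (X := X))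
    (((CohTop.push f).mapHomotopyCategory (ComplexShape.up ℤ) ⋙
      DerivedCategory.Qh).totalRightDerived DerivedCategory.Qh
      (HomotopyCategory.quasiIso (CohTop.Ab X) (ComplexShape.up ℤ)))
    (((CohTop.push f).mapHomotopyCategory (ComplexShape.up ℤ) ⋙
      DerivedCategory.Qh).totalRightDerivedUnit DerivedCategory.Qh
      (HomotopyCategory.quasiIso (CohTop.Ab X) (ComplexShape.up ℤ))) I
  exact ⟨(asIso ((((CohTop.push f).mapHomotopyCategory (ComplexShape.up ℤ) ⋙
      DerivedCategory.Qh).totalRightDerivedUnit DerivedCategory.Qh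
      (HomotopyCategory.quasiIso (CohTop.Ab X) (ComplexShape.up ℤ))).app
        ((HomotopyCategory.quotient _ _).obj I))).symm⟩

section PartB

universe w w' v₁ u₁ v₂ u₂

variable {A : Type u₁} [Category.{v₁} A] [Abelian A] [HasDerivedCategory.{w} A] [EnoughInjectives A]
    {B : Type u₂} [Category.{v₂} B] [Abelian B] [HasDerivedCategory.{w'} B]
    (F : A ⥤ B) [F.Additive]

theorem plus_iso (K : CochainComplex.Plus A) (p : ℤ) :
    ∃ (I : CochainComplex.Plus A) (i : K ⟶ I), QuasiIso i.hom ∧ I.obj.IsKInjective ∧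
      Nonempty ((DerivedCategory.Plus.homologyFunctor B p).obj
        (F.rightDerivedFunctorPlus.obj (DerivedCategory.Plus.Qh.obj
          ((HomotopyCategory.Plus.quotient A).obj K))) ≅
        (DerivedCategory.homologyFunctor B p).obj
          (Q.obj ((F.mapHomologicalComplex (ComplexShape.up ℤ)).obj I.obj))) := by
  obtain ⟨n, hn⟩ := K.property
  have : K.obj.IsStrictlyGE n := hn
  obtain ⟨L, hL, i, hi⟩ := CochainComplex.Plus.exists_quasiIso_injective K n
  have hq : QuasiIso i.hom := hi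
  have hinj : ∀ m, Injective (((InjectiveObject.ι A).mapCochainComplexPlus.obj L).obj.X m) :=
    fun m => (L.obj.X m).property
  have hge : (((InjectiveObject.ι A).mapCochainComplexPlus.obj L).obj).IsStrictlyGE n :=
    inferInstanceAs (CochainComplex.IsStrictlyGE
      (((InjectiveObject.ι A).mapHomologicalComplex _).obj L.obj) n)
  refine ⟨(InjectiveObject.ι A).mapCochainComplexPlus.obj L, i, hq,
    CochainComplex.isKInjective_of_injective _ n, ?_⟩
  have h1 : IsIso (DerivedCategory.Plus.Qh.map ((HomotopyCategory.Plus.quotient A).map i)) :=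
    (MapExtend.isIso_Qh_map_quotient_map_iff i).2 hq
  have h2 : IsIso (F.rightDerivedFunctorPlusUnit.app ((HomotopyCategory.Plus.quotient A).obj
      ((InjectiveObject.ι A).mapCochainComplexPlus.obj L))) := inferInstance
  exact ⟨(DerivedCategory.Plus.homologyFunctor B p).mapIso
    (F.rightDerivedFunctorPlus.mapIso
      (asIso (DerivedCategory.Plus.Qh.map ((HomotopyCategory.Plus.quotient A).map i))) ≪≫
      (asIso (F.rightDerivedFunctorPlusUnit.app ((HomotopyCategory.Plus.quotient A).obj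
        ((InjectiveObject.ι A).mapCochainComplexPlus.obj L)))).symm)⟩

end PartB

open Groth.Agent.Lib.helper7.FreeYoneda in
theorem main (K : CochainComplex.Plus (CohTop.Ab X)) (p : ℤ) :
    Nonempty ((DerivedCategory.Plus.homologyFunctor (CohTop.Ab Y) p).obj
        ((CohTop.push f).rightDerivedFunctorPlus.obj
          (DerivedCategory.Plus.Qh.obj ((HomotopyCategory.Plus.quotient (CohTop.Ab X)).obj K))) ≅
      (presheafToSheaf (Opens.grothendieckTopology Y) AddCommGrpCat.{u}).obj
        ((Opens.map f).op ⋙ CohCx.HDUPresheaf (DerivedCategory.Q.obj K.obj) p)) := by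
  obtain ⟨RG, adj, hRG⟩ := exists_RG f
  obtain ⟨I, i, hi, hI, ⟨e⟩⟩ := plus_iso (CohTop.push f) K p
  obtain ⟨eI⟩ := hRG I.obj hI
  have : IsIso (Q.map i.hom) := by
    rw [DerivedCategory.isIso_Q_map_iff_quasiIso]; exact hi
  obtain ⟨e0⟩ := Groth.Agent.S0931.result (RG.obj (Q.obj K.obj)) p
  let e1 : CohCx.HDUPresheaf (RG.obj (Q.obj K.obj)) p ≅
      (Opens.map f).op ⋙ CohCx.HDUPresheaf (DerivedCategory.Q.obj K.obj) p :=
    HDirPsh.iso (freeSheaf (Opens.grothendieckTopology X)) (freeSheaf (Opens.grothendieckTopology Y))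
      (CohTop.pull f) adj (Opens.map f) (Groth.Agent.S0883.theta f) (Q.obj K.obj) p
  exact ⟨e ≪≫ (DerivedCategory.homologyFunctor (CohTop.Ab Y) p).mapIso
    (eI.symm ≪≫ RG.mapIso (asIso (Q.map i.hom)).symm) ≪≫ e0.symm ≪≫
    (presheafToSheaf (Opens.grothendieckTopology Y) AddCommGrpCat.{u}).mapIso e1⟩

end Groth.Agent.Lib.helper27.HDirMain
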