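import Mathlib
import Groth.Prelude.Def_LocCohZ
import Groth.Agent.Lib.Helper27.HZshVanish

set_option autoImplicit false
set_option linter.style.haveILetI false
set_option linter.unusedSectionVars false
set_option linter.unusedVariables false

namespace Groth.Agent.Lib.helper27

open CategoryTheory Limits Opposite Abelian TopologicalSpace

universe u

namespace HZshVanish

variable {X : TopCat.{u}}

lemma res_eq (F : CohTop.Ab X) (i : ℕ) {W V : Opens X} (h : W ≤ V) (x : CohTop.HU F i V) :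
    CohTop.res F i h x =
      (Ext.mk₀ (CohCx.freeSheafMap (Opens.grothendieckTopology X) (homOfLE h))).comp x
        (zero_add i) := rfl

/-- the long exact sequence of cohomology with supports: vanishing of `H^i_Z` in a range in terms
of the restriction maps -/
theorem HZ_vanish_iff (F : CohTop.Ab X) {W V : Opens X} (h : W ≤ V) (N : ℕ) :
    (∀ i : ℕ, i ≤ N → Subsingleton (LocCohZ.HZ F i h)) ↔
      (∀ i : ℕ, i < N → Function.Bijective (CohTop.res F i h)) ∧
        Function.Injective (CohTop.res F N h) := by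
  have hS := LocCohZ.zqSeq_shortExact h
  have hsub : ∀ i : ℕ, Subsingleton (LocCohZ.HZ F i h) →
      ∀ x : Ext (LocCohZ.zqSeq h).X₃ F i, x = 0 := fun i hi x => @Subsingleton.elim _ hi x 0
  have inj_of : ∀ i : ℕ, Subsingleton (LocCohZ.HZ F i h) →
      Function.Injective (CohTop.res F i h) := by
    intro i hi
    rw [injective_iff_map_eq_zero]
    intro x₂ hx₂
    rw [res_eq] at hx₂
    obtain ⟨x₃, rfl⟩ := Ext.contravariant_sequence_exact₂ hS F x₂ hx₂
    rw [hsub i hi x₃, Ext.comp_zero]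
    rfl
  have surj_of : ∀ i : ℕ, Subsingleton (LocCohZ.HZ F (i + 1) h) →
      Function.Surjective (CohTop.res F i h) := by
    intro i hi x₁
    have h0 : hS.extClass.comp x₁ (add_comm 1 i) = 0 := hsub (i + 1) hi _
    obtain ⟨x₂, hx₂⟩ := Ext.contravariant_sequence_exact₁ hS F x₁ (add_comm 1 i) h0
    exact ⟨x₂, hx₂⟩
  constructor
  · intro hv
    refine ⟨fun i hi => ⟨inj_of i (hv i hi.le), surj_of i (hv (i + 1) hi)⟩, inj_of N (hv N le_rfl)⟩
  · rintro ⟨hb, hinj⟩ i hi
    have hinj' : Function.Injective (CohTop.res F i h) := by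
      rcases Nat.lt_or_ge i N with h1 | h1
      · exact (hb i h1).1
      · obtain rfl : i = N := le_antisymm hi h1
        exact hinj
    suffices key : ∀ x₃ : Ext (LocCohZ.zqSeq h).X₃ F i, x₃ = 0 from
      ⟨fun a b => (key a).trans (key b).symm⟩
    intro x₃
    have hx₂ : (Ext.mk₀ (LocCohZ.zqSeq h).g).comp x₃ (zero_add i) = 0 := by
      have this : (Ext.mk₀ (LocCohZ.zqSeq h).f).comp
          ((Ext.mk₀ (LocCohZ.zqSeq h).g).comp x₃ (zero_add i)) (zero_add i) = 0 := by
        rw [← Ext.comp_assoc (Ext.mk₀ (LocCohZ.zqSeq h).f) (Ext.mk₀ (LocCohZ.zqSeq h).g) x₃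
          (zero_add 0) (zero_add i) (by omega), Ext.mk₀_comp_mk₀, (LocCohZ.zqSeq h).zero,
          Ext.mk₀_zero, Ext.zero_comp]
      exact hinj' (this.trans (map_zero (CohTop.res F i h)).symm)
    cases i with
    | zero =>
      haveI : Epi (LocCohZ.zqSeq h).g := hS.epi_g
      have hz : (Ext.mk₀ (LocCohZ.zqSeq h).g).comp (0 : Ext (LocCohZ.zqSeq h).X₃ F 0) (zero_add 0) = 0 :=
        Ext.comp_zero _ _ _ _ _
      exact Ext.precomp_mk₀_injective_of_epi F (LocCohZ.zqSeq h).g (hx₂.trans hz.symm)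
    | succ j =>
      obtain ⟨x₁, rfl⟩ := Ext.contravariant_sequence_exact₃ hS F x₃ hx₂ (add_comm 1 j)
      obtain ⟨x₂, hx₂'⟩ := (hb j (Nat.lt_of_succ_le hi)).2 x₁
      have e : x₁ = (Ext.mk₀ (LocCohZ.zqSeq h).f).comp x₂ (zero_add j) := hx₂'.symm
      rw [e]
      exact hS.extClass_comp_assoc _

theorem S6020 (F : CohTop.Ab X) (U : Opens X) (N : ℕ) :
    (∀ i : ℕ, i ≤ N → IsZero ((LocCohZ.HZsh U i).obj F)) ↔
      ∀ V : Opens X, (∀ i : ℕ, i < N → Function.Bijective (CohTop.res F i (inf_le_left : V ⊓ U ≤ V))) ∧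
        Function.Injective (CohTop.res F N (inf_le_left : V ⊓ U ≤ V)) := by
  have h := main U (N + 1) F
  constructor
  · intro h1 V
    rw [← HZ_vanish_iff]
    intro i hi
    exact h.1 (fun i hi => h1 i (Nat.lt_succ_iff.1 hi)) i (Nat.lt_succ_iff.2 hi) V
  · intro h2 i hi
    refine h.2 (fun i hi V => ?_) i (Nat.lt_succ_iff.2 hi)
    exact (HZ_vanish_iff F _ N).2 (h2 V) i (Nat.lt_succ_iff.1 hi)

end HZshVanish

end Groth.Agent.Lib.helper27
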