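import Mathlib
import Groth.Prelude.Def_LocCohZ
import Groth.Agent.Lib.Helper27.FunLES
import Groth.Agent.Lib.Helper27.SectSupp4
import Groth.Agent.Lib.Helper27.PushComp
import Groth.Agent.Lib.Helper27.DeltaFPre
import Groth.Agent.Lib.Helper27.OpenRestr

set_option autoImplicit false
set_option linter.style.haveILetI false

namespace Groth.Agent.Lib.helper27

open CategoryTheory Limits Opposite Abelian TopologicalSpace

universe u

namespace LocCohFun

variable {X : TopCat.{u}} (U : Opens X)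

instance pullAdditive {X Y : TopCat.{u}} (f : X ⟶ Y) :
    (CohTop.pull f).Additive :=
  haveI : (TopCat.Sheaf.pushforward AddCommGrpCat.{u} f).Additive :=
    inferInstanceAs (CohTop.push f).Additive
  (TopCat.Sheaf.pullbackPushforwardAdjunction AddCommGrpCat.{u} f).left_adjoint_additive

instance pullAdditive' : (CohTop.pull (CohCx.incl U)).Additive := pullAdditive (CohCx.incl U)

instance pushAdditive' : (CohTop.push (CohCx.incl U)).Additive :=
  CohTop.instAdditiveAbPush (CohCx.incl U)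

instance compAdditive' : (CohTop.pull (CohCx.incl U) ⋙ CohTop.push (CohCx.incl U)).Additive :=
  inferInstance

instance pull_pfl' : PreservesFiniteLimits (CohTop.pull (CohCx.incl U)) :=
  PushComp.pull_preservesFiniteLimits (CohCx.incl U)

instance push_pl' : PreservesLimits (CohTop.push (CohCx.incl U)) :=
  PushComp.push_preservesLimits (CohCx.incl U)

/-- the inclusion `Γ_Z ⟶ 𝟭` -/
noncomputable def ιNat : LocCohZ.sectSuppF U ⟶ 𝟭 (CohTop.Ab X) where
  app F := SectSupp.ιZ U F
  naturality _ _ f := SectSupp.map_ι U f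

/-- the unit `𝟭 ⟶ j_* j⁻¹` -/
noncomputable abbrev ηNat :
    𝟭 (CohTop.Ab X) ⟶ CohTop.pull (CohCx.incl U) ⋙ CohTop.push (CohCx.incl U) :=
  (TopCat.Sheaf.pullbackPushforwardAdjunction AddCommGrpCat.{u} (CohCx.incl U)).unit

lemma w : ιNat U ≫ ηNat U = 0 := by
  apply NatTrans.ext
  funext F
  exact SectSupp.ιZ_η U F

lemma epi_adj₂_unit (F : CohTop.Ab X) [hF : TopCat.Sheaf.IsFlasque F] :
    Epi ((SectSupp.adj₂ U).unit.app F) := by
  have h1 : Epi ((SectSupp.adj₂ U).unit.app F).hom := by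
    haveI : ∀ V, Epi (((SectSupp.adj₂ U).unit.app F).hom.app V) := by
      intro V
      have := SectSupp.adj₂_unit_app U F V.unop
      change Epi (((SectSupp.adj₂ U).unit.app F).hom.app (op V.unop))
      rw [this]
      exact TopCat.Presheaf.IsFlasque.epi (F := F.obj) _
    exact NatTrans.epi_of_epi_app _
  exact (sheafToPresheaf _ _).epi_of_epi_map h1

lemma epi_η (F : CohTop.Ab X) [hF : TopCat.Sheaf.IsFlasque F] : Epi (SectSupp.η U F) := by
  have h := Adjunction.unit_leftAdjointUniq_hom_app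
    (TopCat.Sheaf.pullbackPushforwardAdjunction AddCommGrpCat.{u} (CohCx.incl U))
    (SectSupp.adj₂ U) F
  have := epi_adj₂_unit U F
  rw [← h] at this
  exact (epi_comp_iff_of_isIso _ _).1 this

lemma hex (I : CohTop.Ab X) (hI : Injective I) :
    (ShortComplex.mk ((ιNat U).app I) ((ηNat U).app I)
      (by rw [← NatTrans.comp_app, w]; rfl)).ShortExact := by
  have hfl : TopCat.Sheaf.IsFlasque I := Groth.Agent.S0454.result I
  have h1 : Mono (SectSupp.ιZ U I) := inferInstance
  have h2 : Epi (SectSupp.η U I) := epi_η U I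
  refine ShortComplex.ShortExact.mk' ?_ h1 h2
  exact ShortComplex.exact_of_f_is_kernel _ (kernelIsKernel (SectSupp.η U I))

lemma isZero_rightDerived_id_succ {C : Type*} [Category C] [Abelian C] [EnoughInjectives C]
    (n : ℕ) (F : C) : IsZero (((𝟭 C).rightDerived (n + 1)).obj F) :=
  Horseshoe.isZero_rightDerived_succ_of_class (𝟭 C) (fun _ => True)
    (fun X => ⟨X, 𝟙 X, trivial, inferInstance⟩)
    (fun S hS _ _ => ⟨trivial, hS.map_of_exact (𝟭 C)⟩) n F trivial

/-- `Rⁿ⁺¹(j_* j⁻¹) ≅ ℋⁿ⁺²_Z` -/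
noncomputable def δIso (n : ℕ) :
    (CohTop.pull (CohCx.incl U) ⋙ CohTop.push (CohCx.incl U)).rightDerived (n + 1) ≅
      LocCohZ.HZsh U (n + 2) :=
  FunLES.δIso (ιNat U) (ηNat U) (w U) (hex U) (n + 1)
    (isZero_rightDerived_id_succ n) (isZero_rightDerived_id_succ (n + 1))

instance : PreservesFiniteLimits (CohTop.pull (CohCx.incl U) ⋙ CohTop.push (CohCx.incl U)) :=
  inferInstance

/-- `coker (F ⟶ j_* j⁻¹ F) ≅ ℋ¹_Z` -/
noncomputable def cokerIso : cokernel (ηNat U) ≅ LocCohZ.HZsh U 1 :=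
  cokernel.mapIso (ηNat U) (NatTrans.rightDerived (ηNat U) 0)
    (asIso (𝟭 (CohTop.Ab X)).toRightDerivedZero)
    (asIso (CohTop.pull (CohCx.incl U) ⋙ CohTop.push (CohCx.incl U)).toRightDerivedZero)
    (FunLES.toRightDerivedZero_naturality (ηNat U)) ≪≫
  FunLES.cokernelIso (ιNat U) (ηNat U) (w U) (hex U) (isZero_rightDerived_id_succ 0)

/-- the two left adjoints of `j_*` -/
noncomputable def pullIsoRestr : CohTop.pull (CohCx.incl U) ≅ CohTop.restrFunctor U :=
  (TopCat.Sheaf.pullbackPushforwardAdjunction AddCommGrpCat.{u} (CohCx.incl U)).leftAdjointUniq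
    (SectSupp.adj₂ U)

lemma isZero_Rpush_pull (I : CohTop.Ab X) (hI : Injective I) (q : ℕ) :
    IsZero ((CohTop.Rpush (CohCx.incl U) (q + 1)).obj ((CohTop.pull (CohCx.incl U)).obj I)) := by
  have hfl : TopCat.Sheaf.IsFlasque I := Groth.Agent.S0454.result I
  have := OpenRestr.isFlasque_restr U I
  exact (FlasqueAcyc.isZero_Rpush_succ (CohCx.incl U) (CohTop.restr I U) q).of_iso
    ((CohTop.Rpush (CohCx.incl U) (q + 1)).mapIso ((pullIsoRestr U).app I))

instance pull_pfc' : PreservesFiniteColimits (CohTop.pull (CohCx.incl U)) := by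
  haveI : PreservesColimits (CohTop.pull (CohCx.incl U)) :=
    (TopCat.Sheaf.pullbackPushforwardAdjunction AddCommGrpCat.{u}
      (CohCx.incl U)).leftAdjoint_preservesColimits
  infer_instance

/-- `ℋⁿ⁺²_Z ≅ j⁻¹ ⋙ Rⁿ⁺¹j_*` -/
theorem HZsh_succ_succ_iso (n : ℕ) :
    Nonempty (LocCohZ.HZsh U (n + 2) ≅
      CohTop.pull (CohCx.incl U) ⋙ CohTop.Rpush (CohCx.incl U) (n + 1)) := by
  obtain ⟨e⟩ := DeltaFPre.rightDerived_comp_exact_iso (CohTop.pull (CohCx.incl U))
    (CohTop.push (CohCx.incl U)) (isZero_Rpush_pull U) (n + 1)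
  exact ⟨(δIso U n).symm ≪≫ e⟩

end LocCohFun

end Groth.Agent.Lib.helper27
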