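import Mathlib
import Groth.Prelude.Def_LocCohZ
import Groth.Agent.Lib.Helper27.HZshVanish2
import Groth.Agent.Lib.Helper27.LocCohFun

set_option autoImplicit false
set_option linter.style.haveILetI false
set_option linter.unusedSectionVars false
set_option linter.unusedVariables false

namespace Groth.Agent.Lib.helper27

open CategoryTheory Limits Opposite Abelian TopologicalSpace

universe u

namespace HZshVanish

variable {X : TopCat.{u}} (U : Opens X)

/-- the restriction maps `H^i(V, G) → H^i(V ∩ U, G)` are surjective -/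
def SurjRes (i : ℕ) (G : CohTop.Ab X) : Prop :=
  ∀ V : Opens X, Function.Surjective (CohTop.res G i (inf_le_left : V ⊓ U ≤ V))

lemma res_comp (G G' : CohTop.Ab X) (i j k : ℕ) (hk : i + j = k) {W V : Opens X} (h : W ≤ V)
    (x : CohTop.HU G i V) (e : Ext G G' j) :
    CohTop.res G' k h (x.comp e hk) = (CohTop.res G i h x).comp e hk := by
  rw [res_eq, res_eq]
  exact (Ext.comp_assoc _ _ _ (zero_add i) hk (by omega)).symm

lemma ext_sub_comp {𝒜 : Type*} [Category 𝒜] [Abelian 𝒜] [HasExt.{u} 𝒜] {A B D : 𝒜} {i j k : ℕ}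
    (a b : Ext.{u} A B i) (e : Ext.{u} B D j) (h : i + j = k) :
    (a - b).comp e h = a.comp e h - b.comp e h := by
  rw [sub_eq_add_neg, Ext.add_comp, Ext.neg_comp, ← sub_eq_add_neg]

lemma ext_chase {𝒜 : Type*} [Category 𝒜] [Abelian 𝒜] [HasExt.{u} 𝒜] (S : ShortComplex 𝒜)
    (hS : S.ShortExact) {P P' : 𝒜} (r : P' ⟶ P) (N : ℕ)
    (h₁ : ∀ z : Ext.{u} P' S.X₁ (N + 1), ∃ ξ : Ext.{u} P S.X₁ (N + 1),
      (Ext.mk₀ r).comp ξ (zero_add _) = z)
    (h₂ : ∀ z : Ext.{u} P' S.X₂ N, ∃ w : Ext.{u} P S.X₂ N, (Ext.mk₀ r).comp w (zero_add _) = z)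
    (hJ : ∀ z : Ext.{u} P S.X₂ (N + 1), z = 0) (y : Ext.{u} P' S.X₃ N) :
    ∃ x : Ext.{u} P S.X₃ N, (Ext.mk₀ r).comp x (zero_add _) = y := by
  obtain ⟨ξ, hξ⟩ := h₁ (y.comp hS.extClass rfl)
  obtain ⟨x, hx⟩ := Ext.covariant_sequence_exact₁ _ hS ξ (hJ _) rfl
  have hd : ((Ext.mk₀ r).comp x (zero_add _) - y).comp hS.extClass rfl = 0 := by
    rw [ext_sub_comp, Ext.comp_assoc (Ext.mk₀ r) x hS.extClass (zero_add N) rfl (by omega), hx, hξ,
      sub_self]
  obtain ⟨w, hw⟩ := Ext.covariant_sequence_exact₃ _ hS _ rfl hd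
  obtain ⟨w', hw'⟩ := h₂ w
  refine ⟨x - w'.comp (Ext.mk₀ S.g) (add_zero N), ?_⟩
  rw [sub_eq_add_neg, Ext.comp_add, Ext.comp_neg, ← sub_eq_add_neg,
    ← Ext.comp_assoc (Ext.mk₀ r) w' (Ext.mk₀ S.g) (zero_add N) (add_zero N)
    (by omega), hw', hw, sub_sub_cancel]

section shift

variable (S : ShortComplex (CohTop.Ab X)) (hS : S.ShortExact)
  (hfl : TopCat.Sheaf.IsFlasque S.X₂) (h0 : NoSupp U S.X₂)

include hS hfl h0

lemma surjRes_X₂ (i : ℕ) : SurjRes U i S.X₂ := by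
  intro V
  have hB : ∀ k : ℕ, k ≤ i + 1 → Subsingleton (LocCohZ.HZ S.X₂ k (inf_le_left : V ⊓ U ≤ V)) :=
    fun k _ => B_X₂ U S hS hfl h0 k V
  exact (((HZ_vanish_iff S.X₂ (inf_le_left : V ⊓ U ≤ V) (i + 1)).1 hB).1 i (Nat.lt_succ_self i)).2

lemma surjRes_X₃ (N : ℕ) (h : SurjRes U (N + 1) S.X₁) : SurjRes U N S.X₃ := by
  intro V
  exact ext_chase S hS
    (CohCx.freeSheafMap (Opens.grothendieckTopology X) (homOfLE (inf_le_left : V ⊓ U ≤ V))) N
    (fun z => h V z) (fun z => surjRes_X₂ U S hS hfl h0 N V z)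
    (fun z => (Groth.Agent.S0452.result S.X₂ V N).elim z 0)

end shift


lemma epi_η_of_surjRes (G : CohTop.Ab X) (h : SurjRes U 0 G) : Epi (SectSupp.η U G) := by
  have key : ∀ V : Opens X, Function.Surjective (G.obj.map (homOfLE (SectSupp.jj_le U V)).op).hom := by
    intro V t
    let t' : G.obj.obj (op (V ⊓ U)) := (G.obj.map (homOfLE (inf_le_jj U V)).op).hom t
    let φ := CohFree.ofSect (Opens.grothendieckTopology X) (V ⊓ U) G t'
    obtain ⟨x, hx⟩ := h V (Ext.mk₀ φ)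
    obtain ⟨ψ, rfl⟩ := (Ext.mk₀_bijective _ _).2 x
    rw [res_eq, Ext.mk₀_comp_mk₀] at hx
    have hψ := (Ext.mk₀_bijective _ _).1 hx
    obtain ⟨s, hs⟩ := (LocCohLES.exists_extension_iff G (inf_le_left : V ⊓ U ≤ V) φ).1 ⟨ψ, hψ⟩
    rw [CohFree.evalGen_ofSect] at hs
    refine ⟨s, ?_⟩
    have e1 : (G.obj.map (homOfLE (SectSupp.jj_le U V)).op).hom s =
        (G.obj.map (homOfLE (jj_le_inf U V)).op).hom
          ((G.obj.map (homOfLE (inf_le_left : V ⊓ U ≤ V)).op).hom s) := by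
      rw [← ConcreteCategory.comp_apply, ← Functor.map_comp]
      rfl
    rw [e1, hs]
    show (G.obj.map (homOfLE (jj_le_inf U V)).op).hom
      ((G.obj.map (homOfLE (inf_le_jj U V)).op).hom t) = t
    rw [← ConcreteCategory.comp_apply, ← Functor.map_comp]
    have : (homOfLE (inf_le_jj U V)).op ≫ (homOfLE (jj_le_inf U V)).op = 𝟙 _ := rfl
    rw [this, CategoryTheory.Functor.map_id]
    rfl
  have h1 : Epi ((SectSupp.adj₂ U).unit.app G).hom := by
    haveI : ∀ V, Epi (((SectSupp.adj₂ U).unit.app G).hom.app V) := by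
      intro V
      have := SectSupp.adj₂_unit_app U G V.unop
      change Epi (((SectSupp.adj₂ U).unit.app G).hom.app (op V.unop))
      rw [this, AddCommGrpCat.epi_iff_surjective]
      exact key V.unop
    exact NatTrans.epi_of_epi_app _
  have h2 : Epi ((SectSupp.adj₂ U).unit.app G) := (sheafToPresheaf _ _).epi_of_epi_map h1
  have h := Adjunction.unit_leftAdjointUniq_hom_app
    (TopCat.Sheaf.pullbackPushforwardAdjunction AddCommGrpCat.{u} (CohCx.incl U))
    (SectSupp.adj₂ U) G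
  rw [← h] at h2
  exact (epi_comp_iff_of_isIso _ _).1 h2

lemma A_one_of_surjRes (G : CohTop.Ab X) (h : SurjRes U 0 G) : A U 1 G := by
  have hepi : Epi ((LocCohFun.ηNat U).app G) := epi_η_of_surjRes U G h
  have hc : (LocCohFun.ηNat U).app G ≫ (cokernel.π (LocCohFun.ηNat U)).app G = 0 := by
    rw [← NatTrans.comp_app, cokernel.condition]
    rfl
  have h0 : (cokernel.π (LocCohFun.ηNat U)).app G = 0 :=
    (cancel_epi ((LocCohFun.ηNat U).app G)).1 (hc.trans comp_zero.symm)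
  have hz : IsZero ((cokernel (LocCohFun.ηNat U)).obj G) := IsZero.of_epi_eq_zero _ h0
  exact hz.of_iso ((LocCohFun.cokerIso U).app G).symm


theorem A_succ_of_surjRes : ∀ (N : ℕ) (G : CohTop.Ab X),
    (∀ i : ℕ, i ≤ N → A U i G) → SurjRes U N G → A U (N + 1) G := by
  intro N
  induction N with
  | zero => exact fun G _ h => A_one_of_surjRes U G h
  | succ N ih =>
    intro G hA hs
    have hG : NoSupp U G := (A_zero_iff U G).1 (hA 0 (Nat.zero_le _))
    obtain ⟨J, m, hm, hJfl, hJ⟩ := exists_embedding U G hG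
    have hS := cokerSES_shortExact m
    have hAQ : ∀ i : ℕ, i ≤ N → A U i (cokerSES m).X₃ := fun i hi =>
      (A_shift U (cokerSES m) hS hJfl hJ i).2 (hA (i + 1) (Nat.succ_le_succ hi))
    have hsQ : SurjRes U N (cokerSES m).X₃ := surjRes_X₃ U (cokerSES m) hS hJfl hJ N hs
    exact (A_shift U (cokerSES m) hS hJfl hJ (N + 1)).1 (ih _ hAQ hsQ)

theorem S6021 (F : CohTop.Ab X) (N : ℕ) (hN : 0 < N)
    (h : ∀ (V : Opens X) (i : ℕ), i < N →
      Function.Bijective (CohTop.res F i (inf_le_left : V ⊓ U ≤ V))) :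
    ∀ i : ℕ, i ≤ N → IsZero ((LocCohZ.HZsh U i).obj F) := by
  obtain ⟨M, rfl⟩ : ∃ M, N = M + 1 := ⟨N - 1, by omega⟩
  have hlow : ∀ i : ℕ, i < M + 1 → A U i F := by
    refine (main U (M + 1) F).2 (fun i hi V => ?_)
    exact (HZ_vanish_iff F (inf_le_left : V ⊓ U ≤ V) M).2
      ⟨fun k hk => h V k (Nat.lt_succ_of_lt hk), (h V M (Nat.lt_succ_self M)).1⟩ i
      (Nat.lt_succ_iff.1 hi)
  intro i hi
  rcases Nat.lt_or_ge i (M + 1) with h1 | h1
  · exact hlow i h1
  · obtain rfl : i = M + 1 := le_antisymm hi h1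
    exact A_succ_of_surjRes U M F (fun k hk => hlow k (Nat.lt_succ_of_le hk))
      (fun V => (h V M (Nat.lt_succ_self M)).2)

end HZshVanish

end Groth.Agent.Lib.helper27
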