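import Mathlib
import Groth.Prelude.Def_CohTop
import Groth.Agent.Lib.Helper27.HausMain

set_option autoImplicit false
set_option backward.isDefEq.respectTransparency false
set_option linter.unusedVariables false
set_option linter.unusedSectionVars false

namespace Groth.Agent.Lib.helper27

open CategoryTheory Limits Opposite TopologicalSpace Topology

universe u

namespace HausMain

open SpecLim HausSep

/-- **S8567**: the restriction of a flasque sheaf to a compact subset with separated points is
soft (closed-subspace formulation) -/
theorem surjective_unit_closed {X : TopCat.{u}} {K : Set X} (hK : IsCompact K) (hsep : Sep K)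
    (F : CohTop.Ab X) [TopCat.Sheaf.IsFlasque F] {A : Set K} (hA : IsClosed A) :
    Function.Surjective (ρ (incl (X := TopCat.of K) A) (G (incl K) F) ⊤) := by
  have := compactSpace_of K hK
  have := t2Space_of K hsep
  intro t
  have hAc : IsCompact A := hA.isCompact
  have hsepA : Sep (X := TopCat.of K) A := (Soft.sep_univ (Z := TopCat.of K)).mono (Set.subset_univ A)
  obtain ⟨O, hO, σ, hAO, hσ⟩ := HausP0.exists_rep (X := TopCat.of K) (G (incl K) F) A A
    Set.Subset.rfl hAc hsepA (pre (X := TopCat.of K) A ⊤) (fun _ _ => trivial) t
  obtain ⟨U'', hU'', hAU'', T, hT⟩ := isSoft_pull K hK hsep F A hA O hAO σ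
  refine ⟨T, ?_⟩
  have htop : pre (X := TopCat.of K) A ⊤ ≤ pre (X := TopCat.of K) A U'' := fun a _ => hAU'' a.2
  have hle : pre (X := TopCat.of K) A U'' ≤ pre (X := TopCat.of K) A ⊤ := fun _ _ => trivial
  have key : res (G (incl (X := TopCat.of K) A) (G (incl K) F)) hle
      (ρ (incl (X := TopCat.of K) A) (G (incl K) F) ⊤ T) =
      res (G (incl (X := TopCat.of K) A) (G (incl K) F)) hle t := by
    rw [← ρ_res (incl (X := TopCat.of K) A) (G (incl K) F) (le_top : U'' ≤ ⊤), hT, ρ_res, hσ, res_res]
  have h1 := congrArg (res (G (incl (X := TopCat.of K) A) (G (incl K) F)) htop) key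
  rw [res_res, res_res, res_self, res_self] at h1
  exact h1

end HausMain

end Groth.Agent.Lib.helper27
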