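import Mathlib
import Groth.Prelude.Def_DerLim

set_option linter.unusedSectionVars false

namespace Groth.Agent.Lib.helper27

open CategoryTheory Limits Pretriangulated

universe v u

section abstractLemma

variable {D : Type u} [Category.{v} D] [Preadditive D] [HasZeroObject D] [HasShift D ℤ]
  [∀ n : ℤ, (shiftFunctor D n).Additive] [Pretriangulated D]

lemma isIso_of_split_both {L L' : D} (c : L' ⟶ L) (c' c'' : L ⟶ L')
    (h1 : IsIso (c ≫ c')) (h2 : IsIso (c'' ≫ c)) : IsIso c := by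
  -- right inverse r := c' ≫ inv (c ≫ c'), left inverse l := inv (c'' ≫ c) ≫ c''
  have hr : c ≫ (c' ≫ inv (c ≫ c')) = 𝟙 _ := by
    rw [← Category.assoc, IsIso.hom_inv_id]
  have hl : (inv (c'' ≫ c) ≫ c'') ≫ c = 𝟙 _ := by
    rw [Category.assoc, IsIso.inv_hom_id]
  have : inv (c'' ≫ c) ≫ c'' = c' ≫ inv (c ≫ c') := by
    calc inv (c'' ≫ c) ≫ c'' = (inv (c'' ≫ c) ≫ c'') ≫ (c ≫ (c' ≫ inv (c ≫ c'))) := by
          rw [hr, Category.comp_id]
      _ = ((inv (c'' ≫ c) ≫ c'') ≫ c) ≫ (c' ≫ inv (c ≫ c')) := by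
          simp only [Category.assoc]
      _ = c' ≫ inv (c ≫ c') := by rw [hl, Category.id_comp]
  exact ⟨⟨c' ≫ inv (c ≫ c'), hr, by rw [← this]; exact hl⟩⟩

theorem iso_of_homotopy_equiv_two_term
    {X X' L L' : D} (φ : X ⟶ X) (ψ : X ⟶ L) (δ : L ⟶ X⟦(1 : ℤ)⟧)
    (hT : Triangle.mk φ ψ δ ∈ distTriang D)
    (φ' : X' ⟶ X') (ψ' : X' ⟶ L') (δ' : L' ⟶ X'⟦(1 : ℤ)⟧)
    (hT' : Triangle.mk φ' ψ' δ' ∈ distTriang D)
    (b a : X' ⟶ X) (r₁ r₀ : X ⟶ X') (h : X ⟶ X)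
    (comm : φ' ≫ a = b ≫ φ) (comm' : φ ≫ r₀ = r₁ ≫ φ')
    (hb : b ≫ r₁ = 𝟙 _) (ha : a ≫ r₀ = 𝟙 _)
    (h1 : r₁ ≫ b = 𝟙 _ + φ ≫ h) (h0 : r₀ ≫ a = 𝟙 _ + h ≫ φ) :
    ∃ c : L' ≅ L, ψ' ≫ c.hom = a ≫ ψ := by
  obtain ⟨c, hc1, hc2⟩ : ∃ c : L' ⟶ L, ψ' ≫ c = a ≫ ψ ∧ δ' ≫ b⟦(1 : ℤ)⟧' = c ≫ δ :=
    complete_distinguished_triangle_morphism _ _ hT' hT b a comm
  obtain ⟨c', hc'1, hc'2⟩ : ∃ c' : L ⟶ L', ψ ≫ c' = r₀ ≫ ψ' ∧ δ ≫ r₁⟦(1 : ℤ)⟧' = c' ≫ δ' :=
    complete_distinguished_triangle_morphism _ _ hT hT' r₁ r₀ comm'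
  have hφψ : φ ≫ ψ = 0 := comp_distTriang_mor_zero₁₂ _ hT
  have hδφ : δ ≫ φ⟦(1 : ℤ)⟧' = 0 := comp_distTriang_mor_zero₃₁ _ hT
  -- c ≫ c' is an iso
  have i1 : IsIso (c ≫ c') := by
    let m : Triangle.mk φ' ψ' δ' ⟶ Triangle.mk φ' ψ' δ' :=
      { hom₁ := 𝟙 _
        hom₂ := 𝟙 _
        hom₃ := c ≫ c'
        comm₁ := by simp
        comm₂ := by
          change ψ' ≫ c ≫ c' = 𝟙 X' ≫ ψ'
          rw [Category.id_comp, reassoc_of% hc1, hc'1, reassoc_of% ha]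
        comm₃ := by
          change δ' ≫ (𝟙 X')⟦(1 : ℤ)⟧' = (c ≫ c') ≫ δ'
          rw [CategoryTheory.Functor.map_id, Category.comp_id, Category.assoc, ← hc'2,
            reassoc_of% hc2.symm, ← Functor.map_comp, hb, CategoryTheory.Functor.map_id,
            Category.comp_id] }
    have h₁ : IsIso m.hom₁ := by dsimp [m]; infer_instance
    have h₂ : IsIso m.hom₂ := by dsimp [m]; infer_instance
    exact isIso₃_of_isIso₁₂ m hT' hT' h₁ h₂
  have i2 : IsIso (c' ≫ c) := by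
    let m : Triangle.mk φ ψ δ ⟶ Triangle.mk φ ψ δ :=
      { hom₁ := 𝟙 _
        hom₂ := 𝟙 _
        hom₃ := c' ≫ c
        comm₁ := by simp
        comm₂ := by
          change ψ ≫ c' ≫ c = 𝟙 X ≫ ψ
          rw [Category.id_comp, reassoc_of% hc'1, hc1, reassoc_of% h0, Preadditive.add_comp,
            Category.id_comp, Category.assoc, hφψ, comp_zero, add_zero]
        comm₃ := by
          change δ ≫ (𝟙 X)⟦(1 : ℤ)⟧' = (c' ≫ c) ≫ δ
          rw [CategoryTheory.Functor.map_id, Category.comp_id, Category.assoc, ← hc2,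
            reassoc_of% hc'2.symm, ← Functor.map_comp, h1, Functor.map_add,
            CategoryTheory.Functor.map_id, Functor.map_comp, Preadditive.comp_add,
            Category.comp_id, reassoc_of% hδφ, zero_comp, add_zero] }
    have h₁ : IsIso m.hom₁ := by dsimp [m]; infer_instance
    have h₂ : IsIso m.hom₂ := by dsimp [m]; infer_instance
    exact isIso₃_of_isIso₁₂ m hT hT h₁ h₂
  have : IsIso c := isIso_of_split_both c c' c' i1 i2
  exact ⟨asIso c, hc1⟩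

end abstractLemma

section subsequence

variable {D : Type u} [Category.{v} D] [Preadditive D]
  (F : ℕ ⥤ D) [HasCoproduct (fun m : ℕ => F.obj m)]

/-- the map `K_m ⟶ K_l ⟶ ∐ K` (zero if `l < m`) -/
noncomputable def tt (m l : ℕ) : F.obj m ⟶ ∐ (fun m : ℕ => F.obj m) :=
  if h : m ≤ l then F.map (homOfLE h) ≫ Sigma.ι (fun m : ℕ => F.obj m) l else 0

lemma tt_of_le {m l : ℕ} (h : m ≤ l) :
    tt F m l = F.map (homOfLE h) ≫ Sigma.ι (fun m : ℕ => F.obj m) l := dif_pos h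

lemma tt_self (m : ℕ) : tt F m m = Sigma.ι (fun m : ℕ => F.obj m) m := by
  rw [tt_of_le F le_rfl]
  have : (homOfLE (le_refl m) : m ⟶ m) = 𝟙 m := Subsingleton.elim _ _
  rw [this, F.map_id, Category.id_comp]

noncomputable abbrev shF : (∐ fun m : ℕ => F.obj m) ⟶ ∐ fun m : ℕ => F.obj m :=
  DerLim.shiftMap (fun m : ℕ => F.obj m) (fun m : ℕ => F.map (homOfLE (Nat.le_succ m)))

@[reassoc]
lemma ι_shF (m : ℕ) : Sigma.ι (fun m : ℕ => F.obj m) m ≫ shF F =
    F.map (homOfLE (Nat.le_succ m)) ≫ Sigma.ι (fun m : ℕ => F.obj m) (m + 1) := by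
  rw [shF, DerLim.shiftMap, Sigma.ι_desc]

lemma tt_sh {m l : ℕ} (h : m ≤ l) : tt F m l ≫ shF F = tt F m (l + 1) := by
  rw [tt_of_le F h, tt_of_le F (h.trans (Nat.le_succ l)), Category.assoc, ι_shF,
    ← Category.assoc, ← F.map_comp]
  rfl

lemma map_tt_succ {m l : ℕ} (h : m + 1 ≤ l) :
    F.map (homOfLE (Nat.le_succ m)) ≫ tt F (m + 1) l = tt F m l := by
  rw [tt_of_le F h, tt_of_le F ((Nat.le_succ m).trans h), ← Category.assoc, ← F.map_comp]
  rfl

/-- the partial telescope sum -/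
noncomputable def SS (m k : ℕ) : F.obj m ⟶ ∐ (fun m : ℕ => F.obj m) :=
  ∑ l ∈ Finset.Ico m k, tt F m l

lemma SS_self (m : ℕ) : SS F m m = 0 := by
  rw [SS, Finset.Ico_self, Finset.sum_empty]

lemma SS_phi {m k : ℕ} (h : m ≤ k) :
    SS F m k ≫ (𝟙 _ - shF F) = Sigma.ι (fun m : ℕ => F.obj m) m - tt F m k := by
  induction k, h using Nat.le_induction with
  | base => rw [SS_self, zero_comp, tt_self, sub_self]
  | succ k hk ih =>
    rw [SS, Finset.sum_Ico_succ_top hk, Preadditive.add_comp, ← SS, ih, Preadditive.comp_sub,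
      Category.comp_id, tt_sh F hk]
    abel

lemma SS_left {m k : ℕ} (h : m < k) :
    SS F m k = Sigma.ι (fun m : ℕ => F.obj m) m + F.map (homOfLE (Nat.le_succ m)) ≫ SS F (m + 1) k := by
  rw [SS, Finset.sum_eq_sum_Ico_succ_bot h, tt_self, SS, Preadditive.comp_sum]
  congr 1
  refine Finset.sum_congr rfl (fun l hl => ?_)
  rw [map_tt_succ F (Finset.mem_Ico.1 hl).1]

variable (n : ℕ → ℕ) (hn : StrictMono n)

include hn in
lemma exists_le_n (m : ℕ) : ∃ i, m ≤ n i := ⟨m, hn.id_le m⟩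

open Classical in
/-- index of the first member of the subsequence which is `≥ m` -/
noncomputable def idx (m : ℕ) : ℕ := Nat.find (exists_le_n n hn m)

lemma idx_spec (m : ℕ) : m ≤ n (idx n hn m) := by
  classical
  exact Nat.find_spec (exists_le_n n hn m)

lemma idx_le {m i : ℕ} (h : m ≤ n i) : idx n hn m ≤ i := by
  classical
  exact Nat.find_min' (exists_le_n n hn m) h

lemma idx_n (i : ℕ) : idx n hn (n i) = i := by
  apply le_antisymm (idx_le n hn le_rfl)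
  exact hn.le_iff_le.1 (idx_spec n hn (n i))

lemma idx_n_succ (i : ℕ) : idx n hn (n i + 1) = i + 1 := by
  apply le_antisymm (idx_le n hn (hn (Nat.lt_succ_self i)))
  have := idx_spec n hn (n i + 1)
  have : n i < n (idx n hn (n i + 1)) := this
  exact hn.lt_iff_lt.1 this

lemma idx_succ_of_not_mem {m : ℕ} (hm : m ∉ Set.range n) : idx n hn (m + 1) = idx n hn m := by
  have h1 : m < n (idx n hn m) := lt_of_le_of_ne (idx_spec n hn m) (fun h => hm ⟨_, h.symm⟩)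
  apply le_antisymm (idx_le n hn h1)
  exact idx_le n hn ((Nat.le_succ m).trans (idx_spec n hn (m + 1)))

lemma lt_n_idx_of_not_mem {m : ℕ} (hm : m ∉ Set.range n) : m < n (idx n hn m) :=
  lt_of_le_of_ne (idx_spec n hn m) (fun h => hm ⟨_, h.symm⟩)

variable [HasCoproduct (fun i : ℕ => F.obj (n i))]

/-- rounding up to the subsequence -/
noncomputable def rho (m : ℕ) : F.obj m ⟶ ∐ (fun i : ℕ => F.obj (n i)) :=
  F.map (homOfLE (idx_spec n hn m)) ≫ Sigma.ι (fun i : ℕ => F.obj (n i)) (idx n hn m)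

lemma rho_eq (m i : ℕ) (h : idx n hn m = i) (h' : m ≤ n i) :
    rho F n hn m = F.map (homOfLE h') ≫ Sigma.ι (fun i : ℕ => F.obj (n i)) i := by
  subst h
  rfl

lemma rho_n (i : ℕ) : rho F n hn (n i) = Sigma.ι (fun i : ℕ => F.obj (n i)) i := by
  rw [rho_eq F n hn (n i) i (idx_n n hn i) le_rfl]
  have : (homOfLE (le_refl (n i)) : n i ⟶ n i) = 𝟙 _ := Subsingleton.elim _ _
  rw [this, F.map_id, Category.id_comp]

lemma map_rho_succ_of_not_mem {m : ℕ} (hm : m ∉ Set.range n) :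
    F.map (homOfLE (Nat.le_succ m)) ≫ rho F n hn (m + 1) = rho F n hn m := by
  rw [rho_eq F n hn (m + 1) (idx n hn m) (idx_succ_of_not_mem n hn hm)
    (lt_n_idx_of_not_mem n hn hm), ← Category.assoc, ← F.map_comp]
  rfl

lemma map_rho_succ_n (i : ℕ) :
    F.map (homOfLE (Nat.le_succ (n i))) ≫ rho F n hn (n i + 1) =
      F.map (homOfLE (hn.monotone (Nat.le_succ i))) ≫
        Sigma.ι (fun i : ℕ => F.obj (n i)) (i + 1) := by
  rw [rho_eq F n hn (n i + 1) (i + 1) (idx_n_succ n hn i) (hn (Nat.lt_succ_self i)),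
    ← Category.assoc, ← F.map_comp]
  rfl

noncomputable abbrev shF' : (∐ fun i : ℕ => F.obj (n i)) ⟶ ∐ fun i : ℕ => F.obj (n i) :=
  DerLim.shiftMap (fun i : ℕ => F.obj (n i))
    (fun i : ℕ => F.map (homOfLE (hn.monotone (Nat.le_succ i))))

lemma ι_shF' (i : ℕ) : Sigma.ι (fun i : ℕ => F.obj (n i)) i ≫ shF' F n hn =
    F.map (homOfLE (hn.monotone (Nat.le_succ i))) ≫ Sigma.ι (fun i : ℕ => F.obj (n i)) (i + 1) := by
  rw [shF', DerLim.shiftMap, Sigma.ι_desc]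

noncomputable def subA : (∐ fun i : ℕ => F.obj (n i)) ⟶ ∐ fun m : ℕ => F.obj m :=
  Sigma.desc (fun i => Sigma.ι (fun m : ℕ => F.obj m) (n i))

noncomputable def subB : (∐ fun i : ℕ => F.obj (n i)) ⟶ ∐ fun m : ℕ => F.obj m :=
  Sigma.desc (fun i => SS F (n i) (n (i + 1)))

noncomputable def subR0 : (∐ fun m : ℕ => F.obj m) ⟶ ∐ fun i : ℕ => F.obj (n i) :=
  Sigma.desc (fun m => rho F n hn m)

open Classical in
noncomputable def subR1 : (∐ fun m : ℕ => F.obj m) ⟶ ∐ fun i : ℕ => F.obj (n i) :=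
  Sigma.desc (fun m => if m ∈ Set.range n then rho F n hn m else 0)

noncomputable def subH : (∐ fun m : ℕ => F.obj m) ⟶ ∐ fun m : ℕ => F.obj m :=
  Sigma.desc (fun m => - SS F m (n (idx n hn m)))

lemma ι_subR1_n (i : ℕ) : Sigma.ι (fun m : ℕ => F.obj m) (n i) ≫ subR1 F n hn =
    Sigma.ι (fun i : ℕ => F.obj (n i)) i := by
  rw [subR1, Sigma.ι_desc, if_pos ⟨i, rfl⟩, rho_n]

lemma ι_subR1_of_not_mem {m : ℕ} (hm : m ∉ Set.range n) :
    Sigma.ι (fun m : ℕ => F.obj m) m ≫ subR1 F n hn = 0 := by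
  rw [subR1, Sigma.ι_desc, if_neg hm]

lemma sub_comm : (𝟙 _ - shF' F n hn) ≫ subA F n = subB F n ≫ (𝟙 _ - shF F) := by
  refine Sigma.hom_ext _ _ (fun i => ?_)
  rw [Preadditive.sub_comp, Preadditive.comp_sub, Category.id_comp, subA, Sigma.ι_desc,
    ← Category.assoc, ι_shF', Category.assoc, Sigma.ι_desc, subB, Sigma.ι_desc_assoc,
    SS_phi F (hn.monotone (Nat.le_succ i)), tt_of_le F (hn.monotone (Nat.le_succ i))]

lemma sub_comm' : (𝟙 _ - shF F) ≫ subR0 F n hn = subR1 F n hn ≫ (𝟙 _ - shF' F n hn) := by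
  refine Sigma.hom_ext _ _ (fun m => ?_)
  rw [Preadditive.sub_comp, Preadditive.comp_sub, Category.id_comp, subR0, Sigma.ι_desc,
    ← Category.assoc, ι_shF, Category.assoc, Sigma.ι_desc, ← Category.assoc]
  by_cases hm : m ∈ Set.range n
  · obtain ⟨i, rfl⟩ := hm
    rw [ι_subR1_n, map_rho_succ_n, rho_n, Preadditive.comp_sub, Category.comp_id, ι_shF']
  · rw [ι_subR1_of_not_mem F n hn hm, zero_comp, map_rho_succ_of_not_mem F n hn hm, sub_self]

lemma subB_R1 : subB F n ≫ subR1 F n hn = 𝟙 _ := by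
  refine Sigma.hom_ext _ _ (fun i => ?_)
  rw [subB, Sigma.ι_desc_assoc, Category.comp_id, SS, Preadditive.sum_comp,
    Finset.sum_eq_single (n i)]
  · rw [tt_self, ι_subR1_n]
  · intro l hl hne
    obtain ⟨h1, h2⟩ := Finset.mem_Ico.1 hl
    have hl' : l ∉ Set.range n := by
      rintro ⟨j, rfl⟩
      have h3 : i < j := hn.lt_iff_lt.1 (lt_of_le_of_ne h1 (Ne.symm hne))
      have h4 : j < i + 1 := hn.lt_iff_lt.1 h2
      omega
    rw [tt_of_le F h1, Category.assoc, ι_subR1_of_not_mem F n hn hl', comp_zero]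
  · intro h
    exact absurd (Finset.mem_Ico.2 ⟨le_rfl, hn (Nat.lt_succ_self i)⟩) h

lemma subA_R0 : subA F n ≫ subR0 F n hn = 𝟙 _ := by
  refine Sigma.hom_ext _ _ (fun i => ?_)
  rw [subA, Sigma.ι_desc_assoc, subR0, Sigma.ι_desc, rho_n, Category.comp_id]

lemma subR1_B : subR1 F n hn ≫ subB F n = 𝟙 _ + (𝟙 _ - shF F) ≫ subH F n hn := by
  refine Sigma.hom_ext _ _ (fun m => ?_)
  rw [Preadditive.comp_add, Category.comp_id, Preadditive.sub_comp, Preadditive.comp_sub,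
    Category.id_comp, ι_shF_assoc, subH, Sigma.ι_desc,
    Sigma.ι_desc, ← Category.assoc]
  by_cases hm : m ∈ Set.range n
  · obtain ⟨i, rfl⟩ := hm
    rw [ι_subR1_n, subB, Sigma.ι_desc, idx_n, SS_self, idx_n_succ,
      SS_left F (hn (Nat.lt_succ_self i)), Preadditive.comp_neg]
    abel
  · rw [ι_subR1_of_not_mem F n hn hm, zero_comp, idx_succ_of_not_mem n hn hm,
      SS_left F (lt_n_idx_of_not_mem n hn hm), Preadditive.comp_neg]
    abel

lemma subR0_A : subR0 F n hn ≫ subA F n = 𝟙 _ + subH F n hn ≫ (𝟙 _ - shF F) := by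
  refine Sigma.hom_ext _ _ (fun m => ?_)
  rw [Preadditive.comp_add, Category.comp_id, subR0, Sigma.ι_desc_assoc, subH,
    Sigma.ι_desc_assoc, Preadditive.neg_comp, SS_phi F (idx_spec n hn m), rho, Category.assoc,
    subA, Sigma.ι_desc, tt_of_le F (idx_spec n hn m)]
  abel

end subsequence

section subsequenceMain

variable {D : Type u} [Category.{v} D] [Preadditive D] [HasZeroObject D] [HasShift D ℤ]
  [∀ n : ℤ, (shiftFunctor D n).Additive] [Pretriangulated D]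

theorem hocolim_subsequence (F : ℕ ⥤ D) (n : ℕ → ℕ) (hn : StrictMono n)
    [HasCoproduct (fun m : ℕ => F.obj m)] [HasCoproduct (fun i : ℕ => F.obj (n i))]
    (L : D) (ι : ∀ m : ℕ, F.obj m ⟶ L)
    (hL : DerLim.IsHocolim (fun m : ℕ => F.obj m)
      (fun m : ℕ => F.map (homOfLE (Nat.le_succ m))) L ι)
    (L' : D) (ι' : ∀ i : ℕ, F.obj (n i) ⟶ L')
    (hL' : DerLim.IsHocolim (fun i : ℕ => F.obj (n i))
      (fun i : ℕ => F.map (homOfLE (hn.monotone (Nat.le_succ i)))) L' ι') :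
    ∃ e : L' ≅ L, ∀ i : ℕ, ι' i ≫ e.hom = ι (n i) := by
  obtain ⟨δ, hT⟩ := hL
  obtain ⟨δ', hT'⟩ := hL'
  obtain ⟨c, hc⟩ := iso_of_homotopy_equiv_two_term _ _ δ hT _ _ δ' hT' (subB F n) (subA F n)
    (subR1 F n hn) (subR0 F n hn) (subH F n hn) (sub_comm F n hn) (sub_comm' F n hn)
    (subB_R1 F n hn) (subA_R0 F n hn) (subR1_B F n hn) (subR0_A F n hn)
  refine ⟨c, fun i => ?_⟩
  have := Sigma.ι _ i ≫= hc
  rw [Sigma.ι_desc_assoc, subA, Sigma.ι_desc_assoc, Sigma.ι_desc] at this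
  exact this

end subsequenceMain

end Groth.Agent.Lib.helper27
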