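import Mathlib
import Groth.Prelude.Def_RDer
import Groth.Agent.Lib.Helper27.Horseshoe7
import Groth.Agent.Lib.Helper27.DeltaF

set_option autoImplicit false
set_option linter.style.haveILetI false
set_option linter.unusedSectionVars false

namespace Groth.Agent.Lib.helper27

open CategoryTheory Limits

universe v u v' u'

namespace HomCmp

variable {B : Type u} [Category.{v} B] [Abelian B] [HasInjectiveResolutions B]
  {C : Type u'} [Category.{v'} C] [Abelian C] (Ψ : B ⥤ C) [Ψ.Additive] [PreservesFiniteLimits Ψ]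

/-- `Ψ`-acyclic objects -/
def Acyc (N : B) : Prop := ∀ i : ℕ, 0 < i → IsZero ((Ψ.rightDerived i).obj N)

variable (K : CochainComplex B ℕ)

/-- the comparison of cycles is an isomorphism for a left exact functor -/
instance isIso_cyclesComparison (i : ℕ) : IsIso (RDer.cyclesComparison Ψ K i) := by
  let c := ComplexShape.up ℕ
  let h1 := KernelFork.mapIsLimit _ (K.cyclesIsKernel i (c.next i) rfl) Ψ
  let h2 := ((Ψ.mapHomologicalComplex c).obj K).cyclesIsKernel i (c.next i) rfl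
  let e := IsLimit.conePointUniqueUpToIso h2 h1
  have : RDer.cyclesComparison Ψ K i = e.hom := by
    apply Fork.IsLimit.hom_ext h1
    erw [IsLimit.conePointUniqueUpToIso_hom_comp h2 h1 WalkingParallelPair.zero]
  rw [this]
  infer_instance

/-- `T q = K^q / Z^q` (the boundaries in degree `q+1`) -/
noncomputable abbrev T (q : ℕ) : B := cokernel (K.iCycles q)

noncomputable abbrev p (q : ℕ) : K.X q ⟶ T K q := cokernel.π (K.iCycles q)

@[reassoc]
lemma iCycles_toCycles (q : ℕ) : K.iCycles q ≫ K.toCycles q (q + 1) = 0 := by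
  rw [← cancel_mono (K.iCycles (q + 1)), Category.assoc, K.toCycles_i, K.iCycles_d, zero_comp]

noncomputable def ιB (q : ℕ) : T K q ⟶ K.cycles (q + 1) :=
  cokernel.desc (K.iCycles q) (K.toCycles q (q + 1)) (iCycles_toCycles K q)

@[reassoc (attr := simp)]
lemma p_ιB (q : ℕ) : p K q ≫ ιB K q = K.toCycles q (q + 1) := cokernel.π_desc _ _ _

/-- `0 → Z^q → K^q → T^q → 0` -/
noncomputable abbrev sesA (q : ℕ) : ShortComplex B :=
  ShortComplex.mk (K.iCycles q) (p K q) (cokernel.condition _)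

lemma sesA_shortExact (q : ℕ) : (sesA K q).ShortExact :=
  ShortComplex.ShortExact.mk' (ShortComplex.exact_cokernel (K.iCycles q))
    (inferInstanceAs (Mono (K.iCycles q))) (inferInstanceAs (Epi (cokernel.π (K.iCycles q))))

lemma exact_iCycles_toCycles (q : ℕ) :
    (ShortComplex.mk (K.iCycles q) (K.toCycles q (q + 1)) (iCycles_toCycles K q)).Exact := by
  apply ShortComplex.exact_of_f_is_kernel
  have h := K.cyclesIsKernel q (q + 1) (by simp)
  refine KernelFork.IsLimit.ofι _ _ (fun {W} g hg => h.lift (KernelFork.ofι g ?_)) ?_ ?_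
  · have : g ≫ K.toCycles q (q + 1) ≫ K.iCycles (q + 1) = 0 := by rw [reassoc_of% hg, zero_comp]
    rwa [K.toCycles_i] at this
  · intro W g hg
    exact h.fac _ WalkingParallelPair.zero
  · intro W g hg m hm
    apply Fork.IsLimit.hom_ext h
    erw [h.fac _ WalkingParallelPair.zero]
    exact hm

instance mono_ιB (q : ℕ) : Mono (ιB K q) :=
  (ShortComplex.exact_iff_mono_cokernel_desc _).1 (exact_iCycles_toCycles K q)

@[reassoc (attr := simp)]
lemma ιB_homologyπ (q : ℕ) : ιB K q ≫ K.homologyπ (q + 1) = 0 := by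
  rw [← cancel_epi (p K q), p_ιB_assoc, comp_zero, K.toCycles_comp_homologyπ]

/-- `0 → T^q → Z^{q+1} → H^{q+1} → 0` -/
noncomputable abbrev sesB (q : ℕ) : ShortComplex B :=
  ShortComplex.mk (ιB K q) (K.homologyπ (q + 1)) (ιB_homologyπ K q)

lemma exact_toCycles_homologyπ (q : ℕ) :
    (ShortComplex.mk (K.toCycles q (q + 1)) (K.homologyπ (q + 1))
      (K.toCycles_comp_homologyπ q (q + 1))).Exact :=
  ShortComplex.exact_of_g_is_cokernel _ (K.homologyIsCokernel q (q + 1) (by simp))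

lemma sesB_shortExact (q : ℕ) : (sesB K q).ShortExact := by
  let φ : ShortComplex.mk (K.toCycles q (q + 1)) (K.homologyπ (q + 1))
      (K.toCycles_comp_homologyπ q (q + 1)) ⟶ sesB K q :=
    { τ₁ := p K q
      τ₂ := 𝟙 _
      τ₃ := 𝟙 _ }
  haveI : Epi φ.τ₁ := inferInstanceAs (Epi (p K q))
  haveI : IsIso φ.τ₂ := inferInstanceAs (IsIso (𝟙 _))
  haveI : Mono φ.τ₃ := inferInstanceAs (Mono (𝟙 _))
  have hex : (sesB K q).Exact :=
    (ShortComplex.exact_iff_of_epi_of_isIso_of_mono φ).1 (exact_toCycles_homologyπ K q)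
  exact { exact := hex, mono_f := mono_ιB K q, epi_g := inferInstanceAs (Epi (K.homologyπ (q + 1))) }

variable {K} (hK : ∀ q, Acyc Ψ (K.X q)) (hH : ∀ q, Acyc Ψ (K.homology q))
  (hZ0 : Acyc Ψ (K.cycles 0))

include hK hH hZ0 in
lemma acyc_cycles : ∀ q, Acyc Ψ (K.cycles q)
  | 0 => hZ0
  | q + 1 => by
    have ih := acyc_cycles q
    have hT : Acyc Ψ (T K q) :=
      ((Horseshoe.rightAcyclic_shortExact Ψ (sesA_shortExact K q)).2.1 ih (hK q)).1
    exact ((Horseshoe.rightAcyclic_shortExact Ψ (sesB_shortExact K q)).1 hT (hH (q + 1))).1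

include hK hH hZ0 in
lemma acyc_T (q : ℕ) : Acyc Ψ (T K q) :=
  ((Horseshoe.rightAcyclic_shortExact Ψ (sesA_shortExact K q)).2.1
    (acyc_cycles Ψ hK hH hZ0 q) (hK q)).1

include hK hH hZ0 in
lemma map_sesA_shortExact (q : ℕ) : ((sesA K q).map Ψ).ShortExact :=
  ((Horseshoe.rightAcyclic_shortExact Ψ (sesA_shortExact K q)).2.1
    (acyc_cycles Ψ hK hH hZ0 q) (hK q)).2

include hK hH hZ0 in
lemma map_sesB_shortExact (q : ℕ) : ((sesB K q).map Ψ).ShortExact :=
  ((Horseshoe.rightAcyclic_shortExact Ψ (sesB_shortExact K q)).1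
    (acyc_T Ψ hK hH hZ0 q) (hH (q + 1))).2

include hK hH hZ0 in
/-- `Ψ` preserves the cokernel `K^q → Z^{q+1} → H^{q+1} → 0` -/
lemma isColimit_map (q : ℕ) :
    Nonempty (IsColimit (CokernelCofork.ofπ (Ψ.map (K.homologyπ (q + 1)))
      (show Ψ.map (K.toCycles q (q + 1)) ≫ Ψ.map (K.homologyπ (q + 1)) = 0 by
        rw [← Ψ.map_comp, K.toCycles_comp_homologyπ, Ψ.map_zero]))) := by
  let S₁ : ShortComplex C := ShortComplex.mk (Ψ.map (K.toCycles q (q + 1)))
    (Ψ.map (K.homologyπ (q + 1)))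
      (by rw [← Ψ.map_comp, K.toCycles_comp_homologyπ, Ψ.map_zero])
  have hA := map_sesA_shortExact Ψ hK hH hZ0 q
  have hB := map_sesB_shortExact Ψ hK hH hZ0 q
  let φ : S₁ ⟶ (sesB K q).map Ψ :=
    { τ₁ := Ψ.map (p K q)
      τ₂ := 𝟙 _
      τ₃ := 𝟙 _
      comm₁₂ := by
        show Ψ.map (p K q) ≫ Ψ.map (ιB K q) = Ψ.map (K.toCycles q (q + 1)) ≫ 𝟙 _
        rw [Category.comp_id, ← Ψ.map_comp, p_ιB]
      comm₂₃ := by
        show 𝟙 _ ≫ Ψ.map (K.homologyπ (q + 1)) = Ψ.map (K.homologyπ (q + 1)) ≫ 𝟙 _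
        rw [Category.comp_id, Category.id_comp] }
  haveI : Epi φ.τ₁ := hA.epi_g
  haveI : IsIso φ.τ₂ := inferInstanceAs (IsIso (𝟙 _))
  haveI : Mono φ.τ₃ := inferInstanceAs (Mono (𝟙 _))
  have hex : S₁.Exact := (ShortComplex.exact_iff_of_epi_of_isIso_of_mono φ).2 hB.exact
  haveI : Epi S₁.g := hB.epi_g
  exact ⟨hex.gIsCokernel⟩

include hK hH hZ0 in
/-- **Main lemma**: for a left exact functor `Ψ` and a complex `K` with `Ψ`-acyclic terms,
`Ψ`-acyclic cohomology and `Ψ`-acyclic `Z⁰`, the comparison `H^{q+1}(Ψ K) ⟶ Ψ (H^{q+1} K)` is an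
isomorphism. -/
theorem isIso_homologyComparison_succ (q : ℕ) :
    IsIso (RDer.homologyComparison Ψ K (q + 1)) := by
  let c := ComplexShape.up ℕ
  let L := (Ψ.mapHomologicalComplex c).obj K
  obtain ⟨h1⟩ := isColimit_map Ψ hK hH hZ0 q
  have hprev : c.prev (q + 1) = q := by simp [c]
  have h2 := L.homologyIsCokernel q (q + 1) hprev
  have e1 : L.toCycles q (q + 1) ≫ RDer.cyclesComparison Ψ K (q + 1) =
      Ψ.map (K.toCycles q (q + 1)) := by
    have := RDer.toCycles_cyclesComparison Ψ K (q + 1)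
    rw [hprev] at this
    exact this
  set κ := RDer.cyclesComparison Ψ K (q + 1) with hκ
  have hcomp : L.homologyπ (q + 1) ≫ RDer.homologyComparison Ψ K (q + 1) =
      κ ≫ Ψ.map (K.homologyπ (q + 1)) := RDer.homologyπ_homologyComparison Ψ K (q + 1)
  have w : Ψ.map (K.toCycles q (q + 1)) ≫ (inv κ ≫ L.homologyπ (q + 1)) = 0 := by
    have h0 : (L.toCycles q (q + 1) ≫ κ) ≫ (inv κ ≫ L.homologyπ (q + 1)) = 0 := by
      rw [Category.assoc, IsIso.hom_inv_id_assoc, L.toCycles_comp_homologyπ]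
    exact (congrArg (fun z => z ≫ (inv κ ≫ L.homologyπ (q + 1))) e1).symm.trans h0
  let inv' : Ψ.obj (K.homology (q + 1)) ⟶ L.homology (q + 1) :=
    h1.desc (CokernelCofork.ofπ (inv κ ≫ L.homologyπ (q + 1)) w)
  have hinv' : Ψ.map (K.homologyπ (q + 1)) ≫ inv' = inv κ ≫ L.homologyπ (q + 1) :=
    h1.fac _ WalkingParallelPair.one
  refine ⟨inv', ?_, ?_⟩
  · rw [← cancel_epi (L.homologyπ (q + 1)), reassoc_of% hcomp, hinv', IsIso.hom_inv_id_assoc,
      Category.comp_id]
  · apply Cofork.IsColimit.hom_ext h1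
    show Ψ.map (K.homologyπ (q + 1)) ≫ inv' ≫ RDer.homologyComparison Ψ K (q + 1) =
      Ψ.map (K.homologyπ (q + 1)) ≫ 𝟙 _
    rw [reassoc_of% hinv', hcomp, IsIso.inv_hom_id_assoc, Category.comp_id]

omit [HasInjectiveResolutions B] in
theorem isIso_homologyComparison_zero (K : CochainComplex B ℕ) :
    IsIso (RDer.homologyComparison Ψ K 0) := by
  let L := (Ψ.mapHomologicalComplex (ComplexShape.up ℕ)).obj K
  have hcomp : L.homologyπ 0 ≫ RDer.homologyComparison Ψ K 0 =
      RDer.cyclesComparison Ψ K 0 ≫ Ψ.map (K.homologyπ 0) :=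
    RDer.homologyπ_homologyComparison Ψ K 0
  have : RDer.homologyComparison Ψ K 0 =
      inv (L.homologyπ 0) ≫ RDer.cyclesComparison Ψ K 0 ≫ Ψ.map (K.homologyπ 0) := by
    rw [← hcomp, IsIso.inv_hom_id_assoc]
  rw [this]
  infer_instance

lemma Acyc.of_iso {N N' : B} (h : Acyc Ψ N) (e : N ≅ N') : Acyc Ψ N' :=
  fun i hi => (h i hi).of_iso ((Ψ.rightDerived i).mapIso e.symm)

include hK hH in
/-- **Main theorem**: for a left exact functor `Ψ` and a complex `K` with `Ψ`-acyclic terms and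
`Ψ`-acyclic cohomology, the comparison `H^q(Ψ K) ⟶ Ψ (H^q K)` is an isomorphism. -/
theorem isIso_homologyComparison (q : ℕ) : IsIso (RDer.homologyComparison Ψ K q) := by
  cases q with
  | zero => exact isIso_homologyComparison_zero Ψ K
  | succ q =>
    exact isIso_homologyComparison_succ Ψ hK hH ((hH 0).of_iso Ψ K.isoHomologyπ₀.symm) q

end HomCmp

end Groth.Agent.Lib.helper27
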