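import Mathlib

set_option autoImplicit false

namespace Groth.Agent.Lib.helper27.HomAdj

open CategoryTheory Limits CochainComplex HomComplex

universe v u₁ u₂

variable {A : Type u₁} [Category.{v} A] [Preadditive A] {B : Type u₂} [Category.{v} B]
  [Preadditive B] {G : A ⥤ B} {F : B ⥤ A} (adj : G ⊣ F) [G.Additive] [F.Additive]
  (L : CochainComplex A ℤ) (I : CochainComplex B ℤ)

/-- the adjunction on cochains -/
noncomputable def cochainEquiv (n : ℤ) :
    Cochain ((G.mapHomologicalComplex (.up ℤ)).obj L) I n ≃+
      Cochain L ((F.mapHomologicalComplex (.up ℤ)).obj I) n where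
  toFun β := Cochain.mk (fun p q hpq => adj.homEquiv _ _ (β.v p q hpq))
  invFun α := Cochain.mk (fun p q hpq => (adj.homEquiv _ _).symm (α.v p q hpq))
  left_inv β := by
    ext p q hpq
    simp
  right_inv α := by
    ext p q hpq
    simp
  map_add' β β' := by
    ext p q hpq
    simp only [Cochain.mk_v, Cochain.add_v]
    exact (adj.homAddEquiv _ _).map_add _ _

lemma cochainEquiv_v (n : ℤ) (β : Cochain ((G.mapHomologicalComplex (.up ℤ)).obj L) I n)
    (p q : ℤ) (hpq : p + n = q) :
    (cochainEquiv adj L I n β).v p q hpq = adj.homEquiv _ _ (β.v p q hpq) := rfl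

lemma cochainEquiv_δ (n m : ℤ) (β : Cochain ((G.mapHomologicalComplex (.up ℤ)).obj L) I n) :
    cochainEquiv adj L I m (δ n m β) = δ n m (cochainEquiv adj L I n β) := by
  by_cases hnm : n + 1 = m
  · ext p q hpq
    rw [cochainEquiv_v, δ_v n m hnm _ p q hpq (q - 1) (p + 1) rfl rfl,
      δ_v n m hnm _ p q hpq (q - 1) (p + 1) rfl rfl, cochainEquiv_v, cochainEquiv_v]
    have h := (adj.homAddEquiv (L.X p) (I.X q)).map_add
      (β.v p (q - 1) (by lia) ≫ I.d (q - 1) q)
      (m.negOnePow • ((G.mapHomologicalComplex (.up ℤ)).obj L).d p (p + 1) ≫ β.v (p + 1) q (by lia))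
    change adj.homEquiv _ _ _ = _ at h
    refine h.trans ?_
    congr 1
    · exact adj.homEquiv_naturality_right _ _
    · have h2 := (adj.homAddEquiv (L.X p) (I.X q)).toAddMonoidHom.map_zsmul
        (m.negOnePow : ℤ)
        (((G.mapHomologicalComplex (.up ℤ)).obj L).d p (p + 1) ≫ β.v (p + 1) q (by lia))
      rw [Units.smul_def, Units.smul_def]
      refine h2.trans ?_
      congr 1
      exact adj.homEquiv_naturality_left _ _
  · rw [δ_shape _ _ hnm, δ_shape _ _ hnm, map_zero]

/-- the adjunction isomorphism of `Hom` complexes -/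
noncomputable def homComplexIso :
    HomComplex ((G.mapHomologicalComplex (.up ℤ)).obj L : CochainComplex B ℤ) I ≅
      HomComplex L ((F.mapHomologicalComplex (.up ℤ)).obj I : CochainComplex A ℤ) :=
  HomologicalComplex.Hom.isoOfComponents
    (fun n => (cochainEquiv adj L I n).toAddCommGrpIso) (by
      intro i j _
      ext β
      exact (cochainEquiv_δ adj L I i j β).symm)

include adj in
/-- the adjunction on cohomology classes -/
theorem cohomologyClass_addEquiv (n : ℤ) :
    Nonempty (CohomologyClass ((G.mapHomologicalComplex (.up ℤ)).obj L) I n ≃+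
      CohomologyClass L ((F.mapHomologicalComplex (.up ℤ)).obj I) n) :=
  ⟨(homologyAddEquiv _ _ n).symm.trans
    ((((HomologicalComplex.homologyFunctor _ _ n).mapIso
      (homComplexIso adj L I)).addCommGroupIsoToAddEquiv).trans (homologyAddEquiv _ _ n))⟩

end Groth.Agent.Lib.helper27.HomAdj

namespace Groth.Agent.Lib.helper27.KInjD

open CategoryTheory Limits CochainComplex HomComplex

universe w v u

variable {B : Type u} [Category.{v} B] [Abelian B] [HasDerivedCategory.{w} B]
  (I : CochainComplex B ℤ) [I.IsKInjective]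

/-- cohomology classes of maps into a K-injective complex are morphisms in the derived category -/
noncomputable def toD (X : CochainComplex B ℤ) (n : ℤ) :
    CohomologyClass X I n ≃+ (DerivedCategory.Q.obj X ⟶ DerivedCategory.Q.obj (I⟦n⟧)) :=
  (CohomologyClass.homAddEquiv (K := X) (L := I) (n := n)).trans
    ((AddEquiv.ofBijective (DerivedCategory.Qh.mapAddHom
        (X := (HomotopyCategory.quotient B (.up ℤ)).obj X)
        (Y := (HomotopyCategory.quotient B (.up ℤ)).obj (I⟦n⟧)))
      (CochainComplex.IsKInjective.Qh_map_bijective _ (I⟦n⟧))).trans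
    { toFun := fun f => (DerivedCategory.quotientCompQhIso B).inv.app X ≫ f ≫
        (DerivedCategory.quotientCompQhIso B).hom.app (I⟦n⟧)
      invFun := fun g => (DerivedCategory.quotientCompQhIso B).hom.app X ≫ g ≫
        (DerivedCategory.quotientCompQhIso B).inv.app (I⟦n⟧)
      left_inv := fun f => by simp
      right_inv := fun g => by simp
      map_add' := fun f g => by simp })

/-- an isomorphism in the derived category between two complexes induces an isomorphism between
the groups of cohomology classes of maps to a K-injective complex -/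
theorem cohomologyClass_addEquiv_of_iso (X X' : CochainComplex B ℤ)
    (e : DerivedCategory.Q.obj X ≅ DerivedCategory.Q.obj X') (n : ℤ) :
    Nonempty (CohomologyClass X I n ≃+ CohomologyClass X' I n) := by
  let ψ : (DerivedCategory.Q.obj X ⟶ DerivedCategory.Q.obj (I⟦n⟧)) ≃+
      (DerivedCategory.Q.obj X' ⟶ DerivedCategory.Q.obj (I⟦n⟧)) :=
    { toFun := fun f => e.inv ≫ f
      invFun := fun g => e.hom ≫ g
      left_inv := fun f => by simp
      right_inv := fun g => by simp
      map_add' := fun f g => by simp }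
  exact ⟨(toD I X n).trans (ψ.trans (toD I X' n).symm)⟩

end Groth.Agent.Lib.helper27.KInjD

namespace Groth.Agent.Lib.helper27.ResD

open CategoryTheory Limits

universe w v u

variable {B : Type u} [Category.{v} B] [Abelian B] [HasDerivedCategory.{w} B]

/-- a chain complex which is a resolution of `Z` becomes isomorphic to `Z` in the derived
category -/
theorem nonempty_iso_single (S : ChainComplex B ℕ) (Z : B)
    (h₁ : ∀ n : ℕ, IsZero (S.homology (n + 1))) (h₀ : Nonempty (S.homology 0 ≅ Z)) :
    Nonempty (DerivedCategory.Q.obj (S.extend ComplexShape.embeddingDownNat) ≅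
      DerivedCategory.Q.obj ((CochainComplex.singleFunctor B 0).obj Z)) := by
  let K : CochainComplex B ℤ := S.extend ComplexShape.embeddingDownNat
  let X := DerivedCategory.Q.obj K
  have hK : ∀ i : ℤ, (DerivedCategory.homologyFunctor B i).obj X ≅ K.homology i := fun i =>
    (DerivedCategory.homologyFunctorFactors B i).app K
  have hLE : X.IsLE 0 := inferInstance
  have hGE : X.IsGE 0 := by
    rw [DerivedCategory.isGE_iff]
    intro i hi
    refine IsZero.of_iso ?_ (hK i)
    obtain ⟨m, rfl⟩ : ∃ m : ℕ, i = -((m + 1 : ℕ) : ℤ) := ⟨(-i - 1).toNat, by lia⟩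
    exact IsZero.of_iso (h₁ m) (HomologicalComplex.extendHomologyIso S
      ComplexShape.embeddingDownNat (j := m + 1) (j' := -((m + 1 : ℕ) : ℤ)) rfl)
  obtain ⟨M, ⟨e⟩⟩ := DerivedCategory.exists_iso_singleFunctor_obj_of_isGE_of_isLE X 0
  obtain ⟨e₀⟩ := h₀
  let eM : M ≅ Z :=
    ((DerivedCategory.singleFunctorCompHomologyFunctorIso B 0).app M).symm ≪≫
      (DerivedCategory.homologyFunctor B 0).mapIso e.symm ≪≫ hK 0 ≪≫
      HomologicalComplex.extendHomologyIso S ComplexShape.embeddingDownNat (j := 0) (j' := 0) rfl ≪≫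
      e₀
  exact ⟨e ≪≫ (DerivedCategory.singleFunctor B 0).mapIso eM ≪≫
    (DerivedCategory.singleFunctorIsoCompQ B 0).app Z⟩

end Groth.Agent.Lib.helper27.ResD
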