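import Mathlib
import Groth.Agent.Lib.Helper27.SSGen

set_option autoImplicit false

namespace Groth.Agent.Lib.helper27.HomHf

open Groth.Agent.Lib.helper27
open CategoryTheory Limits Opposite

universe w v u

variable {A : Type u} [Category.{v} A] [Abelian A] [EnoughInjectives A] [HasDerivedCategory.{w} A]

instance faithful_L : (SSRH.L A).Faithful where
  map_injective {Y₁ Y₂} f g h := by
    obtain ⟨K₂, rfl⟩ := HomotopyCategory.Plus.quotient_obj_surjective Y₂
    have hK : CochainComplex.IsKInjective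
        (((InjectiveObject.ι A).mapHomotopyCategoryPlus.obj
          ((HomotopyCategory.Plus.quotient _).obj K₂)).1.as) :=
      inferInstanceAs (CochainComplex.IsKInjective
        (((InjectiveObject.ι A).mapHomologicalComplex (.up ℤ)).obj K₂.obj))
    have h1 := (DerivedCategory.Plus.Qh_map_bijective_of_isKInjective
      ((InjectiveObject.ι A).mapHomotopyCategoryPlus.obj Y₁) _ hK).1 h
    exact (InjectiveObject.ι A).mapHomotopyCategoryPlus.map_injective h1

instance isEquivalence_L : (SSRH.L A).IsEquivalence where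

variable (L₀ : CochainComplex A ℤ)

/-- `Hom_{K(A)}(L₀, -)` on bounded below complexes of injectives -/
noncomputable abbrev Hf' : HomotopyCategory.Plus (InjectiveObject A) ⥤ AddCommGrpCat.{v} :=
  (InjectiveObject.ι A).mapHomotopyCategoryPlus ⋙ HomotopyCategory.Plus.ι A ⋙
    preadditiveCoyoneda.obj (op ((HomotopyCategory.quotient A (.up ℤ)).obj L₀))

instance : (Hf' L₀).IsHomological := by
  dsimp only [Hf']; infer_instance

/-- `Hom_{K(A)}(L₀, -)` transported to `D⁺(A)` -/
noncomputable def Hf : DerivedCategory.Plus A ⥤ AddCommGrpCat.{v} :=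
  (SSRH.L A).inv ⋙ Hf' L₀

/-- the comparison isomorphism -/
noncomputable def eIso : SSRH.L A ⋙ Hf L₀ ≅ Hf' L₀ :=
  (Functor.associator _ _ _).symm ≪≫
    Functor.isoWhiskerRight (SSRH.L A).asEquivalence.unitIso.symm (Hf' L₀) ≪≫
    Functor.leftUnitor _

instance : (Hf L₀).IsHomological :=
  Functor.isHomological_of_localization (SSRH.L A) (Hf L₀) (Hf' L₀) (eIso L₀)

end Groth.Agent.Lib.helper27.HomHf

namespace Groth.Agent.Lib.helper27.HomHf

open Groth.Agent.Lib.helper27
open CategoryTheory Limits Opposite CochainComplex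

universe w v u

variable {A : Type u} [Category.{v} A] [Abelian A] [EnoughInjectives A] [HasDerivedCategory.{w} A]
  (L₀ : CochainComplex A ℤ)

/-- computation of `Hf` on shifts of bounded below complexes of injectives -/
theorem Hf_shift_iso (K : CochainComplex.Plus (InjectiveObject A)) (Z : DerivedCategory.Plus A)
    (eZ : Z ≅ (SSRH.L A).obj ((HomotopyCategory.Plus.quotient _).obj K)) (n : ℤ) :
    Nonempty ((Hf L₀).obj (Z⟦n⟧) ≅ AddCommGrpCat.of (HomComplex.CohomologyClass L₀
      (((InjectiveObject.ι A).mapHomologicalComplex (.up ℤ)).obj K.obj) n)) := by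
  let Y := (HomotopyCategory.Plus.quotient (InjectiveObject A)).obj K
  let Φ : HomotopyCategory.Plus (InjectiveObject A) ⥤ HomotopyCategory A (.up ℤ) :=
    (InjectiveObject.ι A).mapHomotopyCategoryPlus ⋙ HomotopyCategory.Plus.ι A
  let M : CochainComplex A ℤ := ((InjectiveObject.ι A).mapHomologicalComplex (.up ℤ)).obj K.obj
  let P := (HomotopyCategory.quotient A (.up ℤ)).obj L₀
  let e₁ : (Hf L₀).obj (Z⟦n⟧) ≅ (Hf L₀).obj ((SSRH.L A).obj (Y⟦n⟧)) :=
    (Hf L₀).mapIso ((CategoryTheory.shiftFunctor _ n).mapIso eZ ≪≫ (((SSRH.L A).commShiftIso n).app Y).symm)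
  let e₂ : (Hf L₀).obj ((SSRH.L A).obj (Y⟦n⟧)) ≅ (Hf' L₀).obj (Y⟦n⟧) := (eIso L₀).app _
  let e₃ : (Hf' L₀).obj (Y⟦n⟧) ≅ (preadditiveCoyoneda.obj (op P)).obj ((Φ.obj Y)⟦n⟧) :=
    (preadditiveCoyoneda.obj (op P)).mapIso ((Φ.commShiftIso n).app Y)
  let e₄ : (preadditiveCoyoneda.obj (op P)).obj ((Φ.obj Y)⟦n⟧) ≅
      (preadditiveCoyoneda.obj (op P)).obj ((HomotopyCategory.quotient A (.up ℤ)).obj (M⟦n⟧)) :=
    (preadditiveCoyoneda.obj (op P)).mapIso
      (((HomotopyCategory.quotient A (.up ℤ)).commShiftIso n).app M).symm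
  let e₅ : AddCommGrpCat.of (HomComplex.CohomologyClass L₀ M n) ≅
      (preadditiveCoyoneda.obj (op P)).obj ((HomotopyCategory.quotient A (.up ℤ)).obj (M⟦n⟧)) :=
    (HomComplex.CohomologyClass.homAddEquiv (K := L₀) (L := M) (n := n)).toAddCommGrpIso
  exact ⟨e₁ ≪≫ e₂ ≪≫ e₃ ≪≫ e₄ ≪≫ e₅.symm⟩

end Groth.Agent.Lib.helper27.HomHf

namespace Groth.Agent.Lib.helper27.HomHf

open Groth.Agent.Lib.helper27
open CategoryTheory Limits Opposite CochainComplex

universe w v u

variable {A : Type u} [Category.{v} A] [Abelian A] [EnoughInjectives A] [HasDerivedCategory.{w} A]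
  (L₀ : CochainComplex A ℤ)

omit [EnoughInjectives A] [HasDerivedCategory.{w} A] in
lemma subsingleton_cochain (M : CochainComplex A ℤ) (m : ℤ) [L₀.IsStrictlyLE 0]
    [M.IsStrictlyGE m] (n : ℤ) (hn : n < m) : Subsingleton (HomComplex.Cochain L₀ M n) := by
  refine ⟨fun x y => ?_⟩
  ext p q hpq
  by_cases hp : 0 < p
  · exact (L₀.isZero_of_isStrictlyLE 0 p hp).eq_of_src _ _
  · exact (M.isZero_of_isStrictlyGE m q (by lia)).eq_of_tgt _ _

omit [EnoughInjectives A] [HasDerivedCategory.{w} A] in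
lemma subsingleton_cohomologyClass (M : CochainComplex A ℤ) (m : ℤ) [L₀.IsStrictlyLE 0]
    [M.IsStrictlyGE m] (n : ℤ) (hn : n < m) :
    Subsingleton (HomComplex.CohomologyClass L₀ M n) := by
  have := subsingleton_cochain L₀ M m n hn
  refine ⟨fun x y => ?_⟩
  obtain ⟨x, rfl⟩ := x.mk_surjective
  obtain ⟨y, rfl⟩ := y.mk_surjective
  congr 1
  ext : 1
  exact Subsingleton.elim _ _

theorem vanishes [L₀.IsStrictlyLE 0] : SSGen.Vanishes (Hf L₀) := by
  intro Z m _ n hn
  obtain ⟨K, hK, ⟨e⟩⟩ := DerivedCategory.Plus.exists_injective_nonempty_iso Z m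
  obtain ⟨e'⟩ := Hf_shift_iso L₀ K Z (e.symm ≪≫ Iso.refl _) n
  refine IsZero.of_iso ?_ e'
  let M : CochainComplex A ℤ := ((InjectiveObject.ι A).mapHomologicalComplex (.up ℤ)).obj K.obj
  have : M.IsStrictlyGE m := by
    rw [CochainComplex.isStrictlyGE_mapHomologicalComplex_obj_iff]
    exact hK
  have := subsingleton_cohomologyClass L₀ M m n hn
  exact AddCommGrpCat.isZero_of_subsingleton _

end Groth.Agent.Lib.helper27.HomHf

namespace Groth.Agent.Lib.helper27.HomHf

open Groth.Agent.Lib.helper27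
open CategoryTheory Limits Opposite CochainComplex

universe w v u

section

variable {A : Type u} [Category.{v} A] [Abelian A] (L₀ : CochainComplex A ℤ)

lemma bijective_comp_of_quasiIso [L₀.IsKProjective] {X X' : CochainComplex A ℤ} (f : X ⟶ X')
    [QuasiIso f] :
    Function.Bijective (fun g : (HomotopyCategory.quotient A (.up ℤ)).obj L₀ ⟶
      (HomotopyCategory.quotient A (.up ℤ)).obj X =>
        g ≫ (HomotopyCategory.quotient A (.up ℤ)).map f) := by
  letI := HasDerivedCategory.standard A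
  have h1 := CochainComplex.IsKProjective.Qh_map_bijective L₀
    ((HomotopyCategory.quotient A (.up ℤ)).obj X)
  have h2 := CochainComplex.IsKProjective.Qh_map_bijective L₀
    ((HomotopyCategory.quotient A (.up ℤ)).obj X')
  have h3 : IsIso (DerivedCategory.Qh.map ((HomotopyCategory.quotient A (.up ℤ)).map f)) := by
    have : IsIso (DerivedCategory.Q.map f) := inferInstance
    exact (NatIso.isIso_map_iff (DerivedCategory.quotientCompQhIso A) f).2 this
  rw [← Function.Bijective.of_comp_iff' h2]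
  have : (DerivedCategory.Qh.map ∘ fun g : (HomotopyCategory.quotient A (.up ℤ)).obj L₀ ⟶
      (HomotopyCategory.quotient A (.up ℤ)).obj X =>
        g ≫ (HomotopyCategory.quotient A (.up ℤ)).map f) =
      (fun g => g ≫ DerivedCategory.Qh.map ((HomotopyCategory.quotient A (.up ℤ)).map f)) ∘
        DerivedCategory.Qh.map := by
    funext g
    simp
  rw [this]
  refine Function.Bijective.comp ?_ h1
  exact ⟨fun a b h => (cancel_mono _).1 h, fun b => ⟨b ≫ inv (DerivedCategory.Qh.map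
    ((HomotopyCategory.quotient A (.up ℤ)).map f)), by simp⟩⟩

/-- post-composition with a quasi-isomorphism induces an isomorphism on cohomology classes of
maps out of a K-projective complex -/
theorem cohomologyClass_addEquiv_of_quasiIso [L₀.IsKProjective] {X X' : CochainComplex A ℤ}
    (f : X ⟶ X') [QuasiIso f] (n : ℤ) :
    Nonempty (HomComplex.CohomologyClass L₀ X n ≃+ HomComplex.CohomologyClass L₀ X' n) := by
  have : QuasiIso (f⟦n⟧') := inferInstance
  let φ : ((HomotopyCategory.quotient A (.up ℤ)).obj L₀ ⟶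
      (HomotopyCategory.quotient A (.up ℤ)).obj (X⟦n⟧)) ≃+
      ((HomotopyCategory.quotient A (.up ℤ)).obj L₀ ⟶
      (HomotopyCategory.quotient A (.up ℤ)).obj (X'⟦n⟧)) :=
    AddEquiv.ofBijective
      ({ toFun := fun g => g ≫ (HomotopyCategory.quotient A (.up ℤ)).map (f⟦n⟧')
         map_zero' := by simp
         map_add' := fun a b => by simp } :
        ((HomotopyCategory.quotient A (.up ℤ)).obj L₀ ⟶
          (HomotopyCategory.quotient A (.up ℤ)).obj (X⟦n⟧)) →+
        ((HomotopyCategory.quotient A (.up ℤ)).obj L₀ ⟶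
          (HomotopyCategory.quotient A (.up ℤ)).obj (X'⟦n⟧)))
      (bijective_comp_of_quasiIso L₀ (f⟦n⟧'))
  exact ⟨(HomComplex.CohomologyClass.homAddEquiv).trans (φ.trans
    (HomComplex.CohomologyClass.homAddEquiv).symm)⟩



end

variable {A : Type u} [Category.{v} A] [Abelian A] [EnoughInjectives A] [HasDerivedCategory.{w} A]
  (L₀ : CochainComplex A ℤ)

/-- variant of `Hf_shift_iso` for a complex of injective objects of `A` -/
theorem Hf_shift_iso' (K₀ : CochainComplex A ℤ) (hinj : ∀ n, Injective (K₀.X n)) (m : ℤ)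
    [K₀.IsStrictlyGE m] (Z : DerivedCategory.Plus A)
    (eZ : Z ≅ DerivedCategory.Plus.Q.obj ⟨K₀, ⟨m, inferInstance⟩⟩) (n : ℤ) :
    Nonempty ((Hf L₀).obj (Z⟦n⟧) ≅ AddCommGrpCat.of (HomComplex.CohomologyClass L₀ K₀ n)) := by
  let K' : CochainComplex (InjectiveObject A) ℤ :=
    HomologicalComplex.liftObjectProperty (isInjective A) K₀ hinj
  have hK' : K'.IsStrictlyGE m := by
    rw [← CochainComplex.isStrictlyGE_mapHomologicalComplex_obj_iff _ (InjectiveObject.ι _)]
    assumption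
  let K : CochainComplex.Plus (InjectiveObject A) := ⟨K', ⟨m, hK'⟩⟩
  exact Hf_shift_iso L₀ K Z (eZ ≪≫ Iso.refl _) n

/-- computation of `Hf` on shifts of single objects, for a K-projective `L₀` -/
theorem Hf_single_iso [L₀.IsKProjective] (M₀ : A) (Z : DerivedCategory.Plus A)
    (eZ : Z ≅ (DerivedCategory.Plus.singleFunctor A 0).obj M₀) (k : ℤ) :
    Nonempty ((Hf L₀).obj (Z⟦k⟧) ≅ AddCommGrpCat.of (HomComplex.CohomologyClass L₀
      ((CochainComplex.singleFunctor A 0).obj M₀) k)) := by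
  let R := injectiveResolution M₀
  let K : CochainComplex.Plus A := ⟨(CochainComplex.singleFunctor A 0).obj M₀, ⟨0, inferInstance⟩⟩
  let L : CochainComplex.Plus A := ⟨R.cochainComplex, ⟨0, inferInstance⟩⟩
  let φ : K ⟶ L := ObjectProperty.homMk R.ι'
  have hφ : QuasiIso φ.hom := inferInstanceAs (QuasiIso R.ι')
  have h1 : IsIso (DerivedCategory.Plus.Qh.map ((HomotopyCategory.Plus.quotient A).map φ)) :=
    (MapExtend.isIso_Qh_map_quotient_map_iff φ).2 hφ
  have hinj : ∀ n, Injective (R.cochainComplex.X n) := fun n => inferInstance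
  obtain ⟨e'⟩ := Hf_shift_iso' L₀ R.cochainComplex hinj 0 Z
    (eZ ≪≫ Iso.refl _ ≪≫ @asIso _ _ _ _ (DerivedCategory.Plus.Qh.map
      ((HomotopyCategory.Plus.quotient A).map φ)) h1) k
  have : QuasiIso R.ι' := inferInstance
  obtain ⟨e''⟩ := cohomologyClass_addEquiv_of_quasiIso L₀ R.ι' k
  exact ⟨e' ≪≫ e''.symm.toAddCommGrpIso⟩

end Groth.Agent.Lib.helper27.HomHf

namespace Groth.Agent.Lib.helper27.HomHf

open Groth.Agent.Lib.helper27
open CategoryTheory Limits Opposite CochainComplex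

universe v u

/-- the spectral sequence `E₂^{p,q} = H^p(Hom(L₀, H^q(K₀))) ⇒ H^{p+q}(Hom(L₀, K₀))` for a
K-projective complex `L₀` in nonpositive degrees and a complex `K₀` of injectives in nonnegative
degrees -/
theorem hom_ss {A : Type u} [Category.{v} A] [Abelian A] [EnoughInjectives A]
    (L₀ : CochainComplex A ℤ) [L₀.IsStrictlyLE 0] [L₀.IsKProjective]
    (K₀ : CochainComplex A ℤ) (hinj : ∀ n, Injective (K₀.X n)) [K₀.IsStrictlyGE 0]
    (H' : ℤ → AddCommGrpCat.{v})
    (hH : ∀ n : ℤ, Nonempty (H' n ≅ AddCommGrpCat.of (HomComplex.CohomologyClass L₀ K₀ n)))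
    (E2 : ℤ → ℤ → AddCommGrpCat.{v})
    (hE : ∀ (k l : ℕ) (M' : A), Nonempty (M' ≅ K₀.homology (l : ℤ)) →
      Nonempty (E2 (k : ℤ) (l : ℤ) ≅ AddCommGrpCat.of (HomComplex.CohomologyClass L₀
        ((CochainComplex.singleFunctor A 0).obj M') (k : ℤ))))
    (hE0 : ∀ p q : ℤ, (p < 0 ∨ q < 0) → IsZero (E2 p q)) :
    ∃ (E : E₂CohomologicalSpectralSequence AddCommGrpCat.{v}) (a : SpSeq.Abutment E H'),
      (∀ n, a.IsFinite n) ∧ SpSeq.IsBounded E ∧
      ∀ p q : ℤ, Nonempty ((E.page 2 le_rfl).X (p, q) ≅ E2 p q) := by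
  letI : HasDerivedCategory.{max u v} A := HasDerivedCategory.standard A
  let KA : DerivedCategory.Plus A := DerivedCategory.Plus.Q.obj ⟨K₀, ⟨0, inferInstance⟩⟩
  haveI : KA.IsGE 0 := by
    rw [← DerivedCategory.Plus.isGE_ι_obj_iff]
    exact DerivedCategory.TStructure.t.isGE_of_iso
      ((DerivedCategory.quotientCompQhIso A).symm.app K₀) 0
  refine SSGen.main (Hf L₀) KA (vanishes L₀) H' ?_ E2 ?_ hE0
  · intro n
    obtain ⟨e1⟩ := Hf_shift_iso' L₀ K₀ hinj 0 KA (Iso.refl _) n
    obtain ⟨e0⟩ := hH n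
    exact ⟨e0 ≪≫ e1.symm⟩
  · intro k l M' ⟨eM⟩
    let e5 : (DerivedCategory.Plus.homologyFunctor A (l : ℤ)).obj KA ≅ K₀.homology (l : ℤ) :=
      (DerivedCategory.homologyFunctorFactorsh A (l : ℤ)).app
        ((HomotopyCategory.quotient A _).obj K₀) ≪≫
      (HomotopyCategory.homologyFunctorFactors A (.up ℤ) (l : ℤ)).app K₀
    obtain ⟨e6⟩ := hE k l M' ⟨eM ≪≫ e5⟩
    obtain ⟨e7⟩ := Hf_single_iso L₀ M' ((DerivedCategory.Plus.singleFunctor A 0).obj M')
      (Iso.refl _) (k : ℤ)
    exact ⟨e6 ≪≫ e7.symm⟩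

end Groth.Agent.Lib.helper27.HomHf
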