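import Mathlib

set_option autoImplicit false

namespace Groth.Agent.Lib.helper27.HomSingle

open CategoryTheory Limits

universe u

/-- the homology of a short complex of abelian groups, presented by a surjection from the cycles
whose kernel is the boundaries -/
theorem sc_homology_iso (S : ShortComplex AddCommGrpCat.{u}) (G : Type u) [AddCommGroup G]
    (φ : AddMonoidHom.ker S.g.hom →+ G) (hφ : Function.Surjective φ)
    (hker : ∀ z, φ z = 0 ↔ ∃ y : S.X₁, S.f y = z.1) :
    Nonempty (S.homology ≅ AddCommGrpCat.of G) := by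
  have h : AddMonoidHom.range S.abToCycles = φ.ker := by
    ext z
    rw [AddMonoidHom.mem_ker, hker, AddMonoidHom.mem_range]
    constructor
    · rintro ⟨y, rfl⟩
      exact ⟨y, rfl⟩
    · rintro ⟨y, hy⟩
      exact ⟨y, Subtype.ext hy⟩
  exact ⟨S.abHomologyIso ≪≫ ((QuotientAddGroup.quotientAddEquivOfEq h).trans
    (QuotientAddGroup.quotientKerEquivOfSurjective φ hφ)).toAddCommGrpIso⟩

/-- the homology of an `ℕ`-indexed cochain complex of abelian groups, presented by a surjection
from the cocycles whose kernel is the coboundaries -/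
theorem homology_iso_of_presentation (X : CochainComplex AddCommGrpCat.{u} ℕ) (k : ℕ)
    (G : Type u) [AddCommGroup G]
    (φ : AddMonoidHom.ker (X.d k (k + 1)).hom →+ G) (hφ : Function.Surjective φ)
    (hker : ∀ z, φ z = 0 ↔ (z = 0 ∨ ∃ (j : ℕ) (y : X.X j), j + 1 = k ∧ X.d j k y = z.1)) :
    Nonempty (X.homology k ≅ AddCommGrpCat.of G) := by
  cases k with
  | zero =>
    let e1 : X.homology 0 ≅ (X.sc' 0 0 1).homology := X.homologyIsoSc' 0 0 1 (by simp) (by simp)
    obtain ⟨e2⟩ := sc_homology_iso (X.sc' 0 0 1) G φ hφ (by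
      intro z
      refine (hker z).trans ⟨?_, ?_⟩
      · rintro (rfl | ⟨j, y, hj, _⟩)
        · exact ⟨0, map_zero _⟩
        · exact absurd hj (by lia)
      · rintro ⟨y, hy⟩
        left
        have h0 : X.d 0 0 = 0 := X.shape 0 0 (by simp)
        apply Subtype.ext
        rw [← hy]
        change (X.d 0 0) y = 0
        rw [h0]; rfl)
    exact ⟨e1 ≪≫ e2⟩
  | succ j =>
    let e1 : X.homology (j + 1) ≅ (X.sc' j (j + 1) (j + 1 + 1)).homology :=
      X.homologyIsoSc' j (j + 1) (j + 1 + 1) (by simp) (by simp)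
    obtain ⟨e2⟩ := sc_homology_iso (X.sc' j (j + 1) (j + 1 + 1)) G φ hφ (by
      intro z
      refine (hker z).trans ⟨?_, ?_⟩
      · rintro (rfl | ⟨j', y, hj, hy⟩)
        · exact ⟨0, map_zero _⟩
        · obtain rfl : j' = j := by lia
          exact ⟨y, hy⟩
      · rintro ⟨y, hy⟩
        exact Or.inr ⟨j, y, rfl, hy⟩)
    exact ⟨e1 ≪≫ e2⟩

end Groth.Agent.Lib.helper27.HomSingle


namespace Groth.Agent.Lib.helper27.HomSingle

open CategoryTheory Limits CochainComplex HomComplex

universe v u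

variable {A : Type u} [Category.{v} A] [Abelian A] (Lc : ChainComplex A ℕ) (M : A)

/-- the cochain complex in nonpositive degrees attached to a chain complex -/
noncomputable abbrev Lz : CochainComplex A ℤ := Lc.extend ComplexShape.embeddingDownNat

lemma f_eq (k : ℕ) : ComplexShape.embeddingDownNat.f k = -(k : ℤ) := rfl

/-- precomposition with an isomorphism as an additive equivalence -/
def precompIso {X Y : A} (e : X ≅ Y) : (Y ⟶ M) ≃+ (X ⟶ M) where
  toFun f := e.hom ≫ f
  invFun g := e.inv ≫ g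
  left_inv f := by simp
  right_inv g := by simp
  map_add' f g := by simp

/-- the cochain to the single complex attached to a morphism `Lc.X k ⟶ M` -/
noncomputable def toCochain (k : ℕ) :
    (Lc.X k ⟶ M) ≃+ Cochain (Lz Lc) ((singleFunctor A 0).obj M) (k : ℤ) :=
  (precompIso M (Lc.extendXIso ComplexShape.embeddingDownNat (f_eq k))).trans
    (Cochain.toSingleEquiv (K := Lz Lc) (X := M) (p := -(k : ℤ)) (q := 0) (n := (k : ℤ))
      (by lia)).symm

lemma toCochain_apply (k : ℕ) (f : Lc.X k ⟶ M) :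
    toCochain Lc M k f = Cochain.toSingleMk
      ((Lc.extendXIso ComplexShape.embeddingDownNat (f_eq k)).hom ≫ f) (by lia) := rfl

lemma d_eq (k : ℕ) : (Lz Lc).d (-(k : ℤ) - 1) (-(k : ℤ)) =
    (Lc.extendXIso ComplexShape.embeddingDownNat
      (show ComplexShape.embeddingDownNat.f (k + 1) = -(k : ℤ) - 1 by
        rw [f_eq]; push_cast; ring)).hom ≫ Lc.d (k + 1) k ≫
      (Lc.extendXIso ComplexShape.embeddingDownNat (f_eq k)).inv :=
  Lc.extend_d_eq ComplexShape.embeddingDownNat _ _

/-- the cocycle attached to a morphism `Lc.X k ⟶ M` killed by the differential -/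
noncomputable def toCocycle (k : ℕ) (f : Lc.X k ⟶ M) (hf : Lc.d (k + 1) k ≫ f = 0) :
    Cocycle (Lz Lc) ((singleFunctor A 0).obj M) (k : ℤ) :=
  Cocycle.toSingleMk ((Lc.extendXIso ComplexShape.embeddingDownNat (f_eq k)).hom ≫ f)
    (by lia) (-(k : ℤ) - 1) (by lia) (by
      rw [d_eq, Category.assoc, Category.assoc, Iso.inv_hom_id_assoc, hf, comp_zero])

lemma toCocycle_coe (k : ℕ) (f : Lc.X k ⟶ M) (hf : Lc.d (k + 1) k ≫ f = 0) :
    (toCocycle Lc M k f hf).1 = toCochain Lc M k f := rfl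


lemma toCocycle_surjective (k : ℕ) (α : Cocycle (Lz Lc) ((singleFunctor A 0).obj M) (k : ℤ)) :
    ∃ (f : Lc.X k ⟶ M) (hf : Lc.d (k + 1) k ≫ f = 0), toCocycle Lc M k f hf = α := by
  obtain ⟨f', hf', h⟩ := Cocycle.toSingleMk_surjective α (-(k : ℤ)) (by lia) (-(k : ℤ) - 1)
    (by lia)
  refine ⟨(Lc.extendXIso ComplexShape.embeddingDownNat (f_eq k)).inv ≫ f', ?_, ?_⟩
  · rw [d_eq] at hf'
    rw [← cancel_epi (Lc.extendXIso ComplexShape.embeddingDownNat
      (show ComplexShape.embeddingDownNat.f (k + 1) = -(k : ℤ) - 1 by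
        rw [f_eq]; push_cast; ring)).hom, comp_zero]
    simpa using hf'
  · rw [← h]
    apply Subtype.ext
    rw [toCocycle_coe, toCochain_apply]
    simp

lemma toCocycle_mem_coboundaries_zero (f : Lc.X 0 ⟶ M) (hf : Lc.d (0 + 1) 0 ≫ f = 0) :
    toCocycle Lc M 0 f hf ∈ coboundaries _ _ _ ↔ f = 0 := by
  dsimp only [toCocycle]
  rw [Cocycle.toSingleMk_mem_coboundaries_iff _ _ _ _ _ (-((0 : ℕ) : ℤ) + 1) rfl]
  have hz : IsZero ((Lz Lc).X (-((0 : ℕ) : ℤ) + 1)) := by
    apply Lc.isZero_extend_X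
    intro i
    rw [f_eq]
    lia
  constructor
  · rintro ⟨g, hg⟩
    rw [hz.eq_of_src g 0, comp_zero] at hg
    rw [← cancel_epi (Lc.extendXIso ComplexShape.embeddingDownNat (f_eq 0)).hom, comp_zero]
    exact hg.symm
  · rintro rfl
    exact ⟨0, by simp⟩

lemma toCocycle_mem_coboundaries_succ (j : ℕ) (f : Lc.X (j + 1) ⟶ M)
    (hf : Lc.d (j + 1 + 1) (j + 1) ≫ f = 0) :
    toCocycle Lc M (j + 1) f hf ∈ coboundaries _ _ _ ↔ ∃ g : Lc.X j ⟶ M, Lc.d (j + 1) j ≫ g = f := by
  dsimp only [toCocycle]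
  rw [Cocycle.toSingleMk_mem_coboundaries_iff _ _ _ _ _ (-(((j + 1 : ℕ)) : ℤ) + 1) rfl]
  have hj : ComplexShape.embeddingDownNat.f j = -(((j + 1 : ℕ)) : ℤ) + 1 := by
    rw [f_eq]; push_cast; ring
  have hd : (Lz Lc).d (-(((j + 1 : ℕ)) : ℤ)) (-(((j + 1 : ℕ)) : ℤ) + 1) =
      (Lc.extendXIso ComplexShape.embeddingDownNat (f_eq (j + 1))).hom ≫ Lc.d (j + 1) j ≫
        (Lc.extendXIso ComplexShape.embeddingDownNat hj).inv :=
    Lc.extend_d_eq ComplexShape.embeddingDownNat _ _
  rw [hd]
  constructor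
  · rintro ⟨g, hg⟩
    refine ⟨(Lc.extendXIso ComplexShape.embeddingDownNat hj).inv ≫ g, ?_⟩
    rw [← cancel_epi (Lc.extendXIso ComplexShape.embeddingDownNat (f_eq (j + 1))).hom]
    simpa using hg
  · rintro ⟨g, rfl⟩
    exact ⟨(Lc.extendXIso ComplexShape.embeddingDownNat hj).hom ≫ g, by simp⟩

/-- the cohomology classes of maps from a chain complex (placed in nonpositive degrees) to a
single object are computed by any complex of abelian groups modelling `Hom(Lc, M)` -/
theorem nonempty_iso (X : CochainComplex AddCommGrpCat.{v} ℕ)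
    (γ : ∀ n, (Lc.X n ⟶ M) ≃+ X.X n)
    (hγ : ∀ n (f : Lc.X n ⟶ M), γ (n + 1) (Lc.d (n + 1) n ≫ f) = X.d n (n + 1) (γ n f))
    (k : ℕ) :
    Nonempty (X.homology k ≅ AddCommGrpCat.of
      (CohomologyClass (Lz Lc) ((singleFunctor A 0).obj M) (k : ℤ))) := by
  have hcl : ∀ z : AddMonoidHom.ker (X.d k (k + 1)).hom,
      Lc.d (k + 1) k ≫ (γ k).symm z.1 = 0 := by
    intro z
    apply (γ (k + 1)).injective
    rw [hγ, AddEquiv.apply_symm_apply, map_zero]
    exact z.2
  let g : AddMonoidHom.ker (X.d k (k + 1)).hom →+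
      Cochain (Lz Lc) ((singleFunctor A 0).obj M) (k : ℤ) :=
    (toCochain Lc M k).toAddMonoidHom.comp ((γ k).symm.toAddMonoidHom.comp
      (AddMonoidHom.ker (X.d k (k + 1)).hom).subtype)
  have hg : ∀ z, g z ∈ cocycle (Lz Lc) ((singleFunctor A 0).obj M) (k : ℤ) := by
    intro z
    have h := (toCocycle Lc M k ((γ k).symm z.1) (hcl z)).2
    rw [toCocycle_coe] at h
    exact h
  let g' : AddMonoidHom.ker (X.d k (k + 1)).hom →+
      Cocycle (Lz Lc) ((singleFunctor A 0).obj M) (k : ℤ) := g.codRestrict _ hg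
  have hg' : ∀ z, g' z = toCocycle Lc M k ((γ k).symm z.1) (hcl z) := fun z => Subtype.ext rfl
  let φ := (CohomologyClass.mkAddMonoidHom (Lz Lc) ((singleFunctor A 0).obj M) (k : ℤ)).comp g'
  have hφ : ∀ z, φ z = CohomologyClass.mk (toCocycle Lc M k ((γ k).symm z.1) (hcl z)) := by
    intro z
    change CohomologyClass.mk (g' z) = _
    rw [hg']
  refine homology_iso_of_presentation X k _ φ ?_ ?_
  · intro c
    obtain ⟨α, rfl⟩ := c.mk_surjective
    obtain ⟨f, hf, rfl⟩ := toCocycle_surjective Lc M k α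
    have hz : γ k f ∈ AddMonoidHom.ker (X.d k (k + 1)).hom := by
      rw [AddMonoidHom.mem_ker]
      change X.d k (k + 1) (γ k f) = 0
      rw [← hγ, hf, map_zero]
    refine ⟨⟨γ k f, hz⟩, ?_⟩
    rw [hφ]
    congr 1
    simp
  · intro z
    rw [hφ, CohomologyClass.mk_eq_zero_iff]
    cases k with
    | zero =>
      rw [toCocycle_mem_coboundaries_zero]
      constructor
      · intro h
        left
        apply Subtype.ext
        have := congrArg (γ 0) h
        rwa [AddEquiv.apply_symm_apply, map_zero] at this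
      · rintro (rfl | ⟨j, y, hj, _⟩)
        · exact map_zero _
        · exact absurd hj (by lia)
    | succ j =>
      rw [toCocycle_mem_coboundaries_succ]
      constructor
      · rintro ⟨g₀, hg₀⟩
        right
        refine ⟨j, γ j g₀, rfl, ?_⟩
        rw [← hγ, hg₀, AddEquiv.apply_symm_apply]
      · rintro (rfl | ⟨j', y, hj, hy⟩)
        · exact ⟨0, by simp⟩
        · obtain rfl : j' = j := by lia
          refine ⟨(γ j').symm y, ?_⟩
          apply (γ (j' + 1)).injective
          rw [hγ, AddEquiv.apply_symm_apply, AddEquiv.apply_symm_apply]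
          exact hy

end Groth.Agent.Lib.helper27.HomSingle
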