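import Mathlib
import Groth.Prelude.Def_Hyper2

set_option autoImplicit false
set_option linter.unusedSectionVars false
set_option linter.unusedVariables false

namespace Groth.Agent.Lib.helper27

open CategoryTheory Limits Opposite Simplicial

universe u

namespace HyHtpy

variable {C : Type u} [SmallCategory C] (X : C)
  (P : Cᵒᵖ ⥤ AddCommGrpCat.{u})

/-- evaluation of the presheaf on formal coproducts over `X` -/
noncomputable abbrev E : (FormalCoproduct.{u} (Over X))ᵒᵖ ⥤ AddCommGrpCat.{u} :=
  (FormalCoproduct.evalOp.{u} (Over X) AddCommGrpCat.{u}).obj ((Over.forget X).op ⋙ P)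

/-- the simplicial object in the opposite category of abelian groups -/
noncomputable abbrev S (K : SimplicialObject (FormalCoproduct.{u} (Over X))) :
    SimplicialObject AddCommGrpCat.{u}ᵒᵖ :=
  ((SimplicialObject.whiskering _ _).obj (E X P).rightOp).obj K

/-- the chain complex in the opposite category, unopped to a cochain complex -/
noncomputable abbrev B (K : SimplicialObject (FormalCoproduct.{u} (Over X))) :
    CochainComplex AddCommGrpCat.{u} ℕ :=
  (HomologicalComplex.unopFunctor AddCommGrpCat.{u} (ComplexShape.down ℕ)).obj
    (op ((AlgebraicTopology.alternatingFaceMapComplex AddCommGrpCat.{u}ᵒᵖ).obj (S X P K)))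

/-- comparison of the Cech complex with the unopped alternating face map complex -/
noncomputable def isoB (K : SimplicialObject (FormalCoproduct.{u} (Over X))) :
    Hyper.cechCx X K P ≅ B X P K :=
  HomologicalComplex.Hom.isoOfComponents (fun n => Iso.refl _) (by
    intro i j hij
    obtain rfl : i + 1 = j := hij
    refine (Category.id_comp _).trans (Eq.trans ?_ (Category.comp_id _).symm)
    show (((AlgebraicTopology.alternatingFaceMapComplex AddCommGrpCat.{u}ᵒᵖ).obj (S X P K)).d
      (i + 1) i).unop = (Hyper.cechCx X K P).d i (i + 1)
    rw [AlgebraicTopology.alternatingFaceMapComplex_obj_d]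
    have h2 : (Hyper.cechCx X K P).d i (i + 1) =
        AlgebraicTopology.AlternatingCofaceMapComplex.objD
          ((FormalCoproduct.cosimplicialObjectFunctor K).obj ((Over.forget X).op ⋙ P)) i :=
      CochainComplex.of_d (fun n =>
        ((FormalCoproduct.cosimplicialObjectFunctor K).obj ((Over.forget X).op ⋙ P)).obj ⦋n⦌)
        (AlgebraicTopology.AlternatingCofaceMapComplex.objD
          ((FormalCoproduct.cosimplicialObjectFunctor K).obj ((Over.forget X).op ⋙ P))) i
    rw [h2, AlgebraicTopology.AlternatingCofaceMapComplex.d_eq_unop_d]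
    rfl)


variable {K L : SimplicialObject (FormalCoproduct.{u} (Over X))}

/-- the induced morphism of simplicial objects in the opposite category -/
noncomputable abbrev sMap (a : L ⟶ K) : S X P L ⟶ S X P K :=
  ((SimplicialObject.whiskering _ _).obj (E X P).rightOp).map a

/-- the induced morphism of unopped complexes -/
noncomputable abbrev bMap (a : L ⟶ K) : B X P K ⟶ B X P L :=
  (HomologicalComplex.unopFunctor AddCommGrpCat.{u} (ComplexShape.down ℕ)).map
    ((AlgebraicTopology.alternatingFaceMapComplex AddCommGrpCat.{u}ᵒᵖ).map (sMap X P a)).op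

lemma cechMap_eq (a : L ⟶ K) :
    Hyper.cechMap X a P = (isoB X P K).hom ≫ bMap X P a ≫ (isoB X P L).inv := by
  apply HomologicalComplex.hom_ext
  intro n
  rw [HomologicalComplex.comp_f, HomologicalComplex.comp_f]
  erw [Category.id_comp, Category.comp_id]
  rfl

/-- the homotopy of unopped complexes deduced from a simplicial homotopy -/
noncomputable def bHomotopy (a b : L ⟶ K) (H : SimplicialObject.Homotopy a b) :
    Homotopy (bMap X P a) (bMap X P b) :=
  (SimplicialObject.Homotopy.toChainHomotopy (H.whiskerRight (E X P).rightOp)).unop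

theorem cechHMap_eq (a b : L ⟶ K) (h : Nonempty (SimplicialObject.Homotopy a b)) (p : ℕ) :
    Hyper.cechHMap X a P p = Hyper.cechHMap X b P p := by
  obtain ⟨H⟩ := h
  show (HomologicalComplex.homologyMap (Hyper.cechMap X a P) p).hom =
    (HomologicalComplex.homologyMap (Hyper.cechMap X b P) p).hom
  rw [cechMap_eq, cechMap_eq, HomologicalComplex.homologyMap_comp,
    HomologicalComplex.homologyMap_comp, HomologicalComplex.homologyMap_comp,
    HomologicalComplex.homologyMap_comp, (bHomotopy X P a b H).homologyMap_eq p]

end HyHtpy

end Groth.Agent.Lib.helper27
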