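import Mathlib
import Groth.Prelude.Def_Hyper
import Groth.Agent.Lib.Helper1.HyperCech
import Groth.Agent.Lib.Helper27.HomHf
import Groth.Agent.Lib.Helper27.SieveExt
import Groth.Agent.Lib.Helper27.HomSingle

set_option autoImplicit false

namespace Groth.Agent.Lib.helper27.HyperSS

open CategoryTheory Limits Opposite FormalCoproduct
open Groth.Agent.H1.HyperBase Groth.Agent.H1.HyperCone Groth.Agent.H1.HyperSite
  Groth.Agent.H1.HyperCech

universe u

variable {C : Type u} [SmallCategory C]

/-- the free abelian presheaf on a formal coproduct of representables is projective -/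
instance projective_freeOn (A : FormalCoproduct.{u} C) : Projective (freeOn A) where
  factors {E X} f e _ := by
    have hsurj : ∀ V : Cᵒᵖ, Function.Surjective (e.app V) := fun V =>
      (AddCommGrpCat.epi_iff_surjective _).1 inferInstance
    choose c' hc' using fun i : A.I => hsurj (op (A.obj i)) (ev f i)
    refine ⟨coev c', ev_injective ?_⟩
    funext i
    change e.app _ ((coev c').app _ (FreeAbelianGroup.of (univ A i))) = ev f i
    have h := congrFun (ev_coev c') i
    change (coev c').app _ (FreeAbelianGroup.of (univ A i)) = c' i at h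
    rw [h, hc']

end Groth.Agent.Lib.helper27.HyperSS

namespace Groth.Agent.Lib.helper27.HyperSS

open CategoryTheory Limits Opposite FormalCoproduct
open Groth.Agent.H1.HyperBase Groth.Agent.H1.HyperCone Groth.Agent.H1.HyperSite
  Groth.Agent.H1.HyperCech

universe u

variable {C : Type u} [SmallCategory C] (K : SimplicialObject (FormalCoproduct.{u} C))

/-- presheaves of abelian groups, as sheaves for the trivial topology -/
abbrev PA (C : Type u) [SmallCategory C] : Type (u + 1) :=
  Sheaf (⊥ : GrothendieckTopology C) AddCommGrpCat.{u}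

/-- the equivalence with presheaves -/
noncomputable abbrev eqv (C : Type u) [SmallCategory C] : PA C ≌ (Cᵒᵖ ⥤ AddCommGrpCat.{u}) :=
  sheafBotEquivalence AddCommGrpCat.{u}

instance : (eqv C).inverse.Additive where
  map_add := rfl

/-- the chain complex `ℤ[K]` of presheaves -/
noncomputable def Lc : ChainComplex (PA C) ℕ :=
  ((eqv C).inverse.mapHomologicalComplex _).obj (freeCx (YK K))

instance (n : ℕ) : Projective ((Lc K).X n) :=
  ((eqv C).symm.map_projective_iff (freeOn (Kn K n))).2 inferInstance

/-- the cochain complex `ℤ[K]` of presheaves, in nonpositive degrees -/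
noncomputable def L₀ : CochainComplex (PA C) ℤ :=
  (Lc K).extend ComplexShape.embeddingDownNat

instance : (L₀ K).IsStrictlyLE 0 := by
  dsimp only [L₀]; infer_instance

instance : (L₀ K).IsKProjective := by
  dsimp only [L₀]; infer_instance

end Groth.Agent.Lib.helper27.HyperSS

namespace Groth.Agent.Lib.helper27.HyperSS

open CategoryTheory Limits Opposite FormalCoproduct CochainComplex HomComplex
open Groth.Agent.H1.HyperBase Groth.Agent.H1.HyperCone Groth.Agent.H1.HyperSite
  Groth.Agent.H1.HyperCech Groth.Agent.Lib.helper27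

universe u

variable {C : Type u} [SmallCategory C] (K : SimplicialObject (FormalCoproduct.{u} C))

/-- morphisms from the free presheaf on a formal coproduct are families of sections -/
noncomputable def evEquiv (A : FormalCoproduct.{u} C) (M' : PA C) :
    ((eqv C).inverse.obj (freeOn A) ⟶ M') ≃+
      (∏ᶜ fun i : A.I => M'.obj.obj (op (A.obj i)) : AddCommGrpCat.{u}) where
  toFun f := (Equiv.ofBijective (toFam A M'.obj)
    ⟨toFam_injective A M'.obj, toFam_surjective A M'.obj⟩).symm (ev f.hom)
  invFun x := ObjectProperty.homMk (coev (toFam A M'.obj x))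
  left_inv f := by
    apply Sheaf.hom_ext
    change coev (toFam A M'.obj ((Equiv.ofBijective (toFam A M'.obj) _).symm (ev f.hom))) = f.hom
    have := (Equiv.ofBijective (toFam A M'.obj)
      ⟨toFam_injective A M'.obj, toFam_surjective A M'.obj⟩).apply_symm_apply (ev f.hom)
    rw [Equiv.ofBijective_apply] at this
    rw [this, coev_ev]
  right_inv x := by
    apply (Equiv.ofBijective (toFam A M'.obj)
      ⟨toFam_injective A M'.obj, toFam_surjective A M'.obj⟩).injective
    rw [Equiv.apply_symm_apply, Equiv.ofBijective_apply]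
    exact ev_coev _
  map_add' f g := by
    apply (Equiv.ofBijective (toFam A M'.obj)
      ⟨toFam_injective A M'.obj, toFam_surjective A M'.obj⟩).injective
    rw [Equiv.apply_symm_apply, Equiv.ofBijective_apply, toFam_add]
    have h1 := (Equiv.ofBijective (toFam A M'.obj)
      ⟨toFam_injective A M'.obj, toFam_surjective A M'.obj⟩).apply_symm_apply (ev f.hom)
    have h2 := (Equiv.ofBijective (toFam A M'.obj)
      ⟨toFam_injective A M'.obj, toFam_surjective A M'.obj⟩).apply_symm_apply (ev g.hom)
    rw [Equiv.ofBijective_apply] at h1 h2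
    rw [h1, h2]
    funext i
    rfl

lemma toFam_evEquiv (A : FormalCoproduct.{u} C) (M' : PA C)
    (f : (eqv C).inverse.obj (freeOn A) ⟶ M') :
    toFam A M'.obj (evEquiv A M' f) = ev f.hom := by
  have := (Equiv.ofBijective (toFam A M'.obj)
    ⟨toFam_injective A M'.obj, toFam_surjective A M'.obj⟩).apply_symm_apply (ev f.hom)
  rw [Equiv.ofBijective_apply] at this
  exact this

/-- the `E₂`-identification: cohomology classes of maps `ℤ[K] ⟶ M'[k]` are the Čech cohomology of
`M'` with respect to `K` -/
theorem cech_iso (M' : PA C) (k : ℕ) :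
    Nonempty ((Hyper.cechCxSite K M'.obj).homology k ≅ AddCommGrpCat.of
      (CohomologyClass (L₀ K) ((CochainComplex.singleFunctor (PA C) 0).obj M') (k : ℤ))) := by
  refine HomSingle.nonempty_iso (Lc K) M' (Hyper.cechCxSite K M'.obj)
    (fun n => evEquiv (Kn K n) M') ?_ k
  intro n f
  apply toFam_injective
  have h1 : toFam (Kn K (n + 1)) M'.obj (evEquiv (Kn K (n + 1)) M' ((Lc K).d (n + 1) n ≫ f)) =
      ev (dF K n ≫ f.hom) := toFam_evEquiv (Kn K (n + 1)) M' ((Lc K).d (n + 1) n ≫ f)
  have h2 := toFam_d' K M'.obj n (evEquiv (Kn K n) M' f)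
  have h3 := toFam_evEquiv (Kn K n) M' f
  exact h1.trans ((ev_d K M'.obj n f.hom).trans
    ((congrArg (dFam K M'.obj n) h3).symm.trans h2.symm))

end Groth.Agent.Lib.helper27.HyperSS
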