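import Mathlib
import Groth.Prelude.Def_Hyper
import Groth.Agent.Lib.Helper1.HyperCech
import Groth.Agent.Lib.Helper27.HyperSS1
import Groth.Agent.Lib.Helper27.HomCoh
import Groth.Agent.Lib.Helper27.CLSS2

set_option autoImplicit false

namespace Groth.Agent.Lib.helper27.HyperSS

open CategoryTheory Limits Opposite FormalCoproduct CochainComplex HomComplex
open Groth.Agent.H1.HyperBase Groth.Agent.H1.HyperCone Groth.Agent.H1.HyperSite
  Groth.Agent.H1.HyperCech Groth.Agent.H1.HyperAcyclic Groth.Agent.H1.HyperLoc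
  Groth.Agent.Lib.helper27 Groth.Agent.Lib.helper27.HyperSS

universe u

variable {C : Type u} [SmallCategory C] (J : GrothendieckTopology C)
  (K : SimplicialObject (FormalCoproduct.{u} C))

instance : (SieveExt.a J).Additive := (SieveExt.adj J).left_adjoint_additive

lemma a_map_Lc :
    ((SieveExt.a J).mapHomologicalComplex (ComplexShape.down ℕ)).obj (Lc K) =
      freeShCx J (YK K) := by
  rw [← aCx_eq]
  rfl

/-- the sheafification of `ℤ[K]` is isomorphic to `ℤ` in the derived category -/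
theorem nonempty_iso_aL₀ [HasDerivedCategory.{u + 1} (Sheaf J AddCommGrpCat.{u})]
    (hK : LocalKan J (YK K)) :
    Nonempty (DerivedCategory.Q.obj
        (((SieveExt.a J).mapHomologicalComplex (ComplexShape.up ℤ)).obj (L₀ K)) ≅
      DerivedCategory.Q.obj ((CochainComplex.singleFunctor (Sheaf J AddCommGrpCat.{u}) 0).obj
        ((constantSheaf J AddCommGrpCat.{u}).obj (AddCommGrpCat.of (ULift.{u} ℤ))))) := by
  obtain ⟨e⟩ := ResD.nonempty_iso_single (freeShCx J (YK K))
    ((constantSheaf J AddCommGrpCat.{u}).obj (AddCommGrpCat.of (ULift.{u} ℤ)))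
    (isZero_homology_succ J (YK K) hK) (nonempty_homology_zero_iso J (YK K) hK)
  let e₁ := MapExtend.mapExtendIso (SieveExt.a J) (Lc K) ComplexShape.embeddingDownNat
  rw [a_map_Lc] at e₁
  exact ⟨DerivedCategory.Q.mapIso e₁ ≪≫ e⟩

/-- the abutment: cohomology classes of maps from `ℤ[K]` to the underlying presheaves of an
injective resolution of `F` compute the cohomology of `F` -/
theorem abutment_addEquiv (hK : LocalKan J (YK K)) (F : Sheaf J AddCommGrpCat.{u})
    (R : InjectiveResolution F) (k : ℕ) :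
    Nonempty (Sheaf.H F k ≃+ CohomologyClass (L₀ K)
      (((SieveExt.ι J).mapHomologicalComplex (ComplexShape.up ℤ)).obj R.cochainComplex) (k : ℤ)) := by
  letI : HasDerivedCategory.{u + 1} (Sheaf J AddCommGrpCat.{u}) := HasDerivedCategory.standard _
  obtain ⟨e⟩ := nonempty_iso_aL₀ J K hK
  obtain ⟨e₃⟩ := KInjD.cohomologyClass_addEquiv_of_iso R.cochainComplex _ _ e (k : ℤ)
  obtain ⟨e₂⟩ := HomAdj.cohomologyClass_addEquiv (SieveExt.adj J) (L₀ K) R.cochainComplex (k : ℤ)
  exact ⟨(R.extAddEquivCohomologyClass).trans (e₃.symm.trans e₂)⟩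

end Groth.Agent.Lib.helper27.HyperSS

namespace Groth.Agent.Lib.helper27.HyperSS

open CategoryTheory Limits Opposite FormalCoproduct CochainComplex HomComplex
open Groth.Agent.H1.HyperBase Groth.Agent.H1.HyperCone Groth.Agent.H1.HyperSite
  Groth.Agent.H1.HyperCech Groth.Agent.H1.HyperAcyclic Groth.Agent.H1.HyperLoc
  Groth.Agent.Lib.helper27 Groth.Agent.Lib.helper27.HyperSS

universe u

variable {C : Type u} [SmallCategory C] (J : GrothendieckTopology C)
  (K : SimplicialObject (FormalCoproduct.{u} C))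

/-- the spectral sequence of a locally Kan-contractible simplicial formal coproduct -/
theorem hyper_ss (hK : LocalKan J (YK K)) (F : Sheaf J AddCommGrpCat.{u}) :
    ∃ (E : E₂CohomologicalSpectralSequence AddCommGrpCat.{u})
      (a : SpSeq.Abutment E (fun n : ℤ => if 0 ≤ n then AddCommGrpCat.of (Sheaf.H F n.toNat)
        else AddCommGrpCat.of PUnit.{u + 1})),
      (∀ n, a.IsFinite n) ∧ SpSeq.IsBounded E ∧
      ∀ p q : ℤ, Nonempty ((E.page 2 le_rfl).X (p, q) ≅
        (if 0 ≤ p ∧ 0 ≤ q then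
          (Hyper.cechCxSite K (Sheaf.cohomologyPresheaf F q.toNat)).homology p.toNat
         else AddCommGrpCat.of PUnit.{u + 1})) := by
  let R := injectiveResolution F
  let K₀ : CochainComplex (PA C) ℤ :=
    ((SieveExt.ι J).mapHomologicalComplex (ComplexShape.up ℤ)).obj R.cochainComplex
  have hinj : ∀ n, Injective (K₀.X n) := fun n => by
    have : Injective (R.cochainComplex.X n) := inferInstance
    exact SieveExt.injective_ι J (R.cochainComplex.X n)
  haveI : K₀.IsStrictlyGE 0 := by
    dsimp only [K₀]; infer_instance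
  refine HomHf.hom_ss (L₀ K) K₀ hinj _ ?_ _ ?_ ?_
  · intro n
    by_cases hn : 0 ≤ n
    · obtain ⟨k, rfl⟩ := Int.eq_ofNat_of_zero_le hn
      rw [if_pos hn, Int.toNat_natCast]
      obtain ⟨e⟩ := abutment_addEquiv J K hK F R k
      exact ⟨e.toAddCommGrpIso⟩
    · rw [if_neg hn]
      have := HomHf.subsingleton_cohomologyClass (L₀ K) K₀ 0 n (by lia)
      exact ⟨(AddCommGrpCat.isZero_of_subsingleton _).iso (AddCommGrpCat.isZero_of_subsingleton _)⟩
  · intro k l M' ⟨eM⟩
    rw [if_pos ⟨Int.natCast_nonneg k, Int.natCast_nonneg l⟩, Int.toNat_natCast, Int.toNat_natCast]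
    obtain ⟨e1⟩ := SSRH.homology_map_cochainComplex_iso (SieveExt.ι J) R l
    obtain ⟨e2⟩ := CLSS.rightDerived_ι_iso J F l
    let eP : M'.obj ≅ Sheaf.cohomologyPresheaf.{u} F l :=
      (eqv C).functor.mapIso (eM ≪≫ e1 ≪≫ e2)
    obtain ⟨e3⟩ := cech_iso K M' k
    exact ⟨((HomologicalComplex.homologyFunctor _ _ k).mapIso
      ((FormalCoproduct.cochainComplexFunctor K).mapIso eP)).symm ≪≫ e3⟩
  · intro p q hpq
    rw [if_neg (by lia)]
    exact AddCommGrpCat.isZero_of_subsingleton _

end Groth.Agent.Lib.helper27.HyperSS
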