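import Groth.Prelude.Def_KZero2
import Mathlib

open CategoryTheory Limits

universe v u

namespace Groth.Agent.Lib.helper27

section Tri

open Pretriangulated

variable {C : Type u} [Category.{v} C] [Preadditive C] [HasZeroObject C]
    [HasShift C ℤ] [∀ n : ℤ, (shiftFunctor C n).Additive] [Pretriangulated C]

theorem clTri_triangle (T : Triangle C) (hT : T ∈ distTriang C) :
    KZero.clTri T.obj₂ = KZero.clTri T.obj₁ + KZero.clTri T.obj₃ := by
  have h : (FreeAbelianGroup.of (⟨T.obj₂, trivial⟩ : Subtype (⊤ : ObjectProperty C)) -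
      FreeAbelianGroup.of ⟨T.obj₁, trivial⟩ - FreeAbelianGroup.of ⟨T.obj₃, trivial⟩) ∈
      KZero.relTr (⊤ : ObjectProperty C) :=
    AddSubgroup.subset_closure ⟨T, trivial, trivial, trivial, hT, rfl⟩
  have h' := (QuotientAddGroup.eq_zero_iff _).2 h
  simp only [QuotientAddGroup.mk_sub] at h'
  unfold KZero.clTri
  rw [sub_sub, sub_eq_zero] at h'
  exact h'

theorem clTri_surjective_closure :
    AddSubgroup.closure (Set.range (KZero.clTri (C := C))) = ⊤ := by
  rw [eq_top_iff]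
  rintro x -
  obtain ⟨y, rfl⟩ := QuotientAddGroup.mk_surjective x
  induction y using FreeAbelianGroup.induction_on with
  | zero => exact zero_mem _
  | of X => exact AddSubgroup.subset_closure ⟨X.1, rfl⟩
  | neg X h => 
    rw [QuotientAddGroup.mk_neg]
    exact neg_mem h
  | add a b ha hb =>
    rw [QuotientAddGroup.mk_add]
    exact add_mem ha hb


theorem closure_clTri_of_dense (S : Set C)
    (hdense : ∀ T : Set C, S ⊆ T →
      (∀ tr : Triangle C, tr ∈ distinguishedTriangles →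
        (tr.obj₁ ∈ T → tr.obj₂ ∈ T → tr.obj₃ ∈ T) ∧ (tr.obj₁ ∈ T → tr.obj₃ ∈ T → tr.obj₂ ∈ T) ∧
          (tr.obj₂ ∈ T → tr.obj₃ ∈ T → tr.obj₁ ∈ T)) → T = Set.univ) :
    AddSubgroup.closure (KZero.clTri '' S) = (⊤ : AddSubgroup (KZero.K0tri C)) := by
  set H := AddSubgroup.closure (KZero.clTri '' S) with hH
  let T : Set C := {X | KZero.clTri X ∈ H}
  have hT : T = Set.univ := by
    apply hdense T (fun X hX => AddSubgroup.subset_closure ⟨X, hX, rfl⟩)
    intro tr htr
    have h := clTri_triangle tr htr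
    refine ⟨fun h₁ h₂ => ?_, fun h₁ h₃ => ?_, fun h₂ h₃ => ?_⟩
    · have : KZero.clTri tr.obj₃ = KZero.clTri tr.obj₂ - KZero.clTri tr.obj₁ := by rw [h]; abel
      change KZero.clTri tr.obj₃ ∈ H
      rw [this]; exact sub_mem h₂ h₁
    · change KZero.clTri tr.obj₂ ∈ H
      rw [h]; exact add_mem h₁ h₃
    · have : KZero.clTri tr.obj₁ = KZero.clTri tr.obj₂ - KZero.clTri tr.obj₃ := by rw [h]; abel
      change KZero.clTri tr.obj₁ ∈ H
      rw [this]; exact sub_mem h₂ h₃
  rw [eq_top_iff, ← clTri_surjective_closure, AddSubgroup.closure_le]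
  rintro _ ⟨X, rfl⟩
  have : X ∈ T := hT ▸ Set.mem_univ X
  exact this

end Tri

section Ab

variable {A : Type u} [Category.{v} A] [Abelian A]

theorem cl_shortExact (X : ShortComplex A) (hX : X.ShortExact) :
    KZero.cl X.X₂ = KZero.cl X.X₁ + KZero.cl X.X₃ := by
  have h : (FreeAbelianGroup.of X.X₂ - FreeAbelianGroup.of X.X₁ - FreeAbelianGroup.of X.X₃) ∈
      KZero.relAb A :=
    AddSubgroup.subset_closure ⟨X, hX, rfl⟩
  have h' := (QuotientAddGroup.eq_zero_iff _).2 h
  simp only [QuotientAddGroup.mk_sub] at h'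
  unfold KZero.cl
  rw [sub_sub, sub_eq_zero] at h'
  exact h'

theorem cl_surjective_closure :
    AddSubgroup.closure (Set.range (KZero.cl (A := A))) = ⊤ := by
  rw [eq_top_iff]
  rintro x -
  obtain ⟨y, rfl⟩ := QuotientAddGroup.mk_surjective x
  induction y using FreeAbelianGroup.induction_on with
  | zero => exact zero_mem _
  | of X => exact AddSubgroup.subset_closure ⟨X, rfl⟩
  | neg X h =>
    rw [QuotientAddGroup.mk_neg]
    exact neg_mem h
  | add a b ha hb =>
    rw [QuotientAddGroup.mk_add]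
    exact add_mem ha hb

theorem closure_cl_of_dense (S : Set A)
    (hdense : ∀ T : Set A, S ⊆ T →
      (∀ X : ShortComplex A, X.ShortExact →
        (X.X₁ ∈ T → X.X₂ ∈ T → X.X₃ ∈ T) ∧ (X.X₁ ∈ T → X.X₃ ∈ T → X.X₂ ∈ T) ∧
          (X.X₂ ∈ T → X.X₃ ∈ T → X.X₁ ∈ T)) → T = Set.univ) :
    AddSubgroup.closure (KZero.cl '' S) = (⊤ : AddSubgroup (KZero.K0 A)) := by
  set H := AddSubgroup.closure (KZero.cl '' S) with hH
  let T : Set A := {X | KZero.cl X ∈ H}
  have hT : T = Set.univ := by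
    apply hdense T (fun X hX => AddSubgroup.subset_closure ⟨X, hX, rfl⟩)
    intro tr htr
    have h := cl_shortExact tr htr
    refine ⟨fun h₁ h₂ => ?_, fun h₁ h₃ => ?_, fun h₂ h₃ => ?_⟩
    · have : KZero.cl tr.X₃ = KZero.cl tr.X₂ - KZero.cl tr.X₁ := by rw [h]; abel
      change KZero.cl tr.X₃ ∈ H
      rw [this]; exact sub_mem h₂ h₁
    · change KZero.cl tr.X₂ ∈ H
      rw [h]; exact add_mem h₁ h₃
    · have : KZero.cl tr.X₁ = KZero.cl tr.X₂ - KZero.cl tr.X₃ := by rw [h]; abel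
      change KZero.cl tr.X₁ ∈ H
      rw [this]; exact sub_mem h₂ h₃
  rw [eq_top_iff, ← cl_surjective_closure, AddSubgroup.closure_le]
  rintro _ ⟨X, rfl⟩
  have : X ∈ T := hT ▸ Set.mem_univ X
  exact this

end Ab

end Groth.Agent.Lib.helper27
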