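import Groth.Agent.Lib.Helper27.KZeroBasic

open CategoryTheory Limits

universe v u

namespace Groth.Agent.Lib.helper27

section Tri

open Pretriangulated ZeroObject

variable {C : Type u} [Category.{v} C] [Preadditive C] [HasZeroObject C]
    [HasShift C ℤ] [∀ n : ℤ, (shiftFunctor C n).Additive] [Pretriangulated C]

theorem clTri_zero : KZero.clTri (0 : C) = 0 := by
  have h : KZero.clTri (0 : C) = KZero.clTri (0 : C) + KZero.clTri (0 : C) :=
    clTri_triangle _ (contractible_distinguished (0 : C))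
  rw [left_eq_add] at h
  exact h

theorem clTri_iso {X Y : C} (e : X ≅ Y) : KZero.clTri X = KZero.clTri Y := by
  have hT : Triangle.mk e.hom (0 : Y ⟶ (0 : C)) 0 ∈ distTriang C := by
    refine isomorphic_distinguished _ (contractible_distinguished X) _
      (Triangle.isoMk _ _ (Iso.refl _) e.symm (Iso.refl _) ?_ ?_ ?_)
    · change e.hom ≫ e.inv = 𝟙 X ≫ 𝟙 X
      rw [e.hom_inv_id, Category.comp_id]
    · change (0 : Y ⟶ (0 : C)) ≫ 𝟙 _ = e.inv ≫ 0
      rw [comp_zero, zero_comp]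
    · change (0 : (0 : C) ⟶ X⟦(1 : ℤ)⟧) ≫ (shiftFunctor C (1 : ℤ)).map (𝟙 X) = 𝟙 _ ≫ 0
      rw [comp_zero, zero_comp]
  have h : KZero.clTri Y = KZero.clTri X + KZero.clTri (0 : C) := clTri_triangle _ hT
  rw [clTri_zero, add_zero] at h
  exact h.symm

theorem clTri_shift_one (X : C) : KZero.clTri (X⟦(1 : ℤ)⟧) = - KZero.clTri X := by
  have hT := rot_of_distTriang _ (contractible_distinguished X)
  have h : KZero.clTri (0 : C) = KZero.clTri X + KZero.clTri (X⟦(1 : ℤ)⟧) := clTri_triangle _ hT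
  rw [clTri_zero] at h
  exact (neg_eq_of_add_eq_zero_right h.symm).symm

theorem clTri_shift_succ (X : C) (k : ℤ) : KZero.clTri (X⟦k + 1⟧) = - KZero.clTri (X⟦k⟧) := by
  rw [← clTri_shift_one]
  exact clTri_iso ((shiftFunctorAdd' C k 1 (k + 1) rfl).app X)

theorem clTri_shift_two_mul (X : C) (n : ℤ) : KZero.clTri (X⟦2 * n⟧) = KZero.clTri X := by
  have key : ∀ k : ℤ, KZero.clTri (X⟦k + 1 + 1⟧) = KZero.clTri (X⟦k⟧) := fun k => by
    rw [clTri_shift_succ, clTri_shift_succ, neg_neg]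
  have h0 : KZero.clTri (X⟦(0 : ℤ)⟧) = KZero.clTri X := clTri_iso ((shiftFunctorZero C ℤ).app X)
  induction n using Int.induction_on with
  | zero => rw [mul_zero]; exact h0
  | succ i ih =>
    have : (2 : ℤ) * ((i : ℤ) + 1) = 2 * i + 1 + 1 := by ring
    rw [this, key]; exact ih
  | pred i ih =>
    have : (2 : ℤ) * (-(i : ℤ)) = 2 * (-(i : ℤ) - 1) + 1 + 1 := by ring
    rw [this, key] at ih; exact ih

theorem clTri_biprod (X Y : C) : KZero.clTri (X ⊞ Y) = KZero.clTri X + KZero.clTri Y :=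
  clTri_triangle _ (binaryBiproductTriangle_distinguished X Y)


theorem clTri_eq_zero_of_hasCoproduct_shifts (L : C) (n : ℤ)
    [HasCoproduct (fun i : ℕ => (shiftFunctor C (2 * n * (i : ℤ))).obj L)] :
    KZero.clTri L = 0 := by
  let F : ℕ → C := fun i => (shiftFunctor C (2 * n * (i : ℤ))).obj L
  let M : C := ∐ F
  let G := shiftFunctor C (2 * n)
  have hM : IsColimit (Cofan.mk M (Sigma.ι F)) := coproductIsCoproduct F
  have hGM : IsColimit (Cofan.mk (G.obj M) (fun i => G.map (Sigma.ι F i))) :=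
    isColimitCofanMkObjOfIsColimit G F (Sigma.ι F) hM
  let e : ∀ i : ℕ, G.obj (F i) ≅ F (i + 1) := fun i =>
    ((shiftFunctorAdd' C (2 * n * (i : ℤ)) (2 * n) (2 * n * ((i + 1 : ℕ) : ℤ))
      (by push_cast; ring)).symm.app L)
  let τ : G.obj M ⟶ M := Cofan.IsColimit.desc hGM (fun i => (e i).hom ≫ Sigma.ι F (i + 1))
  have hτ : ∀ i, G.map (Sigma.ι F i) ≫ τ = (e i).hom ≫ Sigma.ι F (i + 1) :=
    fun i => Cofan.IsColimit.fac hGM _ i
  let ψ : F 0 ⊞ G.obj M ⟶ M := biprod.desc (Sigma.ι F 0) τ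
  let φc : ∀ i, F i ⟶ F 0 ⊞ G.obj M := fun i =>
    Nat.casesOn i biprod.inl (fun j => (e j).inv ≫ G.map (Sigma.ι F j) ≫ biprod.inr)
  have φc0 : φc 0 = biprod.inl := rfl
  have φcS : ∀ j, φc (j + 1) = (e j).inv ≫ G.map (Sigma.ι F j) ≫ biprod.inr := fun _ => rfl
  let φ : M ⟶ F 0 ⊞ G.obj M := Sigma.desc φc
  have hφ : ∀ i, Sigma.ι F i ≫ φ = φc i := fun i => Sigma.ι_desc _ _
  have h12 : φ ≫ ψ = 𝟙 M := by
    apply Sigma.hom_ext
    intro i
    rw [← Category.assoc, hφ, Category.comp_id]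
    cases i with
    | zero => rw [φc0]; exact biprod.inl_desc _ _
    | succ j =>
      rw [φcS, Category.assoc, Category.assoc]
      have : biprod.inr ≫ ψ = τ := biprod.inr_desc _ _
      rw [this, hτ, Iso.inv_hom_id_assoc]
  have h21 : ψ ≫ φ = 𝟙 _ := by
    apply biprod.hom_ext'
    · rw [← Category.assoc, Category.comp_id]
      have : biprod.inl ≫ ψ = Sigma.ι F 0 := biprod.inl_desc _ _
      rw [this, hφ, φc0]
    · rw [← Category.assoc, Category.comp_id]
      have : biprod.inr ≫ ψ = τ := biprod.inr_desc _ _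
      rw [this]
      apply Cofan.IsColimit.hom_ext hGM
      intro i
      change G.map (Sigma.ι F i) ≫ τ ≫ φ = G.map (Sigma.ι F i) ≫ biprod.inr
      rw [← Category.assoc, hτ, Category.assoc, hφ, φcS, Iso.hom_inv_id_assoc]
  have iso : M ≅ F 0 ⊞ G.obj M := ⟨φ, ψ, h12, h21⟩
  have h1 : KZero.clTri M = KZero.clTri (F 0) + KZero.clTri (G.obj M) :=
    (clTri_iso iso).trans (clTri_biprod _ _)
  have h2 : KZero.clTri (G.obj M) = KZero.clTri M := clTri_shift_two_mul M n
  have h3 : KZero.clTri (F 0) = KZero.clTri L :=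
    clTri_iso ((shiftFunctorZero' C (2 * n * ((0 : ℕ) : ℤ)) (by simp)).app L)
  rw [h2, h3] at h1
  have : KZero.clTri L + KZero.clTri M = 0 + KZero.clTri M := by rw [zero_add]; exact h1.symm
  exact add_right_cancel this

end Tri

end Groth.Agent.Lib.helper27
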