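import Mathlib

open CategoryTheory Limits

universe v u

namespace Groth.Agent.Lib.helper27

variable {D : Type u} [Category.{v} D] [Preadditive D]

/-- General form: countable product of copies of `X` exists, and split epis `P ⟶ P` have kernels. -/
theorem idempotent_splits_of_product {X : D} (e : X ⟶ X) (he : e ≫ e = e)
    [HasProduct (fun _ : ℕ => X)]
    (hk : ∀ (f : (∏ᶜ fun _ : ℕ => X) ⟶ ∏ᶜ fun _ : ℕ => X), IsSplitEpi f →
      ∃ (W : D) (k : W ⟶ ∏ᶜ fun _ : ℕ => X), Mono k ∧ k ≫ f = 0 ∧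
        ∀ {V : D} (j : V ⟶ ∏ᶜ fun _ : ℕ => X), j ≫ f = 0 → ∃ l : V ⟶ W, l ≫ k = j) :
    ∃ (Y : D) (i : Y ⟶ X) (p : X ⟶ Y), i ≫ p = 𝟙 Y ∧ p ≫ i = e := by
  have he1 : e ≫ (𝟙 X - e) = 0 := by rw [Preadditive.comp_sub, Category.comp_id, he, sub_self]
  have he2 : (𝟙 X - e) ≫ e = 0 := by rw [Preadditive.sub_comp, Category.id_comp, he, sub_self]
  have he3 : (𝟙 X - e) ≫ (𝟙 X - e) = 𝟙 X - e := by
    rw [Preadditive.comp_sub, Category.comp_id, he2, sub_zero]
  let π : ∀ n : ℕ, (∏ᶜ fun _ : ℕ => X) ⟶ X := fun n => Pi.π (fun _ : ℕ => X) n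
  let f : (∏ᶜ fun _ : ℕ => X) ⟶ ∏ᶜ fun _ : ℕ => X :=
    Pi.lift (fun n => π n ≫ (𝟙 X - e) + π (n + 1) ≫ e)
  have hf : ∀ n, f ≫ π n = π n ≫ (𝟙 X - e) + π (n + 1) ≫ e := fun n => Pi.lift_π _ _
  let gc : ∀ n : ℕ, (∏ᶜ fun _ : ℕ => X) ⟶ X := fun n =>
    Nat.casesOn n (π 0 ≫ (𝟙 X - e)) (fun m => π (m + 1) ≫ (𝟙 X - e) + π m ≫ e)
  have gc0 : gc 0 = π 0 ≫ (𝟙 X - e) := rfl
  have gcS : ∀ m, gc (m + 1) = π (m + 1) ≫ (𝟙 X - e) + π m ≫ e := fun _ => rfl
  let g : (∏ᶜ fun _ : ℕ => X) ⟶ ∏ᶜ fun _ : ℕ => X := Pi.lift gc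
  have hg : ∀ n, g ≫ π n = gc n := fun n => Pi.lift_π _ _
  have hgf : g ≫ f = 𝟙 _ := by
    apply Pi.hom_ext
    intro n
    change (g ≫ f) ≫ π n = 𝟙 _ ≫ π n
    rw [Category.assoc, hf, Preadditive.comp_add, ← Category.assoc, ← Category.assoc, hg, hg,
      Category.id_comp]
    cases n with
    | zero =>
      rw [gc0, gcS]
      simp only [Preadditive.add_comp, Category.assoc, he3, he2, he, comp_zero, zero_add]
      rw [← Preadditive.comp_add, sub_add_cancel, Category.comp_id]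
    | succ m =>
      rw [gcS, gcS]
      simp only [Preadditive.add_comp, Category.assoc, he3, he2, he1, he, comp_zero, zero_add,
        add_zero]
      rw [← Preadditive.comp_add, sub_add_cancel, Category.comp_id]
  obtain ⟨W, k, hkm, hkf, hlift⟩ := hk f ⟨⟨g, hgf⟩⟩
  let jc : ∀ n : ℕ, X ⟶ X := fun n => Nat.casesOn n e (fun _ => 0)
  have jc0 : jc 0 = e := rfl
  have jcS : ∀ m, jc (m + 1) = 0 := fun _ => rfl
  let j : X ⟶ ∏ᶜ fun _ : ℕ => X := Pi.lift jc
  have hj : ∀ n, j ≫ π n = jc n := fun n => Pi.lift_π _ _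
  have hjf : j ≫ f = 0 := by
    apply Pi.hom_ext
    intro n
    change (j ≫ f) ≫ π n = 0 ≫ π n
    rw [Category.assoc, hf, Preadditive.comp_add, ← Category.assoc, ← Category.assoc, hj, hj, zero_comp]
    cases n with
    | zero => simp [jc0, he1]
    | succ m => simp [jcS]
  obtain ⟨p, hp⟩ := hlift j hjf
  -- consequences of k ≫ f = 0
  have hkn : ∀ n, (k ≫ π n) ≫ (𝟙 X - e) + (k ≫ π (n + 1)) ≫ e = 0 := by
    intro n
    have := congrArg (fun φ => φ ≫ π n) hkf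
    simp only [Category.assoc, zero_comp] at this
    rw [hf, Preadditive.comp_add] at this
    simpa only [Category.assoc] using this
  have hk1 : ∀ n, (k ≫ π n) ≫ (𝟙 X - e) = 0 := by
    intro n
    have := congrArg (fun φ => φ ≫ (𝟙 X - e)) (hkn n)
    simpa only [Preadditive.add_comp, Category.assoc, he3, he1, comp_zero, add_zero, zero_comp] using this
  have hk2 : ∀ n, (k ≫ π (n + 1)) ≫ e = 0 := by
    intro n
    have := congrArg (fun φ => φ ≫ e) (hkn n)
    simpa only [Preadditive.add_comp, Category.assoc, he2, he, comp_zero, zero_add, zero_comp] using this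
  have hk3 : ∀ n, (k ≫ π n) ≫ e = k ≫ π n := by
    intro n
    have := hk1 n
    rw [Preadditive.comp_sub, Category.comp_id, sub_eq_zero] at this
    exact this.symm
  have hk4 : ∀ n, k ≫ π (n + 1) = 0 := fun n => by rw [← hk3, hk2]
  refine ⟨W, k ≫ π 0, p, ?_, ?_⟩
  · rw [← cancel_mono k, Category.assoc, Category.assoc, hp, Category.id_comp]
    apply Pi.hom_ext
    intro n
    change (k ≫ π 0 ≫ j) ≫ π n = k ≫ π n
    rw [Category.assoc, Category.assoc, hj]
    cases n with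
    | zero => rw [jc0, ← Category.assoc]; exact hk3 0
    | succ m => rw [jcS m, comp_zero, comp_zero, hk4]
  · rw [← Category.assoc, hp, hj, jc0]


theorem isIdempotentComplete_of_products [HasProductsOfShape ℕ D]
    (hk : ∀ (P : D) (f : P ⟶ P), IsSplitEpi f →
      ∃ (W : D) (k : W ⟶ P), Mono k ∧ k ≫ f = 0 ∧
        ∀ {V : D} (j : V ⟶ P), j ≫ f = 0 → ∃ l : V ⟶ W, l ≫ k = j) :
    IsIdempotentComplete D :=
  ⟨fun _ e he => idempotent_splits_of_product e he (fun f hf => hk _ f hf)⟩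

theorem isIdempotentComplete_of_coproducts [HasCoproductsOfShape ℕ D]
    (hk : ∀ (P : D) (f : P ⟶ P), IsSplitMono f →
      ∃ (W : D) (q : P ⟶ W), Epi q ∧ f ≫ q = 0 ∧
        ∀ {V : D} (j : P ⟶ V), f ≫ j = 0 → ∃ l : W ⟶ V, q ≫ l = j) :
    IsIdempotentComplete D := by
  rw [← Idempotents.isIdempotentComplete_iff_opposite]
  apply isIdempotentComplete_of_products
  intro P f hf
  have : IsSplitMono f.unop := ⟨⟨⟨(section_ f).unop, by
    rw [← unop_comp, IsSplitEpi.id, unop_id]⟩⟩⟩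
  obtain ⟨W, q, hq, hfq, hlift⟩ := hk P.unop f.unop this
  refine ⟨Opposite.op W, q.op, inferInstance, ?_, ?_⟩
  · have := congrArg Quiver.Hom.op hfq
    simpa using this
  · intro V j hj
    have hj' : f.unop ≫ j.unop = 0 := by
      rw [← unop_comp, hj, unop_zero]
    obtain ⟨l, hl⟩ := hlift j.unop hj'
    refine ⟨l.op, ?_⟩
    have := congrArg Quiver.Hom.op hl
    simpa using this

end Groth.Agent.Lib.helper27
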