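import Mathlib
import Groth.Prelude.Def_HTor

/-!
helper27: elementwise description of the tensor product of two complexes of modules.
-/

set_option autoImplicit false

namespace Groth.Agent.Lib.helper27.Kun

universe u
open CategoryTheory Limits MonoidalCategory HomologicalComplex

variable {A : Type u} [CommRing A] (L M : DRing.Cx A)

/-- the pure tensors in the tensor product of two complexes -/
noncomputable def tmul {i j n : ℤ} (h : i + j = n) (x : L.X i) (y : M.X j) :
    (HTor.tensorCx L M).X n :=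
  ιTensorObj L M i j n h (x ⊗ₜ[A] y)

lemma d_tmul {i j n : ℤ} (h : i + j = n) (x : L.X i) (y : M.X j) :
    (HTor.tensorCx L M).d n (n + 1) (tmul L M h x y) =
      tmul L M (show (i + 1) + j = n + 1 by omega) (L.d i (i + 1) x) y +
        ((i.negOnePow : ℤˣ) : ℤ) • tmul L M (show i + (j + 1) = n + 1 by omega) x
          (M.d j (j + 1) y) := by
  unfold tmul
  have h1 : ιTensorObj L M i j n h ≫ (HTor.tensorCx L M).d n (n + 1) =
      (L.d i (i + 1) ▷ M.X j) ≫ ιTensorObj L M (i + 1) j (n + 1) (by omega) +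
      ((i.negOnePow : ℤˣ) : ℤ) • ((L.X i ◁ M.d j (j + 1)) ≫
        ιTensorObj L M i (j + 1) (n + 1) (by omega)) := by
    rw [mapBifunctor.d_eq, Preadditive.comp_add, mapBifunctor.ι_D₁, mapBifunctor.ι_D₂,
      mapBifunctor.d₁_eq L M _ _ (show (ComplexShape.up ℤ).Rel i (i + 1) from rfl) j (n + 1)
        (by simp; omega),
      mapBifunctor.d₂_eq L M _ _ i (show (ComplexShape.up ℤ).Rel j (j + 1) from rfl) (n + 1)
        (by simp; omega)]
    simp
    rfl
  have := ConcreteCategory.congr_hom h1 (x ⊗ₜ[A] y)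
  simpa using this

lemma tmul_add_left {i j n : ℤ} (h : i + j = n) (x x' : L.X i) (y : M.X j) :
    tmul L M h (x + x') y = tmul L M h x y + tmul L M h x' y := by
  unfold tmul
  rw [TensorProduct.add_tmul, map_add]

lemma tmul_add_right {i j n : ℤ} (h : i + j = n) (x : L.X i) (y y' : M.X j) :
    tmul L M h x (y + y') = tmul L M h x y + tmul L M h x y' := by
  unfold tmul
  rw [TensorProduct.tmul_add, map_add]

lemma tmul_smul_left {i j n : ℤ} (h : i + j = n) (a : A) (x : L.X i) (y : M.X j) :
    tmul L M h (a • x) y = a • tmul L M h x y := by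
  unfold tmul
  rw [← TensorProduct.smul_tmul', map_smul]

lemma tmul_smul_right {i j n : ℤ} (h : i + j = n) (a : A) (x : L.X i) (y : M.X j) :
    tmul L M h x (a • y) = a • tmul L M h x y := by
  unfold tmul
  rw [TensorProduct.tmul_smul, map_smul]

lemma tmul_zero_left {i j n : ℤ} (h : i + j = n) (y : M.X j) :
    tmul L M h (0 : L.X i) y = 0 := by
  unfold tmul
  rw [TensorProduct.zero_tmul, map_zero]

lemma tmul_zero_right {i j n : ℤ} (h : i + j = n) (x : L.X i) :
    tmul L M h x (0 : M.X j) = 0 := by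
  unfold tmul
  rw [TensorProduct.tmul_zero, map_zero]

variable {M} in
lemma map_tmul {M' : DRing.Cx A} (f : M ⟶ M') {i j n : ℤ} (h : i + j = n) (x : L.X i)
    (y : M.X j) :
    (HomologicalComplex.tensorHom (𝟙 L) f).f n (tmul L M h x y) = tmul L M' h x (f.f j y) := by
  unfold tmul
  have h1 := ι_mapBifunctorMap (𝟙 L) f (curriedTensor (ModuleCat.{u} A)) (ComplexShape.up ℤ)
    i j n h
  have h2 := ConcreteCategory.congr_hom h1 (x ⊗ₜ[A] y)
  rw [ConcreteCategory.comp_apply] at h2
  rw [show (HomologicalComplex.tensorHom (𝟙 L) f).f n =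
    (mapBifunctorMap (𝟙 L) f (curriedTensor (ModuleCat.{u} A)) (ComplexShape.up ℤ)).f n from rfl,
    h2]
  simp

/-- the pure tensors generate -/
lemma span_tmul (n : ℤ) :
    Submodule.span A {w : (HTor.tensorCx L M).X n |
      ∃ (i j : ℤ) (h : i + j = n) (x : L.X i) (y : M.X j), w = tmul L M h x y} = ⊤ := by
  set N := Submodule.span A {w : (HTor.tensorCx L M).X n |
      ∃ (i j : ℤ) (h : i + j = n) (x : L.X i) (y : M.X j), w = tmul L M h x y} with hN
  let q : (HTor.tensorCx L M).X n ⟶ ModuleCat.of A ((HTor.tensorCx L M).X n ⧸ N) :=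
    ModuleCat.ofHom N.mkQ
  have hq : q = 0 := by
    apply mapBifunctor.hom_ext (K₁ := L) (K₂ := M) (F := curriedTensor (ModuleCat.{u} A))
      (c := ComplexShape.up ℤ)
    intro i j h
    rw [comp_zero]
    ext : 1
    apply TensorProduct.ext'
    intro x y
    change N.mkQ (tmul L M h x y) = 0
    rw [Submodule.mkQ_apply, Submodule.Quotient.mk_eq_zero]
    exact Submodule.subset_span ⟨i, j, h, x, y, rfl⟩
  rw [eq_top_iff]
  intro w _
  have : N.mkQ w = 0 := by
    change q w = 0
    rw [hq]
    rfl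
  rwa [Submodule.mkQ_apply, Submodule.Quotient.mk_eq_zero] at this

end Groth.Agent.Lib.helper27.Kun
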