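import Mathlib
import Groth.Prelude.Def_HTor
import Groth.Agent.Lib.Helper27.Kun1

/-!
helper27: elementwise homology of complexes of modules and the Künneth map.
-/

set_option autoImplicit false

namespace Groth.Agent.Lib.helper27.Kun

universe u
open CategoryTheory Limits MonoidalCategory HomologicalComplex

variable {A : Type u} [CommRing A]

section elem

variable (K : DRing.Cx A)

lemma iCycles_injective (i : ℤ) : Function.Injective (K.iCycles i) :=
  (ModuleCat.mono_iff_injective _).1 inferInstance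

lemma homologyπ_surjective (i : ℤ) : Function.Surjective (K.homologyπ i) :=
  (ModuleCat.epi_iff_surjective _).1 inferInstance

lemma exists_cycle (i j : ℤ) (hj : i + 1 = j) (x : K.X i) (hx : K.d i j x = 0) :
    ∃ z : K.cycles i, K.iCycles i z = x := by
  have hS : (ShortComplex.mk (K.iCycles i) (K.d i j) (K.iCycles_d i j)).Exact :=
    ShortComplex.exact_of_f_is_kernel _ (K.cyclesIsKernel i j (by simp [hj]))
  exact (ShortComplex.moduleCat_exact_iff _).1 hS x hx

lemma d_iCycles (i j : ℤ) (z : K.cycles i) : K.d i j (K.iCycles i z) = 0 := by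
  have := congrArg (fun f => (ConcreteCategory.hom f) z) (K.iCycles_d i j)
  exact this

lemma exists_boundary (h i : ℤ) (hi : h + 1 = i) (z : K.cycles i) (hz : K.homologyπ i z = 0) :
    ∃ y : K.X h, K.toCycles h i y = z := by
  have hS : (ShortComplex.mk (K.toCycles h i) (K.homologyπ i)
      (K.toCycles_comp_homologyπ h i)).Exact :=
    ShortComplex.exact_of_g_is_cokernel _ (K.homologyIsCokernel h i (by simp [← hi]))
  exact (ShortComplex.moduleCat_exact_iff _).1 hS z hz

lemma iCycles_toCycles (h i : ℤ) (y : K.X h) : K.iCycles i (K.toCycles h i y) = K.d h i y := by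
  have := congrArg (fun f => (ConcreteCategory.hom f) y) (K.toCycles_i h i)
  exact this

lemma homologyπ_toCycles (h i : ℤ) (y : K.X h) : K.homologyπ i (K.toCycles h i y) = 0 := by
  have := congrArg (fun f => (ConcreteCategory.hom f) y) (K.toCycles_comp_homologyπ h i)
  exact this

/-- the class of a cycle vanishes iff it is a boundary -/
lemma homologyπ_eq_zero_iff (h i : ℤ) (hi : h + 1 = i) (z : K.cycles i) :
    K.homologyπ i z = 0 ↔ ∃ y : K.X h, K.d h i y = K.iCycles i z := by
  constructor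
  · intro hz
    obtain ⟨y, rfl⟩ := exists_boundary K h i hi z hz
    exact ⟨y, (iCycles_toCycles K h i y).symm⟩
  · rintro ⟨y, hy⟩
    have : K.toCycles h i y = z := by
      apply iCycles_injective
      rw [iCycles_toCycles, hy]
    rw [← this, homologyπ_toCycles]

variable {K} {K' : DRing.Cx A} (φ : K' ⟶ K)

lemma iCycles_cyclesMap (i : ℤ) (z : K'.cycles i) :
    K.iCycles i (HomologicalComplex.cyclesMap φ i z) = φ.f i (K'.iCycles i z) := by
  have := congrArg (fun f => (ConcreteCategory.hom f) z) (HomologicalComplex.cyclesMap_i φ i)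
  exact this

lemma homologyMap_homologyπ (i : ℤ) (z : K'.cycles i) :
    HomologicalComplex.homologyMap φ i (K'.homologyπ i z) =
      K.homologyπ i (HomologicalComplex.cyclesMap φ i z) := by
  have := congrArg (fun f => (ConcreteCategory.hom f) z)
    (HomologicalComplex.homologyπ_naturality φ i)
  exact this

end elem

section descend

variable {Z Z' H H' N : Type*} [AddCommGroup Z] [Module A Z] [AddCommGroup Z'] [Module A Z']
  [AddCommGroup H] [Module A H] [AddCommGroup H'] [Module A H'] [AddCommGroup N] [Module A N]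
  (p : Z →ₗ[A] H) (p' : Z' →ₗ[A] H') (hp : Function.Surjective p) (hp' : Function.Surjective p')
  (γ : Z →ₗ[A] Z' →ₗ[A] N)
  (h1 : ∀ z, p z = 0 → ∀ z', γ z z' = 0) (h2 : ∀ z z', p' z' = 0 → γ z z' = 0)

include h1 h2 in
lemma descend_aux (z₁ z₂ : Z) (z₁' z₂' : Z') (e : p z₁ = p z₂) (e' : p' z₁' = p' z₂') :
    γ z₁ z₁' = γ z₂ z₂' := by
  have a : γ (z₁ - z₂) z₁' = 0 := h1 _ (by rw [map_sub, e, sub_self]) _
  have b : γ z₂ (z₁' - z₂') = 0 := h2 _ _ (by rw [map_sub, e', sub_self])
  rw [map_sub, LinearMap.sub_apply, sub_eq_zero] at a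
  rw [map_sub, sub_eq_zero] at b
  rw [a, b]

/-- descent of a bilinear map along two surjections -/
noncomputable def bilinDescend : H →ₗ[A] H' →ₗ[A] N :=
  LinearMap.mk₂ A (fun x x' => γ (Function.surjInv hp x) (Function.surjInv hp' x'))
    (fun x₁ x₂ x' => by
      rw [← LinearMap.add_apply, ← map_add]
      exact descend_aux p p' γ h1 h2 _ _ _ _
        (by rw [map_add]; simp only [Function.surjInv_eq]) rfl)
    (fun a x x' => by
      rw [← LinearMap.smul_apply, ← map_smul]
      exact descend_aux p p' γ h1 h2 _ _ _ _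
        (by rw [map_smul]; simp only [Function.surjInv_eq]) rfl)
    (fun x x₁' x₂' => by
      rw [← map_add]
      exact descend_aux p p' γ h1 h2 _ _ _ _ rfl
        (by rw [map_add]; simp only [Function.surjInv_eq]))
    (fun a x x' => by
      rw [← map_smul]
      exact descend_aux p p' γ h1 h2 _ _ _ _ rfl
        (by rw [map_smul]; simp only [Function.surjInv_eq]))

lemma bilinDescend_apply (z : Z) (z' : Z') :
    bilinDescend p p' hp hp' γ h1 h2 (p z) (p' z') = γ z z' := by
  change γ (Function.surjInv hp (p z)) (Function.surjInv hp' (p' z')) = _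
  exact descend_aux p p' γ h1 h2 _ _ _ _ (Function.surjInv_eq hp _) (Function.surjInv_eq hp' _)

end descend


section kunneth

variable (L M : DRing.Cx A)

lemma d_tmul' {i j n i' j' n' : ℤ} (h : i + j = n) (hi : i + 1 = i') (hj : j + 1 = j')
    (hn : n + 1 = n') (x : L.X i) (y : M.X j) :
    (HTor.tensorCx L M).d n n' (tmul L M h x y) =
      tmul L M (show i' + j = n' by omega) (L.d i i' x) y +
        ((i.negOnePow : ℤˣ) : ℤ) • tmul L M (show i + j' = n' by omega) x (M.d j j' y) := by
  subst hi hj hn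
  exact d_tmul L M h x y

/-- the morphism `Z^i L ⊗ Z^j M → (L ⊗ M)^n` -/
noncomputable def cycTensor {i j n : ℤ} (h : i + j = n) :
    (L.cycles i ⊗ M.cycles j : ModuleCat.{u} A) ⟶ (HTor.tensorCx L M).X n :=
  (L.iCycles i ⊗ₘ M.iCycles j) ≫ ιTensorObj L M i j n h

lemma cycTensor_tmul {i j n : ℤ} (h : i + j = n) (z : L.cycles i) (z' : M.cycles j) :
    cycTensor L M h (z ⊗ₜ[A] z') = tmul L M h (L.iCycles i z) (M.iCycles j z') := rfl

lemma cycTensor_d {i j n : ℤ} (h : i + j = n) :
    cycTensor L M h ≫ (HTor.tensorCx L M).d n (n + 1) = 0 := by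
  ext : 1
  apply TensorProduct.ext'
  intro z z'
  change (HTor.tensorCx L M).d n (n + 1) (cycTensor L M h (z ⊗ₜ[A] z')) = 0
  rw [cycTensor_tmul, d_tmul, d_iCycles, d_iCycles, tmul_zero_left, tmul_zero_right, smul_zero,
    add_zero]

/-- the morphism `Z^i L ⊗ Z^j M → Z^n (L ⊗ M)` -/
noncomputable def cycCyc {i j n : ℤ} (h : i + j = n) :
    (L.cycles i ⊗ M.cycles j : ModuleCat.{u} A) ⟶ (HTor.tensorCx L M).cycles n :=
  (HTor.tensorCx L M).liftCycles (cycTensor L M h) (n + 1) (by simp) (cycTensor_d L M h)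

lemma iCycles_cycCyc {i j n : ℤ} (h : i + j = n) (t : (L.cycles i ⊗ M.cycles j : ModuleCat.{u} A)) :
    (HTor.tensorCx L M).iCycles n (cycCyc L M h t) = cycTensor L M h t := by
  have := congrArg (fun f => (ConcreteCategory.hom f) t)
    ((HTor.tensorCx L M).liftCycles_i (cycTensor L M h) (n + 1) (by simp) (cycTensor_d L M h))
  exact this

/-- the bilinear map on cycles -/
noncomputable def cycBilin {i j n : ℤ} (h : i + j = n) :
    L.cycles i →ₗ[A] M.cycles j →ₗ[A] (HTor.tensorCx L M).homology n :=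
  (TensorProduct.mk A (L.cycles i) (M.cycles j)).compr₂
    (cycCyc L M h ≫ (HTor.tensorCx L M).homologyπ n).hom

lemma cycBilin_apply {i j n : ℤ} (h : i + j = n) (z : L.cycles i) (z' : M.cycles j) :
    cycBilin L M h z z' = (HTor.tensorCx L M).homologyπ n (cycCyc L M h (z ⊗ₜ[A] z')) := rfl

lemma cycBilin_left {i j n : ℤ} (h : i + j = n) (z : L.cycles i) (hz : L.homologyπ i z = 0)
    (z' : M.cycles j) : cycBilin L M h z z' = 0 := by
  obtain ⟨y, hy⟩ := (homologyπ_eq_zero_iff L (i - 1) i (by omega) z).1 hz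
  rw [cycBilin_apply]
  refine (homologyπ_eq_zero_iff (HTor.tensorCx L M) (n - 1) n (by omega) _).2
    ⟨tmul L M (show (i - 1) + j = n - 1 by omega) y (M.iCycles j z'), ?_⟩
  rw [iCycles_cycCyc, cycTensor_tmul,
    d_tmul' L M (show (i - 1) + j = n - 1 by omega) (show i - 1 + 1 = i by omega)
      (show j + 1 = j + 1 from rfl) (show n - 1 + 1 = n by omega), d_iCycles, tmul_zero_right,
    smul_zero, add_zero, hy]

lemma cycBilin_right {i j n : ℤ} (h : i + j = n) (z : L.cycles i) (z' : M.cycles j)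
    (hz' : M.homologyπ j z' = 0) : cycBilin L M h z z' = 0 := by
  obtain ⟨y, hy⟩ := (homologyπ_eq_zero_iff M (j - 1) j (by omega) z').1 hz'
  rw [cycBilin_apply]
  refine (homologyπ_eq_zero_iff (HTor.tensorCx L M) (n - 1) n (by omega) _).2
    ⟨((i.negOnePow : ℤˣ) : ℤ) • tmul L M (show i + (j - 1) = n - 1 by omega) (L.iCycles i z) y, ?_⟩
  rw [iCycles_cycCyc, cycTensor_tmul, map_zsmul,
    d_tmul' L M (show i + (j - 1) = n - 1 by omega) (show i + 1 = i + 1 from rfl)
      (show j - 1 + 1 = j by omega) (show n - 1 + 1 = n by omega), d_iCycles, tmul_zero_left,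
    zero_add, hy, smul_smul, Int.units_coe_mul_self, one_smul]

/-- the Künneth pairing `H^i(L) × H^j(M) → H^n(L ⊗ M)` -/
noncomputable def kunnethBilin {i j n : ℤ} (h : i + j = n) :
    L.homology i →ₗ[A] M.homology j →ₗ[A] (HTor.tensorCx L M).homology n :=
  bilinDescend (L.homologyπ i).hom (M.homologyπ j).hom (homologyπ_surjective L i)
    (homologyπ_surjective M j) (cycBilin L M h)
    (fun z hz z' => cycBilin_left L M h z hz z')
    (fun z z' hz' => cycBilin_right L M h z z' hz')

lemma kunnethBilin_apply {i j n : ℤ} (h : i + j = n) (z : L.cycles i) (z' : M.cycles j) :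
    kunnethBilin L M h (L.homologyπ i z) (M.homologyπ j z') =
      (HTor.tensorCx L M).homologyπ n (cycCyc L M h (z ⊗ₜ[A] z')) :=
  bilinDescend_apply _ _ _ _ _ _ _ z z'

/-- the Künneth map -/
noncomputable def kunnethMap (n : ℤ) :
    HTor.KunnethSum L M n →ₗ[A] (HTor.tensorCx L M).homology n :=
  DirectSum.toModule A _ _ (fun ij => TensorProduct.lift (kunnethBilin L M ij.2))

theorem isKunnethMap_kunnethMap (n : ℤ) : HTor.IsKunnethMap L M n (kunnethMap L M n) := by
  intro ij z z' w hw
  unfold kunnethMap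
  rw [DirectSum.toModule_lof, TensorProduct.lift.tmul, kunnethBilin_apply]
  congr 1
  apply iCycles_injective
  rw [iCycles_cycCyc, cycTensor_tmul, hw]
  rfl

/-- the map induced on Künneth sums by a morphism in the second variable -/
noncomputable def ksMap {M M' : DRing.Cx A} (φ : M ⟶ M') (n : ℤ) :
    HTor.KunnethSum L M n →ₗ[A] HTor.KunnethSum L M' n :=
  DirectSum.lmap (fun ij => LinearMap.lTensor (L.homology ij.1.1)
    (HomologicalComplex.homologyMap φ ij.1.2).hom)

variable {M}

/-- naturality of Künneth maps in the second variable -/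
theorem kunneth_natural {M' : DRing.Cx A} (φ : M ⟶ M') (n : ℤ)
    (Φ : HTor.KunnethSum L M n →ₗ[A] (HTor.tensorCx L M).homology n)
    (hΦ : HTor.IsKunnethMap L M n Φ)
    (Φ' : HTor.KunnethSum L M' n →ₗ[A] (HTor.tensorCx L M').homology n)
    (hΦ' : HTor.IsKunnethMap L M' n Φ') (x : HTor.KunnethSum L M n) :
    HomologicalComplex.homologyMap (HomologicalComplex.tensorHom (𝟙 L) φ) n (Φ x) =
      Φ' (ksMap L φ n x) := by
  suffices h : (HomologicalComplex.homologyMap (HomologicalComplex.tensorHom (𝟙 L) φ) n).hom ∘ₗ Φ =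
      Φ' ∘ₗ ksMap L φ n from LinearMap.congr_fun h x
  apply DirectSum.linearMap_ext
  intro ij
  apply TensorProduct.ext'
  intro a b
  obtain ⟨z, rfl⟩ := homologyπ_surjective L _ a
  obtain ⟨z', rfl⟩ := homologyπ_surjective M _ b
  obtain ⟨w, hw⟩ : ∃ w : (HTor.tensorCx L M).cycles n, (HTor.tensorCx L M).iCycles n w =
      tmul L M ij.2 (L.iCycles _ z) (M.iCycles _ z') :=
    ⟨cycCyc L M ij.2 (z ⊗ₜ[A] z'), by rw [iCycles_cycCyc, cycTensor_tmul]⟩
  simp only [LinearMap.coe_comp, Function.comp_apply]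
  rw [hΦ ij z z' w hw]
  unfold ksMap
  rw [DirectSum.lmap_lof, LinearMap.lTensor_tmul]
  change HomologicalComplex.homologyMap (HomologicalComplex.tensorHom (𝟙 L) φ) n
    ((HTor.tensorCx L M).homologyπ n w) = _
  rw [homologyMap_homologyπ]
  have e1 : (HomologicalComplex.homologyMap φ ij.1.2).hom (M.homologyπ ij.1.2 z') =
      M'.homologyπ ij.1.2 (HomologicalComplex.cyclesMap φ ij.1.2 z') :=
    homologyMap_homologyπ φ ij.1.2 z'
  rw [e1]
  symm
  apply hΦ' ij z (HomologicalComplex.cyclesMap φ ij.1.2 z')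
  rw [iCycles_cyclesMap, hw, iCycles_cyclesMap]
  exact map_tmul L φ ij.2 _ _

end kunneth

end Groth.Agent.Lib.helper27.Kun
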