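import Mathlib
import Groth.Prelude.Def_HTor
import Groth.Agent.Lib.Helper27.Kun2

/-!
helper27: the Künneth map is bijective when the second complex has zero differential and flat terms.
-/

set_option autoImplicit false

namespace Groth.Agent.Lib.helper27.Kun

universe u
open CategoryTheory Limits MonoidalCategory HomologicalComplex TensorProduct

variable {A : Type u} [CommRing A] (L M : DRing.Cx A)

lemma ext_tmul {N : Type*} [AddCommGroup N] [Module A N] (n : ℤ)
    (f g : (HTor.tensorCx L M).X n →ₗ[A] N)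
    (h : ∀ (i j : ℤ) (hij : i + j = n) (x : L.X i) (y : M.X j),
      f (tmul L M hij x y) = g (tmul L M hij x y)) : f = g := by
  apply LinearMap.ext_on (span_tmul L M n)
  rintro w ⟨i, j, hij, x, y, rfl⟩
  exact h i j hij x y

/-- the summands -/
abbrev Smd (n : ℤ) (ij : HTor.Antidiag n) : Type u := TensorProduct A (L.X ij.1.1) (M.X ij.1.2)

/-- the decomposition of `(L ⊗ M)^n` -/
noncomputable def toSum (n : ℤ) :
    (HTor.tensorCx L M).X n →ₗ[A] DirectSum (HTor.Antidiag n) (Smd L M n) :=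
  (mapBifunctorDesc (K₁ := L) (K₂ := M) (F := curriedTensor (ModuleCat.{u} A))
    (c := ComplexShape.up ℤ)
    (A := ModuleCat.of A (DirectSum (HTor.Antidiag n) (Smd L M n)))
    (fun i j h => ModuleCat.ofHom
      (DirectSum.lof A (HTor.Antidiag n) (Smd L M n) ⟨(i, j), h⟩))).hom

lemma toSum_tmul {i j n : ℤ} (h : i + j = n) (x : L.X i) (y : M.X j) :
    toSum L M n (tmul L M h x y) =
      DirectSum.lof A (HTor.Antidiag n) (Smd L M n) ⟨(i, j), h⟩ (x ⊗ₜ[A] y) := by
  have h1 := ι_mapBifunctorDesc (K₁ := L) (K₂ := M) (F := curriedTensor (ModuleCat.{u} A))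
    (c := ComplexShape.up ℤ)
    (A := ModuleCat.of A (DirectSum (HTor.Antidiag n) (Smd L M n)))
    (fun i j h => ModuleCat.ofHom
      (DirectSum.lof A (HTor.Antidiag n) (Smd L M n) ⟨(i, j), h⟩)) i j h
  exact ConcreteCategory.congr_hom h1 (x ⊗ₜ[A] y)

/-- the inverse -/
noncomputable def ofSum (n : ℤ) :
    DirectSum (HTor.Antidiag n) (Smd L M n) →ₗ[A] (HTor.tensorCx L M).X n :=
  DirectSum.toModule A _ _ (fun ij => (ιTensorObj L M ij.1.1 ij.1.2 n ij.2).hom)

lemma ofSum_toSum (n : ℤ) (w : (HTor.tensorCx L M).X n) : ofSum L M n (toSum L M n w) = w := by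
  suffices H : ofSum L M n ∘ₗ toSum L M n = LinearMap.id from LinearMap.congr_fun H w
  apply ext_tmul
  intro i j hij x y
  simp only [LinearMap.comp_apply, LinearMap.id_apply]
  rw [toSum_tmul]
  unfold ofSum
  rw [DirectSum.toModule_lof]
  rfl

lemma toSum_injective (n : ℤ) : Function.Injective (toSum L M n) :=
  Function.LeftInverse.injective (ofSum_toSum L M n)

section zero

variable (S : DRing.Cx A) (hS : ∀ j j' : ℤ, S.d j j' = 0)

include hS in
lemma d_tmul_zero {i j n i' n' : ℤ} (h : i + j = n) (hi : i + 1 = i') (hn : n + 1 = n')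
    (x : L.X i) (y : S.X j) :
    (HTor.tensorCx L S).d n n' (tmul L S h x y) =
      tmul L S (show i' + j = n' by omega) (L.d i i' x) y := by
  rw [d_tmul' L S h hi rfl hn, hS]
  simp [tmul_zero_right]

include hS in
lemma toSum_d {m n : ℤ} (hmn : m + 1 = n) {i i' j : ℤ} (h : i + j = m) (hi : i + 1 = i')
    (h' : i' + j = n) (v : (HTor.tensorCx L S).X m) :
    toSum L S n ((HTor.tensorCx L S).d m n v) ⟨(i', j), h'⟩ =
      (L.d i i').hom.rTensor (S.X j) (toSum L S m v ⟨(i, j), h⟩) := by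
  subst hmn hi
  suffices H : (DirectSum.component A (HTor.Antidiag (m + 1)) (Smd L S (m + 1))
        ⟨(i + 1, j), h'⟩) ∘ₗ toSum L S (m + 1) ∘ₗ
      ((HTor.tensorCx L S).d m (m + 1)).hom =
      ((L.d i (i + 1)).hom.rTensor (S.X j)) ∘ₗ
        (DirectSum.component A (HTor.Antidiag m) (Smd L S m) ⟨(i, j), h⟩) ∘ₗ
        toSum L S m from LinearMap.congr_fun H v
  apply ext_tmul
  intro i₀ j₀ h₀ x y
  simp only [LinearMap.comp_apply]
  erw [d_tmul_zero L S hS h₀ rfl rfl]
  rw [toSum_tmul, toSum_tmul]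
  by_cases hc : i₀ = i
  · subst hc
    obtain rfl : j₀ = j := by omega
    rw [DirectSum.component.lof_self, DirectSum.component.lof_self]
    rfl
  · rw [DirectSum.component.of, DirectSum.component.of, dif_neg, dif_neg, map_zero]
    · intro e
      apply hc
      have := congrArg (fun t : HTor.Antidiag m => t.1.1) e
      exact this
    · intro e
      apply hc
      have := congrArg (fun t : HTor.Antidiag (m + 1) => t.1.1) e
      simpa using this

end zero


section flat

variable (K : DRing.Cx A) (F : Type u) [AddCommGroup F] [Module A F]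

lemma exact_iCycles_d (i i' : ℤ) (hi : i + 1 = i') :
    Function.Exact (K.iCycles i).hom (K.d i i').hom := by
  intro x
  constructor
  · intro hx
    obtain ⟨z, hz⟩ := exists_cycle K i i' hi x hx
    exact ⟨z, hz⟩
  · rintro ⟨z, rfl⟩
    exact d_iCycles K i i' z

lemma flat_ker [Module.Flat A F] (i i' : ℤ) (hi : i + 1 = i') (t : K.X i ⊗[A] F)
    (ht : (K.d i i').hom.rTensor F t = 0) :
    ∃ ζ : K.cycles i ⊗[A] F, (K.iCycles i).hom.rTensor F ζ = t :=
  ((Module.Flat.rTensor_exact F (exact_iCycles_d K i i' hi)) t).1 ht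

lemma flat_bdry [Module.Flat A F] (h i : ℤ) (ζ : K.cycles i ⊗[A] F) (v : K.X h ⊗[A] F)
    (e : (K.iCycles i).hom.rTensor F ζ = (K.d h i).hom.rTensor F v) :
    (K.homologyπ i).hom.rTensor F ζ = 0 := by
  have inj := Module.Flat.rTensor_preserves_injective_linearMap (M := F) (K.iCycles i).hom
    (iCycles_injective K i)
  have h1 : (K.iCycles i).hom ∘ₗ (K.toCycles h i).hom = (K.d h i).hom := by
    ext y
    exact iCycles_toCycles K h i y
  have h2 : (K.homologyπ i).hom ∘ₗ (K.toCycles h i).hom = 0 := by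
    ext y
    exact homologyπ_toCycles K h i y
  have h3 : ζ = (K.toCycles h i).hom.rTensor F v := by
    apply inj
    rw [e, ← LinearMap.comp_apply, ← LinearMap.rTensor_comp, h1]
  rw [h3, ← LinearMap.comp_apply, ← LinearMap.rTensor_comp, h2, LinearMap.rTensor_zero,
    LinearMap.zero_apply]

end flat

lemma exists_lmap_eq {ι : Type*} [DecidableEq ι] {X Y : ι → Type*} [∀ i, AddCommGroup (X i)]
    [∀ i, Module A (X i)] [∀ i, AddCommGroup (Y i)] [∀ i, Module A (Y i)]
    (f : ∀ i, X i →ₗ[A] Y i) (u : DirectSum ι Y) (h : ∀ i, ∃ x, f i x = u i) :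
    ∃ ζ, DirectSum.lmap f ζ = u := by
  classical
  choose g hg using h
  refine ⟨∑ i ∈ DFinsupp.support u, DirectSum.lof A ι X i (g i), ?_⟩
  rw [map_sum]
  conv_rhs => rw [← DirectSum.sum_support_of u]
  refine Finset.sum_congr rfl (fun i _ => ?_)
  rw [DirectSum.lmap_lof, hg]
  rfl

section zero2

variable (S : DRing.Cx A)

/-- the sum of the maps `Z^i L ⊗ Z^j S → Z^n (L ⊗ S)` -/
noncomputable def cycSum (n : ℤ) :
    DirectSum (HTor.Antidiag n) (fun ij => L.cycles ij.1.1 ⊗[A] S.cycles ij.1.2) →ₗ[A]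
      (HTor.tensorCx L S).cycles n :=
  DirectSum.toModule A _ _ (fun ij => (cycCyc L S ij.2).hom)

lemma kunnethMap_lmap (n : ℤ)
    (ζ : DirectSum (HTor.Antidiag n) (fun ij => L.cycles ij.1.1 ⊗[A] S.cycles ij.1.2)) :
    kunnethMap L S n (DirectSum.lmap (fun ij : HTor.Antidiag n =>
      TensorProduct.map (L.homologyπ ij.1.1).hom (S.homologyπ ij.1.2).hom) ζ) =
      (HTor.tensorCx L S).homologyπ n (cycSum L S n ζ) := by
  suffices H : kunnethMap L S n ∘ₗ (DirectSum.lmap (fun ij : HTor.Antidiag n =>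
      TensorProduct.map (L.homologyπ ij.1.1).hom (S.homologyπ ij.1.2).hom)) =
      ((HTor.tensorCx L S).homologyπ n).hom ∘ₗ cycSum L S n from LinearMap.congr_fun H ζ
  apply DirectSum.linearMap_ext
  intro ij
  apply TensorProduct.ext'
  intro z z'
  simp only [LinearMap.comp_apply]
  rw [DirectSum.lmap_lof, TensorProduct.map_tmul]
  unfold kunnethMap cycSum
  rw [DirectSum.toModule_lof, DirectSum.toModule_lof, TensorProduct.lift.tmul]
  exact kunnethBilin_apply L S ij.2 z z'

lemma toSum_cycSum (n : ℤ)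
    (ζ : DirectSum (HTor.Antidiag n) (fun ij => L.cycles ij.1.1 ⊗[A] S.cycles ij.1.2)) :
    toSum L S n ((HTor.tensorCx L S).iCycles n (cycSum L S n ζ)) =
      DirectSum.lmap (fun ij : HTor.Antidiag n =>
        TensorProduct.map (L.iCycles ij.1.1).hom (S.iCycles ij.1.2).hom) ζ := by
  suffices H : toSum L S n ∘ₗ ((HTor.tensorCx L S).iCycles n).hom ∘ₗ cycSum L S n =
      DirectSum.lmap (fun ij : HTor.Antidiag n =>
        TensorProduct.map (L.iCycles ij.1.1).hom (S.iCycles ij.1.2).hom) from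
    LinearMap.congr_fun H ζ
  apply DirectSum.linearMap_ext
  intro ij
  apply TensorProduct.ext'
  intro z z'
  simp only [LinearMap.comp_apply]
  rw [DirectSum.lmap_lof, TensorProduct.map_tmul]
  unfold cycSum
  rw [DirectSum.toModule_lof]
  erw [iCycles_cycCyc, cycTensor_tmul, toSum_tmul]

variable (hS : ∀ j j' : ℤ, S.d j j' = 0)

include hS in
lemma iCycles_bijective_of_zero (j : ℤ) : Function.Bijective (S.iCycles j) :=
  ⟨iCycles_injective S j, fun y => exists_cycle S j (j + 1) rfl y (by rw [hS]; rfl)⟩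

include hS in
lemma homologyπ_bijective_of_zero (j : ℤ) : Function.Bijective (S.homologyπ j) := by
  refine ⟨?_, homologyπ_surjective S j⟩
  rw [injective_iff_map_eq_zero]
  intro z hz
  obtain ⟨y, hy⟩ := (homologyπ_eq_zero_iff S (j - 1) j (by omega) z).1 hz
  apply iCycles_injective
  rw [← hy, hS, map_zero]
  rfl

variable (hF : ∀ j : ℤ, Module.Flat A (S.X j))

include hS hF in
lemma cycSum_surjective (n : ℤ) : Function.Surjective (cycSum L S n) := by
  intro w
  have key : ∀ ij : HTor.Antidiag n, ∃ ζ : L.cycles ij.1.1 ⊗[A] S.cycles ij.1.2,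
      TensorProduct.map (L.iCycles ij.1.1).hom (S.iCycles ij.1.2).hom ζ =
        toSum L S n ((HTor.tensorCx L S).iCycles n w) ij := by
    rintro ⟨⟨i, j⟩, h⟩
    haveI := hF j
    have h0 : (L.d i (i + 1)).hom.rTensor (S.X j)
        (toSum L S n ((HTor.tensorCx L S).iCycles n w) ⟨(i, j), h⟩) = 0 := by
      rw [← toSum_d L S hS (show n + 1 = n + 1 from rfl) h rfl (show i + 1 + j = n + 1 by omega),
        d_iCycles, map_zero]
      rfl
    obtain ⟨ζ₀, hζ₀⟩ := flat_ker L (S.X j) i (i + 1) rfl _ h0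
    obtain ⟨ζ, hζ⟩ := LinearMap.lTensor_surjective (L.cycles i)
      (iCycles_bijective_of_zero S hS j).2 ζ₀
    refine ⟨ζ, ?_⟩
    change _ = toSum L S n ((HTor.tensorCx L S).iCycles n w) ⟨(i, j), h⟩
    rw [← hζ₀, ← hζ, ← LinearMap.comp_apply, LinearMap.rTensor_comp_lTensor]
  obtain ⟨ζ, hζ⟩ := exists_lmap_eq _ _ key
  refine ⟨ζ, ?_⟩
  apply iCycles_injective
  apply toSum_injective
  rw [toSum_cycSum, hζ]

include hS hF in
theorem kunnethMap_bijective_of_zero (n : ℤ) : Function.Bijective (kunnethMap L S n) := by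
  have hsurj : Function.Surjective (DirectSum.lmap (fun ij : HTor.Antidiag n =>
      TensorProduct.map (L.homologyπ ij.1.1).hom (S.homologyπ ij.1.2).hom)) := by
    rw [DirectSum.lmap_surjective]
    intro ij
    exact TensorProduct.map_surjective (homologyπ_surjective L _) (homologyπ_surjective S _)
  constructor
  · rw [injective_iff_map_eq_zero]
    intro x hx
    obtain ⟨ζ, rfl⟩ := hsurj x
    rw [kunnethMap_lmap] at hx
    obtain ⟨v, hv⟩ := (homologyπ_eq_zero_iff (HTor.tensorCx L S) (n - 1) n (by omega) _).1 hx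
    apply DirectSum.ext_component (R := A)
    rintro ⟨⟨i, j⟩, h⟩
    rw [map_zero]
    rw [← DirectSum.apply_eq_component, DirectSum.lmap_apply]
    haveI := hF j
    have e1 := toSum_d L S hS (show n - 1 + 1 = n by omega)
      (show (i - 1) + j = n - 1 by omega) (show i - 1 + 1 = i by omega) h v
    rw [hv, toSum_cycSum, DirectSum.lmap_apply] at e1
    -- e1 : (ι ⊗ ι) (ζ ij) = (d ⊗ 1) (…)
    have e2 : (L.iCycles i).hom.rTensor (S.X j)
        ((S.iCycles j).hom.lTensor (L.cycles i) (ζ ⟨(i, j), h⟩)) =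
        (L.d (i - 1) i).hom.rTensor (S.X j) (toSum L S (n - 1) v ⟨(i - 1, j), by omega⟩) := by
      rw [← e1, ← LinearMap.comp_apply, LinearMap.rTensor_comp_lTensor]
    have e3 := flat_bdry L (S.X j) (i - 1) i _ _ e2
    rw [← LinearMap.comp_apply, LinearMap.rTensor_comp_lTensor,
      ← LinearMap.lTensor_comp_rTensor, LinearMap.comp_apply] at e3
    have e4 : (L.homologyπ i).hom.rTensor (S.cycles j) (ζ ⟨(i, j), h⟩) = 0 := by
      have inj : Function.Injective ((S.iCycles j).hom.lTensor (L.homology i)) :=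
        (LinearEquiv.lTensor (L.homology i)
          (LinearEquiv.ofBijective (S.iCycles j).hom
            (iCycles_bijective_of_zero S hS j))).injective
      apply inj
      rw [e3, map_zero]
    have e5 : TensorProduct.map (L.homologyπ i).hom (S.homologyπ j).hom (ζ ⟨(i, j), h⟩) =
        (S.homologyπ j).hom.lTensor (L.homology i)
          ((L.homologyπ i).hom.rTensor (S.cycles j) (ζ ⟨(i, j), h⟩)) := by
      rw [← LinearMap.comp_apply, LinearMap.lTensor_comp_rTensor]
    rw [e5, e4, map_zero]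
  · intro y
    obtain ⟨w, rfl⟩ := homologyπ_surjective (HTor.tensorCx L S) n y
    obtain ⟨ζ, rfl⟩ := cycSum_surjective L S hS hF n w
    exact ⟨_, kunnethMap_lmap L S n ζ⟩

end zero2

end Groth.Agent.Lib.helper27.Kun
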