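import Mathlib
import Groth.Prelude.Def_HTor
import Groth.Agent.Lib.Helper27.Kun3
import Groth.Agent.Lib.Helper13.KFlat14
import Groth.Agent.Lib.Helper13.KFlat9

/-!
helper27: a degreewise surjective map `P ⟶ M`, surjective on cohomology, from a complex of free
modules with free cohomology (and vanishing in the degrees where `M` vanishes).
-/

set_option autoImplicit false
set_option linter.style.haveILetI false

namespace Groth.Agent.Lib.helper27.Kun

universe u
open CategoryTheory Limits HomologicalComplex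

variable (A : Type u) [CommRing A]

/-- the free module on the nonzero elements -/
abbrev Fr (X : Type u) [AddCommGroup X] [Module A X] : Type u := {x : X // x ≠ 0} →₀ A

/-- the augmentation -/
noncomputable def Fr.ε (X : Type u) [AddCommGroup X] [Module A X] : Fr A X →ₗ[A] X :=
  Finsupp.linearCombination A (fun x => x.1)

lemma Fr.ε_surjective (X : Type u) [AddCommGroup X] [Module A X] :
    Function.Surjective (Fr.ε A X) := by
  intro x
  by_cases hx : x = 0
  · exact ⟨0, by rw [map_zero, hx]⟩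
  · refine ⟨Finsupp.single ⟨x, hx⟩ 1, ?_⟩
    unfold Fr.ε
    rw [Finsupp.linearCombination_single, one_smul]

instance Fr.subsingleton (X : Type u) [AddCommGroup X] [Module A X] [Subsingleton X] :
    Subsingleton (Fr A X) := by
  haveI : IsEmpty {x : X // x ≠ 0} := ⟨fun x => x.2 (Subsingleton.elim _ _)⟩
  infer_instance

variable {A} (M : DRing.Cx A)

/-- cycles as a submodule -/
abbrev Zm (i : ℤ) : Submodule A (M.X i) := LinearMap.ker (M.d i (i + 1)).hom

/-- boundaries as a submodule -/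
abbrev Bm (i : ℤ) : Submodule A (M.X i) := LinearMap.range (M.d (i - 1) i).hom

lemma mem_Bm_iff (i i' : ℤ) (hi : i + 1 = i') (b : M.X i') :
    b ∈ Bm M i' ↔ ∃ y : M.X i, M.d i i' y = b := by
  obtain rfl : i = i' - 1 := by omega
  rfl

noncomputable def εZ (i : ℤ) : Fr A (Zm M i) →ₗ[A] M.X i := (Zm M i).subtype ∘ₗ Fr.ε A (Zm M i)

noncomputable def εB (i : ℤ) : Fr A (Bm M i) →ₗ[A] M.X i := (Bm M i).subtype ∘ₗ Fr.ε A (Bm M i)

/-- a lift of the boundaries -/
noncomputable def lam (i : ℤ) : Fr A (Bm M (i + 1)) →ₗ[A] M.X i :=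
  Finsupp.linearCombination A
    (fun b => Classical.choose ((mem_Bm_iff M i (i + 1) rfl b.1.1).1 b.1.2))

lemma d_lam (i : ℤ) (x : Fr A (Bm M (i + 1))) : M.d i (i + 1) (lam M i x) = εB M (i + 1) x := by
  suffices H : (M.d i (i + 1)).hom ∘ₗ lam M i = εB M (i + 1) from LinearMap.congr_fun H x
  apply Finsupp.lhom_ext'
  intro b
  ext
  simp only [LinearMap.comp_apply, Finsupp.lsingle_apply]
  unfold lam εB Fr.ε
  rw [Finsupp.linearCombination_single, one_smul, LinearMap.comp_apply,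
    Finsupp.linearCombination_single, one_smul]
  exact Classical.choose_spec ((mem_Bm_iff M i (i + 1) rfl b.1.1).1 b.1.2)

lemma d_εZ (i : ℤ) (s : Fr A (Zm M i)) : M.d i (i + 1) (εZ M i s) = 0 :=
  (Fr.ε A (Zm M i) s).2

lemma d_εB (i : ℤ) (y : Fr A (Bm M i)) : M.d i (i + 1) (εB M i y) = 0 := by
  obtain ⟨v, hv⟩ := (Fr.ε A (Bm M i) y).2
  change M.d i (i + 1) ((Fr.ε A (Bm M i) y : M.X i)) = 0
  rw [← hv]
  exact ConcreteCategory.congr_hom (M.d_comp_d (i - 1) i (i + 1)) v

/-- the terms of `P` -/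
noncomputable def PX (i : ℤ) : ModuleCat.{u} A :=
  ModuleCat.of A (Fr A (Zm M i) × Fr A (Bm M (i + 1)) × Fr A (Bm M i))

/-- the differential of `P` -/
noncomputable def Pd (i : ℤ) : PX M i ⟶ PX M (i + 1) :=
  ModuleCat.ofHom (LinearMap.inr A _ _ ∘ₗ LinearMap.inr A _ _ ∘ₗ LinearMap.fst A _ _ ∘ₗ
    LinearMap.snd A _ _)

lemma Pd_apply (i : ℤ) (p : Fr A (Zm M i) × Fr A (Bm M (i + 1)) × Fr A (Bm M i)) :
    (Pd M i).hom p = (0, 0, p.2.1) := rfl

/-- the complex `P` -/
noncomputable def Pc : DRing.Cx A :=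
  CochainComplex.of (PX M) (Pd M) (fun i => by
    ext p : 2
    rfl)

lemma Pc_d (i : ℤ) : (Pc M).d i (i + 1) = Pd M i := CochainComplex.of_d _ _ i

/-- the components of the map `P ⟶ M` -/
noncomputable def gf (i : ℤ) : PX M i ⟶ M.X i :=
  ModuleCat.ofHom ((εZ M i).coprod ((lam M i).coprod (εB M i)))

lemma gf_apply (i : ℤ) (p : Fr A (Zm M i) × Fr A (Bm M (i + 1)) × Fr A (Bm M i)) :
    (gf M i).hom p = εZ M i p.1 + (lam M i p.2.1 + εB M i p.2.2) := rfl

/-- the map `P ⟶ M` -/
noncomputable def gP : Pc M ⟶ M :=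
  CochainComplex.ofHom (fun i => gf M i) (fun i => by
    rw [Pc_d]
    ext p : 2
    change M.d i (i + 1) ((gf M i).hom p) = (gf M (i + 1)).hom ((Pd M i).hom p)
    rw [gf_apply, gf_apply, Pd_apply, map_add, map_add, d_εZ, d_lam, d_εB]
    simp)

lemma gP_f (i : ℤ) : (gP M).f i = gf M i := rfl

lemma gf_surjective (i : ℤ) : Function.Surjective (gf M i).hom := by
  intro m
  have hb : M.d i (i + 1) m ∈ Bm M (i + 1) := (mem_Bm_iff M i (i + 1) rfl _).2 ⟨m, rfl⟩
  obtain ⟨x, hx⟩ := Fr.ε_surjective A (Bm M (i + 1)) ⟨_, hb⟩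
  have hz : m - lam M i x ∈ Zm M i := by
    change M.d i (i + 1) (m - lam M i x) = 0
    rw [map_sub, d_lam]
    unfold εB
    rw [LinearMap.comp_apply, hx]
    exact sub_self _
  obtain ⟨s, hs⟩ := Fr.ε_surjective A (Zm M i) ⟨_, hz⟩
  refine ⟨(s, x, 0), ?_⟩
  rw [gf_apply]
  unfold εZ
  rw [LinearMap.comp_apply, hs]
  simp

instance (i : ℤ) : Module.Free A (PX M i) := by
  unfold PX
  infer_instance

lemma Pc_isZero (i : ℤ) (h : IsZero (M.X i)) (h' : IsZero (M.X (i + 1))) : IsZero ((Pc M).X i) := by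
  haveI : Subsingleton (M.X i) := ModuleCat.subsingleton_of_isZero h
  haveI : Subsingleton (M.X (i + 1)) := ModuleCat.subsingleton_of_isZero h'
  have hs : Subsingleton (Fr A (Zm M i) × Fr A (Bm M (i + 1)) × Fr A (Bm M i)) := inferInstance
  exact @ModuleCat.isZero_of_subsingleton _ _ (PX M i) hs

/-- the complex `S` with zero differential -/
noncomputable def Sc : DRing.Cx A :=
  CochainComplex.of (fun i => ModuleCat.of A (Fr A (Zm M i))) (fun _ => 0) (fun _ => by simp)

lemma Sc_d (j j' : ℤ) : (Sc M).d j j' = 0 := by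
  by_cases h : j + 1 = j'
  · subst h
    exact CochainComplex.of_d (fun i => ModuleCat.of A (Fr A (Zm M i))) (fun _ => 0) j
  · exact (Sc M).shape _ _ h

instance (j : ℤ) : Module.Free A ((Sc M).X j) := by
  change Module.Free A (Fr A (Zm M j))
  infer_instance

/-- the inclusion `S ⟶ P` -/
noncomputable def inlP : Sc M ⟶ Pc M :=
  CochainComplex.ofHom (fun i => ModuleCat.ofHom (LinearMap.inl A _ _)) (fun i => by
    rw [Pc_d, Sc_d, zero_comp]
    ext p : 2
    rfl)

lemma inlP_f_apply (i : ℤ) (s : Fr A (Zm M i)) : (inlP M).f i s = (s, 0, 0) := rfl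


lemma homologyMap_gP_surjective (i : ℤ) :
    Function.Surjective (HomologicalComplex.homologyMap (gP M) i) := by
  intro y
  obtain ⟨z, rfl⟩ := homologyπ_surjective M i y
  have hz : M.iCycles i z ∈ Zm M i := d_iCycles M i (i + 1) z
  obtain ⟨s, hs⟩ := Fr.ε_surjective A (Zm M i) ⟨_, hz⟩
  obtain ⟨zP, hzP⟩ := exists_cycle (Pc M) i (i + 1) rfl
    ((s, 0, 0) : Fr A (Zm M i) × Fr A (Bm M (i + 1)) × Fr A (Bm M i)) (by rw [Pc_d]; rfl)
  refine ⟨(Pc M).homologyπ i zP, ?_⟩
  rw [homologyMap_homologyπ]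
  congr 1
  apply iCycles_injective
  rw [iCycles_cyclesMap, hzP, gP_f]
  change (gf M i).hom (s, 0, 0) = _
  rw [gf_apply]
  unfold εZ
  rw [LinearMap.comp_apply, hs]
  simp

lemma Pc_d_fst (j i : ℤ) (v : (Pc M).X j) :
    (((Pc M).d j i v : (Pc M).X i) :
      Fr A (Zm M i) × Fr A (Bm M (i + 1)) × Fr A (Bm M i)).1 = 0 := by
  by_cases h : j + 1 = i
  · subst h
    rw [Pc_d]
    rfl
  · rw [(Pc M).shape _ _ h]
    rfl

lemma Pc_exists_d (j i : ℤ) (h : j + 1 = i) (y : Fr A (Bm M i)) :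
    ∃ v : (Pc M).X j, (Pc M).d j i v =
      ((0, 0, y) : Fr A (Zm M i) × Fr A (Bm M (i + 1)) × Fr A (Bm M i)) := by
  subst h
  refine ⟨((0, y, 0) : Fr A (Zm M j) × Fr A (Bm M (j + 1)) × Fr A (Bm M j)), ?_⟩
  rw [Pc_d]
  rfl

instance quasiIso_inlP : QuasiIso (inlP M) := by
  refine ⟨fun i => ?_⟩
  rw [quasiIsoAt_iff_isIso_homologyMap]
  apply (ConcreteCategory.isIso_iff_bijective _).2
  constructor
  · rw [injective_iff_map_eq_zero]
    intro y hy
    obtain ⟨z, rfl⟩ := homologyπ_surjective (Sc M) i y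
    rw [homologyMap_homologyπ] at hy
    obtain ⟨v, hv⟩ := (homologyπ_eq_zero_iff (Pc M) (i - 1) i (by omega) _).1 hy
    rw [iCycles_cyclesMap] at hv
    have h1 := Pc_d_fst M (i - 1) i v
    rw [hv] at h1
    have h2 : (Sc M).iCycles i z = 0 := h1
    have h3 : z = 0 := by
      apply iCycles_injective
      rw [h2, map_zero]
    rw [h3, map_zero]
  · intro y
    obtain ⟨zP, rfl⟩ := homologyπ_surjective (Pc M) i y
    obtain ⟨⟨s, x, y'⟩, hp⟩ : ∃ p : Fr A (Zm M i) × Fr A (Bm M (i + 1)) × Fr A (Bm M i),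
      (Pc M).iCycles i zP = p := ⟨_, rfl⟩
    have hx : x = 0 := by
      have h1 := d_iCycles (Pc M) i (i + 1) zP
      rw [hp, Pc_d] at h1
      have h2 : (Pd M i).hom (s, x, y') = 0 := h1
      rw [Pd_apply] at h2
      exact (Prod.ext_iff.1 (Prod.ext_iff.1 h2).2).2
    subst hx
    obtain ⟨zS, hzS⟩ := (iCycles_bijective_of_zero (Sc M) (Sc_d M) i).2 s
    refine ⟨(Sc M).homologyπ i zS, ?_⟩
    rw [homologyMap_homologyπ, ← sub_eq_zero, ← map_sub]
    obtain ⟨v, hv⟩ := Pc_exists_d M (i - 1) i (by omega) (-y')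
    refine (homologyπ_eq_zero_iff (Pc M) (i - 1) i (by omega) _).2 ⟨v, ?_⟩
    rw [hv, map_sub, iCycles_cyclesMap, hp, hzS]
    have key : ((0, 0, -y') : Fr A (Zm M i) × Fr A (Bm M (i + 1)) × Fr A (Bm M i)) =
        ((s, 0, 0) : Fr A (Zm M i) × Fr A (Bm M (i + 1)) × Fr A (Bm M i)) - (s, 0, y') := by
      simp
    exact key

instance free_homology_Sc (j : ℤ) : Module.Free A ((Sc M).homology j) := by
  let e1 := LinearEquiv.ofBijective ((Sc M).iCycles j).hom
    (iCycles_bijective_of_zero (Sc M) (Sc_d M) j)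
  let e2 := LinearEquiv.ofBijective ((Sc M).homologyπ j).hom
    (homologyπ_bijective_of_zero (Sc M) (Sc_d M) j)
  exact Module.Free.of_equiv (e1.symm.trans e2)

instance free_homology_Pc (j : ℤ) : Module.Free A ((Pc M).homology j) := by
  haveI : IsIso (HomologicalComplex.homologyMap (inlP M) j) := inferInstance
  exact Module.Free.of_equiv (asIso (HomologicalComplex.homologyMap (inlP M) j)).toLinearEquiv

lemma Sc_vanishesAbove (b : ℤ) (hb : DRing.VanishesAbove M b) : DRing.VanishesAbove (Sc M) b := by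
  intro i hi
  haveI : Subsingleton (M.X i) := ModuleCat.subsingleton_of_isZero (hb i hi)
  have hs : Subsingleton (Fr A (Zm M i)) := inferInstance
  exact @ModuleCat.isZero_of_subsingleton _ _ (ModuleCat.of A (Fr A (Zm M i))) hs

lemma Pc_vanishesAbove (b : ℤ) (hb : DRing.VanishesAbove M b) : DRing.VanishesAbove (Pc M) b :=
  fun i hi => Pc_isZero M i (hb i hi) (hb (i + 1) (by omega))

lemma lTensor_bijective {X Y Z : Type*} [AddCommGroup X] [Module A X] [AddCommGroup Y] [Module A Y]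
    [AddCommGroup Z] [Module A Z] (f : Y →ₗ[A] Z) (hf : Function.Bijective f) :
    Function.Bijective (f.lTensor X) :=
  (LinearEquiv.lTensor X (LinearEquiv.ofBijective f hf)).bijective

theorem ksMap_bijective (L : DRing.Cx A) {M M' : DRing.Cx A} (φ : M ⟶ M') [QuasiIso φ] (n : ℤ) :
    Function.Bijective (ksMap L φ n) := by
  have hb : ∀ ij : HTor.Antidiag n, Function.Bijective
      (LinearMap.lTensor (L.homology ij.1.1) (HomologicalComplex.homologyMap φ ij.1.2).hom) := by
    intro ij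
    apply lTensor_bijective
    exact (ConcreteCategory.isIso_iff_bijective _).1 inferInstance
  unfold ksMap
  exact ⟨(DirectSum.lmap_injective _).2 (fun ij => (hb ij).1),
    (DirectSum.lmap_surjective _).2 (fun ij => (hb ij).2)⟩

theorem kunnethMap_bijective_Pc (L : DRing.Cx A) (hL : DRing.TermwiseFlat L)
    (bL : ∃ b : ℤ, DRing.VanishesAbove L b) (n : ℤ) :
    Function.Bijective (kunnethMap L (Pc M) n) := by
  obtain ⟨b, hb⟩ := bL
  have hK := Groth.Agent.Lib.helper13.KFlat.isKFlatR_of_bounded_above L b hb hL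
  haveI : QuasiIso (HomologicalComplex.tensorHom (𝟙 L) (inlP M)) :=
    Groth.Agent.Lib.helper13.KFlat.quasiIso_mapBifunctorMap_right
      (MonoidalCategory.curriedTensor (ModuleCat.{u} A)) L
      (fun K hK' => Groth.Agent.Lib.helper13.KFlat.isKFlatR_symm L hK K hK') (inlP M)
  have h1 : Function.Bijective
      (HomologicalComplex.homologyMap (HomologicalComplex.tensorHom (𝟙 L) (inlP M)) n) :=
    (ConcreteCategory.isIso_iff_bijective _).1 inferInstance
  have h2 := kunnethMap_bijective_of_zero L (Sc M) (Sc_d M)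
    (fun j => inferInstance) n
  have h3 := ksMap_bijective L (inlP M) n
  have h4 : (HomologicalComplex.homologyMap (HomologicalComplex.tensorHom (𝟙 L) (inlP M)) n) ∘
      (kunnethMap L (Sc M) n) = (kunnethMap L (Pc M) n) ∘ (ksMap L (inlP M) n) := by
    funext x
    exact kunneth_natural L (inlP M) n _ (isKunnethMap_kunnethMap L (Sc M) n) _
      (isKunnethMap_kunnethMap L (Pc M) n) x
  have h5 : Function.Bijective ((kunnethMap L (Pc M) n) ∘ (ksMap L (inlP M) n)) := by
    rw [← h4]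
    exact h1.comp h2
  exact (Function.Bijective.of_comp_iff _ h3).1 h5

end Groth.Agent.Lib.helper27.Kun
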