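import Mathlib
import Groth.Prelude.Def_HTor

/-!
helper27: algebra of subquotients and filtrations for the Künneth spectral sequence.
-/

set_option autoImplicit false

namespace Groth.Agent.Lib.helper27.Kun

universe u v

variable {R : Type v} [CommRing R]

section subq

variable {N N' T T' H : Type u} [AddCommGroup N] [Module R N] [AddCommGroup N'] [Module R N']
  [AddCommGroup T] [Module R T] [AddCommGroup T'] [Module R T'] [AddCommGroup H] [Module R H]

/-- a module embedding in `H` with image contained in the image of `T` is a subquotient of `T` -/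
theorem isSubquotient_of_maps (j : N →ₗ[R] H) (hj : Function.Injective j) (ψ : T →ₗ[R] H)
    (h : LinearMap.range j ≤ LinearMap.range ψ) : HTor.IsSubquotient R N T := by
  let S' : Submodule R T := Submodule.comap ψ (LinearMap.range j)
  let S : Submodule R T := LinearMap.ker ψ
  have hle : S ≤ S' := by
    intro t ht
    change ψ t ∈ LinearMap.range j
    rw [LinearMap.mem_ker.1 ht]
    exact zero_mem _
  let e : N ≃ₗ[R] LinearMap.range j := LinearEquiv.ofInjective j hj
  let g : S' →ₗ[R] N := e.symm.toLinearMap ∘ₗ
    (ψ.restrict (p := S') (q := LinearMap.range j) (fun t ht => ht))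
  have hg : Function.Surjective g := by
    intro x
    obtain ⟨t, ht⟩ := h ⟨x, rfl⟩
    refine ⟨⟨t, ?_⟩, ?_⟩
    · change ψ t ∈ LinearMap.range j
      rw [ht]
      exact ⟨x, rfl⟩
    · change e.symm _ = x
      rw [LinearEquiv.symm_apply_eq]
      apply Subtype.ext
      exact ht
  have hker : LinearMap.ker g = Submodule.comap S'.subtype S := by
    ext ⟨t, ht⟩
    rw [LinearMap.mem_ker, Submodule.mem_comap]
    change e.symm _ = 0 ↔ ψ t = 0
    rw [LinearEquiv.symm_apply_eq, map_zero]
    constructor
    · intro h0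
      exact congrArg Subtype.val h0
    · intro h0
      apply Subtype.ext
      exact h0
  refine ⟨S, S', hle, ⟨?_⟩⟩
  exact ((Submodule.quotEquivOfEq _ _ hker.symm).trans
    (LinearMap.quotKerEquivOfSurjective g hg)).symm

/-- a submodule of a subquotient is a subquotient -/
theorem isSubquotient_of_injective (i : N' →ₗ[R] N) (hi : Function.Injective i)
    (h : HTor.IsSubquotient R N T) : HTor.IsSubquotient R N' T := by
  obtain ⟨S, S', hle, ⟨φ⟩⟩ := h
  -- the injection `S'/S → T/S`
  let k : (↥S' ⧸ Submodule.comap S'.subtype S) →ₗ[R] (T ⧸ S) :=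
    Submodule.mapQ _ _ S'.subtype le_rfl
  have hk : Function.Injective k := by
    rw [injective_iff_map_eq_zero]
    intro x
    induction x using Submodule.Quotient.induction_on with
    | H x =>
      intro hx
      rw [Submodule.mapQ_apply, Submodule.Quotient.mk_eq_zero] at hx
      rw [Submodule.Quotient.mk_eq_zero]
      exact hx
  refine isSubquotient_of_maps (k ∘ₗ φ.toLinearMap ∘ₗ i) ?_ S.mkQ ?_
  · exact hk.comp (φ.injective.comp hi)
  · rw [Submodule.range_mkQ]
    exact le_top

/-- a module is a subquotient of itself -/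
theorem isSubquotient_of_surjective (ψ : T →ₗ[R] N) (hψ : Function.Surjective ψ) :
    HTor.IsSubquotient R N T :=
  isSubquotient_of_maps LinearMap.id (fun _ _ h => h) ψ (by
    rw [LinearMap.range_eq_top.2 hψ]
    exact le_top)

theorem isSubquotient_of_subsingleton [Subsingleton N] : HTor.IsSubquotient R N T :=
  isSubquotient_of_maps (0 : N →ₗ[R] T) (fun _ _ _ => Subsingleton.elim _ _) LinearMap.id (by
    rw [LinearMap.range_id]
    exact le_top)

theorem isSubquotient_congr_right (e : T ≃ₗ[R] T') (h : HTor.IsSubquotient R N T) :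
    HTor.IsSubquotient R N T' := by
  obtain ⟨S, S', hle, ⟨φ⟩⟩ := h
  let k : (↥S' ⧸ Submodule.comap S'.subtype S) →ₗ[R] (T ⧸ S) :=
    Submodule.mapQ _ _ S'.subtype le_rfl
  have hk : Function.Injective k := by
    rw [injective_iff_map_eq_zero]
    intro x
    induction x using Submodule.Quotient.induction_on with
    | H x =>
      intro hx
      rw [Submodule.mapQ_apply, Submodule.Quotient.mk_eq_zero] at hx
      rw [Submodule.Quotient.mk_eq_zero]
      exact hx
  refine isSubquotient_of_maps (k ∘ₗ φ.toLinearMap) (hk.comp φ.injective)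
    (S.mkQ ∘ₗ e.symm.toLinearMap) ?_
  have : LinearMap.range (S.mkQ ∘ₗ e.symm.toLinearMap) = ⊤ :=
    LinearMap.range_eq_top.2 ((Submodule.mkQ_surjective S).comp e.symm.surjective)
  rw [this]
  exact le_top

end subq

section filt

variable {H H' : Type u} [AddCommGroup H] [Module R H] [AddCommGroup H'] [Module R H']
  (δ : H →ₗ[R] H')

/-- the map on successive quotients induced on preimages -/
noncomputable def comapGr (G₁ G₂ : Submodule R H') :
    (↥(G₂.comap δ) ⧸ Submodule.comap (G₂.comap δ).subtype (G₁.comap δ)) →ₗ[R]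
      (↥G₂ ⧸ Submodule.comap G₂.subtype G₁) :=
  Submodule.mapQ _ _ (δ.restrict (p := G₂.comap δ) (q := G₂) (fun _ hx => hx))
    (fun _ hx => hx)

lemma comapGr_injective (G₁ G₂ : Submodule R H') : Function.Injective (comapGr δ G₁ G₂) := by
  rw [injective_iff_map_eq_zero]
  intro x
  induction x using Submodule.Quotient.induction_on with
  | H x =>
    intro hx
    unfold comapGr at hx
    rw [Submodule.mapQ_apply, Submodule.Quotient.mk_eq_zero] at hx
    rw [Submodule.Quotient.mk_eq_zero]
    exact hx

/-- the shifted filtration -/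
def shiftF (F0 : Submodule R H) (F' : ℕ → Submodule R H') : ℕ → Submodule R H
  | 0 => F0
  | (p + 1) => (F' p).comap δ

lemma shiftF_monotone (F0 : Submodule R H) (F' : ℕ → Submodule R H') (h0 : F0 = LinearMap.ker δ)
    (hF' : Monotone F') : Monotone (shiftF δ F0 F') := by
  apply monotone_nat_of_le_succ
  intro p
  cases p with
  | zero =>
    intro x hx
    change δ x ∈ F' 0
    rw [h0] at hx
    rw [LinearMap.mem_ker.1 hx]
    exact zero_mem _
  | succ p => exact Submodule.comap_mono (hF' (Nat.le_succ p))

lemma shiftF_top (F0 : Submodule R H) (F' : ℕ → Submodule R H') (N : ℕ) (h : F' N = ⊤) :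
    shiftF δ F0 F' (N + 1) = ⊤ := by
  change (F' N).comap δ = ⊤
  rw [h, Submodule.comap_top]

/-- the higher graded pieces embed -/
theorem grSucc_shiftF_succ (F0 : Submodule R H) (F' : ℕ → Submodule R H') (p : ℕ) {T : Type u}
    [AddCommGroup T] [Module R T] (h : HTor.IsSubquotient R (HTor.grSucc F' p) T) :
    HTor.IsSubquotient R (HTor.grSucc (shiftF δ F0 F') (p + 1)) T :=
  isSubquotient_of_injective (comapGr δ (F' p) (F' (p + 1))) (comapGr_injective δ _ _) h

/-- the first graded piece -/
theorem grSucc_shiftF_zero (F0 : Submodule R H) (F' : ℕ → Submodule R H')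
    (h0 : F0 = LinearMap.ker δ) {T : Type u} [AddCommGroup T] [Module R T] (ψ : T →ₗ[R] H')
    (hψ : ∀ x : H, δ x ∈ F' 0 → δ x ∈ LinearMap.range ψ) :
    HTor.IsSubquotient R (HTor.grSucc (shiftF δ F0 F') 0) T := by
  let j : HTor.grSucc (shiftF δ F0 F') 0 →ₗ[R] H' :=
    Submodule.liftQ _ (δ ∘ₗ (shiftF δ F0 F' 1).subtype) (by
      intro x hx
      rw [Submodule.mem_comap] at hx
      change x.1 ∈ F0 at hx
      rw [h0] at hx
      exact hx)
  have hj : Function.Injective j := by
    rw [← LinearMap.ker_eq_bot]
    apply Submodule.ker_liftQ_eq_bot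
    intro x hx
    rw [Submodule.mem_comap]
    change x.1 ∈ F0
    rw [h0]
    exact hx
  refine isSubquotient_of_maps j hj ψ ?_
  rintro _ ⟨x, rfl⟩
  induction x using Submodule.Quotient.induction_on with
  | H x =>
    change δ x.1 ∈ LinearMap.range ψ
    exact hψ x.1 x.2

end filt

section dsum

variable {I I' : Type} [DecidableEq I] [DecidableEq I'] {X : I → Type u} {Y : I' → Type u}
  [∀ i, AddCommGroup (X i)] [∀ i, Module R (X i)] [∀ i, AddCommGroup (Y i)] [∀ i, Module R (Y i)]

/-- reindexing a direct sum along an equivalence of index types and equivalences of the summands -/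
noncomputable def dsCongr (e : I ≃ I') (f : ∀ i, X i ≃ₗ[R] Y (e i)) :
    DirectSum I X ≃ₗ[R] DirectSum I' Y :=
  (DFinsupp.mapRange.linearEquiv f).trans (DirectSum.lequivCongrLeft R (M := Y) e.symm).symm

end dsum

end Groth.Agent.Lib.helper27.Kun
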