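import Mathlib
import Groth.Prelude.Def_HTor
import Groth.Agent.Lib.Helper27.Kun4
import Groth.Agent.Lib.Helper27.Kun5
import Groth.Agent.Lib.Helper13.KFlat3
import Groth.Agent.Lib.Helper7.TorAPI4

/-!
helper27: the short exact sequence `0 → Ω → P → M → 0` and what it gives for the Künneth map.
-/

set_option autoImplicit false
set_option linter.style.haveILetI false

namespace Groth.Agent.Lib.helper27.Kun

universe u
open CategoryTheory Limits HomologicalComplex MonoidalCategory
open Groth.Agent.Lib.helper13.KFlat
open Groth.Agent.Lib.helper7.TorAPI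

variable {A : Type u} [CommRing A] (M : DRing.Cx A)

instance epi_gP : Epi (gP M) :=
  HomologicalComplex.epi_of_epi_f _
    (fun i => (ModuleCat.epi_iff_surjective _).2 (gf_surjective M i))

/-- the short exact sequence `0 → Ω → P → M → 0` -/
noncomputable def Sq : ShortComplex (DRing.Cx A) :=
  ShortComplex.mk (kernel.ι (gP M)) (gP M) (kernel.condition _)

lemma Sq_shortExact : (Sq M).ShortExact where
  exact := ShortComplex.exact_of_f_is_kernel _ (kernelIsKernel _)
  mono_f := by
    change Mono (kernel.ι (gP M))
    infer_instance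
  epi_g := epi_gP M

/-- the kernel `Ω` -/
noncomputable abbrev Om : DRing.Cx A := (Sq M).X₁

/-- `Ω → P` -/
noncomputable abbrev fOm : Om M ⟶ Pc M := (Sq M).f

lemma Om_vanishesAbove (b : ℤ) (hb : DRing.VanishesAbove M b) : DRing.VanishesAbove (Om M) b := by
  intro i hi
  have h : Mono (((Sq M).map (eval (ModuleCat.{u} A) (ComplexShape.up ℤ) i)).f) :=
    ((Sq_shortExact M).map_of_exact (eval (ModuleCat.{u} A) (ComplexShape.up ℤ) i)).mono_f
  exact @IsZero.of_mono _ _ _ _ _ (((Sq M).map (eval (ModuleCat.{u} A) (ComplexShape.up ℤ) i)).f) h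
    (Pc_vanishesAbove M b hb i hi)

/-- the short exact sequences in cohomology -/
noncomputable def HS (j : ℤ) : ShortComplex (ModuleCat.{u} A) :=
  ShortComplex.mk (HomologicalComplex.homologyMap (Sq M).f j)
    (HomologicalComplex.homologyMap (Sq M).g j)
    (by rw [← HomologicalComplex.homologyMap_comp, (Sq M).zero, HomologicalComplex.homologyMap_zero])

lemma HS_shortExact (j : ℤ) : (HS M j).ShortExact := by
  have hS := Sq_shortExact M
  have hepi : ∀ k : ℤ, Epi (HomologicalComplex.homologyMap (Sq M).g k) := fun k =>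
    (ModuleCat.epi_iff_surjective _).2 (homologyMap_gP_surjective M k)
  have hδ : hS.δ (j - 1) j (by simp) = 0 := by
    haveI := hepi (j - 1)
    rw [← cancel_epi (HomologicalComplex.homologyMap (Sq M).g (j - 1)), hS.comp_δ, comp_zero]
  exact
    { exact := hS.homology_exact₂ j
      mono_f := ((hS.homology_exact₁ (j - 1) j (by simp)).mono_g_iff).2 hδ
      epi_g := hepi j }

instance projective_HS (j : ℤ) : Projective (HS M j).X₂ := by
  change Projective ((Pc M).homology j)
  infer_instance

/-- `X ⊗ -` applied to a short exact sequence is short exact for flat `X` -/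
theorem shortExact_map_tensorLeft_flat (S : ShortComplex (ModuleCat.{u} A)) (hS : S.ShortExact)
    (X : ModuleCat.{u} A) [Module.Flat A X] :
    (S.map ((curriedTensor (ModuleCat.{u} A)).obj X)).ShortExact := by
  have hex : Function.Exact S.f.hom S.g.hom :=
    (ShortComplex.ShortExact.moduleCat_exact_iff_function_exact S).1 hS.exact
  have hinj : Function.Injective S.f.hom := (ModuleCat.mono_iff_injective S.f).1 hS.mono_f
  have hsurj : Function.Surjective S.g.hom := (ModuleCat.epi_iff_surjective S.g).1 hS.epi_g
  have h1 : Function.Exact (LinearMap.lTensor X S.f.hom) (LinearMap.lTensor X S.g.hom) :=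
    lTensor_exact X hex hsurj
  have h2 : Function.Injective (LinearMap.lTensor X S.f.hom) :=
    Module.Flat.lTensor_preserves_injective_linearMap S.f.hom hinj
  have h3 : Function.Surjective (LinearMap.lTensor X S.g.hom) :=
    LinearMap.lTensor_surjective X hsurj
  haveI : Mono (S.map ((curriedTensor (ModuleCat.{u} A)).obj X)).f :=
    (ModuleCat.mono_iff_injective _).2 h2
  haveI : Epi (S.map ((curriedTensor (ModuleCat.{u} A)).obj X)).g :=
    (ModuleCat.epi_iff_surjective _).2 h3
  exact { exact := (ShortComplex.ShortExact.moduleCat_exact_iff_function_exact _).2 h1 }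

variable (L : DRing.Cx A)

lemma tensor_shortExact (hL : DRing.TermwiseFlat L) :
    ((Sq M).map (Φ (curriedTensor (ModuleCat.{u} A)) L)).ShortExact := by
  refine shortExact_map_Φ (Sq M) (fun p q => ?_) (fun n => monoCoprod_moduleCat A _)
  have hq : ((Sq M).map (eval _ _ q)).ShortExact := (Sq_shortExact M).map_of_exact (eval _ _ q)
  haveI := hL p
  exact shortExact_map_tensorLeft_flat _ hq (L.X p)

/-- the connecting map and its exactness properties -/
theorem exists_delta (hL : DRing.TermwiseFlat L) (n : ℤ) :
    ∃ δ : (HTor.tensorCx L M).homology n →ₗ[A] (HTor.tensorCx L (Om M)).homology (n + 1),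
      (∀ y, δ y = 0 → ∃ x, HomologicalComplex.homologyMap
        (HomologicalComplex.tensorHom (𝟙 L) (gP M)) n x = y) ∧
      (∀ x, δ (HomologicalComplex.homologyMap
        (HomologicalComplex.tensorHom (𝟙 L) (gP M)) n x) = 0) ∧
      (∀ y, HomologicalComplex.homologyMap
        (HomologicalComplex.tensorHom (𝟙 L) (fOm M)) (n + 1) (δ y) = 0) := by
  have hT := tensor_shortExact M L hL
  refine ⟨(hT.δ n (n + 1) rfl).hom, ?_, ?_, ?_⟩
  · intro y hy
    have h := (ShortComplex.moduleCat_exact_iff _).1 (hT.homology_exact₃ n (n + 1) rfl) y hy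
    exact h
  · intro x
    exact ConcreteCategory.congr_hom (hT.comp_δ n (n + 1) rfl) x
  · intro y
    exact ConcreteCategory.congr_hom (hT.δ_comp n (n + 1) rfl) y

end Groth.Agent.Lib.helper27.Kun
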