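import Mathlib
import Groth.Prelude.Def_HTor
import Groth.Agent.Lib.Helper27.Kun6

/-!
helper27: the Künneth filtration, by dimension shifting in the second variable.
-/

set_option autoImplicit false
set_option linter.style.haveILetI false

namespace Groth.Agent.Lib.helper27.Kun

universe u
open CategoryTheory Limits HomologicalComplex MonoidalCategory
open Groth.Agent.Lib.helper13.KFlat
open Groth.Agent.Lib.helper7.TorAPI

variable {A : Type u} [CommRing A] (L M : DRing.Cx A)

lemma ksMap_gP_surjective (n : ℤ) : Function.Surjective (ksMap L (gP M) n) := by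
  unfold ksMap
  rw [DirectSum.lmap_surjective]
  intro ij
  exact LinearMap.lTensor_surjective _ (homologyMap_gP_surjective M ij.1.2)

lemma ksMap_gP_fOm (n : ℤ) (t : HTor.KunnethSum L (Om M) n) :
    ksMap L (gP M) n (ksMap L (fOm M) n t) = 0 := by
  apply DirectSum.ext_component (R := A)
  intro ij
  rw [map_zero, ← DirectSum.apply_eq_component]
  unfold ksMap
  rw [DirectSum.lmap_apply, DirectSum.lmap_apply, ← LinearMap.comp_apply, ← LinearMap.lTensor_comp]
  have h0 : (HomologicalComplex.homologyMap (gP M) ij.1.2).hom ∘ₗ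
      (HomologicalComplex.homologyMap (fOm M) ij.1.2).hom = 0 := by
    have := (HS M ij.1.2).zero
    exact congrArg ModuleCat.Hom.hom this
  rw [h0, LinearMap.lTensor_zero, LinearMap.zero_apply]

variable (hL : DRing.TermwiseFlat L) (bL : ∃ b : ℤ, DRing.VanishesAbove L b)

include hL bL in
theorem range_kunnethMap (n : ℤ) {H' : Type u} [AddCommGroup H'] [Module A H']
    (δ : (HTor.tensorCx L M).homology n →ₗ[A] H')
    (h1 : ∀ y, δ y = 0 → ∃ x, HomologicalComplex.homologyMap
        (HomologicalComplex.tensorHom (𝟙 L) (gP M)) n x = y)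
    (h2 : ∀ x, δ (HomologicalComplex.homologyMap
        (HomologicalComplex.tensorHom (𝟙 L) (gP M)) n x) = 0) :
    LinearMap.range (kunnethMap L M n) = LinearMap.ker δ := by
  have nat := kunneth_natural L (gP M) n _ (isKunnethMap_kunnethMap L (Pc M) n) _
    (isKunnethMap_kunnethMap L M n)
  apply le_antisymm
  · rintro _ ⟨x, rfl⟩
    obtain ⟨x', rfl⟩ := ksMap_gP_surjective L M n x
    rw [LinearMap.mem_ker, ← nat, h2]
  · intro y hy
    obtain ⟨x, rfl⟩ := h1 y hy
    obtain ⟨x', rfl⟩ := (kunnethMap_bijective_Pc M L hL bL n).2 x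
    exact ⟨_, (nat x').symm⟩

theorem exists_tor_one (i j : ℤ) :
    ∃ d : ((T 1 (L.homology i)).obj (M.homology j)) →ₗ[A]
        (TensorProduct A (L.homology i) ((Om M).homology j)),
      Function.Injective d ∧ LinearMap.range d = LinearMap.ker
        (LinearMap.lTensor (L.homology i) (HomologicalComplex.homologyMap (fOm M) j).hom) :=
  exists_linearMap_tor_one (L.homology i) (HS_shortExact M j)
    (isZero_T_projective (L.homology i) (HS M j).X₂ 0)

include hL bL in
theorem exists_psi (n : ℤ) {H : Type u} [AddCommGroup H] [Module A H]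
    (δ : H →ₗ[A] (HTor.tensorCx L (Om M)).homology (n + 1))
    (h3 : ∀ y, HomologicalComplex.homologyMap
        (HomologicalComplex.tensorHom (𝟙 L) (fOm M)) (n + 1) (δ y) = 0) :
    ∃ ψ : HTor.TorSum L M n 1 →ₗ[A] (HTor.tensorCx L (Om M)).homology (n + 1),
      ∀ y, δ y ∈ LinearMap.range (kunnethMap L (Om M) (n + 1)) → δ y ∈ LinearMap.range ψ := by
  choose d _ hdrange using (fun (ij : HTor.Antidiag (n + 1)) => exists_tor_one L M ij.1.1 ij.1.2)
  let e₁ : HTor.TorSum L M n 1 ≃ₗ[A] DirectSum (HTor.Antidiag (n + 1))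
      (fun ij => ((T 1 (L.homology ij.1.1)).obj (M.homology ij.1.2) : ModuleCat.{u} A)) :=
    dsCongr (R := A) (Equiv.subtypeEquivRight (p := fun ij : ℤ × ℤ => ij.1 + ij.2 - ((1 : ℕ) : ℤ) = n)
      (q := fun ij : ℤ × ℤ => ij.1 + ij.2 = n + 1) (fun ij => by push_cast; omega))
      (fun i => LinearEquiv.refl A _)
  refine ⟨kunnethMap L (Om M) (n + 1) ∘ₗ DirectSum.lmap d ∘ₗ e₁.toLinearMap, ?_⟩
  rintro y ⟨t, ht⟩
  have h0 : ksMap L (fOm M) (n + 1) t = 0 := by
    apply (kunnethMap_bijective_Pc M L hL bL (n + 1)).1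
    rw [map_zero, ← kunneth_natural L (fOm M) (n + 1) _ (isKunnethMap_kunnethMap L (Om M) (n + 1)) _
      (isKunnethMap_kunnethMap L (Pc M) (n + 1)) t, ht, h3]
  have key : ∀ ij, ∃ x, d ij x = t ij := by
    intro ij
    have h1 : t ij ∈ LinearMap.ker (LinearMap.lTensor (L.homology ij.1.1)
        (HomologicalComplex.homologyMap (fOm M) ij.1.2).hom) := by
      rw [LinearMap.mem_ker]
      have h2 := DFunLike.congr_fun h0 ij
      unfold ksMap at h2
      rw [DirectSum.lmap_apply] at h2
      exact h2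
    rw [← hdrange ij] at h1
    exact h1
  obtain ⟨t', ht'⟩ := exists_lmap_eq d t key
  refine ⟨e₁.symm t', ?_⟩
  simp only [LinearMap.comp_apply, LinearEquiv.coe_coe, LinearEquiv.apply_symm_apply]
  rw [ht', ht]

theorem torSum_equiv (n : ℤ) (p : ℕ) :
    Nonempty (HTor.TorSum L (Om M) (n + 1) (p + 1) ≃ₗ[A] HTor.TorSum L M n (p + 2)) := by
  refine ⟨dsCongr (R := A)
    (Equiv.subtypeEquivRight (p := fun ij : ℤ × ℤ => ij.1 + ij.2 - ((p + 1 : ℕ) : ℤ) = n + 1)
      (q := fun ij : ℤ × ℤ => ij.1 + ij.2 - ((p + 2 : ℕ) : ℤ) = n) (fun ij => by push_cast; omega))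
    (fun ij => ?_)⟩
  exact (exists_iso_of_isZero (L.homology ij.1.1) (HS_shortExact M ij.1.2) (p + 1)
    (isZero_T_projective (L.homology ij.1.1) (HS M ij.1.2).X₂ (p + 1))
    (isZero_T_projective (L.homology ij.1.1) (HS M ij.1.2).X₂ p)).some.symm.toLinearEquiv

lemma subsingleton_tensor_X (bL' bM' : ℤ) (hbL : DRing.VanishesAbove L bL')
    (hbM : DRing.VanishesAbove M bM') (n : ℤ) (hn : bL' + bM' < n) :
    Subsingleton ((HTor.tensorCx L M).X n) := by
  have h : (⊤ : Submodule A ((HTor.tensorCx L M).X n)) = ⊥ := by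
    rw [← span_tmul L M n, Submodule.span_eq_bot]
    rintro w ⟨i, j, h, x, y, rfl⟩
    by_cases hi : bL' < i
    · haveI : Subsingleton (L.X i) := ModuleCat.subsingleton_of_isZero (hbL i hi)
      rw [Subsingleton.elim x 0, tmul_zero_left]
    · haveI : Subsingleton (M.X j) := ModuleCat.subsingleton_of_isZero (hbM j (by omega))
      rw [Subsingleton.elim y 0, tmul_zero_right]
  refine subsingleton_of_forall_eq 0 (fun w => ?_)
  have hw : w ∈ (⊤ : Submodule A ((HTor.tensorCx L M).X n)) := trivial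
  rw [h] at hw
  exact hw

lemma subsingleton_homology_of_subsingleton (K : DRing.Cx A) (n : ℤ) [Subsingleton (K.X n)] :
    Subsingleton (K.homology n) := by
  refine subsingleton_of_forall_eq 0 (fun y => ?_)
  obtain ⟨z, rfl⟩ := homologyπ_surjective K n y
  have : z = 0 := by
    apply iCycles_injective
    exact Subsingleton.elim _ _
  rw [this, map_zero]

include hL in
theorem main_filtration (bL' : ℤ) (hbL : DRing.VanishesAbove L bL') :
    ∀ (k : ℕ) (M : DRing.Cx A) (bM' : ℤ), DRing.VanishesAbove M bM' → ∀ n : ℤ, bL' + bM' - n < k →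
      ∃ (N : ℕ) (F : ℕ → Submodule A ((HTor.tensorCx L M).homology n)),
        F 0 = LinearMap.range (kunnethMap L M n) ∧ Monotone F ∧ F N = ⊤ ∧
          ∀ p, HTor.IsSubquotient A (HTor.grSucc F p) (HTor.TorSum L M n (p + 1)) := by
  intro k
  induction k with
  | zero =>
    intro M bM' hbM n hn
    haveI := subsingleton_tensor_X L M bL' bM' hbL hbM n (by omega)
    haveI := subsingleton_homology_of_subsingleton (HTor.tensorCx L M) n
    refine ⟨0, fun _ => ⊤, Subsingleton.elim _ _, fun _ _ _ => le_rfl, rfl, fun p => ?_⟩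
    exact isSubquotient_of_subsingleton
  | succ k ih =>
    intro M bM' hbM n hn
    obtain ⟨N', F', hF'0, hF'mono, hF'top, hF'gr⟩ :=
      ih (Om M) bM' (Om_vanishesAbove M bM' hbM) (n + 1) (by push_cast at hn; omega)
    obtain ⟨δ, h1, h2, h3⟩ := exists_delta M L hL n
    have h0 := range_kunnethMap L M hL ⟨bL', hbL⟩ n δ h1 h2
    obtain ⟨ψ, hψ⟩ := exists_psi L M hL ⟨bL', hbL⟩ n δ h3
    refine ⟨N' + 1, shiftF δ (LinearMap.range (kunnethMap L M n)) F', rfl,
      shiftF_monotone δ _ F' h0 hF'mono, shiftF_top δ _ F' N' hF'top, fun p => ?_⟩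
    cases p with
    | zero =>
      refine grSucc_shiftF_zero δ _ F' h0 ψ (fun x hx => ?_)
      rw [hF'0] at hx
      exact hψ x hx
    | succ p =>
      obtain ⟨e⟩ := torSum_equiv L M n p
      exact isSubquotient_congr_right e (grSucc_shiftF_succ δ _ F' p (hF'gr p))

end Groth.Agent.Lib.helper27.Kun
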