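import Mathlib
import Groth.Prelude.Def_HTor
import Groth.Agent.Lib.Helper27.Kun7
import Groth.Agent.Lib.Helper7.TorAPI2

/-!
helper27: consequences of the Künneth filtration: the Künneth formula for flat cohomology and a
vanishing criterion.
-/

set_option autoImplicit false
set_option linter.style.haveILetI false

namespace Groth.Agent.Lib.helper27.Kun

universe u
open CategoryTheory Limits HomologicalComplex MonoidalCategory
open Groth.Agent.Lib.helper13.KFlat
open Groth.Agent.Lib.helper7.TorAPI

variable {A : Type u} [CommRing A]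

lemma subsingleton_dsum {I : Type} [DecidableEq I] (X : I → Type u) [∀ i, AddCommGroup (X i)]
    [∀ i, Module A (X i)] (h : ∀ i, Subsingleton (X i)) : Subsingleton (DirectSum I X) := by
  refine subsingleton_of_forall_eq 0 (fun x => ?_)
  apply DirectSum.ext_component (R := A)
  intro i
  exact (h i).elim _ _

lemma subsingleton_of_isSubquotient {N T : Type u} [AddCommGroup N] [Module A N] [AddCommGroup T]
    [Module A T] [Subsingleton T] (h : HTor.IsSubquotient A N T) : Subsingleton N := by
  obtain ⟨S, S', _, ⟨e⟩⟩ := h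
  exact e.toEquiv.subsingleton

lemma le_of_subsingleton_grSucc {H : Type u} [AddCommGroup H] [Module A H]
    (F : ℕ → Submodule A H) (p : ℕ) [Subsingleton (HTor.grSucc F p)] : F (p + 1) ≤ F p := by
  intro x hx
  have h : (Submodule.Quotient.mk (⟨x, hx⟩ : F (p + 1)) : HTor.grSucc F p) = 0 :=
    Subsingleton.elim _ _
  rw [Submodule.Quotient.mk_eq_zero] at h
  exact h

variable (L M : DRing.Cx A) (hL : DRing.TermwiseFlat L) (bL : ∃ b : ℤ, DRing.VanishesAbove L b)
  (bM : ∃ b : ℤ, DRing.VanishesAbove M b)

include hL bL bM in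
theorem kunnethMap_surjective_of_subsingleton (n : ℤ)
    (hsub : ∀ p : ℕ, Subsingleton (HTor.TorSum L M n (p + 1))) :
    Function.Surjective (kunnethMap L M n) := by
  obtain ⟨bL', hbL⟩ := bL
  obtain ⟨bM', hbM⟩ := bM
  obtain ⟨N, F, h0, hmono, htop, hgr⟩ :=
    main_filtration L hL bL' hbL ((bL' + bM' - n).toNat + 1) M bM' hbM n (by push_cast; omega)
  have hle : ∀ p : ℕ, F p ≤ F 0 := by
    intro p
    induction p with
    | zero => exact le_rfl
    | succ p ih =>
      haveI := hsub p
      haveI := subsingleton_of_isSubquotient (hgr p)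
      exact (le_of_subsingleton_grSucc F p).trans ih
  rw [← LinearMap.range_eq_top, ← h0]
  exact top_le_iff.1 (htop ▸ hle N)

include hL in
/-- exactness in the middle of the cohomology sequence of `L ⊗ (0 → Ω → P → M → 0)` -/
theorem exact_mid (n : ℤ) (x : (HTor.tensorCx L (Pc M)).homology n)
    (hx : HomologicalComplex.homologyMap
      (HomologicalComplex.tensorHom (𝟙 L) (gP M)) n x = 0) :
    ∃ w, HomologicalComplex.homologyMap
      (HomologicalComplex.tensorHom (𝟙 L) (fOm M)) n w = x := by
  have hT := tensor_shortExact M L hL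
  exact (ShortComplex.moduleCat_exact_iff _).1 (hT.homology_exact₂ n) x hx

lemma subsingleton_torSum_of_flat (hH : ∀ i : ℤ, Module.Flat A (L.homology i)) (n : ℤ) (p : ℕ) :
    Subsingleton (HTor.TorSum L M n (p + 1)) := by
  apply subsingleton_dsum (A := A)
  intro ij
  haveI := hH ij.1.1
  exact ModuleCat.subsingleton_of_isZero (isZero_T_flat (L.homology ij.1.1) (M.homology ij.1.2) p)

include hL bL bM in
theorem kunnethMap_bijective_of_flat (hH : ∀ i : ℤ, Module.Flat A (L.homology i)) (n : ℤ) :
    Function.Bijective (kunnethMap L M n) := by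
  refine ⟨?_, kunnethMap_surjective_of_subsingleton L M hL bL bM n
    (subsingleton_torSum_of_flat L M hH n)⟩
  obtain ⟨bM', hbM⟩ := bM
  have hΩ : Function.Surjective (kunnethMap L (Om M) n) :=
    kunnethMap_surjective_of_subsingleton L (Om M) hL bL ⟨bM', Om_vanishesAbove M bM' hbM⟩ n
      (subsingleton_torSum_of_flat L (Om M) hH n)
  have hP := kunnethMap_bijective_Pc M L hL bL n
  have natg := kunneth_natural L (gP M) n _ (isKunnethMap_kunnethMap L (Pc M) n) _
    (isKunnethMap_kunnethMap L M n)
  have natf := kunneth_natural L (fOm M) n _ (isKunnethMap_kunnethMap L (Om M) n) _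
    (isKunnethMap_kunnethMap L (Pc M) n)
  rw [injective_iff_map_eq_zero]
  intro x hx
  obtain ⟨y, rfl⟩ := ksMap_gP_surjective L M n x
  rw [← natg] at hx
  obtain ⟨w, hw⟩ := exact_mid L M hL n _ hx
  obtain ⟨t, rfl⟩ := hΩ w
  rw [natf] at hw
  have hy : y = ksMap L (fOm M) n t := (hP.1 hw).symm
  rw [hy, ksMap_gP_fOm]

include hL bL bM in
theorem isZero_of_tor_subsingleton (n : ℤ)
    (h : ∀ (p : ℕ) (i j : ℤ), i + j - p = n →
      Subsingleton (DRing.Tor A p (L.homology i) (M.homology j))) :
    IsZero ((HTor.tensorCx L M).homology n) := by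
  have hsub : ∀ p : ℕ, Subsingleton (HTor.TorSum L M n (p + 1)) := by
    intro p
    apply subsingleton_dsum (A := A)
    intro ij
    exact h (p + 1) ij.1.1 ij.1.2 ij.2
  have hsurj := kunnethMap_surjective_of_subsingleton L M hL bL bM n hsub
  haveI : Subsingleton (HTor.KunnethSum L M n) := by
    apply subsingleton_dsum (A := A)
    intro ij
    haveI : Subsingleton ((T 0 (L.homology ij.1.1)).obj (M.homology ij.1.2)) :=
      h 0 ij.1.1 ij.1.2 (by have := ij.2; push_cast; omega)
    exact (((tor0Iso (L.homology ij.1.1)).app (M.homology ij.1.2)).toLinearEquiv.symm).toEquiv.subsingleton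
  haveI : Subsingleton ((HTor.tensorCx L M).homology n) := hsurj.subsingleton
  exact ModuleCat.isZero_of_subsingleton _

end Groth.Agent.Lib.helper27.Kun
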