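import Mathlib
import Groth.Prelude.Def_CohBC2
import Groth.Agent.S0030
import Groth.Agent.S11319
import Groth.Agent.Lib.Helper27.HomCmp
import Groth.Agent.Lib.Helper27.RpushVanish
import Groth.Agent.Lib.Helper27.PushComp
import Groth.Agent.Lib.Helper21.ModOpenBC2
import Groth.Agent.Lib.Helper21.InjAcyc5

set_option autoImplicit false
set_option linter.style.haveILetI false
universe u
open AlgebraicGeometry CategoryTheory Limits AlgebraicGeometry.Scheme.Modules

namespace Groth.Agent.Lib.helper27.LerayOut

open Groth.Agent.Lib.helper21.ModOpenBC Groth.Agent.Lib.helper21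

variable {X Y Z : Scheme.{u}} (f : X ⟶ Y) (g : Y ⟶ Z)

/-- quasi-coherent modules are acyclic for the direct image along an affine morphism -/
lemma acyc_of_isQCoh [IsAffineHom g] (N : Y.Modules) [N.IsQuasicoherent] :
    HomCmp.Acyc (pushforward g) N := by
  intro i hi
  obtain ⟨j, rfl⟩ : ∃ j, i = j + 1 := ⟨i - 1, by omega⟩
  obtain ⟨e⟩ := Groth.Agent.S11319.result g N (j + 1)
  exact isZero_of_isZero_toSheaf _ (IsZero.of_iso (RpushVanish.isZero_RpushAb g N j) e)

/-- direct images of injective modules are acyclic for direct images -/
lemma acyc_push_injective (I : X.Modules) (hI : Injective I) :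
    HomCmp.Acyc (pushforward g) ((pushforward f).obj I) := by
  intro i hi
  obtain ⟨j, rfl⟩ : ∃ j, i = j + 1 := ⟨i - 1, by omega⟩
  refine isZero_rpush_of_extProp g _ ?_ j
  have h1 : InjAcyc.ExtProp ((SheafOfModules.toSheaf.{u} X.ringCatSheaf).obj I) :=
    @InjAcyc.extProp_toSheaf _ _ _ X.ringCatSheaf I hI
  exact InjAcyc.extProp_rightAdjoint
    (TopCat.Sheaf.pullbackPushforwardAdjunction AddCommGrpCat.{u} f.base) h1

theorem isIso_lerayEdgeOut [QuasiCompact f] [QuasiSeparated f] [IsAffineHom g]
    [HasInjectiveResolutions X.Modules] (M : X.Modules) [M.IsQuasicoherent] (p : ℕ) :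
    IsIso (CohBC.lerayEdgeOut f g p M) := by
  have key : IsIso (RDer.homologyComparison (pushforward g)
      (((pushforward f).mapHomologicalComplex _).obj (injectiveResolution M).cocomplex) p) := by
    apply HomCmp.isIso_homologyComparison
    · intro q
      exact acyc_push_injective f g _ ((injectiveResolution M).injective q)
    · intro q
      have e : (Coh.Rpush f q).obj M ≅ (((pushforward f).mapHomologicalComplex _).obj
          (injectiveResolution M).cocomplex).homology q :=
        (injectiveResolution M).isoRightDerivedObj (pushforward f) q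
      haveI : ((Coh.Rpush f q).obj M).IsQuasicoherent := Groth.Agent.S0030.result f M q
      exact (acyc_of_isQCoh g _).of_iso _ e
  dsimp only [CohBC.lerayEdgeOut, RDer.edgeOut]
  haveI h1 : IsIso ((RDer.rightDerivedIso (pushforwardComp f g) p).inv.app M) := inferInstance
  haveI h2 : IsIso ((pushforward g).map
      ((injectiveResolution M).isoRightDerivedObj (pushforward f) p).inv) := inferInstance
  haveI h3 : IsIso (RDer.homologyComparison (pushforward g)
      (((pushforward f).mapHomologicalComplex (ComplexShape.up ℕ)).obj
        (injectiveResolution M).cocomplex) p ≫ (pushforward g).map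
      ((injectiveResolution M).isoRightDerivedObj (pushforward f) p).inv) := inferInstance
  have h5 : IsIso (((injectiveResolution M).isoRightDerivedObj
      (pushforward f ⋙ pushforward g) p).hom) := inferInstance
  exact @IsIso.comp_isIso _ _ _ _ _ _ _ h1 (@IsIso.comp_isIso _ _ _ _ _ _ _ h5 h3)

end Groth.Agent.Lib.helper27.LerayOut
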