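import Mathlib
import Groth.Prelude.Def_LocCohZ
import Groth.Agent.Lib.Helper27.LocCohFun

set_option autoImplicit false
set_option linter.style.haveILetI false

namespace Groth.Agent.Lib.helper27

open CategoryTheory Limits Opposite Abelian TopologicalSpace

universe u

namespace LocCohFun

variable {X : TopCat.{u}} (U : Opens X)

theorem RpushOn_id_iso (q : ℕ) :
    Nonempty (CohCx.RpushOn (𝟙 X) U q ≅ CohTop.restrFunctor U ⋙ CohTop.Rpush (CohCx.incl U) q) := by
  haveI : PreservesFiniteLimits (CohTop.restrFunctor U) := by
    haveI := OpenRestr.restr_preservesLimits U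
    infer_instance
  haveI : PreservesFiniteColimits (CohTop.restrFunctor U) := by
    haveI := OpenRestr.restr_preservesColimits U
    infer_instance
  have hE : ∀ (I : CohTop.Ab X), Injective I → ∀ q : ℕ,
      IsZero (((CohTop.push (CohCx.incl U)).rightDerived (q + 1)).obj
        ((CohTop.restrFunctor U).obj I)) := by
    intro I hI q
    have hfl : TopCat.Sheaf.IsFlasque I := Groth.Agent.S0454.result I
    have := OpenRestr.isFlasque_restr U I
    exact FlasqueAcyc.isZero_Rpush_succ (CohCx.incl U) (CohTop.restr I U) q
  obtain ⟨e⟩ := DeltaFPre.rightDerived_comp_exact_iso (CohTop.restrFunctor U)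
    (CohTop.push (CohCx.incl U)) hE q
  have h : CohCx.incl U ≫ 𝟙 X = CohCx.incl U := Category.comp_id _
  have key : ∀ (g : TopCat.of U ⟶ X), g = CohCx.incl U →
      ∀ [inst : (CohTop.restrFunctor U ⋙ CohTop.push g).Additive],
      Nonempty ((CohTop.restrFunctor U ⋙ CohTop.push g).rightDerived q ≅
        CohTop.restrFunctor U ⋙ CohTop.Rpush (CohCx.incl U) q) := by
    intro g hg inst
    subst hg
    exact ⟨e⟩
  exact key _ h

end LocCohFun

end Groth.Agent.Lib.helper27
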