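import Mathlib
import Groth.Prelude.Def_LocCohZ
import Groth.Agent.Lib.Helper27.ExtDelta
import Groth.Agent.Lib.Helper27.SectSupp3

set_option autoImplicit false
set_option linter.style.haveILetI false

namespace Groth.Agent.Lib.helper27

open CategoryTheory Limits Opposite Abelian TopologicalSpace

universe u

namespace LocCohFun

/-- `Hom(ℤ_V, -) ≅ Γ(V, -)` -/
noncomputable def coyFreeIso {C : Type u} [SmallCategory C] (J : GrothendieckTopology C) (V : C) :
    preadditiveCoyoneda.obj (op (CohCx.freeSheaf J V)) ≅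
      sheafToPresheaf J AddCommGrpCat.{u} ⋙ (evaluation Cᵒᵖ AddCommGrpCat.{u}).obj (op V) :=
  NatIso.ofComponents (fun G => (CohFree.homEquivSect J V G).toAddCommGrpIso) (by
    intro G G' f
    apply AddCommGrpCat.hom_ext
    apply AddMonoidHom.ext
    intro φ
    rfl)

variable {X : TopCat.{u}} (U : Opens X)

/-- `Γ_Z(X, -) ≅ Hom(ℤ_X/ℤ_U, -)` -/
noncomputable def gammaZFIso :
    preadditiveCoyoneda.obj (op (ToposFin.quotZ (LocCohZ.openSh U))) ≅ LocCohZ.gammaZF U :=
  (preadditiveCoyoneda.mapIso (LocCohZ.zqIsoQuotZ U).op) ≪≫ (SectSupp.homIso U).symm ≪≫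
    Functor.isoWhiskerLeft (LocCohZ.sectSuppF U) (coyFreeIso (Opens.grothendieckTopology X) ⊤)

theorem RHZ_iso (q : ℕ) :
    Nonempty (LocCohZ.RHZ U q ≅ ToposFin.HZFunctor (LocCohZ.openSh U) q) := by
  haveI : PreservesFiniteLimits (LocCohZ.gammaZF U) :=
    preservesFiniteLimits_of_natIso (gammaZFIso U)
  obtain ⟨e⟩ := ExtCoy.rightDerived_natIso_ext (LocCohZ.gammaZF U) _ (gammaZFIso U) q
  exact ⟨e.symm⟩

end LocCohFun

end Groth.Agent.Lib.helper27
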