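import Mathlib
import Groth.Prelude.Def_LocCohZ
import Groth.Agent.Lib.Helper27.SectSupp2
import Groth.Agent.S0454

set_option autoImplicit false

namespace Groth.Agent.Lib.helper27.LocMV

open CategoryTheory Limits Opposite Abelian TopologicalSpace Groth.Agent.Lib.helper27

universe u

variable {X : TopCat.{u}}

/-- the section over `V` (vanishing on `W`) corresponding to a morphism out of `ℤ_V/ℤ_W` -/
noncomputable def sec (G : CohTop.Ab X) {W V : Opens X} (h : W ≤ V) :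
    (LocCohZ.zq h ⟶ G) →+ G.obj.obj (op V) where
  toFun x := CohFree.evalGen (Opens.grothendieckTopology X) V G (cokernel.π _ ≫ x)
  map_zero' := by rw [comp_zero, map_zero]
  map_add' x y := by rw [Preadditive.comp_add, map_add]

lemma sec_eq (G : CohTop.Ab X) {W V : Opens X} (h : W ≤ V) (x : LocCohZ.zq h ⟶ G) :
    sec G h x = ((LocCohZ.sect0Equiv G h) (Ext.addEquiv₀.symm x)).1 := by
  show _ = CohFree.evalGen (Opens.grothendieckTopology X) V G
    (cokernel.π _ ≫ Ext.addEquiv₀ (Ext.addEquiv₀.symm x))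
  rw [AddEquiv.apply_symm_apply]
  rfl

lemma sec_injective (G : CohTop.Ab X) {W V : Opens X} (h : W ≤ V) :
    Function.Injective (sec G h) := by
  intro x y hxy
  rw [sec_eq, sec_eq] at hxy
  have := (LocCohZ.sect0Equiv G h).injective (Subtype.ext hxy)
  exact Ext.addEquiv₀.symm.injective this

lemma res_sec (G : CohTop.Ab X) {W V : Opens X} (h : W ≤ V) (x : LocCohZ.zq h ⟶ G) :
    (G.obj.map (homOfLE h).op).hom (sec G h x) = 0 := by
  rw [sec_eq]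
  exact AddMonoidHom.mem_ker.1 (Subtype.property _)

lemma exists_sec (G : CohTop.Ab X) {W V : Opens X} (h : W ≤ V) (s : G.obj.obj (op V))
    (hs : (G.obj.map (homOfLE h).op).hom s = 0) : ∃ x : LocCohZ.zq h ⟶ G, sec G h x = s := by
  refine ⟨Ext.addEquiv₀ ((LocCohZ.sect0Equiv G h).symm ⟨s, hs⟩), ?_⟩
  rw [sec_eq, AddEquiv.symm_apply_apply, AddEquiv.apply_symm_apply]

lemma π_zqMap {W W' V : Opens X} (h : W ≤ V) (h' : W' ≤ V) (hW : W' ≤ W) :
    cokernel.π _ ≫ LocCohZ.zqMap h h' hW le_rfl = cokernel.π _ := by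
  unfold LocCohZ.zqMap
  rw [cokernel.π_desc]
  have : (homOfLE (le_refl V)) = 𝟙 V := rfl
  rw [this, CohFree.freeSheafMap_id, Category.id_comp]

lemma sec_zqMap (G : CohTop.Ab X) {W W' V : Opens X} (h : W ≤ V) (h' : W' ≤ V) (hW : W' ≤ W)
    (x : LocCohZ.zq h ⟶ G) : sec G h' (LocCohZ.zqMap h h' hW le_rfl ≫ x) = sec G h x := by
  show CohFree.evalGen _ V G (cokernel.π _ ≫ LocCohZ.zqMap h h' hW le_rfl ≫ x) =
    CohFree.evalGen _ V G (cokernel.π _ ≫ x)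
  rw [← Category.assoc, π_zqMap]

instance epi_zqMap {W W' V : Opens X} (h : W ≤ V) (h' : W' ≤ V) (hW : W' ≤ W) :
    Epi (LocCohZ.zqMap h h' hW le_rfl) :=
  epi_of_epi_fac (π_zqMap h h' hW)

lemma zqMap_comp {W W' W'' V : Opens X} (h : W ≤ V) (h' : W' ≤ V) (h'' : W'' ≤ V)
    (hW : W' ≤ W) (hW' : W'' ≤ W') :
    LocCohZ.zqMap h' h'' hW' le_rfl ≫ LocCohZ.zqMap h h' hW le_rfl =
      LocCohZ.zqMap h h'' (hW'.trans hW) le_rfl := by
  apply sec_injective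
  have e1 := sec_zqMap (LocCohZ.zq h) h' h'' hW' (LocCohZ.zqMap h h' hW le_rfl)
  have e2 := sec_zqMap (LocCohZ.zq h) h h' hW (𝟙 _)
  have e3 := sec_zqMap (LocCohZ.zq h) h h'' (hW'.trans hW) (𝟙 _)
  rw [Category.comp_id] at e2 e3
  rw [e1, e2, e3]

variable (U U' : Opens X)

/-- first map of the Mayer–Vietoris short complex -/
noncomputable def fMV : LocCohZ.zq (le_top : U ⊓ U' ≤ ⊤) ⟶
    LocCohZ.zq (le_top : U ≤ ⊤) ⊞ LocCohZ.zq (le_top : U' ≤ ⊤) :=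
  biprod.lift (LocCohZ.zqMap (le_top : U ≤ ⊤) (le_top : U ⊓ U' ≤ ⊤) inf_le_left le_rfl)
    (-(LocCohZ.zqMap (le_top : U' ≤ ⊤) (le_top : U ⊓ U' ≤ ⊤) inf_le_right le_rfl))

/-- second map of the Mayer–Vietoris short complex -/
noncomputable def gMV : LocCohZ.zq (le_top : U ≤ ⊤) ⊞ LocCohZ.zq (le_top : U' ≤ ⊤) ⟶
    LocCohZ.zq (le_top : U ⊔ U' ≤ ⊤) :=
  biprod.desc (LocCohZ.zqMap (le_top : U ⊔ U' ≤ ⊤) (le_top : U ≤ ⊤) le_sup_left le_rfl)
    (LocCohZ.zqMap (le_top : U ⊔ U' ≤ ⊤) (le_top : U' ≤ ⊤) le_sup_right le_rfl)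

/-- the Mayer–Vietoris short complex `ℤ/ℤ_{U∩U'} ⟶ ℤ/ℤ_U ⊞ ℤ/ℤ_{U'} ⟶ ℤ/ℤ_{U∪U'}` -/
noncomputable def mvSC : ShortComplex (CohTop.Ab X) :=
  ShortComplex.mk (fMV U U') (gMV U U')
    (by
      unfold fMV gMV
      rw [biprod.lift_desc, Preadditive.neg_comp, zqMap_comp, zqMap_comp]
      exact add_neg_cancel _)

instance : Epi (mvSC U U').g := by
  have : Epi (biprod.inl ≫ (mvSC U U').g) := by
    dsimp only [mvSC, fMV, gMV]
    rw [biprod.inl_desc]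
    exact epi_zqMap _ _ _
  exact epi_of_epi biprod.inl (mvSC U U').g

lemma res_sup_eq_zero (G : CohTop.Ab X) (s : G.obj.obj (op ⊤))
    (h1 : (G.obj.map (homOfLE (le_top : U ≤ ⊤)).op).hom s = 0)
    (h2 : (G.obj.map (homOfLE (le_top : U' ≤ ⊤)).op).hom s = 0) :
    (G.obj.map (homOfLE (le_top : U ⊔ U' ≤ ⊤)).op).hom s = 0 := by
  refine TopCat.Sheaf.eq_of_locally_eq₂ (C := AddCommGrpCat.{u}) G
    (homOfLE (le_sup_left : U ≤ U ⊔ U')) (homOfLE (le_sup_right : U' ≤ U ⊔ U')) le_rfl _ 0 ?_ ?_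
  · rw [map_zero]
    exact (SectSupp.map_map_apply G _ _ s).trans h1
  · rw [map_zero]
    exact (SectSupp.map_map_apply G _ _ s).trans h2

lemma exists_desc (G : CohTop.Ab X) (φ : (mvSC U U').X₂ ⟶ G) (hφ : (mvSC U U').f ≫ φ = 0) :
    ∃ ψ : (mvSC U U').X₃ ⟶ G, (mvSC U U').g ≫ ψ = φ := by
  set a : LocCohZ.zq (le_top : U ≤ ⊤) ⟶ G := biprod.inl ≫ φ with ha
  set b : LocCohZ.zq (le_top : U' ≤ ⊤) ⟶ G := biprod.inr ≫ φ with hb
  have hab : LocCohZ.zqMap (le_top : U ≤ ⊤) (le_top : U ⊓ U' ≤ ⊤) inf_le_left le_rfl ≫ a =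
      LocCohZ.zqMap (le_top : U' ≤ ⊤) (le_top : U ⊓ U' ≤ ⊤) inf_le_right le_rfl ≫ b := by
    have h0 : (mvSC U U').f ≫ φ = 
        LocCohZ.zqMap (le_top : U ≤ ⊤) (le_top : U ⊓ U' ≤ ⊤) inf_le_left le_rfl ≫ a -
        LocCohZ.zqMap (le_top : U' ≤ ⊤) (le_top : U ⊓ U' ≤ ⊤) inf_le_right le_rfl ≫ b := by
      dsimp only [mvSC, fMV, gMV]
      rw [biprod.lift_eq, Preadditive.add_comp, Category.assoc, Category.assoc,
        Preadditive.neg_comp, ← sub_eq_add_neg]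
    exact sub_eq_zero.1 (h0.symm.trans hφ)
  have hs : sec G _ a = sec G _ b := by
    rw [← sec_zqMap G (le_top : U ≤ ⊤) (le_top : U ⊓ U' ≤ ⊤) inf_le_left a, hab, sec_zqMap]
  have h1 := res_sec G _ a
  have h2 := res_sec G _ b
  rw [← hs] at h2
  obtain ⟨ψ, hψ⟩ := exists_sec G (le_top : U ⊔ U' ≤ ⊤) (sec G _ a) (res_sup_eq_zero U U' G _ h1 h2)
  refine ⟨ψ, ?_⟩
  apply biprod.hom_ext'
  · dsimp only [mvSC, fMV, gMV]
    rw [biprod.inl_desc_assoc]
    apply sec_injective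
    rw [sec_zqMap, hψ]
  · dsimp only [mvSC, fMV, gMV]
    rw [biprod.inr_desc_assoc]
    apply sec_injective
    rw [sec_zqMap, hψ, hs]

lemma exact_mvSC : (mvSC U U').Exact := by
  refine ShortComplex.exact_of_g_is_cokernel _ ?_
  exact CokernelCofork.IsColimit.ofπ _ _
    (fun φ hφ => (exists_desc U U' _ φ hφ).choose)
    (fun φ hφ => (exists_desc U U' _ φ hφ).choose_spec)
    (fun φ hφ m hm => by
      rw [← cancel_epi (mvSC U U').g, hm]
      exact (exists_desc U U' _ φ hφ).choose_spec.symm)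

instance mono_mvSC_f : Mono (mvSC U U').f := by
  let A := LocCohZ.zq (le_top : U ⊓ U' ≤ ⊤)
  let I := Injective.under A
  let ι : A ⟶ I := Injective.ι A
  have hfl : TopCat.Sheaf.IsFlasque I := Groth.Agent.S0454.result I
  let s := sec I _ ι
  have hs : (I.obj.map (homOfLE (le_top : U ⊓ U' ≤ ⊤)).op).hom s = 0 := res_sec I _ ι
  -- glue `0` on `U` and `s` on `U'`
  obtain ⟨t, ht1, ht2⟩ := SectSupp.glue_two I U U' (U ⊔ U') le_sup_left le_sup_right le_rfl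
    0 ((I.obj.map (homOfLE (le_top : U' ≤ ⊤)).op).hom s) (by
      rw [map_zero, SectSupp.map_map_apply]
      exact hs.symm)
  have hepi : Epi (I.obj.map (homOfLE (le_top : U ⊔ U' ≤ ⊤)).op) := hfl.epi _
  rw [AddCommGrpCat.epi_iff_surjective] at hepi
  obtain ⟨T, hT⟩ := hepi t
  have hT1 : (I.obj.map (homOfLE (le_top : U ≤ ⊤)).op).hom T = 0 := by
    rw [← SectSupp.map_map_apply I (le_top : U ⊔ U' ≤ ⊤) le_sup_left T]
    exact (congrArg _ hT).trans ht1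
  have hT2 : (I.obj.map (homOfLE (le_top : U' ≤ ⊤)).op).hom (T - s) = 0 := by
    rw [map_sub, sub_eq_zero, ← SectSupp.map_map_apply I (le_top : U ⊔ U' ≤ ⊤) le_sup_right T]
    exact (congrArg _ hT).trans ht2
  obtain ⟨a, ha⟩ := exists_sec I (le_top : U ≤ ⊤) T hT1
  obtain ⟨b, hb⟩ := exists_sec I (le_top : U' ≤ ⊤) (T - s) hT2
  have hfac : (mvSC U U').f ≫ biprod.desc a b = ι := by
    dsimp only [mvSC, fMV, gMV]
    rw [biprod.lift_desc, Preadditive.neg_comp, ← sub_eq_add_neg]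
    apply sec_injective
    rw [map_sub, sec_zqMap, sec_zqMap, ha, hb]
    exact sub_sub_cancel T s
  have : Mono ((mvSC U U').f ≫ biprod.desc a b) := by
    rw [hfac]
    exact inferInstanceAs (Mono (Injective.ι A))
  exact mono_of_mono (mvSC U U').f (biprod.desc a b)

lemma shortExact_mvSC : (mvSC U U').ShortExact where
  exact := exact_mvSC U U'



section LES

variable (F : CohTop.Ab X)

lemma f_comp (i : ℕ) (y : Ext (LocCohZ.zq (le_top : U ≤ ⊤)) F i ×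
    Ext (LocCohZ.zq (le_top : U' ≤ ⊤)) F i) :
    (Ext.mk₀ (fMV U U')).comp (Ext.biprodAddEquiv.symm y) (zero_add i) =
      (Ext.mk₀ (LocCohZ.zqMap (le_top : U ≤ ⊤) (le_top : U ⊓ U' ≤ ⊤) inf_le_left le_rfl)).comp
          y.1 (zero_add i) -
        (Ext.mk₀ (LocCohZ.zqMap (le_top : U' ≤ ⊤) (le_top : U ⊓ U' ≤ ⊤) inf_le_right le_rfl)).comp
          y.2 (zero_add i) := by
  rw [Ext.biprodAddEquiv_symm_apply, Ext.comp_add, Ext.mk₀_comp_mk₀_assoc,
    Ext.mk₀_comp_mk₀_assoc]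
  unfold fMV
  rw [biprod.lift_fst, biprod.lift_snd, Ext.mk₀_neg, Ext.neg_comp, ← sub_eq_add_neg]

lemma inl_g : biprod.inl ≫ gMV U U' =
    LocCohZ.zqMap (le_top : U ⊔ U' ≤ ⊤) (le_top : U ≤ ⊤) le_sup_left le_rfl := by
  unfold gMV
  rw [biprod.inl_desc]

lemma inr_g : biprod.inr ≫ gMV U U' =
    LocCohZ.zqMap (le_top : U ⊔ U' ≤ ⊤) (le_top : U' ≤ ⊤) le_sup_right le_rfl := by
  unfold gMV
  rw [biprod.inr_desc]

lemma g_comp (i : ℕ) (x : Ext (LocCohZ.zq (le_top : U ⊔ U' ≤ ⊤)) F i) :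
    Ext.biprodAddEquiv ((Ext.mk₀ (gMV U U')).comp x (zero_add i)) =
      (LocCohZ.resZ F i (le_top : U ⊔ U' ≤ ⊤) (le_top : U ≤ ⊤) le_sup_left le_rfl x,
       LocCohZ.resZ F i (le_top : U ⊔ U' ≤ ⊤) (le_top : U' ≤ ⊤) le_sup_right le_rfl x) := by
  apply Prod.ext
  · rw [Ext.biprodAddEquiv_apply_fst, Ext.mk₀_comp_mk₀_assoc, inl_g]
    rfl
  · rw [Ext.biprodAddEquiv_apply_snd, Ext.mk₀_comp_mk₀_assoc, inr_g]
    rfl

lemma fMV_gMV : fMV U U' ≫ gMV U U' = 0 := (mvSC U U').zero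

theorem main :
    Function.Injective (fun x : LocCohZ.HZc F 0 (U ⊔ U') =>
      (LocCohZ.resZ F 0 (le_top : U ⊔ U' ≤ ⊤) (le_top : U ≤ ⊤) le_sup_left le_rfl x,
       LocCohZ.resZ F 0 (le_top : U ⊔ U' ≤ ⊤) (le_top : U' ≤ ⊤) le_sup_right le_rfl x)) ∧
    ∃ δ : ∀ i : ℕ, LocCohZ.HZc F i (U ⊓ U') →+ LocCohZ.HZc F (i + 1) (U ⊔ U'),
      ∀ i : ℕ,
        (∀ y : LocCohZ.HZc F i U × LocCohZ.HZc F i U',
          LocCohZ.resZ F i (le_top : U ≤ ⊤) (le_top : U ⊓ U' ≤ ⊤) inf_le_left le_rfl y.1 -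
              LocCohZ.resZ F i (le_top : U' ≤ ⊤) (le_top : U ⊓ U' ≤ ⊤) inf_le_right le_rfl y.2 = 0 ↔
            ∃ x : LocCohZ.HZc F i (U ⊔ U'),
              LocCohZ.resZ F i (le_top : U ⊔ U' ≤ ⊤) (le_top : U ≤ ⊤) le_sup_left le_rfl x = y.1 ∧
              LocCohZ.resZ F i (le_top : U ⊔ U' ≤ ⊤) (le_top : U' ≤ ⊤) le_sup_right le_rfl x = y.2) ∧
        (∀ w : LocCohZ.HZc F i (U ⊓ U'),
          δ i w = 0 ↔ ∃ y : LocCohZ.HZc F i U × LocCohZ.HZc F i U',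
            LocCohZ.resZ F i (le_top : U ≤ ⊤) (le_top : U ⊓ U' ≤ ⊤) inf_le_left le_rfl y.1 -
              LocCohZ.resZ F i (le_top : U' ≤ ⊤) (le_top : U ⊓ U' ≤ ⊤) inf_le_right le_rfl y.2 = w) ∧
        (∀ x : LocCohZ.HZc F (i + 1) (U ⊔ U'),
          (LocCohZ.resZ F (i + 1) (le_top : U ⊔ U' ≤ ⊤) (le_top : U ≤ ⊤) le_sup_left le_rfl x = 0 ∧
            LocCohZ.resZ F (i + 1) (le_top : U ⊔ U' ≤ ⊤) (le_top : U' ≤ ⊤) le_sup_right le_rfl x = 0) ↔
            ∃ w : LocCohZ.HZc F i (U ⊓ U'), δ i w = x) := by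
  have hS := shortExact_mvSC U U'
  refine ⟨?_, fun i => hS.extClass.precomp F (add_comm 1 i), fun i => ⟨?_, ?_, ?_⟩⟩
  · -- injectivity in degree 0
    intro x x' hxx'
    have h1 : Ext.biprodAddEquiv ((Ext.mk₀ (gMV U U')).comp x (zero_add 0)) =
        Ext.biprodAddEquiv ((Ext.mk₀ (gMV U U')).comp x' (zero_add 0)) := by
      rw [g_comp, g_comp]
      exact hxx'
    have : Epi (gMV U U') := inferInstanceAs (Epi (mvSC U U').g)
    exact Ext.precomp_mk₀_injective_of_epi F (gMV U U') (Ext.biprodAddEquiv.injective h1)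
  · -- exactness at the middle
    intro y
    show (Ext.mk₀ _).comp y.1 (zero_add i) - (Ext.mk₀ _).comp y.2 (zero_add i) = 0 ↔ _
    rw [← f_comp U U' F i y]
    constructor
    · intro hy
      obtain ⟨x, hx⟩ := Ext.contravariant_sequence_exact₂ hS F
        (Ext.biprodAddEquiv.symm y : Ext (LocCohZ.zq (le_top : U ≤ ⊤) ⊞ LocCohZ.zq (le_top : U' ≤ ⊤)) F i) hy
      have hx' : (Ext.mk₀ (gMV U U')).comp x (zero_add i) = Ext.biprodAddEquiv.symm y := hx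
      refine ⟨x, ?_⟩
      have := congrArg Ext.biprodAddEquiv hx'
      rw [g_comp, AddEquiv.apply_symm_apply] at this
      exact ⟨congrArg Prod.fst this, congrArg Prod.snd this⟩
    · rintro ⟨x, hx1, hx2⟩
      have : Ext.biprodAddEquiv.symm y = (Ext.mk₀ (gMV U U')).comp x (zero_add i) := by
        apply Ext.biprodAddEquiv.injective
        rw [g_comp, AddEquiv.apply_symm_apply]
        exact (Prod.ext hx1 hx2).symm
      rw [this, Ext.mk₀_comp_mk₀_assoc, fMV_gMV, Ext.mk₀_zero, Ext.zero_comp]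
  · -- exactness at `H^i_{Z ∪ Z'}`
    intro w
    constructor
    · intro hw
      obtain ⟨x₂, hx₂⟩ := Ext.contravariant_sequence_exact₁ hS F w (add_comm 1 i) hw
      have hx₂' : (Ext.mk₀ (fMV U U')).comp
        (x₂ : Ext (LocCohZ.zq (le_top : U ≤ ⊤) ⊞ LocCohZ.zq (le_top : U' ≤ ⊤)) F i) (zero_add i) = w := hx₂
      refine ⟨Ext.biprodAddEquiv
        (x₂ : Ext (LocCohZ.zq (le_top : U ≤ ⊤) ⊞ LocCohZ.zq (le_top : U' ≤ ⊤)) F i), ?_⟩
      show (Ext.mk₀ _).comp _ (zero_add i) - (Ext.mk₀ _).comp _ (zero_add i) = w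
      rw [← f_comp U U' F i, AddEquiv.symm_apply_apply]
      exact hx₂'
    · rintro ⟨y, rfl⟩
      have e := f_comp U U' F i y
      have h0 : (hS.extClass.precomp F (add_comm 1 i))
          ((Ext.mk₀ (fMV U U')).comp (Ext.biprodAddEquiv.symm y) (zero_add i)) = 0 :=
        hS.extClass_comp_assoc (h := add_comm 1 i)
          (Ext.biprodAddEquiv.symm y :
            Ext (LocCohZ.zq (le_top : U ≤ ⊤) ⊞ LocCohZ.zq (le_top : U' ≤ ⊤)) F i)
      exact (congrArg (hS.extClass.precomp F (add_comm 1 i)) e).symm.trans h0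
  · -- exactness at `H^{i+1}_{Z ∩ Z'}`
    intro x
    constructor
    · rintro ⟨h1, h2⟩
      have hx : (Ext.mk₀ (gMV U U')).comp x (zero_add (i + 1)) = 0 := by
        apply Ext.biprodAddEquiv.injective
        rw [g_comp, map_zero]
        exact Prod.ext h1 h2
      exact Ext.contravariant_sequence_exact₃ hS F x hx (add_comm 1 i)
    · rintro ⟨w, rfl⟩
      have h0 : (Ext.mk₀ (gMV U U')).comp (hS.extClass.comp w (add_comm 1 i)) (zero_add (i + 1)) = 0 :=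
        hS.comp_extClass_assoc w (add_comm 1 i)
      have := congrArg Ext.biprodAddEquiv h0
      rw [map_zero] at this
      have h2 := (g_comp U U' F (i + 1) (hS.extClass.comp w (add_comm 1 i))).symm.trans this
      exact ⟨congrArg Prod.fst h2, congrArg Prod.snd h2⟩

end LES

end Groth.Agent.Lib.helper27.LocMV
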