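import Mathlib
import Groth.Prelude.Def_FibDesc
import Groth.Agent.Lib.Helper27.CechOpen

set_option autoImplicit false
set_option linter.unusedSectionVars false
set_option linter.unusedVariables false
set_option linter.style.haveILetI false
set_option backward.isDefEq.respectTransparency false
set_option backward.isDefEq.respectTransparency.types false

namespace Groth.Agent.Lib.helper27

open CategoryTheory Limits Opposite
open FibDesc TopologicalSpace

universe u

namespace LocSec

/-- the inclusion of an open subset, as a morphism of spaces -/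
abbrev oIncl {S : TopCat.{u}} (V : Opens S) : TopCat.of V ⟶ S :=
  TopCat.ofHom ⟨Subtype.val, continuous_subtype_val⟩

/-- a map has local sections -/
def HasLocalSections {X S : TopCat.{u}} (f : X ⟶ S) : Prop :=
  ∀ s : S, ∃ (V : Opens S) (σ : TopCat.of V ⟶ X), s ∈ V ∧ σ ≫ f = oIncl V

variable {X S : TopCat.{u}} (f : X ⟶ S)

/-- a map with local sections is of cohomological descent -/
theorem isCohDescentMap_of_localSections (h : HasLocalSections f) : IsCohDescentMap f := by
  choose V σ hV hσ using h
  refine CechOpen.isCohDescentMap_of_cover f (fun s => TopCat.of (V s)) (fun s => oIncl (V s))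
    (fun s => (V s).isOpen.isOpenEmbedding_subtypeVal) (fun s => ⟨s, ⟨s, hV s⟩, rfl⟩) ?_
  intro s
  exact CechContr.isCohDescentMap_of_section (pullback.snd f (oIncl (V s)))
    (pullback.lift (σ s) (𝟙 _) (by rw [hσ, Category.id_comp]))
    (pullback.lift_snd _ _ _)

/-- local sections are stable under base change -/
theorem hasLocalSections_snd (h : HasLocalSections f) {S' : TopCat.{u}} (g : S' ⟶ S) :
    HasLocalSections (pullback.snd f g) := by
  intro s'
  obtain ⟨V, σ, hV, hσ⟩ := h (g s')
  let V' : Opens S' := (Opens.map g).obj V
  let gV : TopCat.of V' ⟶ TopCat.of V :=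
    TopCat.ofHom ⟨fun v => ⟨g v.1, v.2⟩, by
      apply Continuous.subtype_mk
      exact g.hom.continuous.comp continuous_subtype_val⟩
  refine ⟨V', pullback.lift (gV ≫ σ) (oIncl V') ?_, hV, pullback.lift_snd _ _ _⟩
  rw [Category.assoc, hσ]
  rfl

/-- a surjective local homeomorphism has local sections -/
theorem hasLocalSections_of_isLocalHomeomorph (hf : IsLocalHomeomorph f)
    (hsurj : Function.Surjective f) : HasLocalSections f := by
  intro s
  obtain ⟨x, rfl⟩ := hsurj s
  obtain ⟨e, hx, he⟩ := hf x
  let V : Opens S := ⟨e.target, e.open_target⟩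
  have hc : Continuous (fun y : V => e.symm y.1) :=
    continuousOn_iff_continuous_domRestrict.1 e.continuousOn_symm
  refine ⟨V, TopCat.ofHom ⟨fun y => e.symm y.1, hc⟩, ?_, ?_⟩
  · show f x ∈ e.target
    rw [he]
    exact e.map_source hx
  · ext y
    show f (e.symm y.1) = y.1
    rw [he]
    exact e.right_inv y.2

end LocSec

end Groth.Agent.Lib.helper27
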