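import Mathlib

/-!
# Mittag-Leffler towers indexed by `ℕ`, in any universe (helper27)

Universe-generalised copies of `MLLim`/`MLLim2`: lifting compatible families along a levelwise
surjection whose kernel system is Mittag-Leffler; quotients of Mittag-Leffler systems.
-/

set_option autoImplicit false

open CategoryTheory CategoryTheory.Limits Opposite

universe w u

namespace Groth.Agent.Lib.helper27.MLNat

/-- towers of nonempty sets with surjective transition maps have sections -/
lemma nonempty_sections_nat (E : ℕᵒᵖ ⥤ Type u) (h0 : Nonempty (E.obj (op 0)))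
    (hE : ∀ n, Function.Surjective (E.map (homOfLE (Nat.le_succ n)).op)) :
    Nonempty E.sections := by
  obtain ⟨e0⟩ := h0
  obtain ⟨s, -⟩ := Types.surjective_π_app_zero_of_surjective_map (Types.limitConeIsLimit E) hE e0
  exact ⟨s⟩

section general

variable {ι : Type w} [Preorder ι] [Nonempty ι] [IsDirected ι (· ≤ ·)]
  {A B C : ιᵒᵖ ⥤ AddCommGrpCat.{u}} (u' : A ⟶ B) (v : B ⟶ C)
  (hex : ∀ i, (v.app i).hom.ker = (u'.app i).hom.range)
  (c : ∀ i : ιᵒᵖ, C.obj i) (hc : ∀ ⦃i j : ιᵒᵖ⦄ (f : i ⟶ j), C.map f (c i) = c j)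

/-- the system of fibres over a compatible family `c` -/
def E : ιᵒᵖ ⥤ Type u where
  obj i := {b : B.obj i // v.app i b = c i}
  map {i j} f := TypeCat.ofHom fun b => ⟨B.map f b.1, by
    have := ConcreteCategory.congr_hom (v.naturality f) b.1
    simp only [ConcreteCategory.comp_apply] at this
    rw [this, b.2, hc f]⟩
  map_id i := by
    ext b
    simp
  map_comp f g := by
    ext b
    simp

lemma E_map_val {i j : ιᵒᵖ} (f : i ⟶ j) (b : (E v c hc).obj i) :
    ((E v c hc).map f b).1 = B.map f b.1 := rfl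

variable (hne : ∀ i, Nonempty ((E v c hc).obj i))

include hex hne in
lemma E_isMittagLeffler' (hA : (A ⋙ forget AddCommGrpCat.{u}).IsMittagLeffler) :
    (E v c hc).IsMittagLeffler := by
  intro j
  obtain ⟨i, f, hf⟩ := hA j
  refine ⟨i, f, fun k g => ?_⟩
  rintro _ ⟨ei, rfl⟩
  obtain ⟨l, li, lk, -⟩ := IsCofilteredOrEmpty.cone_objs i k
  obtain ⟨el⟩ := hne l
  have hd : ei.1 - B.map li el.1 ∈ (v.app i).hom.ker := by
    rw [AddMonoidHom.mem_ker]
    show v.app i (ei.1 - B.map li el.1) = 0
    rw [map_sub, ei.2]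
    have := ((E v c hc).map li el).2
    rw [E_map_val] at this
    rw [this, sub_self]
  rw [hex i] at hd
  obtain ⟨ai, hai⟩ := hd
  have hai' : u'.app i ai = ei.1 - B.map li el.1 := hai
  have hmem : (A ⋙ forget AddCommGrpCat.{u}).map f ai ∈
      Set.range ((A ⋙ forget AddCommGrpCat.{u}).map (li ≫ f)) := hf (li ≫ f) ⟨ai, rfl⟩
  obtain ⟨al, hal⟩ := hmem
  have hal' : A.map (li ≫ f) al = A.map f ai := hal
  let el' : (E v c hc).obj l := ⟨el.1 + u'.app l al, by
    rw [map_add, el.2]
    have h0 : v.app l (u'.app l al) = 0 := by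
      have : u'.app l al ∈ (v.app l).hom.ker := by
        rw [hex l]
        exact ⟨al, rfl⟩
      exact this
    rw [h0, add_zero]⟩
  have key : (E v c hc).map (li ≫ f) el' = (E v c hc).map f ei := by
    apply Subtype.ext
    rw [E_map_val, E_map_val]
    show B.map (li ≫ f) (el.1 + u'.app l al) = B.map f ei.1
    rw [map_add]
    have n1 := ConcreteCategory.congr_hom (u'.naturality (li ≫ f)) al
    simp only [ConcreteCategory.comp_apply] at n1
    have n2 := ConcreteCategory.congr_hom (u'.naturality f) ai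
    simp only [ConcreteCategory.comp_apply] at n2
    rw [← n1, hal', n2, hai', map_sub, Functor.map_comp, ConcreteCategory.comp_apply]
    abel
  refine ⟨(E v c hc).map lk el', ?_⟩
  rw [← key, ← Functor.map_comp_apply]
  congr 2

end general

section nat

variable {A B C : ℕᵒᵖ ⥤ AddCommGrpCat.{u}} (u' : A ⟶ B) (v : B ⟶ C)
  (hex : ∀ i, (v.app i).hom.ker = (u'.app i).hom.range)
  (c : ∀ i : ℕᵒᵖ, C.obj i) (hc : ∀ ⦃i j : ℕᵒᵖ⦄ (f : i ⟶ j), C.map f (c i) = c j)

include hex hc in
/-- lifting compatible families along `v` when the kernel system is Mittag-Leffler -/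
theorem exists_lift
    (hA : (A ⋙ forget AddCommGrpCat.{u}).IsMittagLeffler)
    (hrange : ∀ i, ∃ b : B.obj i, v.app i b = c i) :
    ∃ b : ∀ i : ℕᵒᵖ, B.obj i, (∀ ⦃i j : ℕᵒᵖ⦄ (f : i ⟶ j), B.map f (b i) = b j) ∧
      ∀ i, v.app i (b i) = c i := by
  have hne : ∀ i, Nonempty ((E v c hc).obj i) := fun i => by
    obtain ⟨b, hb⟩ := hrange i
    exact ⟨⟨b, hb⟩⟩
  have hML := E_isMittagLeffler' u' v hex c hc hne hA
  obtain ⟨σ⟩ := nonempty_sections_nat (E v c hc).toEventualRanges
    (Functor.toEventualRanges_nonempty _ hML _)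
    (fun n => Functor.surjective_toEventualRanges _ hML _)
  let τ := (Functor.toEventualRangesSectionsEquiv (E v c hc)) σ
  refine ⟨fun i => (τ.1 i).1, ?_, fun i => (τ.1 i).2⟩
  intro i j f
  have := τ.2 f
  exact congrArg Subtype.val this

end nat

section quot

variable {J : Type w} [Category J] {B C : J ⥤ AddCommGrpCat.{u}} (v : B ⟶ C)
  (hv : ∀ i, Function.Surjective (v.app i).hom)

include hv in
/-- a levelwise quotient of a Mittag-Leffler system is Mittag-Leffler -/
theorem ml_of_surjective (hB : (B ⋙ forget AddCommGrpCat.{u}).IsMittagLeffler) :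
    (C ⋙ forget AddCommGrpCat.{u}).IsMittagLeffler := by
  intro j
  obtain ⟨i, f, hf⟩ := hB j
  refine ⟨i, f, fun k g => ?_⟩
  rintro _ ⟨ci, rfl⟩
  obtain ⟨bi, rfl⟩ := hv i ci
  obtain ⟨bk, hbk⟩ := hf g ⟨bi, rfl⟩
  have hbk' : B.map g bk = B.map f bi := hbk
  refine ⟨(v.app k).hom bk, ?_⟩
  show C.map g ((v.app k).hom bk) = C.map f ((v.app i).hom bi)
  have n1 := ConcreteCategory.congr_hom (v.naturality g) bk
  have n2 := ConcreteCategory.congr_hom (v.naturality f) bi
  simp only [ConcreteCategory.comp_apply] at n1 n2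
  exact n1.symm.trans ((congrArg (fun z => (v.app j).hom z) hbk').trans n2)

end quot

/-- a tower with surjective successive transition maps is Mittag-Leffler -/
theorem ml_of_surjective_succ (F : ℕᵒᵖ ⥤ Type u)
    (h : ∀ n, Function.Surjective (F.map (homOfLE (Nat.le_succ n)).op)) : F.IsMittagLeffler := by
  apply Functor.isMittagLeffler_of_surjective
  intro i j f
  have hle : j.unop ≤ i.unop := leOfHom f.unop
  obtain ⟨i⟩ := i
  obtain ⟨j⟩ := j
  have hf : f = (homOfLE hle).op := Subsingleton.elim _ _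
  rw [hf]
  clear hf f
  change j ≤ i at hle
  induction hle with
  | refl =>
    have : (homOfLE (le_refl j)).op = 𝟙 (op j) := Subsingleton.elim _ _
    rw [this, F.map_id]
    exact Function.surjective_id
  | @step p hp ih =>
    have : (homOfLE (Nat.le_succ_of_le hp)).op =
        (homOfLE (Nat.le_succ p)).op ≫ (homOfLE hp).op := Subsingleton.elim _ _
    rw [this, F.map_comp]
    exact ih.comp (h p)

end Groth.Agent.Lib.helper27.MLNat
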