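import Mathlib
import Groth.Prelude.Def_W4c3perfectstacksMV

set_option linter.unusedSectionVars false

namespace Groth.Agent.Lib.helper27

open CategoryTheory Limits Pretriangulated W4c3perfectstacks W4c3perfectstacks.MVSq

universe v u

section MV

variable {S S' R R' : Type u} [Category.{v} S] [Category.{v} S'] [Category.{v} R] [Category.{v} R']
    [Preadditive S] [Preadditive S'] [Preadditive R] [Preadditive R']
    [HasZeroObject S] [HasZeroObject S'] [HasZeroObject R] [HasZeroObject R']
    [HasShift S ℤ] [HasShift S' ℤ] [HasShift R ℤ] [HasShift R' ℤ]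
    [∀ n : ℤ, (shiftFunctor S n).Additive] [∀ n : ℤ, (shiftFunctor S' n).Additive]
    [∀ n : ℤ, (shiftFunctor R n).Additive] [∀ n : ℤ, (shiftFunctor R' n).Additive]
    [Pretriangulated S] [Pretriangulated S'] [Pretriangulated R] [Pretriangulated R']
    (q : W4c3perfectstacks.MVSq S S' R R')
    [q.jst.CommShift ℤ] [q.fst.CommShift ℤ] [q.jpst.CommShift ℤ] [q.gst.CommShift ℤ]
    [q.jst.IsTriangulated] [q.fst.IsTriangulated] [q.jpst.IsTriangulated] [q.gst.IsTriangulated]

lemma fls_additive : q.fls.Additive := q.adjF.right_adjoint_additive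
lemma jls_additive : q.jls.Additive := q.adjJ.right_adjoint_additive
lemma jpls_additive : q.jpls.Additive := q.adjJp.right_adjoint_additive
lemma gls_additive : q.gls.Additive := q.adjG.right_adjoint_additive

theorem mv_descent_generation
    (hbc : ∀ M : S', IsIso (q.bcApp M))
    (fuc : S ⥤ S') (adjX : q.fls ⊣ fuc)
    (hX : ∀ N : S, IsZero (q.jst.obj N) → IsZero (q.jpst.obj (fuc.obj N)))
    (hcons : ∀ N : S, IsZero (fuc.obj N) → IsZero N)
    {ι : Type v} (B' : ι → S') (hB'ker : ∀ b, IsZero (q.jpst.obj (B' b)))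
    (hB'gen : ∀ M : S', IsZero (q.jpst.obj M) →
      (∀ (b : ι) (n : ℤ) (g : (B' b)⟦n⟧ ⟶ M), g = 0) → IsZero M) :
    (∀ b, IsZero (q.jst.obj (q.fls.obj (B' b)))) ∧
      ∀ N : S, IsZero (q.jst.obj N) →
        (∀ (b : ι) (n : ℤ) (g : (q.fls.obj (B' b))⟦n⟧ ⟶ N), g = 0) → IsZero N := by
  have := fls_additive q
  have := gls_additive q
  have : fuc.Additive := adjX.right_adjoint_additive
  let _ := q.adjF.rightAdjointCommShift ℤ
  constructor
  · intro b
    have := hbc (B' b)
    exact IsZero.of_iso (q.gls.map_isZero (hB'ker b)) (asIso (q.bcApp (B' b)))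
  · intro N hN hg
    apply hcons
    apply hB'gen _ (hX N hN)
    intro b n g
    have h1 := hg b n (((q.fls.commShiftIso n).app (B' b)).inv ≫ (adjX.homEquiv _ _).symm g)
    have h2 : (adjX.homEquiv _ _).symm g = 0 := by
      rw [← cancel_epi ((q.fls.commShiftIso n).app (B' b)).inv, h1, comp_zero]
    have h3 := congrArg (adjX.homEquiv _ _) h2
    rw [Equiv.apply_symm_apply] at h3
    rw [h3, Adjunction.homEquiv_apply, Functor.map_zero, comp_zero]

end MV

end Groth.Agent.Lib.helper27
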