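import Mathlib
import Groth.Prelude.Def_W4c3perfectstacksMV
import Groth.Agent.Lib.Helper27.MV

set_option linter.unusedSectionVars false

namespace Groth.Agent.Lib.helper27

open CategoryTheory Limits Pretriangulated W4c3perfectstacks W4c3perfectstacks.MVSq

universe v u

section MV2

variable {S S' R R' : Type u} [Category.{v} S] [Category.{v} S'] [Category.{v} R] [Category.{v} R']
    [Preadditive S] [Preadditive S'] [Preadditive R] [Preadditive R']
    [HasZeroObject S] [HasZeroObject S'] [HasZeroObject R] [HasZeroObject R']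
    [HasShift S ℤ] [HasShift S' ℤ] [HasShift R ℤ] [HasShift R' ℤ]
    [∀ n : ℤ, (shiftFunctor S n).Additive] [∀ n : ℤ, (shiftFunctor S' n).Additive]
    [∀ n : ℤ, (shiftFunctor R n).Additive] [∀ n : ℤ, (shiftFunctor R' n).Additive]
    [Pretriangulated S] [Pretriangulated S'] [Pretriangulated R] [Pretriangulated R']
    (q : W4c3perfectstacks.MVSq S S' R R')
    [q.jst.CommShift ℤ] [q.fst.CommShift ℤ] [q.jpst.CommShift ℤ] [q.gst.CommShift ℤ]
    [q.jst.IsTriangulated] [q.fst.IsTriangulated] [q.jpst.IsTriangulated] [q.gst.IsTriangulated]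

/-- CommShift structures on the right adjoints -/
@[instance_reducible]
noncomputable def flsCommShift : q.fls.CommShift ℤ := q.adjF.rightAdjointCommShift ℤ
@[instance_reducible]
noncomputable def jlsCommShift : q.jls.CommShift ℤ := q.adjJ.rightAdjointCommShift ℤ
@[instance_reducible]
noncomputable def jplsCommShift : q.jpls.CommShift ℤ := q.adjJp.rightAdjointCommShift ℤ
@[instance_reducible]
noncomputable def glsCommShift : q.gls.CommShift ℤ := q.adjG.rightAdjointCommShift ℤ

attribute [local instance] flsCommShift jlsCommShift jplsCommShift glsCommShift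

lemma adjF_commShift : q.adjF.CommShift ℤ := q.adjF.commShift_of_leftAdjoint ℤ
lemma adjJ_commShift : q.adjJ.CommShift ℤ := q.adjJ.commShift_of_leftAdjoint ℤ
lemma adjJp_commShift : q.adjJp.CommShift ℤ := q.adjJp.commShift_of_leftAdjoint ℤ
lemma adjG_commShift : q.adjG.CommShift ℤ := q.adjG.commShift_of_leftAdjoint ℤ

attribute [local instance] adjF_commShift adjJ_commShift adjJp_commShift adjG_commShift

lemma fls_isTriangulated : q.fls.IsTriangulated := q.adjF.isTriangulated_rightAdjoint
lemma jls_isTriangulated : q.jls.IsTriangulated := q.adjJ.isTriangulated_rightAdjoint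
lemma jpls_isTriangulated : q.jpls.IsTriangulated := q.adjJp.isTriangulated_rightAdjoint
lemma gls_isTriangulated : q.gls.IsTriangulated := q.adjG.isTriangulated_rightAdjoint

attribute [local instance] fls_isTriangulated jls_isTriangulated jpls_isTriangulated
  gls_isTriangulated

variable (hq : q.IsMV)

include hq in
lemma isIso_counitJ_app (P : R) : IsIso (q.adjJ.counit.app P) := by
  have := hq.isIso_counitJ
  infer_instance

include hq in
lemma isIso_counitJp_app (P : R') : IsIso (q.adjJp.counit.app P) := by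
  have := hq.isIso_counitJp
  infer_instance

include hq in
/-- `j^*` of the unit of `j` is an isomorphism -/
lemma isIso_jst_map_unitJ (N : S) : IsIso (q.jst.map (q.adjJ.unit.app N)) := by
  have := isIso_counitJ_app q hq (q.jst.obj N)
  have h := q.adjJ.left_triangle_components N
  have : q.jst.map (q.adjJ.unit.app N) = inv (q.adjJ.counit.app (q.jst.obj N)) := by
    rw [← cancel_mono (q.adjJ.counit.app (q.jst.obj N)), h, IsIso.inv_hom_id]
    rfl
  rw [this]
  infer_instance

/-- maps from the kernel of `j^*` to `j_* P` vanish -/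
lemma eq_zero_of_isZero_jst {Z : S} (hZ : IsZero (q.jst.obj Z)) {P : R} (x : Z ⟶ q.jls.obj P) :
    x = 0 := by
  have := jls_additive q
  have h : (q.adjJ.homEquiv Z P).symm x = 0 := hZ.eq_of_src _ _
  have := congrArg (q.adjJ.homEquiv Z P) h
  rw [Equiv.apply_symm_apply] at this
  rw [this, Adjunction.homEquiv_apply, Functor.map_zero, comp_zero]

include hq in
/-- Lemma U: maps into `f_* f^* j_* P` are detected by `j^*`. -/
lemma eq_zero_of_jst_map_eq_zero {T : S} {P : R} (x : T ⟶ q.fls.obj (q.fst.obj (q.jls.obj P)))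
    (hx : q.jst.map x = 0) : x = 0 := by
  have := fls_additive q
  have := jpls_additive q
  have hbc2 := hq.isIso_bc2App P
  -- x♭
  set xb := (q.adjF.homEquiv _ _).symm x with hxb
  set y := xb ≫ q.bc2App P with hy
  set yb := (q.adjJp.homEquiv _ _).symm y with hyb
  have h1 : q.jpst.map (q.fst.map x) = 0 := by
    have nat := q.e.hom.naturality x
    dsimp at nat
    have : q.jpst.map (q.fst.map x) = q.e.inv.app T ≫ q.gst.map (q.jst.map x) ≫ q.e.hom.app _ := by
      rw [nat, Iso.inv_hom_id_app_assoc]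
    rw [this, hx, Functor.map_zero, zero_comp, comp_zero]
  have h2 : yb = 0 := by
    rw [hyb, Adjunction.homEquiv_symm_apply, hy, hxb, Adjunction.homEquiv_symm_apply,
      Functor.map_comp, Functor.map_comp, h1, zero_comp, zero_comp, zero_comp]
  have h3 : y = 0 := by
    have := congrArg (q.adjJp.homEquiv _ _) h2
    rw [hyb, Equiv.apply_symm_apply] at this
    rw [this, Adjunction.homEquiv_apply, Functor.map_zero, comp_zero]
  have h4 : xb = 0 := by
    rw [← cancel_mono (q.bc2App P), zero_comp]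
    exact h3
  have := congrArg (q.adjF.homEquiv _ _) h4
  rw [hxb, Equiv.apply_symm_apply] at this
  rw [this, Adjunction.homEquiv_apply, Functor.map_zero, comp_zero]

include hq in
/-- Lemma U'': maps from the kernel of `j^*` into `f_* f^* j_* P` vanish. -/
lemma eq_zero_of_isZero_jst' {Z : S} (hZ : IsZero (q.jst.obj Z)) {P : R}
    (x : Z ⟶ q.fls.obj (q.fst.obj (q.jls.obj P))) : x = 0 :=
  eq_zero_of_jst_map_eq_zero q hq x (hZ.eq_of_src _ _)

/-- the kernel of `j^*` is stable under shifts -/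
lemma isZero_jst_shift {Z : S} (hZ : IsZero (q.jst.obj Z)) (k : ℤ) :
    IsZero (q.jst.obj (Z⟦k⟧)) :=
  IsZero.of_iso ((shiftFunctor R k).map_isZero hZ) ((q.jst.commShiftIso k).app Z)

include hq in
/-- (**): for `Z` killed by `j^*`, composition with the unit of `f` is bijective on `Hom(Z, N)`. -/
lemma bijective_comp_unitF {Z : S} (hZ : IsZero (q.jst.obj Z)) (N : S) :
    Function.Bijective (fun g : Z ⟶ N => g ≫ q.adjF.unit.app N) := by
  obtain ⟨Γ, γ, d, hT⟩ := distinguished_cocone_triangle₁ (q.adjJ.unit.app N)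
  have hΓ : IsZero (q.jst.obj Γ) := by
    have h1 := q.jst.map_distinguished _ hT
    have := isIso_jst_map_unitJ q hq N
    exact (Triangle.isZero₁_iff_isIso₂ _ h1).2 this
  have hηΓ := hq.isIso_unitF Γ hΓ
  have hGT := q.fls.map_distinguished _ (q.fst.map_distinguished _ hT)
  have nat : γ ≫ q.adjF.unit.app N = q.adjF.unit.app Γ ≫ q.fls.map (q.fst.map γ) :=
    q.adjF.unit.naturality γ
  have inj0 : ∀ g : Z ⟶ N, g ≫ q.adjF.unit.app N = 0 → g = 0 := by
    intro g hg
    have h1 : g ≫ q.adjJ.unit.app N = 0 := eq_zero_of_isZero_jst q hZ _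
    obtain ⟨g', hg'⟩ : ∃ g' : Z ⟶ Γ, g = g' ≫ γ := Triangle.coyoneda_exact₂ _ hT g h1
    have h2 : (g' ≫ q.adjF.unit.app Γ) ≫ q.fls.map (q.fst.map γ) = 0 := by
      rw [Category.assoc, ← nat, ← Category.assoc, ← hg', hg]
    obtain ⟨g₂, hg₂⟩ : ∃ g₂ : Z⟦(1 : ℤ)⟧ ⟶ q.fls.obj (q.fst.obj (q.jls.obj (q.jst.obj N))),
        (g' ≫ q.adjF.unit.app Γ)⟦(1 : ℤ)⟧' = g₂ ≫ _ :=
      Triangle.coyoneda_exact₁ _ hGT ((g' ≫ q.adjF.unit.app Γ)⟦(1 : ℤ)⟧') (by
        change (g' ≫ q.adjF.unit.app Γ)⟦(1 : ℤ)⟧' ≫ (q.fls.map (q.fst.map γ))⟦(1 : ℤ)⟧' = 0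
        rw [← Functor.map_comp, h2, Functor.map_zero])
    have h3 : g₂ = 0 := eq_zero_of_isZero_jst' q hq (isZero_jst_shift q hZ 1) g₂
    rw [h3, zero_comp] at hg₂
    have h4 : g' ≫ q.adjF.unit.app Γ = 0 :=
      (shiftFunctor S (1 : ℤ)).map_injective (by rw [hg₂, Functor.map_zero])
    have h5 : g' = 0 := by
      rw [← cancel_mono (q.adjF.unit.app Γ), h4, zero_comp]
    rw [hg', h5, zero_comp]
  constructor
  · intro g₁ g₂ h
    dsimp at h
    have := inj0 (g₁ - g₂) (by rw [Preadditive.sub_comp, h, sub_self])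
    exact sub_eq_zero.1 this
  · intro z
    have h1 : z ≫ q.fls.map (q.fst.map (q.adjJ.unit.app N)) = 0 :=
      eq_zero_of_isZero_jst' q hq hZ _
    obtain ⟨z', hz'⟩ : ∃ z' : Z ⟶ q.fls.obj (q.fst.obj Γ), z = z' ≫ q.fls.map (q.fst.map γ) :=
      Triangle.coyoneda_exact₂ _ hGT z h1
    refine ⟨z' ≫ inv (q.adjF.unit.app Γ) ≫ γ, ?_⟩
    dsimp
    rw [Category.assoc, Category.assoc, nat, IsIso.inv_hom_id_assoc, hz']

include hq in
lemma isZero_jst_fls {M : S'} (hM : IsZero (q.jpst.obj M)) : IsZero (q.jst.obj (q.fls.obj M)) := by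
  have := gls_additive q
  have := hq.isIso_bcApp M
  exact IsZero.of_iso (q.gls.map_isZero hM) (asIso (q.bcApp M))

include hq in
/-- S16409 -/
theorem bijective_fst_map {M : S'} (hM : IsZero (q.jpst.obj M)) (N : S) :
    Function.Bijective (fun g : q.fls.obj M ⟶ N => q.fst.map g) := by
  have h1 := bijective_comp_unitF q hq (isZero_jst_fls q hq hM) N
  have h2 := (q.adjF.homEquiv (q.fls.obj M) (q.fst.obj N)).symm.bijective
  have : (fun g : q.fls.obj M ⟶ N => q.fst.map g) =
      (q.adjF.homEquiv (q.fls.obj M) (q.fst.obj N)).symm ∘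
        (fun g : q.fls.obj M ⟶ N => g ≫ q.adjF.unit.app N) := by
    funext g
    dsimp
    rw [Adjunction.homEquiv_symm_apply, Functor.map_comp, Category.assoc,
      q.adjF.left_triangle_components, Category.comp_id]
  rw [this]
  exact h2.comp h1

end MV2

end Groth.Agent.Lib.helper27
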