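import Mathlib
import Groth.Prelude.Def_W4c3perfectstacksMV
import Groth.Agent.Lib.Helper27.MV2

set_option linter.unusedSectionVars false

namespace Groth.Agent.Lib.helper27

open CategoryTheory Limits Pretriangulated W4c3perfectstacks W4c3perfectstacks.MVSq

universe v u

section MV3

variable {S S' R R' : Type u} [Category.{v} S] [Category.{v} S'] [Category.{v} R] [Category.{v} R']
    [Preadditive S] [Preadditive S'] [Preadditive R] [Preadditive R']
    [HasZeroObject S] [HasZeroObject S'] [HasZeroObject R] [HasZeroObject R']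
    [HasShift S ℤ] [HasShift S' ℤ] [HasShift R ℤ] [HasShift R' ℤ]
    [∀ n : ℤ, (shiftFunctor S n).Additive] [∀ n : ℤ, (shiftFunctor S' n).Additive]
    [∀ n : ℤ, (shiftFunctor R n).Additive] [∀ n : ℤ, (shiftFunctor R' n).Additive]
    [Pretriangulated S] [Pretriangulated S'] [Pretriangulated R] [Pretriangulated R']
    (q : W4c3perfectstacks.MVSq S S' R R')
    [q.jst.CommShift ℤ] [q.fst.CommShift ℤ] [q.jpst.CommShift ℤ] [q.gst.CommShift ℤ]
    [q.jst.IsTriangulated] [q.fst.IsTriangulated] [q.jpst.IsTriangulated] [q.gst.IsTriangulated]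

attribute [local instance] flsCommShift jlsCommShift jplsCommShift glsCommShift
attribute [local instance] adjF_commShift adjJ_commShift adjJp_commShift adjG_commShift
attribute [local instance] fls_isTriangulated jls_isTriangulated jpls_isTriangulated
  gls_isTriangulated

/-- first map of the Mayer–Vietoris triangle -/
noncomputable abbrev mvM1 (N : S) : N ⟶ q.jls.obj (q.jst.obj N) ⊞ q.fls.obj (q.fst.obj N) :=
  biprod.lift (q.adjJ.unit.app N) (q.adjF.unit.app N)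

/-- second map of the Mayer–Vietoris triangle -/
noncomputable abbrev mvM2 (N : S) : q.jls.obj (q.jst.obj N) ⊞ q.fls.obj (q.fst.obj N) ⟶
    q.fls.obj (q.fst.obj (q.jls.obj (q.jst.obj N))) :=
  biprod.desc (q.adjF.unit.app (q.jls.obj (q.jst.obj N)))
    (-(q.fls.map (q.fst.map (q.adjJ.unit.app N))))

lemma mvM1_M2 (N : S) : mvM1 q N ≫ mvM2 q N = 0 := by
  have nat := q.adjF.unit.naturality (q.adjJ.unit.app N)
  dsimp at nat
  rw [biprod.lift_desc, Preadditive.comp_neg, nat, add_neg_cancel]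

variable (hq : q.IsMV)

include hq in
/-- `j^*` kills the connecting map of any Mayer–Vietoris triangle -/
lemma jst_map_mv_d (N : S) (d : q.fls.obj (q.fst.obj (q.jls.obj (q.jst.obj N))) ⟶ N⟦(1 : ℤ)⟧)
    (h : Triangle.mk (mvM1 q N) (mvM2 q N) d ∈ distTriang S) : q.jst.map d = 0 := by
  have h1 := q.jst.map_distinguished _ h
  have hiso := isIso_jst_map_unitJ q hq N
  have hm : Mono (q.jst.map (mvM1 q N)) := by
    have : q.jst.map (mvM1 q N) ≫ q.jst.map biprod.fst = q.jst.map (q.adjJ.unit.app N) := by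
      rw [← Functor.map_comp, biprod.lift_fst]
    have : Mono (q.jst.map (mvM1 q N) ≫ q.jst.map biprod.fst) := by
      rw [this]; infer_instance
    exact mono_of_mono _ (q.jst.map biprod.fst)
  have h3 := (Triangle.mor₃_eq_zero_iff_mono₁ _ h1).2 hm
  change q.jst.map d ≫ (q.jst.commShiftIso (1 : ℤ)).hom.app N = 0 at h3
  rw [← cancel_mono ((q.jst.commShiftIso (1 : ℤ)).hom.app N), h3, zero_comp]

include hq in
/-- S16408: naturality of the connecting maps -/
theorem mv_d_natural (N₁ N₂ : S) (φ : N₁ ⟶ N₂)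
    (d₁ : q.fls.obj (q.fst.obj (q.jls.obj (q.jst.obj N₁))) ⟶ N₁⟦(1 : ℤ)⟧)
    (d₂ : q.fls.obj (q.fst.obj (q.jls.obj (q.jst.obj N₂))) ⟶ N₂⟦(1 : ℤ)⟧)
    (h₁ : Triangle.mk (mvM1 q N₁) (mvM2 q N₁) d₁ ∈ distTriang S)
    (h₂ : Triangle.mk (mvM1 q N₂) (mvM2 q N₂) d₂ ∈ distTriang S) :
    d₁ ≫ (shiftFunctor S (1 : ℤ)).map φ = q.fls.map (q.fst.map (q.jls.map (q.jst.map φ))) ≫ d₂ := by
  have := fls_additive q
  have natJ := q.adjJ.unit.naturality φ
  have natF := q.adjF.unit.naturality φ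
  have natFJ := q.adjF.unit.naturality (q.jls.map (q.jst.map φ))
  dsimp at natJ natF natFJ
  let ψ : q.jls.obj (q.jst.obj N₁) ⊞ q.fls.obj (q.fst.obj N₁) ⟶
      q.jls.obj (q.jst.obj N₂) ⊞ q.fls.obj (q.fst.obj N₂) :=
    biprod.map (q.jls.map (q.jst.map φ)) (q.fls.map (q.fst.map φ))
  have comm : mvM1 q N₁ ≫ ψ = φ ≫ mvM1 q N₂ := by
    apply biprod.hom_ext
    · rw [Category.assoc, biprod.map_fst, biprod.lift_fst_assoc, Category.assoc, biprod.lift_fst,
        natJ]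
    · rw [Category.assoc, biprod.map_snd, biprod.lift_snd_assoc, Category.assoc, biprod.lift_snd,
        natF]
  obtain ⟨θ, hθ1, hθ2⟩ : ∃ θ : q.fls.obj (q.fst.obj (q.jls.obj (q.jst.obj N₁))) ⟶
      q.fls.obj (q.fst.obj (q.jls.obj (q.jst.obj N₂))),
      mvM2 q N₁ ≫ θ = ψ ≫ mvM2 q N₂ ∧ d₁ ≫ φ⟦(1 : ℤ)⟧' = θ ≫ d₂ :=
    complete_distinguished_triangle_morphism _ _ h₁ h₂ φ ψ comm
  have hψ : ψ ≫ mvM2 q N₂ = mvM2 q N₁ ≫ q.fls.map (q.fst.map (q.jls.map (q.jst.map φ))) := by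
    apply biprod.hom_ext'
    · rw [biprod.inl_map_assoc, biprod.inl_desc, biprod.inl_desc_assoc, natFJ]
    · rw [biprod.inr_map_assoc, biprod.inr_desc, biprod.inr_desc_assoc, Preadditive.comp_neg,
        Preadditive.neg_comp, ← Functor.map_comp, ← Functor.map_comp, ← Functor.map_comp,
        ← Functor.map_comp, natJ]
  have h0 : mvM2 q N₁ ≫ (θ - q.fls.map (q.fst.map (q.jls.map (q.jst.map φ)))) = 0 := by
    rw [Preadditive.comp_sub, hθ1, hψ, sub_self]
  obtain ⟨κ, hκ⟩ : ∃ κ : N₁⟦(1 : ℤ)⟧ ⟶ q.fls.obj (q.fst.obj (q.jls.obj (q.jst.obj N₂))),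
      θ - q.fls.map (q.fst.map (q.jls.map (q.jst.map φ))) = d₁ ≫ κ :=
    Triangle.yoneda_exact₃ _ h₁ _ h0
  have hz : d₁ ≫ κ = 0 := by
    apply eq_zero_of_jst_map_eq_zero q hq
    rw [Functor.map_comp, jst_map_mv_d q hq N₁ d₁ h₁, zero_comp]
  rw [hz, sub_eq_zero] at hκ
  rw [hθ2, hκ]

end MV3

end Groth.Agent.Lib.helper27
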