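import Mathlib
import Groth.Prelude.Def_W4c3perfectstacksMV
import Groth.Agent.Lib.Helper27.MV3

set_option linter.unusedSectionVars false

namespace Groth.Agent.Lib.helper27

open CategoryTheory Limits Pretriangulated W4c3perfectstacks W4c3perfectstacks.MVSq

universe v u

section split

variable {C : Type u} [Category.{v} C] [Preadditive C] [HasZeroObject C] [HasShift C ℤ]
  [∀ n : ℤ, (shiftFunctor C n).Additive] [Pretriangulated C]

/-- In a distinguished triangle `P ⟶ M ⟶ W` with `M = A ⊕ B` such that `B ⟶ M ⟶ W` is an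
isomorphism, the composite `P ⟶ M ⟶ A` is an isomorphism. -/
lemma isIso_comp_of_split {P M W A B : C} (p : P ⟶ M) (m : M ⟶ W) (δ : W ⟶ P⟦(1 : ℤ)⟧)
    (hT : Triangle.mk p m δ ∈ distTriang C)
    (ι' : A ⟶ M) (ι : B ⟶ M) (π : M ⟶ A) (π' : M ⟶ B)
    (h1 : ι' ≫ π = 𝟙 A) (h2 : ι ≫ π = 0) (h3 : π ≫ ι' + π' ≫ ι = 𝟙 M)
    (hβ : IsIso (ι ≫ m)) : IsIso (p ≫ π) := by
  set β := ι ≫ m with hβdef
  have hpm : p ≫ m = 0 := comp_distTriang_mor_zero₁₂ _ hT
  have hmδ : m ≫ δ = 0 := comp_distTriang_mor_zero₂₃ _ hT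
  have hδ : δ = 0 := by
    have : (inv β ≫ ι) ≫ m = 𝟙 W := by
      rw [Category.assoc, ← hβdef, IsIso.inv_hom_id]
    calc δ = 𝟙 W ≫ δ := (Category.id_comp _).symm
      _ = 0 := by rw [← this, Category.assoc, hmδ, comp_zero]
  have hmono : Mono p := (Triangle.mor₃_eq_zero_iff_mono₁ _ hT).1 hδ
  let a : A ⟶ M := ι' - ι' ≫ m ≫ inv β ≫ ι
  have ha : a ≫ m = 0 := by
    dsimp [a]
    rw [Preadditive.sub_comp, Category.assoc, Category.assoc, Category.assoc, ← hβdef,
      IsIso.inv_hom_id, Category.comp_id, sub_self]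
  obtain ⟨t, ht⟩ : ∃ t : A ⟶ P, a = t ≫ p := Triangle.coyoneda_exact₂ _ hT a ha
  have haπ : a ≫ π = 𝟙 A := by
    dsimp [a]
    rw [Preadditive.sub_comp, h1, Category.assoc, Category.assoc, Category.assoc, h2, comp_zero,
      comp_zero, comp_zero, sub_zero]
  have hpπ' : p ≫ π' = -(p ≫ π ≫ ι' ≫ m ≫ inv β) := by
    have : p ≫ π ≫ ι' ≫ m + p ≫ π' ≫ β = 0 := by
      calc p ≫ π ≫ ι' ≫ m + p ≫ π' ≫ β = p ≫ (π ≫ ι' + π' ≫ ι) ≫ m := by
            rw [hβdef]; simp only [Preadditive.add_comp, Preadditive.comp_add, Category.assoc]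
        _ = 0 := by rw [h3, Category.id_comp, hpm]
    have h' : p ≫ π' ≫ β = -(p ≫ π ≫ ι' ≫ m) := eq_neg_of_add_eq_zero_right this
    calc p ≫ π' = (p ≫ π' ≫ β) ≫ inv β := by simp
      _ = -(p ≫ π ≫ ι' ≫ m ≫ inv β) := by rw [h']; simp
  refine ⟨⟨t, ?_, ?_⟩⟩
  · rw [← cancel_mono p, Category.assoc, Category.assoc, ← ht, Category.id_comp]
    calc p ≫ π ≫ a = p ≫ π ≫ ι' + (p ≫ π') ≫ ι := by
          rw [hpπ']; dsimp [a]; simp only [Preadditive.comp_sub, Preadditive.neg_comp, Category.assoc]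
          abel
      _ = p ≫ (π ≫ ι' + π' ≫ ι) := by simp only [Preadditive.comp_add, Category.assoc]
      _ = p := by rw [h3, Category.comp_id]
  · rw [← Category.assoc, ← ht, haπ]

end split

section MV4

variable {S S' R R' : Type u} [Category.{v} S] [Category.{v} S'] [Category.{v} R] [Category.{v} R']
    [Preadditive S] [Preadditive S'] [Preadditive R] [Preadditive R']
    [HasZeroObject S] [HasZeroObject S'] [HasZeroObject R] [HasZeroObject R']
    [HasShift S ℤ] [HasShift S' ℤ] [HasShift R ℤ] [HasShift R' ℤ]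
    [∀ n : ℤ, (shiftFunctor S n).Additive] [∀ n : ℤ, (shiftFunctor S' n).Additive]
    [∀ n : ℤ, (shiftFunctor R n).Additive] [∀ n : ℤ, (shiftFunctor R' n).Additive]
    [Pretriangulated S] [Pretriangulated S'] [Pretriangulated R] [Pretriangulated R']
    (q : W4c3perfectstacks.MVSq S S' R R')
    [q.jst.CommShift ℤ] [q.fst.CommShift ℤ] [q.jpst.CommShift ℤ] [q.gst.CommShift ℤ]
    [q.jst.IsTriangulated] [q.fst.IsTriangulated] [q.jpst.IsTriangulated] [q.gst.IsTriangulated]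

attribute [local instance] flsCommShift jlsCommShift jplsCommShift glsCommShift
attribute [local instance] adjF_commShift adjJ_commShift adjJp_commShift adjG_commShift
attribute [local instance] fls_isTriangulated jls_isTriangulated jpls_isTriangulated
  gls_isTriangulated

/-- naturality of the base change map -/
lemma bcApp_natural {M M' : S'} (m : M ⟶ M') :
    q.jst.map (q.fls.map m) ≫ q.bcApp M' = q.bcApp M ≫ q.gls.map (q.jpst.map m) := by
  have n1 := q.adjG.unit.naturality (q.jst.map (q.fls.map m))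
  have n2 := q.e.hom.naturality (q.fls.map m)
  have n3 := q.adjF.counit.naturality m
  dsimp at n1 n2 n3
  dsimp only [bcApp]
  rw [reassoc_of% n1]
  simp only [Category.assoc, ← Functor.map_comp]
  rw [reassoc_of% n2, ← Functor.map_comp, n3]

variable (hq : q.IsMV)

include hq in
/-- if `j^* φ` is an isomorphism then so is `j^* f_* f^* φ` -/
lemma isIso_jst_fls_fst_map {N N' : S} (φ : N ⟶ N') (hφ : IsIso (q.jst.map φ)) :
    IsIso (q.jst.map (q.fls.map (q.fst.map φ))) := by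
  have h1 : IsIso (q.jpst.map (q.fst.map φ)) := by
    have nat := q.e.hom.naturality φ
    dsimp at nat
    have : q.jpst.map (q.fst.map φ) = q.e.inv.app N ≫ q.gst.map (q.jst.map φ) ≫ q.e.hom.app N' := by
      rw [nat, Iso.inv_hom_id_app_assoc]
    rw [this]
    infer_instance
  have := hq.isIso_bcApp (q.fst.obj N)
  have := hq.isIso_bcApp (q.fst.obj N')
  have h2 := bcApp_natural q (q.fst.map φ)
  have : q.jst.map (q.fls.map (q.fst.map φ)) =
      q.bcApp (q.fst.obj N) ≫ q.gls.map (q.jpst.map (q.fst.map φ)) ≫ inv (q.bcApp (q.fst.obj N')) := by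
    rw [← Category.assoc, ← h2, Category.assoc, IsIso.hom_inv_id, Category.comp_id]
  rw [this]
  infer_instance

include hq in
theorem mv_exists (N : S) :
    ∃ d : q.fls.obj (q.fst.obj (q.jls.obj (q.jst.obj N))) ⟶ N⟦(1 : ℤ)⟧,
      Triangle.mk (mvM1 q N) (mvM2 q N) d ∈ distTriang S := by
  have := fls_additive q
  obtain ⟨P, p, δ, hT⟩ := distinguished_cocone_triangle₁ (mvM2 q N)
  obtain ⟨s, hs⟩ : ∃ s : N ⟶ P, mvM1 q N = s ≫ p :=
    Triangle.coyoneda_exact₂ _ hT (mvM1 q N) (mvM1_M2 q N)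
  suffices hiso : IsIso s by
    let es : N ≅ P := asIso s
    refine ⟨δ ≫ (inv s)⟦(1 : ℤ)⟧', isomorphic_distinguished _ hT _
      (Triangle.isoMk _ _ es (Iso.refl _) (Iso.refl _) ?_ ?_ ?_)⟩
    · change mvM1 q N ≫ 𝟙 _ = s ≫ p
      rw [Category.comp_id, hs]
    · change mvM2 q N ≫ 𝟙 _ = 𝟙 _ ≫ mvM2 q N
      rw [Category.comp_id, Category.id_comp]
    · change (δ ≫ (inv s)⟦(1 : ℤ)⟧') ≫ s⟦(1 : ℤ)⟧' = 𝟙 _ ≫ δ
      rw [Category.assoc, ← Functor.map_comp, IsIso.inv_hom_id, CategoryTheory.Functor.map_id,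
        Category.comp_id, Category.id_comp]
  obtain ⟨K, k, κ, hK⟩ := distinguished_cocone_triangle s
  refine (Triangle.isZero₃_iff_isIso₁ _ hK).1 ?_
  change IsZero K
  -- Step A
  have hA : IsIso (q.jst.map s) := by
    have hη := isIso_jst_map_unitJ q hq N
    have hβ : IsIso (q.jst.map (biprod.inr : q.fls.obj (q.fst.obj N) ⟶ _) ≫ q.jst.map (mvM2 q N)) := by
      rw [← Functor.map_comp, biprod.inr_desc, Functor.map_neg]
      have := isIso_jst_fls_fst_map q hq (q.adjJ.unit.app N) hη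
      exact ⟨⟨-inv (q.jst.map (q.fls.map (q.fst.map (q.adjJ.unit.app N)))), by simp, by simp⟩⟩
    have h1 := isIso_comp_of_split (q.jst.map p) (q.jst.map (mvM2 q N)) _
      (q.jst.map_distinguished _ hT)
      (q.jst.map (biprod.inl : q.jls.obj (q.jst.obj N) ⟶ _)) (q.jst.map biprod.inr)
      (q.jst.map biprod.fst) (q.jst.map biprod.snd)
      (by rw [← Functor.map_comp, biprod.inl_fst, CategoryTheory.Functor.map_id])
      (by rw [← Functor.map_comp, biprod.inr_fst, Functor.map_zero])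
      (by rw [← Functor.map_comp, ← Functor.map_comp, ← Functor.map_add, biprod.total,
        CategoryTheory.Functor.map_id]) hβ
    have h2 : q.jst.map s ≫ (q.jst.map p ≫ q.jst.map biprod.fst) =
        q.jst.map (q.adjJ.unit.app N) := by
      rw [← Functor.map_comp, ← Functor.map_comp, ← Category.assoc, ← hs, biprod.lift_fst]
    have : q.jst.map s = q.jst.map (q.adjJ.unit.app N) ≫
        inv (q.jst.map p ≫ q.jst.map biprod.fst) := by
      rw [← h2, Category.assoc, IsIso.hom_inv_id, Category.comp_id]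
    rw [this]
    infer_instance
  have hKj : IsZero (q.jst.obj K) :=
    (Triangle.isZero₃_iff_isIso₁ _ (q.jst.map_distinguished _ hK)).2 hA
  -- Step B
  have hi : ∀ (Z : S) (_ : IsZero (q.jst.obj Z)) (y : Z ⟶ P), ∃ g : Z ⟶ N, y = g ≫ s := by
    intro Z hZ y
    obtain ⟨g, hg⟩ := (bijective_comp_unitF q hq hZ N).2 (y ≫ p ≫ biprod.snd)
    dsimp at hg
    refine ⟨g, ?_⟩
    have hx : (g ≫ s - y) ≫ p = 0 := by
      apply biprod.hom_ext
      · rw [zero_comp]
        exact eq_zero_of_isZero_jst q hZ _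
      · have hs' : s ≫ p ≫ biprod.snd = q.adjF.unit.app N := by
          rw [← Category.assoc, ← hs, biprod.lift_snd]
        rw [zero_comp, Preadditive.sub_comp, Preadditive.sub_comp, Category.assoc, Category.assoc,
          hs', hg, Category.assoc, sub_self]
    obtain ⟨g₂, hg₂⟩ : ∃ g₂ : Z⟦(1 : ℤ)⟧ ⟶ q.fls.obj (q.fst.obj (q.jls.obj (q.jst.obj N))),
        (g ≫ s - y)⟦(1 : ℤ)⟧' = g₂ ≫ δ :=
      Triangle.coyoneda_exact₁ _ hT ((g ≫ s - y)⟦(1 : ℤ)⟧') (by
        change (g ≫ s - y)⟦(1 : ℤ)⟧' ≫ p⟦(1 : ℤ)⟧' = 0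
        rw [← Functor.map_comp, hx, Functor.map_zero])
    have h3 : g₂ = 0 := eq_zero_of_isZero_jst' q hq (isZero_jst_shift q hZ 1) g₂
    rw [h3, zero_comp] at hg₂
    have h4 : g ≫ s - y = 0 :=
      (shiftFunctor S (1 : ℤ)).map_injective (by rw [hg₂, Functor.map_zero])
    exact (sub_eq_zero.1 h4).symm
  have hii : ∀ (Z : S) (_ : IsZero (q.jst.obj Z)) (g : Z ⟶ N), g ≫ s = 0 → g = 0 := by
    intro Z hZ g hg
    apply (bijective_comp_unitF q hq hZ N).1
    dsimp
    have : q.adjF.unit.app N = s ≫ p ≫ biprod.snd := by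
      rw [← Category.assoc, ← hs, biprod.lift_snd]
    rw [this, reassoc_of% hg, zero_comp, zero_comp]
  -- s is mono
  have hinv := inv_rot_of_distTriang _ hK
  have h01 : (Triangle.mk s k κ).invRotate.mor₁ = 0 := by
    apply hii _ (isZero_jst_shift q hKj (-1))
    exact comp_distTriang_mor_zero₁₂ _ hinv
  have hmono : Mono s := (Triangle.mor₁_eq_zero_iff_mono₂ _ hinv).1 h01
  have hκ : κ = 0 := (Triangle.mor₃_eq_zero_iff_mono₁ _ hK).2 hmono
  obtain ⟨y, hy⟩ : ∃ y : K ⟶ P, 𝟙 K = y ≫ k :=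
    Triangle.coyoneda_exact₃ _ hK (𝟙 K) (by
      change 𝟙 K ≫ κ = 0
      rw [hκ, comp_zero])
  obtain ⟨g, hg⟩ := hi K hKj y
  have hsk : s ≫ k = 0 := comp_distTriang_mor_zero₁₂ _ hK
  rw [IsZero.iff_id_eq_zero, hy, hg, Category.assoc, hsk, comp_zero]

include hq in
/-- S16407 -/
theorem mv_existsUnique (N : S) :
    ∃! d : q.fls.obj (q.fst.obj (q.jls.obj (q.jst.obj N))) ⟶ N⟦(1 : ℤ)⟧,
      Triangle.mk (mvM1 q N) (mvM2 q N) d ∈ distTriang S := by
  obtain ⟨d, hd⟩ := mv_exists q hq N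
  refine ⟨d, hd, fun d' hd' => ?_⟩
  have := mv_d_natural q hq N N (𝟙 N) d' d hd' hd
  simpa using this

end MV4

end Groth.Agent.Lib.helper27
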