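import Mathlib
import Groth.Prelude.Def_W4c3perfectstacksMV
import Groth.Prelude.Def_CohDer
import Groth.Agent.Lib.Helper27.MV4
import Groth.Agent.Lib.Helper27.CompactAdj

set_option linter.unusedSectionVars false

namespace Groth.Agent.Lib.helper27

open CategoryTheory Limits Pretriangulated W4c3perfectstacks W4c3perfectstacks.MVSq

universe v u u'

section finsupp

variable {D : Type u} [Category.{v} D] [Preadditive D] [HasZeroObject D] [HasShift D ℤ]
  [∀ n : ℤ, (shiftFunctor D n).Additive] [Pretriangulated D] [HasCoproducts.{v} D]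
  {E : Type u'} [Category.{v} E] [Preadditive E] [HasZeroObject E] [HasShift E ℤ]
  [∀ n : ℤ, (shiftFunctor E n).Additive] [Pretriangulated E] [HasCoproducts.{v} E]

/-- complementary projector -/
noncomputable abbrev sigmaQ {κ : Type v} (X : κ → D) (s : Finset κ) : ∐ X ⟶ ∐ X :=
  𝟙 _ - sigmaP X s

lemma sigmaQ_comp_of_subset {κ : Type v} (X : κ → D) {s t : Finset κ} (h : s ⊆ t) :
    sigmaQ X s ≫ sigmaQ X t = sigmaQ X t := by
  dsimp only [sigmaQ]
  rw [Preadditive.sub_comp, Preadditive.comp_sub, Preadditive.comp_sub]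
  simp only [Category.id_comp, Category.comp_id, sigmaP_comp_of_subset X h]
  abel

/-- finite support of maps from a compact object into the image of a coproduct under a
coproduct preserving additive functor -/
lemma exists_finset_comp_map_sigmaQ (Φ : D ⥤ E) [Φ.Additive]
    [∀ κ : Type v, PreservesColimitsOfShape (Discrete κ) Φ]
    {K : E} (hK : CohDer.IsCompactObject K) {κ : Type v} (X : κ → D) (ξ : K ⟶ Φ.obj (∐ X)) :
    ∃ s : Finset κ, ∀ t : Finset κ, s ⊆ t → ξ ≫ Φ.map (sigmaQ X t) = 0 := by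
  have hσ : IsIso (sigmaComparison Φ X) := inferInstance
  obtain ⟨s, hs⟩ := (isCompactObject_iff K).1 hK κ _ (ξ ≫ inv (sigmaComparison Φ X))
  refine ⟨s, fun t hst => ?_⟩
  have h1 : ξ ≫ Φ.map (sigmaP X s) = ξ := by
    have : ξ = (ξ ≫ inv (sigmaComparison Φ X)) ≫ sigmaComparison Φ X := by
      rw [Category.assoc, IsIso.inv_hom_id, Category.comp_id]
    conv_lhs => rw [this]
    rw [Category.assoc, sigmaComparison_map_sigmaP, ← Category.assoc, hs, ← this]
  have h2 : ξ ≫ Φ.map (sigmaP X t) = ξ := by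
    conv_lhs => rw [← h1]
    rw [Category.assoc, ← Φ.map_comp, sigmaP_comp_of_subset X hst, h1]
  dsimp only [sigmaQ]
  rw [Functor.map_sub, CategoryTheory.Functor.map_id, Preadditive.comp_sub, Category.comp_id, h2,
    sub_self]

end finsupp

section MV5

variable {S S' R R' : Type u} [Category.{v} S] [Category.{v} S'] [Category.{v} R] [Category.{v} R']
    [Preadditive S] [Preadditive S'] [Preadditive R] [Preadditive R']
    [HasZeroObject S] [HasZeroObject S'] [HasZeroObject R] [HasZeroObject R']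
    [HasShift S ℤ] [HasShift S' ℤ] [HasShift R ℤ] [HasShift R' ℤ]
    [∀ n : ℤ, (shiftFunctor S n).Additive] [∀ n : ℤ, (shiftFunctor S' n).Additive]
    [∀ n : ℤ, (shiftFunctor R n).Additive] [∀ n : ℤ, (shiftFunctor R' n).Additive]
    [Pretriangulated S] [Pretriangulated S'] [Pretriangulated R] [Pretriangulated R']
    (q : W4c3perfectstacks.MVSq S S' R R')
    [q.jst.CommShift ℤ] [q.fst.CommShift ℤ] [q.jpst.CommShift ℤ] [q.gst.CommShift ℤ]
    [q.jst.IsTriangulated] [q.fst.IsTriangulated] [q.jpst.IsTriangulated] [q.gst.IsTriangulated]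

attribute [local instance] flsCommShift jlsCommShift jplsCommShift glsCommShift
attribute [local instance] adjF_commShift adjJ_commShift adjJp_commShift adjG_commShift
attribute [local instance] fls_isTriangulated jls_isTriangulated jpls_isTriangulated
  gls_isTriangulated

/-- naturality of the exchange map -/
lemma bc2App_natural {P P' : R} (p : P ⟶ P') :
    q.fst.map (q.jls.map p) ≫ q.bc2App P' = q.bc2App P ≫ q.jpls.map (q.gst.map p) := by
  have n1 := q.adjJp.unit.naturality (q.fst.map (q.jls.map p))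
  have n2 := q.e.inv.naturality (q.jls.map p)
  have n3 := q.adjJ.counit.naturality p
  dsimp at n1 n2 n3
  dsimp only [bc2App]
  rw [reassoc_of% n1]
  simp only [Category.assoc, ← Functor.map_comp]
  rw [reassoc_of% n2, ← Functor.map_comp, n3]

/-- passing from maps into `f_* f^* j_* P` to maps `g^* j^* T ⟶ g^* P` -/
noncomputable def adj4 (T : S) (P : R) (γ : T ⟶ q.fls.obj (q.fst.obj (q.jls.obj P))) :
    q.gst.obj (q.jst.obj T) ⟶ q.gst.obj P :=
  q.e.hom.app T ≫ (q.adjJp.homEquiv _ _).symm ((q.adjF.homEquiv _ _).symm γ ≫ q.bc2App P)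

lemma adj4_natural {T : S} {P P' : R} (γ : T ⟶ q.fls.obj (q.fst.obj (q.jls.obj P))) (p : P ⟶ P') :
    adj4 q T P' (γ ≫ q.fls.map (q.fst.map (q.jls.map p))) = adj4 q T P γ ≫ q.gst.map p := by
  dsimp only [adj4]
  rw [Adjunction.homEquiv_naturality_right_symm, Category.assoc, bc2App_natural,
    ← Category.assoc ((q.adjF.homEquiv _ _).symm γ), Adjunction.homEquiv_naturality_right_symm,
    Category.assoc]

variable (hq : q.IsMV)

include hq in
lemma eq_zero_of_adj4_eq_zero {T : S} {P : R} (γ : T ⟶ q.fls.obj (q.fst.obj (q.jls.obj P)))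
    (h : adj4 q T P γ = 0) : γ = 0 := by
  have := fls_additive q
  have := jpls_additive q
  have hbc2 := hq.isIso_bc2App P
  dsimp only [adj4] at h
  have h1 : (q.adjJp.homEquiv _ _).symm ((q.adjF.homEquiv _ _).symm γ ≫ q.bc2App P) = 0 := by
    rw [← cancel_epi (q.e.hom.app T), h, comp_zero]
  have h2 : (q.adjF.homEquiv _ _).symm γ ≫ q.bc2App P = 0 := by
    have := congrArg (q.adjJp.homEquiv _ _) h1
    rw [Equiv.apply_symm_apply] at this
    rw [this, Adjunction.homEquiv_apply, Functor.map_zero, comp_zero]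
  have h3 : (q.adjF.homEquiv _ _).symm γ = 0 := by
    rw [← cancel_mono (q.bc2App P), h2, zero_comp]
  have := congrArg (q.adjF.homEquiv _ _) h3
  rw [Equiv.apply_symm_apply] at this
  rw [this, Adjunction.homEquiv_apply, Functor.map_zero, comp_zero]

variable [HasCoproducts.{v} S] [HasCoproducts.{v} S'] [HasCoproducts.{v} R] [HasCoproducts.{v} R']

include hq in
/-- S16411 -/
theorem mv_compact (N : S) (hU : CohDer.IsCompactObject (q.jst.obj N))
    (hX' : CohDer.IsCompactObject (q.fst.obj N))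
    (hU' : CohDer.IsCompactObject (q.gst.obj (q.jst.obj N))) :
    CohDer.IsCompactObject N := by
  classical
  have := fls_additive q
  have := jls_additive q
  have pJ : ∀ κ : Type v, PreservesColimitsOfShape (Discrete κ) q.jst := fun κ => by
    have := q.adjJ.leftAdjoint_preservesColimits
    infer_instance
  have pF : ∀ κ : Type v, PreservesColimitsOfShape (Discrete κ) q.fst := fun κ => by
    have := q.adjF.leftAdjoint_preservesColimits
    infer_instance
  have pG : ∀ κ : Type v, PreservesColimitsOfShape (Discrete κ) q.gst := fun κ => by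
    have := q.adjG.leftAdjoint_preservesColimits
    infer_instance
  rw [isCompactObject_iff]
  intro κ X α
  obtain ⟨s₁, h₁⟩ := exists_finset_comp_map_sigmaQ q.jst hU X (q.jst.map α)
  obtain ⟨s₂, h₂⟩ := exists_finset_comp_map_sigmaQ q.fst hX' X (q.fst.map α)
  set β := α ≫ sigmaQ X (s₁ ∪ s₂) with hβ
  have hβJ : q.jst.map β = 0 := by
    rw [hβ, Functor.map_comp]
    exact h₁ _ Finset.subset_union_left
  have hβF : q.fst.map β = 0 := by
    rw [hβ, Functor.map_comp]
    exact h₂ _ Finset.subset_union_right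
  have hβ1 : β ≫ mvM1 q (∐ X) = 0 := by
    have n1 := q.adjJ.unit.naturality β
    have n2 := q.adjF.unit.naturality β
    dsimp at n1 n2
    apply biprod.hom_ext
    · rw [Category.assoc, biprod.lift_fst, zero_comp, n1, hβJ, Functor.map_zero, comp_zero]
    · rw [Category.assoc, biprod.lift_snd, zero_comp, n2, hβF, Functor.map_zero, comp_zero]
  obtain ⟨d, hd⟩ := mv_exists q hq (∐ X)
  obtain ⟨γ, hγ⟩ : ∃ γ : N⟦(1 : ℤ)⟧ ⟶ q.fls.obj (q.fst.obj (q.jls.obj (q.jst.obj (∐ X)))),
      β⟦(1 : ℤ)⟧' = γ ≫ d :=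
    Triangle.coyoneda_exact₁ _ hd (β⟦(1 : ℤ)⟧') (by
      change β⟦(1 : ℤ)⟧' ≫ (mvM1 q (∐ X))⟦(1 : ℤ)⟧' = 0
      rw [← Functor.map_comp, hβ1, Functor.map_zero])
  have hcpt : CohDer.IsCompactObject ((q.jst ⋙ q.gst).obj (N⟦(1 : ℤ)⟧)) :=
    isCompactObject_of_iso (((q.jst ⋙ q.gst).commShiftIso (1 : ℤ)).app N).symm
      (isCompactObject_shift hU' 1)
  obtain ⟨s₃, h₃⟩ := exists_finset_comp_map_sigmaQ (q.jst ⋙ q.gst) hcpt X
    (adj4 q (N⟦(1 : ℤ)⟧) (q.jst.obj (∐ X)) γ)
  refine ⟨(s₁ ∪ s₂) ∪ s₃, ?_⟩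
  set φ := sigmaQ X ((s₁ ∪ s₂) ∪ s₃) with hφ
  have hγφ : γ ≫ q.fls.map (q.fst.map (q.jls.map (q.jst.map φ))) = 0 := by
    apply eq_zero_of_adj4_eq_zero q hq
    rw [adj4_natural]
    exact h₃ _ Finset.subset_union_right
  have nat := mv_d_natural q hq (∐ X) (∐ X) φ d d hd hd
  have h4 : (β ≫ φ)⟦(1 : ℤ)⟧' = 0 := by
    rw [Functor.map_comp, hγ, Category.assoc, nat, reassoc_of% hγφ, zero_comp]
  have h5 : β ≫ φ = 0 := (shiftFunctor S (1 : ℤ)).map_injective (by rw [h4, Functor.map_zero])
  rw [hβ, Category.assoc, sigmaQ_comp_of_subset X Finset.subset_union_left] at h5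
  dsimp only [φ, sigmaQ] at h5
  rw [Preadditive.comp_sub, Category.comp_id, sub_eq_zero] at h5
  exact h5.symm

end MV5

end Groth.Agent.Lib.helper27
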