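import Mathlib
import Groth.Prelude.Def_W4c3perfectstacksMV
import Groth.Agent.Lib.Helper27.MV4

set_option linter.unusedSectionVars false

namespace Groth.Agent.Lib.helper27

open CategoryTheory Limits Pretriangulated W4c3perfectstacks W4c3perfectstacks.MVSq

universe v u

section zeroCone

variable {C : Type u} [Category.{v} C] [Preadditive C] [HasZeroObject C] [HasShift C ℤ]
  [∀ n : ℤ, (shiftFunctor C n).Additive] [Pretriangulated C]

/-- A morphism whose cone lies in a class `𝒦` stable under `⟦-1⟧` and which induces bijections on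
`Hom(Z, -)` for `Z` in `𝒦` (surjectivity and injectivity suffice) is an isomorphism. -/
lemma isIso_of_hom_bijective_on_class (𝒦 : C → Prop) (h𝒦 : ∀ Z, 𝒦 Z → 𝒦 (Z⟦(-1 : ℤ)⟧))
    {A B : C} (s : A ⟶ B)
    (hcone : ∀ (K : C) (k : B ⟶ K) (κ : K ⟶ A⟦(1 : ℤ)⟧), Triangle.mk s k κ ∈ distTriang C → 𝒦 K)
    (hi : ∀ Z, 𝒦 Z → ∀ y : Z ⟶ B, ∃ g : Z ⟶ A, y = g ≫ s)
    (hii : ∀ Z, 𝒦 Z → ∀ g : Z ⟶ A, g ≫ s = 0 → g = 0) : IsIso s := by
  obtain ⟨K, k, κ, hK⟩ := distinguished_cocone_triangle s
  have hKK := hcone K k κ hK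
  refine (Triangle.isZero₃_iff_isIso₁ _ hK).1 ?_
  change IsZero K
  have hinv := inv_rot_of_distTriang _ hK
  have h01 : (Triangle.mk s k κ).invRotate.mor₁ = 0 := by
    apply hii _ (h𝒦 K hKK)
    exact comp_distTriang_mor_zero₁₂ _ hinv
  have hmono : Mono s := (Triangle.mor₁_eq_zero_iff_mono₂ _ hinv).1 h01
  have hκ : κ = 0 := (Triangle.mor₃_eq_zero_iff_mono₁ _ hK).2 hmono
  obtain ⟨y, hy⟩ : ∃ y : K ⟶ B, 𝟙 K = y ≫ k :=
    Triangle.coyoneda_exact₃ _ hK (𝟙 K) (by
      change 𝟙 K ≫ κ = 0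
      rw [hκ, comp_zero])
  obtain ⟨g, hg⟩ := hi K hKK y
  have hsk : s ≫ k = 0 := comp_distTriang_mor_zero₁₂ _ hK
  rw [IsZero.iff_id_eq_zero, hy, hg, Category.assoc, hsk, comp_zero]

end zeroCone

section adjLemma

variable {C : Type*} [Category C] {D : Type*} [Category D] {F : C ⥤ D} {G : D ⥤ C}

lemma homEquiv_symm_comp_unit_map (adj : F ⊣ G) {A B : C} {Y : D} (x : A ⟶ B) (y : F.obj B ⟶ Y) :
    (adj.homEquiv A Y).symm (x ≫ adj.unit.app B ≫ G.map y) = F.map x ≫ y := by
  rw [Adjunction.homEquiv_counit, F.map_comp, F.map_comp, Category.assoc, Category.assoc,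
    adj.counit_naturality, adj.left_triangle_components_assoc]

end adjLemma

section MV6

variable {S S' R R' : Type u} [Category.{v} S] [Category.{v} S'] [Category.{v} R] [Category.{v} R']
    [Preadditive S] [Preadditive S'] [Preadditive R] [Preadditive R']
    [HasZeroObject S] [HasZeroObject S'] [HasZeroObject R] [HasZeroObject R']
    [HasShift S ℤ] [HasShift S' ℤ] [HasShift R ℤ] [HasShift R' ℤ]
    [∀ n : ℤ, (shiftFunctor S n).Additive] [∀ n : ℤ, (shiftFunctor S' n).Additive]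
    [∀ n : ℤ, (shiftFunctor R n).Additive] [∀ n : ℤ, (shiftFunctor R' n).Additive]
    [Pretriangulated S] [Pretriangulated S'] [Pretriangulated R] [Pretriangulated R']
    (q : W4c3perfectstacks.MVSq S S' R R')
    [q.jst.CommShift ℤ] [q.fst.CommShift ℤ] [q.jpst.CommShift ℤ] [q.gst.CommShift ℤ]
    [q.jst.IsTriangulated] [q.fst.IsTriangulated] [q.jpst.IsTriangulated] [q.gst.IsTriangulated]

attribute [local instance] flsCommShift jlsCommShift jplsCommShift glsCommShift
attribute [local instance] adjF_commShift adjJ_commShift adjJp_commShift adjG_commShift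
attribute [local instance] fls_isTriangulated jls_isTriangulated jpls_isTriangulated
  gls_isTriangulated

variable (hq : q.IsMV)

include hq in
/-- if `j'^* m` is an isomorphism then so is `j^* f_* m` -/
lemma isIso_jst_fls_map {M M' : S'} (m : M ⟶ M') (hm : IsIso (q.jpst.map m)) :
    IsIso (q.jst.map (q.fls.map m)) := by
  have := hq.isIso_bcApp M
  have := hq.isIso_bcApp M'
  have h2 := bcApp_natural q m
  have : q.jst.map (q.fls.map m) = q.bcApp M ≫ q.gls.map (q.jpst.map m) ≫ inv (q.bcApp M') := by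
    rw [← Category.assoc, ← h2, Category.assoc, IsIso.hom_inv_id, Category.comp_id]
  rw [this]
  infer_instance

include hq in
lemma isIso_jpst_map_unitJp (M : S') : IsIso (q.jpst.map (q.adjJp.unit.app M)) := by
  have := isIso_counitJp_app q hq (q.jpst.obj M)
  have h := q.adjJp.left_triangle_components M
  have : q.jpst.map (q.adjJp.unit.app M) = inv (q.adjJp.counit.app (q.jpst.obj M)) := by
    rw [← cancel_mono (q.adjJp.counit.app (q.jpst.obj M)), h, IsIso.inv_hom_id]
    rfl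
  rw [this]
  infer_instance

/-- maps from the kernel of `j^*` into `f_* j'_* Q` vanish -/
lemma eq_zero_of_isZero_jst_fls_jpls {Z : S} (hZ : IsZero (q.jst.obj Z)) {Q : R'}
    (x : Z ⟶ q.fls.obj (q.jpls.obj Q)) : x = 0 := by
  have := fls_additive q
  have := jpls_additive q
  have hz : IsZero (q.jpst.obj (q.fst.obj Z)) :=
    IsZero.of_iso (q.gst.map_isZero hZ) (q.e.app Z).symm
  have h1 : (q.adjJp.homEquiv _ _).symm ((q.adjF.homEquiv _ _).symm x) = 0 := hz.eq_of_src _ _
  have h2 : (q.adjF.homEquiv _ _).symm x = 0 := by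
    have := congrArg (q.adjJp.homEquiv _ _) h1
    rw [Equiv.apply_symm_apply] at this
    rw [this, Adjunction.homEquiv_apply, Functor.map_zero, comp_zero]
  have := congrArg (q.adjF.homEquiv _ _) h2
  rw [Equiv.apply_symm_apply] at this
  rw [this, Adjunction.homEquiv_apply, Functor.map_zero, comp_zero]

lemma isZero_jpst_shift {Z : S'} (hZ : IsZero (q.jpst.obj Z)) (k : ℤ) :
    IsZero (q.jpst.obj (Z⟦k⟧)) :=
  IsZero.of_iso ((shiftFunctor R' k).map_isZero hZ) ((q.jpst.commShiftIso k).app Z)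

include hq in
/-- S16410: glueing -/
theorem mv_glue (NU : R) (N' : S') (δ : q.jpst.obj N' ≅ q.gst.obj NU) (N : S)
    (a : N ⟶ q.jls.obj NU ⊞ q.fls.obj N')
    (d : q.fls.obj (q.jpls.obj (q.gst.obj NU)) ⟶ N⟦(1 : ℤ)⟧)
    (hT : Triangle.mk a
      (biprod.desc (q.adjF.unit.app (q.jls.obj NU) ≫ q.fls.map (q.bc2App NU))
        (-(q.fls.map (q.adjJp.unit.app N' ≫ q.jpls.map δ.hom)))) d ∈ distTriang S) :
    IsIso ((q.adjJ.homEquiv N NU).symm (a ≫ biprod.fst)) ∧
      IsIso ((q.adjF.homEquiv N N').symm (a ≫ biprod.snd)) := by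
  have := fls_additive q
  have := jls_additive q
  have := jpls_additive q
  set w := q.adjJp.unit.app N' ≫ q.jpls.map δ.hom with hw
  set m : q.jls.obj NU ⊞ q.fls.obj N' ⟶ q.fls.obj (q.jpls.obj (q.gst.obj NU)) :=
    biprod.desc (q.adjF.unit.app (q.jls.obj NU) ≫ q.fls.map (q.bc2App NU)) (-(q.fls.map w)) with hm
  have ham : a ≫ m = 0 := comp_distTriang_mor_zero₁₂ _ hT
  -- Part 1
  have hw' : IsIso (q.jpst.map w) := by
    have := isIso_jpst_map_unitJp q hq N'
    rw [hw, Functor.map_comp]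
    infer_instance
  have hfw : IsIso (q.jst.map (q.fls.map w)) := isIso_jst_fls_map q hq w hw'
  have hβ : IsIso (q.jst.map (biprod.inr : q.fls.obj N' ⟶ q.jls.obj NU ⊞ q.fls.obj N') ≫
      q.jst.map m) := by
    rw [← Functor.map_comp, hm, biprod.inr_desc, Functor.map_neg]
    exact ⟨⟨-inv (q.jst.map (q.fls.map w)), by simp, by simp⟩⟩
  have h1 : IsIso (q.jst.map a ≫ q.jst.map biprod.fst) :=
    isIso_comp_of_split (q.jst.map a) (q.jst.map m) _ (q.jst.map_distinguished _ hT)
      (q.jst.map (biprod.inl : q.jls.obj NU ⟶ _)) (q.jst.map biprod.inr)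
      (q.jst.map biprod.fst) (q.jst.map biprod.snd)
      (by rw [← Functor.map_comp, biprod.inl_fst, CategoryTheory.Functor.map_id])
      (by rw [← Functor.map_comp, biprod.inr_fst, Functor.map_zero])
      (by rw [← Functor.map_comp, ← Functor.map_comp, ← Functor.map_add, biprod.total,
        CategoryTheory.Functor.map_id]) hβ
  have hcJ := isIso_counitJ_app q hq NU
  have hlam : IsIso ((q.adjJ.homEquiv N NU).symm (a ≫ biprod.fst)) := by
    have : (q.adjJ.homEquiv N NU).symm (a ≫ biprod.fst) =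
        (q.jst.map a ≫ q.jst.map biprod.fst) ≫ q.adjJ.counit.app NU := by
      rw [Adjunction.homEquiv_counit, q.jst.map_comp]
    rw [this]
    infer_instance
  refine ⟨hlam, ?_⟩
  -- Part 2
  set t := a ≫ (biprod.snd : q.jls.obj NU ⊞ q.fls.obj N' ⟶ q.fls.obj N') with ht
  set ω := (q.adjF.homEquiv N N').symm t with hω
  -- key identity
  have key : q.fst.map (a ≫ biprod.fst) ≫ q.bc2App NU = ω ≫ w := by
    have hsum : a ≫ m = (a ≫ biprod.fst) ≫ q.adjF.unit.app (q.jls.obj NU) ≫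
        q.fls.map (q.bc2App NU) + t ≫ (-(q.fls.map w)) := by
      have : a = biprod.lift (a ≫ biprod.fst) t := by
        apply biprod.hom_ext <;> simp [ht]
      conv_lhs => rw [this]
      rw [hm, biprod.lift_desc]
    have e1 : (a ≫ biprod.fst) ≫ q.adjF.unit.app (q.jls.obj NU) ≫ q.fls.map (q.bc2App NU) =
        t ≫ q.fls.map w := by
      rw [hsum, Preadditive.comp_neg, ← sub_eq_add_neg] at ham
      exact sub_eq_zero.1 ham
    have e2 := congrArg (q.adjF.homEquiv N _).symm e1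
    rw [homEquiv_symm_comp_unit_map, Adjunction.homEquiv_naturality_right_symm] at e2
    exact e2
  have hjω : IsIso (q.jpst.map ω) := by
    have e3 := congrArg (q.adjJp.homEquiv _ _).symm key
    have eL : (q.adjJp.homEquiv _ _).symm (q.fst.map (a ≫ biprod.fst) ≫ q.bc2App NU) =
        q.jpst.map (q.fst.map (a ≫ biprod.fst)) ≫ q.e.inv.app (q.jls.obj NU) ≫
          q.gst.map (q.adjJ.counit.app NU) := by
      have : q.bc2App NU = q.adjJp.unit.app (q.fst.obj (q.jls.obj NU)) ≫
          q.jpls.map (q.e.inv.app (q.jls.obj NU) ≫ q.gst.map (q.adjJ.counit.app NU)) := by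
        dsimp only [bc2App]
        rw [Functor.map_comp]
      rw [this, homEquiv_symm_comp_unit_map]
    have eR : (q.adjJp.homEquiv _ _).symm (ω ≫ w) = q.jpst.map ω ≫ δ.hom := by
      rw [hw, homEquiv_symm_comp_unit_map]
    rw [eL, eR] at e3
    have nat := q.e.inv.naturality (a ≫ biprod.fst)
    dsimp at nat
    rw [reassoc_of% nat, ← Functor.map_comp] at e3
    have e4 : q.gst.map ((q.adjJ.homEquiv N NU).symm (a ≫ biprod.fst)) =
        q.gst.map (q.jst.map (a ≫ biprod.fst) ≫ q.adjJ.counit.app NU) := by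
      rw [Adjunction.homEquiv_counit]
    have : q.jpst.map ω = (q.e.inv.app N ≫
        q.gst.map ((q.adjJ.homEquiv N NU).symm (a ≫ biprod.fst))) ≫ δ.inv := by
      rw [e4, e3, Category.assoc, Iso.hom_inv_id, Category.comp_id]
    rw [this]
    infer_instance
  refine isIso_of_hom_bijective_on_class (fun Z' => IsZero (q.jpst.obj Z'))
    (fun Z' hZ' => isZero_jpst_shift q hZ' (-1)) ω ?_ ?_ ?_
  · intro K k κ hK
    exact (Triangle.isZero₃_iff_isIso₁ _ (q.jpst.map_distinguished _ hK)).2 hjω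
  · intro Z' hZ' y
    have hε := hq.isIso_counitF Z' hZ'
    set ysh := q.adjF.homEquiv _ _ (q.adjF.counit.app Z' ≫ y) with hysh
    have h0 : (ysh ≫ (biprod.inr : q.fls.obj N' ⟶ q.jls.obj NU ⊞ q.fls.obj N')) ≫ m = 0 :=
      eq_zero_of_isZero_jst_fls_jpls q (isZero_jst_fls q hq hZ') _
    obtain ⟨g, hg⟩ : ∃ g : q.fls.obj Z' ⟶ N, ysh ≫ biprod.inr = g ≫ a :=
      Triangle.coyoneda_exact₂ _ hT _ h0
    have hgt : g ≫ t = ysh := by
      rw [ht, ← Category.assoc, ← hg, Category.assoc, biprod.inr_snd, Category.comp_id]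
    refine ⟨inv (q.adjF.counit.app Z') ≫ q.fst.map g, ?_⟩
    rw [Category.assoc, hω, ← Adjunction.homEquiv_naturality_left_symm, hgt, hysh,
      Equiv.symm_apply_apply, IsIso.inv_hom_id_assoc]
  · intro Z' hZ' x hx
    have hε := hq.isIso_counitF Z' hZ'
    obtain ⟨g, hg⟩ := (bijective_fst_map q hq hZ' N).2 (q.adjF.counit.app Z' ≫ x)
    dsimp at hg
    have hgt : g ≫ t = 0 := by
      apply (q.adjF.homEquiv _ _).symm.injective
      rw [Adjunction.homEquiv_naturality_left_symm, hg, Category.assoc, ← hω, hx, comp_zero,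
        Adjunction.homEquiv_counit, Functor.map_zero, zero_comp]
    have hga : g ≫ a = 0 := by
      apply biprod.hom_ext
      · rw [zero_comp]
        exact eq_zero_of_isZero_jst q (isZero_jst_fls q hq hZ') _
      · rw [zero_comp, Category.assoc, ← ht, hgt]
    obtain ⟨γ, hγ⟩ : ∃ γ : (q.fls.obj Z')⟦(1 : ℤ)⟧ ⟶ q.fls.obj (q.jpls.obj (q.gst.obj NU)),
        g⟦(1 : ℤ)⟧' = γ ≫ d :=
      Triangle.coyoneda_exact₁ _ hT (g⟦(1 : ℤ)⟧') (by
        change g⟦(1 : ℤ)⟧' ≫ a⟦(1 : ℤ)⟧' = 0
        rw [← Functor.map_comp, hga, Functor.map_zero])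
    have hγ0 : γ = 0 :=
      eq_zero_of_isZero_jst_fls_jpls q (isZero_jst_shift q (isZero_jst_fls q hq hZ') 1) γ
    rw [hγ0, zero_comp] at hγ
    have hg0 : g = 0 := (shiftFunctor S (1 : ℤ)).map_injective (by rw [hγ, Functor.map_zero])
    rw [hg0, Functor.map_zero] at hg
    rw [← cancel_epi (q.adjF.counit.app Z'), ← hg, comp_zero]

end MV6

end Groth.Agent.Lib.helper27
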