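import Mathlib
import Groth.Prelude.Def_CohCx

set_option autoImplicit false
set_option linter.unusedSectionVars false
set_option linter.unusedVariables false

namespace Groth.Agent.Lib.helper27

open CategoryTheory Limits Pretriangulated

universe u

namespace MVHyper

section general

variable {D : Type*} [Category D] [Preadditive D] [HasZeroObject D] [HasShift D ℤ]
  [∀ n : ℤ, (shiftFunctor D n).Additive] [Pretriangulated D]
  (T : Triangle D) (hT : T ∈ distTriang D)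

include hT

lemma exact_obj₁ {X : D} (f : T.obj₁ ⟶ X) (hf : T.mor₃ ≫ f⟦(1 : ℤ)⟧' = 0) :
    ∃ g : T.obj₂ ⟶ X, T.mor₁ ≫ g = f := by
  obtain ⟨g, hg⟩ := Triangle.yoneda_exact₂ _
    (rot_of_distTriang _ (rot_of_distTriang _ hT)) (f⟦(1 : ℤ)⟧') hf
  obtain ⟨g', hg'⟩ := (shiftFunctor D (1 : ℤ)).map_surjective (X := T.obj₂) (Y := X) g
  have hg2 : (shiftFunctor D (1 : ℤ)).map f =
      (-(shiftFunctor D (1 : ℤ)).map T.mor₁) ≫ (shiftFunctor D (1 : ℤ)).map g' := by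
    rw [hg']
    exact hg
  refine ⟨-g', ?_⟩
  apply (shiftFunctor D (1 : ℤ)).map_injective
  rw [hg2, Functor.map_comp, Functor.map_neg, Preadditive.comp_neg, Preadditive.neg_comp]

lemma exact_obj₃ {X Y : D} (e : X⟦(1 : ℤ)⟧ ≅ Y) (f : T.obj₃ ⟶ Y) (hf : T.mor₂ ≫ f = 0) :
    ∃ g : T.obj₁ ⟶ X, T.mor₃ ≫ g⟦(1 : ℤ)⟧' ≫ e.hom = f := by
  obtain ⟨g, hg⟩ := Triangle.yoneda_exact₃ _ hT f hf
  obtain ⟨g', hg'⟩ := (shiftFunctor D (1 : ℤ)).map_surjective (g ≫ e.inv)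
  refine ⟨g', ?_⟩
  rw [hg', Category.assoc, e.inv_hom_id, Category.comp_id, hg]

end general

section mv

variable {C : Type u} [SmallCategory C] {J : GrothendieckTopology C}
  [HasWeakSheafify J (Type u)] [HasDerivedCategory.{u} (Sheaf J AddCommGrpCat.{u})]
  (S : J.MayerVietorisSquare) (K : DerivedCategory (Sheaf J AddCommGrpCat.{u}))

/-- the embedding of sheaves in degree zero -/
noncomputable abbrev Q : Sheaf J AddCommGrpCat.{u} ⥤ DerivedCategory (Sheaf J AddCommGrpCat.{u}) :=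
  DerivedCategory.singleFunctor (Sheaf J AddCommGrpCat.{u}) 0

/-- the middle term -/
noncomputable abbrev B : Sheaf J AddCommGrpCat.{u} :=
  CohCx.freeSheaf J S.X₂ ⊞ CohCx.freeSheaf J S.X₃

/-- the first map -/
noncomputable def fS : CohCx.freeSheaf J S.X₁ ⟶ B S :=
  biprod.lift (CohCx.freeSheafMap J S.f₁₂) (-(CohCx.freeSheafMap J S.f₁₃))

/-- the second map -/
noncomputable def gS : B S ⟶ CohCx.freeSheaf J S.X₄ :=
  biprod.desc (CohCx.freeSheafMap J S.f₂₄) (CohCx.freeSheafMap J S.f₃₄)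

/-- the third map -/
noncomputable def dS : Q.obj (CohCx.freeSheaf J S.X₄) ⟶
    (shiftFunctor _ (1 : ℤ)).obj (Q.obj (CohCx.freeSheaf J S.X₁)) :=
  S.shortComplex_shortExact.singleδ

/-- the Mayer-Vietoris triangle -/
noncomputable abbrev T : Triangle (DerivedCategory (Sheaf J AddCommGrpCat.{u})) :=
  Triangle.mk (Q.map (fS S)) (Q.map (gS S)) (dS S)

lemma hT : T S ∈ distTriang (DerivedCategory (Sheaf J AddCommGrpCat.{u})) :=
  S.shortComplex_shortExact.singleTriangle_distinguished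

lemma zero₁₂ : Q.map (fS S) ≫ Q.map (gS S) = 0 := comp_distTriang_mor_zero₁₂ _ (hT S)

lemma zero₂₃ : Q.map (gS S) ≫ dS S = 0 := comp_distTriang_mor_zero₂₃ _ (hT S)

lemma zero₃₁ : dS S ≫ (shiftFunctor _ (1 : ℤ)).map (Q.map (fS S)) = 0 :=
  comp_distTriang_mor_zero₃₁ _ (hT S)

lemma yo₂ {X : DerivedCategory (Sheaf J AddCommGrpCat.{u})} (f : Q.obj (B S) ⟶ X)
    (hf : Q.map (fS S) ≫ f = 0) :
    ∃ g : Q.obj (CohCx.freeSheaf J S.X₄) ⟶ X, f = Q.map (gS S) ≫ g :=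
  Triangle.yoneda_exact₂ _ (hT S) f hf

lemma yo₁ {X : DerivedCategory (Sheaf J AddCommGrpCat.{u})} (f : Q.obj (CohCx.freeSheaf J S.X₁) ⟶ X)
    (hf : dS S ≫ (shiftFunctor _ (1 : ℤ)).map f = 0) :
    ∃ g : Q.obj (B S) ⟶ X, Q.map (fS S) ≫ g = f :=
  exact_obj₁ _ (hT S) f hf

lemma yo₃ {X Y : DerivedCategory (Sheaf J AddCommGrpCat.{u})}
    (e : (shiftFunctor _ (1 : ℤ)).obj X ≅ Y) (f : Q.obj (CohCx.freeSheaf J S.X₄) ⟶ Y)
    (hf : Q.map (gS S) ≫ f = 0) :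
    ∃ g : Q.obj (CohCx.freeSheaf J S.X₁) ⟶ X,
      dS S ≫ (shiftFunctor _ (1 : ℤ)).map g ≫ e.hom = f :=
  exact_obj₃ _ (hT S) e f hf

variable {K} {n : ℤ}

/-- the map out of the biproduct attached to a pair -/
noncomputable def pair (a : CohCx.HDU K n S.X₂) (b : CohCx.HDU K n S.X₃) :
    Q.obj (B S) ⟶ (shiftFunctor _ n).obj K :=
  Q.map (biprod.fst : B S ⟶ _) ≫ a + Q.map (biprod.snd : B S ⟶ _) ≫ b

lemma inl_pair (a : CohCx.HDU K n S.X₂) (b : CohCx.HDU K n S.X₃) :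
    Q.map (biprod.inl : _ ⟶ B S) ≫ pair S a b = a := by
  rw [pair, Preadditive.comp_add, ← Category.assoc, ← Category.assoc, ← Functor.map_comp,
    ← Functor.map_comp, biprod.inl_fst, biprod.inl_snd, Q.map_id, Functor.map_zero,
    Category.id_comp, zero_comp, add_zero]

lemma inr_pair (a : CohCx.HDU K n S.X₂) (b : CohCx.HDU K n S.X₃) :
    Q.map (biprod.inr : _ ⟶ B S) ≫ pair S a b = b := by
  rw [pair, Preadditive.comp_add, ← Category.assoc, ← Category.assoc, ← Functor.map_comp,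
    ← Functor.map_comp, biprod.inr_fst, biprod.inr_snd, Q.map_id, Functor.map_zero,
    Category.id_comp, zero_comp, zero_add]

lemma pair_eta (h : Q.obj (B S) ⟶ (shiftFunctor _ n).obj K) :
    pair S (Q.map (biprod.inl : _ ⟶ B S) ≫ h) (Q.map (biprod.inr : _ ⟶ B S) ≫ h) = h := by
  rw [pair, ← Category.assoc, ← Category.assoc, ← Functor.map_comp, ← Functor.map_comp,
    ← Preadditive.add_comp, ← Functor.map_add, biprod.total, Q.map_id, Category.id_comp]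

lemma f_pair (a : CohCx.HDU K n S.X₂) (b : CohCx.HDU K n S.X₃) :
    Q.map (fS S) ≫ pair S a b =
      Q.map (CohCx.freeSheafMap J S.f₁₂) ≫ a - Q.map (CohCx.freeSheafMap J S.f₁₃) ≫ b := by
  rw [pair, Preadditive.comp_add, ← Category.assoc, ← Category.assoc, ← Functor.map_comp,
    ← Functor.map_comp]
  have h1 : fS S ≫ (biprod.fst : B S ⟶ _) = CohCx.freeSheafMap J S.f₁₂ := biprod.lift_fst _ _
  have h2 : fS S ≫ (biprod.snd : B S ⟶ _) = -CohCx.freeSheafMap J S.f₁₃ := biprod.lift_snd _ _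
  rw [h1, h2, Functor.map_neg, Preadditive.neg_comp, sub_eq_add_neg]

lemma g_comp (ψ : CohCx.HDU K n S.X₄) :
    Q.map (gS S) ≫ ψ = pair S (Q.map (CohCx.freeSheafMap J S.f₂₄) ≫ ψ)
      (Q.map (CohCx.freeSheafMap J S.f₃₄) ≫ ψ) := by
  have h1 : (biprod.inl : _ ⟶ B S) ≫ gS S = CohCx.freeSheafMap J S.f₂₄ := biprod.inl_desc _ _
  have h2 : (biprod.inr : _ ⟶ B S) ≫ gS S = CohCx.freeSheafMap J S.f₃₄ := biprod.inr_desc _ _
  rw [← pair_eta S (Q.map (gS S) ≫ ψ), ← Category.assoc, ← Category.assoc,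
    ← Functor.map_comp, ← Functor.map_comp, h1, h2]

variable (K n)

/-- the connecting homomorphism -/
noncomputable def δ : CohCx.HDU K n S.X₁ →+ CohCx.HDU K (n + 1) S.X₄ :=
  (Preadditive.leftComp _ (dS S)).comp
    ((Preadditive.rightComp _ ((shiftFunctorAdd' (DerivedCategory (Sheaf J AddCommGrpCat.{u}))
        n 1 (n + 1) rfl).inv.app K)).comp
      (shiftFunctor (DerivedCategory (Sheaf J AddCommGrpCat.{u})) (1 : ℤ)).mapAddHom)

lemma δ_apply (φ : CohCx.HDU K n S.X₁) :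
    δ S K n φ = dS S ≫ (shiftFunctor _ (1 : ℤ)).map φ ≫
      (shiftFunctorAdd' (DerivedCategory (Sheaf J AddCommGrpCat.{u})) n 1 (n + 1) rfl).inv.app K :=
  rfl

/-- first map -/
noncomputable abbrev m₁ : CohCx.HDU K n S.X₄ →+ CohCx.HDU K n S.X₂ × CohCx.HDU K n S.X₃ :=
  (CohCx.HDUres K n S.f₂₄).prod (CohCx.HDUres K n S.f₃₄)

/-- second map -/
noncomputable abbrev m₂ : CohCx.HDU K n S.X₂ × CohCx.HDU K n S.X₃ →+ CohCx.HDU K n S.X₁ :=
  (CohCx.HDUres K n S.f₁₂).coprod (-(CohCx.HDUres K n S.f₁₃))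

lemma m₁_apply (ψ : CohCx.HDU K n S.X₄) :
    m₁ S K n ψ = (Q.map (CohCx.freeSheafMap J S.f₂₄) ≫ ψ, Q.map (CohCx.freeSheafMap J S.f₃₄) ≫ ψ) :=
  rfl

lemma m₂_apply (x : CohCx.HDU K n S.X₂ × CohCx.HDU K n S.X₃) :
    m₂ S K n x = Q.map (fS S) ≫ pair S x.1 x.2 := by
  rw [f_pair]
  show Q.map (CohCx.freeSheafMap J S.f₁₂) ≫ x.1 + -(Q.map (CohCx.freeSheafMap J S.f₁₃) ≫ x.2) = _
  rw [sub_eq_add_neg]

lemma m₁_m₂ (ψ : CohCx.HDU K n S.X₄) : m₂ S K n (m₁ S K n ψ) = 0 := by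
  rw [m₂_apply, m₁_apply, ← g_comp, ← Category.assoc, zero₁₂, zero_comp]

lemma m₂_δ (x : CohCx.HDU K n S.X₂ × CohCx.HDU K n S.X₃) : δ S K n (m₂ S K n x) = 0 := by
  rw [m₂_apply, δ_apply, Functor.map_comp, ← Category.assoc, ← Category.assoc, zero₃₁,
    zero_comp, zero_comp]

lemma δ_m₁ (φ : CohCx.HDU K n S.X₁) : m₁ S K (n + 1) (δ S K n φ) = 0 := by
  have h : Q.map (gS S) ≫ δ S K n φ = 0 := by
    rw [δ_apply, ← Category.assoc, zero₂₃, zero_comp]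
  have h2 := g_comp S (δ S K n φ)
  rw [h] at h2
  have h3 := inl_pair S (Q.map (CohCx.freeSheafMap J S.f₂₄) ≫ δ S K n φ)
    (Q.map (CohCx.freeSheafMap J S.f₃₄) ≫ δ S K n φ)
  have h4 := inr_pair S (Q.map (CohCx.freeSheafMap J S.f₂₄) ≫ δ S K n φ)
    (Q.map (CohCx.freeSheafMap J S.f₃₄) ≫ δ S K n φ)
  rw [← h2, comp_zero] at h3 h4
  rw [m₁_apply, ← h3, ← h4]
  rfl

lemma ex₁ (x : CohCx.HDU K n S.X₂ × CohCx.HDU K n S.X₃) (hx : m₂ S K n x = 0) :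
    ∃ ψ, m₁ S K n ψ = x := by
  rw [m₂_apply] at hx
  obtain ⟨g, hg⟩ := yo₂ S _ hx
  refine ⟨g, ?_⟩
  rw [m₁_apply]
  have h2 := g_comp S g
  rw [← hg] at h2
  have h3 := inl_pair S (Q.map (CohCx.freeSheafMap J S.f₂₄) ≫ g)
    (Q.map (CohCx.freeSheafMap J S.f₃₄) ≫ g)
  have h4 := inr_pair S (Q.map (CohCx.freeSheafMap J S.f₂₄) ≫ g)
    (Q.map (CohCx.freeSheafMap J S.f₃₄) ≫ g)
  rw [← h2, inl_pair] at h3
  rw [← h2, inr_pair] at h4
  rw [← h3, ← h4]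

lemma ex₂ (φ : CohCx.HDU K n S.X₁) (hφ : δ S K n φ = 0) : ∃ x, m₂ S K n x = φ := by
  rw [δ_apply, ← Category.assoc] at hφ
  have h0 : dS S ≫ (shiftFunctor _ (1 : ℤ)).map φ = 0 := by
    rw [← cancel_mono ((shiftFunctorAdd' (DerivedCategory (Sheaf J AddCommGrpCat.{u}))
      n 1 (n + 1) rfl).inv.app K), zero_comp]
    exact hφ
  obtain ⟨g, hg⟩ := yo₁ S φ h0
  refine ⟨(Q.map (biprod.inl : CohCx.freeSheaf J S.X₂ ⟶ _ ⊞ CohCx.freeSheaf J S.X₃) ≫ g,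
    Q.map (biprod.inr : CohCx.freeSheaf J S.X₃ ⟶ CohCx.freeSheaf J S.X₂ ⊞ _) ≫ g), ?_⟩
  rw [m₂_apply]
  dsimp only
  rw [pair_eta, hg]

lemma ex₃ (ψ : CohCx.HDU K (n + 1) S.X₄) (hψ : m₁ S K (n + 1) ψ = 0) : ∃ φ, δ S K n φ = ψ := by
  rw [m₁_apply] at hψ
  have h1 : Q.map (CohCx.freeSheafMap J S.f₂₄) ≫ ψ = 0 := congrArg Prod.fst hψ
  have h2 : Q.map (CohCx.freeSheafMap J S.f₃₄) ≫ ψ = 0 := congrArg Prod.snd hψ
  have h3 : Q.map (gS S) ≫ ψ = 0 := by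
    rw [g_comp, h1, h2, pair, comp_zero, comp_zero, add_zero]
  obtain ⟨g, hg⟩ := yo₃ S
    ((shiftFunctorAdd' (DerivedCategory (Sheaf J AddCommGrpCat.{u})) n 1 (n + 1) rfl).symm.app K)
    ψ h3
  exact ⟨g, hg⟩

theorem main : ∃ δ : ∀ n : ℤ, CohCx.HDU K n S.X₁ →+ CohCx.HDU K (n + 1) S.X₄,
      ∀ n : ℤ,
        (ComposableArrows.mk₂
          (AddCommGrpCat.ofHom ((CohCx.HDUres K n S.f₂₄).prod (CohCx.HDUres K n S.f₃₄)))
          (AddCommGrpCat.ofHom ((CohCx.HDUres K n S.f₁₂).coprod (-(CohCx.HDUres K n S.f₁₃))))).Exact ∧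
        (ComposableArrows.mk₂
          (AddCommGrpCat.ofHom ((CohCx.HDUres K n S.f₁₂).coprod (-(CohCx.HDUres K n S.f₁₃))))
          (AddCommGrpCat.ofHom (δ n))).Exact ∧
        (ComposableArrows.mk₂ (AddCommGrpCat.ofHom (δ n))
          (AddCommGrpCat.ofHom ((CohCx.HDUres K (n + 1) S.f₂₄).prod (CohCx.HDUres K (n + 1) S.f₃₄)))).Exact := by
  refine ⟨fun n => δ S K n, fun n => ⟨?_, ?_, ?_⟩⟩
  · have hz : AddCommGrpCat.ofHom (m₁ S K n) ≫ AddCommGrpCat.ofHom (m₂ S K n) = 0 := by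
      ext ψ
      exact m₁_m₂ S K n ψ
    have : (ShortComplex.mk _ _ hz).Exact := by
      rw [ShortComplex.ab_exact_iff]
      intro x hx
      exact ex₁ S K n x hx
    exact this.exact_toComposableArrows
  · have hz : AddCommGrpCat.ofHom (m₂ S K n) ≫ AddCommGrpCat.ofHom (δ S K n) = 0 := by
      ext x
      exact m₂_δ S K n x
    have : (ShortComplex.mk _ _ hz).Exact := by
      rw [ShortComplex.ab_exact_iff]
      intro x hx
      exact ex₂ S K n x hx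
    exact this.exact_toComposableArrows
  · have hz : AddCommGrpCat.ofHom (δ S K n) ≫ AddCommGrpCat.ofHom (m₁ S K (n + 1)) = 0 := by
      apply AddCommGrpCat.hom_ext
      apply AddMonoidHom.ext
      intro x
      exact δ_m₁ S K n x
    have : (ShortComplex.mk _ _ hz).Exact := by
      rw [ShortComplex.ab_exact_iff]
      intro x hx
      exact ex₃ S K n x hx
    exact this.exact_toComposableArrows

end mv

end MVHyper

end Groth.Agent.Lib.helper27
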