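import Mathlib
import Groth.Prelude.Def_Coh
import Groth.Prelude.Def_Formal2
import Groth.Agent.Lib.Helper27.MilnorExtE
import Groth.Agent.Lib.Helper27.SerreVan3
import Groth.Agent.Lib.Helper7.QCohExt
import Groth.Agent.Lib.Helper7.CohKer
import Groth.Agent.Lib.Helper21.ModSh

/-!
# The Milnor sequence for a tower of quasi-coherent modules with epimorphic transition maps (helper27)
-/

set_option autoImplicit false
set_option linter.unusedSectionVars false
set_option linter.unusedVariables false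

namespace Groth.Agent.Lib.helper27

open CategoryTheory Limits Opposite Abelian TopologicalSpace AlgebraicGeometry

universe u

namespace MilnorQCoh

variable {X : Scheme.{u}} (G : ℕᵒᵖ ⥤ X.Modules)

/-- the tower of underlying abelian sheaves -/
noncomputable abbrev F' : ℕᵒᵖ ⥤ Sheaf (Opens.grothendieckTopology X) AddCommGrpCat.{u} :=
  G ⋙ SheafOfModules.toSheaf X.ringCatSheaf

instance : PreservesLimitsOfShape ℕᵒᵖ (SheafOfModules.toSheaf.{u} X.ringCatSheaf) := by
  have := Groth.Agent.Lib.Helper21.ModSh.toSheaf_preservesLimits X.ringCatSheaf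
  have : PreservesLimitsOfSize.{0, 0} (SheafOfModules.toSheaf.{u} X.ringCatSheaf) :=
    preservesSmallestLimits_of_preservesLimits _
  infer_instance

/-- the underlying abelian sheaf of the limit is the limit of the underlying abelian sheaves -/
noncomputable def e : Coh.toAb (limit G) ≅ limit (F' G) :=
  preservesLimitIso (SheafOfModules.toSheaf X.ringCatSheaf) G

lemma e_hom_π (n : ℕ) :
    (e G).hom ≫ limit.π (F' G) (op n) =
      (SheafOfModules.toSheaf X.ringCatSheaf).map (limit.π G (op n)) :=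
  preservesLimitIso_hom_π _ _ _

lemma e_inv_π (n : ℕ) :
    (e G).inv ≫ (SheafOfModules.toSheaf X.ringCatSheaf).map (limit.π G (op n)) =
      limit.π (F' G) (op n) := by
  rw [← e_hom_π, Iso.inv_hom_id_assoc]

variable (hq : ∀ n, Coh.IsQCoh (G.obj (op n)))
  (hepi : ∀ n, Epi (G.map (homOfLE (Nat.le_succ n)).op))

include hq in
lemma hvan (n : ℕ) : MilnorExtD.Pr {V : X.Opens | IsAffineOpen V} ((F' G).obj (op n)) := by
  intro V hV i hi
  obtain ⟨k, rfl⟩ : ∃ k, i = k + 1 := ⟨i - 1, by omega⟩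
  have : (G.obj (op n)).IsQuasicoherent := hq n
  exact SerreVan.subsingleton_HU_of_isAffineOpen (G.obj (op n)) V hV k

include hq hepi in
lemma hsurj (V : X.Opens) (hV : V ∈ {V : X.Opens | IsAffineOpen V}) (n : ℕ) :
    Function.Surjective (((F' G).map (homOfLE (Nat.le_succ n)).op).hom.app (op V)).hom := by
  let φ := G.map (homOfLE (Nat.le_succ n)).op
  have : (G.obj (op n)).IsQuasicoherent := hq n
  have : (G.obj (op (n + 1))).IsQuasicoherent := hq (n + 1)
  have hk : (kernel φ).IsQuasicoherent := Groth.Agent.Lib.helper7.CohKer.isQuasicoherent_kernel φ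
  let S : ShortComplex X.Modules := ShortComplex.mk (kernel.ι φ) φ (kernel.condition φ)
  have hS : S.ShortExact :=
    { exact := ShortComplex.exact_of_f_is_kernel _ (kernelIsKernel φ)
      mono_f := inferInstanceAs (Mono (kernel.ι φ))
      epi_g := hepi n }
  have : S.X₁.IsQuasicoherent := hk
  exact Groth.Agent.Lib.helper7.QCohExt.surjective_app_of_shortExact S hS V hV

include hq hepi in
theorem main (p : ℕ) :
    ∃ (α : Formal2.limOne (fun n => Coh.HH X (G.obj (op n)) p) (Formal2.HHsysMap G p) →+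
        Coh.HH X (limit G) (p + 1))
      (β : Coh.HH X (limit G) (p + 1) →+
        Formal2.limZero (fun n => Coh.HH X (G.obj (op n)) (p + 1)) (Formal2.HHsysMap G (p + 1))),
      Function.Injective α ∧ Function.Surjective β ∧ α.range = β.ker ∧
      ∀ (x : Coh.HH X (limit G) (p + 1)) (n : ℕ),
        (β x : ∀ n, Coh.HH X (G.obj (op n)) (p + 1)) n =
          Sheaf.H.map ((SheafOfModules.toSheaf _).map (limit.π G (op n))) (p + 1) x := by
  have hB : Opens.IsBasis {V : X.Opens | IsAffineOpen V} := X.isBasis_affineOpens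
  -- the projections
  let a : ∀ n, Coh.HH X (limit G) (p + 1) →+ Coh.HH X (G.obj (op n)) (p + 1) := fun n =>
    Sheaf.H.map ((SheafOfModules.toSheaf _).map (limit.π G (op n))) (p + 1)
  let a' : ∀ n, Sheaf.H (limit (F' G)) (p + 1) →+ Coh.HH X (G.obj (op n)) (p + 1) := fun n =>
    Sheaf.H.map (limit.π (F' G) (op n)) (p + 1)
  have haa' : ∀ n x, a' n (Sheaf.H.map (e G).hom (p + 1) x) = a n x := by
    intro n x
    show Sheaf.H.map _ _ (Sheaf.H.map _ _ x) = Sheaf.H.map _ _ x
    rw [← Sheaf.H.map_comp_apply, e_hom_π]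
  have ha'a : ∀ n x, a n (Sheaf.H.map (e G).inv (p + 1) x) = a' n x := by
    intro n x
    show Sheaf.H.map _ _ (Sheaf.H.map _ _ x) = Sheaf.H.map _ _ x
    rw [← Sheaf.H.map_comp_apply, e_inv_π]
  have hmem : ∀ x, (AddMonoidHom.pi a) x ∈
      Formal2.limZero (fun n => Coh.HH X (G.obj (op n)) (p + 1)) (Formal2.HHsysMap G (p + 1)) := by
    intro x
    rw [AddMonoidHom.mem_ker]
    funext n
    show a n x - Formal2.HHsysMap G (p + 1) n (a (n + 1) x) = 0
    have hw : (SheafOfModules.toSheaf X.ringCatSheaf).map (limit.π G (op (n + 1))) ≫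
        (SheafOfModules.toSheaf X.ringCatSheaf).map (G.map (homOfLE (Nat.le_succ n)).op) =
        (SheafOfModules.toSheaf X.ringCatSheaf).map (limit.π G (op n)) :=
      ((SheafOfModules.toSheaf X.ringCatSheaf).map_comp _ _).symm.trans
        (congrArg (fun ψ => (SheafOfModules.toSheaf X.ringCatSheaf).map ψ)
          (limit.w G (homOfLE (Nat.le_succ n)).op))
    have : Formal2.HHsysMap G (p + 1) n (a (n + 1) x) = a n x := by
      show Sheaf.H.map _ _ (Sheaf.H.map _ _ x) = Sheaf.H.map _ _ x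
      rw [← Sheaf.H.map_comp_apply, hw]
    rw [this, sub_self]
  let β : Coh.HH X (limit G) (p + 1) →+
      Formal2.limZero (fun n => Coh.HH X (G.obj (op n)) (p + 1)) (Formal2.HHsysMap G (p + 1)) :=
    (AddMonoidHom.pi a).codRestrict _ hmem
  have hβ : ∀ x n, (β x : ∀ n, Coh.HH X (G.obj (op n)) (p + 1)) n = a n x := fun x n => rfl
  have hβsurj : Function.Surjective β := by
    rintro ⟨ξ, hξ⟩
    rw [AddMonoidHom.mem_ker] at hξ
    have hξ' : ∀ n, (ξ (n + 1)).comp (Ext.mk₀ ((F' G).map (homOfLE (Nat.le_succ n)).op))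
        (add_zero (p + 1)) = ξ n := by
      intro n
      have := congrFun hξ n
      exact (sub_eq_zero.1 this).symm
    obtain ⟨η, hη⟩ := MilnorExtE.part1 (F' G) hB (hsurj G hq hepi) (hvan G hq) _ (p + 1) ξ hξ'
    refine ⟨Sheaf.H.map (e G).inv (p + 1) η, Subtype.ext ?_⟩
    funext n
    rw [hβ, ha'a]
    exact hη n
  obtain ⟨ε⟩ := MilnorExtE.part2 (F' G) hB (hsurj G hq hepi) (hvan G hq) _ (p + 1) p rfl a'
    (fun n η => rfl) (Formal2.HHsysMap G p) (fun n x => rfl)
  -- the kernel of `β` maps to the kernel of `pi a'`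
  have hk1 : ∀ x : β.ker, Sheaf.H.map (e G).hom (p + 1) x.1 ∈ (AddMonoidHom.pi a').ker := by
    rintro ⟨x, hx⟩
    rw [AddMonoidHom.mem_ker] at hx ⊢
    funext n
    show a' n (Sheaf.H.map (e G).hom (p + 1) x) = 0
    rw [haa']
    have := congrArg (fun y : Formal2.limZero (fun n => Coh.HH X (G.obj (op n)) (p + 1))
      (Formal2.HHsysMap G (p + 1)) => (y : ∀ n, Coh.HH X (G.obj (op n)) (p + 1)) n) hx
    exact this
  have hk2 : ∀ y : (AddMonoidHom.pi a').ker, Sheaf.H.map (e G).inv (p + 1) y.1 ∈ β.ker := by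
    rintro ⟨y, hy⟩
    rw [AddMonoidHom.mem_ker] at hy ⊢
    apply Subtype.ext
    funext n
    rw [hβ, ha'a]
    exact congrFun hy n
  let α : Formal2.limOne (fun n => Coh.HH X (G.obj (op n)) p) (Formal2.HHsysMap G p) →+
      Coh.HH X (limit G) (p + 1) :=
    ((Sheaf.H.map (e G).inv (p + 1)).comp (AddMonoidHom.pi a').ker.subtype).comp
      ε.symm.toAddMonoidHom
  have hα : ∀ z, α z = Sheaf.H.map (e G).inv (p + 1) (ε.symm z).1 := fun z => rfl
  have hinv : ∀ x, Sheaf.H.map (e G).inv (p + 1) (Sheaf.H.map (e G).hom (p + 1) x) = x := by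
    intro x
    rw [← Sheaf.H.map_comp_apply, Iso.hom_inv_id, Sheaf.H.map_id_apply]
  have hinv' : ∀ x, Sheaf.H.map (e G).hom (p + 1) (Sheaf.H.map (e G).inv (p + 1) x) = x := by
    intro x
    rw [← Sheaf.H.map_comp_apply, Iso.inv_hom_id, Sheaf.H.map_id_apply]
  refine ⟨α, β, ?_, hβsurj, ?_, fun x n => rfl⟩
  · intro z z' h
    rw [hα, hα] at h
    have h' := congrArg (Sheaf.H.map (e G).hom (p + 1)) h
    rw [hinv', hinv'] at h'
    exact ε.symm.injective (Subtype.ext h')
  · ext x
    constructor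
    · rintro ⟨z, rfl⟩
      rw [hα]
      exact hk2 _
    · intro hx
      refine ⟨ε ⟨_, hk1 ⟨x, hx⟩⟩, ?_⟩
      rw [hα, AddEquiv.symm_apply_apply]
      exact hinv x

end MilnorQCoh

end Groth.Agent.Lib.helper27
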