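import Mathlib
import Groth.Prelude.Def_CohTop
import Groth.Prelude.Def_Formal2
import Groth.Agent.Lib.Helper27.MilnorExtE
import Groth.Agent.Lib.Helper27.MilnorQCoh
import Groth.Agent.Lib.Helper27.OpenRestr

/-!
# The limit of a tower of sheaves acyclic on a basis is acyclic on the basis (helper27)
-/

set_option autoImplicit false
set_option linter.unusedSectionVars false
set_option linter.unusedVariables false

namespace Groth.Agent.Lib.helper27

open CategoryTheory Limits Opposite Abelian TopologicalSpace AlgebraicGeometry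
  Groth.Agent.Lib.helper7

universe u

namespace MilnorExtG

variable {X : TopCat.{u}}

/-- `H^0(U, -)` of a morphism surjective on the sections over `U` is surjective -/
lemma HUmap_zero_surjective {F G : CohTop.Ab X} (φ : F ⟶ G) (U : Opens X)
    (h : Function.Surjective (φ.hom.app (op U)).hom) :
    Function.Surjective (CohTop.HUmap φ 0 U) := by
  intro x
  obtain ⟨b, rfl⟩ := (Ext.mk₀_bijective _ _).2 (x : Ext.{u} _ _ 0)
  obtain ⟨s', hs'⟩ := h (FreeYoneda.homEquiv (Opens.grothendieckTopology X) U G b)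
  let b' := (FreeYoneda.homEquiv (Opens.grothendieckTopology X) U F).symm s'
  have hb' : b' ≫ φ = b := by
    apply (FreeYoneda.homEquiv (Opens.grothendieckTopology X) U G).injective
    rw [FreeYoneda.homEquiv_naturality_right, Equiv.apply_symm_apply]
    exact hs'
  refine ⟨Ext.mk₀ b', ?_⟩
  show (Ext.mk₀ b').comp (Ext.mk₀ φ) (add_zero 0) = Ext.mk₀ b
  rw [Ext.mk₀_comp_mk₀, hb']

variable (F : ℕᵒᵖ ⥤ CohTop.Ab X) {B : Set (Opens X)} (hB : Opens.IsBasis B)
  (hsurj : ∀ V ∈ B, ∀ n : ℕ,
    Function.Surjective ((F.map (homOfLE (Nat.le_succ n)).op).hom.app (op V)).hom)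
  (hvan : ∀ n : ℕ, MilnorExtD.Pr B (F.obj (op n)))

include hB hsurj hvan in
theorem subsingleton_HU_limit (U : Opens X) (hU : U ∈ B) (i : ℕ) (hi : 0 < i) :
    Subsingleton (CohTop.HU (limit F) i U) := by
  obtain ⟨j, rfl⟩ : ∃ j, i = j + 1 := ⟨i - 1, by omega⟩
  obtain ⟨ε⟩ := MilnorExtE.part2 F hB hsurj hvan _ (j + 1) j rfl
    (fun n => CohTop.HUmap (limit.π F (op n)) (j + 1) U) (fun n η => rfl)
    (fun n => CohTop.HUmap (F.map (homOfLE (Nat.le_succ n)).op) j U) (fun n x => rfl)
  have hs : Function.Surjective (Formal2.towerDiff (fun n => CohTop.HU (F.obj (op n)) j U)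
      (fun n => CohTop.HUmap (F.map (homOfLE (Nat.le_succ n)).op) j U)) := by
    rcases Nat.eq_zero_or_pos j with rfl | hj
    · intro y
      have ht : ∀ n, Function.Surjective
          (CohTop.HUmap (F.map (homOfLE (Nat.le_succ n)).op) 0 U) := fun n =>
        HUmap_zero_surjective _ U (hsurj U hU n)
      refine ⟨MilnorExtE.solve _ _ ht y, ?_⟩
      funext n
      exact MilnorExtE.solve_spec _ _ ht y n
    · intro y
      refine ⟨0, ?_⟩
      funext n
      have := hvan n U hU j hj
      exact Subsingleton.elim _ _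
  have hsub : Subsingleton (Formal2.limOne (fun n => CohTop.HU (F.obj (op n)) j U)
      (fun n => CohTop.HUmap (F.map (homOfLE (Nat.le_succ n)).op) j U)) := by
    refine ⟨fun a b => ?_⟩
    obtain ⟨a, rfl⟩ := QuotientAddGroup.mk_surjective a
    obtain ⟨b, rfl⟩ := QuotientAddGroup.mk_surjective b
    rw [QuotientAddGroup.eq]
    exact hs _
  refine subsingleton_of_forall_eq 0 (fun η => ?_)
  have hmem : η ∈ (AddMonoidHom.pi fun n => CohTop.HUmap (limit.π F (op n)) (j + 1) U).ker := by
    rw [AddMonoidHom.mem_ker]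
    funext n
    have := hvan n U hU (j + 1) (Nat.succ_pos j)
    exact Subsingleton.elim _ _
  have h0 : (⟨η, hmem⟩ :
      (AddMonoidHom.pi fun n => CohTop.HUmap (limit.π F (op n)) (j + 1) U).ker) = 0 :=
    ε.injective (@Subsingleton.elim _ hsub _ _)
  exact congrArg Subtype.val h0

end MilnorExtG

namespace MilnorQCoh

variable {X : Scheme.{u}} (G : ℕᵒᵖ ⥤ X.Modules)
  (hq : ∀ n, Coh.IsQCoh (G.obj (op n)))
  (hepi : ∀ n, Epi (G.map (homOfLE (Nat.le_succ n)).op))

include hq hepi in
theorem subsingleton_HU_limit (U : X.Opens) (hU : IsAffineOpen U) (p : ℕ) (hp : 0 < p) :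
    Subsingleton (CohTop.HU (Coh.toAb (limit G)) p U) := by
  have hB : Opens.IsBasis {V : X.Opens | IsAffineOpen V} := X.isBasis_affineOpens
  have h := MilnorExtG.subsingleton_HU_limit (F' G) hB (hsurj G hq hepi) (hvan G hq) U hU p hp
  refine subsingleton_of_forall_eq 0 (fun x => ?_)
  have h1 : CohTop.HUmap (e G).inv p U (CohTop.HUmap (e G).hom p U x) = x := by
    show ((x : Ext.{u} _ _ p).comp (Ext.mk₀ (e G).hom) (add_zero p)).comp
      (Ext.mk₀ (e G).inv) (add_zero p) = x
    rw [Ext.comp_assoc_of_third_deg_zero, Ext.mk₀_comp_mk₀, Iso.hom_inv_id, Ext.comp_mk₀_id]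
  rw [← h1, h.elim (CohTop.HUmap (e G).hom p U x) 0, map_zero]

include hq hepi in
theorem subsingleton_HHon_limit (U : X.Opens) (hU : IsAffineOpen U) (p : ℕ) (hp : 0 < p) :
    Subsingleton (Coh.HHon X (limit G) U p) := by
  obtain ⟨ε⟩ := OpenRestr.HU_equiv_H_restr U (Coh.toAb (limit G)) p
  have h := subsingleton_HU_limit G hq hepi U hU p hp
  exact @Equiv.subsingleton _ _ ε.symm.toEquiv h

end MilnorQCoh

end Groth.Agent.Lib.helper27
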