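import Mathlib
import Groth.Prelude.Def_SixF1
import Groth.Agent.Lib.Helper3.LanFlat
set_option autoImplicit false
open CategoryTheory CategoryTheory.Limits AlgebraicGeometry Opposite
universe u

namespace Groth.Agent.Lib.helper27.ModPullExact

variable (Λ : Type (u + 1)) [CommRing Λ]

instance hasColimitsOfShape_costructuredArrow {X Y : Scheme.{u}} (f : X ⟶ Y) (K : (X.Etale)ᵒᵖ) :
    HasColimitsOfShape (CostructuredArrow (EtCoh.bc f).op K) (ModuleCat.{u + 1} Λ) := by
  have : HasColimitsOfSize.{u, u + 1} (ModuleCat.{u + 1} Λ) :=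
    hasColimitsOfSizeShrink.{u, u + 1, u + 1, u + 1} _
  infer_instance

theorem pull_preservesFiniteLimits {X Y : Scheme.{u}} (f : X ⟶ Y) :
    PreservesFiniteLimits (EtModW.pull Λ f) := by
  have hfilt : ∀ K : (X.Etale)ᵒᵖ, IsFiltered (CostructuredArrow (EtCoh.bc f).op K) := fun K ↦
    IsFiltered.of_equivalence (structuredArrowOpEquivalence (EtCoh.bc f) (unop K))
  have hcolim : ∀ K : (X.Etale)ᵒᵖ, PreservesFiniteLimits
      (colim : (CostructuredArrow (EtCoh.bc f).op K ⥤ ModuleCat.{u + 1} Λ) ⥤ _) := by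
    intro K
    have := hfilt K
    have : PreservesColimitsOfShape (CostructuredArrow (EtCoh.bc f).op K)
        (forget (ModuleCat.{u + 1} Λ)) := by
      have h1 : PreservesFilteredColimitsOfSize.{u, u + 1} (forget (ModuleCat.{u + 1} Λ)) :=
        preservesFilteredColimitsOfSize_shrink.{u + 1, u + 1, u, u + 1} _
      exact h1.preserves_filtered_colimits _
    infer_instance
  have hlan : PreservesFiniteLimits ((EtCoh.bc f).op.lan :
      ((Y.Etale)ᵒᵖ ⥤ ModuleCat.{u + 1} Λ) ⥤ (X.Etale)ᵒᵖ ⥤ ModuleCat.{u + 1} Λ) :=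
    Groth.Agent.Lib.helper3.lan_preservesFiniteLimits_of_flat_gen _ (EtCoh.bc f)
  exact Functor.sheafPullbackConstruction.preservesFiniteLimits (EtCoh.bc f)
    (ModuleCat.{u + 1} Λ) Y.smallEtaleTopology X.smallEtaleTopology

theorem push_injective {X Y : Scheme.{u}} (f : X ⟶ Y) (I : EtModW.Mod Λ X) [Injective I] :
    Injective ((EtModW.push Λ f).obj I) := by
  have := pull_preservesFiniteLimits Λ f
  exact Injective.injective_of_adjoint (EtSix.pullPushModAdj Λ f) I

end Groth.Agent.Lib.helper27.ModPullExact
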