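import Mathlib

/-!
# helper27: retracts of finite free objects vs finite projective modules over the endomorphism ring

For a preadditive idempotent complete category `C` with finite coproducts and an object `O`, the functor
`Hom(O, -)` induces an equivalence between the full subcategory of retracts of the objects `O^n` and the
category of finite projective modules over `(End O)ᵐᵒᵖ`.
-/

set_option autoImplicit false

namespace Groth.Agent.Lib.helper27

open CategoryTheory Limits MulOpposite

universe v u₁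

namespace MoritaRetr

variable {C : Type u₁} [Category.{v} C] [Preadditive C] [HasFiniteCoproducts C] (O : C)

/-- the functor `Hom(O, -)` -/
abbrev H : C ⥤ ModuleCat.{v} (End O)ᵐᵒᵖ := preadditiveCoyonedaObj O

/-- the finite free objects -/
noncomputable abbrev Fr (n : ℕ) : C := ∐ fun _ : Fin n => O

/-- retracts of finite free objects -/
def IsRetr : ObjectProperty C :=
  fun M => ∃ (n : ℕ) (i : M ⟶ Fr O n) (r : Fr O n ⟶ M), i ≫ r = 𝟙 M

/-- finite projective modules -/
def FinProj (S : Type v) [Ring S] : ObjectProperty (ModuleCat.{v} S) :=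
  fun N => Module.Finite S N ∧ Module.Projective S N

variable (n : ℕ)

/-- the inclusions -/
noncomputable abbrev ι (k : Fin n) : O ⟶ Fr O n := Sigma.ι (fun _ : Fin n => O) k

/-- the projections -/
noncomputable def π (k : Fin n) : Fr O n ⟶ O := Sigma.desc (fun j => if j = k then 𝟙 O else 0)

@[reassoc]
lemma ι_π (j k : Fin n) : ι O n j ≫ π O n k = if j = k then 𝟙 O else 0 := by
  simp [π]

lemma sum_π_ι : ∑ k, π O n k ≫ ι O n k = 𝟙 (Fr O n) := by
  apply Sigma.hom_ext
  intro j
  rw [Preadditive.comp_sum, Category.comp_id]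
  rw [Finset.sum_eq_single j]
  · rw [ι_π_assoc, if_pos rfl, Category.id_comp]
  · intro k _ hk
    rw [ι_π_assoc, if_neg (Ne.symm hk), zero_comp]
  · intro h
    exact absurd (Finset.mem_univ j) h

omit [HasFiniteCoproducts C] in
lemma smul_def {Y : C} (r : (End O)ᵐᵒᵖ) (f : O ⟶ Y) : r • f = r.unop ≫ f := rfl

/-- an endomorphism as a scalar -/
def sOf (f : O ⟶ O) : (End O)ᵐᵒᵖ := MulOpposite.op (show End O from f)

omit [HasFiniteCoproducts C] in
lemma sOf_smul {Y : C} (f : O ⟶ O) (g : O ⟶ Y) : sOf O f • g = f ≫ g := rfl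

omit [HasFiniteCoproducts C] in
lemma unop_sOf (f : O ⟶ O) : (sOf O f).unop = f := rfl

/-- coordinates -/
noncomputable def coord : (O ⟶ Fr O n) →ₗ[(End O)ᵐᵒᵖ] (Fin n → (End O)ᵐᵒᵖ) where
  toFun g := fun k => sOf O (g ≫ π O n k)
  map_add' g g' := by
    funext k
    show sOf O ((g + g') ≫ π O n k) = sOf O (g ≫ π O n k) + sOf O (g' ≫ π O n k)
    rw [Preadditive.add_comp]
    rfl
  map_smul' r g := by
    funext k
    show sOf O ((r • g) ≫ π O n k) = r * sOf O (g ≫ π O n k)
    rw [smul_def, Category.assoc]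
    rfl

/-- linear combinations of the inclusions -/
noncomputable def comb : (Fin n → (End O)ᵐᵒᵖ) →ₗ[(End O)ᵐᵒᵖ] (O ⟶ Fr O n) where
  toFun c := ∑ k, c k • ι O n k
  map_add' c c' := by
    simp [add_smul, Finset.sum_add_distrib]
  map_smul' r c := by
    simp [Finset.smul_sum, mul_smul]

lemma comb_coord (g : O ⟶ Fr O n) : comb O n (coord O n g) = g := by
  show ∑ k, (sOf O (g ≫ π O n k)) • ι O n k = g
  simp_rw [sOf_smul, Category.assoc]
  rw [← Preadditive.comp_sum, sum_π_ι, Category.comp_id]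

lemma coord_comb (c : Fin n → (End O)ᵐᵒᵖ) : coord O n (comb O n c) = c := by
  funext k
  apply MulOpposite.unop_injective
  show (∑ j, c j • ι O n j) ≫ π O n k = (c k).unop
  rw [Preadditive.sum_comp, Finset.sum_eq_single k]
  · rw [smul_def, Category.assoc, ι_π, if_pos rfl, Category.comp_id]
  · intro j _ hj
    rw [smul_def, Category.assoc, ι_π, if_neg hj, comp_zero]
  · intro h
    exact absurd (Finset.mem_univ k) h

/-- `Hom(O, O^n)` is free of rank `n` -/
noncomputable def e : (Fin n → (End O)ᵐᵒᵖ) ≃ₗ[(End O)ᵐᵒᵖ] (O ⟶ Fr O n) :=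
  LinearEquiv.ofLinearMap (comb O n) (coord O n)
    (LinearMap.ext (comb_coord O n)) (LinearMap.ext (coord_comb O n))

variable {O}

omit [HasFiniteCoproducts C] in
lemma H_map_apply {M N : C} (f : M ⟶ N) (g : O ⟶ M) : ((H O).map f).hom g = g ≫ f := rfl

lemma map_injective_free {N : C} (f g : Fr O n ⟶ N) (h : (H O).map f = (H O).map g) : f = g := by
  apply Sigma.hom_ext
  intro k
  have := congrArg (fun φ => φ.hom (ι O n k)) h
  exact this

lemma lin_apply {N : C} (ψ' : (O ⟶ Fr O n) →ₗ[(End O)ᵐᵒᵖ] (O ⟶ N)) (g : O ⟶ Fr O n) :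
    ψ' g = g ≫ Sigma.desc (fun k => ψ' (ι O n k)) := by
  have h1 : ψ' g = ∑ k, (g ≫ π O n k) ≫ ψ' (ι O n k) := by
    conv_lhs => rw [← comb_coord O n g]
    show ψ' (∑ k, sOf O (g ≫ π O n k) • ι O n k) = _
    rw [map_sum]
    simp_rw [map_smul, sOf_smul]
  have h2 : g ≫ Sigma.desc (fun k => ψ' (ι O n k)) = ∑ k, (g ≫ π O n k) ≫ ψ' (ι O n k) := by
    conv_lhs => rw [← Category.id_comp (Sigma.desc _), ← sum_π_ι O n, Preadditive.sum_comp,
      Preadditive.comp_sum]
    refine Finset.sum_congr rfl (fun k _ => ?_)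
    rw [Category.assoc, Category.assoc, Sigma.ι_desc]
  rw [h1, h2]

lemma map_surjective_free {N : C} (ψ : (H O).obj (Fr O n) ⟶ (H O).obj N) :
    ∃ f : Fr O n ⟶ N, (H O).map f = ψ := by
  let ψ' : (O ⟶ Fr O n) →ₗ[(End O)ᵐᵒᵖ] (O ⟶ N) := ψ.hom
  refine ⟨Sigma.desc (fun k => ψ' (ι O n k)), ?_⟩
  apply ModuleCat.hom_ext
  apply LinearMap.ext
  intro g
  exact (lin_apply n ψ' g).symm

lemma map_bijective {M N : C} (hM : IsRetr O M) :
    Function.Bijective (fun f : M ⟶ N => (H O).map f) := by
  obtain ⟨n, i, r, hir⟩ := hM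
  constructor
  · intro f g h
    have h' : (H O).map f = (H O).map g := h
    have h1 : r ≫ f = r ≫ g := by
      apply map_injective_free
      rw [Functor.map_comp, Functor.map_comp, h']
    calc f = (i ≫ r) ≫ f := by rw [hir, Category.id_comp]
      _ = i ≫ r ≫ g := by rw [Category.assoc, h1]
      _ = g := by rw [← Category.assoc, hir, Category.id_comp]
  · intro ψ
    obtain ⟨f', hf'⟩ := map_surjective_free n ((H O).map r ≫ ψ)
    refine ⟨i ≫ f', ?_⟩
    show (H O).map (i ≫ f') = ψ
    rw [Functor.map_comp, hf', ← Category.assoc, ← Functor.map_comp, hir,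
      CategoryTheory.Functor.map_id, Category.id_comp]

lemma finProj_free : FinProj (End O)ᵐᵒᵖ ((H O).obj (Fr O n)) := by
  constructor
  · exact Module.Finite.equiv (e O n)
  · exact Module.Projective.of_equiv' (e O n)

lemma finProj_of_isRetr {M : C} (hM : IsRetr O M) : FinProj (End O)ᵐᵒᵖ ((H O).obj M) := by
  obtain ⟨n, i, r, hir⟩ := hM
  obtain ⟨h1, h2⟩ := finProj_free (O := O) n
  have hcomp : ((H O).map r).hom.comp ((H O).map i).hom = LinearMap.id := by
    rw [← ModuleCat.hom_comp, ← Functor.map_comp, hir, CategoryTheory.Functor.map_id]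
    rfl
  constructor
  · refine Module.Finite.of_surjective ((H O).map r).hom ?_
    intro x
    exact ⟨((H O).map i).hom x, LinearMap.congr_fun hcomp x⟩
  · exact Module.Projective.of_split ((H O).map i).hom ((H O).map r).hom hcomp

variable (O)

/-- the comparison functor -/
noncomputable def Φ : (IsRetr O).FullSubcategory ⥤ (FinProj (End O)ᵐᵒᵖ).FullSubcategory :=
  (FinProj (End O)ᵐᵒᵖ).lift ((IsRetr O).ι ⋙ H O) (fun M => finProj_of_isRetr M.property)

instance : (Φ O).Faithful where
  map_injective {M N} f g h := by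
    apply ObjectProperty.hom_ext
    apply (map_bijective (N := N.obj) M.property).1
    exact congrArg (fun φ => φ.hom) h

instance : (Φ O).Full where
  map_surjective {M N} ψ := by
    obtain ⟨f, hf⟩ := (map_bijective (N := N.obj) M.property).2 ψ.hom
    refine ⟨ObjectProperty.homMk f, ?_⟩
    apply ObjectProperty.hom_ext
    exact hf

instance [IsIdempotentComplete C] : (Φ O).EssSurj where
  mem_essImage N := by
    obtain ⟨hfin, hproj⟩ := N.property
    obtain ⟨n, f, hf⟩ := Module.Finite.exists_fin' (End O)ᵐᵒᵖ N.obj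
    obtain ⟨s, hs⟩ := Module.projective_lifting_property f LinearMap.id hf
    have hs' : ∀ y, f (s y) = y := fun y => LinearMap.congr_fun hs y
    -- the idempotent
    let E : (O ⟶ Fr O n) →ₗ[(End O)ᵐᵒᵖ] (O ⟶ Fr O n) :=
      (e O n).toLinearMap ∘ₗ s ∘ₗ f ∘ₗ (e O n).symm.toLinearMap
    have hE : ∀ g, E g = e O n (s (f ((e O n).symm g))) := fun g => rfl
    obtain ⟨p, hp⟩ := map_surjective_free (O := O) (N := Fr O n) n (ModuleCat.ofHom E)
    have hp' : ∀ g : O ⟶ Fr O n, g ≫ p = E g := by
      intro g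
      have := congrArg (fun φ => φ.hom g) hp
      exact this
    have hpp : p ≫ p = p := by
      apply map_injective_free
      apply ModuleCat.hom_ext
      apply LinearMap.ext
      intro g
      show g ≫ p ≫ p = g ≫ p
      rw [← Category.assoc, hp', hp', hE, hE, LinearEquiv.symm_apply_apply, hs']
    obtain ⟨Y, i, r, hir, hri⟩ := IsIdempotentComplete.idempotents_split (Fr O n) p hpp
    let toN : (O ⟶ Y) →ₗ[(End O)ᵐᵒᵖ] N.obj :=
      f ∘ₗ (e O n).symm.toLinearMap ∘ₗ ((H O).map i).hom
    let ofN : N.obj →ₗ[(End O)ᵐᵒᵖ] (O ⟶ Y) :=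
      ((H O).map r).hom ∘ₗ (e O n).toLinearMap ∘ₗ s
    have h1 : ∀ x : O ⟶ Y, ofN (toN x) = x := by
      intro x
      show (e O n (s (f ((e O n).symm (x ≫ i))))) ≫ r = x
      rw [← hE, ← hp', ← hri]
      simp only [Category.assoc]
      rw [hir, Category.comp_id, hir, Category.comp_id]
    have h2 : ∀ y : N.obj, toN (ofN y) = y := by
      intro y
      show f ((e O n).symm ((e O n (s y) ≫ r) ≫ i)) = y
      rw [Category.assoc, hri, hp', hE, LinearEquiv.symm_apply_apply, LinearEquiv.symm_apply_apply,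
        hs', hs']
    let eqv : (O ⟶ Y) ≃ₗ[(End O)ᵐᵒᵖ] N.obj :=
      LinearEquiv.ofLinearMap toN ofN (LinearMap.ext h2) (LinearMap.ext h1)
    exact ⟨⟨Y, ⟨n, i, r, hir⟩⟩, ⟨ObjectProperty.isoMk _ (eqv.toModuleIso)⟩⟩

/-- **Retracts of finite free objects are finite projective modules over the endomorphism ring.** -/
theorem nonempty_equivalence [IsIdempotentComplete C] :
    Nonempty ((IsRetr O).FullSubcategory ≌ (FinProj (End O)ᵐᵒᵖ).FullSubcategory) := by
  have : (Φ O).IsEquivalence := { }
  exact ⟨(Φ O).asEquivalence⟩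

end MoritaRetr

end Groth.Agent.Lib.helper27
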