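import Mathlib

/-!
# helper27: endomorphisms of the unit sheaf of modules on a site with a terminal object
-/

set_option autoImplicit false

namespace Groth.Agent.Lib.helper27

open CategoryTheory Limits Opposite

universe u v₁ u₁

namespace UnitEnd

variable {C : Type u₁} [Category.{v₁} C] {J : GrothendieckTopology C} {R : Sheaf J RingCat.{u}}
  {T : C} (hT : IsTerminal T)

/-- evaluation of sections at the terminal object -/
noncomputable def secEquiv (M : SheafOfModules.{u} R) : M.sections ≃ M.val.obj (op T) where
  toFun s := s.val (op T)
  invFun x := ⟨fun U => (M.val.presheaf ⋙ forget _).map (hT.from U.unop).op x, by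
    intro U V f
    rw [← FunctorToTypes.map_comp_apply]
    have : (hT.from U.unop).op ≫ f = (hT.from V.unop).op :=
      Quiver.Hom.unop_inj (hT.hom_ext _ _)
    rw [this]⟩
  left_inv s := Subtype.ext (funext fun U => s.2 (hT.from U.unop).op)
  right_inv x := by
    have : hT.from T = 𝟙 T := hT.hom_ext _ _
    show (M.val.presheaf ⋙ forget _).map (hT.from T).op x = x
    rw [this, op_id, FunctorToTypes.map_id_apply]

/-- morphisms out of the unit are sections over the terminal object -/
noncomputable def evT (M : SheafOfModules.{u} R) : (SheafOfModules.unit R ⟶ M) ≃ M.val.obj (op T) :=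
  (SheafOfModules.unitHomEquiv M).trans (secEquiv hT M)

lemma evT_apply (M : SheafOfModules.{u} R) (f : SheafOfModules.unit R ⟶ M) :
    evT hT M f = f.val.app (op T) (1 : R.obj.obj (op T)) := rfl

/-- endomorphisms of the unit as elements of the ring of global sections -/
noncomputable def evR (f : SheafOfModules.unit R ⟶ SheafOfModules.unit R) : R.obj.obj (op T) :=
  evT hT _ f

lemma evR_apply (f : SheafOfModules.unit R ⟶ SheafOfModules.unit R) :
    evR hT f = f.val.app (op T) (1 : R.obj.obj (op T)) := rfl

lemma evR_comp (f g : SheafOfModules.unit R ⟶ SheafOfModules.unit R) :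
    evR hT (f ≫ g) = evR hT f * evR hT g := by
  rw [evR_apply, evR_apply, evR_apply]
  have key : ∀ x : R.obj.obj (op T), (show R.obj.obj (op T) from (g.val.app (op T)).hom x) =
      x * (show R.obj.obj (op T) from (g.val.app (op T)).hom (1 : R.obj.obj (op T))) := by
    intro x
    have h1 := (g.val.app (op T)).hom.map_smul x (1 : R.obj.obj (op T))
    have h2 : (x • (1 : R.obj.obj (op T)) : R.obj.obj (op T)) = x := mul_one x
    exact (congrArg (g.val.app (op T)).hom h2).symm.trans h1
  exact key _

lemma evR_add (f g : SheafOfModules.unit R ⟶ SheafOfModules.unit R) :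
    evR hT (f + g) = evR hT f + evR hT g := by
  rw [evR_apply, evR_apply, evR_apply]
  rfl

/-- the endomorphism ring of the unit module -/
noncomputable def ringEquiv : (End (SheafOfModules.unit R))ᵐᵒᵖ ≃+* R.obj.obj (op T) where
  toFun a := evR hT a.unop
  invFun x := MulOpposite.op ((evT hT (SheafOfModules.unit R)).symm x)
  left_inv a := by
    apply MulOpposite.unop_injective
    exact (evT hT (SheafOfModules.unit R)).symm_apply_apply a.unop
  right_inv x := (evT hT (SheafOfModules.unit R)).apply_symm_apply x
  map_mul' a b := by
    show evR hT (a.unop ≫ b.unop) = _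
    exact evR_comp hT _ _
  map_add' a b := evR_add hT _ _

end UnitEnd

end Groth.Agent.Lib.helper27
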