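import Mathlib
import Groth.Prelude.Def_FlatMod2
import Groth.Agent.Lib.Helper27.MoritaRetr
import Groth.Agent.Lib.Helper27.UnitEnd

/-!
# helper27: retracts of finite free modules on a scheme vs finite projective modules of global sections
-/

set_option autoImplicit false

namespace Groth.Agent.Lib.helper27

open CategoryTheory Limits Opposite AlgebraicGeometry

universe u

namespace MoritaSch

section transfer

variable {R S : Type u} [Ring R] [Ring S] (e : R ≃+* S)

attribute [local instance] RingHomInvPair.of_ringEquiv

/-- the identity, as a semilinear equivalence -/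
def semi (N : ModuleCat.{u} S) :
    ((ModuleCat.restrictScalars e.toRingHom).obj N) ≃ₛₗ[(e : R →+* S)] N where
  toFun x := x
  invFun x := x
  map_add' _ _ := rfl
  map_smul' _ _ := rfl
  left_inv _ := rfl
  right_inv _ := rfl

lemma finProj_iff (N : ModuleCat.{u} S) :
    MoritaRetr.FinProj R ((ModuleCat.restrictScalars e.toRingHom).obj N) ↔ MoritaRetr.FinProj S N := by
  constructor
  · rintro ⟨h1, h2⟩
    exact ⟨Module.Finite.of_surjective (semi e N).toLinearMap (semi e N).surjective,
      Module.Projective.of_equiv (semi e N)⟩
  · rintro ⟨h1, h2⟩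
    exact ⟨Module.Finite.of_surjective (semi e N).symm.toLinearMap (semi e N).symm.surjective,
      Module.Projective.of_equiv (semi e N).symm⟩

instance : (MoritaRetr.FinProj R).IsClosedUnderIsomorphisms where
  of_iso {M N} i h := by
    obtain ⟨h1, h2⟩ := h
    exact ⟨Module.Finite.equiv i.toLinearEquiv, Module.Projective.of_equiv' i.toLinearEquiv⟩

/-- finite projective modules over isomorphic rings -/
noncomputable def finProjEquiv :
    (MoritaRetr.FinProj S).FullSubcategory ≌ (MoritaRetr.FinProj R).FullSubcategory :=
  (ModuleCat.restrictScalarsEquivalenceOfRingEquiv e).congrFullSubcategory (by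
    funext N
    exact propext (finProj_iff e N))

end transfer

variable (X : Scheme.{u})

/-- the ring of endomorphisms of the structure module is the ring of global functions -/
noncomputable def ρ : (End (Coh.structureModule X))ᵐᵒᵖ ≃+* Γ(X, ⊤) :=
  UnitEnd.ringEquiv (R := X.ringCatSheaf) (T := (⊤ : X.Opens)) isTerminalTop

theorem main :
    Nonempty ((ObjectProperty.FullSubcategory fun M : X.Modules =>
        ∃ (n : ℕ) (i : M ⟶ FlatMod.freeMod X n) (r : FlatMod.freeMod X n ⟶ M), i ≫ r = 𝟙 M) ≌
      (ObjectProperty.FullSubcategory fun N : ModuleCat.{u} (Γ(X, ⊤)) =>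
        Module.Finite (Γ(X, ⊤)) N ∧ Module.Projective (Γ(X, ⊤)) N)) := by
  obtain ⟨E1⟩ := MoritaRetr.nonempty_equivalence (C := X.Modules) (Coh.structureModule X)
  exact ⟨E1.trans (finProjEquiv (ρ X).symm)⟩

end MoritaSch

end Groth.Agent.Lib.helper27
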