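import Mathlib
import Groth.Prelude.Def_PCoh

open CategoryTheory Limits

universe w v u

namespace Groth.Agent.Lib.helper27

variable {C : Type u} [Category.{v} C]

lemma isOfFiniteType_of_epi [Abelian C] (P : ObjectProperty C) {X Y : C} (p : X ⟶ Y) [Epi p]
    (hX : PCoh.IsOfFiniteType P X) : PCoh.IsOfFiniteType P Y := by
  obtain ⟨E, π, hE, hπ⟩ := hX
  exact ⟨E, π ≫ p, hE, epi_comp _ _⟩

lemma isOfFiniteType_of_iso [Abelian C] (P : ObjectProperty C) {X Y : C} (e : X ≅ Y)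
    (hX : PCoh.IsOfFiniteType P X) : PCoh.IsOfFiniteType P Y :=
  isOfFiniteType_of_epi P e.hom hX

variable [Abelian C]

/-- The map on kernels induced by an epimorphism is an epimorphism. -/
lemma epi_kernel_lift {E G H : C} (π : E ⟶ G) [Epi π] (g : G ⟶ H)
    (hw : (kernel.ι (π ≫ g) ≫ π) ≫ g = 0) :
    Epi (kernel.lift g (kernel.ι (π ≫ g) ≫ π) hw) := by
  set φ := kernel.lift g (kernel.ι (π ≫ g) ≫ π) hw with hφ
  have hfst : Epi (pullback.fst (kernel.ι g) π) := Abelian.epi_pullback_of_epi_g _ _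
  let l : pullback (kernel.ι g) π ⟶ kernel (π ≫ g) :=
    kernel.lift _ (pullback.snd (kernel.ι g) π) (by
      rw [← Category.assoc, ← pullback.condition, Category.assoc, kernel.condition, comp_zero])
  have hl : l ≫ φ = pullback.fst (kernel.ι g) π := by
    rw [← cancel_mono (kernel.ι g), Category.assoc, hφ, kernel.lift_ι, ← Category.assoc,
      kernel.lift_ι, pullback.condition]
  exact epi_of_epi_fac hl

/-- If `π` is an epimorphism, finite type of `kernel (π ≫ g)` implies finite type of `kernel g`. -/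
lemma isOfFiniteType_kernel_of_epi_comp (P : ObjectProperty C) {E G H : C} (π : E ⟶ G) [Epi π]
    (g : G ⟶ H) (h : PCoh.IsOfFiniteType P (kernel (π ≫ g))) : PCoh.IsOfFiniteType P (kernel g) := by
  have hw : (kernel.ι (π ≫ g) ≫ π) ≫ g = 0 := by simp
  have := epi_kernel_lift π g hw
  exact isOfFiniteType_of_epi P (kernel.lift g (kernel.ι (π ≫ g) ≫ π) hw) h

theorem isOfFiniteType_kernel_of_precoherent (P : ObjectProperty C)
    (S : ShortComplex C) (hS : S.Exact) (hf : Mono S.f)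
    (hG : PCoh.IsOfFiniteType P S.X₂)
    (hH : (∀ (E : C) (u : E ⟶ S.X₃), P E → PCoh.IsOfFiniteType P (kernel u))) :
    PCoh.IsOfFiniteType P S.X₁ := by
  obtain ⟨E, π, hE, hπ⟩ := hG
  have h2 := isOfFiniteType_kernel_of_epi_comp P π S.g (hH E (π ≫ S.g) hE)
  let e : kernel S.g ≅ S.X₁ := IsLimit.conePointUniqueUpToIso (kernelIsKernel S.g) hS.fIsKernel
  exact isOfFiniteType_of_epi P e.hom h2

theorem precoherent_ext (P : ObjectProperty C)
    (S : ShortComplex C) (hS : S.ShortExact)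
    (hF : ∀ (E : C) (u : E ⟶ S.X₁), P E → PCoh.IsOfFiniteType P (kernel u))
    (hH : ∀ (E : C) (u : E ⟶ S.X₃), P E → PCoh.IsOfFiniteType P (kernel u)) :
    ∀ (E : C) (u : E ⟶ S.X₂), P E → PCoh.IsOfFiniteType P (kernel u) := by
  intro E u hE
  have := hS.mono_f
  obtain ⟨E', p, hE', hp⟩ := hH E (u ≫ S.g) hE
  have hw0 : (kernel.ι (u ≫ S.g) ≫ u) ≫ S.g = 0 := by simp
  let w : kernel (u ≫ S.g) ⟶ S.X₁ := hS.exact.lift (kernel.ι (u ≫ S.g) ≫ u) hw0
  have hw : w ≫ S.f = kernel.ι (u ≫ S.g) ≫ u := hS.exact.lift_f _ _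
  have h1 : PCoh.IsOfFiniteType P (kernel w) :=
    isOfFiniteType_kernel_of_epi_comp P p w (hF E' (p ≫ w) hE')
  -- α : kernel w → kernel u
  have hα0 : (kernel.ι w ≫ kernel.ι (u ≫ S.g)) ≫ u = 0 := by
    rw [Category.assoc, ← hw, ← Category.assoc, kernel.condition, zero_comp]
  let α : kernel w ⟶ kernel u := kernel.lift u (kernel.ι w ≫ kernel.ι (u ≫ S.g)) hα0
  let β₀ : kernel u ⟶ kernel (u ≫ S.g) := kernel.lift _ (kernel.ι u) (by
    rw [← Category.assoc, kernel.condition, zero_comp])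
  have hβ₀ : β₀ ≫ w = 0 := by
    rw [← cancel_mono S.f, Category.assoc, hw, zero_comp, ← Category.assoc, kernel.lift_ι,
      kernel.condition]
  let β : kernel u ⟶ kernel w := kernel.lift w β₀ hβ₀
  have hβα : β ≫ α = 𝟙 _ := by
    rw [← cancel_mono (kernel.ι u), Category.assoc, kernel.lift_ι, ← Category.assoc,
      kernel.lift_ι, kernel.lift_ι, Category.id_comp]
  have : Epi α := epi_of_epi_fac hβα
  exact isOfFiniteType_of_epi P α h1

theorem finiteType_ext (P : ObjectProperty C)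
    (hsum : ∀ X Y : C, P X → P Y → P (X ⨯ Y))
    (hql : PCoh.IsQuasiLiftable P)
    (S : ShortComplex C) (hS : S.ShortExact)
    (hF : PCoh.IsOfFiniteType P S.X₁) (hH : PCoh.IsOfFiniteType P S.X₃) :
    PCoh.IsOfFiniteType P S.X₂ := by
  have := hS.mono_f
  have := hS.epi_g
  obtain ⟨E₁, π₁, hE₁, hπ₁⟩ := hF
  obtain ⟨E₃, π₃, hE₃, hπ₃⟩ := hH
  have hsnd : Epi (pullback.snd S.g π₃) := Abelian.epi_pullback_of_epi_f _ _
  obtain ⟨F', v, hF', hv⟩ := hql _ _ (pullback.snd S.g π₃) hsnd hE₃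
  let a : E₁ ⟶ S.X₂ := π₁ ≫ S.f
  let b : F' ⟶ S.X₂ := v ≫ pullback.fst S.g π₃
  refine ⟨E₁ ⨯ F', prod.fst ≫ a + prod.snd ≫ b, hsum _ _ hE₁ hF', ?_⟩
  apply Preadditive.epi_of_cancel_zero
  intro Q q hq
  have ha : a ≫ q = 0 := by
    have := congrArg (fun x => prod.lift (𝟙 E₁) (0 : E₁ ⟶ F') ≫ x) hq
    simp only [Preadditive.add_comp, Preadditive.comp_add, Category.assoc, comp_zero] at this
    rw [prod.lift_fst_assoc, prod.lift_snd_assoc, Category.id_comp, zero_comp, add_zero] at this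
    exact this
  have hb : b ≫ q = 0 := by
    have := congrArg (fun x => prod.lift (0 : F' ⟶ E₁) (𝟙 F') ≫ x) hq
    simp only [Preadditive.add_comp, Preadditive.comp_add, Category.assoc, comp_zero] at this
    rw [prod.lift_fst_assoc, prod.lift_snd_assoc, Category.id_comp, zero_comp, zero_add] at this
    exact this
  have hfq : S.f ≫ q = 0 := by
    rw [← cancel_epi π₁, comp_zero, ← Category.assoc]; exact ha
  let q' : S.X₃ ⟶ Q := hS.exact.desc q hfq
  have hq' : S.g ≫ q' = q := hS.exact.g_desc _ _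
  have h3 : π₃ ≫ q' = 0 := by
    rw [← cancel_epi (v ≫ pullback.snd S.g π₃), comp_zero, Category.assoc, ← Category.assoc (pullback.snd S.g π₃),
      ← pullback.condition, Category.assoc, hq', ← Category.assoc]
    exact hb
  have h4 : q' = 0 := by
    rw [← cancel_epi π₃, comp_zero]; exact h3
  rw [← hq', h4, comp_zero]


end Groth.Agent.Lib.helper27
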