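import Mathlib

/-!
# helper27: the mapping cocone step for resolutions by a class of objects

For a short exact sequence of cochain complexes `0 → Z → I → Z' → 0` and a quasi-isomorphism
`g : Z' ⟶ T'`, the canonical map `Z ⟶ mappingCocone (I ⟶ Z' ⟶ T')` is a quasi-isomorphism.
-/

set_option autoImplicit false

namespace Groth.Agent.Lib.helper27

open CategoryTheory Limits

universe v u

namespace PResCocone

open CochainComplex HomComplex

variable {A : Type u} [Category.{v} A] [Abelian A]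

section general

variable {K L : CochainComplex A ℤ} (φ : K ⟶ L)

lemma δ_snd_aux :
    δ (-1) 0 ((mappingCone.snd φ).leftShift (-1) (-1) (zero_add _)) =
      -Cochain.ofHom ((-((mappingCone.fst φ).leftShift (-1) 0
        (add_neg_cancel 1)).homOf : (mappingCone φ)⟦(-1 : ℤ)⟧ ⟶ K) ≫ φ) := by
  rw [Cochain.δ_leftShift (mappingCone.snd φ) (-1) (-1) 0 (zero_add _) 1 (by simp),
    mappingCone.δ_snd]
  ext p
  simp

lemma δ_snd : δ (-1) 0 (mappingCocone.snd φ) = -Cochain.ofHom (mappingCocone.fst φ ≫ φ) :=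
  δ_snd_aux φ

lemma ext_to {M : A} (p q : ℤ) (hpq : p + -1 = q) (a b : M ⟶ (mappingCocone φ).X p)
    (h1 : a ≫ (mappingCocone.fst φ).f p = b ≫ (mappingCocone.fst φ).f p)
    (h2 : a ≫ (mappingCocone.snd φ).v p q hpq = b ≫ (mappingCocone.snd φ).v p q hpq) : a = b := by
  have h := mappingCocone.id_X φ p q hpq
  calc a = a ≫ 𝟙 _ := (Category.comp_id a).symm
    _ = b ≫ 𝟙 _ := by
      rw [← h, Preadditive.comp_add, Preadditive.comp_add, ← Category.assoc, ← Category.assoc,
        ← Category.assoc, ← Category.assoc, h1, h2]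
    _ = b := Category.comp_id b

end general

section abstract

variable {Z I Z' W X Y : A} (e : Z ⟶ I) (π : I ⟶ Z') (w : e ≫ π = 0)
  (hS : (ShortComplex.mk e π w).ShortExact)
  (fX : X ⟶ I) (sX : X ⟶ W) (iX : I ⟶ X) (rX : W ⟶ X)
  (hX : fX ≫ iX + sX ≫ rX = 𝟙 X)
  (hif : iX ≫ fX = 𝟙 I) (his : iX ≫ sX = 0) (hrf : rX ≫ fX = 0) (hrs : rX ≫ sX = 𝟙 W)
  (fY : Y ⟶ Z') (sY : Y ⟶ W) (iY : Z' ⟶ Y) (rY : W ⟶ Y)
  (hY : fY ≫ iY + sY ≫ rY = 𝟙 Y)
  (hif' : iY ≫ fY = 𝟙 Z') (his' : iY ≫ sY = 0) (hrf' : rY ≫ fY = 0) (hrs' : rY ≫ sY = 𝟙 W)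
  (l : Z ⟶ X) (ψ : X ⟶ Y)
  (hlf : l ≫ fX = e) (hls : l ≫ sX = 0) (hψf : ψ ≫ fY = fX ≫ π) (hψs : ψ ≫ sY = sX)

include hY in
lemma extY {M : A} (a b : M ⟶ Y) (h1 : a ≫ fY = b ≫ fY) (h2 : a ≫ sY = b ≫ sY) : a = b := by
  calc a = a ≫ 𝟙 _ := (Category.comp_id a).symm
    _ = b ≫ 𝟙 _ := by
      rw [← hY, Preadditive.comp_add, Preadditive.comp_add, ← Category.assoc, ← Category.assoc,
        ← Category.assoc, ← Category.assoc, h1, h2]
    _ = b := Category.comp_id b

include w hY hlf hls hψf hψs in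
lemma l_ψ : l ≫ ψ = 0 := by
  apply extY fY sY iY rY hY
  · rw [Category.assoc, hψf, ← Category.assoc, hlf, w, zero_comp]
  · rw [Category.assoc, hψs, hls, zero_comp]

include hS hX hif his hrf hrs hY hif' his' hrf' hrs' hlf hls hψf hψs in
lemma shortExact_of_decomp (hz : l ≫ ψ = 0) : (ShortComplex.mk l ψ hz).ShortExact := by
  have hmono : Mono e := hS.mono_f
  have hepi : Epi π := hS.epi_g
  have hl : l = e ≫ iX := by
    calc l = l ≫ 𝟙 _ := (Category.comp_id l).symm
      _ = e ≫ iX := by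
        rw [← hX, Preadditive.comp_add, ← Category.assoc, ← Category.assoc, hlf, hls, zero_comp,
          add_zero]
  have hml : Mono l := by
    have : Mono (l ≫ fX) := by rw [hlf]; exact hmono
    exact mono_of_mono l fX
  have hrψ : rX ≫ ψ = rY := by
    apply extY fY sY iY rY hY
    · rw [Category.assoc, hψf, ← Category.assoc, hrf, zero_comp, hrf']
    · rw [Category.assoc, hψs, hrs, hrs']
  have hiψ : iX ≫ ψ = π ≫ iY := by
    apply extY fY sY iY rY hY
    · rw [Category.assoc, hψf, ← Category.assoc, hif, Category.id_comp, Category.assoc, hif',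
        Category.comp_id]
    · rw [Category.assoc, hψs, his, Category.assoc, his', comp_zero]
  have hepiψ : Epi ψ := by
    apply Preadditive.epi_of_cancel_zero
    intro M t ht
    have h1 : rY ≫ t = 0 := by rw [← hrψ, Category.assoc, ht, comp_zero]
    have h2 : iY ≫ t = 0 := by
      rw [← cancel_epi π, ← Category.assoc, ← hiψ, Category.assoc, ht, comp_zero, comp_zero]
    calc t = 𝟙 _ ≫ t := (Category.id_comp t).symm
      _ = 0 := by
        rw [← hY, Preadditive.add_comp, Category.assoc, Category.assoc, h1, h2, comp_zero,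
          comp_zero, add_zero]
  refine ShortComplex.ShortExact.mk' (ShortComplex.exact_of_f_is_kernel _ ?_) hml hepiψ
  refine KernelFork.IsLimit.ofι' l hz (fun {M} t ht => ?_)
  have h1 : (t ≫ fX) ≫ π = 0 := by rw [Category.assoc, ← hψf, ← Category.assoc, ht, zero_comp]
  have h2 : t ≫ sX = 0 := by rw [← hψs, ← Category.assoc, ht, zero_comp]
  refine ⟨hS.exact.lift (t ≫ fX) h1, ?_⟩
  have h3 : hS.exact.lift (t ≫ fX) h1 ≫ e = t ≫ fX := hS.exact.lift_f _ _
  calc hS.exact.lift (t ≫ fX) h1 ≫ l = t ≫ fX ≫ iX := by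
        rw [hl, ← Category.assoc, h3, Category.assoc]
    _ = t ≫ 𝟙 _ := by
        rw [← hX, Preadditive.comp_add, ← Category.assoc t sX, h2, zero_comp, add_zero]
    _ = t := Category.comp_id t

end abstract

section step

variable (S : ShortComplex (CochainComplex A ℤ)) (hS : S.ShortExact)
  {T' : CochainComplex A ℤ} (g : S.X₃ ⟶ T')

/-- the canonical map `Z ⟶ mappingCocone (I ⟶ Z' ⟶ T')` -/
noncomputable def lift : S.X₁ ⟶ mappingCocone (S.g ≫ g) :=
  mappingCocone.lift (S.g ≫ g) S.f 0 (by simp)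

/-- the map of mapping cocones induced by `I ⟶ Z'` -/
noncomputable def ψ : mappingCocone (S.g ≫ g) ⟶ mappingCocone g :=
  mappingCocone.lift g (mappingCocone.fst (S.g ≫ g) ≫ S.g) (mappingCocone.snd (S.g ≫ g))
    (by rw [δ_snd]; simp)

lemma lift_f_fst (p : ℤ) : (lift S g).f p ≫ (mappingCocone.fst (S.g ≫ g)).f p = S.f.f p :=
  mappingCocone.lift_f_fst_f _ _ _ _ p

lemma lift_f_snd (p q : ℤ) (hpq : p + -1 = q) :
    (lift S g).f p ≫ (mappingCocone.snd (S.g ≫ g)).v p q hpq = 0 := by
  refine (mappingCocone.lift_f_snd_v _ _ _ _ p q hpq).trans ?_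
  simp

lemma ψ_f_fst (p : ℤ) : (ψ S g).f p ≫ (mappingCocone.fst g).f p =
    (mappingCocone.fst (S.g ≫ g)).f p ≫ S.g.f p :=
  mappingCocone.lift_f_fst_f _ _ _ _ p

lemma ψ_f_snd (p q : ℤ) (hpq : p + -1 = q) :
    (ψ S g).f p ≫ (mappingCocone.snd g).v p q hpq = (mappingCocone.snd (S.g ≫ g)).v p q hpq :=
  mappingCocone.lift_f_snd_v _ _ _ _ p q hpq

include hS in
lemma degreewise_shortExact (p : ℤ) (hz : (lift S g).f p ≫ (ψ S g).f p = 0) :
    (ShortComplex.mk ((lift S g).f p) ((ψ S g).f p) hz).ShortExact := by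
  have hSp : (ShortComplex.mk (S.f.f p) (S.g.f p)
      (by rw [← HomologicalComplex.comp_f, S.zero, HomologicalComplex.zero_f])).ShortExact :=
    (HomologicalComplex.shortExact_iff_degreewise_shortExact S).1 hS p
  exact shortExact_of_decomp (S.f.f p) (S.g.f p) _ hSp
    ((mappingCocone.fst (S.g ≫ g)).f p) ((mappingCocone.snd (S.g ≫ g)).v p (p + -1) rfl)
    ((mappingCocone.inl (S.g ≫ g)).v p p (add_zero p))
    ((mappingCocone.inr (S.g ≫ g)).1.v (p + -1) p (by lia))
    (mappingCocone.id_X _ p (p + -1) rfl)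
    (mappingCocone.inl_v_fst_f _ p) (mappingCocone.inl_v_snd_v _ p _ rfl)
    (mappingCocone.inr_v_fst_f _ _ p (by lia)) (mappingCocone.inr_v_snd_v _ _ p (by lia))
    ((mappingCocone.fst g).f p) ((mappingCocone.snd g).v p (p + -1) rfl)
    ((mappingCocone.inl g).v p p (add_zero p))
    ((mappingCocone.inr g).1.v (p + -1) p (by lia))
    (mappingCocone.id_X _ p (p + -1) rfl)
    (mappingCocone.inl_v_fst_f _ p) (mappingCocone.inl_v_snd_v _ p _ rfl)
    (mappingCocone.inr_v_fst_f _ _ p (by lia)) (mappingCocone.inr_v_snd_v _ _ p (by lia))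
    ((lift S g).f p) ((ψ S g).f p)
    (lift_f_fst S g p) (lift_f_snd S g p _ rfl) (ψ_f_fst S g p) (ψ_f_snd S g p _ rfl) hz

lemma lift_ψ : lift S g ≫ ψ S g = 0 := by
  ext p
  rw [HomologicalComplex.comp_f, HomologicalComplex.zero_f]
  exact l_ψ (S.f.f p) (S.g.f p)
    (by rw [← HomologicalComplex.comp_f, S.zero, HomologicalComplex.zero_f])
    ((mappingCocone.fst (S.g ≫ g)).f p) ((mappingCocone.snd (S.g ≫ g)).v p (p + -1) rfl)
    ((mappingCocone.fst g).f p) ((mappingCocone.snd g).v p (p + -1) rfl)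
    ((mappingCocone.inl g).v p p (add_zero p))
    ((mappingCocone.inr g).1.v (p + -1) p (by lia))
    (mappingCocone.id_X _ p (p + -1) rfl)
    ((lift S g).f p) ((ψ S g).f p)
    (lift_f_fst S g p) (lift_f_snd S g p _ rfl) (ψ_f_fst S g p) (ψ_f_snd S g p _ rfl)

include hS in
lemma shortExact : (ShortComplex.mk (lift S g) (ψ S g) (lift_ψ S g)).ShortExact := by
  rw [HomologicalComplex.shortExact_iff_degreewise_shortExact]
  intro p
  exact degreewise_shortExact S hS g p _

end step

section acyclic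

attribute [local instance] HasDerivedCategory.standard

lemma acyclic_mappingCocone {K L : CochainComplex A ℤ} (g : K ⟶ L) [QuasiIso g] :
    (mappingCocone g).Acyclic := by
  have hT := DerivedCategory.mappingCocone_triangle_distinguished g
  have hz : IsZero (DerivedCategory.Q.obj (mappingCocone g)) :=
    Pretriangulated.Triangle.isZero₁_of_isIso₂ _ hT (by
      change IsIso (DerivedCategory.Q.map g)
      infer_instance)
  intro n
  rw [HomologicalComplex.exactAt_iff_isZero_homology]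
  exact IsZero.of_iso ((DerivedCategory.homologyFunctor A n).map_isZero hz)
    ((DerivedCategory.homologyFunctorFactors A n).app _).symm

end acyclic

lemma quasiIso_f_of_acyclic {S : ShortComplex (CochainComplex A ℤ)} (hS : S.ShortExact)
    (h₃ : S.X₃.Acyclic) : QuasiIso S.f := by
  rw [quasiIso_iff]
  intro i
  rw [quasiIsoAt_iff_isIso_homologyMap]
  have hz : ∀ j, IsZero (S.X₃.homology j) :=
    fun j => (HomologicalComplex.exactAt_iff_isZero_homology _ _).1 (h₃ j)
  have : Mono (HomologicalComplex.homologyMap S.f i) :=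
    (hS.homology_exact₁ (i - 1) i (by simp)).mono_g ((hz (i - 1)).eq_of_src _ _)
  have : Epi (HomologicalComplex.homologyMap S.f i) :=
    (hS.homology_exact₂ i).epi_f ((hz i).eq_of_tgt _ _)
  exact isIso_of_mono_of_epi _

/-- the canonical map `Z ⟶ mappingCocone (I ⟶ Z' ⟶ T')` is a quasi-isomorphism -/
theorem quasiIso_lift (S : ShortComplex (CochainComplex A ℤ)) (hS : S.ShortExact)
    {T' : CochainComplex A ℤ} (g : S.X₃ ⟶ T') [QuasiIso g] : QuasiIso (lift S g) :=
  quasiIso_f_of_acyclic (shortExact S hS g) (acyclic_mappingCocone g)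

/-- the terms of the mapping cocone belong to a class of objects which is closed under extensions -/
theorem prop_X (P : ObjectProperty A)
    (h2 : ∀ S : ShortComplex A, S.ShortExact → P S.X₁ → (P S.X₂ ↔ P S.X₃))
    {K L : CochainComplex A ℤ} (φ : K ⟶ L) (hK : ∀ k, P (K.X k)) (hL : ∀ k, P (L.X k)) (k : ℤ) :
    P ((mappingCocone φ).X k) := by
  let S : ShortComplex A := ShortComplex.mk ((mappingCocone.inl φ).v k k (add_zero k))
    ((mappingCocone.snd φ).v k (k + -1) rfl) (mappingCocone.inl_v_snd_v _ k _ rfl)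
  have hS : S.ShortExact := ShortComplex.Splitting.shortExact
    { r := (mappingCocone.fst φ).f k
      s := (mappingCocone.inr φ).1.v (k + -1) k (by lia)
      f_r := mappingCocone.inl_v_fst_f _ k
      s_g := mappingCocone.inr_v_snd_v _ _ k (by lia)
      id := mappingCocone.id_X _ k (k + -1) rfl }
  exact (h2 S hS (hK k)).2 (hL _)

end PResCocone

end Groth.Agent.Lib.helper27
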