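import Mathlib

/-!
# helper27: embedding a cochain complex into a complex with terms in a class of objects

If every object of an abelian category embeds into an object of a class `P`, then every cochain
complex `X` admits a degreewise monomorphism `e : X ⟶ E` where `E^k = Y_k ⊞ Y_{k+1}` with
`X^k ↪ Y_k ∈ P`.
-/

set_option autoImplicit false

namespace Groth.Agent.Lib.helper27

open CategoryTheory Limits

universe v u

namespace PResEmb

variable {A : Type u} [Category.{v} A] [Abelian A] (P : ObjectProperty A)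
  (h1 : ∀ X : A, ∃ (Y : A) (i : X ⟶ Y), P Y ∧ Mono i)
  (X : CochainComplex A ℤ)

/-- the chosen object of `P` receiving `X^k` -/
noncomputable def Y (k : ℤ) : A := (h1 (X.X k)).choose

/-- the chosen embedding -/
noncomputable def jY (k : ℤ) : X.X k ⟶ Y P h1 X k := (h1 (X.X k)).choose_spec.choose

lemma prop_Y (k : ℤ) : P (Y P h1 X k) := (h1 (X.X k)).choose_spec.choose_spec.1

instance mono_jY (k : ℤ) : Mono (jY P h1 X k) := (h1 (X.X k)).choose_spec.choose_spec.2

/-- the terms of `E` -/
noncomputable abbrev EX (k : ℤ) : A := Y P h1 X k ⊞ Y P h1 X (k + 1)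

/-- the differential of `E` -/
noncomputable def Ed (k : ℤ) : EX P h1 X k ⟶ EX P h1 X (k + 1) := biprod.snd ≫ biprod.inl

lemma Ed_comp (k : ℤ) : Ed P h1 X k ≫ Ed P h1 X (k + 1) = 0 := by
  simp [Ed]

/-- the complex `E` -/
noncomputable def E : CochainComplex A ℤ :=
  CochainComplex.of (EX P h1 X) (Ed P h1 X) (Ed_comp P h1 X)

lemma E_d (k : ℤ) : (E P h1 X).d k (k + 1) = Ed P h1 X k := CochainComplex.of_d _ _ _

/-- the components of the embedding -/
noncomputable def ef (k : ℤ) : X.X k ⟶ EX P h1 X k :=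
  biprod.lift (jY P h1 X k) (X.d k (k + 1) ≫ jY P h1 X (k + 1))

lemma ef_Ed (k : ℤ) : ef P h1 X k ≫ Ed P h1 X k = X.d k (k + 1) ≫ ef P h1 X (k + 1) := by
  dsimp only [ef, Ed]
  apply biprod.hom_ext
  · simp only [Category.assoc, biprod.inl_fst, biprod.lift_fst, biprod.lift_snd_assoc,
      Category.comp_id]
  · simp only [Category.assoc, biprod.inl_snd, biprod.lift_snd, comp_zero,
      HomologicalComplex.d_comp_d_assoc, zero_comp]

/-- the embedding -/
noncomputable def e : X ⟶ E P h1 X where
  f k := ef P h1 X k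
  comm' p q hpq := by
    obtain rfl : p + 1 = q := hpq
    have h : (E P h1 X).d p (p + 1) = Ed P h1 X p := E_d P h1 X p
    have h2 : ef P h1 X p ≫ (E P h1 X).d p (p + 1) = ef P h1 X p ≫ Ed P h1 X p :=
      congrArg (fun x => ef P h1 X p ≫ x) h
    exact h2.trans (ef_Ed P h1 X p)

instance mono_ef (k : ℤ) : Mono (ef P h1 X k) := by
  have h : ef P h1 X k ≫ biprod.fst = jY P h1 X k := biprod.lift_fst _ _
  have : Mono (ef P h1 X k ≫ biprod.fst) := by
    rw [h]
    infer_instance
  exact mono_of_mono _ biprod.fst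

instance mono_e_f (k : ℤ) : Mono ((e P h1 X).f k) := mono_ef P h1 X k

instance mono_e : Mono (e P h1 X) := HomologicalComplex.mono_of_mono_f _ (fun k => mono_e_f P h1 X k)

omit h1 in
lemma prop_biprod (h2 : ∀ S : ShortComplex A, S.ShortExact → P S.X₁ → (P S.X₂ ↔ P S.X₃))
    (U V : A) (hU : P U) (hV : P V) : P (U ⊞ V) := by
  let S : ShortComplex A := ShortComplex.mk (biprod.inl : U ⟶ U ⊞ V) biprod.snd biprod.inl_snd
  have hS : S.ShortExact := ShortComplex.Splitting.shortExact
    { r := biprod.fst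
      s := biprod.inr
      f_r := biprod.inl_fst
      s_g := biprod.inr_snd
      id := biprod.total }
  exact (h2 S hS hU).2 hV

lemma prop_E (h2 : ∀ S : ShortComplex A, S.ShortExact → P S.X₁ → (P S.X₂ ↔ P S.X₃)) (k : ℤ) :
    P ((E P h1 X).X k) :=
  prop_biprod P h2 _ _ (prop_Y P h1 X k) (prop_Y P h1 X (k + 1))

end PResEmb

end Groth.Agent.Lib.helper27
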