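import Mathlib
import Groth.Agent.Lib.Helper27.PResEmb
import Groth.Agent.Lib.Helper27.PResCocone

/-!
# helper27: resolutions of unbounded complexes by a class of objects of finite resolution dimension
-/

set_option autoImplicit false

namespace Groth.Agent.Lib.helper27

open CategoryTheory Limits ZeroObject

universe v u

namespace PResMain

variable {A : Type u} [Category.{v} A] [Abelian A]

section splice

variable (c i : ℕ → A) (a : ∀ m, c m ⟶ i m) (b : ∀ m, i m ⟶ c (m + 1))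
  (hab : ∀ m, a m ≫ b m = 0) (hS : ∀ m, (ShortComplex.mk (a m) (b m) (hab m)).ShortExact)

include hS in
lemma splice_exact (m : ℕ) :
    (ShortComplex.mk (b m ≫ a (m + 1)) (b (m + 1) ≫ a (m + 1 + 1))
      (by rw [Category.assoc, reassoc_of% (hab (m + 1)), zero_comp, comp_zero])).Exact := by
  have hm : Epi (b m) := (hS m).epi_g
  have hm' : Mono (a (m + 1 + 1)) := (hS (m + 1 + 1)).mono_f
  let S₁ : ShortComplex A := ShortComplex.mk (b m ≫ a (m + 1)) (b (m + 1) ≫ a (m + 1 + 1))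
      (by rw [Category.assoc, reassoc_of% (hab (m + 1)), zero_comp, comp_zero])
  let S₂ : ShortComplex A := ShortComplex.mk (a (m + 1)) (b (m + 1)) (hab (m + 1))
  let S₃ : ShortComplex A := ShortComplex.mk (a (m + 1)) (b (m + 1) ≫ a (m + 1 + 1))
      (by rw [reassoc_of% (hab (m + 1)), zero_comp])
  let φ : S₁ ⟶ S₃ := { τ₁ := b m, τ₂ := 𝟙 _, τ₃ := 𝟙 _ }
  let ψ : S₂ ⟶ S₃ := { τ₁ := 𝟙 _, τ₂ := 𝟙 _, τ₃ := a (m + 1 + 1) }
  have : Epi φ.τ₁ := hm
  have : IsIso φ.τ₂ := inferInstanceAs (IsIso (𝟙 _))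
  have : Mono φ.τ₃ := inferInstanceAs (Mono (𝟙 _))
  have : Epi ψ.τ₁ := inferInstanceAs (Epi (𝟙 _))
  have : IsIso ψ.τ₂ := inferInstanceAs (IsIso (𝟙 _))
  have : Mono ψ.τ₃ := hm'
  exact (ShortComplex.exact_iff_of_epi_of_isIso_of_mono φ).2
    ((ShortComplex.exact_iff_of_epi_of_isIso_of_mono ψ).1 (hS (m + 1)).exact)

end splice

/-- a short exact sequence starting at `Z` -/
structure Step (Z : CochainComplex A ℤ) where
  /-- the middle term -/
  I : CochainComplex A ℤ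
  /-- the monomorphism -/
  e : Z ⟶ I
  /-- the cokernel -/
  Z' : CochainComplex A ℤ
  /-- the epimorphism -/
  π : I ⟶ Z'
  zero : e ≫ π = 0
  shortExact : (ShortComplex.mk e π zero).ShortExact

/-- the trivial short exact sequence `0 → Z → Z → 0 → 0` -/
noncomputable def Step.triv (Z : CochainComplex A ℤ) : Step Z where
  I := Z
  e := 𝟙 Z
  Z' := 0
  π := 0
  zero := comp_zero
  shortExact :=
    { exact := by
        rw [ShortComplex.exact_iff_epi _ rfl]
        exact inferInstanceAs (Epi (𝟙 Z))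
      mono_f := inferInstanceAs (Mono (𝟙 Z))
      epi_g := ⟨fun g h _ => (isZero_zero _).eq_of_src g h⟩ }

variable (P : ObjectProperty A)
  (h1 : ∀ X : A, ∃ (Y : A) (i : X ⟶ Y), P Y ∧ Mono i)

/-- the short exact sequence `0 → Z → E Z → coker → 0` -/
noncomputable def Step.emb (Z : CochainComplex A ℤ) : Step Z where
  I := PResEmb.E P h1 Z
  e := PResEmb.e P h1 Z
  Z' := cokernel (PResEmb.e P h1 Z)
  π := cokernel.π (PResEmb.e P h1 Z)
  zero := cokernel.condition _
  shortExact :=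
    { exact := ShortComplex.exact_cokernel (PResEmb.e P h1 Z)
      mono_f := PResEmb.mono_e P h1 Z
      epi_g := inferInstanceAs (Epi (cokernel.π (PResEmb.e P h1 Z))) }

variable (n : ℕ)

/-- the step used at stage `q` -/
noncomputable def stepAt (q : ℕ) (Z : CochainComplex A ℤ) : Step Z :=
  if q < n then Step.emb P h1 Z else Step.triv Z

lemma stepAt_of_lt (q : ℕ) (h : q < n) (Z : CochainComplex A ℤ) :
    stepAt P h1 n q Z = Step.emb P h1 Z := if_pos h

lemma stepAt_of_ge (q : ℕ) (h : n ≤ q) (Z : CochainComplex A ℤ) :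
    stepAt P h1 n q Z = Step.triv Z := if_neg (not_lt.2 h)

variable (X : CochainComplex A ℤ)

/-- the iterated cokernels -/
noncomputable def Zq : ℕ → CochainComplex A ℤ
  | 0 => X
  | (q + 1) => (stepAt P h1 n q (Zq q)).Z'

/-- the step at stage `q` -/
noncomputable def Sq (q : ℕ) : Step (Zq P h1 n X q) := stepAt P h1 n q (Zq P h1 n X q)

/-- the middle terms -/
noncomputable def Iq (q : ℕ) : CochainComplex A ℤ := (Sq P h1 n X q).I

/-- the embeddings -/
noncomputable def eq (q : ℕ) : Zq P h1 n X q ⟶ Iq P h1 n X q := (Sq P h1 n X q).e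

/-- the projections -/
noncomputable def πq (q : ℕ) : Iq P h1 n X q ⟶ Zq P h1 n X (q + 1) := (Sq P h1 n X q).π

lemma eq_πq (q : ℕ) : eq P h1 n X q ≫ πq P h1 n X q = 0 := (Sq P h1 n X q).zero

lemma shortExact_q (q : ℕ) :
    (ShortComplex.mk (eq P h1 n X q) (πq P h1 n X q) (eq_πq P h1 n X q)).ShortExact :=
  (Sq P h1 n X q).shortExact

lemma eq_πq_f (q : ℕ) (k : ℤ) : (eq P h1 n X q).f k ≫ (πq P h1 n X q).f k = 0 := by
  rw [← HomologicalComplex.comp_f, eq_πq, HomologicalComplex.zero_f]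

lemma shortExact_q_f (q : ℕ) (k : ℤ) :
    (ShortComplex.mk ((eq P h1 n X q).f k) ((πq P h1 n X q).f k)
      (eq_πq_f P h1 n X q k)).ShortExact :=
  (HomologicalComplex.shortExact_iff_degreewise_shortExact _).1 (shortExact_q P h1 n X q) k

lemma prop_Iq (h2 : ∀ S : ShortComplex A, S.ShortExact → P S.X₁ → (P S.X₂ ↔ P S.X₃))
    (q : ℕ) (hq : q < n) (k : ℤ) : P ((Iq P h1 n X q).X k) := by
  have h : Sq P h1 n X q = Step.emb P h1 _ := stepAt_of_lt P h1 n q hq _
  show P ((Sq P h1 n X q).I.X k)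
  rw [h]
  exact PResEmb.prop_E P h1 _ h2 k

lemma isZero_Zq_succ (q : ℕ) (hq : n ≤ q) : IsZero (Zq P h1 n X (q + 1)) := by
  have h : Sq P h1 n X q = Step.triv _ := stepAt_of_ge P h1 n q hq _
  show IsZero (Sq P h1 n X q).Z'
  rw [h]
  exact isZero_zero _

lemma prop_Iq_iff (q : ℕ) (hq : n ≤ q) (k : ℤ) :
    P ((Iq P h1 n X q).X k) ↔ P ((Zq P h1 n X q).X k) := by
  have h : Sq P h1 n X q = Step.triv _ := stepAt_of_ge P h1 n q hq _
  show P ((Sq P h1 n X q).I.X k) ↔ _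
  rw [h]
  exact Iff.rfl

lemma epi_eq_f (q : ℕ) (hq : n ≤ q) (k : ℤ) : Epi ((eq P h1 n X q).f k) := by
  have h : Sq P h1 n X q = Step.triv _ := stepAt_of_ge P h1 n q hq _
  show Epi ((Sq P h1 n X q).e.f k)
  rw [h]
  exact inferInstanceAs (Epi (𝟙 ((Zq P h1 n X q).X k)))

lemma isZero_Iq (q : ℕ) (hq : n < q) (k : ℤ) : IsZero ((Iq P h1 n X q).X k) := by
  obtain ⟨q', rfl⟩ : ∃ q', q = q' + 1 := ⟨q - 1, by omega⟩
  have hz : IsZero ((Zq P h1 n X (q' + 1)).X k) :=
    (HomologicalComplex.eval A (ComplexShape.up ℤ) k).map_isZero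
      (isZero_Zq_succ P h1 n X q' (by omega))
  have h : Sq P h1 n X (q' + 1) = Step.triv _ := stepAt_of_ge P h1 n (q' + 1) (by omega) _
  show IsZero ((Sq P h1 n X (q' + 1)).I.X k)
  rw [h]
  exact hz

/-- the differential of the column complex -/
noncomputable def colD (k : ℤ) (q : ℕ) : (Iq P h1 n X q).X k ⟶ (Iq P h1 n X (q + 1)).X k :=
  (πq P h1 n X q).f k ≫ (eq P h1 n X (q + 1)).f k

lemma colD_comp (k : ℤ) (q : ℕ) : colD P h1 n X k q ≫ colD P h1 n X k (q + 1) = 0 := by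
  dsimp only [colD]
  rw [Category.assoc, reassoc_of% (eq_πq_f P h1 n X (q + 1) k), zero_comp, comp_zero]

/-- the column complex `I_0^k ⟶ I_1^k ⟶ ⋯` -/
noncomputable def col (k : ℤ) : CochainComplex A ℕ :=
  CochainComplex.of (fun q => (Iq P h1 n X q).X k) (colD P h1 n X k) (colD_comp P h1 n X k)

lemma col_d (k : ℤ) (q : ℕ) : (col P h1 n X k).d q (q + 1) = colD P h1 n X k q := by
  dsimp only [col]
  exact CochainComplex.of_d _ _ q

lemma exact_congr {X₁ X₂ X₃ : A} {f f' : X₁ ⟶ X₂}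
    {g g' : X₂ ⟶ X₃} (hf : f = f') (hg : g = g') (w : f ≫ g = 0) (w' : f' ≫ g' = 0)
    (h : (ShortComplex.mk f g w).Exact) : (ShortComplex.mk f' g' w').Exact := by
  subst hf hg
  exact h

lemma col_exactAt (k : ℤ) (q : ℕ) : (col P h1 n X k).ExactAt (q + 1) := by
  refine (HomologicalComplex.exactAt_iff' _ q (q + 1) (q + 1 + 1) (by simp) (by simp)).2 ?_
  exact exact_congr (col_d P h1 n X k q).symm (col_d P h1 n X k (q + 1)).symm _ _
    (splice_exact (fun m => (Zq P h1 n X m).X k) (fun m => (Iq P h1 n X m).X k)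
      (fun m => (eq P h1 n X m).f k) (fun m => (πq P h1 n X m).f k)
      (fun m => eq_πq_f P h1 n X m k) (fun m => shortExact_q_f P h1 n X m k) q)

lemma epi_col_d (k : ℤ) (q : ℕ) (hq : n ≤ q + 1) : Epi ((col P h1 n X k).d q (q + 1)) := by
  rw [col_d]
  have h1' : Epi ((πq P h1 n X q).f k) := (shortExact_q_f P h1 n X q k).epi_g
  have h2' : Epi ((eq P h1 n X (q + 1)).f k) := epi_eq_f P h1 n X (q + 1) hq k
  exact epi_comp' h1' h2'

section main

variable (h2 : ∀ S : ShortComplex A, S.ShortExact → P S.X₁ → (P S.X₂ ↔ P S.X₃))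
  (hn : 1 ≤ n)
  (h3 : ∀ K : CochainComplex A ℕ, (∀ i : ℕ, 1 ≤ i → i ≤ n → K.ExactAt i) →
    (∀ i : ℕ, n < i → IsZero (K.X i)) →
    Epi (K.d (n - 1) n) → (∀ i : ℕ, i < n → P (K.X i)) → P (K.X n))

include h2 hn h3 in
lemma prop_Zn (k : ℤ) : P ((Zq P h1 n X n).X k) := by
  rw [← prop_Iq_iff P h1 n X n le_rfl k]
  refine h3 (col P h1 n X k) ?_ ?_ ?_ ?_
  · intro i hi _
    obtain ⟨i', rfl⟩ : ∃ i', i = i' + 1 := ⟨i - 1, by omega⟩
    exact col_exactAt P h1 n X k i'
  · intro i hi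
    exact isZero_Iq P h1 n X i hi k
  · obtain ⟨m, rfl⟩ : ∃ m, n = m + 1 := ⟨n - 1, by omega⟩
    exact epi_col_d P h1 (m + 1) X k m le_rfl
  · intro i hi
    exact prop_Iq P h1 n X h2 i hi k

include h2 hn h3 in
theorem exists_res (q : ℕ) (hq : q ≤ n) :
    ∃ (T : CochainComplex A ℤ) (f : Zq P h1 n X q ⟶ T), QuasiIso f ∧ ∀ k, P (T.X k) := by
  induction hq using Nat.decreasingInduction with
  | of_succ q hq ih =>
    obtain ⟨T', g, hg, hT'⟩ := ih
    let S : ShortComplex (CochainComplex A ℤ) :=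
      ShortComplex.mk (eq P h1 n X q) (πq P h1 n X q) (eq_πq P h1 n X q)
    exact ⟨CochainComplex.mappingCocone (S.g ≫ g), PResCocone.lift S g,
      PResCocone.quasiIso_lift S (shortExact_q P h1 n X q) g,
      fun k => PResCocone.prop_X P h2 _ (fun k => prop_Iq P h1 n X h2 q hq k) hT' k⟩
  | self =>
    exact ⟨Zq P h1 n X n, 𝟙 _, inferInstance, prop_Zn P h1 n X h2 hn h3⟩

include h1 h2 hn h3 in
/-- **Resolutions of unbounded complexes by a class of objects of finite resolution dimension.** -/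
theorem main : ∃ (I : CochainComplex A ℤ) (f : X ⟶ I), QuasiIso f ∧ ∀ k : ℤ, P (I.X k) :=
  exists_res P h1 n X h2 hn h3 0 (Nat.zero_le n)

end main

end PResMain

end Groth.Agent.Lib.helper27
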