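import Mathlib
import Groth.Agent.Lib.Helper27.PResMain

/-!
# helper27: resolutions of unbounded complexes by a class of objects of finite resolution
dimension, with the finiteness hypothesis stated through sequences of short exact sequences
-/

set_option autoImplicit false

namespace Groth.Agent.Lib.helper27

open CategoryTheory Limits ZeroObject

universe v u

namespace PResMain

variable {A : Type u} [Category.{v} A] [Abelian A] (P : ObjectProperty A)
  (h1 : ∀ X : A, ∃ (Y : A) (i : X ⟶ Y), P Y ∧ Mono i) (n : ℕ) (X : CochainComplex A ℤ)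
  (h2 : ∀ S : ShortComplex A, S.ShortExact → P S.X₁ → (P S.X₂ ↔ P S.X₃))
  (h3 : ∀ (c i : ℕ → A) (a : ∀ m, c m ⟶ i m) (b : ∀ m, i m ⟶ c (m + 1))
    (hab : ∀ m, a m ≫ b m = 0), (∀ m, m < n → (ShortComplex.mk (a m) (b m) (hab m)).ShortExact) →
    (∀ m, m < n → P (i m)) → P (c n))

include h2 h3 in
lemma prop_Zn' (k : ℤ) : P ((Zq P h1 n X n).X k) :=
  h3 (fun m => (Zq P h1 n X m).X k) (fun m => (Iq P h1 n X m).X k)
    (fun m => (eq P h1 n X m).f k) (fun m => (πq P h1 n X m).f k)
    (fun m => eq_πq_f P h1 n X m k) (fun m _ => shortExact_q_f P h1 n X m k)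
    (fun m hm => prop_Iq P h1 n X h2 m hm k)

include h2 h3 in
theorem exists_res' (q : ℕ) (hq : q ≤ n) :
    ∃ (T : CochainComplex A ℤ) (f : Zq P h1 n X q ⟶ T), QuasiIso f ∧ ∀ k, P (T.X k) := by
  induction hq using Nat.decreasingInduction with
  | of_succ q hq ih =>
    obtain ⟨T', g, hg, hT'⟩ := ih
    let S : ShortComplex (CochainComplex A ℤ) :=
      ShortComplex.mk (eq P h1 n X q) (πq P h1 n X q) (eq_πq P h1 n X q)
    exact ⟨CochainComplex.mappingCocone (S.g ≫ g), PResCocone.lift S g,
      PResCocone.quasiIso_lift S (shortExact_q P h1 n X q) g,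
      fun k => PResCocone.prop_X P h2 _ (fun k => prop_Iq P h1 n X h2 q hq k) hT' k⟩
  | self =>
    exact ⟨Zq P h1 n X n, 𝟙 _, inferInstance, prop_Zn' P h1 n X h2 h3⟩

include h1 h2 h3 in
/-- **Resolutions of unbounded complexes by a class of objects of finite resolution dimension.** -/
theorem main' : ∃ (I : CochainComplex A ℤ) (f : X ⟶ I), QuasiIso f ∧ ∀ k : ℤ, P (I.X k) :=
  exists_res' P h1 n X h2 h3 0 (Nat.zero_le n)

end PResMain

end Groth.Agent.Lib.helper27
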