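import Mathlib
import Groth.Agent.Lib.Helper27.PSLattice

/-!
# Normal form of nonzero `A`-submodules of `k[[t]]` for a subalgebra `A ⊇ t^{n₀} k[[t]]` (helper27)

`main`: if `A ⊆ k[[t]]` is a subalgebra containing all series of order `≥ n₀`, with value semigroup
`Γ` and `δ = #(ℕ ∖ Γ)`, then every nonzero `A`-submodule `N ⊆ k[[t]]` is isomorphic to an
`A`-submodule `M'` with `t^{2δ} k[[t]] ⊆ M'` and `dim k[[t]]/M' = δ`.
-/

set_option autoImplicit false
universe u

namespace Groth.Agent.Lib.helper27.PSRankOne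
open PowerSeries
open Groth.Agent.Lib.helper27.PSLattice

variable {k : Type u} [Field k] (A : Subalgebra k (PowerSeries k))

/-- multiplication by `X^j` as an `A`-linear map -/
noncomputable def mulX (j : ℕ) : PowerSeries k →ₗ[↥A] PowerSeries k where
  toFun f := X ^ j * f
  map_add' := mul_add _
  map_smul' a f := by
    simp only [RingHom.id_apply]
    rw [Algebra.smul_def, Algebra.smul_def]
    ring

@[simp] lemma mulX_apply (j : ℕ) (f : PowerSeries k) : mulX A j f = X ^ j * f := rfl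

lemma mulX_injective (j : ℕ) : Function.Injective (mulX A j) :=
  fun _ _ h => X_pow_mul_cancel h

lemma order_X_pow_mul_eq (j : ℕ) (g : PowerSeries k) (n : ℕ) :
    order (X ^ j * g) = n ↔ ∃ s : ℕ, order g = s ∧ n = j + s := by
  rw [order_mul, order_X_pow]
  by_cases hg : g = 0
  · subst hg
    simp
  · obtain ⟨t, ht⟩ : ∃ t : ℕ, order g = t := ⟨_, (coe_toNat_order hg).symm⟩
    rw [ht]
    constructor
    · intro h
      exact ⟨t, rfl, by exact_mod_cast h.symm⟩
    · rintro ⟨s, hs, rfl⟩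
      have : t = s := by exact_mod_cast hs
      subst this
      push_cast
      rfl

lemma exists_eq_X_pow_mul (j : ℕ) (h : PowerSeries k) (hh : (j : ℕ∞) ≤ order h) :
    ∃ g, h = X ^ j * g := by
  have : (X : PowerSeries k) ^ j ∣ h := by
    rw [X_pow_dvd_iff]
    intro m hm
    exact coeff_of_lt_order m (lt_of_lt_of_le (by exact_mod_cast hm) hh)
  exact this

lemma le_order_of_X_pow_mul (j c : ℕ) (g : PowerSeries k)
    (h : ((j + c : ℕ) : ℕ∞) ≤ order (X ^ j * g)) : (c : ℕ∞) ≤ order g := by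
  apply nat_le_order
  intro i hi
  rw [← coeff_X_pow_mul g j i]
  apply coeff_of_lt_order
  refine lt_of_lt_of_le ?_ h
  have : i + j < j + c := by omega
  exact_mod_cast this

theorem main (n₀ : ℕ) (hbig : ∀ h : PowerSeries k, (n₀ : ℕ∞) ≤ order h → h ∈ A) (Γ : Set ℕ)
    (hΓ : ∀ n : ℕ, n ∈ Γ ↔ ∃ f ∈ A, order f = n)
    (N : Submodule ↥A (PowerSeries k)) (hN : N ≠ ⊥) :
    ∃ M' : Submodule ↥A (PowerSeries k),
      (Ideal.span {(X : PowerSeries k) ^ (2 * Γᶜ.ncard)}).restrictScalars ↥A ≤ M' ∧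
      Nonempty (↥N ≃ₗ[↥A] ↥M') ∧
      Module.finrank k (PowerSeries k ⧸ M'.restrictScalars k) = Γᶜ.ncard := by
  classical
  -- minimal order
  have hex : ∃ n : ℕ, ∃ f ∈ N, order f = n := by
    obtain ⟨f, hfN, hf0⟩ := (Submodule.ne_bot_iff N).mp hN
    exact ⟨_, f, hfN, (coe_toNat_order hf0).symm⟩
  set m := Nat.find hex with hm
  obtain ⟨f₀, hf₀N, hf₀⟩ := Nat.find_spec hex
  have hmin : ∀ f ∈ N, (m : ℕ∞) ≤ order f := by
    intro f hf
    by_cases hf0 : f = 0
    · subst hf0; simp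
    · obtain ⟨t, ht⟩ : ∃ t : ℕ, order f = t := ⟨_, (coe_toNat_order hf0).symm⟩
      rw [ht]
      have : m ≤ t := Nat.find_min' hex ⟨f, hf, ht⟩
      exact_mod_cast this
  -- normalise
  set N₂ : Submodule ↥A (PowerSeries k) := N.comap (mulX A m) with hN₂
  have e₁ : ↥N₂ ≃ₗ[↥A] ↥N := by
    refine LinearEquiv.ofBijective ((mulX A m).restrict (p := N₂) (q := N) (fun x hx => hx)) ⟨?_, ?_⟩
    · intro x y hxy
      apply Subtype.ext
      apply mulX_injective A m
      exact congrArg Subtype.val hxy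
    · rintro ⟨y, hy⟩
      obtain ⟨g, rfl⟩ := exists_eq_X_pow_mul m y (hmin y hy)
      exact ⟨⟨g, hy⟩, rfl⟩
  -- a unit in N₂
  obtain ⟨u, hu⟩ := exists_eq_X_pow_mul m f₀ (hmin f₀ hf₀N)
  have huN₂ : u ∈ N₂ := by
    change X ^ m * u ∈ N
    rw [← hu]; exact hf₀N
  have hu0 : order u = 0 := by
    obtain ⟨s, hs, hms⟩ := (order_X_pow_mul_eq m u m).mp (hu ▸ hf₀)
    have : s = 0 := by omega
    rw [hs, this]; rfl
  have hucc : constantCoeff u ≠ 0 := by
    have := coeff_ne_zero_of_order_eq (n := 0) (by rw [hu0]; rfl : order u = (0 : ℕ))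
    simpa using this
  have hsmul : ∀ (a : PowerSeries k) (ha : a ∈ A) (g : PowerSeries k), g ∈ N₂ → a * g ∈ N₂ := by
    intro a ha g hg
    have := N₂.smul_mem (⟨a, ha⟩ : ↥A) hg
    rwa [Algebra.smul_def] at this
  have hN₂big : ∀ h : PowerSeries k, (n₀ : ℕ∞) ≤ order h → h ∈ N₂ := by
    intro h hh
    have h1 : h * u⁻¹ ∈ A := by
      apply hbig
      rw [order_mul]
      exact le_trans hh le_self_add
    have := hsmul _ h1 u huN₂
    rwa [mul_assoc, PowerSeries.inv_mul_cancel u hucc, mul_one] at this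
  set V : Submodule k (PowerSeries k) := N₂.restrictScalars k with hV
  set S := vals V with hS
  have hΓbig : ∀ n, n₀ ≤ n → n ∈ Γ := fun n hn =>
    (hΓ n).mpr ⟨X ^ n, hbig _ (by rw [order_X_pow]; exact_mod_cast hn), order_X_pow n⟩
  have hΓfin : Γᶜ.Finite := (Set.finite_lt_nat n₀).subset (fun n hn => by
    by_contra h
    exact hn (hΓbig n (not_lt.mp h)))
  obtain ⟨hSfin, hSrank⟩ := finrank_quot V n₀ hN₂big
  have hadd : ∀ a ∈ Γ, ∀ b ∈ S, a + b ∈ S := by
    intro a ha b hb
    obtain ⟨f, hfA, hf⟩ := (hΓ a).mp ha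
    obtain ⟨g, hgV, hg⟩ := hb
    refine ⟨f * g, hsmul f hfA g hgV, ?_⟩
    rw [order_mul, hf, hg]; push_cast; rfl
  have hΓS : Γ ⊆ S := by
    intro a ha
    have := hadd a ha 0 ⟨u, huN₂, by rw [hu0]; rfl⟩
    simpa using this
  set δ := Γᶜ.ncard with hδ
  set d := Sᶜ.ncard with hd
  have hdδ : d ≤ δ := Set.ncard_le_ncard (Set.compl_subset_compl.mpr hΓS) hΓfin
  have hSbig : ∀ n, δ + d ≤ n → n ∈ S := mem_of_add_le Γ S hΓfin hSfin hadd
  have hVbig : ∀ h : PowerSeries k, ((δ + d : ℕ) : ℕ∞) ≤ order h → h ∈ V :=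
    mem_of_le_order V n₀ hN₂big (δ + d) hSbig
  -- shift
  set j := δ - d with hj
  set M' : Submodule ↥A (PowerSeries k) := N₂.map (mulX A j) with hM'
  have e₂ : ↥N₂ ≃ₗ[↥A] ↥M' := Submodule.equivMapOfInjective (mulX A j) (mulX_injective A j) N₂
  have hM'big : ∀ h : PowerSeries k, ((2 * δ : ℕ) : ℕ∞) ≤ order h → h ∈ M' := by
    intro h hh
    have h2 : 2 * δ = j + (δ + d) := by omega
    rw [h2] at hh
    obtain ⟨g, rfl⟩ := exists_eq_X_pow_mul j h (le_trans (by exact_mod_cast Nat.le_add_right _ _) hh)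
    exact ⟨g, hVbig g (le_order_of_X_pow_mul j (δ + d) g hh), rfl⟩
  refine ⟨M', ?_, ⟨e₁.symm.trans e₂⟩, ?_⟩
  · intro x hx
    rw [Submodule.restrictScalars_mem, Ideal.mem_span_singleton] at hx
    obtain ⟨g, rfl⟩ := hx
    apply hM'big
    rw [order_mul, order_X_pow]
    exact le_self_add
  · set V' : Submodule k (PowerSeries k) := M'.restrictScalars k with hV'
    obtain ⟨-, hrank'⟩ := finrank_quot V' (2 * δ) hM'big
    rw [hrank']
    have hvals : vals V' = (fun s => j + s) '' S := by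
      ext n
      constructor
      · rintro ⟨f, hf, hfn⟩
        obtain ⟨g, hg, rfl⟩ := hf
        obtain ⟨s, hs, rfl⟩ := (order_X_pow_mul_eq j g n).mp hfn
        exact ⟨s, ⟨g, hg, hs⟩, rfl⟩
      · rintro ⟨s, ⟨g, hg, hs⟩, rfl⟩
        exact ⟨X ^ j * g, ⟨g, hg, rfl⟩, (order_X_pow_mul_eq j g (j + s)).mpr ⟨s, hs, rfl⟩⟩
    have hcompl : (vals V')ᶜ = ((Finset.range j : Finset ℕ) : Set ℕ) ∪ (fun s => j + s) '' Sᶜ := by
      rw [hvals]
      ext n
      simp only [Set.mem_compl_iff, Set.mem_image, not_exists, not_and, Set.mem_union,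
        Finset.coe_range, Set.mem_Iio]
      constructor
      · intro h
        by_cases hnj : n < j
        · exact Or.inl hnj
        · right
          refine ⟨n - j, fun hs => h (n - j) hs (by omega), by omega⟩
      · rintro (h | ⟨s, hs, rfl⟩)
        · intro s _ hsn; omega
        · intro s' hs' he
          have : s' = s := by omega
          exact hs (this ▸ hs')
    have hdisj : Disjoint ((Finset.range j : Finset ℕ) : Set ℕ) ((fun s => j + s) '' Sᶜ) := by
      rw [Set.disjoint_left]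
      rintro n hn ⟨s, _, rfl⟩
      simp only [Finset.coe_range, Set.mem_Iio] at hn
      omega
    rw [hcompl, Set.ncard_union_eq hdisj (Finset.finite_toSet _) (hSfin.image _),
      Set.ncard_coe_finset, Finset.card_range,
      Set.ncard_image_of_injective _ (fun a b h => by simpa using h)]
    omega

end Groth.Agent.Lib.helper27.PSRankOne
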