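import Mathlib

set_option linter.unusedSectionVars false
set_option linter.unusedVariables false
set_option linter.style.haveILetI false

namespace Groth.Agent.Lib.helper27

open CategoryTheory Limits

universe w w' v v' u u'

namespace PlusLES

/-- exactness at the middle of the cohomology sequence of `R⁺F` for a short exact sequence of
bounded below complexes (adapted from helper25's proof of S12229, without left exactness) -/
theorem exact_middle {C : Type u} [Category.{v} C] [Abelian C] [HasDerivedCategory.{w} C]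
    [EnoughInjectives C] {D : Type u'} [Category.{v'} D] [Abelian D] [HasDerivedCategory.{w'} D]
    (F : C ⥤ D) [F.Additive]
    {X₁ X₂ X₃ : CochainComplex.Plus C} (f : X₁ ⟶ X₂) (g : X₂ ⟶ X₃)
    (hfg : f.hom ≫ g.hom = 0) (hS : (ShortComplex.mk f.hom g.hom hfg).ShortExact)
    (i : ℤ)
    (hz : (HomotopyCategory.Plus.quotient C ⋙ DerivedCategory.Plus.Qh ⋙ F.rightDerivedFunctorPlus ⋙
      DerivedCategory.Plus.ι ⋙ DerivedCategory.homologyFunctor D i).map f ≫
      (HomotopyCategory.Plus.quotient C ⋙ DerivedCategory.Plus.Qh ⋙ F.rightDerivedFunctorPlus ⋙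
      DerivedCategory.Plus.ι ⋙ DerivedCategory.homologyFunctor D i).map g = 0) :
    (ShortComplex.mk ((HomotopyCategory.Plus.quotient C ⋙ DerivedCategory.Plus.Qh ⋙
      F.rightDerivedFunctorPlus ⋙
      DerivedCategory.Plus.ι ⋙ DerivedCategory.homologyFunctor D i).map f)
      ((HomotopyCategory.Plus.quotient C ⋙ DerivedCategory.Plus.Qh ⋙ F.rightDerivedFunctorPlus ⋙
      DerivedCategory.Plus.ι ⋙ DerivedCategory.homologyFunctor D i).map g) hz).Exact := by
  -- notation
  let quot := HomotopyCategory.Plus.quotient C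
  let Qp : HomotopyCategory.Plus C ⥤ DerivedCategory.Plus C := DerivedCategory.Plus.Qh
  let ιp : DerivedCategory.Plus C ⥤ DerivedCategory C := DerivedCategory.Plus.ι
  let J := (InjectiveObject.ι C).mapHomotopyCategoryPlus
  let S : ShortComplex (CochainComplex C ℤ) := ShortComplex.mk f.hom g.hom hfg
  let e : ∀ X : CochainComplex.Plus C, ιp.obj (Qp.obj (quot.obj X)) ≅ DerivedCategory.Q.obj X.obj :=
    fun X => (DerivedCategory.quotientCompQhIso C).app X.obj
  have he : ∀ {X Y : CochainComplex.Plus C} (u : X ⟶ Y),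
      ιp.map (Qp.map (quot.map u)) ≫ (e Y).hom = (e X).hom ≫ DerivedCategory.Q.map u.hom :=
    fun u => (DerivedCategory.quotientCompQhIso C).hom.naturality u.hom
  have hTX : Pretriangulated.Triangle.mk (ιp.map (Qp.map (quot.map f))) (ιp.map (Qp.map (quot.map g)))
      ((e X₃).hom ≫ DerivedCategory.triangleOfSESδ hS ≫
        (shiftFunctor (DerivedCategory C) (1 : ℤ)).map (e X₁).inv) ∈
      Pretriangulated.distinguishedTriangles := by
    refine Pretriangulated.isomorphic_distinguished _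
      (DerivedCategory.triangleOfSES_distinguished hS) _ ?_
    refine Pretriangulated.Triangle.isoMk _ _ (e X₁) (e X₂) (e X₃) ?_ ?_ ?_
    · exact he f
    · exact he g
    · show ((e X₃).hom ≫ DerivedCategory.triangleOfSESδ hS ≫
          (shiftFunctor (DerivedCategory C) (1 : ℤ)).map (e X₁).inv) ≫
          (shiftFunctor (DerivedCategory C) (1 : ℤ)).map (e X₁).hom =
          (e X₃).hom ≫ DerivedCategory.triangleOfSESδ hS
      simp only [Category.assoc, ← Functor.map_comp, Iso.inv_hom_id, CategoryTheory.Functor.map_id,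
        Category.comp_id]
  -- arrow resolution of `quot f` by bounded below complexes of injectives
  obtain ⟨r⟩ : Nonempty ((HomotopyCategory.Plus.localizerMorphism C).arrow.RightResolution
    (Arrow.mk (quot.map f))) := inferInstance
  let Y₁ := r.X₁.left
  let Y₂ := r.X₁.right
  let φ : Y₁ ⟶ Y₂ := r.X₁.hom
  let α₁ : quot.obj X₁ ⟶ J.obj Y₁ := r.w.left
  let α₂ : quot.obj X₂ ⟶ J.obj Y₂ := r.w.right
  have hα : α₁ ≫ J.map φ = quot.map f ≫ α₂ := r.w.w
  have i₁ : IsIso (Qp.map α₁) :=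
    Localization.inverts Qp (HomotopyCategory.Plus.quasiIso C) _ r.hw.1
  have i₂ : IsIso (Qp.map α₂) :=
    Localization.inverts Qp (HomotopyCategory.Plus.quasiIso C) _ r.hw.2
  obtain ⟨Y₃, ψ, χ, hTY⟩ := Pretriangulated.distinguished_cocone_triangle φ
  have hTI := (Qp ⋙ ιp).map_distinguished _ (J.map_distinguished _ hTY)
  -- isomorphism of triangles in `D(C)`
  have j₁ : IsIso (ιp.map (Qp.map α₁)) := Functor.map_isIso ιp (Qp.map α₁)
  have j₂ : IsIso (ιp.map (Qp.map α₂)) := Functor.map_isIso ιp (Qp.map α₂)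
  let E := Pretriangulated.isoTriangleOfIso₁₂ _ _ hTX hTI
    (@asIso _ _ _ _ (ιp.map (Qp.map α₁)) j₁) (@asIso _ _ _ _ (ιp.map (Qp.map α₂)) j₂)
    (by
      show ιp.map (Qp.map (quot.map f)) ≫ ιp.map (Qp.map α₂) =
        ιp.map (Qp.map α₁) ≫ ιp.map (Qp.map (J.map φ))
      rw [← Functor.map_comp, ← Functor.map_comp, ← Functor.map_comp, ← Functor.map_comp, hα])
  let ε₃ : Qp.obj (quot.obj X₃) ≅ Qp.obj (J.obj Y₃) :=
    ιp.preimageIso (Pretriangulated.Triangle.π₃.mapIso E)
  have hε₃ : Qp.map (quot.map g) ≫ ε₃.hom = Qp.map α₂ ≫ Qp.map (J.map ψ) := by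
    apply ιp.map_injective
    have h1 := E.hom.comm₂
    have h2 : ιp.map ε₃.hom = E.hom.hom₃ := by
      show ιp.map (ιp.preimageIso (Pretriangulated.Triangle.π₃.mapIso E)).hom = _
      rw [Functor.preimageIso_hom, Functor.map_preimage]
      rfl
    have h3 : E.hom.hom₂ = ιp.map (Qp.map α₂) := rfl
    rw [Functor.map_comp, Functor.map_comp, h2]
    rw [h3] at h1
    exact h1
  -- the unit of the derived functor
  let RF := F.rightDerivedFunctorPlus
  let G : HomotopyCategory.Plus C ⥤ DerivedCategory.Plus D :=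
    F.mapHomotopyCategoryPlus ⋙ DerivedCategory.Plus.Qh
  let η : G ⟶ Qp ⋙ RF := F.rightDerivedFunctorPlusUnit
  have k₁ : IsIso (η.app (J.obj Y₁)) := inferInstance
  have k₂ : IsIso (η.app (J.obj Y₂)) := inferInstance
  have k₃ : IsIso (η.app (J.obj Y₃)) := inferInstance
  have R1 : RF.map (Qp.map (quot.map f)) ≫ RF.map (Qp.map α₂) ≫ inv (η.app (J.obj Y₂)) =
      (RF.map (Qp.map α₁) ≫ inv (η.app (J.obj Y₁))) ≫ G.map (J.map φ) := by
    rw [← cancel_mono (η.app (J.obj Y₂))]
    have hn := η.naturality (J.map φ)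
    simp only [Category.assoc, IsIso.inv_hom_id, Category.comp_id]
    rw [hn, IsIso.inv_hom_id_assoc]
    show RF.map (Qp.map (quot.map f)) ≫ RF.map (Qp.map α₂) =
      RF.map (Qp.map α₁) ≫ RF.map (Qp.map (J.map φ))
    rw [← Functor.map_comp, ← Functor.map_comp, ← Functor.map_comp, ← Functor.map_comp, hα]
  have R2 : RF.map (Qp.map (quot.map g)) ≫ RF.map ε₃.hom ≫ inv (η.app (J.obj Y₃)) =
      (RF.map (Qp.map α₂) ≫ inv (η.app (J.obj Y₂))) ≫ G.map (J.map ψ) := by
    rw [← cancel_mono (η.app (J.obj Y₃))]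
    have hn := η.naturality (J.map ψ)
    simp only [Category.assoc, IsIso.inv_hom_id, Category.comp_id]
    rw [hn, IsIso.inv_hom_id_assoc]
    show RF.map (Qp.map (quot.map g)) ≫ RF.map ε₃.hom =
      RF.map (Qp.map α₂) ≫ RF.map (Qp.map (J.map ψ))
    rw [← Functor.map_comp, ← Functor.map_comp, hε₃]
  -- the distinguished triangle in `D(D)` and its long exact sequence
  let ιp' : DerivedCategory.Plus D ⥤ DerivedCategory D := DerivedCategory.Plus.ι
  have hT := (G ⋙ ιp').map_distinguished _ (J.map_distinguished _ hTY)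
  let T := (G ⋙ ιp').mapTriangle.obj (J.mapTriangle.obj (Pretriangulated.Triangle.mk φ ψ χ))
  let Hn : ℤ → DerivedCategory.Plus D ⥤ D := fun n => ιp' ⋙ DerivedCategory.homologyFunctor D n
  let θ₁ : RF.obj (Qp.obj (quot.obj X₁)) ≅ G.obj (J.obj Y₁) :=
    RF.mapIso (@asIso _ _ _ _ (Qp.map α₁) i₁) ≪≫ (@asIso _ _ _ _ (η.app (J.obj Y₁)) k₁).symm
  let θ₂ : RF.obj (Qp.obj (quot.obj X₂)) ≅ G.obj (J.obj Y₂) :=
    RF.mapIso (@asIso _ _ _ _ (Qp.map α₂) i₂) ≪≫ (@asIso _ _ _ _ (η.app (J.obj Y₂)) k₂).symm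
  let θ₃ : RF.obj (Qp.obj (quot.obj X₃)) ≅ G.obj (J.obj Y₃) :=
    RF.mapIso ε₃ ≪≫ (@asIso _ _ _ _ (η.app (J.obj Y₃)) k₃).symm
  have R1' : RF.map (Qp.map (quot.map f)) ≫ θ₂.hom = θ₁.hom ≫ G.map (J.map φ) := R1
  have R2' : RF.map (Qp.map (quot.map g)) ≫ θ₃.hom = θ₂.hom ≫ G.map (J.map ψ) := R2
  have hex := DerivedCategory.HomologySequence.exact₂ T hT i
  refine (ShortComplex.exact_iff_of_iso (ShortComplex.isoMk ((Hn i).mapIso θ₁) ((Hn i).mapIso θ₂)
    ((Hn i).mapIso θ₃) ?_ ?_)).2 hex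
  · show (Hn i).map θ₁.hom ≫ (Hn i).map (G.map (J.map φ)) =
      (Hn i).map (RF.map (Qp.map (quot.map f))) ≫ (Hn i).map θ₂.hom
    rw [← Functor.map_comp, ← Functor.map_comp, R1']
  · show (Hn i).map θ₂.hom ≫ (Hn i).map (G.map (J.map ψ)) =
      (Hn i).map (RF.map (Qp.map (quot.map g))) ≫ (Hn i).map θ₃.hom
    rw [← Functor.map_comp, ← Functor.map_comp, R2']

end PlusLES

end Groth.Agent.Lib.helper27
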