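import Mathlib
import Groth.Prelude.Def_FibDesc
import Groth.Prelude.Def_SpSeq
import Groth.Agent.Lib.Helper27.HAcyc
import Groth.Agent.Lib.Helper27.FibCrit
import Groth.Agent.Lib.Helper27.Prepend
import Groth.Agent.Lib.Helper27.SSGroth4

set_option autoImplicit false
set_option linter.unusedSectionVars false
set_option linter.unusedVariables false
set_option linter.style.haveILetI false
set_option backward.isDefEq.respectTransparency false
set_option backward.isDefEq.respectTransparency.types false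

namespace Groth.Agent.Lib.helper27

open CategoryTheory Limits Opposite Pseudofunctor Pseudofunctor.CoGrothendieck AlgebraicTopology
open FibDesc TopologicalSpace

universe u

namespace PropSS

open BigSec TotSide TAug RanV DecDef DecNat PushSec TpFun TpUniv HAcyc LerayDegTop

attribute [local instance] HasDerivedCategory.standard

variable (Y : (WithInitial SimplexCategory)ᵒᵖ ⥤ TopCat.{u})

lemma hT (Q : DShY Y) (hQ : Injective Q) (q : ℕ) (hq : 0 < q) :
    IsZero (((lim : (SimplexCategory ⥤ AddCommGrpCat.{u}) ⥤ AddCommGrpCat.{u}).rightDerived q).obj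
      ((KΔ Y ⊤).obj Q)) := by
  obtain ⟨n, rfl⟩ : ∃ n, q = n + 1 := ⟨q - 1, by omega⟩
  haveI := hQ
  haveI := injective_KΔ Y ⊤ Q
  exact Functor.isZero_rightDerived_obj_injective_succ _ n _

variable (hY : IsCohDescentTop Y) (F : CohTop.Ab (Y.obj (bot SimplexCategory)))

include hY in
lemma hH (k : ℕ) :
    Nonempty (AddCommGrpCat.of (CohTop.H F k) ≅
      ((KΔ Y ⊤ ⋙ (lim : (SimplexCategory ⥤ AddCommGrpCat.{u}) ⥤
        AddCommGrpCat.{u})).rightDerived k).obj (Tp Y F)) := by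
  haveI : HasExt.{u + 1} (BSh Y) := HasExt.standard _
  haveI : HasExt.{u + 1} (DShY Y) := HasExt.standard _
  obtain ⟨e1⟩ := rightDerived_ΓT_iso (Y.obj (bot SimplexCategory)) k F
  haveI := FibCrit.isIso_uT' hY F
  let e2 := ((ΓT (Y.obj (bot SimplexCategory))).rightDerived k).mapIso (asIso (uT Y F))
  have hacyc : CompAcyc.Acyc (pushY Y) (Tp Y F) := by
    intro i hi
    obtain ⟨n, rfl⟩ : ∃ n, i = n + 1 := ⟨i - 1, by omega⟩
    refine IsZero.of_iso ?_ (((pushY Y).rightDerived (n + 1)).mapIso ((pullIso Y).app F).symm)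
    exact ConvFF.isZero_rightDerived_all.{u + 1, u + 1}
      (adj (topAug Y) (topAugTop Y) AddCommGrpCat.{u}) (LocCrit.ffPlus_of Y hY) n (toB Y F)
  haveI : (ΓV Y ⊤).Additive := LemU.additive_sheafSections _ _
  haveI : PreservesFiniteLimits (ΓV Y ⊤) := by
    show PreservesFiniteLimits (sheafToPresheaf _ _ ⋙
      (evaluation _ _).obj (op (⊤ : Opens (Y.obj (bot SimplexCategory)))))
    infer_instance
  obtain ⟨e3⟩ := CompAcyc.rightDerived_comp_iso (pushY Y) (ΓV Y ⊤)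
    (fun I hI => by
      haveI := hI
      exact FFThm.injective_U_obj (adj (topAug Y) (topAugTop Y) AddCommGrpCat.{u}) I)
    (Tp Y F) hacyc k
  let e4 := (DescCrit.rdIso (pushΓIso Y ⊤) k).app (Tp Y F)
  let e5 := (DescCrit.rdIso (KΔlimIso Y ⊤) k).app (Tp Y F)
  exact ⟨e1.symm ≪≫ e2 ≪≫ e3 ≪≫ e4 ≪≫ e5.symm⟩

/-- the rows of the first page -/
noncomputable def R (l : ℕ) : CochainComplex AddCommGrpCat.{u} ℕ :=
  (alternatingCofaceMapComplex AddCommGrpCat.{u}).obj (((KΔ Y ⊤).rightDerived l).obj (Tp Y F))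

lemma hE (k l : ℕ) :
    Nonempty ((R Y F l).homology k ≅
      ((lim : (SimplexCategory ⥤ AddCommGrpCat.{u}) ⥤ AddCommGrpCat.{u}).rightDerived k).obj
        (((KΔ Y ⊤).rightDerived l).obj (Tp Y F))) := by
  obtain ⟨e⟩ := CosimpLim.main (((KΔ Y ⊤).rightDerived l).obj (Tp Y F)) k
  exact ⟨e.symm⟩

/-- the terms of the first page -/
lemma hX (k l : ℕ) :
    Nonempty ((R Y F l).X k ≅ AddCommGrpCat.of (CohTop.H ((CohTop.pull
      (aP Y (op (SimplexCategory.mk k)))).obj F) l)) := by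
  obtain ⟨e1⟩ := evalDer_KΔ Y (Tp Y F) l (SimplexCategory.mk k)
  let e2 := ((ΓT (Xs Y (op (SimplexCategory.mk k)))).rightDerived l).mapIso
    (DecNat.levelIso F (op (SimplexCategory.mk k)))
  obtain ⟨e3⟩ := rightDerived_ΓT_iso (Xs Y (op (SimplexCategory.mk k))) l
    ((CohTop.pull (aP Y (op (SimplexCategory.mk k)))).obj F)
  exact ⟨e1 ≪≫ e2 ≪≫ e3⟩

include hY in
theorem main :
    ∃ (E : CohomologicalSpectralSequence AddCommGrpCat.{u} 1)
      (a : SpSeq.Abutment E (fun n : ℤ =>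
        if 0 ≤ n then AddCommGrpCat.of (CohTop.H F n.toNat) else AddCommGrpCat.of PUnit.{u + 1})),
      (∀ n, a.IsFinite n) ∧ SpSeq.IsBounded E ∧
      ∀ p q : ℤ, Nonempty ((E.page 1 le_rfl).X (p, q) ≅
        (if 0 ≤ p ∧ 0 ≤ q then
          AddCommGrpCat.of (CohTop.H ((CohTop.pull
            (aP Y (op (SimplexCategory.mk p.toNat)))).obj F) q.toNat)
         else AddCommGrpCat.of PUnit.{u + 1})) := by
  have hZ : IsZero (AddCommGrpCat.of PUnit.{u + 1}) := AddCommGrpCat.isZero_of_subsingleton _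
  obtain ⟨E, a, ha, -, hE2⟩ := SSGroth.grothendieck_ss_nat (KΔ Y ⊤)
    (lim : (SimplexCategory ⥤ AddCommGrpCat.{u}) ⥤ AddCommGrpCat.{u})
    (hT Y) (Tp Y F) (fun k => AddCommGrpCat.of (CohTop.H F k)) (hH Y hY F)
    (fun k l => (R Y F l).homology k) (hE Y F)
    (AddCommGrpCat.of PUnit.{u + 1}) (AddCommGrpCat.of PUnit.{u + 1}) hZ hZ
  obtain ⟨E', a', ha', hb', hX'⟩ := Prepend.main E a ha (R Y F) (AddCommGrpCat.of PUnit.{u + 1}) hZ hE2
  refine ⟨E', a', ha', hb', fun p q => ?_⟩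
  obtain ⟨i⟩ := hX' p q
  by_cases h : 0 ≤ p ∧ 0 ≤ q
  · rw [if_pos h] at i ⊢
    obtain ⟨j⟩ := hX Y F p.toNat q.toNat
    exact ⟨i ≪≫ j⟩
  · rw [if_neg h] at i ⊢
    exact ⟨i⟩

end PropSS

end Groth.Agent.Lib.helper27
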