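import Mathlib

set_option autoImplicit false
set_option backward.isDefEq.respectTransparency false
set_option linter.unusedVariables false
set_option linter.unusedSectionVars false

namespace Groth.Agent.Lib.helper27

open CategoryTheory Limits Opposite TopologicalSpace

universe u

namespace PullGermSet

variable {X Y : TopCat.{u}} (f : X ⟶ Y)

/-- the constructed adjunction -/
noncomputable abbrev adjC :=
  Functor.sheafPullbackConstruction.sheafAdjunctionContinuous (Opens.map f) (Type u)
    (Opens.grothendieckTopology Y) (Opens.grothendieckTopology X)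

/-- the constructed pullback -/
noncomputable abbrev L : TopCat.Sheaf (Type u) Y ⥤ TopCat.Sheaf (Type u) X :=
  Functor.sheafPullbackConstruction.sheafPullback (Opens.map f) (Type u)
    (Opens.grothendieckTopology Y) (Opens.grothendieckTopology X)

/-- the presheaf pullback -/
noncomputable abbrev P (F : TopCat.Sheaf (Type u) Y) : TopCat.Presheaf (Type u) X :=
  (TopCat.Presheaf.pullback (Type u) f).obj F.obj

lemma unit_val (F : TopCat.Sheaf (Type u) Y) :
    ((adjC f).unit.app F).hom =
      (TopCat.Presheaf.pullbackPushforwardAdjunction (Type u) f).unit.app F.obj ≫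
        (TopCat.Presheaf.pushforward (Type u) f).map
          (toSheafify (Opens.grothendieckTopology X) (P f F)) := by
  have := Adjunction.map_restrictFullyFaithful_unit_app (L := L f)
    (R := (Opens.map f).sheafPushforwardContinuous (Type u)
      (Opens.grothendieckTopology Y) (Opens.grothendieckTopology X))
    (((Opens.map f).op.lanAdjunction (Type u)).comp
      (sheafificationAdjunction (Opens.grothendieckTopology X) (Type u)))
    (fullyFaithfulSheafToPresheaf (Opens.grothendieckTopology Y) (Type u))
    (Functor.FullyFaithful.id _) (Iso.refl _) (Iso.refl _) F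
  simp at this
  exact this

/-- the stalk comparison for the constructed pullback -/
noncomputable def ΦC (F : TopCat.Sheaf (Type u) Y) (x : X) :
    TopCat.Presheaf.stalk F.obj (f x) ⟶ TopCat.Presheaf.stalk ((L f).obj F).obj x :=
  TopCat.Presheaf.stalkPullbackHom (Type u) f F.obj x ≫
    (TopCat.Presheaf.stalkFunctor (Type u) x).map
      (toSheafify (Opens.grothendieckTopology X) (P f F))

instance (F : TopCat.Sheaf (Type u) Y) (x : X) : IsIso (ΦC f F x) := by
  have h1 : IsIso (TopCat.Presheaf.stalkPullbackHom (Type u) f F.obj x) :=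
    (TopCat.Presheaf.stalkPullbackIso (Type u) f F.obj x).isIso_hom
  have h2 := TopCat.Presheaf.stalkFunctor_map_unit_toSheafify_isIso x (Type u) (P f F)
  unfold ΦC
  infer_instance

lemma germ_unitC (F : TopCat.Sheaf (Type u) Y) (x : X) (V : Opens Y) (hx : f x ∈ V) :
    TopCat.Presheaf.germ F.obj V (f x) hx ≫ ΦC f F x =
      ((adjC f).unit.app F).hom.app (op V) ≫
        TopCat.Presheaf.germ ((L f).obj F).obj ((Opens.map f).obj V) x hx := by
  rw [unit_val]
  unfold ΦC
  rw [TopCat.Presheaf.germ_stalkPullbackHom_assoc]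
  simp

/-- comparison with the abstract pullback -/
noncomputable abbrev eL (F : TopCat.Sheaf (Type u) Y) : (TopCat.Sheaf.pullback (Type u) f).obj F ≅ (L f).obj F :=
  (TopCat.Sheaf.pullbackIso (Type u) f).app F

lemma unit_comp_eL (F : TopCat.Sheaf (Type u) Y) :
    (TopCat.Sheaf.pullbackPushforwardAdjunction (Type u) f).unit.app F ≫ (TopCat.Sheaf.pushforward (Type u) f).map (eL f F).hom = (adjC f).unit.app F :=
  Adjunction.unit_leftAdjointUniq_hom_app _ _ _

/-- the canonical map `F(V) ⟶ (f⁻¹F)(f⁻¹V)` -/
noncomputable abbrev ρ (F : TopCat.Sheaf (Type u) Y) (V : Opens Y) :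
    F.obj.obj (op V) ⟶ ((TopCat.Sheaf.pullback (Type u) f).obj F).obj.obj (op ((Opens.map f).obj V)) :=
  ((TopCat.Sheaf.pullbackPushforwardAdjunction (Type u) f).unit.app F).hom.app (op V)

/-- the stalk comparison -/
noncomputable def Φ (F : TopCat.Sheaf (Type u) Y) (x : X) :
    TopCat.Presheaf.stalk F.obj (f x) ⟶ TopCat.Presheaf.stalk ((TopCat.Sheaf.pullback (Type u) f).obj F).obj x :=
  ΦC f F x ≫ (TopCat.Presheaf.stalkFunctor (Type u) x).map (eL f F).inv.hom

instance (F : TopCat.Sheaf (Type u) Y) (x : X) : IsIso (Φ f F x) := by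
  have : IsIso ((TopCat.Presheaf.stalkFunctor (Type u) x).map (eL f F).inv.hom) := by
    have : IsIso (eL f F).inv.hom :=
      (inferInstance : IsIso ((sheafToPresheaf _ _).map (eL f F).inv))
    infer_instance
  unfold Φ
  infer_instance

lemma germ_unit (F : TopCat.Sheaf (Type u) Y) (x : X) (V : Opens Y) (hx : f x ∈ V) :
    TopCat.Presheaf.germ F.obj V (f x) hx ≫ Φ f F x =
      ρ f F V ≫ TopCat.Presheaf.germ ((TopCat.Sheaf.pullback (Type u) f).obj F).obj ((Opens.map f).obj V) x hx := by
  unfold Φ
  rw [← Category.assoc, germ_unitC, Category.assoc, TopCat.Presheaf.stalkFunctor_map_germ,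
    ← Category.assoc]
  congr 1
  have h := unit_comp_eL f F
  have h2 : (TopCat.Sheaf.pullbackPushforwardAdjunction (Type u) f).unit.app F =
      (adjC f).unit.app F ≫ (TopCat.Sheaf.pushforward (Type u) f).map (eL f F).inv := by
    rw [← h, Category.assoc, ← Functor.map_comp, Iso.hom_inv_id, CategoryTheory.Functor.map_id]
    exact (Category.comp_id _).symm
  unfold ρ
  rw [h2]
  rfl

lemma germ_unit_apply (F : TopCat.Sheaf (Type u) Y) (x : X) (V : Opens Y) (hx : f x ∈ V)
    (s : F.obj.obj (op V)) :
    Φ f F x (TopCat.Presheaf.germ F.obj V (f x) hx s) =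
      TopCat.Presheaf.germ ((TopCat.Sheaf.pullback (Type u) f).obj F).obj ((Opens.map f).obj V) x hx (ρ f F V s) := by
  have := ConcreteCategory.congr_hom (germ_unit f F x V hx) s
  simpa using this

lemma Φ_bijective (F : TopCat.Sheaf (Type u) Y) (x : X) : Function.Bijective (Φ f F x) :=
  ConcreteCategory.bijective_of_isIso (Φ f F x)

/-- every section of the pullback is locally the image of a section -/
lemma exists_local_rep (F : TopCat.Sheaf (Type u) Y) (W' : Opens X)
    (t : ((TopCat.Sheaf.pullback (Type u) f).obj F).obj.obj (op W')) (x : X) (hx : x ∈ W') :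
    ∃ (V : Opens Y) (hxV : f x ∈ V) (s : F.obj.obj (op V)),
      TopCat.Presheaf.germ ((TopCat.Sheaf.pullback (Type u) f).obj F).obj W' x hx t =
        TopCat.Presheaf.germ ((TopCat.Sheaf.pullback (Type u) f).obj F).obj ((Opens.map f).obj V) x hxV
          (ρ f F V s) := by
  obtain ⟨σ, hσ⟩ := (Φ_bijective f F x).2
    (TopCat.Presheaf.germ ((TopCat.Sheaf.pullback (Type u) f).obj F).obj W' x hx t)
  obtain ⟨V, hxV, s, rfl⟩ := TopCat.Presheaf.exists_germ_eq F.obj σ
  exact ⟨V, hxV, s, by rw [← hσ, germ_unit_apply]⟩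

end PullGermSet

end Groth.Agent.Lib.helper27
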