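import Mathlib
import Groth.Prelude.Def_Coh
import Groth.Agent.S0028
import Groth.Agent.S0030
import Groth.Agent.S11319
import Groth.Agent.Lib.Helper27.LerayDeg
import Groth.Agent.Lib.Helper27.PushComp
import Groth.Agent.Lib.Helper21.ModOpenBC2

set_option autoImplicit false
universe u
open AlgebraicGeometry CategoryTheory Limits

namespace Groth.Agent.Lib.helper27.PushCompAff

open Groth.Agent.Lib.helper21.ModOpenBC

theorem main {X Y Z : Scheme.{u}} (f : X ⟶ Y) (g : Y ⟶ Z)
    [QuasiSeparated f] [QuasiCompact f] [IsAffineHom g] (F : X.Modules) [Coh.IsQCoh F] (p : ℕ) :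
    Nonempty ((Coh.RpushAb (f ≫ g) p).obj (Coh.toAb F) ≅
      (Coh.pushAb g).obj ((Coh.RpushAb f p).obj (Coh.toAb F))) := by
  have hG : ∀ I : Sheaf (Opens.grothendieckTopology X) AddCommGrpCat.{u}, Injective I →
      FourTerm.Acyc (Coh.pushAb g) ((Coh.pushAb f).obj I) := by
    intro I hI
    have := PushComp.injective_push f.base I hI
    intro i hi
    obtain ⟨j, rfl⟩ : ∃ j, i = j + 1 := ⟨i - 1, by omega⟩
    exact (Coh.pushAb g).isZero_rightDerived_obj_injective_succ j _
  have hF : LerayDeg.Cls (Coh.pushAb f) (Coh.pushAb g) (Coh.toAb F) := by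
    intro q i hi
    obtain ⟨e⟩ := Groth.Agent.S11319.result f F q
    have hq : Coh.IsQCoh ((Coh.Rpush f q).obj F) := Groth.Agent.S0030.result f F q
    have h0 := Groth.Agent.S0028.result g ((Coh.Rpush f q).obj F) i hi
    exact h0.of_iso (((Coh.RpushAb g i).mapIso e).symm)
  obtain ⟨e⟩ := LerayDeg.main (Coh.pushAb f) (Coh.pushAb g) hG (Coh.toAb F) hF p
  exact ⟨e.symm⟩

end Groth.Agent.Lib.helper27.PushCompAff
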