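import Mathlib

set_option autoImplicit false
universe u w v

open CategoryTheory TopologicalSpace

namespace Groth.Agent.Lib.helper27.QHomA

variable {X₀ X : TopCat.{u}} (f : X₀ ⟶ X)

/-- order reflection from injectivity -/
lemma le_of_map_le (hinj : Function.Injective (fun U : Opens X => (Opens.map f).obj U))
    {U V : Opens X} (h : (Opens.map f).obj U ≤ (Opens.map f).obj V) : U ≤ V := by
  have h1 : (Opens.map f).obj (U ⊓ V) = (Opens.map f).obj U := by
    apply le_antisymm
    · exact (Opens.map f).monotone inf_le_left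
    · intro x hx
      exact ⟨hx, h hx⟩
  have h2 : U ⊓ V = U := hinj h1
  rw [← h2]
  exact inf_le_right

lemma map_isEquivalence
    (hbij : Function.Bijective (fun U : Opens X => (Opens.map f).obj U)) :
    (Opens.map f).IsEquivalence where
  faithful := ⟨fun _ => Subsingleton.elim _ _⟩
  full := ⟨fun g => ⟨homOfLE (le_of_map_le f hbij.1 (leOfHom g)), Subsingleton.elim _ _⟩⟩
  essSurj := ⟨fun W => by
    obtain ⟨U, hU⟩ := hbij.2 W
    exact ⟨U, ⟨eqToIso hU⟩⟩⟩

lemma map_isDenseSubsite
    (hbij : Function.Bijective (fun U : Opens X => (Opens.map f).obj U)) :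
    (Opens.map f).IsDenseSubsite (Opens.grothendieckTopology X) (Opens.grothendieckTopology X₀) := by
  haveI := map_isEquivalence f hbij
  refine { functorPushforward_mem_iff := ?_ }
  intro U S
  constructor
  · intro H x hx
    -- U' = sup of members of S
    let U' : Opens X := sSup {V | ∃ g : V ⟶ U, S g}
    have hU' : (Opens.map f).obj U ≤ (Opens.map f).obj U' := by
      intro x₀ hx₀
      obtain ⟨W₀, g₀, ⟨V, g, h, hS, _⟩, hxW⟩ := H x₀ hx₀
      have : x₀ ∈ (Opens.map f).obj V := leOfHom h hxW
      have hV : V ≤ U' := le_sSup ⟨g, hS⟩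
      exact (Opens.map f).monotone hV this
    have hle : U ≤ U' := le_of_map_le f hbij.1 hU'
    have hx' : x ∈ U' := hle hx
    obtain ⟨V, ⟨g, hg⟩, hxV⟩ := Opens.mem_sSup.mp hx'
    exact ⟨V, g, hg, hxV⟩
  · intro H x₀ hx₀
    obtain ⟨V, g, hS, hxV⟩ := H (f x₀) hx₀
    exact ⟨(Opens.map f).obj V, (Opens.map f).map g,
      Sieve.image_mem_functorPushforward _ _ hS, hxV⟩

variable (A : Type w) [Category.{u} A] [Limits.HasLimits A]

lemma pushforward_isEquivalence
    (hbij : Function.Bijective (fun U : Opens X => (Opens.map f).obj U)) :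
    (TopCat.Sheaf.pushforward A f).IsEquivalence := by
  haveI := map_isDenseSubsite f hbij
  have h1 : ∀ (W : (Opens X₀)ᵒᵖ), Limits.HasLimitsOfShape (StructuredArrow W (Opens.map f).op) A :=
    fun W => inferInstance
  exact Functor.IsDenseSubsite.instIsEquivalenceSheafSheafPushforwardContinuous (Opens.map f)
    (Opens.grothendieckTopology X) (Opens.grothendieckTopology X₀) (A := A)

end Groth.Agent.Lib.helper27.QHomA
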