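import Mathlib

set_option autoImplicit false
universe u

open CategoryTheory TopologicalSpace Opposite

namespace Groth.Agent.Lib.helper27.QHomB

variable {X₀ X : TopCat.{u}}

/-- the subterminal presheaf of an open -/
def subT (W : Opens X) : TopCat.Presheaf (Type u) X where
  obj V := ULift.{u} (PLift (unop V ≤ W))
  map i := ↾fun h => ⟨⟨(leOfHom i.unop).trans h.down.down⟩⟩

instance (W : Opens X) (V : (Opens X)ᵒᵖ) : Subsingleton ((subT W).obj V) :=
  inferInstanceAs (Subsingleton (ULift.{u} (PLift (unop V ≤ W))))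

lemma subT_isSheaf (W : Opens X) : (subT W).IsSheaf := by
  refine TopCat.Presheaf.isSheaf_of_isSheafUniqueGluing_types _ ?_
  intro ι U sf _
  refine ⟨⟨⟨iSup_le (fun i => (sf i).down.down)⟩⟩, fun i => Subsingleton.elim _ _,
    fun _ _ => Subsingleton.elim _ _⟩

/-- the subterminal sheaf of an open -/
def subTSheaf (W : Opens X) : TopCat.Sheaf (Type u) X := ⟨subT W, subT_isSheaf W⟩

variable (f : X₀ ⟶ X)

lemma injective_type [(TopCat.Sheaf.pushforward (Type u) f).EssSurj] :
    Function.Injective (fun U : Opens X => (Opens.map f).obj U) := by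
  have key : ∀ U V : Opens X, (Opens.map f).obj U = (Opens.map f).obj V → U ≤ V := by
    intro U V h
    let G := (TopCat.Sheaf.pushforward (Type u) f).objPreimage (subTSheaf V)
    let e : (TopCat.Sheaf.pushforward (Type u) f).obj G ≅ subTSheaf V :=
      (TopCat.Sheaf.pushforward (Type u) f).objObjPreimageIso (subTSheaf V)
    let e' := (TopCat.Sheaf.forget (Type u) X).mapIso e
    have a : (subT V).obj (op V) := ⟨⟨le_refl _⟩⟩
    have b : G.obj.obj (op ((Opens.map f).obj V)) := (e'.app (op V)).inv a
    have c : G.obj.obj (op ((Opens.map f).obj U)) := by rw [h]; exact b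
    have d : (subT V).obj (op U) := (e'.app (op U)).hom c
    exact d.down.down
  intro U V h
  exact le_antisymm (key U V h) (key V U h.symm)

lemma surjective_type [(TopCat.Sheaf.pushforward (Type u) f).Full] :
    Function.Surjective (fun U : Opens X => (Opens.map f).obj U) := by
  intro W₀
  let U₀ : Opens X := sSup {U | (Opens.map f).obj U ≤ W₀}
  have h1 : (Opens.map f).obj U₀ ≤ W₀ := by
    intro x hx
    obtain ⟨U, hU, hxU⟩ := Opens.mem_sSup.mp (show f x ∈ U₀ from hx)
    exact hU hxU
  refine ⟨U₀, le_antisymm h1 ?_⟩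
  let α : (TopCat.Sheaf.pushforward (Type u) f).obj (subTSheaf W₀) ⟶
      (TopCat.Sheaf.pushforward (Type u) f).obj (subTSheaf ((Opens.map f).obj U₀)) :=
    ⟨{ app := fun U => ↾fun (h : ULift.{u} (PLift ((Opens.map f).obj (unop U) ≤ W₀))) =>
          (⟨⟨(Opens.map f).monotone (le_sSup h.down.down)⟩⟩ :
            ULift.{u} (PLift ((Opens.map f).obj (unop U) ≤ (Opens.map f).obj U₀)))
       naturality := fun _ _ _ => by
        ext x
        exact Subsingleton.elim (α := ULift.{u} (PLift (_ ≤ _))) _ _ }⟩
  let β := (TopCat.Sheaf.pushforward (Type u) f).preimage α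
  have a : (subT W₀).obj (op W₀) := ⟨⟨le_refl _⟩⟩
  have b : (subT ((Opens.map f).obj U₀)).obj (op W₀) := β.hom.app (op W₀) a
  exact b.down.down

end Groth.Agent.Lib.helper27.QHomB
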