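import Mathlib
import Groth.Agent.Lib.Helper25.LDerAdapted2

/-!
# helper27: right derived functors from an adapted class (dual of helper25's `LDerAdapted`)

## Abstract version (triangulated categories)
`C` triangulated, `B` a triangulated subcategory (closed under isos), `L : C ⥤ D` a localization
functor for `B.trW`, `A` a triangulated subcategory closed under isomorphisms such that
`hres : ∀ X, ∃ P (s : X ⟶ P), A P ∧ B.trW s`, and `Φ : C ⥤ H` inverting `B.trW`-morphisms between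
objects of `A`.
* `exists_isRightDerivedFunctor`, `hasRightDerivedFunctor`, `isIso_unit_app`.

## Cochain complexes
* `hasRightDerivedFunctor_Qh`, `isIso_unit_app_quotient_obj`.
-/

set_option autoImplicit false
set_option linter.style.haveILetI false
universe v₁ v₂ v₃ u₁ u₂ u₃
open CategoryTheory CategoryTheory.Limits Pretriangulated

namespace Groth.Agent.Lib.helper27.RDerAdapted

variable {C : Type u₁} [Category.{v₁} C] [HasZeroObject C] [HasShift C ℤ] [Preadditive C]
  [∀ n : ℤ, (shiftFunctor C n).Additive] [Pretriangulated C] [IsTriangulated C]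
  {D : Type u₂} [Category.{v₂} D] {H : Type u₃} [Category.{v₃} H]
  (A B : ObjectProperty C) [A.IsTriangulated] [A.IsClosedUnderIsomorphisms]
  [B.IsTriangulated] [B.IsClosedUnderIsomorphisms]
  (hres : ∀ X : C, ∃ (P : C) (s : X ⟶ P), A P ∧ B.trW s)

include hres in
lemma isVerdierRightLocalizing : A.IsVerdierRightLocalizing B := by
  rw [ObjectProperty.isVerdierRightLocalizing_iff]
  intro X Y s hX hs
  obtain ⟨Z, a, hZ, ha⟩ := hres Y
  refine ⟨Z, s ≫ a, a, hZ, ?_, rfl⟩
  have h : B.trW (s ≫ a) := MorphismProperty.comp_mem _ _ _ hs ha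
  rw [ObjectProperty.trW_iff] at h ⊢
  obtain ⟨W, g, k, hT, hW⟩ := h
  exact ⟨W, g, k, hT, A.ext_of_isTriangulatedClosed₃ _ hT hX hZ, hW⟩

variable (L : C ⥤ D) [L.IsLocalization B.trW]

include hres in
lemma isLocalization_ι_comp : (A.ι ⋙ L).IsLocalization (B.inverseImage A.ι).trW := by
  haveI := isVerdierRightLocalizing A B hres
  haveI : L.EssSurj := Localization.essSurj L B.trW
  haveI : (A.ι ⋙ L).EssSurj := ⟨fun Y => by
    obtain ⟨P, s, hP, hs⟩ := hres (L.objPreimage Y)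
    haveI := Localization.inverts L B.trW s hs
    exact ⟨⟨P, hP⟩, ⟨(asIso (L.map s)).symm ≪≫ L.objObjPreimageIso Y⟩⟩⟩
  exact (A.triangulatedLocalizerMorphism B).isLocalization_of_isLocalizedFullyFaithful
    (L₂ := L) (L₁ := A.ι ⋙ L) (F := 𝟭 D) (Functor.rightUnitor _).symm

omit [A.IsTriangulated] [A.IsClosedUnderIsomorphisms] [B.IsClosedUnderIsomorphisms] in
include hres in
lemma exists_arrow_resolution {X Y : C} (f : X ⟶ Y) {PX PY : C} (sX : X ⟶ PX) (sY : Y ⟶ PY)
    (hsX : B.trW sX) :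
    ∃ (P'' : C) (t : PY ⟶ P'') (g : PX ⟶ P''), A P'' ∧ B.trW t ∧ f ≫ sY ≫ t = sX ≫ g := by
  obtain ⟨ψ, hψ⟩ := (MorphismProperty.RightFraction.mk (W := B.trW) sX hsX
    (f ≫ sY)).exists_leftFraction
  obtain ⟨P'', u, hP'', hu⟩ := hres ψ.Y'
  refine ⟨P'', ψ.s ≫ u, ψ.f ≫ u, hP'', MorphismProperty.comp_mem _ _ _ ψ.hs hu, ?_⟩
  dsimp at hψ
  rw [← Category.assoc, ← Category.assoc, hψ, Category.assoc]

variable (Φ : C ⥤ H)
  (hΦ : ∀ ⦃P P' : C⦄ (s : P ⟶ P'), A P → A P' → B.trW s → IsIso (Φ.map s))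

include hres hΦ in
/-- Existence of right derived functors from an adapted class, with unit invertible on the
adapted objects. -/
theorem exists_isRightDerivedFunctor :
    ∃ (G : D ⥤ H) (β : Φ ⟶ L ⋙ G), G.IsRightDerivedFunctor β B.trW ∧
      ∀ P, A P → IsIso (β.app P) := by
  classical
  haveI hloc := isLocalization_ι_comp A B hres L
  have hinv := Groth.Agent.Lib.Helper25.LDerAdapted.isInvertedBy_ι_comp A B Φ hΦ
  let G : D ⥤ H := Localization.lift (A.ι ⋙ Φ) hinv (A.ι ⋙ L)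
  let e₀ : (A.ι ⋙ L) ⋙ G ≅ A.ι ⋙ Φ := Localization.fac (A.ι ⋙ Φ) hinv (A.ι ⋙ L)
  choose R s hR hs using hres
  haveI : ∀ X, IsIso (L.map (s X)) := fun X => Localization.inverts L B.trW _ (hs X)
  let βapp : ∀ X : C, Φ.obj X ⟶ G.obj (L.obj X) := fun X =>
    Φ.map (s X) ≫ e₀.inv.app ⟨R X, hR X⟩ ≫ inv (G.map (L.map (s X)))
  have e₀nat : ∀ {P P' : C} (hP : A P) (hP' : A P') (g : P ⟶ P'),
      Φ.map g ≫ e₀.inv.app ⟨P', hP'⟩ = e₀.inv.app ⟨P, hP⟩ ≫ G.map (L.map g) := by
    intro P P' hP hP' g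
    exact e₀.inv.naturality (X := ⟨P, hP⟩) (Y := ⟨P', hP'⟩) (A.homMk g)
  have βnat : ∀ {X Y : C} (f : X ⟶ Y), Φ.map f ≫ βapp Y = βapp X ≫ G.map (L.map f) := by
    intro X Y f
    obtain ⟨P'', t, g, hP'', ht, fac⟩ :=
      exists_arrow_resolution A B (fun X => ⟨R X, s X, hR X, hs X⟩) f (s X) (s Y) (hs X)
    haveI : IsIso (L.map t) := Localization.inverts L B.trW _ ht
    have h1 : G.map (L.map g) ≫ inv (G.map (L.map t)) ≫ inv (G.map (L.map (s Y))) =
        inv (G.map (L.map (s X))) ≫ G.map (L.map f) := by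
      rw [IsIso.eq_inv_comp, ← Category.assoc, ← Category.assoc, IsIso.comp_inv_eq,
        IsIso.comp_inv_eq]
      simp only [← Functor.map_comp, Category.assoc]
      rw [fac]
    have h2 := e₀nat (hR X) hP'' g
    have h3 := e₀nat (hR Y) hP'' t
    have h4 : e₀.inv.app ⟨R Y, hR Y⟩ = Φ.map t ≫ e₀.inv.app ⟨P'', hP''⟩ ≫ inv (G.map (L.map t)) := by
      rw [← Category.assoc, h3, Category.assoc, IsIso.hom_inv_id, Category.comp_id]
    calc Φ.map f ≫ βapp Y
        = Φ.map (f ≫ s Y ≫ t) ≫ e₀.inv.app ⟨P'', hP''⟩ ≫ inv (G.map (L.map t)) ≫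
            inv (G.map (L.map (s Y))) := by
          simp only [βapp, Category.assoc, Functor.map_comp]
          rw [h4]
          simp only [Category.assoc]
      _ = Φ.map (s X) ≫ (Φ.map g ≫ e₀.inv.app ⟨P'', hP''⟩) ≫ inv (G.map (L.map t)) ≫
            inv (G.map (L.map (s Y))) := by
          rw [fac]; simp only [Category.assoc, Functor.map_comp]
      _ = Φ.map (s X) ≫ e₀.inv.app ⟨R X, hR X⟩ ≫ (G.map (L.map g) ≫ inv (G.map (L.map t)) ≫
            inv (G.map (L.map (s Y)))) := by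
          rw [h2]; simp only [Category.assoc]
      _ = βapp X ≫ G.map (L.map f) := by
          rw [h1]; simp only [βapp, Category.assoc]
  let β : Φ ⟶ L ⋙ G := { app := βapp, naturality := fun X Y f => βnat f }
  have βA : ∀ (Q : C) (hQ : A Q), β.app Q = e₀.inv.app ⟨Q, hQ⟩ := by
    intro Q hQ
    have := e₀nat hQ (hR Q) (s Q)
    change Φ.map (s Q) ≫ e₀.inv.app ⟨R Q, hR Q⟩ ≫ inv (G.map (L.map (s Q))) = _
    rw [← Category.assoc, this, Category.assoc, IsIso.hom_inv_id, Category.comp_id]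
  refine ⟨G, β, ?_, fun P hP => by rw [βA P hP]; infer_instance⟩
  -- universal property
  have hdesc : ∀ (G' : D ⥤ H) (β' : Φ ⟶ L ⋙ G'), ∃ γ : G ⟶ G',
      β ≫ Functor.whiskerLeft L γ = β' := by
    intro G' β'
    let τ : (A.ι ⋙ L) ⋙ G ⟶ (A.ι ⋙ L) ⋙ G' :=
      e₀.hom ≫ Functor.whiskerLeft A.ι β' ≫ (Functor.associator _ _ _).inv
    let γ : G ⟶ G' :=
      Localization.liftNatTrans (A.ι ⋙ L) (B.inverseImage A.ι).trW _ _ G G' τ
    have hγ : ∀ (Q : C) (hQ : A Q), γ.app (L.obj Q) = e₀.hom.app ⟨Q, hQ⟩ ≫ β'.app Q := by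
      intro Q hQ
      have := Localization.liftNatTrans_app (A.ι ⋙ L) (B.inverseImage A.ι).trW _ _ G G' τ ⟨Q, hQ⟩
      simpa [τ] using this
    refine ⟨γ, ?_⟩
    ext X
    rw [NatTrans.comp_app, Functor.whiskerLeft_app]
    have n1 : G.map (L.map (s X)) ≫ γ.app (L.obj (R X)) =
        γ.app (L.obj X) ≫ G'.map (L.map (s X)) := γ.naturality (L.map (s X))
    have n2 : Φ.map (s X) ≫ β'.app (R X) = β'.app X ≫ G'.map (L.map (s X)) :=
      β'.naturality (s X)
    haveI : IsIso (G'.map (L.map (s X))) := inferInstance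
    rw [← cancel_mono (G'.map (L.map (s X))), Category.assoc, ← n1, ← n2, hγ (R X) (hR X)]
    change (Φ.map (s X) ≫ e₀.inv.app ⟨R X, hR X⟩ ≫ inv (G.map (L.map (s X)))) ≫
      G.map (L.map (s X)) ≫ e₀.hom.app ⟨R X, hR X⟩ ≫ β'.app (R X) = _
    simp only [Category.assoc, IsIso.inv_hom_id_assoc, Iso.inv_hom_id_app_assoc]
  have huniq : ∀ (G' : D ⥤ H) (γ₁ γ₂ : G ⟶ G'),
      β ≫ Functor.whiskerLeft L γ₁ = β ≫ Functor.whiskerLeft L γ₂ → γ₁ = γ₂ := by
    intro G' γ₁ γ₂ h
    apply Localization.natTrans_ext (A.ι ⋙ L) (B.inverseImage A.ι).trW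
    intro Q
    have := congr_app h Q.obj
    rw [NatTrans.comp_app, NatTrans.comp_app, Functor.whiskerLeft_app, Functor.whiskerLeft_app,
      βA Q.obj Q.property] at this
    exact (cancel_epi _).1 this
  rw [Functor.isRightDerivedFunctor_iff_isLeftKanExtension]
  refine ⟨⟨Limits.IsInitial.ofUniqueHom
    (fun E => StructuredArrow.homMk (hdesc E.right E.hom).choose (hdesc E.right E.hom).choose_spec)
    (fun E m => ?_)⟩⟩
  apply StructuredArrow.ext
  apply huniq
  have := StructuredArrow.w m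
  exact this.trans (hdesc E.right E.hom).choose_spec.symm

include hres hΦ in
theorem hasRightDerivedFunctor : Φ.HasRightDerivedFunctor B.trW := by
  obtain ⟨G, β, h, -⟩ := exists_isRightDerivedFunctor A B hres B.trW.Q Φ hΦ
  exact Functor.HasRightDerivedFunctor.mk' G β

include hres hΦ in
/-- The unit of a right derived functor is invertible at adapted objects. -/
theorem isIso_unit_app (RF : D ⥤ H) (α : Φ ⟶ L ⋙ RF) [RF.IsRightDerivedFunctor α B.trW]
    (P : C) (hP : A P) : IsIso (α.app P) := by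
  obtain ⟨G, β, h, hβ⟩ := exists_isRightDerivedFunctor A B hres L Φ hΦ
  haveI := h
  haveI : RF.IsLeftKanExtension α :=
    (Functor.isRightDerivedFunctor_iff_isLeftKanExtension RF α B.trW).1 inferInstance
  haveI : G.IsLeftKanExtension β :=
    (Functor.isRightDerivedFunctor_iff_isLeftKanExtension G β B.trW).1 inferInstance
  let φ : G ⟶ RF := G.descOfIsLeftKanExtension β RF α
  have fac : β ≫ Functor.whiskerLeft L φ = α := G.descOfIsLeftKanExtension_fac β RF α
  haveI : IsIso φ := (Functor.isLeftKanExtension_iff_isIso φ β α fac).1 inferInstance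
  haveI := hβ P hP
  have h2 : α.app P = β.app P ≫ φ.app (L.obj P) := by
    rw [← fac, NatTrans.comp_app, Functor.whiskerLeft_app]
  rw [h2]
  infer_instance

end Groth.Agent.Lib.helper27.RDerAdapted

namespace Groth.Agent.Lib.helper27.RDerAdapted

universe w v u

open HomotopyCategory Groth.Agent.Lib.Helper25.LDerAdapted

variable {A₀ : Type u} [Category.{v} A₀] [Abelian A₀]
  (P₀ : ObjectProperty (CochainComplex A₀ ℤ))
  (hzero : ∃ Z : CochainComplex A₀ ℤ, IsZero Z ∧ P₀ Z)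
  (hshift : ∀ (E : CochainComplex A₀ ℤ) (n : ℤ), P₀ E → P₀ (E⟦n⟧))
  (hcone : ∀ {E E' : CochainComplex A₀ ℤ} (f : E ⟶ E'), P₀ E → P₀ E' →
    P₀ (CochainComplex.mappingCone f))
  (hres₀ : ∀ E : CochainComplex A₀ ℤ, ∃ (E' : CochainComplex A₀ ℤ) (f : E ⟶ E'),
    P₀ E' ∧ QuasiIso f)

include hres₀ in
lemma hres_of_complex (X : HomotopyCategory A₀ (ComplexShape.up ℤ)) :
    ∃ (P : HomotopyCategory A₀ (ComplexShape.up ℤ)) (s : X ⟶ P),
      (strictP P₀).isoClosure P ∧ (subcategoryAcyclic A₀).trW s := by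
  obtain ⟨K, rfl⟩ := X.quotient_obj_surjective
  obtain ⟨E', f, hE', hf⟩ := hres₀ K
  refine ⟨(quotient _ _).obj E', (quotient _ _).map f,
    ObjectProperty.le_isoClosure _ _ ((strictP_quotient_obj_iff E').2 hE'), ?_⟩
  rw [← quasiIso_eq_trW_subcategoryAcyclic, quotient_map_mem_quasiIso_iff,
    HomologicalComplex.mem_quasiIso_iff]
  exact hf

variable [HasDerivedCategory.{w} A₀] {H : Type u₃} [Category.{v₃} H]
  (Φ : HomotopyCategory A₀ (ComplexShape.up ℤ) ⥤ H)
  (hΦ₀ : ∀ {E E' : CochainComplex A₀ ℤ} (f : E ⟶ E'), P₀ E → P₀ E' → QuasiIso f →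
    IsIso (Φ.map ((quotient _ _).map f)))

omit [HasDerivedCategory A₀] in
include hzero hshift hcone hres₀ hΦ₀ in
/-- Existence of the total right derived functor (along `Qh`) from an adapted class of
complexes. -/
theorem hasRightDerivedFunctor_Qh :
    Φ.HasRightDerivedFunctor (HomotopyCategory.quasiIso A₀ (ComplexShape.up ℤ)) := by
  haveI := isTriangulated_strictP P₀ hzero hshift hcone
  rw [quasiIso_eq_trW_subcategoryAcyclic]
  exact hasRightDerivedFunctor (strictP P₀).isoClosure (subcategoryAcyclic A₀)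
    (hres_of_complex P₀ hres₀) Φ (hΦ_of_complex P₀ Φ hΦ₀)

include hzero hshift hcone hres₀ hΦ₀ in
/-- **Right derived functors are computed on adapted complexes.** -/
theorem isIso_unit_app_quotient_obj (RF : DerivedCategory A₀ ⥤ H)
    (α : Φ ⟶ DerivedCategory.Qh ⋙ RF)
    [RF.IsRightDerivedFunctor α (HomotopyCategory.quasiIso A₀ (ComplexShape.up ℤ))]
    (E : CochainComplex A₀ ℤ) (hE : P₀ E) :
    IsIso (α.app ((quotient _ _).obj E)) := by
  haveI := isTriangulated_strictP P₀ hzero hshift hcone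
  have hW : HomotopyCategory.quasiIso A₀ (ComplexShape.up ℤ) = (subcategoryAcyclic A₀).trW :=
    quasiIso_eq_trW_subcategoryAcyclic _
  haveI : DerivedCategory.Qh.IsLocalization (subcategoryAcyclic A₀).trW := by
    rw [← hW]; infer_instance
  haveI : RF.IsRightDerivedFunctor α (subcategoryAcyclic A₀).trW :=
    (Functor.isRightDerivedFunctor_iff_isLeftKanExtension RF α _).2
      ((Functor.isRightDerivedFunctor_iff_isLeftKanExtension RF α
        (HomotopyCategory.quasiIso A₀ (ComplexShape.up ℤ))).1 inferInstance)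
  exact isIso_unit_app (strictP P₀).isoClosure (subcategoryAcyclic A₀)
    (hres_of_complex P₀ hres₀) DerivedCategory.Qh Φ (hΦ_of_complex P₀ Φ hΦ₀) RF α _
    ⟨_, (strictP_quotient_obj_iff E).2 hE, ⟨Iso.refl _⟩⟩

end Groth.Agent.Lib.helper27.RDerAdapted
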