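import Mathlib

set_option autoImplicit false
set_option linter.unusedSectionVars false
set_option linter.unusedVariables false

namespace Groth.Agent.Lib.helper27

open CategoryTheory Limits

universe v u v' u'

namespace RDerBiprod

variable {C : Type u} [Category.{v} C] [Abelian C] [HasInjectiveResolutions C]
  {D : Type u'} [Category.{v'} D] [Abelian D]

section add

variable {F G : C ⥤ D} [F.Additive] [G.Additive]

lemma mapHC_add (γ γ' : F ⟶ G) (K : CochainComplex C ℕ) :
    (NatTrans.mapHomologicalComplex (γ + γ') (ComplexShape.up ℕ)).app K =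
      (NatTrans.mapHomologicalComplex γ (ComplexShape.up ℕ)).app K +
        (NatTrans.mapHomologicalComplex γ' (ComplexShape.up ℕ)).app K := by
  ext n
  rfl

lemma mapHC_zero (K : CochainComplex C ℕ) :
    (NatTrans.mapHomologicalComplex (0 : F ⟶ G) (ComplexShape.up ℕ)).app K = 0 := by
  ext n
  rfl

lemma mapHC_neg (γ : F ⟶ G) (K : CochainComplex C ℕ) :
    (NatTrans.mapHomologicalComplex (-γ) (ComplexShape.up ℕ)).app K =
      -(NatTrans.mapHomologicalComplex γ (ComplexShape.up ℕ)).app K := by
  ext n
  rfl

lemma rightDerived_add (γ γ' : F ⟶ G) (n : ℕ) :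
    NatTrans.rightDerived (γ + γ') n = NatTrans.rightDerived γ n + NatTrans.rightDerived γ' n := by
  ext X
  rw [NatTrans.app_add, InjectiveResolution.rightDerived_app_eq _ (injectiveResolution X),
    InjectiveResolution.rightDerived_app_eq γ (injectiveResolution X),
    InjectiveResolution.rightDerived_app_eq γ' (injectiveResolution X), mapHC_add,
    Functor.map_add, Preadditive.add_comp, Preadditive.comp_add]

lemma rightDerived_zero (n : ℕ) :
    NatTrans.rightDerived (0 : F ⟶ G) n = 0 := by
  ext X
  rw [InjectiveResolution.rightDerived_app_eq _ (injectiveResolution X), mapHC_zero,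
    Functor.map_zero, zero_comp, comp_zero]
  rfl

lemma rightDerived_neg (γ : F ⟶ G) (n : ℕ) :
    NatTrans.rightDerived (-γ) n = -NatTrans.rightDerived γ n := by
  ext X
  rw [NatTrans.app_neg, InjectiveResolution.rightDerived_app_eq _ (injectiveResolution X),
    InjectiveResolution.rightDerived_app_eq γ (injectiveResolution X), mapHC_neg,
    Functor.map_neg, Preadditive.neg_comp, Preadditive.comp_neg]

lemma rightDerived_sub (γ γ' : F ⟶ G) (n : ℕ) :
    NatTrans.rightDerived (γ - γ') n = NatTrans.rightDerived γ n - NatTrans.rightDerived γ' n := by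
  rw [sub_eq_add_neg, rightDerived_add, rightDerived_neg, ← sub_eq_add_neg]

end add

section biprod

variable (G H : C ⥤ D) [G.Additive] [H.Additive]

/-- the objectwise biproduct of two functors -/
@[simps]
noncomputable def bp : C ⥤ D where
  obj X := G.obj X ⊞ H.obj X
  map φ := biprod.map (G.map φ) (H.map φ)
  map_id X := by ext <;> simp
  map_comp φ ψ := by ext <;> simp

omit [HasInjectiveResolutions C] in
lemma biprod_map_add {A B A' B' : D} (a a' : A ⟶ A') (b b' : B ⟶ B') :
    biprod.map (a + a') (b + b') = biprod.map a b + biprod.map a' b' := by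
  apply biprod.hom_ext
  · rw [biprod.map_fst, Preadditive.add_comp, biprod.map_fst, biprod.map_fst,
      Preadditive.comp_add]
  · rw [biprod.map_snd, Preadditive.add_comp, biprod.map_snd, biprod.map_snd,
      Preadditive.comp_add]

instance : (bp G H).Additive where
  map_add {X Y f g} := by
    show biprod.map (G.map (f + g)) (H.map (f + g)) =
      biprod.map (G.map f) (H.map f) + biprod.map (G.map g) (H.map g)
    rw [Functor.map_add, Functor.map_add, biprod_map_add]

/-- first projection -/
@[simps]
noncomputable def fstN : bp G H ⟶ G where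
  app X := biprod.fst
  naturality X Y f := biprod.map_fst _ _

/-- second projection -/
@[simps]
noncomputable def sndN : bp G H ⟶ H where
  app X := biprod.snd
  naturality X Y f := biprod.map_snd _ _

/-- first inclusion -/
@[simps]
noncomputable def inlN : G ⟶ bp G H where
  app X := biprod.inl
  naturality X Y f := (biprod.inl_map _ _).symm

/-- second inclusion -/
@[simps]
noncomputable def inrN : H ⟶ bp G H where
  app X := biprod.inr
  naturality X Y f := (biprod.inr_map _ _).symm

lemma inl_fst : inlN G H ≫ fstN G H = 𝟙 G := by ext X; exact biprod.inl_fst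
lemma inr_snd : inrN G H ≫ sndN G H = 𝟙 H := by ext X; exact biprod.inr_snd
lemma inl_snd : inlN G H ≫ sndN G H = 0 := by ext X; exact biprod.inl_snd
lemma inr_fst : inrN G H ≫ fstN G H = 0 := by ext X; exact biprod.inr_fst
lemma total : fstN G H ≫ inlN G H + sndN G H ≫ inrN G H = 𝟙 (bp G H) := by
  ext X
  exact biprod.total

/-- derived functors of the biproduct functor -/
noncomputable def e (n : ℕ) (X : C) :
    ((bp G H).rightDerived n).obj X ≅ (G.rightDerived n).obj X ⊞ (H.rightDerived n).obj X where
  hom := biprod.lift ((NatTrans.rightDerived (fstN G H) n).app X)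
    ((NatTrans.rightDerived (sndN G H) n).app X)
  inv := biprod.desc ((NatTrans.rightDerived (inlN G H) n).app X)
    ((NatTrans.rightDerived (inrN G H) n).app X)
  hom_inv_id := by
    rw [biprod.lift_desc, ← NatTrans.comp_app, ← NatTrans.comp_app, ← NatTrans.rightDerived_comp,
      ← NatTrans.rightDerived_comp, ← NatTrans.app_add, ← rightDerived_add, total,
      NatTrans.rightDerived_id]
    rfl
  inv_hom_id := by
    ext
    · simp only [Category.assoc, biprod.inl_desc_assoc, biprod.lift_fst, Category.id_comp,
        biprod.inl_fst]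
      rw [← NatTrans.comp_app, ← NatTrans.rightDerived_comp, inl_fst, NatTrans.rightDerived_id]
      rfl
    · simp only [Category.assoc, biprod.inl_desc_assoc, biprod.lift_snd, Category.id_comp,
        biprod.inl_snd]
      rw [← NatTrans.comp_app, ← NatTrans.rightDerived_comp, inl_snd, rightDerived_zero]
      rfl
    · simp only [Category.assoc, biprod.inr_desc_assoc, biprod.lift_fst, Category.id_comp,
        biprod.inr_fst]
      rw [← NatTrans.comp_app, ← NatTrans.rightDerived_comp, inr_fst, rightDerived_zero]
      rfl
    · simp only [Category.assoc, biprod.inr_desc_assoc, biprod.lift_snd, Category.id_comp,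
        biprod.inr_snd]
      rw [← NatTrans.comp_app, ← NatTrans.rightDerived_comp, inr_snd, NatTrans.rightDerived_id]
      rfl

variable {G H} {K : C ⥤ D} [K.Additive]

/-- lift to the biproduct functor -/
@[simps]
noncomputable def liftN (a : K ⟶ G) (b : K ⟶ H) : K ⟶ bp G H where
  app X := biprod.lift (a.app X) (b.app X)
  naturality X Y f := by
    show K.map f ≫ biprod.lift (a.app Y) (b.app Y) =
      biprod.lift (a.app X) (b.app X) ≫ biprod.map (G.map f) (H.map f)
    apply biprod.hom_ext <;> simp

/-- descent from the biproduct functor -/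
@[simps]
noncomputable def descN (a : G ⟶ K) (b : H ⟶ K) : bp G H ⟶ K where
  app X := biprod.desc (a.app X) (b.app X)
  naturality X Y f := by
    show biprod.map (G.map f) (H.map f) ≫ biprod.desc (a.app Y) (b.app Y) =
      biprod.desc (a.app X) (b.app X) ≫ K.map f
    apply biprod.hom_ext' <;> simp

lemma liftN_fst (a : K ⟶ G) (b : K ⟶ H) : liftN a b ≫ fstN G H = a := by
  ext X; exact biprod.lift_fst _ _

lemma liftN_snd (a : K ⟶ G) (b : K ⟶ H) : liftN a b ≫ sndN G H = b := by
  ext X; exact biprod.lift_snd _ _

lemma descN_eq (a : G ⟶ K) (b : H ⟶ K) : descN a b = fstN G H ≫ a + sndN G H ≫ b := by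
  ext X
  rw [NatTrans.app_add]
  exact biprod.desc_eq

lemma rightDerived_liftN (a : K ⟶ G) (b : K ⟶ H) (n : ℕ) (X : C) :
    (NatTrans.rightDerived (liftN a b) n).app X ≫ (e G H n X).hom =
      biprod.lift ((NatTrans.rightDerived a n).app X) ((NatTrans.rightDerived b n).app X) := by
  dsimp only [e]
  apply biprod.hom_ext
  · rw [Category.assoc, biprod.lift_fst, biprod.lift_fst, ← NatTrans.comp_app,
      ← NatTrans.rightDerived_comp, liftN_fst]
  · rw [Category.assoc, biprod.lift_snd, biprod.lift_snd, ← NatTrans.comp_app,
      ← NatTrans.rightDerived_comp, liftN_snd]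

lemma rightDerived_descN (a : G ⟶ K) (b : H ⟶ K) (n : ℕ) (X : C) :
    (e G H n X).hom ≫
      biprod.desc ((NatTrans.rightDerived a n).app X) ((NatTrans.rightDerived b n).app X) =
      (NatTrans.rightDerived (descN a b) n).app X := by
  dsimp only [e]
  rw [biprod.lift_desc, ← NatTrans.comp_app, ← NatTrans.comp_app, ← NatTrans.rightDerived_comp,
    ← NatTrans.rightDerived_comp, ← NatTrans.app_add, ← rightDerived_add, ← descN_eq]

end biprod

end RDerBiprod

end Groth.Agent.Lib.helper27
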