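import Mathlib
import Groth.Agent.Lib.Helper27.Leray2
import Groth.Agent.Lib.Helper27.PResMain2
import Groth.Agent.Lib.Helper27.RDerAdapted

/-!
# helper27: the total right derived functor of a left exact functor of finite cohomological
dimension on the unbounded derived category
-/

set_option autoImplicit false
set_option linter.unusedSectionVars false

namespace Groth.Agent.Lib.helper27

open CategoryTheory Limits ZeroObject

universe w w' v u v' u'

namespace RDerFinDim

open Leray

variable {A : Type u} [Category.{v} A] [Abelian A] [HasInjectiveResolutions A]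
  {B : Type u'} [Category.{v'} B] [Abelian B] (F : A ⥤ B) [F.Additive] [PreservesFiniteLimits F]

omit [HasInjectiveResolutions A] in
lemma exists_mono_injective [HasInjectiveResolutions A] (X : A) :
    ∃ (J : A) (i : X ⟶ J), Injective J ∧ Mono i := by
  let I : InjectiveResolution X := (HasInjectiveResolutions.out X).out.some
  have h : Mono (I.ι.f 0) := inferInstance
  exact ⟨I.cocomplex.X 0, I.ι.f 0, inferInstance, h⟩

variable (n : ℕ) (hn : ∀ X : A, IsZero ((F.rightDerived n).obj X))

include hn in
lemma isZero_of_ge (i : ℕ) (hi : n ≤ i) : ∀ X : A, IsZero ((F.rightDerived i).obj X) := by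
  induction i, hi using Nat.le_induction with
  | base => exact hn
  | succ i hi ih =>
    intro X
    obtain ⟨J, ι, hJ, hι⟩ := exists_mono_injective X
    let S : ShortComplex A := ShortComplex.mk ι (cokernel.π ι) (cokernel.condition ι)
    have hS : S.ShortExact :=
      { exact := ShortComplex.exact_cokernel ι
        mono_f := hι
        epi_g := inferInstanceAs (Epi (cokernel.π ι)) }
    let Δ := Horseshoe.derivedLES F
    exact (Δ.exact₁ S hS i (i + 1) rfl).isZero_of_both_zeros ((ih _).eq_of_src _ _)
      ((F.isZero_rightDerived_obj_injective_succ i J).eq_of_tgt _ _)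

/-- the class of right `F`-acyclic objects -/
def acycP : ObjectProperty A := fun X => Acyc F X

lemma acycP_h1 (X : A) : ∃ (Y : A) (i : X ⟶ Y), acycP F Y ∧ Mono i := by
  obtain ⟨J, ι, hJ, hι⟩ := exists_mono_injective X
  exact ⟨J, ι, acyc_of_injective F J, hι⟩

lemma acycP_h2 (S : ShortComplex A) (hS : S.ShortExact) (h₁ : acycP F S.X₁) :
    acycP F S.X₂ ↔ acycP F S.X₃ :=
  ⟨fun h₂ => ((Horseshoe.rightAcyclic_shortExact F hS).2.1 h₁ h₂).1,
    fun h₃ => ((Horseshoe.rightAcyclic_shortExact F hS).1 h₁ h₃).1⟩

include hn in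
lemma acycP_h3 (c i : ℕ → A) (a : ∀ m, c m ⟶ i m) (b : ∀ m, i m ⟶ c (m + 1))
    (hab : ∀ m, a m ≫ b m = 0)
    (hS : ∀ m, m < n → (ShortComplex.mk (a m) (b m) (hab m)).ShortExact)
    (hi : ∀ m, m < n → acycP F (i m)) : acycP F (c n) := by
  have key : ∀ m, m ≤ n → ∀ j : ℕ, 0 < j → n ≤ j + m → IsZero ((F.rightDerived j).obj (c m)) := by
    intro m
    induction m with
    | zero =>
      intro _ j _ hj
      exact isZero_of_ge F n hn j (by omega) _
    | succ m ih =>
      intro hm j hj hjm
      let Δ := Horseshoe.derivedLES F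
      exact (Δ.exact₃ _ (hS m (by omega)) j (j + 1) rfl).isZero_of_both_zeros
        ((hi m (by omega) j hj).eq_of_src _ _)
        ((ih (by omega) (j + 1) (by omega) (by omega)).eq_of_tgt _ _)
  intro j hj
  exact key n le_rfl j hj (by omega)

include hn in
/-- every complex has a quasi-isomorphism to a complex of right `F`-acyclic objects -/
theorem exists_acyc_resolution (X : CochainComplex A ℤ) :
    ∃ (I : CochainComplex A ℤ) (f : X ⟶ I), QuasiIso f ∧ ∀ k : ℤ, Acyc F (I.X k) :=
  PResMain.main' (acycP F) (acycP_h1 F) n X (acycP_h2 F) (acycP_h3 F n hn)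

include hn in
/-- `F` preserves the acyclicity of complexes of right `F`-acyclic objects -/
theorem map_acyclic_of_dim (K : CochainComplex A ℤ) (hK : K.Acyclic)
    (hterm : ∀ m, Acyc F (K.X m)) :
    ((F.mapHomologicalComplex (ComplexShape.up ℤ)).obj K).Acyclic := by
  have key : ∀ m : ℕ, ∀ (k : ℤ) (j : ℕ), 0 < j → n ≤ j + m →
      IsZero ((F.rightDerived j).obj (Z K k)) := by
    intro m
    induction m with
    | zero =>
      intro k j _ hj
      exact isZero_of_ge F n hn j (by omega) _
    | succ m ih =>
      intro k j hj hjm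
      obtain ⟨k', rfl⟩ : ∃ k', k = k' + 1 := ⟨k - 1, by ring⟩
      let Δ := Horseshoe.derivedLES F
      exact (Δ.exact₃ _ (ses_shortExact K k' (hK _)) j (j + 1) rfl).isZero_of_both_zeros
        ((hterm k' j hj).eq_of_src _ _)
        ((ih k' (j + 1) (by omega) (by omega)).eq_of_tgt _ _)
  have hZ : ∀ i, Acyc F (Z K i) := fun i j hj => key n i j hj (by omega)
  have hses : ∀ i, ((ses K i).map F).ShortExact := fun i =>
    ((Horseshoe.rightAcyclic_shortExact F (ses_shortExact K i (hK _))).2.1 (hZ i) (hterm i)).2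
  intro j
  obtain ⟨i, rfl⟩ : ∃ i, j = i + 1 := ⟨j - 1, by ring⟩
  exact map_exactAt F K i (hses i).epi_g (hses (i + 1)).exact inferInstance

section derived

omit [HasInjectiveResolutions A] [PreservesFiniteLimits F] in
lemma quasiIso_iff_acyclic_mappingCone {K L : CochainComplex A ℤ} (φ : K ⟶ L) :
    QuasiIso φ ↔ (CochainComplex.mappingCone φ).Acyclic := by
  rw [← HomologicalComplex.mem_quasiIso_iff, ← HomotopyCategory.quotient_map_mem_quasiIso_iff,
    HomotopyCategory.quasiIso_eq_trW_subcategoryAcyclic]
  exact ((HomotopyCategory.subcategoryAcyclic A).trW_iff_of_distinguished _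
      (HomotopyCategory.mappingCone_triangleh_distinguished φ)).trans
    (HomotopyCategory.quotient_obj_mem_subcategoryAcyclic_iff_acyclic _)

/-- complexes with right `F`-acyclic terms -/
def P₀ : ObjectProperty (CochainComplex A ℤ) := fun E => ∀ k, Acyc F (E.X k)

lemma hzero : ∃ Z : CochainComplex A ℤ, IsZero Z ∧ P₀ F Z :=
  ⟨0, isZero_zero _, fun k => acyc_of_isZero F _
    ((HomologicalComplex.eval A (ComplexShape.up ℤ) k).map_isZero (isZero_zero _))⟩

lemma hshift (E : CochainComplex A ℤ) (m : ℤ) (h : P₀ F E) : P₀ F (E⟦m⟧) := fun k => h (k + m)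

lemma hcone {E E' : CochainComplex A ℤ} (f : E ⟶ E') (h : P₀ F E) (h' : P₀ F E') :
    P₀ F (CochainComplex.mappingCone f) := fun m =>
  acyc_of_iso F (HomologicalComplex.homotopyCofiber.XIsoBiprod f m (m + 1) rfl).symm
    (acyc_biprod F _ _ (h _) (h' _))

include hn in
lemma hres₀ (E : CochainComplex A ℤ) :
    ∃ (E' : CochainComplex A ℤ) (f : E ⟶ E'), P₀ F E' ∧ QuasiIso f := by
  obtain ⟨I, f, hf, hI⟩ := exists_acyc_resolution F n hn E
  exact ⟨I, f, hI, hf⟩

include hn in
lemma quasiIso_map {E E' : CochainComplex A ℤ} (f : E ⟶ E') (h : P₀ F E) (h' : P₀ F E')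
    (hf : QuasiIso f) : QuasiIso ((F.mapHomologicalComplex (ComplexShape.up ℤ)).map f) := by
  rw [quasiIso_iff_acyclic_mappingCone]
  have h0 : (CochainComplex.mappingCone f).Acyclic := (quasiIso_iff_acyclic_mappingCone f).1 hf
  have h1 := map_acyclic_of_dim F n hn (CochainComplex.mappingCone f) h0 (hcone F f h h')
  intro j
  exact (h1 j).of_iso (CochainComplex.mappingCone.mapHomologicalComplexIso f F)

variable [HasDerivedCategory.{w} A] [HasDerivedCategory.{w'} B]

/-- the functor to be derived -/
noncomputable abbrev Φ : HomotopyCategory A (ComplexShape.up ℤ) ⥤ DerivedCategory B :=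
  F.mapHomotopyCategory (ComplexShape.up ℤ) ⋙ DerivedCategory.Qh

include hn in
lemma hΦ₀ {E E' : CochainComplex A ℤ} (f : E ⟶ E') (h : P₀ F E) (h' : P₀ F E')
    (hf : QuasiIso f) :
    IsIso ((Φ F).map ((HomotopyCategory.quotient _ _).map f)) := by
  have := quasiIso_map F n hn f h h' hf
  change IsIso (DerivedCategory.Q.map ((F.mapHomologicalComplex (ComplexShape.up ℤ)).map f))
  infer_instance

include hn in
/-- **The total right derived functor of a left exact functor of finite cohomological dimension
exists on the unbounded derived category.** -/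
theorem hasRightDerivedFunctor :
    (Φ F).HasRightDerivedFunctor (HomotopyCategory.quasiIso A (ComplexShape.up ℤ)) :=
  RDerAdapted.hasRightDerivedFunctor_Qh (P₀ F) (hzero F) (hshift F) (hcone F) (hres₀ F n hn)
    (Φ F) (hΦ₀ F n hn)

include hn in
/-- **Complexes of right acyclic objects compute the total right derived functor.** -/
theorem isIso_unit_app (RF : DerivedCategory A ⥤ DerivedCategory B)
    (α : Φ F ⟶ DerivedCategory.Qh ⋙ RF)
    [RF.IsRightDerivedFunctor α (HomotopyCategory.quasiIso A (ComplexShape.up ℤ))]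
    (K : CochainComplex A ℤ) (hK : ∀ m, Acyc F (K.X m)) :
    IsIso (α.app ((HomotopyCategory.quotient _ _).obj K)) :=
  RDerAdapted.isIso_unit_app_quotient_obj (P₀ F) (hzero F) (hshift F) (hcone F) (hres₀ F n hn)
    (Φ F) (hΦ₀ F n hn) RF α K hK

end derived

end RDerFinDim

end Groth.Agent.Lib.helper27
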