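import Mathlib

/-!
# A finitely generated torsion-free module of rank one over a domain embeds into the ring (helper27)
-/

set_option autoImplicit false
universe u

namespace Groth.Agent.Lib.helper27.RankOneEmb

open TensorProduct

theorem mk_injective (A : Type u) [CommRing A] [IsDomain A] (M : Type u) [AddCommGroup M]
    [Module A M] [NoZeroSMulDivisors A M] :
    Function.Injective (TensorProduct.mk A (FractionRing A) M 1) := by
  haveI : IsLocalizedModule (nonZeroDivisors A) (TensorProduct.mk A (FractionRing A) M 1) :=
    (isLocalizedModule_iff_isBaseChange (nonZeroDivisors A) (FractionRing A) _).mpr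
      (TensorProduct.isBaseChange A M (FractionRing A))
  intro x y hxy
  obtain ⟨c, hc⟩ := (IsLocalizedModule.eq_iff_exists (nonZeroDivisors A) _).mp hxy
  have hc0 : (c : A) ≠ 0 := nonZeroDivisors.coe_ne_zero c
  exact smul_right_injective M hc0 hc

theorem exists_injective_to_ring (A : Type u) [CommRing A] [IsDomain A] (M : Type u)
    [AddCommGroup M] [Module A M] [Module.Finite A M] [NoZeroSMulDivisors A M]
    (hrk : Module.finrank (FractionRing A) (TensorProduct A (FractionRing A) M) = 1) :
    ∃ φ : M →ₗ[A] A, Function.Injective φ := by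
  classical
  let K := FractionRing A
  have e : (K ⊗[A] M) ≃ₗ[K] K :=
    LinearEquiv.ofFinrankEq _ _ (by rw [hrk, Module.finrank_self])
  let ψ₀ : M →ₗ[A] K := (e.restrictScalars A).toLinearMap ∘ₗ (TensorProduct.mk A K M 1)
  have hψ₀ : Function.Injective ψ₀ := by
    intro x y hxy
    exact mk_injective A M ((e.restrictScalars A).injective hxy)
  obtain ⟨s, hs⟩ := (Module.Finite.fg_top : (⊤ : Submodule A M).FG)
  obtain ⟨b, hb⟩ := IsLocalization.exist_integer_multiples_of_finset (nonZeroDivisors A)
    (s.image ψ₀)
  have hb0 : (b : A) ≠ 0 := nonZeroDivisors.coe_ne_zero b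
  let ψ₁ : M →ₗ[A] K := (b : A) • ψ₀
  have hψ₁ : Function.Injective ψ₁ := by
    intro x y hxy
    apply hψ₀
    have : (b : A) • ψ₀ x = (b : A) • ψ₀ y := hxy
    exact smul_right_injective K hb0 this
  have hrange : ∀ m, ψ₁ m ∈ LinearMap.range (Algebra.linearMap A K) := by
    intro m
    have hm : m ∈ Submodule.span A (s : Set M) := by rw [hs]; trivial
    induction hm using Submodule.span_induction with
    | mem x hx =>
      obtain ⟨a, ha⟩ := hb (ψ₀ x) (Finset.mem_image_of_mem _ hx)
      exact ⟨a, by simpa [ψ₁] using ha⟩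
    | zero => simp
    | add x y _ _ hx hy => rw [map_add]; exact Submodule.add_mem _ hx hy
    | smul r x _ hx => rw [map_smul]; exact Submodule.smul_mem _ _ hx
  let ε := LinearEquiv.ofInjective (Algebra.linearMap A K) (IsFractionRing.injective A K)
  refine ⟨ε.symm.toLinearMap ∘ₗ LinearMap.codRestrict _ ψ₁ hrange, ?_⟩
  intro x y hxy
  apply hψ₁
  have := ε.symm.injective hxy
  exact congrArg Subtype.val this

end Groth.Agent.Lib.helper27.RankOneEmb
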