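import Mathlib
import Groth.Agent.Lib.Helper27.ExtPsh

set_option autoImplicit false
set_option linter.unusedSectionVars false
set_option linter.unusedVariables false

namespace Groth.Agent.Lib.helper27

open CategoryTheory Limits Opposite

universe v u

namespace SheafSES

variable {C : Type u} [Category.{v} C] {J : GrothendieckTopology C}

/-- a short complex of abelian sheaves that is short exact on all sections is short exact -/
theorem shortExact_of_sections (S : ShortComplex (Sheaf J AddCommGrpCat.{max u v}))
    (h1 : ∀ W : Cᵒᵖ, Function.Injective (S.f.hom.app W))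
    (h2 : ∀ (W : Cᵒᵖ) (x : S.X₂.obj.obj W), S.g.hom.app W x = 0 → ∃ y, S.f.hom.app W y = x)
    (h3 : ∀ W : Cᵒᵖ, Function.Surjective (S.g.hom.app W)) : S.ShortExact := by
  have hm' : Mono S.f.hom := by
    have : ∀ W, Mono (S.f.hom.app W) := fun W =>
      (AddCommGrpCat.mono_iff_injective _).2 (h1 W)
    exact NatTrans.mono_of_mono_app _
  have he' : Epi S.g.hom := by
    have : ∀ W, Epi (S.g.hom.app W) := fun W =>
      (AddCommGrpCat.epi_iff_surjective _).2 (h3 W)
    exact NatTrans.epi_of_epi_app _
  have hm : Mono S.f := Sheaf.Hom.mono_of_presheaf_mono J _ S.f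
  have he : Epi S.g := Sheaf.Hom.epi_of_presheaf_epi J _ S.g
  refine ShortComplex.ShortExact.mk' ?_ hm he
  -- exactness
  let S' : ShortComplex (Cᵒᵖ ⥤ AddCommGrpCat.{max u v}) := S.map (sheafToPresheaf J _)
  have hS' : S'.Exact := by
    apply ExtPsh.exact_of_evaluation
    intro W
    rw [ShortComplex.ab_exact_iff]
    intro x hx
    exact h2 W x hx
  have : Mono S'.f := hm'
  have hk : IsLimit (KernelFork.ofι S'.f S'.zero) := hS'.fIsKernel
  have hk' : IsLimit ((sheafToPresheaf J AddCommGrpCat.{max u v}).mapCone
      (KernelFork.ofι S.f S.zero)) :=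
    (isLimitMapConeForkEquiv' (sheafToPresheaf J AddCommGrpCat.{max u v}) S.zero).symm hk
  exact ShortComplex.exact_of_f_is_kernel _ (isLimitOfReflects (sheafToPresheaf J _) hk')

end SheafSES

end Groth.Agent.Lib.helper27
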