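import Mathlib
import Groth.Prelude.Def_CohCx
import Groth.Agent.Lib.Helper27.FunLES
import Groth.Agent.Lib.Helper27.RDerBiprod
import Groth.Agent.Lib.Helper27.SheafSES
import Groth.Agent.Lib.Helper27.SectSupp2
import Groth.Agent.Lib.Helper27.Horseshoe6
import Groth.Agent.S0454

set_option autoImplicit false
set_option linter.unusedSectionVars false
set_option linter.unusedVariables false

namespace Groth.Agent.Lib.helper27

open CategoryTheory Limits Opposite TopologicalSpace

universe u

namespace RelMV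

variable {X Y : TopCat.{u}} (f : X ⟶ Y)

/-- the functor `F ↦ (f|_U)_* (F|_U)` -/
noncomputable abbrev GU (U : Opens X) : CohTop.Ab X ⥤ CohTop.Ab Y :=
  CohTop.restrFunctor U ⋙ CohTop.push (CohCx.incl U ≫ f)

/-- the open `U ∩ f⁻¹ W` -/
noncomputable abbrev ov (U : Opens X) (W : Opens Y) : Opens X :=
  U.isOpenEmbedding.isOpenMap.functor.obj ((Opens.map (CohCx.incl U ≫ f)).obj W)

lemma mem_ov (U : Opens X) (W : Opens Y) (x : X) : x ∈ ov f U W ↔ x ∈ U ∧ f x ∈ W := by
  constructor
  · rintro ⟨y, hy, rfl⟩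
    exact ⟨y.2, hy⟩
  · rintro ⟨hx, hW⟩
    exact ⟨⟨x, hx⟩, hW, rfl⟩

lemma ov_le (U : Opens X) (W : Opens Y) : ov f U W ≤ (Opens.map f).obj W := by
  intro x hx
  exact ((mem_ov f U W x).1 hx).2

lemma ov_mono {U V : Opens X} (h : V ≤ U) (W : Opens Y) : ov f V W ≤ ov f U W := by
  intro x hx
  rw [mem_ov] at hx ⊢
  exact ⟨h hx.1, hx.2⟩

lemma ov_inf (U V : Opens X) (W : Opens Y) : ov f U W ⊓ ov f V W ≤ ov f (U ⊓ V) W := by
  rintro x ⟨h1, h2⟩
  rw [SetLike.mem_coe, mem_ov] at h1 h2
  rw [mem_ov]
  exact ⟨⟨h1.1, h2.1⟩, h1.2⟩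

lemma le_ov_sup (U V : Opens X) (hUV : U ⊔ V = ⊤) (W : Opens Y) :
    (Opens.map f).obj W ≤ ov f U W ⊔ ov f V W := by
  intro x hx
  have hx' : x ∈ U ⊔ V := by rw [hUV]; trivial
  rcases hx' with h | h
  · exact Or.inl ((mem_ov f U W x).2 ⟨h, hx⟩)
  · exact Or.inr ((mem_ov f V W x).2 ⟨h, hx⟩)

lemma pU_app (U : Opens X) (F : CohTop.Ab X) (W : Opens Y) :
    ((CohCx.pushToRestrPush f U).app F).hom.app (op W) =
      F.obj.map (homOfLE (ov_le f U W)).op := rfl

lemma r_app {U V : Opens X} (h : V ≤ U) (F : CohTop.Ab X) (W : Opens Y) :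
    ((CohCx.restrPushToRestrPush f h).app F).hom.app (op W) =
      F.obj.map (homOfLE (ov_mono f h W)).op := rfl

lemma pU_comp_r {U V : Opens X} (h : V ≤ U) :
    CohCx.pushToRestrPush f U ≫ CohCx.restrPushToRestrPush f h = CohCx.pushToRestrPush f V := by
  ext F : 2
  apply Sheaf.hom_ext
  ext W : 2
  show F.obj.map _ ≫ F.obj.map _ = F.obj.map _
  rw [← F.obj.map_comp]
  rfl

variable (U V : Opens X)

/-- the first map of the relative Mayer-Vietoris sequence of functors -/
noncomputable def α : CohTop.push f ⟶ RDerBiprod.bp (GU f U) (GU f V) :=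
  RDerBiprod.liftN (CohCx.pushToRestrPush f U) (CohCx.pushToRestrPush f V)

/-- the second map of the relative Mayer-Vietoris sequence of functors -/
noncomputable def β : RDerBiprod.bp (GU f U) (GU f V) ⟶ GU f (U ⊓ V) :=
  RDerBiprod.descN (CohCx.restrPushToRestrPush f (inf_le_left : U ⊓ V ≤ U))
    (-CohCx.restrPushToRestrPush f (inf_le_right : U ⊓ V ≤ V))

lemma w : α f U V ≫ β f U V = 0 := by
  rw [α, β, RDerBiprod.descN_eq, Preadditive.comp_add, ← Category.assoc, ← Category.assoc,
    RDerBiprod.liftN_fst, RDerBiprod.liftN_snd, Preadditive.comp_neg, pU_comp_r, pU_comp_r,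
    add_neg_cancel]

section sections

variable {U V} (F : CohTop.Ab X) (W : Opens Y)

/-- sections over `W` -/
noncomputable abbrev sec {A B : CohTop.Ab Y} (φ : A ⟶ B) : A.obj.obj (op W) →+ B.obj.obj (op W) :=
  (φ.hom.app (op W)).hom

lemma sec_comp {A B C : CohTop.Ab Y} (φ : A ⟶ B) (ψ : B ⟶ C) (x : A.obj.obj (op W)) :
    sec W (φ ≫ ψ) x = sec W ψ (sec W φ x) := rfl

lemma sec_add {A B : CohTop.Ab Y} (φ ψ : A ⟶ B) (x : A.obj.obj (op W)) :
    sec W (φ + ψ) x = sec W φ x + sec W ψ x := rfl

lemma sec_neg {A B : CohTop.Ab Y} (φ : A ⟶ B) (x : A.obj.obj (op W)) :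
    sec W (-φ) x = -sec W φ x := rfl

lemma sec_id {A : CohTop.Ab Y} (x : A.obj.obj (op W)) : sec W (𝟙 A) x = x := rfl

lemma sec_zero {A B : CohTop.Ab Y} (x : A.obj.obj (op W)) : sec W (0 : A ⟶ B) x = 0 := rfl

variable (U V)

lemma total_apply (y : ((RDerBiprod.bp (GU f U) (GU f V)).obj F).obj.obj (op W)) :
    y = sec W (biprod.inl : (GU f U).obj F ⟶ (GU f U).obj F ⊞ (GU f V).obj F)
          (sec W (biprod.fst : (GU f U).obj F ⊞ (GU f V).obj F ⟶ _) y) +
        sec W (biprod.inr : (GU f V).obj F ⟶ (GU f U).obj F ⊞ (GU f V).obj F)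
          (sec W (biprod.snd : (GU f U).obj F ⊞ (GU f V).obj F ⟶ _) y) := by
  have h := congrArg (fun φ => sec W φ y)
    (biprod.total : (biprod.fst ≫ biprod.inl + biprod.snd ≫ biprod.inr :
      (GU f U).obj F ⊞ (GU f V).obj F ⟶ _) = 𝟙 _)
  exact h.symm

lemma fst_α_apply (x : ((CohTop.push f).obj F).obj.obj (op W)) :
    sec W (biprod.fst : (GU f U).obj F ⊞ (GU f V).obj F ⟶ _) (sec W ((α f U V).app F) x) =
      (F.obj.map (homOfLE (ov_le f U W)).op).hom x := by
  have h := congrArg (fun φ => sec W φ x)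
    (biprod.lift_fst ((CohCx.pushToRestrPush f U).app F) ((CohCx.pushToRestrPush f V).app F))
  exact h

lemma snd_α_apply (x : ((CohTop.push f).obj F).obj.obj (op W)) :
    sec W (biprod.snd : (GU f U).obj F ⊞ (GU f V).obj F ⟶ _) (sec W ((α f U V).app F) x) =
      (F.obj.map (homOfLE (ov_le f V W)).op).hom x := by
  have h := congrArg (fun φ => sec W φ x)
    (biprod.lift_snd ((CohCx.pushToRestrPush f U).app F) ((CohCx.pushToRestrPush f V).app F))
  exact h

lemma β_inl_apply (t : ((GU f U).obj F).obj.obj (op W)) :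
    sec W ((β f U V).app F) (sec W (biprod.inl : (GU f U).obj F ⟶ _ ⊞ (GU f V).obj F) t) =
      (F.obj.map (homOfLE (ov_mono f (inf_le_left : U ⊓ V ≤ U) W)).op).hom t := by
  have h := congrArg (fun φ => sec W φ t)
    (biprod.inl_desc ((CohCx.restrPushToRestrPush f (inf_le_left : U ⊓ V ≤ U)).app F)
      ((-CohCx.restrPushToRestrPush f (inf_le_right : U ⊓ V ≤ V)).app F))
  exact h

lemma β_inr_apply (t : ((GU f V).obj F).obj.obj (op W)) :
    sec W ((β f U V).app F) (sec W (biprod.inr : (GU f V).obj F ⟶ (GU f U).obj F ⊞ _) t) =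
      -(F.obj.map (homOfLE (ov_mono f (inf_le_right : U ⊓ V ≤ V) W)).op).hom t := by
  have h := congrArg (fun φ => sec W φ t)
    (biprod.inr_desc ((CohCx.restrPushToRestrPush f (inf_le_left : U ⊓ V ≤ U)).app F)
      ((-CohCx.restrPushToRestrPush f (inf_le_right : U ⊓ V ≤ V)).app F))
  exact h

end sections

section hex

variable (hUV : U ⊔ V = ⊤) (I : CohTop.Ab X) [Injective I]

include hUV in
theorem hex : (ShortComplex.mk ((α f U V).app I) ((β f U V).app I) (by
    rw [← NatTrans.comp_app, w]; rfl)).ShortExact := by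
  have hfl : TopCat.Sheaf.IsFlasque I := Groth.Agent.S0454.result I
  apply SheafSES.shortExact_of_sections
  · -- injectivity
    intro W'
    obtain ⟨W⟩ := W'
    rw [injective_iff_map_eq_zero]
    intro x hx
    have hx' : sec W ((α f U V).app I) x = 0 := hx
    have h1 : (I.obj.map (homOfLE (ov_le f U W)).op).hom x = 0 :=
      (fst_α_apply f U V I W x).symm.trans
        ((congrArg (sec W (biprod.fst : (GU f U).obj I ⊞ (GU f V).obj I ⟶ _)) hx').trans
          (map_zero _))
    have h2 : (I.obj.map (homOfLE (ov_le f V W)).op).hom x = 0 :=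
      (snd_α_apply f U V I W x).symm.trans
        ((congrArg (sec W (biprod.snd : (GU f U).obj I ⊞ (GU f V).obj I ⟶ _)) hx').trans
          (map_zero _))
    refine TopCat.Sheaf.eq_of_locally_eq₂ I (homOfLE (ov_le f U W)) (homOfLE (ov_le f V W))
      (le_ov_sup f U V hUV W) x 0 ?_ ?_
    · exact h1.trans (map_zero _).symm
    · exact h2.trans (map_zero _).symm
  · -- exactness
    intro W' y hy
    obtain ⟨W⟩ := W'
    have hy' : sec W ((β f U V).app I) y = 0 := hy
    set y₁ := sec W (biprod.fst : (GU f U).obj I ⊞ (GU f V).obj I ⟶ _) y with hy₁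
    set y₂ := sec W (biprod.snd : (GU f U).obj I ⊞ (GU f V).obj I ⟶ _) y with hy₂
    have htot := total_apply f U V I W y
    have hy'' : (I.obj.map (homOfLE (ov_mono f (inf_le_left : U ⊓ V ≤ U) W)).op).hom y₁ +
        -(I.obj.map (homOfLE (ov_mono f (inf_le_right : U ⊓ V ≤ V) W)).op).hom y₂ = 0 := by
      have e1 := congrArg (sec W ((β f U V).app I)) htot
      have e2 := map_add (sec W ((β f U V).app I))
        (sec W (biprod.inl : (GU f U).obj I ⟶ (GU f U).obj I ⊞ (GU f V).obj I) y₁)
        (sec W (biprod.inr : (GU f V).obj I ⟶ (GU f U).obj I ⊞ (GU f V).obj I) y₂)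
      have e3 := β_inl_apply f U V I W y₁
      have e4 := β_inr_apply f U V I W y₂
      calc _ = sec W ((β f U V).app I) (sec W (biprod.inl : (GU f U).obj I ⟶ _ ⊞ (GU f V).obj I) y₁) +
            sec W ((β f U V).app I) (sec W (biprod.inr : (GU f V).obj I ⟶ (GU f U).obj I ⊞ _) y₂) :=
              (congrArg₂ (· + ·) e3 e4).symm
        _ = _ := e2.symm
        _ = _ := e1.symm
        _ = 0 := hy'
    have heq : (I.obj.map (homOfLE (ov_mono f (inf_le_left : U ⊓ V ≤ U) W)).op).hom y₁ =
        (I.obj.map (homOfLE (ov_mono f (inf_le_right : U ⊓ V ≤ V) W)).op).hom y₂ := by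
      rw [← sub_eq_zero, sub_eq_add_neg]
      exact hy''
    have hcompat : (I.obj.map (homOfLE (inf_le_left : ov f U W ⊓ ov f V W ≤ ov f U W)).op).hom y₁ =
        (I.obj.map (homOfLE (inf_le_right : ov f U W ⊓ ov f V W ≤ ov f V W)).op).hom y₂ := by
      have e1 := SectSupp.map_map_apply I (ov_mono f (inf_le_left : U ⊓ V ≤ U) W)
        (ov_inf f U V W) y₁
      have e2 := SectSupp.map_map_apply I (ov_mono f (inf_le_right : U ⊓ V ≤ V) W)
        (ov_inf f U V W) y₂
      rw [heq] at e1
      exact e1.symm.trans e2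
    obtain ⟨x, hx1, hx2⟩ := SectSupp.glue_two I (ov f U W) (ov f V W) ((Opens.map f).obj W)
      (ov_le f U W) (ov_le f V W) (le_ov_sup f U V hUV W) y₁ y₂ hcompat
    refine ⟨x, ?_⟩
    show sec W ((α f U V).app I) x = y
    rw [total_apply f U V I W (sec W ((α f U V).app I) x), fst_α_apply, snd_α_apply, hx1, hx2]
    exact htot.symm
  · -- surjectivity
    intro W' z
    obtain ⟨W⟩ := W'
    have hepi : Epi (I.obj.map (homOfLE (ov_mono f (inf_le_left : U ⊓ V ≤ U) W)).op) :=
      hfl.epi _
    rw [AddCommGrpCat.epi_iff_surjective] at hepi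
    obtain ⟨t, ht⟩ := hepi z
    refine ⟨sec W (biprod.inl : (GU f U).obj I ⟶ _ ⊞ (GU f V).obj I) t, ?_⟩
    show sec W ((β f U V).app I) _ = z
    rw [β_inl_apply]
    exact ht

end hex

section main

variable (hUV : U ⊔ V = ⊤)

include hUV in
lemma hex' : ∀ (I : CohTop.Ab X), Injective I →
    (ShortComplex.mk ((α f U V).app I) ((β f U V).app I) (by
      rw [← NatTrans.comp_app, w]; rfl)).ShortExact :=
  fun I hI => hex f U V hUV I

/-- the connecting map -/
noncomputable def δ (n : ℕ) (F : CohTop.Ab X) :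
    (CohCx.RpushOn f (U ⊓ V) n).obj F ⟶ (CohTop.Rpush f (n + 1)).obj F :=
  FunLES.δApp (α f U V) (β f U V) (w f U V) (hex' f U V hUV) n F

variable (F : CohTop.Ab X) (n : ℕ)

/-- abbreviation: the iso of derived functors of the biproduct functor -/
noncomputable abbrev eI := RDerBiprod.e (GU f U) (GU f V) n F

lemma α_e : (NatTrans.rightDerived (α f U V) n).app F ≫ (eI f U V F n).hom =
    biprod.lift ((NatTrans.rightDerived (CohCx.pushToRestrPush f U) n).app F)
      ((NatTrans.rightDerived (CohCx.pushToRestrPush f V) n).app F) :=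
  RDerBiprod.rightDerived_liftN _ _ n F

lemma e_β : (eI f U V F n).hom ≫ biprod.desc
      ((NatTrans.rightDerived (CohCx.restrPushToRestrPush f (inf_le_left : U ⊓ V ≤ U)) n).app F)
      (-((NatTrans.rightDerived (CohCx.restrPushToRestrPush f (inf_le_right : U ⊓ V ≤ V)) n).app F)) =
    (NatTrans.rightDerived (β f U V) n).app F := by
  have h := RDerBiprod.rightDerived_descN
    (CohCx.restrPushToRestrPush f (inf_le_left : U ⊓ V ≤ U))
    (-CohCx.restrPushToRestrPush f (inf_le_right : U ⊓ V ≤ V)) n F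
  rw [RDerBiprod.rightDerived_neg, NatTrans.app_neg] at h
  exact h

include hUV in
lemma mono₀ : Mono (biprod.lift ((NatTrans.rightDerived (CohCx.pushToRestrPush f U) 0).app F)
    ((NatTrans.rightDerived (CohCx.pushToRestrPush f V) 0).app F)) := by
  rw [← α_e f U V F 0]
  have : Mono ((NatTrans.rightDerived (α f U V) 0).app F) := by
    rw [FunLES.rightDerived_α_eq (α f U V) (β f U V) (w f U V)]
    have hm : Mono ((FunLES.sc (α f U V) (β f U V) (w f U V)
        (injectiveResolution F).cocomplex).f.f 0) := by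
      have := (hex f U V hUV ((injectiveResolution F).cocomplex.X 0)).mono_f
      exact this
    have h0 := Horseshoe.mono_homologyMap_zero ((FunLES.sc (α f U V) (β f U V) (w f U V)
        (injectiveResolution F).cocomplex).f)
    have h1 := mono_comp (HomologicalComplex.homologyMap (FunLES.sc (α f U V) (β f U V) (w f U V)
        (injectiveResolution F).cocomplex).f 0)
      ((injectiveResolution F).isoRightDerivedObj (RDerBiprod.bp (GU f U) (GU f V)) 0).inv
    exact @mono_comp _ _ _ _ _ _ inferInstance _ h1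
  exact mono_comp _ _

include hUV in
theorem main :
    ∃ δ : ∀ n : ℕ, (CohCx.RpushOn f (U ⊓ V) n).obj F ⟶ (CohTop.Rpush f (n + 1)).obj F,
      Mono (biprod.lift ((NatTrans.rightDerived (CohCx.pushToRestrPush f U) 0).app F)
        ((NatTrans.rightDerived (CohCx.pushToRestrPush f V) 0).app F)) ∧
      ∀ n : ℕ,
        (ComposableArrows.mk₂
          (biprod.lift ((NatTrans.rightDerived (CohCx.pushToRestrPush f U) n).app F)
            ((NatTrans.rightDerived (CohCx.pushToRestrPush f V) n).app F))
          (biprod.desc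
            ((NatTrans.rightDerived (CohCx.restrPushToRestrPush f (inf_le_left : U ⊓ V ≤ U)) n).app F)
            (-((NatTrans.rightDerived (CohCx.restrPushToRestrPush f (inf_le_right : U ⊓ V ≤ V)) n).app F)))).Exact ∧
        (ComposableArrows.mk₂
          (biprod.desc
            ((NatTrans.rightDerived (CohCx.restrPushToRestrPush f (inf_le_left : U ⊓ V ≤ U)) n).app F)
            (-((NatTrans.rightDerived (CohCx.restrPushToRestrPush f (inf_le_right : U ⊓ V ≤ V)) n).app F)))
          (δ n)).Exact ∧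
        (ComposableArrows.mk₂ (δ n)
          (biprod.lift ((NatTrans.rightDerived (CohCx.pushToRestrPush f U) (n + 1)).app F)
            ((NatTrans.rightDerived (CohCx.pushToRestrPush f V) (n + 1)).app F))).Exact := by
  refine ⟨fun n => δ f U V hUV n F, mono₀ f U V hUV F, fun n => ⟨?_, ?_, ?_⟩⟩
  · -- exactness at the biproduct
    have h2 := FunLES.exact₂ (α f U V) (β f U V) (w f U V) (hex' f U V hUV) n F
    have hz : biprod.lift ((NatTrans.rightDerived (CohCx.pushToRestrPush f U) n).app F)
          ((NatTrans.rightDerived (CohCx.pushToRestrPush f V) n).app F) ≫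
        biprod.desc
          ((NatTrans.rightDerived (CohCx.restrPushToRestrPush f (inf_le_left : U ⊓ V ≤ U)) n).app F)
          (-((NatTrans.rightDerived (CohCx.restrPushToRestrPush f (inf_le_right : U ⊓ V ≤ V)) n).app F)) = 0 := by
      rw [← α_e f U V F n, Category.assoc, e_β]
      exact FunLES.α_comp_β (α f U V) (β f U V) (w f U V) n F
    have : (ShortComplex.mk _ _ hz).Exact := by
      refine ShortComplex.exact_of_iso ?_ h2
      refine ShortComplex.isoMk (Iso.refl _) (eI f U V F n) (Iso.refl _) ?_ ?_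
      · dsimp only [Iso.refl_hom]
        rw [Category.id_comp]
        exact (α_e f U V F n).symm
      · dsimp only [Iso.refl_hom]
        rw [Category.comp_id]
        exact e_β f U V F n
    exact this.exact_toComposableArrows
  · have h3 := FunLES.exact₃ (α f U V) (β f U V) (w f U V) (hex' f U V hUV) n F
    have hz : biprod.desc
          ((NatTrans.rightDerived (CohCx.restrPushToRestrPush f (inf_le_left : U ⊓ V ≤ U)) n).app F)
          (-((NatTrans.rightDerived (CohCx.restrPushToRestrPush f (inf_le_right : U ⊓ V ≤ V)) n).app F)) ≫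
        δ f U V hUV n F = 0 := by
      rw [← cancel_epi (eI f U V F n).hom, ← Category.assoc, e_β, comp_zero]
      exact FunLES.β_comp_δApp (α f U V) (β f U V) (w f U V) (hex' f U V hUV) n F
    have : (ShortComplex.mk _ _ hz).Exact := by
      refine ShortComplex.exact_of_iso ?_ h3
      refine ShortComplex.isoMk (eI f U V F n) (Iso.refl _) (Iso.refl _) ?_ ?_
      · dsimp only [Iso.refl_hom]
        rw [Category.comp_id]
        exact (e_β f U V F n)
      · dsimp only [Iso.refl_hom]
        rw [Category.id_comp, Category.comp_id]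
        rfl
    exact this.exact_toComposableArrows
  · have h1 := FunLES.exact₁ (α f U V) (β f U V) (w f U V) (hex' f U V hUV) n F
    have hz : δ f U V hUV n F ≫
        biprod.lift ((NatTrans.rightDerived (CohCx.pushToRestrPush f U) (n + 1)).app F)
          ((NatTrans.rightDerived (CohCx.pushToRestrPush f V) (n + 1)).app F) = 0 := by
      rw [← α_e f U V F (n + 1), ← Category.assoc]
      have := FunLES.δApp_comp_α (α f U V) (β f U V) (w f U V) (hex' f U V hUV) n F
      show (FunLES.δApp _ _ _ _ n F ≫ _) ≫ _ = 0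
      rw [this, zero_comp]
    have : (ShortComplex.mk _ _ hz).Exact := by
      refine ShortComplex.exact_of_iso ?_ h1
      refine ShortComplex.isoMk (Iso.refl _) (Iso.refl _) (eI f U V F (n + 1)) ?_ ?_
      · dsimp only [Iso.refl_hom]
        rw [Category.id_comp, Category.comp_id]
        rfl
      · dsimp only [Iso.refl_hom]
        rw [Category.id_comp]
        exact (α_e f U V F (n + 1)).symm
    exact this.exact_toComposableArrows

end main

end RelMV

end Groth.Agent.Lib.helper27
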