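import Mathlib
import Groth.Prelude.Def_W4sga3iivvp2RelPsh

open CategoryTheory Opposite

universe v₁ u₁

namespace Groth.Agent.Lib.helper27.RelPshSheaf

variable {C : Type u₁} [Category.{v₁} C] (J : GrothendieckTopology C)
    {S : C} {F : Cᵒᵖ ⥤ Type v₁} (φ : F ⟶ yoneda.obj S)

lemma sep_of_sep (hF : Presieve.IsSeparated J F) :
    Presieve.IsSeparated (J.over S) (ShfCat.relPsh φ) := by
  intro Y R hR x t₁ t₂ h₁ h₂
  apply Subtype.ext
  refine hF _ ((J.mem_over_iff R).1 hR) (fun V g hg => (x (Over.homMk g : Over.mk (g ≫ Y.hom) ⟶ Y)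
    ((Sieve.overEquiv_iff _ _).1 hg)).1) t₁.1 t₂.1 ?_ ?_
  · intro V g hg
    have := h₁ (Over.homMk g : Over.mk (g ≫ Y.hom) ⟶ Y) ((Sieve.overEquiv_iff _ _).1 hg)
    exact congrArg Subtype.val this
  · intro V g hg
    have := h₂ (Over.homMk g : Over.mk (g ≫ Y.hom) ⟶ Y) ((Sieve.overEquiv_iff _ _).1 hg)
    exact congrArg Subtype.val this

/-- two sections of `F` agreeing on a covering sieve have the same image in `h_S` -/
lemma φ_eq (hS : Presieve.IsSeparated J (yoneda.obj S)) {T : C} (R : Sieve T) (hR : R ∈ J T)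
    (t₁ t₂ : F.obj (op T))
    (h : ∀ ⦃V : C⦄ (g : V ⟶ T), R g → F.map g.op t₁ = F.map g.op t₂) :
    φ.app (op T) t₁ = φ.app (op T) t₂ := by
  refine hS R hR (fun V g _ => φ.app (op V) (F.map g.op t₁)) _ _ ?_ ?_
  · intro V g hg
    exact (NatTrans.naturality_apply φ g.op t₁).symm
  · intro V g hg
    show (yoneda.obj S).map g.op (φ.app (op T) t₂) = φ.app (op V) (F.map g.op t₁)
    rw [h g hg]
    exact (NatTrans.naturality_apply φ g.op t₂).symm

lemma sep_of_sep' (hS : Presieve.IsSeparated J (yoneda.obj S))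
    (hG : Presieve.IsSeparated (J.over S) (ShfCat.relPsh φ)) :
    Presieve.IsSeparated J F := by
  intro T R hR x t₁ t₂ h₁ h₂
  have hφ : φ.app (op T) t₁ = φ.app (op T) t₂ :=
    φ_eq J φ hS R hR t₁ t₂ (fun V g hg => (h₁ g hg).trans (h₂ g hg).symm)
  let Y : Over S := Over.mk (φ.app (op T) t₂)
  let s₁ : (ShfCat.relPsh φ).obj (op Y) := ⟨t₁, hφ⟩
  let s₂ : (ShfCat.relPsh φ).obj (op Y) := ⟨t₂, rfl⟩
  have hR' : (Sieve.overEquiv Y).symm R ∈ J.over S Y := J.overEquiv_symm_mem_over Y R hR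
  have := hG _ hR' (fun Z f hf => (ShfCat.relPsh φ).map f.op s₁) s₁ s₂ (fun Z f hf => rfl)
    (fun Z f hf => by
      apply Subtype.ext
      show F.map f.left.op t₂ = F.map f.left.op t₁
      exact (h₂ f.left hf).trans (h₁ f.left hf).symm)
  exact congrArg Subtype.val this

lemma sheaf_of_sheaf (hS : Presieve.IsSeparated J (yoneda.obj S)) (hF : Presieve.IsSheaf J F) :
    Presieve.IsSheaf (J.over S) (ShfCat.relPsh φ) := by
  intro Y R hR
  rw [← Presieve.isSeparatedFor_and_exists_isAmalgamation_iff_isSheafFor]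
  refine ⟨sep_of_sep J φ hF.isSeparated R hR, ?_⟩
  intro x hx
  -- the family on `T = Y.left`
  let x' : Presieve.FamilyOfElements F (Sieve.overEquiv Y R).arrows :=
    fun V g hg => (x (Over.homMk g : Over.mk (g ≫ Y.hom) ⟶ Y) ((Sieve.overEquiv_iff _ _).1 hg)).1
  have hx' : x'.Compatible := by
    intro V₁ V₂ W g₁ g₂ f₁ f₂ h₁ h₂ e
    let W' : Over S := Over.mk (g₁ ≫ f₁ ≫ Y.hom)
    let a₁ : W' ⟶ Over.mk (f₁ ≫ Y.hom) := Over.homMk g₁
    let a₂ : W' ⟶ Over.mk (f₂ ≫ Y.hom) := Over.homMk g₂ (by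
      show g₂ ≫ f₂ ≫ Y.hom = g₁ ≫ f₁ ≫ Y.hom
      rw [← Category.assoc, ← e, Category.assoc])
    have := hx a₁ a₂ ((Sieve.overEquiv_iff _ _).1 h₁) ((Sieve.overEquiv_iff _ _).1 h₂)
      (by ext; exact e)
    exact congrArg Subtype.val this
  obtain ⟨t, ht, -⟩ := hF _ ((J.mem_over_iff R).1 hR) x' hx'
  have hφt : φ.app (op Y.left) t = Y.hom := by
    refine hS _ ((J.mem_over_iff R).1 hR) (fun V g _ => g ≫ Y.hom) _ _ ?_ ?_
    · intro V g hg
      show (yoneda.obj S).map g.op (φ.app (op Y.left) t) = g ≫ Y.hom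
      rw [← NatTrans.naturality_apply φ g.op t, ht g hg]
      exact (x (Over.homMk g : Over.mk (g ≫ Y.hom) ⟶ Y) ((Sieve.overEquiv_iff _ _).1 hg)).2
    · intro V g hg
      rfl
  refine ⟨⟨t, hφt⟩, ?_⟩
  intro Z f hf
  apply Subtype.ext
  show F.map f.left.op t = (x f hf).1
  have hf' : Sieve.overEquiv Y R f.left := by
    rw [Sieve.overEquiv_iff]
    have e : (Over.homMk f.left : Over.mk (f.left ≫ Y.hom) ⟶ Y) =
        (Over.isoMk (Iso.refl _) (by simp) : Over.mk (f.left ≫ Y.hom) ≅ Z).hom ≫ f := by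
      ext; simp
    rw [e]
    exact R.downward_closed hf _
  rw [ht f.left hf']
  let i : Over.mk (f.left ≫ Y.hom) ≅ Z := Over.isoMk (Iso.refl _) (by simp)
  have key := hx (𝟙 _) i.hom ((Sieve.overEquiv_iff _ _).1 hf') hf (by ext; simp [i])
  have key' := congrArg Subtype.val key
  rw [ShfCat.relPsh_map_val, ShfCat.relPsh_map_val] at key'
  simpa [i] using key'

lemma sheaf_of_sheaf' (hS : Presieve.IsSheaf J (yoneda.obj S))
    (hG : Presieve.IsSheaf (J.over S) (ShfCat.relPsh φ)) :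
    Presieve.IsSheaf J F := by
  intro T R hR
  rw [← Presieve.isSeparatedFor_and_exists_isAmalgamation_iff_isSheafFor]
  refine ⟨sep_of_sep' J φ hS.isSeparated hG.isSeparated R hR, ?_⟩
  intro x hx
  -- the structure map `T ⟶ S`
  let y : Presieve.FamilyOfElements (yoneda.obj S) R.arrows := fun V g hg => φ.app (op V) (x g hg)
  have hy : y.Compatible := by
    intro V₁ V₂ W g₁ g₂ f₁ f₂ h₁ h₂ e
    show (yoneda.obj S).map g₁.op (φ.app (op V₁) (x f₁ h₁)) =
      (yoneda.obj S).map g₂.op (φ.app (op V₂) (x f₂ h₂))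
    rw [← NatTrans.naturality_apply φ g₁.op, ← NatTrans.naturality_apply φ g₂.op]
    exact congrArg _ (hx g₁ g₂ h₁ h₂ e)
  obtain ⟨s, hs, -⟩ := hS R hR y hy
  let Y : Over S := Over.mk s
  have hR' : (Sieve.overEquiv Y).symm R ∈ J.over S Y := J.overEquiv_symm_mem_over Y R hR
  let x' : Presieve.FamilyOfElements (ShfCat.relPsh φ) ((Sieve.overEquiv Y).symm R).arrows :=
    fun Z f hf => ⟨x f.left hf, by
      have := hs f.left hf
      show φ.app (op Z.left) (x f.left hf) = Z.hom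
      rw [← Over.w f]
      exact this.symm⟩
  have hx' : x'.Compatible := by
    intro Z₁ Z₂ W g₁ g₂ f₁ f₂ h₁ h₂ e
    apply Subtype.ext
    show F.map g₁.left.op (x f₁.left h₁) = F.map g₂.left.op (x f₂.left h₂)
    exact hx g₁.left g₂.left h₁ h₂ (congrArg (fun k => k.left) e)
  obtain ⟨t, ht, -⟩ := hG _ hR' x' hx'
  refine ⟨t.1, ?_⟩
  intro V g hg
  have := ht (Over.homMk g : Over.mk (g ≫ Y.hom) ⟶ Y) hg
  exact congrArg Subtype.val this

end Groth.Agent.Lib.helper27.RelPshSheaf
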