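import Mathlib

open CategoryTheory CategoryTheory.Limits Opposite

universe w v u

namespace Groth.Agent.Lib.helper27.Replete

/-- sequential limits of surjections in `Type`: every projection is surjective -/
lemma surjective_π_app (T : ℕᵒᵖ ⥤ Type w) (c : Cone T) (hc : IsLimit c)
    (hT : ∀ k, Function.Surjective (T.map (homOfLE (Nat.le_succ k)).op)) (n : ℕ) :
    Function.Surjective (c.π.app (op n)) := by
  have hmono : Monotone (fun k : ℕ => n + k) := fun a b h => Nat.add_le_add_left h n
  let s : ℕᵒᵖ ⥤ ℕᵒᵖ := hmono.functor.op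
  have : hmono.functor.Final := by
    rw [Monotone.final_functor_iff]
    intro d
    exact ⟨d, Nat.le_add_left d n⟩
  have : s.Initial := inferInstance
  have hc' : IsLimit (c.whisker s) := (Functor.Initial.isLimitWhiskerEquiv s c).symm hc
  have := Types.surjective_π_app_zero_of_surjective_map (F := s ⋙ T) hc' (by
    intro k
    have h1 : (s ⋙ T).map (homOfLE (Nat.le_succ k)).op =
        T.map (homOfLE (Nat.le_succ (n + k))).op := by
      show T.map (s.map (homOfLE (Nat.le_succ k)).op) = T.map (homOfLE (Nat.le_succ (n + k))).op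
      congr 1
    rw [h1]
    exact hT (n + k))
  exact this

theorem main
    {C : Type u} [Category.{v} C] (J : GrothendieckTopology C)
    (hwc : ∀ V : C, ∃ S : Sieve V, S ∈ J V ∧ ∀ ⦃W : C⦄ (f : W ⟶ V), S.arrows f →
      ∃ (U : C) (g : W ⟶ U) (h : U ⟶ V), (∀ (A B : Sheaf J (Type w)) (ψ : A ⟶ B), Epi ψ →
        Function.Surjective (ψ.hom.app (op U))) ∧ g ≫ h = f)
    (F : ℕᵒᵖ ⥤ Sheaf J (Type w))
    (hF : ∀ n : ℕ, Epi (F.map (homOfLE (Nat.le_succ n)).op))
    (c : Cone F) (hc : IsLimit c) (n : ℕ) :
    Epi (c.π.app (op n)) := by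
  -- surjectivity on sections over weakly contractible objects
  have key : ∀ U : C, (∀ (A B : Sheaf J (Type w)) (ψ : A ⟶ B), Epi ψ →
      Function.Surjective (ψ.hom.app (op U))) →
      Function.Surjective ((c.π.app (op n)).hom.app (op U)) := by
    intro U hU
    let E : Sheaf J (Type w) ⥤ Type w :=
      sheafToPresheaf J (Type w) ⋙ (evaluation Cᵒᵖ (Type w)).obj (op U)
    have hc' : IsLimit (E.mapCone c) := isLimitOfPreserves E hc
    exact surjective_π_app (F ⋙ E) (E.mapCone c) hc'
      (fun k => hU _ _ (F.map (homOfLE (Nat.le_succ k)).op) (hF k)) n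
  have : Sheaf.IsLocallySurjective (c.π.app (op n)) := by
    constructor
    intro V s
    obtain ⟨S, hS, hS'⟩ := hwc V
    refine J.superset_covering ?_ hS
    intro W f hf
    obtain ⟨U, g, h, hU, rfl⟩ := hS' f hf
    obtain ⟨t, ht⟩ := key U hU ((F.obj (op n)).obj.map h.op s)
    refine ⟨c.pt.obj.map g.op t, ?_⟩
    have nat := ConcreteCategory.congr_hom ((c.π.app (op n)).hom.naturality g.op) t
    simp only [ConcreteCategory.comp_apply] at nat
    refine nat.trans ?_
    rw [ht, op_comp, Functor.map_comp]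
    rfl
  infer_instance

end Groth.Agent.Lib.helper27.Replete
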