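import Mathlib
import Groth.Prelude.Def_CohCx

set_option autoImplicit false
set_option linter.unusedSectionVars false
set_option linter.unusedVariables false

namespace Groth.Agent.Lib.helper27

open CategoryTheory Limits Opposite Pretriangulated

universe v' u'

namespace RlimMilnor

variable {T : Type u'} [Category.{v'} T] [Preadditive T] [HasZeroObject T] [HasShift T ℤ]
  [∀ n : ℤ, (shiftFunctor T n).Additive] [Pretriangulated T]
  (P : T) (K : ℕ → T) (t : ∀ n, K (n + 1) ⟶ K n) [HasProduct K] (L : T) (a : ∀ n, L ⟶ K n)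

/-- the shifted product is a product -/
noncomputable def isLimitShift (m : ℤ) :
    IsLimit (Fan.mk ((∏ᶜ K)⟦m⟧) (fun n => (Pi.π K n)⟦m⟧')) :=
  (isLimitMapConeFanMkEquiv (shiftFunctor T m) K (Pi.π K)).1
    (isLimitOfPreserves (shiftFunctor T m) (productIsProduct K))

/-- the lift to the shifted product -/
noncomputable def lift (m : ℤ) (x : ∀ n, P ⟶ (K n)⟦m⟧) : P ⟶ (∏ᶜ K)⟦m⟧ :=
  Fan.IsLimit.lift (isLimitShift K m) x

@[reassoc (attr := simp)]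
lemma lift_π (m : ℤ) (x : ∀ n, P ⟶ (K n)⟦m⟧) (n : ℕ) :
    lift P K m x ≫ (Pi.π K n)⟦m⟧' = x n :=
  Fan.IsLimit.fac (isLimitShift K m) x n

lemma hom_ext (m : ℤ) {z z' : P ⟶ (∏ᶜ K)⟦m⟧}
    (h : ∀ n, z ≫ (Pi.π K n)⟦m⟧' = z' ≫ (Pi.π K n)⟦m⟧') : z = z' :=
  Fan.IsLimit.hom_ext (isLimitShift K m) _ _ h

variable {K t L a} (hL : CohCx.IsRlimVia K t L a)

/-- the functor `Hom(P, -)` -/
noncomputable abbrev F : T ⥤ AddCommGrpCat.{v'} := preadditiveCoyoneda.obj (op P)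

include hL in
theorem part1 (m : ℤ) (x : ∀ n, P ⟶ (K n)⟦m⟧) (hx : ∀ n, x (n + 1) ≫ (t n)⟦m⟧' = x n) :
    ∃ y : P ⟶ L⟦m⟧, ∀ n, y ≫ (a n)⟦m⟧' = x n := by
  obtain ⟨c, hc⟩ := hL
  let _ : (F P).ShiftSequence ℤ := Functor.ShiftSequence.tautological (F P) ℤ
  have hex := (F P).homologySequence_exact₂ _ hc m
  rw [ShortComplex.ab_exact_iff] at hex
  have hz : lift P K m x ≫ (Pi.lift fun n => Pi.π K n - Pi.π K (n + 1) ≫ t n)⟦m⟧' = 0 := by
    apply hom_ext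
    intro n
    rw [Category.assoc, ← Functor.map_comp, Pi.lift_π, Functor.map_sub, Functor.map_comp,
      Preadditive.comp_sub, lift_π, lift_π_assoc, hx, sub_self, zero_comp]
  obtain ⟨y, hy⟩ := hex (lift P K m x) hz
  let y' : P ⟶ L⟦m⟧ := y
  have hy' : y' ≫ (Pi.lift a)⟦m⟧' = lift P K m x := hy
  refine ⟨y', fun n => ?_⟩
  have key : y' ≫ (a n)⟦m⟧' = (y' ≫ (Pi.lift a)⟦m⟧') ≫ (Pi.π K n)⟦m⟧' := by
    rw [Category.assoc, ← Functor.map_comp, Pi.lift_π]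
  exact key.trans ((congrArg (· ≫ (Pi.π K n)⟦m⟧') hy').trans (lift_π P K m x n))

include hL in
theorem part2 (m₀ m : ℤ) (hm : m₀ + 1 = m)
    (hlim : CohCx.LimOneIsZero (fun n => (P ⟶ (K n)⟦m₀⟧))
      (fun n => Preadditive.rightComp P ((t n)⟦m₀⟧')))
    (y : P ⟶ L⟦m⟧) (hy : ∀ n, y ≫ (a n)⟦m⟧' = 0) : y = 0 := by
  obtain ⟨c, hc⟩ := hL
  let _ : (F P).ShiftSequence ℤ := Functor.ShiftSequence.tautological (F P) ℤ
  have hex := (F P).homologySequence_exact₁ _ hc m₀ m hm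
  rw [ShortComplex.ab_exact_iff] at hex
  have hy0 : y ≫ (Pi.lift a)⟦m⟧' = 0 := by
    apply hom_ext
    intro n
    rw [Category.assoc, ← Functor.map_comp, Pi.lift_π, hy, zero_comp]
  obtain ⟨w, hw⟩ := hex y hy0
  have hw' : w ∈ Set.univ := trivial
  obtain ⟨b, hb⟩ := hlim (fun n => (w : P ⟶ (∏ᶜ K)⟦m₀⟧) ≫ (Pi.π K n)⟦m₀⟧')
  have hwb : (w : P ⟶ (∏ᶜ K)⟦m₀⟧) =
      lift P K m₀ b ≫ (Pi.lift fun n => Pi.π K n - Pi.π K (n + 1) ≫ t n)⟦m₀⟧' := by
    apply hom_ext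
    intro n
    rw [Category.assoc, ← Functor.map_comp, Pi.lift_π, Functor.map_sub, Functor.map_comp,
      Preadditive.comp_sub, lift_π, lift_π_assoc]
    exact (congrFun hb n).symm
  have hδ := (F P).comp_homologySequenceδ _ hc m₀ m hm
  have h2 := congrArg (fun φ => φ.hom (lift P K m₀ b)) hδ
  have h3 : ((F P).homologySequenceδ (Triangle.mk (Pi.lift a)
      (Pi.lift fun n => Pi.π K n - Pi.π K (n + 1) ≫ t n) c) m₀ m hm).hom
      (lift P K m₀ b ≫ (Pi.lift fun n => Pi.π K n - Pi.π K (n + 1) ≫ t n)⟦m₀⟧') = 0 := h2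
  exact hw.symm.trans ((congrArg (fun z => ((F P).homologySequenceδ (Triangle.mk (Pi.lift a)
      (Pi.lift fun n => Pi.π K n - Pi.π K (n + 1) ≫ t n) c) m₀ m hm).hom z) hwb).trans h3)

end RlimMilnor

end Groth.Agent.Lib.helper27
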