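import Mathlib
import Groth.Prelude.Def_CohTop
import Groth.Agent.Lib.Helper27.FlasqueTower
import Groth.Agent.Lib.Helper21.ModSh
import Groth.Agent.Lib.Helper21.ModGroth

/-!
# Towers of sheaves of modules on a topological space: sections of the limit, and an embedding
into a tower of injectives with split transition maps (helper27)
-/

set_option autoImplicit false
set_option linter.unusedSectionVars false
set_option linter.unusedVariables false

namespace Groth.Agent.Lib.helper27

open CategoryTheory Limits Opposite TopologicalSpace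

universe u

namespace RlimMod

variable {X : TopCat.{u}} (R : Sheaf (Opens.grothendieckTopology X) RingCat.{u})

instance : PreservesLimitsOfShape ℕᵒᵖ (SheafOfModules.toSheaf.{u} R) := by
  have := Groth.Agent.Lib.Helper21.ModSh.toSheaf_preservesLimits R
  have : PreservesLimitsOfSize.{0, 0} (SheafOfModules.toSheaf.{u} R) :=
    preservesSmallestLimits_of_preservesLimits _
  infer_instance

instance : EnoughInjectives (SheafOfModules.{u} R) :=
  Groth.Agent.Lib.Helper21.ModGroth.enoughInjectives_mod R

variable {R} (E : ℕᵒᵖ ⥤ SheafOfModules.{u} R)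

/-- the tower of underlying abelian sheaves -/
noncomputable abbrev F' : ℕᵒᵖ ⥤ CohTop.Ab X := E ⋙ SheafOfModules.toSheaf R

/-- the underlying abelian sheaf of the limit is the limit of the underlying abelian sheaves -/
noncomputable def e : (SheafOfModules.toSheaf R).obj (limit E) ≅ limit (F' E) :=
  preservesLimitIso (SheafOfModules.toSheaf R) E

lemma e_hom_π (n : ℕ) :
    (e E).hom ≫ limit.π (F' E) (op n) = (SheafOfModules.toSheaf R).map (limit.π E (op n)) :=
  preservesLimitIso_hom_π _ _ _

lemma e_inv_π (n : ℕ) :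
    (e E).inv ≫ (SheafOfModules.toSheaf R).map (limit.π E (op n)) = limit.π (F' E) (op n) := by
  rw [← e_hom_π, Iso.inv_hom_id_assoc]

variable (U : Opens X)

/-- the projection on sections -/
noncomputable abbrev πsec (n : ℕ) :
    ((SheafOfModules.toSheaf R).obj (limit E)).obj.obj (op U) →
      ((SheafOfModules.toSheaf R).obj (E.obj (op n))).obj.obj (op U) :=
  fun x => ((SheafOfModules.toSheaf R).map (limit.π E (op n))).hom.app (op U) x

lemma πsec_eq (n : ℕ) (x : ((SheafOfModules.toSheaf R).obj (limit E)).obj.obj (op U)) :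
    πsec E U n x = (limit.π (F' E) (op n)).hom.app (op U) ((e E).hom.hom.app (op U) x) := by
  have h := congrArg (fun ψ : (SheafOfModules.toSheaf R).obj (limit E) ⟶ (F' E).obj (op n) =>
    ψ.hom.app (op U) x) (e_hom_π E n)
  exact h.symm

lemma sec_ext (x y : ((SheafOfModules.toSheaf R).obj (limit E)).obj.obj (op U))
    (h : ∀ n, πsec E U n x = πsec E U n y) : x = y := by
  have h1 : (e E).hom.hom.app (op U) x = (e E).hom.hom.app (op U) y := by
    apply FlasqueTower.sec_ext (F' E) U
    intro n
    rw [← πsec_eq, ← πsec_eq]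
    exact h n
  have h2 := congrArg (fun z => (e E).inv.hom.app (op U) z) h1
  have h3 : ∀ z, (e E).inv.hom.app (op U) ((e E).hom.hom.app (op U) z) = z := by
    intro z
    have := congrArg (fun ψ : (SheafOfModules.toSheaf R).obj (limit E) ⟶
      (SheafOfModules.toSheaf R).obj (limit E) => ψ.hom.app (op U) z) (e E).hom_inv_id
    exact this
  exact (h3 x).symm.trans (h2.trans (h3 y))

lemma exists_sec (s : ∀ n : ℕ, ((SheafOfModules.toSheaf R).obj (E.obj (op n))).obj.obj (op U))
    (hs : ∀ n : ℕ, ((SheafOfModules.toSheaf R).map (E.map (homOfLE (Nat.le_succ n)).op)).hom.app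
      (op U) (s (n + 1)) = s n) :
    ∃ x : ((SheafOfModules.toSheaf R).obj (limit E)).obj.obj (op U), ∀ n, πsec E U n x = s n := by
  obtain ⟨y, hy⟩ := FlasqueTower.exists_sec (F' E) U s hs
  refine ⟨(e E).inv.hom.app (op U) y, fun n => ?_⟩
  rw [πsec_eq]
  have h3 : (e E).hom.hom.app (op U) ((e E).inv.hom.app (op U) y) = y := by
    have := congrArg (fun ψ : limit (F' E) ⟶ limit (F' E) => ψ.hom.app (op U) y) (e E).inv_hom_id
    exact this
  rw [h3]
  exact hy n

/-! ### the tower of injectives -/

/-- the terms -/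
noncomputable def Jobj : ℕ → SheafOfModules.{u} R
  | 0 => Injective.under (E.obj (op 0))
  | n + 1 => Jobj n ⊞ Injective.under (E.obj (op (n + 1)))

instance injective_Jobj (n : ℕ) : Injective (Jobj E n) := by
  induction n with
  | zero => exact inferInstanceAs (Injective (Injective.under (E.obj (op 0))))
  | succ n ih =>
    exact inferInstanceAs (Injective (Jobj E n ⊞ Injective.under (E.obj (op (n + 1)))))

/-- the tower -/
noncomputable def J : ℕᵒᵖ ⥤ SheafOfModules.{u} R :=
  Functor.ofOpSequence (X := Jobj E)
    (fun n => (biprod.fst : Jobj E n ⊞ Injective.under (E.obj (op (n + 1))) ⟶ Jobj E n))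

lemma J_obj (n : ℕ) : (J E).obj (op n) = Jobj E n := rfl

lemma J_map_succ (n : ℕ) : (J E).map (homOfLE (Nat.le_succ n)).op =
    (biprod.fst : Jobj E n ⊞ Injective.under (E.obj (op (n + 1))) ⟶ Jobj E n) :=
  Functor.ofOpSequence_map_homOfLE_succ _ n

/-- the components of the embedding -/
noncomputable def jApp : ∀ n : ℕ, E.obj (op n) ⟶ Jobj E n
  | 0 => Injective.ι (E.obj (op 0))
  | n + 1 => biprod.lift (E.map (homOfLE (Nat.le_succ n)).op ≫ jApp n)
      (Injective.ι (E.obj (op (n + 1))))

instance mono_jApp (n : ℕ) : Mono (jApp E n) := by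
  cases n with
  | zero => exact inferInstanceAs (Mono (Injective.ι (E.obj (op 0))))
  | succ n =>
    have h : jApp E (n + 1) ≫ (biprod.snd : Jobj E n ⊞ Injective.under (E.obj (op (n + 1))) ⟶ _) =
        Injective.ι (E.obj (op (n + 1))) := biprod.lift_snd _ _
    exact mono_of_mono_fac h

/-- the embedding -/
noncomputable def jι : E ⟶ J E :=
  NatTrans.ofOpSequence (F := E) (G := J E) (jApp E) (by
    intro n
    rw [J_map_succ]
    show _ = jApp E (n + 1) ≫ biprod.fst
    exact (biprod.lift_fst _ _).symm)

lemma jι_app (n : ℕ) : (jι E).app (op n) = jApp E n := rfl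

instance mono_jι : Mono (jι E) := by
  have : ∀ n : ℕᵒᵖ, Mono ((jι E).app n) := by
    rintro ⟨n⟩
    rw [jι_app]
    exact mono_jApp E n
  exact NatTrans.mono_of_mono_app _

end RlimMod

end Groth.Agent.Lib.helper27
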