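import Mathlib
import Groth.Prelude.Def_CohTop
import Groth.Agent.Lib.Helper27.RlimMod1
import Groth.Agent.Lib.Helper27.MLNat
import Groth.Agent.Lib.Helper27.MilnorExtD
import Groth.Agent.Lib.Helper27.AcyclicClass2
import Groth.Agent.Lib.Helper7.QCohExt
import Groth.Agent.Lib.Helper21.InjAcyc2

/-!
# `R^i lim` of towers of sheaves of modules acyclic on a basis (helper27)
-/

set_option autoImplicit false
set_option linter.unusedSectionVars false
set_option linter.unusedVariables false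

namespace Groth.Agent.Lib.helper27

open CategoryTheory Limits Opposite TopologicalSpace Abelian

universe u

namespace RlimMod

variable {X : TopCat.{u}} {R : Sheaf (Opens.grothendieckTopology X) RingCat.{u}}

/-- the tower of sections over `U` -/
noncomputable abbrev secTow (E : ℕᵒᵖ ⥤ SheafOfModules.{u} R) (U : Opens X) :
    ℕᵒᵖ ⥤ AddCommGrpCat.{u} :=
  E ⋙ SheafOfModules.toSheaf R ⋙
    (sheafSections (Opens.grothendieckTopology X) AddCommGrpCat.{u}).obj (op U)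

variable (B : Set (Opens X))

/-- acyclicity of all terms on the members of `B` -/
def Acyc (E : ℕᵒᵖ ⥤ SheafOfModules.{u} R) : Prop :=
  ∀ U ∈ B, ∀ (n i : ℕ), 1 ≤ i →
    Subsingleton (CohTop.HU ((SheafOfModules.toSheaf R).obj (E.obj (op n))) i U)

/-- the Mittag-Leffler condition on the sections over the members of `B` -/
def ML (E : ℕᵒᵖ ⥤ SheafOfModules.{u} R) : Prop :=
  ∀ U ∈ B, (secTow E U ⋙ forget AddCommGrpCat.{u}).IsMittagLeffler

/-- the class -/
def Cls : ObjectProperty (ℕᵒᵖ ⥤ SheafOfModules.{u} R) := fun E => Acyc B E ∧ ML B E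

section ses

variable (S : ShortComplex (ℕᵒᵖ ⥤ SheafOfModules.{u} R)) (hS : S.ShortExact)

/-- the levelwise short complexes of abelian sheaves -/
noncomputable abbrev Sn (n : ℕ) : ShortComplex (CohTop.Ab X) :=
  (S.map ((evaluation ℕᵒᵖ (SheafOfModules.{u} R)).obj (op n))).map (SheafOfModules.toSheaf R)

include hS in
lemma hSn (n : ℕ) : (Sn S n).ShortExact := by
  have h1 : (S.map ((evaluation ℕᵒᵖ (SheafOfModules.{u} R)).obj (op n))).ShortExact :=
    hS.map_of_exact _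
  exact Groth.Agent.Lib.helper7.QCohExt.toSheaf_shortExact_general R _ h1

include hS in
lemma acyc_X₃ (h₁ : Acyc B S.X₁) (h₂ : Acyc B S.X₂) : Acyc B S.X₃ := by
  intro U hU n i hi
  have hSn := hSn S hS n
  refine subsingleton_of_forall_eq 0 (fun x => ?_)
  have h1 : Subsingleton (CohTop.HU (Sn S n).X₁ (i + 1) U) := h₁ U hU n (i + 1) (by omega)
  have h2 : Subsingleton (CohTop.HU (Sn S n).X₂ i U) := h₂ U hU n i hi
  obtain ⟨x₂, hx₂⟩ := Ext.covariant_sequence_exact₃ _ hSn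
    (x : Ext.{u} _ (Sn S n).X₃ i) rfl (h1.elim _ _)
  have e0 : x₂ = (0 : Ext.{u} _ (Sn S n).X₂ i) := @Subsingleton.elim _ h2 x₂ 0
  rw [← hx₂, e0, Ext.zero_comp]
  rfl

include hS in
lemma surj_g (h₁ : Acyc B S.X₁) (U : Opens X) (hU : U ∈ B) (n : ℕ) :
    Function.Surjective ((Sn S n).g.hom.app (op U)) :=
  CechLeray.surjective_of_ext_one (Opens.grothendieckTopology X) (Sn S n) (hSn S hS n) U
    (h₁ U hU n 1 le_rfl)

variable (U : Opens X)

/-- the map of towers of sections induced by `S.f` -/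
noncomputable abbrev uT : secTow S.X₁ U ⟶ secTow S.X₂ U :=
  Functor.whiskerRight S.f (SheafOfModules.toSheaf R ⋙
    (sheafSections (Opens.grothendieckTopology X) AddCommGrpCat.{u}).obj (op U))

/-- the map of towers of sections induced by `S.g` -/
noncomputable abbrev vT : secTow S.X₂ U ⟶ secTow S.X₃ U :=
  Functor.whiskerRight S.g (SheafOfModules.toSheaf R ⋙
    (sheafSections (Opens.grothendieckTopology X) AddCommGrpCat.{u}).obj (op U))

lemma vT_app (n : ℕ) (y : (Sn S n).X₂.obj.obj (op U)) :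
    ((vT S U).app (op n)).hom y = (Sn S n).g.hom.app (op U) y := rfl

lemma uT_app (n : ℕ) (y : (Sn S n).X₁.obj.obj (op U)) :
    ((uT S U).app (op n)).hom y = (Sn S n).f.hom.app (op U) y := rfl

include hS in
lemma hex (i : ℕᵒᵖ) : ((vT S U).app i).hom.ker = ((uT S U).app i).hom.range := by
  obtain ⟨n⟩ := i
  ext y
  rw [AddMonoidHom.mem_ker, AddMonoidHom.mem_range]
  constructor
  · intro hy
    exact FlasqueTower.exists_of_g_eq_zero (hSn S hS n) U y hy
  · rintro ⟨x, rfl⟩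
    have h0 := congrArg (fun ψ : (Sn S n).X₁ ⟶ (Sn S n).X₃ => ψ.hom.app (op U) x) (Sn S n).zero
    exact h0

include hS in
lemma ml_X₃ (h₁ : Acyc B S.X₁) (h₂ : ML B S.X₂) : ML B S.X₃ := by
  intro U hU
  refine MLNat.ml_of_surjective (vT S U) ?_ (h₂ U hU)
  rintro ⟨n⟩
  exact surj_g B S hS h₁ U hU n

end ses

section epi

variable {B} (hB : Opens.IsBasis B)
  (S : ShortComplex (ℕᵒᵖ ⥤ SheafOfModules.{u} R)) (hS : S.ShortExact)

include hB hS in
lemma epi_limMap (h₁ : Cls B S.X₁) : Epi (limMap S.g) := by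
  suffices h : Epi ((SheafOfModules.toSheaf R).map (limMap S.g)) from
    (SheafOfModules.toSheaf R).epi_of_epi_map h
  apply MilnorExtD.epi_of_basis hB
  intro U hU z
  let c : ∀ i : ℕᵒᵖ, (secTow S.X₃ U).obj i := fun i => πsec S.X₃ U i.unop z
  have hc : ∀ ⦃i j : ℕᵒᵖ⦄ (f : i ⟶ j), (secTow S.X₃ U).map f (c i) = c j := by
    intro i j f
    have hw := limit.w S.X₃ f
    have hw' := congrArg (fun ψ : limit S.X₃ ⟶ S.X₃.obj j =>
      ((SheafOfModules.toSheaf R).map ψ).hom.app (op U) z) hw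
    refine Eq.trans ?_ hw'
    show _ = ((SheafOfModules.toSheaf R).map (limit.π S.X₃ i ≫ S.X₃.map f)).hom.app (op U) z
    rw [Functor.map_comp]
    rfl
  obtain ⟨b, hb1, hb2⟩ := MLNat.exists_lift (uT S U) (vT S U) (hex S hS U) c hc (h₁.2 U hU)
    (fun i => by
      obtain ⟨n⟩ := i
      exact surj_g B S hS h₁.1 U hU n (c (op n)))
  obtain ⟨y, hy⟩ := exists_sec S.X₂ U (fun n => b (op n))
    (fun n => hb1 (homOfLE (Nat.le_succ n)).op)
  refine ⟨y, sec_ext S.X₃ U _ _ (fun n => ?_)⟩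
  have hπ : limMap S.g ≫ limit.π S.X₃ (op n) = limit.π S.X₂ (op n) ≫ S.g.app (op n) :=
    limMap_π _ _
  have h1 := congrArg (fun ψ : limit S.X₂ ⟶ S.X₃.obj (op n) =>
    ((SheafOfModules.toSheaf R).map ψ).hom.app (op U) y) hπ
  have h2 : πsec S.X₃ U n (((SheafOfModules.toSheaf R).map (limMap S.g)).hom.app (op U) y) =
      ((SheafOfModules.toSheaf R).map (limMap S.g ≫ limit.π S.X₃ (op n))).hom.app (op U) y := by
    rw [Functor.map_comp]
    rfl
  have h3 : ((SheafOfModules.toSheaf R).map (limit.π S.X₂ (op n) ≫ S.g.app (op n))).hom.app (op U) y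
      = (Sn S n).g.hom.app (op U) (πsec S.X₂ U n y) := by
    rw [Functor.map_comp]
    rfl
  rw [h2]
  refine h1.trans (h3.trans ?_)
  rw [hy n]
  exact hb2 (op n)

end epi

section main

variable {B} (hB : Opens.IsBasis B)
  [(lim : (ℕᵒᵖ ⥤ SheafOfModules.{u} R) ⥤ SheafOfModules.{u} R).Additive]

include hB in
lemma h2 (S : ShortComplex (ℕᵒᵖ ⥤ SheafOfModules.{u} R)) (hS : S.ShortExact)
    (h₁ : Cls B S.X₁) (h₂ : Cls B S.X₂) :
    Cls B S.X₃ ∧ (S.map (lim : (ℕᵒᵖ ⥤ SheafOfModules.{u} R) ⥤ SheafOfModules.{u} R)).ShortExact := by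
  refine ⟨⟨acyc_X₃ B S hS h₁.1 h₂.1, ml_X₃ B S hS h₁.1 h₂.2⟩, ?_⟩
  have hp : PreservesLimits (lim : (ℕᵒᵖ ⥤ SheafOfModules.{u} R) ⥤ SheafOfModules.{u} R) :=
    constLimAdj.rightAdjoint_preservesLimits
  have hpf : PreservesFiniteLimits
      (lim : (ℕᵒᵖ ⥤ SheafOfModules.{u} R) ⥤ SheafOfModules.{u} R) := inferInstance
  have key : ∀ (S : ShortComplex (ℕᵒᵖ ⥤ SheafOfModules.{u} R)), S.ShortExact →
      (S.map lim).Exact ∧ Mono ((lim : (ℕᵒᵖ ⥤ SheafOfModules.{u} R) ⥤ _).map S.f) :=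
    ((Functor.preservesFiniteLimits_tfae
      (lim : (ℕᵒᵖ ⥤ SheafOfModules.{u} R) ⥤ SheafOfModules.{u} R)).out 3 0).1 hpf
  obtain ⟨hex, hm⟩ := key S hS
  exact ShortComplex.ShortExact.mk' hex hm (epi_limMap hB S hS h₁)

lemma cls_J (E : ℕᵒᵖ ⥤ SheafOfModules.{u} R) : Cls B (J E) := by
  constructor
  · intro U hU n i hi
    obtain ⟨k, rfl⟩ : ∃ k, i = k + 1 := ⟨i - 1, by omega⟩
    have : Injective ((J E).obj (op n)) := injective_Jobj E n
    refine subsingleton_of_forall_eq 0 (fun x => ?_)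
    exact Groth.Agent.Lib.helper21.InjAcyc.ext_toSheaf_eq_zero R ((J E).obj (op n)) _
      (Groth.Agent.Lib.helper21.InjAcyc.tf_free (yoneda.obj U)) k x
  · intro U hU
    apply MLNat.ml_of_surjective_succ
    intro n z
    let G := SheafOfModules.toSheaf R ⋙
      (sheafSections (Opens.grothendieckTopology X) AddCommGrpCat.{u}).obj (op U)
    have hsplit : G.map (biprod.inl : Jobj E n ⟶ Jobj E n ⊞ Injective.under (E.obj (op (n + 1)))) ≫
        G.map (biprod.fst : Jobj E n ⊞ Injective.under (E.obj (op (n + 1))) ⟶ Jobj E n) = 𝟙 _ := by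
      rw [← G.map_comp, biprod.inl_fst, G.map_id]
    have hz := ConcreteCategory.congr_hom hsplit z
    refine ⟨(G.map (biprod.inl : Jobj E n ⟶ Jobj E n ⊞ Injective.under (E.obj (op (n + 1))))).hom z,
      ?_⟩
    show (G.map ((J E).map (homOfLE (Nat.le_succ n)).op)).hom _ = z
    rw [J_map_succ]
    exact hz

include hB in
theorem main [EnoughInjectives (ℕᵒᵖ ⥤ SheafOfModules.{u} R)]
    (E : ℕᵒᵖ ⥤ SheafOfModules.{u} R) (ha : Acyc B E) :
    (∀ i : ℕ, 2 ≤ i →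
      IsZero (((lim : (ℕᵒᵖ ⥤ SheafOfModules.{u} R) ⥤ SheafOfModules.{u} R).rightDerived i).obj E)) ∧
    (ML B E → ∀ i : ℕ, 1 ≤ i →
      IsZero (((lim : (ℕᵒᵖ ⥤ SheafOfModules.{u} R) ⥤ SheafOfModules.{u} R).rightDerived i).obj E)) := by
  have hvan : ∀ (i : ℕ) (E' : ℕᵒᵖ ⥤ SheafOfModules.{u} R), Cls B E' →
      IsZero (((lim : (ℕᵒᵖ ⥤ SheafOfModules.{u} R) ⥤ SheafOfModules.{u} R).rightDerived
        (i + 1)).obj E') :=
    Horseshoe.isZero_rightDerived_succ_of_class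
      (lim : (ℕᵒᵖ ⥤ SheafOfModules.{u} R) ⥤ SheafOfModules.{u} R) (Cls B)
      (fun E' => ⟨J E', jι E', cls_J (B := B) E', mono_jι E'⟩)
      (fun S hS h₁ h₂ => h2 hB S hS h₁ h₂)
  refine ⟨fun i hi => ?_, fun hml i hi => ?_⟩
  · obtain ⟨k, rfl⟩ : ∃ k, i = k + 1 + 1 := ⟨i - 2, by omega⟩
    let T := cokerSES (jι E)
    have hT : T.ShortExact := cokerSES_shortExact (jι E)
    have hJ : Cls B T.X₂ := cls_J (B := B) E
    have hQ : Cls B T.X₃ := ⟨acyc_X₃ B T hT ha hJ.1, ml_X₃ B T hT ha hJ.2⟩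
    have hex := (Horseshoe.derivedLES
      (lim : (ℕᵒᵖ ⥤ SheafOfModules.{u} R) ⥤ SheafOfModules.{u} R)).exact₁ T hT (k + 1) (k + 1 + 1) rfl
    exact hex.isZero_of_both_zeros ((hvan k _ hQ).eq_of_src _ _) ((hvan (k + 1) _ hJ).eq_of_tgt _ _)
  · obtain ⟨k, rfl⟩ : ∃ k, i = k + 1 := ⟨i - 1, by omega⟩
    exact hvan k E ⟨ha, hml⟩

end main

end RlimMod

end Groth.Agent.Lib.helper27
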