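import Groth.Agent.Lib.Helper27.StkElem1
import Groth.Prelude.Def_W4c2modmodulilectNerve
set_option autoImplicit false
set_option backward.isDefEq.respectTransparency false
set_option backward.isDefEq.respectTransparency.types false
set_option linter.unusedSectionVars false
set_option linter.style.haveILetI false
open CategoryTheory CategoryTheory.Functor CategoryTheory.Limits
universe w v₁ v₂ v₃ u₁ u₂ u₃

namespace Groth.Agent.Lib.helper27.SecDesc
open Groth.Agent.FibEquiv Groth.Agent.FibFiberwise Groth.Agent.FibFpProj Groth.Agent.FibYoneda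
open Groth.Agent.Lib.helper4 Groth.Agent.Lib.helper27.StkElem1
open W4c2modmodulilect

section conn
variable {J : Type u₁} [Category.{v₁} J]

theorem isPreconnected_of_contractible (h : HasContractibleNerve.{max w u₁, max w u₁} J) : IsPreconnected J := by
  apply IsPreconnected.of_constant_of_preserves_morphisms
  intro α F hF j j'
  let H : J ⥤ Discrete (ULift.{max w u₁} α) :=
    { obj := fun j => ⟨⟨F j⟩⟩
      map := fun {j₁ j₂} f => eqToHom (by rw [hF f]) }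
  haveI := h.2 (Discrete (ULift.{max w u₁} α))
  obtain ⟨a, ⟨e⟩⟩ : ∃ a, Nonempty ((Functor.const J).obj a ≅ H) :=
    ⟨_, ⟨(Functor.const J : Discrete (ULift.{max w u₁} α) ⥤ J ⥤ Discrete (ULift.{max w u₁} α)).objObjPreimageIso H⟩⟩
  have h1 : ∀ j, a = H.obj j := fun j => Discrete.ext (Discrete.eq_of_hom (e.hom.app j))
  have := (h1 j).symm.trans (h1 j')
  exact congrArg (fun x : Discrete (ULift.{max w u₁} α) => x.as.down) this

end conn

section fibre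
variable {D : Type u₂} [Category.{v₂} D] (𝒳 : BasedCategory.{v₃, u₃} D)

/-- the fibre groupoid over `Y`, with morphisms lifted to the universe `w` -/
structure FibObj (Y : D) : Type (max w u₃) where
  obj : 𝒳.obj
  h : 𝒳.p.obj obj = Y
  dummy : ULift.{w} Unit := ⟨()⟩

variable {𝒳}

instance (Y : D) : Category.{max w v₃} (FibObj.{w} 𝒳 Y) where
  Hom a b := ULift.{w} {f : a.obj ⟶ b.obj // 𝒳.p.IsHomLift (𝟙 Y) f}
  id a := ⟨⟨𝟙 a.obj, IsHomLift.id a.h⟩⟩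
  comp f g := ⟨⟨f.down.1 ≫ g.down.1, by
    haveI := f.down.2
    haveI := g.down.2
    exact isHomLift_comp' (𝟙 Y) (𝟙 Y) (𝟙 Y) (by simp) _ _ f.down.2 g.down.2⟩⟩
  id_comp f := by apply ULift.ext; apply Subtype.ext; exact Category.id_comp _
  comp_id f := by apply ULift.ext; apply Subtype.ext; exact Category.comp_id _
  assoc f g h := by apply ULift.ext; apply Subtype.ext; exact Category.assoc _ _ _

theorem fib_comp_val {Y : D} {a b c : FibObj.{w} 𝒳 Y} (f : a ⟶ b) (g : b ⟶ c) :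
    (f ≫ g).down.1 = f.down.1 ≫ g.down.1 := rfl

theorem fib_id_val {Y : D} (a : FibObj.{w} 𝒳 Y) : (𝟙 a : a ⟶ a).down.1 = 𝟙 a.obj := rfl

theorem fib_hom_ext {Y : D} {a b : FibObj.{w} 𝒳 Y} (f g : a ⟶ b) (h : f.down.1 = g.down.1) : f = g := by
  apply ULift.ext; apply Subtype.ext; exact h

theorem fib_isIso (h𝒳 : FibCat.IsFibGrpd 𝒳.p) {Y : D} {a b : FibObj.{w} 𝒳 Y} (f : a ⟶ b) : IsIso f.down.1 := by
  haveI : 𝒳.p.IsHomLift (𝟙 Y) f.down.1 := f.down.2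
  exact Descent.isIso_of_lift h𝒳 (𝟙 Y) f.down.1

@[reducible] noncomputable def fibGroupoid (h𝒳 : FibCat.IsFibGrpd 𝒳.p) (Y : D) :
    Groupoid.{max w v₃} (FibObj.{w} 𝒳 Y) where
  inv {a b} f :=
    haveI : IsIso f.down.1 := fib_isIso h𝒳 f
    ⟨⟨inv f.down.1, by
      haveI : 𝒳.p.IsHomLift (𝟙 Y) f.down.1 := f.down.2
      exact IsHomLift.lift_id_inv_isIso 𝒳.p Y f.down.1⟩⟩
  inv_comp {a b} f := by
    haveI : IsIso f.down.1 := fib_isIso h𝒳 f
    apply fib_hom_ext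
    change inv f.down.1 ≫ f.down.1 = 𝟙 _
    simp
  comp_inv {a b} f := by
    haveI : IsIso f.down.1 := fib_isIso h𝒳 f
    apply fib_hom_ext
    change f.down.1 ≫ inv f.down.1 = 𝟙 _
    simp

end fibre

section main
variable {C : Type u₁} [Category.{v₁} C] {D : Type u₂} [Category.{v₂} D] (φ : C ⥤ D)
  {𝒳 : BasedCategory.{v₃, u₃} D}

abbrev CB : BasedCategory.{v₁, u₁} D := BasedCategory.ofFunctor φ

variable (𝒳) in
abbrev Rφ := Stk.restr (FibCat.toSelf (CB φ)) 𝒳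

theorem sec_map_lift (τ : FibCat.selfOver D ⥤ᵇ 𝒳) {Y' Y : D} (k : Y' ⟶ Y) :
    𝒳.p.IsHomLift k (τ.toFunctor.map k) := by
  haveI : (FibCat.selfOver D).p.IsHomLift k k := IsHomLift.of_fac' _ _ _ rfl rfl (by simp; rfl)
  infer_instance

variable {φ}

theorem csec_map_lift (σ : CB φ ⥤ᵇ 𝒳) {X X' : C} (m : X ⟶ X') :
    𝒳.p.IsHomLift (φ.map m) (σ.toFunctor.map m) := by
  haveI : (CB φ).p.IsHomLift (φ.map m) m := IsHomLift.of_fac' _ _ _ rfl rfl (by simp; rfl)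
  infer_instance

theorem faithful (h𝒳 : FibCat.IsFibGrpd 𝒳.p) (hne : ∀ Y : D, Nonempty (StructuredArrow Y φ)) :
    (Rφ φ 𝒳).Faithful := by
  refine ⟨fun {τ₁ τ₂} α β h => ?_⟩
  apply BasedNatTrans.homCategory.ext
  ext Y
  obtain ⟨s⟩ := hne Y
  have hX : α.toNatTrans.app (φ.obj s.right) = β.toNatTrans.app (φ.obj s.right) :=
    congrArg (fun t => t.toNatTrans.app s.right) h
  have n1 := α.toNatTrans.naturality s.hom
  have n2 := β.toNatTrans.naturality s.hom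
  apply cancel h𝒳 (τ₂.toFunctor.map s.hom) (𝟙 Y) _ _ (α.isHomLift' Y) (β.isHomLift' Y)
  rw [← n1, ← n2, hX]

theorem full (h𝒳 : FibCat.IsFibGrpd 𝒳.p) (hne : ∀ Y : D, Nonempty (StructuredArrow Y φ))
    (hc : ∀ Y : D, IsPreconnected (StructuredArrow Y φ)) : (Rφ φ 𝒳).Full := by
  refine ⟨fun {τ₁ τ₂} γ => ?_⟩
  have hγn : ∀ {X X' : C} (m : X ⟶ X'), τ₁.toFunctor.map (φ.map m) ≫ γ.toNatTrans.app X' =
      γ.toNatTrans.app X ≫ τ₂.toFunctor.map (φ.map m) := fun m => γ.toNatTrans.naturality m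
  have hγl : ∀ X : C, 𝒳.p.IsHomLift (𝟙 (φ.obj X)) (γ.toNatTrans.app X) := fun X => γ.isHomLift' X
  have hex : ∀ Y : D, ∃ θ : τ₁.toFunctor.obj Y ⟶ τ₂.toFunctor.obj Y, 𝒳.p.IsHomLift (𝟙 Y) θ ∧
      ∀ s : StructuredArrow Y φ,
        θ ≫ τ₂.toFunctor.map s.hom = τ₁.toFunctor.map s.hom ≫ γ.toNatTrans.app s.right := by
    intro Y
    obtain ⟨s₀⟩ := hne Y
    have hl : 𝒳.p.IsHomLift s₀.hom (τ₁.toFunctor.map s₀.hom ≫ γ.toNatTrans.app s₀.right) :=
      isHomLift_comp' s₀.hom (𝟙 _) _ (by simp) _ _ (sec_map_lift τ₁ s₀.hom) (hγl s₀.right)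
    refine ⟨lift h𝒳 s₀.hom (τ₂.toFunctor.map s₀.hom) (sec_map_lift τ₂ _) (𝟙 Y) s₀.hom (by simp) _ hl,
      lift_isHomLift h𝒳 _ _ _ _ _ _ _ _, ?_⟩
    haveI := hc Y
    intro s
    refine induct_on_objects {s : StructuredArrow Y φ |
      lift h𝒳 s₀.hom (τ₂.toFunctor.map s₀.hom) (sec_map_lift τ₂ _) (𝟙 Y) s₀.hom (by simp) _ hl ≫
        τ₂.toFunctor.map s.hom = τ₁.toFunctor.map s.hom ≫ γ.toNatTrans.app s.right}
      (j₀ := s₀) (lift_comp h𝒳 _ _ _ _ _ _ _ _) ?_ s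
    intro s₁ s₂ h
    have hw : s₁.hom ≫ φ.map h.right = s₂.hom := StructuredArrow.w h
    constructor
    · intro e
      change _ = _ at e
      change _ = _
      rw [← hw, τ₂.toFunctor.map_comp, ← Category.assoc, e, Category.assoc, ← hγn, τ₁.toFunctor.map_comp,
        Category.assoc]
    · intro e
      change _ = _ at e
      change _ = _
      refine cancel h𝒳 (τ₂.toFunctor.map (φ.map h.right)) s₁.hom _ _ ?_ ?_ ?_
      · exact isHomLift_comp' (𝟙 _) s₁.hom _ (by simp) _ _ (lift_isHomLift h𝒳 _ _ _ _ _ _ _ _)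
          (sec_map_lift τ₂ s₁.hom)
      · exact isHomLift_comp' s₁.hom (𝟙 _) _ (by simp) _ _ (sec_map_lift τ₁ s₁.hom) (hγl s₁.right)
      · rw [Category.assoc, ← τ₂.toFunctor.map_comp, hw, e, Category.assoc, ← hγn, ← Category.assoc,
          ← τ₁.toFunctor.map_comp, hw]
  choose θ hθ1 hθ2 using hex
  have hnat : ∀ {Y' Y : D} (k : Y' ⟶ Y), τ₁.toFunctor.map k ≫ θ Y = θ Y' ≫ τ₂.toFunctor.map k := by
    intro Y' Y k
    obtain ⟨s⟩ := hne Y
    apply cancel h𝒳 (τ₂.toFunctor.map s.hom) k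
    · exact isHomLift_comp' k (𝟙 _) _ (by simp) _ _ (sec_map_lift τ₁ k) (hθ1 Y)
    · exact isHomLift_comp' (𝟙 _) k _ (by simp) _ _ (hθ1 Y') (sec_map_lift τ₂ k)
    · have e1 := hθ2 Y s
      have e2 := hθ2 Y' (StructuredArrow.mk (k ≫ s.hom))
      change θ Y' ≫ τ₂.toFunctor.map (k ≫ s.hom) = τ₁.toFunctor.map (k ≫ s.hom) ≫ γ.toNatTrans.app s.right at e2
      rw [Category.assoc, e1, Category.assoc, ← τ₂.toFunctor.map_comp, e2, τ₁.toFunctor.map_comp, Category.assoc]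
  let α : τ₁ ⟶ τ₂ :=
    { toNatTrans := { app := θ, naturality := fun a b j => hnat j }
      isHomLift' := fun a => hθ1 a }
  refine ⟨α, ?_⟩
  apply BasedNatTrans.homCategory.ext
  ext X
  change θ (φ.obj X) = γ.toNatTrans.app X
  have := hθ2 (φ.obj X) (StructuredArrow.mk (𝟙 (φ.obj X)))
  change θ (φ.obj X) ≫ τ₂.toFunctor.map (𝟙 _) = τ₁.toFunctor.map (𝟙 _) ≫ γ.toNatTrans.app X at this
  simpa using this

/-- the limit object over `Y` of a section over the diagram, with its cone of lifts -/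
theorem exists_cone (h𝒳 : FibCat.IsFibGrpd 𝒳.p) (σ : CB φ ⥤ᵇ 𝒳) (Y : D)
    (hY : ∀ (G : Type (max w u₃)) [Groupoid.{max w v₃} G],
      (Functor.const (StructuredArrow Y φ) : G ⥤ StructuredArrow Y φ ⥤ G).EssSurj) :
    ∃ (t : 𝒳.obj) (_ : 𝒳.p.obj t = Y) (e : ∀ s : StructuredArrow Y φ, t ⟶ σ.toFunctor.obj s.right),
      (∀ s, 𝒳.p.IsHomLift s.hom (e s)) ∧
      ∀ ⦃s s' : StructuredArrow Y φ⦄ (h : s ⟶ s'), e s ≫ σ.toFunctor.map h.right = e s' := by
  choose a c hc using fun s : StructuredArrow Y φ =>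
    exists_lift_of_eq 𝒳.p h𝒳 (σ.w_obj s.right) s.hom
  have ha : ∀ s, 𝒳.p.obj (a s) = Y := fun s => IsHomLift.domain_eq 𝒳.p s.hom (c s)
  have hcm : ∀ ⦃s s' : StructuredArrow Y φ⦄ (h : s ⟶ s'), 𝒳.p.IsHomLift s'.hom (c s ≫ σ.toFunctor.map h.right) :=
    fun s s' h => isHomLift_comp' s.hom (φ.map h.right) _ (StructuredArrow.w h) _ _ (hc s) (csec_map_lift σ h.right)
  letI := fibGroupoid.{w} h𝒳 Y
  let H : StructuredArrow Y φ ⥤ FibObj.{w} 𝒳 Y :=
    { obj := fun s => ⟨a s, ha s, ⟨()⟩⟩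
      map := fun {s s'} h => ⟨⟨lift h𝒳 s'.hom (c s') (hc s') (𝟙 Y) s'.hom (by simp) _ (hcm h),
        lift_isHomLift h𝒳 _ _ _ _ _ _ _ _⟩⟩
      map_id := fun s => by
        apply fib_hom_ext
        change lift h𝒳 s.hom (c s) (hc s) (𝟙 Y) s.hom (by simp) _ (hcm (𝟙 s)) = 𝟙 (a s)
        refine cancel h𝒳 (c s) (𝟙 Y) _ _ (lift_isHomLift h𝒳 _ _ _ _ _ _ _ _) (IsHomLift.id (ha s)) ?_
        rw [lift_comp]
        have : (𝟙 s : s ⟶ s).right = 𝟙 s.right := rfl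
        rw [this]; simp
      map_comp := fun {s₁ s₂ s₃} h h' => by
        apply fib_hom_ext
        have l1 := lift_isHomLift h𝒳 s₂.hom (c s₂) (hc s₂) (𝟙 Y) s₂.hom (by simp) _ (hcm h)
        have l2 := lift_isHomLift h𝒳 s₃.hom (c s₃) (hc s₃) (𝟙 Y) s₃.hom (by simp) _ (hcm h')
        change lift h𝒳 s₃.hom (c s₃) (hc s₃) (𝟙 Y) s₃.hom (by simp) _ (hcm (h ≫ h')) =
          lift h𝒳 s₂.hom (c s₂) (hc s₂) (𝟙 Y) s₂.hom (by simp) _ (hcm h) ≫
          lift h𝒳 s₃.hom (c s₃) (hc s₃) (𝟙 Y) s₃.hom (by simp) _ (hcm h')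
        refine cancel h𝒳 (c s₃) (𝟙 Y) _ _ (lift_isHomLift h𝒳 _ _ _ _ _ _ _ _)
          (isHomLift_comp' (𝟙 Y) (𝟙 Y) (𝟙 Y) (by simp) _ _ l1 l2) ?_
        have : (h ≫ h').right = h.right ≫ h'.right := rfl
        rw [lift_comp, this, Category.assoc, lift_comp, ← Category.assoc, lift_comp, Category.assoc,
          σ.toFunctor.map_comp] }
  haveI := hY (FibObj.{w} 𝒳 Y)
  let t := (Functor.const (StructuredArrow Y φ) : FibObj.{w} 𝒳 Y ⥤ _).objPreimage H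
  let θ : (Functor.const (StructuredArrow Y φ)).obj t ≅ H :=
    (Functor.const (StructuredArrow Y φ) : FibObj.{w} 𝒳 Y ⥤ _).objObjPreimageIso H
  refine ⟨t.obj, t.h, fun s => (θ.hom.app s).down.1 ≫ c s, ?_, ?_⟩
  · intro s
    exact isHomLift_comp' (𝟙 Y) s.hom _ (by simp) _ _ (θ.hom.app s).down.2 (hc s)
  · intro s s' h
    have n := θ.hom.naturality h
    have n' : (θ.hom.app s).down.1 ≫ lift h𝒳 s'.hom (c s') (hc s') (𝟙 Y) s'.hom (by simp) _ (hcm h) =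
        (θ.hom.app s').down.1 := by
      have n2 : θ.hom.app s ≫ H.map h = θ.hom.app s' := by
        rw [← n]; simp
      have := congrArg (fun m => m.down.1) n2
      exact this
    rw [Category.assoc, ← lift_comp h𝒳 s'.hom (c s') (hc s') (𝟙 Y) s'.hom (by simp) _ (hcm h), ← Category.assoc, n']

theorem essSurj (h𝒳 : FibCat.IsFibGrpd 𝒳.p) (hne : ∀ Y : D, Nonempty (StructuredArrow Y φ))
    (hc : ∀ Y : D, IsPreconnected (StructuredArrow Y φ))
    (hY : ∀ (Y : D) (G : Type (max w u₃)) [Groupoid.{max w v₃} G],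
      (Functor.const (StructuredArrow Y φ) : G ⥤ StructuredArrow Y φ ⥤ G).EssSurj) :
    (Rφ φ 𝒳).EssSurj := by
  refine ⟨fun σ => ?_⟩
  choose t ht e he hen using fun Y => exists_cone.{w} h𝒳 σ Y (hY Y)
  have e_congr : ∀ {Y : D} {X : C} (f f' : Y ⟶ φ.obj X), f = f' →
      e Y (StructuredArrow.mk f) = e Y (StructuredArrow.mk f') := by
    intro Y X f f' h; subst h; rfl
  have hne' : ∀ Y : D, ∃ s : StructuredArrow Y φ, True := fun Y => ⟨(hne Y).some, trivial⟩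
  choose s₀ _hs₀ using hne'
  -- transition maps
  have hlk : ∀ {Y' Y : D} (k : Y' ⟶ Y) (s : StructuredArrow Y φ),
      𝒳.p.IsHomLift (k ≫ s.hom) (e Y' (StructuredArrow.mk (k ≫ s.hom))) := fun {Y' Y} k s =>
    he Y' (StructuredArrow.mk (k ≫ s.hom))
  let tm : ∀ {Y' Y : D} (k : Y' ⟶ Y), t Y' ⟶ t Y := fun {Y' Y} k =>
    lift h𝒳 (s₀ Y).hom (e Y (s₀ Y)) (he Y (s₀ Y)) k (k ≫ (s₀ Y).hom) rfl _ (hlk k (s₀ Y))
  have htm : ∀ {Y' Y : D} (k : Y' ⟶ Y), 𝒳.p.IsHomLift k (tm k) := fun k =>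
    lift_isHomLift h𝒳 _ _ _ _ _ _ _ _
  have htmc : ∀ {Y' Y : D} (k : Y' ⟶ Y) (s : StructuredArrow Y φ),
      tm k ≫ e Y s = e Y' (StructuredArrow.mk (k ≫ s.hom)) := by
    intro Y' Y k s
    haveI := hc Y
    refine induct_on_objects {s : StructuredArrow Y φ | tm k ≫ e Y s = e Y' (StructuredArrow.mk (k ≫ s.hom))}
      (j₀ := s₀ Y) (lift_comp h𝒳 _ _ _ _ _ _ _ _) ?_ s
    intro s₁ s₂ h
    have hw : s₁.hom ≫ φ.map h.right = s₂.hom := StructuredArrow.w h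
    let h' : (StructuredArrow.mk (k ≫ s₁.hom) : StructuredArrow Y' φ) ⟶ StructuredArrow.mk (k ≫ s₂.hom) :=
      StructuredArrow.homMk h.right (by simp [hw])
    have e1 : e Y' (StructuredArrow.mk (k ≫ s₁.hom)) ≫ σ.toFunctor.map h.right =
        e Y' (StructuredArrow.mk (k ≫ s₂.hom)) := hen Y' h'
    constructor
    · intro hh
      change _ = _ at hh
      change _ = _
      rw [← hen Y h, ← Category.assoc, hh, e1]
    · intro hh
      change _ = _ at hh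
      change _ = _
      refine cancel h𝒳 (σ.toFunctor.map h.right) (k ≫ s₁.hom) _ _ ?_ (hlk k s₁) ?_
      · exact isHomLift_comp' k s₁.hom _ rfl _ _ (htm k) (he Y s₁)
      · rw [Category.assoc, hen Y h, hh, e1]
  let τfun : D ⥤ 𝒳.obj :=
    { obj := t
      map := fun {Y' Y} k => tm k
      map_id := fun Y => by
        refine cancel h𝒳 (e Y (s₀ Y)) (𝟙 Y) _ _ (htm _) (IsHomLift.id (ht Y)) ?_
        refine (htmc (𝟙 Y) (s₀ Y)).trans ?_
        refine (e_congr _ _ (Category.id_comp _)).trans ?_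
        exact (Category.id_comp (e Y (s₀ Y))).symm
      map_comp := fun {Y'' Y' Y} k' k => by
        refine cancel h𝒳 (e Y (s₀ Y)) (k' ≫ k) _ _ (htm _)
          (isHomLift_comp' k' k _ rfl _ _ (htm k') (htm k)) ?_
        have r1 : (tm k' ≫ tm k) ≫ e Y (s₀ Y) = e Y'' (StructuredArrow.mk (k' ≫ k ≫ (s₀ Y).hom)) := by
          rw [Category.assoc, htmc k (s₀ Y)]
          exact htmc k' _
        refine (htmc (k' ≫ k) (s₀ Y)).trans ?_
        rw [r1]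
        exact e_congr _ _ (Category.assoc _ _ _) }
  let τ : FibCat.selfOver D ⥤ᵇ 𝒳 :=
    { toFunctor := τfun
      w := by
        refine CategoryTheory.Functor.ext (fun Y => ht Y) ?_
        intro Y' Y k
        haveI := htm k
        exact IsHomLift.fac' 𝒳.p k (tm k) }
  -- the comparison isomorphism
  let κ : ∀ X : C, t (φ.obj X) ⟶ σ.toFunctor.obj X := fun X => e (φ.obj X) (StructuredArrow.mk (𝟙 (φ.obj X)))
  have hκl : ∀ X, 𝒳.p.IsHomLift (𝟙 (φ.obj X)) (κ X) := fun X =>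
    he (φ.obj X) (StructuredArrow.mk (𝟙 (φ.obj X)))
  have hκiso : ∀ X, IsIso (κ X) := fun X => by
    haveI := hκl X
    exact Descent.isIso_of_lift h𝒳 (𝟙 (φ.obj X)) (κ X)
  have hnat : ∀ {X X' : C} (m : X ⟶ X'), tm (φ.map m) ≫ κ X' = κ X ≫ σ.toFunctor.map m := by
    intro X X' m
    have e1 := htmc (φ.map m) (StructuredArrow.mk (𝟙 (φ.obj X')))
    let h' : (StructuredArrow.mk (𝟙 (φ.obj X)) : StructuredArrow (φ.obj X) φ) ⟶ StructuredArrow.mk (φ.map m) :=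
      StructuredArrow.homMk m (by simp)
    have e2 : κ X ≫ σ.toFunctor.map m = e (φ.obj X) (StructuredArrow.mk (φ.map m)) := hen (φ.obj X) h'
    rw [e2]
    change tm (φ.map m) ≫ e (φ.obj X') (StructuredArrow.mk (𝟙 (φ.obj X'))) = _
    rw [e1]
    exact e_congr _ _ (Category.comp_id _)
  let E0 : ((Rφ φ 𝒳).obj τ).toFunctor ≅ σ.toFunctor :=
    NatIso.ofComponents (fun X => @asIso _ _ _ _ (κ X) (hκiso X)) (fun {X X'} m => hnat m)
  let E : (Rφ φ 𝒳).obj τ ≅ σ := BasedNatIso.mkNatIso E0 (fun X => hκl X)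
  exact ⟨τ, ⟨E⟩⟩

theorem main (φ : C ⥤ D) (𝒳 : BasedCategory.{v₃, u₃} D) (h𝒳 : FibCat.IsFibGrpd 𝒳.p)
    (hφ : ∀ Y : D, HasContractibleNerve.{max u₁ u₂ u₃ v₁ v₂ v₃, max u₁ u₂ u₃ v₁ v₂ v₃} (StructuredArrow Y φ)) :
    (Rφ φ 𝒳).IsEquivalence := by
  have hne : ∀ Y : D, Nonempty (StructuredArrow Y φ) := fun Y => (hφ Y).1
  have hc : ∀ Y : D, IsPreconnected (StructuredArrow Y φ) := fun Y =>
    isPreconnected_of_contractible.{max u₁ u₂ u₃ v₁ v₂ v₃} (hφ Y)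
  haveI := faithful h𝒳 hne
  haveI := full h𝒳 hne hc
  haveI := essSurj.{max u₁ u₂ u₃ v₁ v₂ v₃} h𝒳 hne hc (fun Y G _ => by
    haveI := (hφ Y).2 G
    infer_instance)
  exact {}

end main

end Groth.Agent.Lib.helper27.SecDesc
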