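import Groth.Agent.Lib.Helper27.SecDesc
set_option autoImplicit false
set_option backward.isDefEq.respectTransparency false
set_option backward.isDefEq.respectTransparency.types false
set_option linter.unusedSectionVars false
set_option linter.style.haveILetI false
open CategoryTheory CategoryTheory.Functor CategoryTheory.Limits
universe w₁ w₂ v₁ v₂ v₃ u₁ u₂ u₃

namespace Groth.Agent.Lib.helper27.SecDesc2
open W4c2modmodulilect

section retract
variable {A : Type u₁} [Category.{v₁} A] {B : Type u₂} [Category.{v₂} B]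

theorem contractible_of_retract (ι : A ⥤ B) (r : B ⥤ A) (ε : r ⋙ ι ⟶ 𝟭 B)
    (h : HasContractibleNerve.{w₁, w₂} A) : HasContractibleNerve.{w₁, w₂} B := by
  obtain ⟨⟨a₀⟩, hA⟩ := h
  refine ⟨⟨ι.obj a₀⟩, fun G _ => ?_⟩
  haveI := hA G
  haveI : (Functor.const B : G ⥤ B ⥤ G).Faithful := ⟨fun {a b} α β h => by
    have := congrArg (fun t => t.app (ι.obj a₀)) h
    exact this⟩
  haveI : (Functor.const B : G ⥤ B ⥤ G).Full := ⟨fun {a b} γ => by
    let γ' : (Functor.const A : G ⥤ A ⥤ G).obj a ⟶ (Functor.const A : G ⥤ A ⥤ G).obj b :=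
      { app := fun x => γ.app (ι.obj x)
        naturality := fun x y m => γ.naturality (ι.map m) }
    obtain ⟨α, hα⟩ := (Functor.const A : G ⥤ A ⥤ G).map_surjective γ'
    refine ⟨α, ?_⟩
    ext y
    have h1 : α = γ.app (ι.obj (r.obj y)) := congrArg (fun t => t.app (r.obj y)) hα
    have n := γ.naturality (ε.app y)
    change 𝟙 a ≫ γ.app y = γ.app (ι.obj (r.obj y)) ≫ 𝟙 b at n
    have n' : (γ.app y : a ⟶ b) = γ.app (ι.obj (r.obj y)) :=
      (Category.id_comp (γ.app y : a ⟶ b)).symm.trans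
        (n.trans (Category.comp_id (γ.app (ι.obj (r.obj y)) : a ⟶ b)))
    change α = γ.app y
    rw [h1]; exact n'.symm⟩
  haveI : (Functor.const B : G ⥤ B ⥤ G).EssSurj := ⟨fun H => by
    let a := (Functor.const A : G ⥤ A ⥤ G).objPreimage (ι ⋙ H)
    let θ : (Functor.const A : G ⥤ A ⥤ G).obj a ≅ ι ⋙ H :=
      (Functor.const A : G ⥤ A ⥤ G).objObjPreimageIso (ι ⋙ H)
    refine ⟨a, ⟨?_⟩⟩
    refine NatIso.ofComponents (fun y => θ.app (r.obj y) ≪≫ asIso (H.map (ε.app y))) ?_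
    intro y y' m
    have n1 := θ.hom.naturality (r.map m)
    change 𝟙 a ≫ θ.hom.app (r.obj y') = θ.hom.app (r.obj y) ≫ H.map (ι.map (r.map m)) at n1
    have n2 := ε.naturality m
    change ι.map (r.map m) ≫ ε.app y' = ε.app y ≫ m at n2
    change 𝟙 a ≫ (θ.hom.app (r.obj y') ≫ H.map (ε.app y')) = (θ.hom.app (r.obj y) ≫ H.map (ε.app y)) ≫ H.map m
    rw [← Category.assoc, n1, Category.assoc, Category.assoc, ← H.map_comp, ← H.map_comp, n2]⟩
  exact {}

end retract

section fib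
variable {C : Type u₁} [Category.{v₁} C] {D : Type u₂} [Category.{v₂} D] (f : C ⥤ D) (Y : D)

def ι : f.Fiber Y ⥤ StructuredArrow Y f where
  obj a := StructuredArrow.mk (Y := a.1) (eqToHom a.2.symm)
  map {a b} m := StructuredArrow.homMk m.1 (by
    haveI := m.2
    have := IsHomLift.fac' f (𝟙 Y) m.1
    simp [this])
  map_id a := by ext; rfl
  map_comp m m' := by ext; rfl

variable [f.IsPreFibered]

noncomputable def rObj (s : StructuredArrow Y f) : f.Fiber Y :=
  ⟨IsPreFibered.pullbackObj (p := f) (rfl : f.obj s.right = f.obj s.right) s.hom,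
    IsPreFibered.pullbackObj_proj _ _⟩

noncomputable def rπ (s : StructuredArrow Y f) : (rObj f Y s).1 ⟶ s.right :=
  IsPreFibered.pullbackMap (p := f) rfl s.hom

instance (s : StructuredArrow Y f) : f.IsCartesian s.hom (rπ f Y s) := by
  unfold rπ; infer_instance

theorem lift_aux {s s' : StructuredArrow Y f} (h : s ⟶ s') :
    f.IsHomLift s'.hom (rπ f Y s ≫ h.right) := by
  have : f.IsHomLift (s.hom ≫ f.map h.right) (rπ f Y s ≫ h.right) := inferInstance
  rwa [StructuredArrow.w h] at this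

noncomputable def rMap {s s' : StructuredArrow Y f} (h : s ⟶ s') : (rObj f Y s).1 ⟶ (rObj f Y s').1 :=
  @IsCartesian.map _ _ _ _ f _ _ _ _ s'.hom (rπ f Y s') _ _ (rπ f Y s ≫ h.right) (lift_aux f Y h)

theorem rMap_lift {s s' : StructuredArrow Y f} (h : s ⟶ s') : f.IsHomLift (𝟙 Y) (rMap f Y h) :=
  @IsCartesian.map_isHomLift _ _ _ _ f _ _ _ _ s'.hom (rπ f Y s') _ _ (rπ f Y s ≫ h.right) (lift_aux f Y h)

theorem rMap_fac {s s' : StructuredArrow Y f} (h : s ⟶ s') : rMap f Y h ≫ rπ f Y s' = rπ f Y s ≫ h.right :=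
  @IsCartesian.fac _ _ _ _ f _ _ _ _ s'.hom (rπ f Y s') _ _ (rπ f Y s ≫ h.right) (lift_aux f Y h)

theorem rMap_uniq {s s' : StructuredArrow Y f} (h : s ⟶ s') (ψ : (rObj f Y s).1 ⟶ (rObj f Y s').1)
    (hψ : f.IsHomLift (𝟙 Y) ψ) (e : ψ ≫ rπ f Y s' = rπ f Y s ≫ h.right) : ψ = rMap f Y h :=
  @IsCartesian.map_uniq _ _ _ _ f _ _ _ _ s'.hom (rπ f Y s') _ _ (rπ f Y s ≫ h.right) (lift_aux f Y h) ψ hψ e

noncomputable def r : StructuredArrow Y f ⥤ f.Fiber Y where
  obj := rObj f Y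
  map {s s'} h := ⟨rMap f Y h, rMap_lift f Y h⟩
  map_id s := by
    apply Fiber.hom_ext
    change rMap f Y (𝟙 s) = 𝟙 _
    symm
    apply rMap_uniq f Y (𝟙 s) _ (IsHomLift.id (rObj f Y s).2)
    have : (𝟙 s : s ⟶ s).right = 𝟙 s.right := rfl
    rw [this]; simp
  map_comp {s s' s''} h h' := by
    apply Fiber.hom_ext
    change rMap f Y (h ≫ h') = rMap f Y h ≫ rMap f Y h'
    symm
    haveI := rMap_lift f Y h
    haveI := rMap_lift f Y h'
    apply rMap_uniq f Y (h ≫ h') _ (by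
      have : f.IsHomLift (𝟙 Y ≫ 𝟙 Y) (rMap f Y h ≫ rMap f Y h') := inferInstance
      rwa [Category.comp_id] at this)
    have : (h ≫ h').right = h.right ≫ h'.right := rfl
    rw [Category.assoc, rMap_fac, ← Category.assoc, rMap_fac, Category.assoc, this]

noncomputable def ε : r f Y ⋙ ι f Y ⟶ 𝟭 (StructuredArrow Y f) where
  app s := StructuredArrow.homMk (rπ f Y s) (by
    have := IsHomLift.fac' f s.hom (rπ f Y s)
    change eqToHom (rObj f Y s).2.symm ≫ f.map (rπ f Y s) = s.hom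
    rw [this]; simp)
  naturality s s' h := by
    ext
    exact rMap_fac f Y h

end fib

section main
variable {C : Type u₁} [Category.{v₁} C] {D : Type u₂} [Category.{v₂} D]

theorem main (f : C ⥤ D) [f.IsPreFibered] (𝒳 : BasedCategory.{v₃, u₃} D) (h𝒳 : FibCat.IsFibGrpd 𝒳.p)
    (hf : ∀ Y : D, HasContractibleNerve.{max u₁ u₂ u₃ v₁ v₂ v₃, max u₁ u₂ u₃ v₁ v₂ v₃} (f.Fiber Y)) :
    (Groth.Agent.Lib.helper27.SecDesc.Rφ f 𝒳).IsEquivalence :=
  Groth.Agent.Lib.helper27.SecDesc.main f 𝒳 h𝒳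
    (fun Y => contractible_of_retract (ι f Y) (r f Y) (ε f Y) (hf Y))

end main

end Groth.Agent.Lib.helper27.SecDesc2
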