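import Mathlib.FieldTheory.IsAlgClosed.Basic
import Mathlib.Algebra.CharP.Basic
import Mathlib.LinearAlgebra.FiniteDimensional.Defs
import Mathlib.LinearAlgebra.FiniteDimensional.Lemmas
import Mathlib.LinearAlgebra.Dimension.StrongRankCondition
import Mathlib.FieldTheory.Finite.Basic
set_option autoImplicit false
universe u
open Polynomial

namespace Groth.Agent.Lib.helper27

theorem finite_ker_frobenius_sub_id {k V : Type u} [Field k] (p : ℕ) [Fact p.Prime]
    [AddCommGroup V] [Module k V] [FiniteDimensional k V] (F : V →+ V)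
    (hF : ∀ (c : k) (v : V), F (c • v) = c ^ p • F v) :
    Set.Finite {v : V | F v = v} ∧ Nat.card {v : V | F v = v} ≤ p ^ Module.finrank k V := by
  classical
  have hp1 : 1 < p := (Fact.out : p.Prime).one_lt
  set S : Set V := {v : V | F v = v} with hS
  obtain ⟨r, hrn, f, hfS, hspan, hLI⟩ : ∃ r : ℕ, r ≤ Module.finrank k V ∧ ∃ f : Fin r → V, (∀ i, f i ∈ S) ∧
      Submodule.span k (Set.range f) = Submodule.span k S ∧ LinearIndependent k f :=
    ⟨_, Submodule.finrank_le _, Submodule.exists_fun_fin_finrank_span_eq k S⟩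
  have hne : (X ^ p - X : k[X]) ≠ 0 := FiniteField.X_pow_card_sub_X_ne_zero k hp1
  set R : Finset k := (X ^ p - X : k[X]).roots.toFinset with hR
  have hRcard : R.card ≤ p := by
    calc R.card ≤ Multiset.card (X ^ p - X : k[X]).roots := Multiset.toFinset_card_le _
      _ ≤ (X ^ p - X : k[X]).natDegree := Polynomial.card_roots' _
      _ = p := FiniteField.X_pow_card_sub_X_natDegree_eq k hp1
  have hRmem : ∀ a : k, a ^ p = a → a ∈ R := by
    intro a ha
    rw [hR, Multiset.mem_toFinset, Polynomial.mem_roots hne]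
    simp [ha]
  set T : Finset (Fin r → k) := Fintype.piFinset (fun _ => R) with hT
  set Φ : (Fin r → k) → V := fun x => ∑ i, x i • f i with hΦ
  have hsub : S ⊆ ↑(T.image Φ) := by
    intro v hv
    have hv' : v ∈ Submodule.span k (Set.range f) := by
      rw [hspan]; exact Submodule.subset_span hv
    obtain ⟨x, hx⟩ := (Submodule.mem_span_range_iff_exists_fun k).mp hv'
    have hFv : F v = ∑ i, (x i)^p • f i := by
      rw [← hx, map_sum]
      apply Finset.sum_congr rfl
      intro i _
      rw [hF, hfS i]
    have hz : ∑ i, ((x i)^p - x i) • f i = 0 := by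
      simp only [sub_smul, Finset.sum_sub_distrib]
      rw [← hFv, hx, hv, sub_self]
    have hx0 := Fintype.linearIndependent_iff.mp hLI _ hz
    rw [Finset.mem_coe, Finset.mem_image]
    refine ⟨x, ?_, hx⟩
    rw [hT, Fintype.mem_piFinset]
    intro i
    exact hRmem _ (sub_eq_zero.mp (hx0 i))
  have hfin : S.Finite := (Finset.finite_toSet _).subset hsub
  refine ⟨hfin, ?_⟩
  calc Nat.card S = hfin.toFinset.card := Nat.card_eq_card_finite_toFinset hfin
    _ ≤ (T.image Φ).card := Finset.card_le_card (by
        intro v hv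
        exact hsub (hfin.mem_toFinset.mp hv))
    _ ≤ T.card := Finset.card_image_le
    _ = R.card ^ r := by rw [hT, Fintype.card_piFinset]; simp
    _ ≤ p ^ r := Nat.pow_le_pow_left hRcard r
    _ ≤ p ^ Module.finrank k V := Nat.pow_le_pow_right (by omega) hrn

end Groth.Agent.Lib.helper27
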