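import Mathlib.FieldTheory.IsAlgClosed.Basic
import Mathlib.Algebra.CharP.Basic
import Mathlib.LinearAlgebra.FiniteDimensional.Defs
import Mathlib.LinearAlgebra.FiniteDimensional.Lemmas
import Mathlib.Algebra.Polynomial.Derivative
import Mathlib.RingTheory.Noetherian.Basic
import Mathlib.Order.OrderIsoNat
set_option autoImplicit false
universe u
open Polynomial

namespace Groth.Agent.Lib.helper27

/-- auxiliary polynomials -/
noncomputable def semilinPoly {k : Type u} [Field k] (p : ℕ) (c : ℕ → k) : ℕ → k[X]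
  | 0 => C (c 0) * X ^ p - 1
  | (i+1) => (semilinPoly p c i) ^ p + C (c (i+1)) * X ^ p

lemma derivative_semilinPoly {k : Type u} [Field k] (p : ℕ) [CharP k p] (c : ℕ → k) (i : ℕ) :
    derivative (semilinPoly p c i) = 0 := by
  have hp : (p : k) = 0 := CharP.cast_eq_zero k p
  induction i with
  | zero => simp [semilinPoly, derivative_X_pow]
  | succ i ih => simp [semilinPoly, derivative_pow, hp]

lemma exists_dependency {k V : Type u} [Field k] [AddCommGroup V] [Module k V]
    [FiniteDimensional k V] (F : V →+ V) (w : V) : ∃ (n : ℕ) (c : ℕ → k), 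
    F^[n] w = ∑ i ∈ Finset.range n, c i • F^[i] w := by
  let f : ℕ →o Submodule k V := 
    ⟨fun m => Submodule.span k (Set.range (fun i : Fin m => F^[i] w)), by
      intro a b hab
      apply Submodule.span_mono
      rintro _ ⟨i, rfl⟩
      exact ⟨⟨i, lt_of_lt_of_le i.2 hab⟩, rfl⟩⟩
  obtain ⟨n, hn⟩ := monotone_stabilizes_iff_noetherian.mpr (inferInstance : IsNoetherian k V) f
  have h1 : F^[n] w ∈ f (n+1) := Submodule.subset_span ⟨⟨n, Nat.lt_succ_self n⟩, rfl⟩
  rw [← hn (n+1) (Nat.le_succ n)] at h1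
  obtain ⟨c, hc⟩ := (Submodule.mem_span_range_iff_exists_fun k).mp h1
  refine ⟨n, fun i => if h : i < n then c ⟨i, h⟩ else 0, ?_⟩
  rw [← hc, ← Fin.sum_univ_eq_sum_range (fun i => (if h : i < n then c ⟨i, h⟩ else 0) • F^[i] w) n]
  apply Finset.sum_congr rfl
  intro i _
  simp

theorem frobenius_sub_id_surjective {k V : Type u} [Field k] [IsAlgClosed k] (p : ℕ) [Fact p.Prime] [CharP k p]
    [AddCommGroup V] [Module k V] [FiniteDimensional k V] (F : V →+ V)
    (hF : ∀ (c : k) (v : V), F (c • v) = c ^ p • F v) : Function.Surjective fun v => F v - v := by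
  intro w
  obtain ⟨n, c, hc⟩ := exists_dependency (k := k) F w
  rcases n with _ | j
  · refine ⟨0, ?_⟩
    simp at hc
    simp [hc]
  -- root of the polynomial
  have hdeg : (semilinPoly p c j - X).degree ≠ 0 := by
    intro h0
    have h1 := eq_C_of_degree_eq_zero h0
    have h2 : derivative (semilinPoly p c j - X) = -1 := by
      simp [derivative_semilinPoly]
    rw [h1] at h2
    simp at h2
  obtain ⟨t, ht⟩ := IsAlgClosed.exists_root _ hdeg
  set a : ℕ → k := fun i => eval t (semilinPoly p c i) with ha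
  have ht' : a j = t := by
    simpa [sub_eq_zero] using ht
  have ha0 : a 0 = c 0 * t ^ p - 1 := by simp [ha, semilinPoly]
  have hasucc : ∀ i, a (i+1) = (a i) ^ p + c (i+1) * t ^ p := by
    intro i; simp [ha, semilinPoly]
  refine ⟨∑ i ∈ Finset.range (j+1), a i • F^[i] w, ?_⟩
  simp only
  rw [map_sum]
  have e1 : ∀ i ∈ Finset.range (j+1), F (a i • F^[i] w) = (a i)^p • F^[i+1] w := by
    intro i _
    rw [hF, Function.iterate_succ_apply']
  rw [Finset.sum_congr rfl e1, Finset.sum_range_succ, ht', hc]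
  rw [Finset.sum_range_succ' (fun i => a i • F^[i] w), Finset.sum_range_succ' (fun i => c i • F^[i] w)]
  simp only [Function.iterate_zero, id_eq, ha0, hasucc]
  rw [smul_add, Finset.smul_sum]
  simp only [add_smul, sub_smul, Finset.sum_add_distrib, smul_smul, one_smul]
  have : ∀ i, (t ^ p * c (i+1)) • F^[i+1] w = (c (i+1) * t ^ p) • F^[i+1] w := by
    intro i; rw [mul_comm]
  simp only [this, mul_comm (t^p) (c 0)]
  abel

end Groth.Agent.Lib.helper27
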