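import Mathlib
import Groth.Agent.Lib.Helper27.ResClass2

/-!
helper27: `D⁻(P) ≃ D⁻_P(A)` for a Serre class `P` with the lifting property, part 1:
resolution of a bounded above complex with cohomology in `P` by a complex of objects of `P`,
lifted to the full subcategory.
-/

set_option autoImplicit false
set_option linter.unusedSectionVars false
set_option linter.style.haveILetI false

namespace Groth.Agent.Lib.helper27.SerreDer

open CategoryTheory Limits HomologicalComplex

universe w w' v u

variable {A : Type u} [Category.{v} A] [Abelian A]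
  (P : ObjectProperty A)

/-- lift of a complex with terms in `P` to the full subcategory -/
@[simps]
def liftComplex {ι : Type*} {c : ComplexShape ι} (Q : HomologicalComplex A c)
    (hQ : ∀ n, P (Q.X n)) : HomologicalComplex P.FullSubcategory c where
  X n := ⟨Q.X n, hQ n⟩
  d i j := ObjectProperty.homMk (Q.d i j)
  shape i j h := by ext; exact Q.shape i j h
  d_comp_d' i j k _ _ := by ext; exact Q.d_comp_d i j k

variable [P.IsSerreClass] [P.IsClosedUnderKernels] [P.IsClosedUnderCokernels]
    [P.IsClosedUnderFiniteProducts]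

/-- the lift maps to the original complex -/
def liftComplexIso {ι : Type*} {c : ComplexShape ι} (Q : HomologicalComplex A c)
    (hQ : ∀ n, P (Q.X n)) :
    (P.ι.mapHomologicalComplex c).obj (liftComplex P Q hQ) ≅ Q :=
  HomologicalComplex.Hom.isoOfComponents (fun _ => Iso.refl _) (by
    intro i j _
    exact (Category.id_comp (Q.d i j)).trans (Category.comp_id (Q.d i j)).symm)

variable (hlift : ∀ (X Y : A) (π : X ⟶ Y), Epi π → P Y →
  ∃ (X' : A) (i : X' ⟶ X), Mono i ∧ P X' ∧ Epi (i ≫ π))

include hlift in
theorem exists_resolution_le (K : CochainComplex A ℤ) (b : ℤ) [K.IsLE b]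
    (hK : ∀ n, P (K.homology n)) :
    ∃ (Q : CochainComplex A ℤ) (u : Q ⟶ K), (∀ n, P (Q.X n)) ∧ Q.IsStrictlyLE b ∧ QuasiIso u := by
  obtain ⟨Q, u, h1, h2, h3⟩ := ResClass.exists_resolution_of_isSupported P P le_rfl
    (fun X Y π hY hπ => by
      obtain ⟨X', i, _, hX', hepi⟩ := hlift X Y π hπ hY
      exact ⟨X', i, hX', hepi⟩)
    (fun X Y π hX _ _ => P.prop_of_mono (kernel.ι π) hX)
    (fun X Y hX hY => P.prop_prod _ _ hX hY)
    (ComplexShape.embeddingUpIntLE b) K (fun k => hK _)
  refine ⟨Q, u, ?_, ?_, h3⟩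
  · intro n
    by_cases hn : ∃ k, (ComplexShape.embeddingUpIntLE b).f k = n
    · obtain ⟨k, rfl⟩ := hn
      exact h1 k
    · exact P.prop_of_isZero (h2 n (fun k hk => hn ⟨k, hk⟩))
  · exact ⟨fun n hn => h2 n hn⟩

end Groth.Agent.Lib.helper27.SerreDer
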