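import Mathlib

/-!
helper27: a triangulated functor which is full on a class of objects stable under cones and which
reflects zero objects in that class is faithful on that class.
-/

set_option autoImplicit false
set_option linter.unusedSectionVars false
set_option linter.style.haveILetI false

namespace Groth.Agent.Lib.helper27.SerreDer

open CategoryTheory Limits Pretriangulated

universe v₁ v₂ u₁ u₂

variable {C : Type u₁} {D : Type u₂} [Category.{v₁} C] [Category.{v₂} D]
  [Preadditive C] [HasZeroObject C] [HasShift C ℤ] [∀ n : ℤ, (shiftFunctor C n).Additive]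
  [Pretriangulated C]
  [Preadditive D] [HasZeroObject D] [HasShift D ℤ] [∀ n : ℤ, (shiftFunctor D n).Additive]
  [Pretriangulated D]
  (F : C ⥤ D) [F.CommShift ℤ] [F.IsTriangulated]

theorem eq_zero_of_full_on (S : ObjectProperty C)
    (hS : ∀ T ∈ distTriang C, S T.obj₁ → S T.obj₂ → S T.obj₃)
    (hfull : ∀ X Y, S X → S Y → ∀ φ : F.obj X ⟶ F.obj Y, ∃ ψ : X ⟶ Y, F.map ψ = φ)
    (hzero : ∀ X, S X → IsZero (F.obj X) → IsZero X)
    {X Y : C} (hX : S X) (hY : S Y) (f : X ⟶ Y) (hf : F.map f = 0) : f = 0 := by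
  obtain ⟨Z, g, h, hT⟩ := distinguished_cocone_triangle f
  have hZ : S Z := hS _ hT hX hY
  have hT' := F.map_distinguished _ hT
  obtain ⟨r, hr⟩ := Triangle.yoneda_exact₂ _ hT' (X := F.obj Y) (𝟙 (F.obj Y)) (by
    change F.map f ≫ 𝟙 (F.obj Y) = 0
    rw [hf, zero_comp])
  change F.obj Z ⟶ F.obj Y at r
  change 𝟙 (F.obj Y) = F.map g ≫ r at hr
  obtain ⟨r', rfl⟩ := hfull Z Y hZ hY r
  obtain ⟨W, a, c, hT₂⟩ := distinguished_cocone_triangle (g ≫ r')
  have hW : S W := hS _ hT₂ hY hY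
  have hT₂' := F.map_distinguished _ hT₂
  have hiso : IsIso (F.map (g ≫ r')) := by
    rw [F.map_comp, ← hr]
    infer_instance
  have hW0 : IsZero (F.obj W) := (Triangle.isZero₃_iff_isIso₁ _ hT₂').2 hiso
  have hW0' : IsZero W := hzero W hW hW0
  haveI : IsIso (g ≫ r') := (Triangle.isZero₃_iff_isIso₁ _ hT₂).1 hW0'
  have h1 : g ≫ (r' ≫ inv (g ≫ r')) = 𝟙 Y := by
    rw [← Category.assoc, IsIso.hom_inv_id]
  have h2 : f ≫ g = 0 := comp_distTriang_mor_zero₁₂ _ hT
  calc f = f ≫ g ≫ (r' ≫ inv (g ≫ r')) := by rw [h1, Category.comp_id]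
    _ = 0 := by rw [reassoc_of% h2, zero_comp]

end Groth.Agent.Lib.helper27.SerreDer
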