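import Mathlib
import Groth.Agent.Lib.Helper27.SerreDer1
import Groth.Agent.Lib.Helper27.SerreDer2

/-!
helper27: `D⁻(P) ≃ D⁻_P(A)` for a Serre class `P` with the lifting property, part 3.
-/

set_option autoImplicit false
set_option linter.unusedSectionVars false
set_option linter.style.haveILetI false

namespace Groth.Agent.Lib.helper27.SerreDer

open CategoryTheory Limits HomologicalComplex DerivedCategory

universe w w' v u

variable {A : Type u} [Category.{v} A] [Abelian A] [HasDerivedCategory.{w} A]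
  (P : ObjectProperty A) [P.IsSerreClass] [P.IsClosedUnderKernels] [P.IsClosedUnderCokernels]
    [P.IsClosedUnderFiniteProducts] [HasDerivedCategory.{w'} P.FullSubcategory]
    [PreservesFiniteLimits P.ι] [PreservesFiniteColimits P.ι]

/-- homology of the image complex -/
noncomputable def mapHomologyIso (K : CochainComplex P.FullSubcategory ℤ) (n : ℤ) :
    ((P.ι.mapHomologicalComplex (ComplexShape.up ℤ)).obj K).homology n ≅
      P.ι.obj (K.homology n) :=
  (K.sc n).mapHomologyIso P.ι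

lemma prop_homology_map (K : CochainComplex P.FullSubcategory ℤ) (n : ℤ) :
    P (((P.ι.mapHomologicalComplex (ComplexShape.up ℤ)).obj K).homology n) :=
  P.prop_of_iso (mapHomologyIso P K n).symm (K.homology n).2

/-- homology of the image in the derived category -/
noncomputable def homologyMapDerivedIso (K : CochainComplex P.FullSubcategory ℤ) (n : ℤ) :
    (DerivedCategory.homologyFunctor A n).obj (P.ι.mapDerivedCategory.obj (Q.obj K)) ≅
      P.ι.obj (K.homology n) :=
  (DerivedCategory.homologyFunctor A n).mapIso (P.ι.mapDerivedCategoryFactors.app K) ≪≫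
    (DerivedCategory.homologyFunctorFactors A n).app _ ≪≫ mapHomologyIso P K n


lemma isZero_of_isZero_ι {Y : P.FullSubcategory} (h : IsZero (P.ι.obj Y)) : IsZero Y := by
  rw [IsZero.iff_id_eq_zero]
  apply P.ι.map_injective
  rw [CategoryTheory.Functor.map_id, CategoryTheory.Functor.map_zero]
  exact (IsZero.iff_id_eq_zero _).1 h

instance isStrictlyLE_liftComplex (Q₁ : CochainComplex A ℤ) (hQ₁ : ∀ n, P (Q₁.X n)) (b : ℤ)
    [Q₁.IsStrictlyLE b] : CochainComplex.IsStrictlyLE (liftComplex P Q₁ hQ₁) b := by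
  rw [CochainComplex.isStrictlyLE_iff]
  intro i hi
  apply isZero_of_isZero_ι
  exact Q₁.isZero_of_isStrictlyLE b i hi

variable (hlift : ∀ (X Y : A) (π : X ⟶ Y), Epi π → P Y →
  ∃ (X' : A) (i : X' ⟶ X), Mono i ∧ P X' ∧ Epi (i ≫ π))

include hlift in
theorem exists_preimage_of_isLE (K : DerivedCategory A) (b : ℤ) (hK : K.IsLE b)
    (hP : ∀ n : ℤ, P ((DerivedCategory.homologyFunctor A n).obj K)) :
    ∃ M : DerivedCategory P.FullSubcategory, M.IsLE b ∧
      Nonempty (P.ι.mapDerivedCategory.obj M ≅ K) := by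
  obtain ⟨K₀, hK₀, ⟨e⟩⟩ := K.exists_iso_Q_obj_of_isLE b
  have hK₀P : ∀ n, P (K₀.homology n) := fun n =>
    P.prop_of_iso ((DerivedCategory.homologyFunctor A n).mapIso e ≪≫
      (DerivedCategory.homologyFunctorFactors A n).app K₀) (hP n)
  obtain ⟨Q₁, u, hQ₁, hle, hu⟩ := exists_resolution_le P hlift K₀ b hK₀P
  refine ⟨Q.obj (liftComplex P Q₁ hQ₁), inferInstance,
    ⟨(P.ι.mapDerivedCategoryFactors.app _) ≪≫ Q.mapIso (liftComplexIso P Q₁ hQ₁) ≪≫
      asIso (Q.map u) ≪≫ e.symm⟩⟩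


include hlift in
theorem full_aux (M₀ N₀ : CochainComplex P.FullSubcategory ℤ) (b : ℤ) [M₀.IsStrictlyLE b]
    (φ : P.ι.mapDerivedCategory.obj (Q.obj M₀) ⟶ P.ι.mapDerivedCategory.obj (Q.obj N₀)) :
    ∃ ψ : Q.obj M₀ ⟶ Q.obj N₀, P.ι.mapDerivedCategory.map ψ = φ := by
  let Φ := P.ι.mapHomologicalComplex (ComplexShape.up ℤ)
  let fac := P.ι.mapDerivedCategoryFactors
  let φ' : Q.obj (Φ.obj M₀) ⟶ Q.obj (Φ.obj N₀) := fac.inv.app M₀ ≫ φ ≫ fac.hom.app N₀
  have hφ : φ = fac.hom.app M₀ ≫ φ' ≫ fac.inv.app N₀ := by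
    simp only [φ', Category.assoc, Iso.hom_inv_id_app, Iso.hom_inv_id_app_assoc]
    exact (Category.comp_id _).symm
  obtain ⟨X', hX', s, hs, g, hφ'⟩ := right_fac_of_isStrictlyLE φ' b
  have hsq : QuasiIso s := (isIso_Q_map_iff_quasiIso _ s).1 hs
  have hX'P : ∀ n, P (X'.homology n) := fun n =>
    P.prop_of_iso (asIso (HomologicalComplex.homologyMap s n)).symm (prop_homology_map P M₀ n)
  obtain ⟨Q₁, u, hQ₁, hle, hu⟩ := exists_resolution_le P hlift X' b hX'P
  let K' := liftComplex P Q₁ hQ₁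
  let e : Φ.obj K' ≅ Q₁ := liftComplexIso P Q₁ hQ₁
  let s' : K' ⟶ M₀ := Φ.preimage (e.hom ≫ u ≫ s)
  let g' : K' ⟶ N₀ := Φ.preimage (e.hom ≫ u ≫ g)
  have hs' : Φ.map s' = e.hom ≫ u ≫ s := Φ.map_preimage _
  have hg' : Φ.map g' = e.hom ≫ u ≫ g := Φ.map_preimage _
  have hqs' : QuasiIso s' := by
    rw [← HomologicalComplex.quasiIso_map_iff_of_preservesHomology s' P.ι]
    change QuasiIso (Φ.map s')
    rw [hs']
    infer_instance
  haveI : IsIso (Q.map s') := (isIso_Q_map_iff_quasiIso _ s').2 hqs'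
  refine ⟨inv (Q.map s') ≫ Q.map g', ?_⟩
  rw [← cancel_epi (P.ι.mapDerivedCategory.map (Q.map s')), ← Functor.map_comp,
    IsIso.hom_inv_id_assoc]
  have n1 := fac.hom.naturality s'
  have n2 := fac.hom.naturality g'
  dsimp at n1 n2
  have n1' : P.ι.mapDerivedCategory.map (Q.map s') =
      fac.hom.app K' ≫ Q.map (Φ.map s') ≫ fac.inv.app M₀ := by
    rw [← reassoc_of% n1, Iso.hom_inv_id_app]
    exact (Category.comp_id _).symm
  have n2' : P.ι.mapDerivedCategory.map (Q.map g') =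
      fac.hom.app K' ≫ Q.map (Φ.map g') ≫ fac.inv.app N₀ := by
    rw [← reassoc_of% n2, Iso.hom_inv_id_app]
    exact (Category.comp_id _).symm
  rw [n1', n2', hφ, hφ', hs', hg']
  simp only [Functor.map_comp, Category.assoc, Iso.inv_hom_id_app_assoc, IsIso.hom_inv_id_assoc]


lemma isZero_of_homology {C : Type*} [Category* C] [Abelian C] [HasDerivedCategory C]
    (X : DerivedCategory C)
    (h : ∀ n : ℤ, IsZero ((DerivedCategory.homologyFunctor C n).obj X)) : IsZero X := by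
  have : IsIso (0 : X ⟶ X) := (DerivedCategory.isIso_iff _ (0 : X ⟶ X)).2
    (fun n => ⟨⟨0, (h n).eq_of_src _ _, (h n).eq_of_src _ _⟩⟩)
  rw [IsZero.iff_id_eq_zero]
  have h1 := IsIso.hom_inv_id (0 : X ⟶ X)
  rw [zero_comp] at h1
  exact h1.symm

lemma isZero_of_isZero_map (X : DerivedCategory P.FullSubcategory)
    (h : IsZero (P.ι.mapDerivedCategory.obj X)) : IsZero X := by
  let e : Q.obj (Q.objPreimage X) ≅ X := Q.objObjPreimageIso X
  refine IsZero.of_iso ?_ e.symm
  apply isZero_of_homology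
  intro n
  refine IsZero.of_iso ?_ ((DerivedCategory.homologyFunctorFactors _ n).app _)
  apply isZero_of_isZero_ι
  refine IsZero.of_iso ?_ (homologyMapDerivedIso P _ n).symm
  apply Functor.map_isZero
  exact IsZero.of_iso h (P.ι.mapDerivedCategory.mapIso e)

include hlift in
theorem bijective_map (M N : DerivedCategory P.FullSubcategory) (b : ℤ)
    (hM : M.IsLE b) (hN : N.IsLE b) :
    Function.Bijective (fun φ : M ⟶ N => P.ι.mapDerivedCategory.map φ) := by
  have hfull : ∀ (M N : DerivedCategory P.FullSubcategory), M.IsLE b → N.IsLE b →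
      ∀ φ : P.ι.mapDerivedCategory.obj M ⟶ P.ι.mapDerivedCategory.obj N,
        ∃ ψ : M ⟶ N, P.ι.mapDerivedCategory.map ψ = φ := by
    intro M N hM hN φ
    obtain ⟨M₀, hM₀, ⟨eM⟩⟩ := M.exists_iso_Q_obj_of_isLE b
    obtain ⟨N₀, hN₀, ⟨eN⟩⟩ := N.exists_iso_Q_obj_of_isLE b
    obtain ⟨ψ₀, hψ₀⟩ := full_aux P hlift M₀ N₀ b
      (P.ι.mapDerivedCategory.map eM.inv ≫ φ ≫ P.ι.mapDerivedCategory.map eN.hom)
    refine ⟨eM.hom ≫ ψ₀ ≫ eN.inv, ?_⟩
    rw [Functor.map_comp, Functor.map_comp, hψ₀]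
    simp only [Category.assoc, ← Functor.map_comp, Iso.hom_inv_id]
    rw [← Functor.map_comp_assoc, Iso.hom_inv_id, CategoryTheory.Functor.map_id,
      CategoryTheory.Functor.map_id, Category.id_comp, Category.comp_id]
  refine ⟨?_, hfull M N hM hN⟩
  intro ψ₁ ψ₂ h
  dsimp only at h
  rw [← sub_eq_zero]
  apply eq_zero_of_full_on P.ι.mapDerivedCategory (fun X => X.IsLE b) ?_ hfull
    (fun X _ hX => isZero_of_isZero_map P X hX) hM hN
  · rw [Functor.map_sub, h, sub_self]
  · intro T hT h₁ h₂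
    haveI := h₁
    haveI := h₂
    haveI : DerivedCategory.TStructure.t.IsLE (T.obj₁⟦(1 : ℤ)⟧) b :=
      haveI : DerivedCategory.TStructure.t.IsLE (T.obj₁⟦(1 : ℤ)⟧) (b - 1) :=
        DerivedCategory.TStructure.t.isLE_shift T.obj₁ b 1 (b - 1)
      DerivedCategory.TStructure.t.isLE_of_le _ (b - 1) b
    exact DerivedCategory.TStructure.t.isLE₂ T.rotate (Pretriangulated.rot_of_distTriang _ hT) b
      h₂ this

end Groth.Agent.Lib.helper27.SerreDer
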