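import Mathlib
set_option autoImplicit false
set_option linter.unusedSectionVars false
open CategoryTheory CategoryTheory.Limits Opposite Simplicial
universe v u

namespace Groth.Agent.Lib.helper27.SkMoore

instance finite_hom (a b : SimplexCategory) : Finite (a ⟶ b) :=
  Finite.of_injective (fun f : a ⟶ b => (f.toOrderHom : Fin (a.len + 1) → Fin (b.len + 1)))
    (fun f g h => by
      apply SimplexCategory.Hom.ext
      ext x
      exact congrArg (fun k => (k x : ℕ)) h)

instance finite_hom_op (a b : SimplexCategoryᵒᵖ) : Finite (a ⟶ b) :=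
  Finite.of_injective (fun f : a ⟶ b => f.unop) (fun _ _ h => Quiver.Hom.unop_inj h)

variable {A : Type u} [Category.{v} A] [Abelian A]

example (a b : SimplexCategoryᵒᵖ) : HasProductsOfShape (a ⟶ b) A := inferInstance

/-- a map out of `X _⦋n⦌` is determined by the induced map to the cofree object -/
noncomputable def cofreeHom (X : SimplicialObject A) (n : ℕ) {T : A} (g : X.obj (op ⦋n⦌) ⟶ T) :
    X ⟶ (evaluationRightAdjoint A (op ⦋n⦌)).obj T :=
  ((evaluationAdjunctionLeft A (op ⦋n⦌)).homEquiv X T) g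

theorem cofreeHom_app_π (X : SimplicialObject A) (n : ℕ) {T : A} (g : X.obj (op ⦋n⦌) ⟶ T)
    (t : SimplexCategoryᵒᵖ) (α : t ⟶ op ⦋n⦌) :
    (cofreeHom X n g).app t ≫ Pi.π (fun _ : t ⟶ op ⦋n⦌ => T) α = X.map α ≫ g := by
  simp only [cofreeHom, evaluationAdjunctionLeft, Adjunction.mkOfHomEquiv_homEquiv, Equiv.coe_fn_mk]
  exact Pi.lift_π _ _

theorem cofreeHom_eq_zero_iff (X : SimplicialObject A) (n : ℕ) {T : A} (g : X.obj (op ⦋n⦌) ⟶ T) :
    cofreeHom X n g = 0 ↔ g = 0 := by
  constructor
  · intro h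
    have := cofreeHom_app_π X n g (op ⦋n⦌) (𝟙 _)
    rw [h] at this
    simpa using this.symm
  · intro h
    subst h
    ext t
    apply Pi.hom_ext
    intro α
    refine (cofreeHom_app_π X n 0 t α).trans ?_
    rw [comp_zero]
    exact zero_comp.symm

section sk
variable (m : ℕ) [∀ F : (SimplexCategory.Truncated m)ᵒᵖ ⥤ A,
    (SimplexCategory.Truncated.inclusion m).op.HasLeftKanExtension F]
  (U : SimplicialObject.Truncated A m)

/-- A map out of `(sk U)_n` vanishing on the images of all `U_k`, `k ≤ m`, is zero. -/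
theorem eq_zero_of_comp_unit (n : ℕ) {T : A}
    (g : ((SimplicialObject.Truncated.sk m).obj U).obj (op ⦋n⦌) ⟶ T)
    (h : ∀ (k : SimplexCategory.Truncated m) (α : ⦋n⦌ ⟶ k.obj),
      ((SimplicialObject.skAdj m).unit.app U).app (op k) ≫
        ((SimplicialObject.Truncated.sk m).obj U).map α.op ≫ g = 0) : g = 0 := by
  rw [← cofreeHom_eq_zero_iff]
  apply ((SimplicialObject.skAdj m).homEquiv U _).injective
  have h0 : ((SimplicialObject.skAdj m).homEquiv U ((evaluationRightAdjoint A (op ⦋n⦌)).obj T)) 0 = 0 := by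
    rw [Adjunction.homEquiv_unit]
    ext k
    exact comp_zero
  rw [h0, Adjunction.homEquiv_unit]
  ext k
  apply Pi.hom_ext
  intro α
  have h1 := h k.unop α.unop
  have e1 : ((SimplicialObject.truncation m).map
      (cofreeHom ((SimplicialObject.Truncated.sk m).obj U) n g)).app k ≫ Pi.π (fun _ => T) α =
      ((SimplicialObject.Truncated.sk m).obj U).map α ≫ g := cofreeHom_app_π _ n g _ α
  refine (Category.assoc _ _ _).trans ?_
  refine Eq.trans ?_ (zero_comp (f := Pi.π (fun _ => T) α)).symm
  refine (congrArg (fun t => ((SimplicialObject.skAdj m).unit.app U).app k ≫ t) e1).trans ?_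
  exact h1

theorem not_injective_of_lt {n : ℕ} (k : SimplexCategory) (hk : k.len < n) (α : ⦋n⦌ ⟶ k) :
    ¬ Function.Injective α.toOrderHom := by
  intro hinj
  have := Fintype.card_le_of_injective _ hinj
  simp at this
  omega

theorem PInfty_sk_eq_zero (n : ℕ) (hn : m < n) :
    (AlgebraicTopology.DoldKan.PInfty (X := (SimplicialObject.Truncated.sk m).obj U)).f n = 0 := by
  obtain ⟨n', rfl⟩ : ∃ n', n = n' + 1 := ⟨n - 1, by omega⟩
  apply eq_zero_of_comp_unit m U (n' + 1)
  intro k α
  have hk : k.obj.len < n' + 1 := lt_of_le_of_lt k.property hn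
  obtain ⟨i, θ', hθ⟩ := SimplexCategory.eq_σ_comp_of_not_injective α (not_injective_of_lt k.obj hk α)
  have e : ((SimplicialObject.Truncated.sk m).obj U).map α.op =
      ((SimplicialObject.Truncated.sk m).obj U).map θ'.op ≫ ((SimplicialObject.Truncated.sk m).obj U).σ i := by
    rw [hθ, op_comp, Functor.map_comp]
    rfl
  have e2 : ((SimplicialObject.Truncated.sk m).obj U).map α.op ≫
      (AlgebraicTopology.DoldKan.PInfty (X := (SimplicialObject.Truncated.sk m).obj U)).f (n' + 1) = 0 := by
    rw [e, Category.assoc, AlgebraicTopology.DoldKan.σ_comp_PInfty, comp_zero]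
  exact (congrArg (fun t => ((SimplicialObject.skAdj m).unit.app U).app (op k) ≫ t) e2).trans comp_zero

theorem main (n : ℕ) (hn : m < n) :
    AlgebraicTopology.NormalizedMooreComplex.objX ((SimplicialObject.Truncated.sk m).obj U) n = ⊥ := by
  have h1 := congrArg (fun φ => φ.f n)
    (AlgebraicTopology.DoldKan.inclusionOfMooreComplexMap_comp_PInfty ((SimplicialObject.Truncated.sk m).obj U))
  simp only [HomologicalComplex.comp_f, AlgebraicTopology.inclusionOfMooreComplexMap_f] at h1
  rw [PInfty_sk_eq_zero m U n hn, comp_zero] at h1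
  rw [eq_bot_iff]
  refine Subobject.le_of_comm 0 ?_
  rw [zero_comp]
  exact h1

end sk

end Groth.Agent.Lib.helper27.SkMoore
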