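import Groth.Agent.Lib.Helper27.SkMoore
import Groth.Agent.S6810
set_option autoImplicit false
set_option linter.unusedSectionVars false
open CategoryTheory CategoryTheory.Limits Opposite Simplicial
universe v u

namespace Groth.Agent.Lib.helper27.SkMoore2
open Groth.Agent.Lib.helper27.SkMoore

variable {A : Type u} [Category.{v} A] [Abelian A]

/-- the normalized Moore complex functor reflects monomorphisms -/
theorem mono_of_mono_N {X Y : SimplicialObject A} (f : X ⟶ Y)
    (h : Mono ((AlgebraicTopology.normalizedMooreComplex A).map f)) : Mono f := by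
  have : (AlgebraicTopology.normalizedMooreComplex A).IsEquivalence :=
    (CategoryTheory.Abelian.DoldKan.equivalence (A := A)).isEquivalence_functor
  exact (AlgebraicTopology.normalizedMooreComplex A).mono_of_mono_map h

theorem N_map_f_arrow {X Y : SimplicialObject A} (f : X ⟶ Y) (k : ℕ) :
    ((AlgebraicTopology.normalizedMooreComplex A).map f).f k ≫
        (AlgebraicTopology.NormalizedMooreComplex.objX Y k).arrow =
      (AlgebraicTopology.NormalizedMooreComplex.objX X k).arrow ≫ f.app (op ⦋k⦌) := by
  simp only [AlgebraicTopology.normalizedMooreComplex, AlgebraicTopology.NormalizedMooreComplex.map]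
  exact Subobject.factorThru_arrow _ _ _

section main
variable (n : ℕ) [∀ F : (SimplexCategory.Truncated n)ᵒᵖ ⥤ A,
    (SimplexCategory.Truncated.inclusion n).op.HasLeftKanExtension F] (U : SimplicialObject A)

/-- the counit is an isomorphism after truncation -/
theorem isIso_truncation_counit :
    IsIso ((SimplicialObject.truncation n).map ((SimplicialObject.skAdj n).counit.app U)) := by
  have h := (SimplicialObject.skAdj (C := A) n).right_triangle_components U
  have : ∀ F : (SimplexCategory.Truncated n)ᵒᵖ ⥤ A,
      (SimplexCategory.Truncated.inclusion n).op.HasPointwiseLeftKanExtension F :=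
    fun F => Groth.Agent.S6810.result n F
  have : IsIso (SimplicialObject.skAdj (C := A) n).unit := SimplicialObject.Truncated.sk_coreflective n
  have : IsIso ((SimplicialObject.skAdj (C := A) n).unit.app ((SimplicialObject.truncation n).obj U)) :=
    inferInstance
  exact IsIso.of_isIso_fac_left h

/-- the counit is an isomorphism in degrees `≤ n` -/
theorem isIso_counit_app (k : ℕ) (hk : k ≤ n) :
    IsIso (((SimplicialObject.skAdj n).counit.app U).app (op ⦋k⦌)) := by
  have := isIso_truncation_counit n U
  let K : SimplexCategory.Truncated n := ⟨⦋k⦌, hk⟩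
  exact (inferInstance : IsIso (((SimplicialObject.truncation n).map
    ((SimplicialObject.skAdj n).counit.app U)).app (op K)))

theorem mono_counit : Mono ((SimplicialObject.skAdj n).counit.app U) := by
  apply mono_of_mono_N
  apply HomologicalComplex.mono_of_mono_f
  intro k
  have h : Mono ((AlgebraicTopology.NormalizedMooreComplex.objX
      ((SimplicialObject.truncation n ⋙ SimplicialObject.Truncated.sk n).obj U) k).arrow ≫
      ((SimplicialObject.skAdj n).counit.app U).app (op ⦋k⦌)) := by
    by_cases hk : k ≤ n
    · have := isIso_counit_app n U k hk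
      exact mono_comp _ _
    · have hb := Groth.Agent.Lib.helper27.SkMoore.main n ((SimplicialObject.truncation n).obj U) k (by omega)
      have hz : IsZero ((AlgebraicTopology.NormalizedMooreComplex.objX
          ((SimplicialObject.Truncated.sk n).obj ((SimplicialObject.truncation n).obj U)) k : Subobject _) : A) :=
        IsZero.of_iso (isZero_zero A) (Subobject.isoOfEq _ _ hb ≪≫ Subobject.botCoeIsoZero)
      exact ⟨fun g g' _ => hz.eq_of_tgt g g'⟩
  exact @mono_of_mono_fac _ _ _ _ _ _ _ _ h (N_map_f_arrow ((SimplicialObject.skAdj n).counit.app U) k)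

theorem mono_counit_app (m : ℕ) : Mono (((SimplicialObject.skAdj n).counit.app U).app (op ⦋m⦌)) := by
  have := mono_counit n U
  exact (NatTrans.mono_iff_mono_app _).1 inferInstance (op ⦋m⦌)

theorem image_le (m : ℕ) (V : Subobject (U.obj (op ⦋m⦌)))
    (hub : ∀ (K : SimplexCategory) (_ : K.len ≤ n) (φ : ⦋m⦌ ⟶ K), imageSubobject (U.map φ.op) ≤ V) :
    imageSubobject (((SimplicialObject.skAdj n).counit.app U).app (op ⦋m⦌)) ≤ V := by
  have hz : ((SimplicialObject.skAdj n).counit.app U).app (op ⦋m⦌) ≫ cokernel.π V.arrow = 0 := by
    apply eq_zero_of_comp_unit n ((SimplicialObject.truncation n).obj U) m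
    intro k α
    have hnat := ((SimplicialObject.skAdj n).counit.app U).naturality α.op
    have e : U.map α.op = (factorThruImageSubobject (U.map α.op) ≫
        Subobject.ofLE _ V (hub k.obj k.property α)) ≫ V.arrow := by
      rw [Category.assoc, Subobject.ofLE_arrow, imageSubobject_arrow_comp]
    have e2 : U.map α.op ≫ cokernel.π V.arrow = 0 := by
      rw [e, Category.assoc, cokernel.condition, comp_zero]
    have h3 : ((SimplicialObject.Truncated.sk n).obj ((SimplicialObject.truncation n).obj U)).map α.op ≫
        ((SimplicialObject.skAdj n).counit.app U).app (op ⦋m⦌) ≫ cokernel.π V.arrow = 0 := by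
      refine (Category.assoc _ _ _).symm.trans ?_
      refine (congrArg (fun t => t ≫ cokernel.π V.arrow) hnat).trans ?_
      refine (Category.assoc _ _ _).trans ?_
      exact (congrArg (fun t => ((SimplicialObject.skAdj n).counit.app U).app (op k.obj) ≫ t) e2).trans comp_zero
    exact (congrArg (fun t => ((SimplicialObject.skAdj n).unit.app
      ((SimplicialObject.truncation n).obj U)).app (op k) ≫ t) h3).trans comp_zero
  exact imageSubobject_le _ (Abelian.monoLift V.arrow _ hz) (Abelian.monoLift_comp _ _ _)

theorem le_image (m : ℕ) (i : ℕ) (hi : i ≤ n) (φ : ⦋m⦌ ⟶ ⦋i⦌) :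
    imageSubobject (U.map φ.op) ≤
      imageSubobject (((SimplicialObject.skAdj n).counit.app U).app (op ⦋m⦌)) := by
  have := isIso_counit_app n U i hi
  have hnat := ((SimplicialObject.skAdj n).counit.app U).naturality φ.op
  have e : U.map φ.op = (inv (((SimplicialObject.skAdj n).counit.app U).app (op ⦋i⦌)) ≫
      ((SimplicialObject.truncation n ⋙ SimplicialObject.Truncated.sk n).obj U).map φ.op) ≫
      ((SimplicialObject.skAdj n).counit.app U).app (op ⦋m⦌) := by
    refine Eq.trans ?_ (Category.assoc _ _ _).symm
    rw [IsIso.eq_inv_comp]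
    exact hnat.symm
  rw [e]
  exact imageSubobject_comp_le _ _

theorem main (U' : ∀ m : ℕ, Subobject (U.obj (op (SimplexCategory.mk m))))
    (hU' : ∀ m : ℕ, IsLUB (Set.range (fun φ : Σ i : Fin (n + 1),
      (SimplexCategory.mk m ⟶ SimplexCategory.mk i) => imageSubobject (U.map φ.2.op))) (U' m))
    (m : ℕ) :
    Mono (((SimplicialObject.skAdj n).counit.app U).app (op (SimplexCategory.mk m))) ∧
      imageSubobject (((SimplicialObject.skAdj n).counit.app U).app (op (SimplexCategory.mk m))) = U' m := by
  refine ⟨mono_counit_app n U m, le_antisymm ?_ ?_⟩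
  · apply image_le n U m (U' m)
    intro K
    induction K using SimplexCategory.rec with
    | _ i =>
      intro hK φ
      exact (hU' m).1 ⟨⟨⟨i, Nat.lt_succ_of_le hK⟩, φ⟩, rfl⟩
  · apply (hU' m).2
    rintro _ ⟨⟨i, φ⟩, rfl⟩
    exact le_image n U m i (Nat.le_of_lt_succ i.isLt) φ

end main

end Groth.Agent.Lib.helper27.SkMoore2
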