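import Mathlib

set_option autoImplicit false
set_option linter.unusedVariables false
set_option linter.unusedSectionVars false

namespace Groth.Agent.Lib.helper27

open TopologicalSpace Topology Set

namespace Sober

universe u

variable (X : Type u) [TopologicalSpace X]

/-- the soberification of `X`: the set of irreducible closed subsets -/
structure Sob : Type u where
  val : IrreducibleCloseds X

variable {X}

@[ext] lemma Sob.ext' {T T' : Sob X} (h : (T.val : Set X) = T'.val) : T = T' := by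
  cases T; cases T'
  congr
  exact IrreducibleCloseds.ext h

/-- the open set of `Sob X` attached to an open `U` of `X` -/
def tilde (U : Set X) : Set (Sob X) := {T | ((T.val : Set X) ∩ U).Nonempty}

lemma mem_tilde {U : Set X} {T : Sob X} : T ∈ tilde U ↔ ((T.val : Set X) ∩ U).Nonempty := Iff.rfl

lemma tilde_univ : tilde (univ : Set X) = univ := by
  ext T
  simp only [mem_tilde, inter_univ, mem_univ, iff_true]
  exact T.val.isIrreducible.nonempty

lemma tilde_mono {U V : Set X} (h : U ⊆ V) : tilde U ⊆ tilde V := by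
  rintro T ⟨x, hxT, hxU⟩
  exact ⟨x, hxT, h hxU⟩

lemma tilde_inter (U V : Set X) (hU : IsOpen U) (hV : IsOpen V) :
    tilde (U ∩ V) = tilde U ∩ tilde V := by
  ext T
  constructor
  · intro h
    exact ⟨tilde_mono inter_subset_left h, tilde_mono inter_subset_right h⟩
  · rintro ⟨h1, h2⟩
    exact T.val.isIrreducible.2 U V hU hV h1 h2

lemma tilde_iUnion {ι : Sort*} (U : ι → Set X) : tilde (⋃ i, U i) = ⋃ i, tilde (U i) := by
  ext T
  simp only [mem_tilde, inter_iUnion, nonempty_iUnion, mem_iUnion]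

instance : TopologicalSpace (Sob X) where
  IsOpen S := ∃ U : Set X, IsOpen U ∧ S = tilde U
  isOpen_univ := ⟨univ, isOpen_univ, tilde_univ.symm⟩
  isOpen_inter := by
    rintro _ _ ⟨U, hU, rfl⟩ ⟨V, hV, rfl⟩
    exact ⟨U ∩ V, hU.inter hV, (tilde_inter U V hU hV).symm⟩
  isOpen_sUnion := by
    intro 𝒮 h
    choose U hU hSU using h
    refine ⟨⋃ (S : 𝒮), U S.1 S.2, isOpen_iUnion (fun S => hU S.1 S.2), ?_⟩
    rw [tilde_iUnion, sUnion_eq_iUnion]
    refine iUnion_congr (fun S => ?_)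
    exact hSU S.1 S.2

lemma isOpen_iff (S : Set (Sob X)) : IsOpen S ↔ ∃ U : Set X, IsOpen U ∧ S = tilde U := Iff.rfl

lemma isOpen_tilde {U : Set X} (hU : IsOpen U) : IsOpen (tilde U) := ⟨U, hU, rfl⟩

/-- the canonical map -/
def s (x : X) : Sob X := ⟨⟨closure {x}, isIrreducible_singleton.closure, isClosed_closure⟩⟩

lemma s_val (x : X) : ((s x).val : Set X) = closure {x} := rfl

lemma s_mem_tilde {U : Set X} (hU : IsOpen U) (x : X) : s x ∈ tilde U ↔ x ∈ U := by
  rw [mem_tilde, s_val]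
  constructor
  · rintro ⟨y, hy, hyU⟩
    obtain ⟨z, hzU, hz⟩ := mem_closure_iff.1 hy U hU hyU
    rw [mem_singleton_iff] at hz
    rwa [← hz]
  · intro hx
    exact ⟨x, subset_closure rfl, hx⟩

lemma s_preimage_tilde {U : Set X} (hU : IsOpen U) : s ⁻¹' tilde U = U := by
  ext x
  exact s_mem_tilde hU x

lemma continuous_s : Continuous (s : X → Sob X) := by
  refine ⟨?_⟩
  rintro _ ⟨U, hU, rfl⟩
  rw [s_preimage_tilde hU]
  exact hU

lemma tilde_injective {U V : Set X} (hU : IsOpen U) (hV : IsOpen V) (h : tilde U = tilde V) :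
    U = V := by
  rw [← s_preimage_tilde hU, ← s_preimage_tilde hV, h]

/-- closed sets are stable under passing to smaller irreducible closed subsets -/
lemma mem_of_le {𝒯 : Set (Sob X)} (hc : IsClosed 𝒯) {T T' : Sob X} (hT : T ∈ 𝒯)
    (h : (T'.val : Set X) ⊆ T.val) : T' ∈ 𝒯 := by
  by_contra hT'
  obtain ⟨U, hU, h𝒯⟩ := hc.isOpen_compl
  have h1 : T' ∈ tilde U := by rw [← h𝒯]; exact hT'
  have h2 : T ∈ tilde U := by
    obtain ⟨x, hx, hxU⟩ := h1
    exact ⟨x, h hx, hxU⟩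
  rw [← h𝒯] at h2
  exact h2 hT

lemma s_mem_of_mem {𝒯 : Set (Sob X)} (hc : IsClosed 𝒯) {T : Sob X} (hT : T ∈ 𝒯) {x : X}
    (hx : x ∈ (T.val : Set X)) : s x ∈ 𝒯 := by
  refine mem_of_le hc hT ?_
  rw [s_val]
  exact T.val.isClosed.closure_subset_iff.2 (singleton_subset_iff.2 hx)

lemma mem_closure_singleton_iff (T T' : Sob X) :
    T' ∈ closure {T} ↔ (T'.val : Set X) ⊆ T.val := by
  constructor
  · intro h
    by_contra hsub
    have hopen : IsOpen (tilde ((T.val : Set X)ᶜ)) := isOpen_tilde T.val.isClosed.isOpen_compl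
    have h1 : T' ∈ tilde ((T.val : Set X)ᶜ) := by
      obtain ⟨x, hx, hxT⟩ := not_subset.1 hsub
      exact ⟨x, hx, hxT⟩
    obtain ⟨T'', hT'', hT''eq⟩ := mem_closure_iff.1 h _ hopen h1
    rw [mem_singleton_iff] at hT''eq
    rw [hT''eq] at hT''
    obtain ⟨x, hx, hxn⟩ := hT''
    exact hxn hx
  · intro h
    exact mem_of_le isClosed_closure (subset_closure rfl) h

instance : T0Space (Sob X) := by
  refine ⟨fun T T' h => ?_⟩
  have h1 : T ∈ closure {T'} := h.symm.specializes.mem_closure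
  have h2 : T' ∈ closure {T} := h.specializes.mem_closure
  rw [mem_closure_singleton_iff] at h1 h2
  exact Sob.ext' (subset_antisymm h1 h2)

lemma isIrreducible_preimage {𝒯 : Set (Sob X)} (h𝒯 : IsIrreducible 𝒯) (hc : IsClosed 𝒯) :
    IsIrreducible (s ⁻¹' 𝒯 : Set X) := by
  constructor
  · obtain ⟨T, hT⟩ := h𝒯.nonempty
    obtain ⟨x, hx⟩ := T.val.isIrreducible.nonempty
    exact ⟨x, s_mem_of_mem hc hT hx⟩
  · rintro U V hU hV ⟨x, hx𝒯, hxU⟩ ⟨y, hy𝒯, hyV⟩
    obtain ⟨T, hT𝒯, hTU, hTV⟩ := h𝒯.2 (tilde U) (tilde V) (isOpen_tilde hU) (isOpen_tilde hV)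
      ⟨s x, hx𝒯, (s_mem_tilde hU x).2 hxU⟩ ⟨s y, hy𝒯, (s_mem_tilde hV y).2 hyV⟩
    obtain ⟨z, hzT, hzU, hzV⟩ := T.val.isIrreducible.2 U V hU hV hTU hTV
    exact ⟨z, s_mem_of_mem hc hT𝒯 hzT, hzU, hzV⟩

lemma mem_closed_iff {𝒯 : Set (Sob X)} (hc : IsClosed 𝒯) (T : Sob X) :
    T ∈ 𝒯 ↔ (T.val : Set X) ⊆ s ⁻¹' 𝒯 := by
  constructor
  · intro hT x hx
    exact s_mem_of_mem hc hT hx
  · intro h
    by_contra hT
    obtain ⟨U, hU, h𝒯⟩ := hc.isOpen_compl
    have h1 : T ∈ tilde U := by rw [← h𝒯]; exact hT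
    obtain ⟨x, hx, hxU⟩ := h1
    have h2 : s x ∈ tilde U := (s_mem_tilde hU x).2 hxU
    rw [← h𝒯] at h2
    exact h2 (h hx)

instance : QuasiSober (Sob X) := by
  refine ⟨fun {𝒯} h𝒯 hc => ?_⟩
  let g : Sob X := ⟨⟨s ⁻¹' 𝒯, isIrreducible_preimage h𝒯 hc, hc.preimage continuous_s⟩⟩
  refine ⟨g, ?_⟩
  show closure {g} = 𝒯
  ext T
  rw [mem_closure_singleton_iff, mem_closed_iff hc]
  exact Iff.rfl

instance [NoetherianSpace X] : NoetherianSpace (Sob X) := by
  rw [noetherianSpace_iff_opens]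
  intro O
  obtain ⟨U, hU, hO⟩ := O.2
  show IsCompact (O : Set (Sob X))
  have hO' : (O : Set (Sob X)) = tilde U := hO
  rw [hO']
  apply isCompact_of_finite_subcover
  intro ι V hV hcov
  choose W hW hVW using hV
  have hUW : U ⊆ ⋃ i, W i := by
    intro x hx
    have h1 : s x ∈ tilde U := (s_mem_tilde hU x).2 hx
    obtain ⟨i, hi⟩ := mem_iUnion.1 (hcov h1)
    rw [hVW i] at hi
    exact mem_iUnion.2 ⟨i, (s_mem_tilde (hW i) x).1 hi⟩
  obtain ⟨t, ht⟩ := (NoetherianSpace.isCompact U).elim_finite_subcover W hW hUW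
  refine ⟨t, ?_⟩
  refine (tilde_mono ht).trans ?_
  rw [tilde_iUnion]
  refine iUnion_mono (fun i => ?_)
  rw [tilde_iUnion]
  refine iUnion_mono (fun hi => ?_)
  rw [hVW i]

instance [NoetherianSpace X] : SpectralSpace (Sob X) where

/-- the Krull dimension does not increase -/
theorem topologicalKrullDim_le : topologicalKrullDim (Sob X) ≤ topologicalKrullDim X := by
  unfold topologicalKrullDim
  let m : IrreducibleCloseds (Sob X) → IrreducibleCloseds X := fun 𝒯 =>
    ⟨s ⁻¹' (𝒯 : Set (Sob X)), isIrreducible_preimage 𝒯.isIrreducible 𝒯.isClosed,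
      𝒯.isClosed.preimage continuous_s⟩
  have hmono : Monotone m := by
    intro 𝒯 𝒯' h x hx
    exact h hx
  have hinj : Function.Injective m := by
    intro 𝒯 𝒯' h
    apply IrreducibleCloseds.ext
    ext T
    rw [mem_closed_iff 𝒯.isClosed, mem_closed_iff 𝒯'.isClosed]
    have : (s ⁻¹' (𝒯 : Set (Sob X)) : Set X) = s ⁻¹' (𝒯' : Set (Sob X)) :=
      congrArg (fun A : IrreducibleCloseds X => (A : Set X)) h
    rw [this]
  exact Order.krullDim_le_of_strictMono m (hmono.strictMono_of_injective hinj)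

end Sober

end Groth.Agent.Lib.helper27
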