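import Mathlib
import Groth.Prelude.Def_CohTop
import Groth.Agent.Lib.Helper27.Sober1
import Groth.Agent.Lib.Helper27.Scheiderer
import Groth.Agent.Lib.Helper27.PullConst
import Groth.Agent.Lib.Helper27.RpushSheafify
import Groth.Agent.S0460

set_option autoImplicit false
set_option backward.isDefEq.respectTransparency false
set_option linter.unusedVariables false
set_option linter.unusedSectionVars false

namespace Groth.Agent.Lib.helper27

open CategoryTheory Limits Opposite TopologicalSpace

universe u

namespace Sober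

section general

variable {Y : TopCat.{u}}

/-- a presheaf all of whose sections are locally zero has zero sheafification -/
lemma isZero_sheafify_of_locally_zero (Q : (Opens Y)ᵒᵖ ⥤ AddCommGrpCat.{u})
    (h : ∀ (V : Opens Y) (t : Q.obj (op V)), ∃ (ι : Type u) (Vi : ι → Opens Y)
      (hle : ∀ i, Vi i ≤ V), V ≤ iSup Vi ∧ ∀ i, Q.map (homOfLE (hle i)).op t = 0) :
    IsZero ((presheafToSheaf (Opens.grothendieckTopology Y) AddCommGrpCat.{u}).obj Q) := by
  let G := (presheafToSheaf (Opens.grothendieckTopology Y) AddCommGrpCat.{u}).obj Q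
  have hunit : toSheafify (Opens.grothendieckTopology Y) Q = 0 := by
    ext V : 2
    induction V using Opposite.rec with | _ V => ?_
    apply AddCommGrpCat.hom_ext
    apply AddMonoidHom.ext
    intro t
    obtain ⟨ι, Vi, hle, hcov, hz⟩ := h V t
    show (toSheafify (Opens.grothendieckTopology Y) Q).app (op V) t = 0
    refine TopCat.Sheaf.eq_of_locally_eq' (C := AddCommGrpCat.{u}) G Vi V
      (fun i => homOfLE (hle i)) hcov _ _ ?_
    intro i
    have hnat := (toSheafify (Opens.grothendieckTopology Y) Q).naturality (homOfLE (hle i)).op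
    have hnat' := ConcreteCategory.congr_hom hnat t
    have e1 : G.obj.map (homOfLE (hle i)).op
        ((toSheafify (Opens.grothendieckTopology Y) Q).app (op V) t) =
        (toSheafify (Opens.grothendieckTopology Y) Q).app (op (Vi i))
          (Q.map (homOfLE (hle i)).op t) := hnat'.symm
    rw [e1, hz i, map_zero, map_zero]
  rw [IsZero.iff_id_eq_zero]
  apply (sheafificationAdjunction (Opens.grothendieckTopology Y) AddCommGrpCat.{u}).homEquiv Q G
    |>.injective
  rw [Adjunction.homEquiv_unit, Adjunction.homEquiv_unit]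
  have : (sheafificationAdjunction (Opens.grothendieckTopology Y) AddCommGrpCat.{u}).unit.app Q =
      toSheafify (Opens.grothendieckTopology Y) Q := rfl
  rw [this, hunit, zero_comp, zero_comp]

end general

variable (X : TopCat.{u})

/-- the soberification as an object of `TopCat` -/
abbrev SobT : TopCat.{u} := TopCat.of (Sob X)

/-- the canonical map to the soberification -/
def sMap : X ⟶ SobT X := TopCat.ofHom ⟨s, continuous_s⟩

variable {X}

lemma opens_eq (O : Opens (SobT X)) :
    (O : Set (Sob X)) = tilde (((Opens.map (sMap X)).obj O : Opens X) : Set X) := by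
  obtain ⟨U, hU, hO⟩ := O.2
  have hO' : (O : Set (Sob X)) = tilde U := hO
  have : (((Opens.map (sMap X)).obj O : Opens X) : Set X) = U := by
    show s ⁻¹' (O : Set (Sob X)) = U
    rw [hO', s_preimage_tilde hU]
  rw [this, hO']

/-- the open of the soberification attached to an open of `X` -/
def tildeO (U : Opens X) : Opens (SobT X) := ⟨tilde (U : Set X), isOpen_tilde U.2⟩

lemma map_tildeO (U : Opens X) : (Opens.map (sMap X)).obj (tildeO U) = U := by
  apply Opens.ext
  show s ⁻¹' tilde (U : Set X) = U
  exact s_preimage_tilde U.2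

lemma isZero_Rpush (F : CohTop.Ab X) (q : ℕ) :
    IsZero ((CohTop.Rpush (sMap X) (q + 1)).obj F) := by
  obtain ⟨e⟩ := RpushSheafify.rpush_iso_top (sMap X) F (q + 1)
  refine IsZero.of_iso ?_ e
  apply isZero_sheafify_of_locally_zero
  intro V t
  obtain ⟨ι, Ui, hUi, hsup, hres⟩ := Groth.Agent.S0460.result F ((Opens.map (sMap X)).obj V) q t
  have hle : ∀ i, tildeO (Ui i) ≤ V := by
    intro i T hT
    have : T ∈ tilde (((Opens.map (sMap X)).obj V : Opens X) : Set X) :=
      tilde_mono (hUi i) hT
    rw [← opens_eq V] at this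
    exact this
  refine ⟨ι, fun i => tildeO (Ui i), hle, ?_, ?_⟩
  · intro T hT
    have h1 : T ∈ (V : Set (Sob X)) := hT
    rw [opens_eq V, ← hsup, Opens.coe_iSup, tilde_iUnion] at h1
    obtain ⟨i, hi⟩ := Set.mem_iUnion.1 h1
    exact Opens.mem_iSup.2 ⟨i, hi⟩
  · intro i
    have h2 : (Opens.map (sMap X)).obj (tildeO (Ui i)) ≤ Ui i := (map_tildeO (Ui i)).le
    have h3 := MVTop.res_res F (q + 1) h2 (hUi i) t
    rw [hres i, map_zero] at h3
    exact h3.symm

/-- cohomology can be computed on the soberification -/
theorem H_equiv (F : CohTop.Ab X) (p : ℕ) :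
    Nonempty (CohTop.H F p ≃+ CohTop.H ((CohTop.push (sMap X)).obj F) p) :=
  PullConst.H_push_equiv (sMap X) F (isZero_Rpush F) p

/-- **S0458** Grothendieck vanishing -/
theorem grothendieck_vanishing [NoetherianSpace X] (d : ℕ)
    (hd : topologicalKrullDim X ≤ d) (F : CohTop.Ab X) (p : ℕ) (hp : d < p) :
    Subsingleton (CohTop.H F p) := by
  obtain ⟨e⟩ := H_equiv F p
  have hd' : topologicalKrullDim (SobT X) ≤ d := (topologicalKrullDim_le (X := X)).trans hd
  have := Scheiderer.spectral_vanishing d hd' ((CohTop.push (sMap X)).obj F) p hp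
  exact e.toEquiv.subsingleton

end Sober

end Groth.Agent.Lib.helper27
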