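import Mathlib
import Groth.Prelude.Def_W4stktopologysheavesDim
import Groth.Agent.Lib.Helper27.Sober1

set_option autoImplicit false
set_option linter.unusedVariables false
set_option linter.unusedSectionVars false

namespace Groth.Agent.Lib.helper27

open TopologicalSpace Topology Set

namespace Sober

universe u

variable {X : Type u} [TopologicalSpace X]

lemma isCompact_tilde {U : Set X} (hU : IsOpen U) (hc : IsCompact U) : IsCompact (tilde U) := by
  apply isCompact_of_finite_subcover
  intro ι V hV hcov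
  choose W hW hVW using hV
  have hUW : U ⊆ ⋃ i, W i := by
    intro x hx
    have h1 : s x ∈ tilde U := (s_mem_tilde hU x).2 hx
    obtain ⟨i, hi⟩ := mem_iUnion.1 (hcov h1)
    rw [hVW i] at hi
    exact mem_iUnion.2 ⟨i, (s_mem_tilde (hW i) x).1 hi⟩
  obtain ⟨t, ht⟩ := hc.elim_finite_subcover W hW hUW
  refine ⟨t, ?_⟩
  refine (tilde_mono ht).trans ?_
  rw [tilde_iUnion]
  refine iUnion_mono (fun i => ?_)
  rw [tilde_iUnion]
  refine iUnion_mono (fun hi => ?_)
  rw [hVW i]

lemma isCompact_of_isCompact_tilde {U : Set X} (hU : IsOpen U) (hc : IsCompact (tilde U)) :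
    IsCompact U := by
  apply isCompact_of_finite_subcover
  intro ι V hV hcov
  have h1 : tilde U ⊆ ⋃ i, tilde (V i) := by
    rw [← tilde_iUnion]
    exact tilde_mono hcov
  obtain ⟨t, ht⟩ := hc.elim_finite_subcover (fun i => tilde (V i)) (fun i => isOpen_tilde (hV i)) h1
  refine ⟨t, ?_⟩
  intro x hx
  have h2 : s x ∈ tilde U := (s_mem_tilde hU x).2 hx
  obtain ⟨i, hi⟩ := mem_iUnion.1 (ht h2)
  obtain ⟨hit, hi'⟩ := mem_iUnion.1 hi
  exact mem_iUnion.2 ⟨i, mem_iUnion.2 ⟨hit, (s_mem_tilde (hV i) x).1 hi'⟩⟩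

instance [CompactSpace X] : CompactSpace (Sob X) := by
  refine ⟨?_⟩
  rw [← tilde_univ]
  exact isCompact_tilde isOpen_univ isCompact_univ

instance [PrespectralSpace X] : PrespectralSpace (Sob X) := by
  refine PrespectralSpace.of_isTopologicalBasis
    (B := {S | ∃ U : Set X, IsOpen U ∧ IsCompact U ∧ S = tilde U}) ?_ ?_
  · refine isTopologicalBasis_of_isOpen_of_nhds ?_ ?_
    · rintro _ ⟨U, hU, -, rfl⟩
      exact isOpen_tilde hU
    · rintro T O hT ⟨V, hV, rfl⟩
      obtain ⟨x, hxT, hxV⟩ := hT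
      obtain ⟨K, ⟨hKo, hKc⟩, hxK, hKV⟩ :=
        PrespectralSpace.isTopologicalBasis.exists_subset_of_mem_open hxV hV
      exact ⟨tilde K, ⟨K, hKo, hKc, rfl⟩, ⟨x, hxT, hxK⟩, tilde_mono hKV⟩
  · rintro _ ⟨U, hU, hc, rfl⟩
    exact isCompact_tilde hU hc

instance [QuasiSeparatedSpace X] : QuasiSeparatedSpace (Sob X) := by
  refine ⟨?_⟩
  rintro _ _ ⟨U, hU, rfl⟩ hUc ⟨V, hV, rfl⟩ hVc
  rw [← tilde_inter U V hU hV]
  exact isCompact_tilde (hU.inter hV) (QuasiSeparatedSpace.inter_isCompact U V hU
    (isCompact_of_isCompact_tilde hU hUc) hV (isCompact_of_isCompact_tilde hV hVc))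

lemma spectralSpace [CompactSpace X] [PrespectralSpace X] [QuasiSeparatedSpace X] :
    SpectralSpace (Sob X) where

/-- universal property -/
lemma exists_factor {Y : Type u} [TopologicalSpace Y] [QuasiSober Y] [T0Space Y] (f : X → Y)
    (hf : Continuous f) : ∃ g : Sob X → Y, Continuous g ∧ g ∘ s = f := by
  have hirr : ∀ T : Sob X, IsIrreducible (closure (f '' (T.val : Set X))) := fun T =>
    (T.val.isIrreducible.image f hf.continuousOn).closure
  let g : Sob X → Y := fun T => (hirr T).genericPoint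
  have hg : ∀ T, IsGenericPoint (g T) (closure (f '' (T.val : Set X))) := fun T =>
    (hirr T).isGenericPoint_genericPoint isClosed_closure
  have hmem : ∀ (T : Sob X) (V : Set Y), IsOpen V → (g T ∈ V ↔ T ∈ tilde (f ⁻¹' V)) := by
    intro T V hV
    constructor
    · intro h
      have h1 : g T ∈ closure (f '' (T.val : Set X)) := (hg T).mem
      obtain ⟨y, hyV, x, hxT, rfl⟩ := mem_closure_iff.1 h1 V hV h
      exact ⟨x, hxT, hyV⟩
    · rintro ⟨x, hxT, hxV⟩
      have h1 : f x ∈ closure (f '' (T.val : Set X)) := subset_closure ⟨x, hxT, rfl⟩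
      exact ((hg T).specializes h1).mem_open hV hxV
  refine ⟨g, ⟨fun V hV => ?_⟩, ?_⟩
  · have : g ⁻¹' V = tilde (f ⁻¹' V) := by
      ext T
      exact hmem T V hV
    rw [this]
    exact isOpen_tilde (hV.preimage hf)
  · funext x
    show g (s x) = f x
    have h1 : IsGenericPoint (f x) (closure (f '' ((s x).val : Set X))) := by
      show closure {f x} = closure (f '' ((s x).val : Set X))
      apply subset_antisymm
      · apply closure_mono
        rw [singleton_subset_iff]
        exact ⟨x, subset_closure rfl, rfl⟩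
      · rw [isClosed_closure.closure_subset_iff, s_val]
        refine (image_closure_subset_closure_image hf).trans ?_
        rw [image_singleton]
    exact (hg (s x)).eq h1

/-- comparison with the Prelude's soberification -/
def homeo : Sob X ≃ₜ PtTop.Sob X where
  toFun T := T.val
  invFun Z := ⟨Z⟩
  left_inv T := rfl
  right_inv Z := rfl
  continuous_toFun := by
    apply continuous_generateFrom_iff.2
    rintro _ ⟨U, rfl⟩
    exact isOpen_tilde U.2
  continuous_invFun := by
    refine ⟨?_⟩
    rintro _ ⟨U, hU, rfl⟩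
    apply TopologicalSpace.isOpen_generateFrom_of_mem
    exact ⟨⟨U, hU⟩, rfl⟩

lemma homeo_s (x : X) : homeo (s x) = PtTop.toSob X x := rfl

/-- **S7582** -/
theorem soberification_universal (X : Type u) [TopologicalSpace X] :
    QuasiSober (PtTop.Sob X) ∧ T0Space (PtTop.Sob X) ∧ Continuous (PtTop.toSob X) ∧
    Set.BijOn (fun U' : Set (PtTop.Sob X) => PtTop.toSob X ⁻¹' U') {U' | IsOpen U'}
      {U : Set X | IsOpen U} ∧
    ∀ (Y : Type u) [TopologicalSpace Y] [QuasiSober Y] [T0Space Y] (f : X → Y), Continuous f →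
      ∃ g : PtTop.Sob X → Y, Continuous g ∧ g ∘ PtTop.toSob X = f := by
  have hcont : Continuous (PtTop.toSob X) := (homeo (X := X)).continuous.comp continuous_s
  refine ⟨(homeo (X := X)).symm.isOpenEmbedding.quasiSober,
    (homeo (X := X)).symm.isEmbedding.t0Space, hcont, ⟨?_, ?_, ?_⟩, ?_⟩
  · intro U' hU'
    exact hU'.preimage hcont
  · intro U' hU' V' hV' h
    obtain ⟨U, hU, hU'eq⟩ := hU'.preimage (homeo (X := X)).continuous
    obtain ⟨V, hV, hV'eq⟩ := hV'.preimage (homeo (X := X)).continuous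
    have h1 : PtTop.toSob X ⁻¹' U' = U := by
      show s ⁻¹' (homeo ⁻¹' U') = U
      rw [hU'eq, s_preimage_tilde hU]
    have h2 : PtTop.toSob X ⁻¹' V' = V := by
      show s ⁻¹' (homeo ⁻¹' V') = V
      rw [hV'eq, s_preimage_tilde hV]
    have h3 : U = V := by rw [← h1, ← h2]; exact h
    have h4 : (homeo (X := X)) ⁻¹' U' = homeo ⁻¹' V' := by rw [hU'eq, hV'eq, h3]
    exact (homeo (X := X)).surjective.preimage_injective h4
  · intro U hU
    refine ⟨(homeo (X := X)).symm ⁻¹' tilde U, (isOpen_tilde hU).preimage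
      (homeo (X := X)).symm.continuous, ?_⟩
    have h5 : (homeo (X := X)) ⁻¹' ((homeo (X := X)).symm ⁻¹' tilde U) = tilde U := by
      ext T
      simp only [mem_preimage, Homeomorph.symm_apply_apply]
    show s ⁻¹' (homeo ⁻¹' ((homeo (X := X)).symm ⁻¹' tilde U)) = U
    rw [h5, s_preimage_tilde hU]
  · intro Y _ _ _ f hf
    obtain ⟨g, hg, hgs⟩ := exists_factor f hf
    refine ⟨g ∘ (homeo (X := X)).symm, hg.comp (homeo (X := X)).symm.continuous, ?_⟩
    funext x
    show g ((homeo (X := X)).symm (homeo (s x))) = f x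
    rw [Homeomorph.symm_apply_apply]
    exact congrFun hgs x

/-- **S7583** -/
theorem soberification_compact_spectral_noetherian (X : Type u) [TopologicalSpace X] :
    (CompactSpace X → CompactSpace (PtTop.Sob X)) ∧
    (CompactSpace X → PrespectralSpace X → QuasiSeparatedSpace X → SpectralSpace (PtTop.Sob X)) ∧
    (TopologicalSpace.NoetherianSpace X →
      TopologicalSpace.NoetherianSpace (PtTop.Sob X) ∧ SpectralSpace (PtTop.Sob X)) := by
  refine ⟨fun h => (homeo (X := X)).compactSpace, ?_, ?_⟩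
  · intro h1 h2 h3
    have := (homeo (X := X)).compactSpace
    have := spectralSpace (X := X)
    exact (homeo (X := X)).symm.isOpenEmbedding.spectralSpace
  · intro h
    have h1 : NoetherianSpace (PtTop.Sob X) :=
      (noetherianSpace_iff_of_homeomorph (homeo (X := X))).1 inferInstance
    refine ⟨h1, ?_⟩
    have : SpectralSpace (Sob X) := inferInstance
    exact (homeo (X := X)).symm.isOpenEmbedding.spectralSpace

end Sober

end Groth.Agent.Lib.helper27
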