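import Mathlib
import Groth.Agent.Lib.Helper27.PullGermSet
import Groth.Agent.Lib.Helper9.SpectralSub
import Groth.Agent.Lib.Helper9.SpectralCons

set_option autoImplicit false

namespace Groth.Agent.Lib.helper27.SpecClosedSec

open CategoryTheory Limits Opposite TopologicalSpace Topology
open Groth.Agent.Lib.helper27 Groth.Agent.Lib.helper9

universe u

section

variable {X : TopCat.{u}} (F : TopCat.Sheaf (Type u) X)

/-- the locus where two sections have the same germ -/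
def E {U V : Opens X} (s : F.obj.obj (op U)) (t : F.obj.obj (op V)) : Set X :=
  {x | ∃ (hU : x ∈ U) (hV : x ∈ V),
    TopCat.Presheaf.germ F.obj U x hU s = TopCat.Presheaf.germ F.obj V x hV t}

lemma isOpen_E {U V : Opens X} (s : F.obj.obj (op U)) (t : F.obj.obj (op V)) :
    IsOpen (E F s t) := by
  rw [isOpen_iff_forall_mem_open]
  rintro x ⟨hU, hV, h⟩
  obtain ⟨W, hxW, iU, iV, e⟩ := TopCat.Presheaf.germ_eq F.obj x hU hV s t h
  refine ⟨W, ?_, W.isOpen, hxW⟩
  intro y hy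
  refine ⟨iU.le hy, iV.le hy, ?_⟩
  rw [← TopCat.Presheaf.germ_res_apply F.obj iU y hy s,
    ← TopCat.Presheaf.germ_res_apply F.obj iV y hy t, e]

lemma E_symm {U V : Opens X} (s : F.obj.obj (op U)) (t : F.obj.obj (op V)) {x : X}
    (h : x ∈ E F s t) : x ∈ E F t s := by
  obtain ⟨hU, hV, h⟩ := h
  exact ⟨hV, hU, h.symm⟩

lemma E_trans {U V W : Opens X} (s : F.obj.obj (op U)) (t : F.obj.obj (op V))
    (r : F.obj.obj (op W)) {x : X}
    (h : x ∈ E F s t) (h' : x ∈ E F t r) : x ∈ E F s r := by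
  obtain ⟨hU, hV, h⟩ := h
  obtain ⟨_, hW, h'⟩ := h'
  exact ⟨hU, hW, h.trans h'⟩

lemma E_refl {U : Opens X} (s : F.obj.obj (op U)) {x : X} (hx : x ∈ U) : x ∈ E F s s :=
  ⟨hx, hx, rfl⟩

variable (Z : Set X)

/-- the inclusion of the subspace -/
abbrev incl : TopCat.of Z ⟶ X := TopCat.ofHom ⟨(Subtype.val : Z → X), continuous_subtype_val⟩

/-- the pulled back sheaf -/
noncomputable abbrev pF : TopCat.Sheaf (Type u) (TopCat.of Z) :=
  (TopCat.Sheaf.pullback (Type u) (incl Z)).obj F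

lemma unit_injective (hne : ∀ x : X, (Z ∩ closure {x}).Nonempty) :
    Function.Injective (PullGermSet.ρ (incl Z) F ⊤) := by
  intro s₁ s₂ h
  apply TopCat.Presheaf.section_ext F
  intro x hx
  have hZE : ∀ z : Z, (z : X) ∈ E F s₁ s₂ := by
    intro z
    refine ⟨trivial, trivial, ?_⟩
    apply (PullGermSet.Φ_bijective (incl Z) F z).1
    have e1 := PullGermSet.germ_unit_apply (incl Z) F z ⊤ trivial s₁
    have e2 := PullGermSet.germ_unit_apply (incl Z) F z ⊤ trivial s₂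
    rw [h] at e1
    exact e1.trans e2.symm
  obtain ⟨z, hzZ, hzx⟩ := hne x
  have hxz : x ⤳ z := specializes_iff_mem_closure.mpr hzx
  obtain ⟨_, _, e⟩ := hxz.mem_open (isOpen_E F s₁ s₂) (hZE ⟨z, hzZ⟩)
  exact e


/-- local charts for a section of the pullback -/
lemma exists_chart [PrespectralSpace X]
    (σ : (pF F Z).obj.obj (op ((Opens.map (incl Z)).obj ⊤))) (z : Z) :
    ∃ (V : Opens X) (s : F.obj.obj (op V)), IsCompact (V : Set X) ∧ (z : X) ∈ V ∧
      ∀ (z' : Z) (h : (z' : X) ∈ V),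
        PullGermSet.Φ (incl Z) F z' (TopCat.Presheaf.germ F.obj V ((incl Z) z') h s) =
          TopCat.Presheaf.germ (pF F Z).obj ((Opens.map (incl Z)).obj ⊤) z' trivial σ := by
  obtain ⟨V, hzV, s, hs⟩ := PullGermSet.exists_local_rep (incl Z) F _ σ z trivial
  obtain ⟨W', hzW', iU, iV, e⟩ := TopCat.Presheaf.germ_eq (pF F Z).obj
    (U := (Opens.map (incl Z)).obj ⊤) (V := (Opens.map (incl Z)).obj V) z trivial hzV σ
    (PullGermSet.ρ (incl Z) F V s) hs
  obtain ⟨W'', hW''o, hW''⟩ := isOpen_induced_iff.mp W'.isOpen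
  have hzW'' : (z : X) ∈ W'' := by
    have : z ∈ (Subtype.val : Z → X) ⁻¹' W'' := by rw [hW'']; exact hzW'
    exact this
  obtain ⟨V', ⟨hV'o, hV'c⟩, hzV', hV'sub⟩ :=
    (PrespectralSpace.isTopologicalBasis (X := X)).exists_subset_of_mem_open
      (⟨hzV, hzW''⟩ : (z : X) ∈ (V : Set X) ∩ W'') (V.isOpen.inter hW''o)
  let V'o : Opens X := ⟨V', hV'o⟩
  have hle : V'o ≤ V := fun y hy => (hV'sub hy).1
  refine ⟨V'o, F.obj.map (homOfLE hle).op s, hV'c, hzV', ?_⟩
  intro z' hz'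
  have hz'W' : z' ∈ W' := by
    have : z' ∈ (Subtype.val : Z → X) ⁻¹' W'' := (hV'sub hz').2
    rw [hW''] at this
    exact this
  have e1 := TopCat.Presheaf.germ_res_apply F.obj (homOfLE hle) ((incl Z) z') hz' s
  rw [e1]
  have e2 := PullGermSet.germ_unit_apply (incl Z) F z' V (hle hz') s
  refine e2.trans ?_
  rw [← TopCat.Presheaf.germ_res_apply (pF F Z).obj iV z' hz'W', ← e,
    TopCat.Presheaf.germ_res_apply (pF F Z).obj iU z' hz'W']


/-- generalizations of points of `Z ∩ V` -/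
def G (V : Opens X) : Set X := {x | ∃ e ∈ Z ∩ (V : Set X), x ⤳ e}

lemma G_subset (V : Opens X) : G Z V ⊆ (V : Set X) := by
  rintro x ⟨e, ⟨-, heV⟩, hxe⟩
  exact hxe.mem_open V.isOpen heV

lemma isClosed_constructible_G [SpectralSpace X] (hZ : IsClosed Z) (V : Opens X)
    (hV : IsCompact (V : Set X)) : @IsClosed X (constructibleTopology X) (G Z V) := by
  have hc : IsCompact (Z ∩ (V : Set X)) := hV.inter_left hZ
  have : G Z V = ⋂₀ {U : Set X | IsOpen U ∧ IsCompact U ∧ Z ∩ (V : Set X) ⊆ U} :=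
    setOf_generalizations_eq_sInter hc
  rw [this]
  refine @isClosed_sInter X (constructibleTopology X) _ ?_
  rintro U ⟨hUo, hUc, -⟩
  exact (isClopen_constructibleTopology hUo hUc).1


section core

variable (σ : (pF F Z).obj.obj (op ((Opens.map (incl Z)).obj ⊤)))
  (V : Z → Opens X) (s : ∀ z : Z, F.obj.obj (op (V z)))
  (hΦ : ∀ (z z' : Z) (h : (z' : X) ∈ V z),
    PullGermSet.Φ (incl Z) F z' (TopCat.Presheaf.germ F.obj (V z) ((incl Z) z') h (s z)) =
      TopCat.Presheaf.germ (pF F Z).obj ((Opens.map (incl Z)).obj ⊤) z' trivial σ)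

include hΦ in
lemma keyFact (z k₁ k₂ : Z) (h₁ : (z : X) ∈ V k₁) (h₂ : (z : X) ∈ V k₂) :
    (z : X) ∈ E F (s k₁) (s k₂) := by
  refine ⟨h₁, h₂, ?_⟩
  apply (PullGermSet.Φ_bijective (incl Z) F z).1
  exact (hΦ k₁ z h₁).trans (hΦ k₂ z h₂).symm

include hΦ in
lemma claimB (hconn : ∀ x : X, IsConnected (Z ∩ closure {x}))
    (K : Finset Z) (hK : Z ⊆ ⋃ k ∈ K, (V k : Set X))
    (x : X) (k k' : Z) (hk : x ∈ G Z (V k)) (hk' : x ∈ G Z (V k')) :
    x ∈ E F (s k) (s k') := by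
  by_contra hcon
  obtain ⟨e, ⟨heZ, heV⟩, hxe⟩ := hk
  obtain ⟨e', ⟨he'Z, he'V⟩, hxe'⟩ := hk'
  have hxk : x ∈ V k := hxe.mem_open (V k).isOpen heV
  let u : Set X := ⋃ k₁ : {k₁ : Z // x ∈ E F (s k) (s k₁)}, (V k₁.1 : Set X)
  let v : Set X := ⋃ k₁ : {k₁ : Z // x ∈ V k₁ ∧ x ∉ E F (s k) (s k₁)}, (V k₁.1 : Set X)
  have hu : IsOpen u := isOpen_iUnion fun k₁ => (V k₁.1).isOpen
  have hv : IsOpen v := isOpen_iUnion fun k₁ => (V k₁.1).isOpen
  have hpre := (hconn x).isPreconnected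
  have hcov : Z ∩ closure {x} ⊆ u ∪ v := by
    rintro z ⟨hzZ, hzx⟩
    have hxz : x ⤳ z := specializes_iff_mem_closure.mpr hzx
    obtain ⟨k₁, hk₁K, hzk₁⟩ : ∃ k₁ ∈ K, z ∈ (V k₁ : Set X) := by
      have := hK hzZ
      simpa using this
    have hxk₁ : x ∈ V k₁ := hxz.mem_open (V k₁).isOpen hzk₁
    by_cases hE : x ∈ E F (s k) (s k₁)
    · exact Or.inl (Set.mem_iUnion.mpr ⟨⟨k₁, hE⟩, hzk₁⟩)
    · exact Or.inr (Set.mem_iUnion.mpr ⟨⟨k₁, hxk₁, hE⟩, hzk₁⟩)
  have hne_u : ((Z ∩ closure {x}) ∩ u).Nonempty :=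
    ⟨e, ⟨heZ, specializes_iff_mem_closure.mp hxe⟩,
      Set.mem_iUnion.mpr ⟨⟨k, E_refl F (s k) hxk⟩, heV⟩⟩
  have hne_v : ((Z ∩ closure {x}) ∩ v).Nonempty :=
    ⟨e', ⟨he'Z, specializes_iff_mem_closure.mp hxe'⟩,
      Set.mem_iUnion.mpr ⟨⟨k', hxe'.mem_open (V k').isOpen he'V, hcon⟩, he'V⟩⟩
  obtain ⟨z, ⟨hzZ, hzx⟩, hzu, hzv⟩ := hpre u v hu hv hcov hne_u hne_v
  obtain ⟨⟨k₁, hk₁⟩, hzk₁⟩ := Set.mem_iUnion.mp hzu
  obtain ⟨⟨k₂, hxk₂, hk₂⟩, hzk₂⟩ := Set.mem_iUnion.mp hzv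
  have hxz : x ⤳ z := specializes_iff_mem_closure.mpr hzx
  have h12 : x ∈ E F (s k₁) (s k₂) :=
    hxz.mem_open (isOpen_E F (s k₁) (s k₂)) (keyFact F Z σ V s hΦ ⟨z, hzZ⟩ k₁ k₂ hzk₁ hzk₂)
  exact hk₂ (E_trans F _ _ _ hk₁ h12)


/-- the locus where the chart `j` is correct -/
def N (K : Finset Z) (j : Z) : Set X :=
  (V j : Set X) ∩ ⋂ k ∈ K, ((G Z (V k))ᶜ ∪ E F (s j) (s k))

lemma claimA (hconn : ∀ x : X, IsConnected (Z ∩ closure {x}))
    (K : Finset Z) (hK : Z ⊆ ⋃ k ∈ K, (V k : Set X)) (x : X) :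
    ∃ k ∈ K, x ∈ G Z (V k) := by
  obtain ⟨z, hzZ, hzx⟩ := (hconn x).nonempty
  obtain ⟨k, hkK, hzk⟩ : ∃ k ∈ K, z ∈ (V k : Set X) := by
    have := hK hzZ
    simpa using this
  exact ⟨k, hkK, z, ⟨hzZ, hzk⟩, specializes_iff_mem_closure.mpr hzx⟩

include hΦ in
lemma claimC (hconn : ∀ x : X, IsConnected (Z ∩ closure {x}))
    (K : Finset Z) (hK : Z ⊆ ⋃ k ∈ K, (V k : Set X)) (j : Z) :
    G Z (V j) ⊆ N F Z V s K j := by
  intro x hx
  refine ⟨G_subset Z (V j) hx, ?_⟩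
  simp only [Set.mem_iInter]
  intro k _
  by_cases hk : x ∈ G Z (V k)
  · exact Or.inr (claimB F Z σ V s hΦ hconn K hK x j k hx hk)
  · exact Or.inl hk

include hΦ in
lemma isOpen_N [SpectralSpace X] (hZ : IsClosed Z) (hVc : ∀ z, IsCompact (V z : Set X))
    (hconn : ∀ x : X, IsConnected (Z ∩ closure {x}))
    (K : Finset Z) (hK : Z ⊆ ⋃ k ∈ K, (V k : Set X)) (j : Z) :
    IsOpen (N F Z V s K j) := by
  apply isOpen_of_isOpen_constructibleTopology_of_stableUnderGeneralization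
  · refine @IsOpen.inter X (constructibleTopology X) _ _
      (constructibleTopology_le _ (V j).isOpen) ?_
    refine @isOpen_biInter_finset X Z (constructibleTopology X) K _ ?_
    intro k _
    refine @IsOpen.union X _ _ (constructibleTopology X) ?_
      (constructibleTopology_le _ (isOpen_E F (s j) (s k)))
    exact @IsClosed.isOpen_compl X (constructibleTopology X) _
      (isClosed_constructible_G Z hZ (V k) (hVc k))
  · intro x' x hxx' hx'
    obtain ⟨hx'V, hx'I⟩ := hx'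
    refine ⟨hxx'.mem_open (V j).isOpen hx'V, ?_⟩
    simp only [Set.mem_iInter] at hx'I ⊢
    intro k _
    by_cases hk : x ∈ G Z (V k)
    · refine Or.inr ?_
      obtain ⟨k', hk'K, hx'k'⟩ := claimA Z V hconn K hK x'
      have h1 : x' ∈ E F (s j) (s k') := by
        rcases hx'I k' hk'K with h | h
        · exact absurd hx'k' h
        · exact h
      have h2 : x ∈ E F (s j) (s k') := hxx'.mem_open (isOpen_E F _ _) h1
      have hxk' : x ∈ G Z (V k') := by
        obtain ⟨e, he, hx'e⟩ := hx'k'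
        exact ⟨e, he, hxx'.trans hx'e⟩
      exact E_trans F _ _ _ h2 (claimB F Z σ V s hΦ hconn K hK x k' k hxk' hk)
    · exact Or.inl hk


end core

theorem unit_surjective [SpectralSpace X] (hZ : IsClosed Z)
    (hconn : ∀ x : X, IsConnected (Z ∩ closure {x})) :
    Function.Surjective (PullGermSet.ρ (incl Z) F ⊤) := by
  intro σ
  choose V s hVc hzV hΦ using exists_chart F Z σ
  obtain ⟨K, hK⟩ : ∃ K : Finset Z, Z ⊆ ⋃ k ∈ K, (V k : Set X) :=
    hZ.isCompact.elim_finite_subcover (fun z : Z => (V z : Set X)) (fun z => (V z).isOpen)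
      (fun z hz => Set.mem_iUnion.mpr ⟨⟨z, hz⟩, hzV ⟨z, hz⟩⟩)
  let No : Z → Opens X := fun j => ⟨N F Z V s K j, isOpen_N F Z σ V s hΦ hZ hVc hconn K hK j⟩
  have hNle : ∀ j, No j ≤ V j := fun j x hx => hx.1
  let sf : ∀ j, F.obj.obj (op (No j)) := fun j => F.obj.map (homOfLE (hNle j)).op (s j)
  have hgerm : ∀ (j : Z) (x : X) (hx : x ∈ No j),
      TopCat.Presheaf.germ F.obj (No j) x hx (sf j) =
        TopCat.Presheaf.germ F.obj (V j) x (hNle j hx) (s j) := by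
    intro j x hx
    exact TopCat.Presheaf.germ_res_apply F.obj (homOfLE (hNle j)) x hx (s j)
  have hcompat : TopCat.Presheaf.IsCompatible F.obj No sf := by
    intro j j'
    apply TopCat.Presheaf.section_ext F
    intro x hx
    have eL := (TopCat.Presheaf.germ_res_apply F.obj ((No j).infLELeft (No j')) x hx (sf j)).trans
      (hgerm j x hx.1)
    have eR := (TopCat.Presheaf.germ_res_apply F.obj ((No j).infLERight (No j')) x hx (sf j')).trans
      (hgerm j' x hx.2)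
    refine eL.trans (Eq.trans ?_ eR.symm)
    obtain ⟨k, hkK, hxk⟩ := claimA Z V hconn K hK x
    have h1 : x ∈ E F (s j) (s k) := by
      have := hx.1.2
      simp only [Set.mem_iInter] at this
      rcases this k hkK with h | h
      · exact absurd hxk h
      · exact h
    have h2 : x ∈ E F (s j') (s k) := by
      have := hx.2.2
      simp only [Set.mem_iInter] at this
      rcases this k hkK with h | h
      · exact absurd hxk h
      · exact h
    obtain ⟨_, _, e⟩ := E_trans F _ _ _ h1 (E_symm F _ _ h2)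
    exact e
  have hcover : (⊤ : Opens X) ≤ iSup No := by
    intro x _
    obtain ⟨k, hkK, hxk⟩ := claimA Z V hconn K hK x
    exact Opens.mem_iSup.mpr ⟨k, claimC F Z σ V s hΦ hconn K hK k hxk⟩
  obtain ⟨gl, hgl, -⟩ := F.existsUnique_gluing' No ⊤ (fun j => homOfLE le_top) hcover sf hcompat
  refine ⟨gl, ?_⟩
  apply TopCat.Presheaf.section_ext (pF F Z)
  intro z' hz'
  obtain ⟨k, hkK, hxk⟩ := claimA Z V hconn K hK (z' : X)
  have hzN : (z' : X) ∈ No k := claimC F Z σ V s hΦ hconn K hK k hxk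
  have e1 := PullGermSet.germ_unit_apply (incl Z) F z' ⊤ trivial gl
  refine e1.symm.trans ?_
  have e2 : TopCat.Presheaf.germ F.obj ⊤ ((incl Z) z') trivial gl =
      TopCat.Presheaf.germ F.obj (V k) ((incl Z) z') (hNle k hzN) (s k) := by
    have e3 := TopCat.Presheaf.germ_res_apply F.obj (homOfLE (le_top : No k ≤ ⊤))
      ((incl Z) z') hzN gl
    rw [hgl k] at e3
    exact e3.symm.trans (hgerm k _ hzN)
  rw [e2]
  exact hΦ k z' (hNle k hzN)

theorem unit_bijective [SpectralSpace X] (hZ : IsClosed Z)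
    (hconn : ∀ x : X, IsConnected (Z ∩ closure {x})) :
    Function.Bijective (PullGermSet.ρ (incl Z) F ⊤) :=
  ⟨unit_injective F Z (fun x => (hconn x).nonempty), unit_surjective F Z hZ hconn⟩

end

end Groth.Agent.Lib.helper27.SpecClosedSec
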