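import Mathlib
import Groth.Prelude.Def_CohTop
import Groth.Agent.Lib.Helper27.SpecLimD
import Groth.Agent.Lib.Helper27.RpushSheafify

set_option autoImplicit false
set_option backward.isDefEq.respectTransparency false
set_option linter.unusedVariables false
set_option linter.unusedSectionVars false

namespace Groth.Agent.Lib.helper27

open CategoryTheory Limits Opposite TopologicalSpace

universe u

namespace SpecLim

section stalk

variable {Y : TopCat.{u}} [PrespectralSpace Y] [QuasiSeparatedSpace Y] (y : Y)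

/-- compact open neighbourhoods of `y` -/
def nhdP : ObjectProperty (Opens Y)ᵒᵖ := fun V => y ∈ V.unop ∧ IsCompact (V.unop : Set Y)

instance : IsFiltered (nhdP y).FullSubcategory := by
  refine isFiltered_fullSubcategory (nhdP y) ?_ ?_
  · obtain ⟨K, ⟨hKo, hKc⟩, hyK, -⟩ := PrespectralSpace.isTopologicalBasis.exists_subset_of_mem_open
      (Set.mem_univ y) isOpen_univ
    exact ⟨op ⟨K, hKo⟩, hyK, hKc⟩
  · rintro U V ⟨hyU, hU⟩ ⟨hyV, hV⟩
    exact ⟨⟨hyU, hyV⟩,
      QuasiSeparatedSpace.inter_isCompact (U.unop : Set Y) (V.unop : Set Y) U.unop.2 hU V.unop.2 hV⟩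

/-- compact open neighbourhoods as neighbourhoods -/
def ψ : (nhdP y).FullSubcategory ⥤ (OpenNhds y)ᵒᵖ where
  obj V := op ⟨V.obj.unop, V.2.1⟩
  map {V V'} g := (homOfLE (leOfHom g.hom.unop) : (⟨V'.obj.unop, V'.2.1⟩ : OpenNhds y) ⟶
    ⟨V.obj.unop, V.2.1⟩).op

instance : (ψ y).Final := by
  refine Functor.final_of_exists_of_isFiltered _ ?_ ?_
  · intro N
    obtain ⟨K, ⟨hKo, hKc⟩, hyK, hKN⟩ := PrespectralSpace.isTopologicalBasis.exists_subset_of_mem_open
      N.unop.2 N.unop.1.2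
    exact ⟨⟨op ⟨K, hKo⟩, hyK, hKc⟩,
      ⟨(homOfLE hKN : (⟨⟨K, hKo⟩, hyK⟩ : OpenNhds y) ⟶ N.unop).op⟩⟩
  · intro N V s s'
    exact ⟨V, 𝟙 V, Subsingleton.elim _ _⟩

/-- the stalk of a presheaf is the colimit over compact open neighbourhoods -/
noncomputable def stalkIso (Q : (Opens Y)ᵒᵖ ⥤ AddCommGrpCat.{u}) :
    colimit ((nhdP y).ι ⋙ Q) ≅ TopCat.Presheaf.stalk Q y :=
  Functor.Final.colimitIso (ψ y) ((OpenNhds.inclusion y).op ⋙ Q)

end stalk

section rpush

variable {X Y : TopCat.{u}} [SpectralSpace X] [SpectralSpace Y] (f : X ⟶ Y)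
  (hf : IsSpectralMap f) (y : Y)

omit [SpectralSpace X] in
lemma mem_closure_iff_nhdP (x : X) :
    y ∈ closure {f x} ↔ ∀ l : (nhdP y).FullSubcategory, f x ∈ l.obj.unop := by
  constructor
  · intro h l
    obtain ⟨z, hzV, hz⟩ := mem_closure_iff.1 h l.obj.unop l.obj.unop.2 l.2.1
    rw [Set.mem_singleton_iff] at hz
    rw [← hz]
    exact hzV
  · intro h
    rw [mem_closure_iff]
    intro O hO hyO
    obtain ⟨K, ⟨hKo, hKc⟩, hyK, hKO⟩ :=
      PrespectralSpace.isTopologicalBasis.exists_subset_of_mem_open hyO hO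
    exact ⟨f x, hKO (h ⟨op ⟨K, hKo⟩, hyK, hKc⟩), rfl⟩

include hf in
/-- **S0884**: stalks of higher direct images along spectral maps -/
theorem stalk_Rpush (F : CohTop.Ab X) (p : ℕ) :
    Nonempty (CohTop.stalk ((CohTop.Rpush f p).obj F) y ≅
      AddCommGrpCat.of (CohTop.H ((CohTop.pull (incl {x : X | y ∈ closure {f x}})).obj F) p)) := by
  obtain ⟨e⟩ := RpushSheafify.rpush_iso_top f F p
  let Q : (Opens Y)ᵒᵖ ⥤ AddCommGrpCat.{u} := (Opens.map f).op ⋙ Sheaf.cohomologyPresheaf.{u} F p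
  let e1 : CohTop.stalk ((CohTop.Rpush f p).obj F) y ≅
      TopCat.Presheaf.stalk ((presheafToSheaf (Opens.grothendieckTopology Y)
        AddCommGrpCat.{u}).obj Q).obj y :=
    (TopCat.Presheaf.stalkFunctor AddCommGrpCat.{u} y).mapIso
      ((sheafToPresheaf _ _).mapIso e)
  have := TopCat.Presheaf.stalkFunctor_map_unit_toSheafify_isIso y AddCommGrpCat.{u} Q
  let e2 : TopCat.Presheaf.stalk Q y ≅ TopCat.Presheaf.stalk ((presheafToSheaf
      (Opens.grothendieckTopology Y) AddCommGrpCat.{u}).obj Q).obj y :=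
    asIso ((TopCat.Presheaf.stalkFunctor AddCommGrpCat.{u} y).map
      (toSheafify (Opens.grothendieckTopology Y) Q))
  let e3 := stalkIso y Q
  obtain ⟨e4⟩ := main ((nhdP y).ι ⋙ (Opens.map f).op)
    (fun l => hf.isCompact_preimage_of_isOpen l.obj.unop.2 l.2.2)
    {x : X | y ∈ closure {f x}} (fun x => mem_closure_iff_nhdP f y x) F p
  exact ⟨e1 ≪≫ e2.symm ≪≫ e3.symm ≪≫ e4⟩

end rpush

end SpecLim

end Groth.Agent.Lib.helper27
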