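import Groth.Prelude.Def_FibClv
import Mathlib
set_option autoImplicit false
set_option backward.isDefEq.respectTransparency false
set_option backward.isDefEq.respectTransparency.types false
set_option linter.unusedSectionVars false
set_option linter.style.haveILetI false
open CategoryTheory CategoryTheory.Functor CategoryTheory.Limits Opposite Pseudofunctor
universe v₁ v₂ u₁ u₂

namespace Groth.Agent.Lib.helper27.SplitCl
open FibCat

section gen
variable {𝒮 : Type u₁} [Category.{v₁} 𝒮] (F : 𝒮ᵒᵖ ⥤ Cat.{v₂, u₂})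

theorem id_obj_eq (U : 𝒮ᵒᵖ) (x : F.obj U) : x = (F.map (𝟙 U)).toFunctor.obj x := by
  rw [F.map_id]; rfl

theorem comp_obj_eq {U V W : 𝒮ᵒᵖ} (f : U ⟶ V) (g : V ⟶ W) (x : F.obj U) :
    (F.map g).toFunctor.obj ((F.map f).toFunctor.obj x) = (F.map (f ≫ g)).toFunctor.obj x := by
  rw [F.map_comp]; rfl

theorem id_fiber' (X : CoGrothendieck F.toPseudofunctor') :
    (𝟙 X : X ⟶ X).fiber = eqToHom (id_obj_eq F (op X.base) X.fiber) := by
  simp

theorem comp_fiber' {X Y Z : CoGrothendieck F.toPseudofunctor'} (f : X ⟶ Y) (g : Y ⟶ Z) :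
    (f ≫ g).fiber = f.fiber ≫ (F.map f.base.op).toFunctor.map g.fiber ≫
      eqToHom (comp_obj_eq F g.base.op f.base.op Z.fiber) := by
  simp
  rfl

end gen

variable {𝒮 : Type u₁} [Category.{v₁} 𝒮] {𝒳 : Type u₂} [Category.{v₂} 𝒳] {p : 𝒳 ⥤ 𝒮}
  (K : FibCat.Cleavage p) (hK : K.IsSplitting)

section A
include hK

theorem norm_obj {S : 𝒮} {a : 𝒳} (ha : p.obj a = S) : K.obj ha (𝟙 S) = a := by
  obtain ⟨h, -⟩ := hK.1 ha; exact h

theorem norm_lift {S : 𝒮} {a : 𝒳} (ha : p.obj a = S) : K.lift ha (𝟙 S) = eqToHom (norm_obj K hK ha) := by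
  obtain ⟨h, e⟩ := hK.1 ha; exact e

theorem split_obj {S T U : 𝒮} (f : T ⟶ S) (g : U ⟶ T) {a : 𝒳} (ha : p.obj a = S) :
    K.obj (K.obj_proj ha f) g = K.obj ha (g ≫ f) := by
  obtain ⟨h, -⟩ := hK.2 f g ha; exact h

theorem split_lift {S T U : 𝒮} (f : T ⟶ S) (g : U ⟶ T) {a : 𝒳} (ha : p.obj a = S) :
    K.lift (K.obj_proj ha f) g ≫ K.lift ha f = eqToHom (split_obj K hK f g ha) ≫ K.lift ha (g ≫ f) := by
  obtain ⟨h, e⟩ := hK.2 f g ha; exact e

theorem fiber_eqToHom {S : 𝒮} {a b : p.Fiber S} (h : a = b) :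
    Fiber.fiberInclusion.map (eqToHom h) = eqToHom (congrArg Subtype.val h) := by
  subst h; rfl

theorem inverseImage_id (S : 𝒮) : K.inverseImage (𝟙 S) = 𝟭 (p.Fiber S) := by
  refine CategoryTheory.Functor.ext (fun a => Subtype.ext (norm_obj K hK a.2)) (fun a b φ => ?_)
  apply Fiber.hom_ext
  rw [Cleavage.inverseImage_map]
  symm
  apply IsCartesian.map_uniq
  rw [Functor.map_comp, Functor.map_comp, fiber_eqToHom K hK, fiber_eqToHom K hK, norm_lift K hK, norm_lift K hK]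
  simp

theorem inverseImage_comp {S T U : 𝒮} (f : T ⟶ S) (g : U ⟶ T) :
    K.inverseImage (g ≫ f) = K.inverseImage f ⋙ K.inverseImage g := by
  refine CategoryTheory.Functor.ext (fun a => Subtype.ext (split_obj K hK f g a.2).symm) (fun a b φ => ?_)
  apply Fiber.hom_ext
  rw [Cleavage.inverseImage_map]
  symm
  apply IsCartesian.map_uniq
  rw [Functor.map_comp, Functor.map_comp, fiber_eqToHom K hK, fiber_eqToHom K hK]
  have e1 := split_lift K hK f g b.2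
  have e2 := split_lift K hK f g a.2
  simp only [Category.assoc, Functor.comp_map]
  rw [← e1, Cleavage.inverseImage_map, IsCartesian.fac_assoc, Cleavage.inverseImage_map]
  rw [Category.assoc, IsCartesian.fac, ← Category.assoc (K.lift _ g), e2]
  simp

end A

/-- the strict functor of fibres of a split cleavage -/
noncomputable def SF : 𝒮ᵒᵖ ⥤ Cat.{v₂, u₂} where
  obj S := Cat.of (p.Fiber S.unop)
  map {S T} f := (K.inverseImage f.unop).toCatHom
  map_id S := by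
    change (K.inverseImage (𝟙 S.unop)).toCatHom = _
    rw [inverseImage_id K hK]; rfl
  map_comp f g := by
    change (K.inverseImage (g.unop ≫ f.unop)).toCatHom = _
    rw [inverseImage_comp K hK]; rfl

noncomputable abbrev Tot := CoGrothendieck (SF K hK).toPseudofunctor'

variable {K hK}

noncomputable def fibO (X : Tot K hK) : p.Fiber X.base := X.fiber

noncomputable def fibH {X Y : Tot K hK} (m : X ⟶ Y) : fibO X ⟶ (K.inverseImage m.base).obj (fibO Y) := m.fiber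

theorem fibH_id (X : Tot K hK) : fibH (𝟙 X) = eqToHom (id_obj_eq (SF K hK) (op X.base) X.fiber) :=
  id_fiber' (SF K hK) X

theorem fibH_comp {X Y Z : Tot K hK} (m : X ⟶ Y) (n : Y ⟶ Z) :
    fibH (m ≫ n) = fibH m ≫ (K.inverseImage m.base).map (fibH n) ≫
      eqToHom (comp_obj_eq (SF K hK) n.base.op m.base.op Z.fiber) :=
  comp_fiber' (SF K hK) m n

noncomputable def ΨMap {X Y : Tot K hK} (m : X ⟶ Y) : (fibO X).1 ⟶ (fibO Y).1 :=
  Fiber.fiberInclusion.map (fibH m) ≫ K.lift (fibO Y).2 m.base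

theorem ΨMap_id (X : Tot K hK) : ΨMap (𝟙 X) = 𝟙 _ := by
  unfold ΨMap
  rw [fibH_id, fiber_eqToHom K hK]
  change _ ≫ K.lift (fibO X).2 (𝟙 X.base) = _
  rw [norm_lift K hK, eqToHom_trans, eqToHom_refl]

theorem ΨMap_comp {X Y Z : Tot K hK} (m : X ⟶ Y) (n : Y ⟶ Z) : ΨMap (m ≫ n) = ΨMap m ≫ ΨMap n := by
  unfold ΨMap
  rw [fibH_comp, Functor.map_comp, Functor.map_comp, fiber_eqToHom K hK, Cleavage.inverseImage_map]
  have e := split_lift K hK n.base m.base (fibO Z).2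
  change (_ ≫ _ ≫ eqToHom _) ≫ K.lift (fibO Z).2 (m.base ≫ n.base) = _
  simp only [Category.assoc]
  rw [← e, IsCartesian.fac_assoc]
  simp only [Category.assoc]

variable (K hK) in
noncomputable def Ψ : Tot K hK ⥤ 𝒳 where
  obj X := (fibO X).1
  map m := ΨMap m
  map_id := ΨMap_id
  map_comp := ΨMap_comp

/-- an object as an object of its fibre -/
def fx (x : 𝒳) : p.Fiber (p.obj x) := Fiber.mk (rfl : p.obj x = p.obj x)

/-- the fibre component of `Φ` on morphisms -/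
noncomputable def ΦFib {x y : 𝒳} (φ : x ⟶ y) :
    (fx x : p.Fiber (p.obj x)) ⟶ (K.inverseImage (p.map φ)).obj (fx y) :=
  ⟨IsCartesian.map p (p.map φ) (K.lift rfl (p.map φ)) φ, inferInstance⟩

variable (K hK) in
noncomputable def ΦObj (x : 𝒳) : Tot K hK := ⟨p.obj x, (fx x : p.Fiber (p.obj x))⟩

variable (K hK) in
noncomputable def ΦMap {x y : 𝒳} (φ : x ⟶ y) : ΦObj K hK x ⟶ ΦObj K hK y := ⟨p.map φ, ΦFib φ⟩

theorem base_eq_of_lift {R S : 𝒮} (f f' : R ⟶ S) {a b : 𝒳}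
    (m : a ⟶ b) (h : p.IsHomLift f m) (h' : p.IsHomLift f' m) : f = f' := by
  have e1 := IsHomLift.fac p f m
  have e2 := IsHomLift.fac p f' m
  exact e1.trans e2.symm

theorem ΨMap_lift {X Y : Tot K hK} (m : X ⟶ Y) : p.IsHomLift m.base (ΨMap m) := by
  unfold ΨMap
  have : p.IsHomLift (𝟙 X.base ≫ m.base)
      (Fiber.fiberInclusion.map (fibH m) ≫ K.lift (fibO Y).2 m.base) := inferInstance
  simpa using this

theorem Ψ_faithful {X Y : Tot K hK} (m n : X ⟶ Y) (h : ΨMap m = ΨMap n) : m = n := by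
  have hb : m.base = n.base := by
    have h1 := ΨMap_lift m
    have h2 := ΨMap_lift n
    rw [← h] at h2
    exact base_eq_of_lift _ _ _ h1 h2
  obtain ⟨f, μ⟩ := m
  obtain ⟨f', ν⟩ := n
  dsimp only at hb
  subst hb
  congr 1
  let M : fibO X ⟶ (K.inverseImage f).obj (fibO Y) := μ
  let N : fibO X ⟶ (K.inverseImage f).obj (fibO Y) := ν
  change Fiber.fiberInclusion.map M ≫ K.lift (fibO Y).2 f =
    Fiber.fiberInclusion.map N ≫ K.lift (fibO Y).2 f at h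
  have : M = N := by
    apply Fiber.hom_ext
    exact IsCartesian.ext p f (K.lift (fibO Y).2 f) _ _ h
  exact this

theorem ΨMap_ΦMap {x y : 𝒳} (φ : x ⟶ y) : ΨMap (ΦMap K hK φ) = φ :=
  IsCartesian.fac p (p.map φ) (K.lift rfl (p.map φ)) φ

theorem ΦMap_id (x : 𝒳) : ΦMap K hK (𝟙 x) = 𝟙 _ := by
  apply Ψ_faithful
  rw [ΨMap_ΦMap, ΨMap_id]
  rfl

theorem ΦMap_comp {x y z : 𝒳} (φ : x ⟶ y) (ψ : y ⟶ z) :
    ΦMap K hK (φ ≫ ψ) = ΦMap K hK φ ≫ ΦMap K hK ψ := by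
  apply Ψ_faithful
  rw [ΨMap_ΦMap, ΨMap_comp, ΨMap_ΦMap, ΨMap_ΦMap]

variable (K hK) in
noncomputable def Φ : 𝒳 ⥤ Tot K hK where
  obj x := ΦObj K hK x
  map φ := ΦMap K hK φ
  map_id := ΦMap_id
  map_comp := ΦMap_comp

theorem Φ_Ψ : Φ K hK ⋙ Ψ K hK = 𝟭 𝒳 := by
  refine CategoryTheory.Functor.ext (fun x => rfl) (fun x y φ => ?_)
  rw [eqToHom_refl, eqToHom_refl, Category.comp_id, Category.id_comp]
  exact ΨMap_ΦMap φ

theorem ΦObj_Ψ (X : Tot K hK) : ΦObj K hK ((Ψ K hK).obj X) = X := by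
  obtain ⟨S, a⟩ := X
  obtain ⟨a, ha⟩ : p.Fiber S := a
  subst ha
  rfl

theorem Ψ_Φ : Ψ K hK ⋙ Φ K hK = 𝟭 (Tot K hK) := by
  refine CategoryTheory.Functor.ext (fun X => ΦObj_Ψ X) (fun X Y m => ?_)
  apply Ψ_faithful
  change (Ψ K hK).map ((Φ K hK).map ((Ψ K hK).map m)) = (Ψ K hK).map (eqToHom _ ≫ m ≫ eqToHom _)
  have e : (Ψ K hK).map ((Φ K hK).map ((Ψ K hK).map m)) = (Ψ K hK).map m := ΨMap_ΦMap _
  rw [e, Functor.map_comp, Functor.map_comp, eqToHom_map, eqToHom_map]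
  have e1 : ∀ (Z : Tot K hK) (h : (Ψ K hK).obj (ΦObj K hK ((Ψ K hK).obj Z)) = (Ψ K hK).obj Z),
      eqToHom h = 𝟙 ((Ψ K hK).obj Z) := fun Z h => rfl
  have e2 : ∀ (Z : Tot K hK) (h : (Ψ K hK).obj Z = (Ψ K hK).obj (ΦObj K hK ((Ψ K hK).obj Z))),
      eqToHom h = 𝟙 ((Ψ K hK).obj Z) := fun Z h => rfl
  erw [e1 X, e2 Y]
  rw [Category.comp_id]
  exact (Category.id_comp _).symm

theorem Φ_forget : Φ K hK ⋙ CoGrothendieck.forget (SF K hK).toPseudofunctor' = p := rfl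

theorem main (K : FibCat.Cleavage p) (hK : K.IsSplitting) : ∃ (F : 𝒮ᵒᵖ ⥤ Cat.{v₂, u₂})
      (Φ' : 𝒳 ⥤ Pseudofunctor.CoGrothendieck F.toPseudofunctor')
      (Ψ' : Pseudofunctor.CoGrothendieck F.toPseudofunctor' ⥤ 𝒳),
      Φ' ⋙ Ψ' = 𝟭 𝒳 ∧ Ψ' ⋙ Φ' = 𝟭 _ ∧ Φ' ⋙ Pseudofunctor.CoGrothendieck.forget F.toPseudofunctor' = p :=
  ⟨SF K hK, Φ K hK, Ψ K hK, Φ_Ψ, Ψ_Φ, Φ_forget⟩

end Groth.Agent.Lib.helper27.SplitCl
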