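import Groth.Prelude.Def_FibClv
import Mathlib
import Groth.Agent.Lib.Helper27.SplitCl
set_option autoImplicit false
set_option backward.isDefEq.respectTransparency false
set_option backward.isDefEq.respectTransparency.types false
set_option linter.unusedSectionVars false
set_option linter.style.haveILetI false
open CategoryTheory CategoryTheory.Functor CategoryTheory.Limits Opposite Pseudofunctor
universe v₁ v₂ v₃ u₁ u₂ u₃

namespace Groth.Agent.Lib.helper27.SplitTr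
open FibCat

section transport

variable {𝒮 : Type u₁} [Category.{v₁} 𝒮] {𝒳 : Type u₂} [Category.{v₂} 𝒳]
  {𝒴 : Type u₃} [Category.{v₃} 𝒴] (q : 𝒴 ⥤ 𝒮)
  (Φ : 𝒳 ⥤ 𝒴) (Ψ : 𝒴 ⥤ 𝒳) (h₁ : Φ ⋙ Ψ = 𝟭 𝒳) (h₂ : Ψ ⋙ Φ = 𝟭 𝒴) (L : Cleavage q)

include h₁ h₂ in
lemma isEquivalence : Φ.IsEquivalence :=
  Functor.IsEquivalence.mk' Ψ (eqToIso h₁.symm) (eqToIso h₂)

lemma isCartesian_eqToHom_comp {a' a b : 𝒴} (h : a' = a) {R S : 𝒮} (f : R ⟶ S) (φ : a ⟶ b)
    [q.IsCartesian f φ] : q.IsCartesian f (eqToHom h ≫ φ) := by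
  subst h
  simpa

lemma lift_comp_iff {R S : 𝒮} {a b : 𝒳} (f : R ⟶ S) (φ : a ⟶ b) :
    (Φ ⋙ q).IsHomLift f φ ↔ q.IsHomLift f (Φ.map φ) := by
  constructor
  · intro h
    obtain ⟨⟩ := h
    exact IsHomLift.map q (Φ.map φ)
  · intro h
    exact IsHomLift.of_fac' (Φ ⋙ q) f φ (IsHomLift.domain_eq q f (Φ.map φ))
      (IsHomLift.codomain_eq q f (Φ.map φ)) (IsHomLift.fac' q f (Φ.map φ))

/-- cartesian morphisms are reflected by fully faithful functors over the base -/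
lemma isCartesian_of_map [Φ.Full] [Φ.Faithful] {R S : 𝒮} {a b : 𝒳} (f : R ⟶ S) (φ : a ⟶ b)
    [q.IsCartesian f (Φ.map φ)] : (Φ ⋙ q).IsCartesian f φ := by
  have h0 : (Φ ⋙ q).IsHomLift f φ := (lift_comp_iff q Φ f φ).2 inferInstance
  refine { toIsHomLift := h0, universal_property := ?_ }
  intro a' ψ hψ
  have hFψ : q.IsHomLift f (Φ.map ψ) := (lift_comp_iff q Φ f ψ).1 hψ
  obtain ⟨χ', ⟨hχ'1, hχ'2⟩, huniq⟩ :=
    IsCartesian.universal_property (p := q) (f := f) (φ := Φ.map φ) (Φ.map ψ)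
  refine ⟨Φ.preimage χ', ⟨?_, ?_⟩, ?_⟩
  · have : q.IsHomLift (𝟙 R) (Φ.map (Φ.preimage χ')) := by
      rw [Functor.map_preimage]; exact hχ'1
    exact (lift_comp_iff q Φ _ _).2 this
  · apply Φ.map_injective
    rw [Functor.map_comp, Functor.map_preimage, hχ'2]
  · rintro χ₂ ⟨h1, h2⟩
    apply Φ.map_injective
    rw [Functor.map_preimage]
    apply huniq
    refine ⟨(lift_comp_iff q Φ _ _).1 h1, ?_⟩
    rw [← Functor.map_comp, h2]

section tr

variable [Φ.Full] [Φ.Faithful]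

/-- the transported inverse image -/
def trObj {R S : 𝒮} {a : 𝒳} (ha : (Φ ⋙ q).obj a = S) (f : R ⟶ S) : 𝒳 :=
  Ψ.obj (L.obj (a := Φ.obj a) ha f)

include h₂ in
lemma Φ_trObj {R S : 𝒮} {a : 𝒳} (ha : (Φ ⋙ q).obj a = S) (f : R ⟶ S) :
    Φ.obj (trObj q Φ Ψ L ha f) = L.obj (a := Φ.obj a) ha f :=
  Functor.congr_obj h₂ _

/-- the transported lift -/
noncomputable def trLift {R S : 𝒮} {a : 𝒳} (ha : (Φ ⋙ q).obj a = S) (f : R ⟶ S) :
    trObj q Φ Ψ L ha f ⟶ a :=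
  Φ.preimage (eqToHom (Φ_trObj q Φ Ψ h₂ L ha f) ≫ L.lift (a := Φ.obj a) ha f)

lemma Φ_trLift {R S : 𝒮} {a : 𝒳} (ha : (Φ ⋙ q).obj a = S) (f : R ⟶ S) :
    Φ.map (trLift q Φ Ψ h₂ L ha f) =
      eqToHom (Φ_trObj q Φ Ψ h₂ L ha f) ≫ L.lift (a := Φ.obj a) ha f :=
  Functor.map_preimage _ _

/-- the transported cleavage -/
noncomputable def transport : Cleavage (Φ ⋙ q) where
  obj ha f := trObj q Φ Ψ L ha f
  lift ha f := trLift q Φ Ψ h₂ L ha f
  isCartesian ha f := by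
    haveI : q.IsCartesian f (Φ.map (trLift q Φ Ψ h₂ L ha f)) := by
      rw [Φ_trLift]
      exact isCartesian_eqToHom_comp q _ f _
    exact isCartesian_of_map q Φ f _

lemma L_congr {T U : 𝒮} {b b' : 𝒴} (e : b = b') (hb : q.obj b = T) (hb' : q.obj b' = T)
    (g : U ⟶ T) : ∃ h : L.obj hb g = L.obj hb' g,
      L.lift hb g ≫ eqToHom e = eqToHom h ≫ L.lift hb' g := by
  subst e
  exact ⟨rfl, by simp⟩

include h₁ in
lemma transport_isSplitting (hL : L.IsSplitting) : (transport q Φ Ψ h₂ L).IsSplitting := by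
  constructor
  · intro S a ha
    obtain ⟨h, e⟩ := @hL.1 S (Φ.obj a) ha
    refine ⟨(congrArg Ψ.obj h).trans (Functor.congr_obj h₁ a), ?_⟩
    apply Φ.map_injective
    show Φ.map (trLift q Φ Ψ h₂ L ha (𝟙 S)) = _
    rw [Φ_trLift, e, eqToHom_trans, eqToHom_map]
  · intro S T U f g a ha
    obtain ⟨hs, es⟩ := @hL.2 S T U f g (Φ.obj a) ha
    have hproj : (Φ ⋙ q).obj (trObj q Φ Ψ L ha f) = T := (transport q Φ Ψ h₂ L).obj_proj ha f
    obtain ⟨hc, ec⟩ := L_congr q L (Φ_trObj q Φ Ψ h₂ L ha f) hproj (L.obj_proj ha f) g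
    have hobj : trObj q Φ Ψ L hproj g = trObj q Φ Ψ L ha (g ≫ f) :=
      congrArg Ψ.obj (hc.trans hs)
    refine ⟨hobj, ?_⟩
    apply Φ.map_injective
    show Φ.map (trLift q Φ Ψ h₂ L hproj g ≫ trLift q Φ Ψ h₂ L ha f) =
      Φ.map (eqToHom hobj ≫ trLift q Φ Ψ h₂ L ha (g ≫ f))
    rw [Functor.map_comp, Functor.map_comp, Φ_trLift, Φ_trLift, Φ_trLift, eqToHom_map,
      Category.assoc, ← Category.assoc (L.lift _ g), ec, Category.assoc, es]
    simp only [eqToHom_trans_assoc]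

end tr

end transport

section coG

open Groth.Agent.Lib.helper27.SplitCl

variable {𝒮 : Type u₁} [Category.{v₁} 𝒮] (F : 𝒮ᵒᵖ ⥤ Cat.{v₂, u₂})

lemma eqToHom_base {X Y : CoGrothendieck F.toPseudofunctor'} (h : X = Y) :
    (eqToHom h).base = eqToHom (congrArg CoGrothendieck.base h) := by
  subst h
  rfl

lemma eqToHom_fiber {X Y : CoGrothendieck F.toPseudofunctor'} (h : X = Y) :
    (eqToHom h : X ⟶ Y).fiber = eqToHom (by subst h; exact id_obj_eq F (op X.base) X.fiber) := by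
  subst h
  exact id_fiber' F X

theorem ofCoG_isSplitting : (Cleavage.ofCoGrothendieck F.toPseudofunctor').IsSplitting := by
  constructor
  · intro S a ha
    subst ha
    have hobj : (Cleavage.ofCoGrothendieck F.toPseudofunctor').obj (a := a) rfl
        (𝟙 ((CoGrothendieck.forget F.toPseudofunctor').obj a)) = a := by
      apply CoGrothendieck.ext
      · rfl
      · apply heq_of_eq
        show (F.map (𝟙 _ ≫ eqToHom _).op).toFunctor.obj a.fiber = a.fiber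
        simp
    refine ⟨hobj, ?_⟩
    apply CoGrothendieck.Hom.ext
    case hfg₁ =>
      rw [eqToHom_base]
      show 𝟙 _ ≫ eqToHom _ = _
      simp
      rfl
    case hfg₂ =>
      rw [eqToHom_fiber]
      show 𝟙 _ = _
      simp
      rfl
  · intro S T U f g a ha
    subst ha
    have hobj : (Cleavage.ofCoGrothendieck F.toPseudofunctor').obj
        ((Cleavage.ofCoGrothendieck F.toPseudofunctor').obj_proj (a := a) rfl f) g =
        (Cleavage.ofCoGrothendieck F.toPseudofunctor').obj (a := a) rfl (g ≫ f) := by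
      apply CoGrothendieck.ext
      · rfl
      · apply heq_of_eq
        show (F.map (g ≫ 𝟙 T).op).toFunctor.obj ((F.map (f ≫ 𝟙 _).op).toFunctor.obj a.fiber) =
          (F.map ((g ≫ f) ≫ 𝟙 _).op).toFunctor.obj a.fiber
        simp only [Category.comp_id]
        exact comp_obj_eq F f.op g.op a.fiber
    refine ⟨hobj, ?_⟩
    apply CoGrothendieck.Hom.ext
    case hfg₁ =>
      rw [CoGrothendieck.categoryStruct_comp_base, CoGrothendieck.categoryStruct_comp_base,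
        eqToHom_base]
      show (g ≫ 𝟙 T) ≫ (f ≫ 𝟙 _) = 𝟙 U ≫ ((g ≫ f) ≫ 𝟙 _)
      simp
    case hfg₂ =>
      rw [comp_fiber', comp_fiber', eqToHom_fiber]
      show 𝟙 _ ≫ (F.map _).toFunctor.map (𝟙 _) ≫ eqToHom _ =
        (eqToHom _ ≫ (F.map _).toFunctor.map (𝟙 _) ≫ eqToHom _) ≫ eqToHom _
      simp

end coG

theorem main {𝒮 : Type u₁} [Category.{v₁} 𝒮] {𝒳 : Type u₂} [Category.{v₂} 𝒳]
    (p : 𝒳 ⥤ 𝒮) (F : 𝒮ᵒᵖ ⥤ Cat.{v₂, u₂})
    (Φ : 𝒳 ⥤ Pseudofunctor.CoGrothendieck F.toPseudofunctor')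
    (Ψ : Pseudofunctor.CoGrothendieck F.toPseudofunctor' ⥤ 𝒳)
    (h₁ : Φ ⋙ Ψ = 𝟭 𝒳) (h₂ : Ψ ⋙ Φ = 𝟭 _)
    (h₃ : Φ ⋙ Pseudofunctor.CoGrothendieck.forget F.toPseudofunctor' = p) :
    ∃ K : FibCat.Cleavage p, K.IsSplitting := by
  subst h₃
  haveI := isEquivalence Φ Ψ h₁ h₂
  exact ⟨transport (CoGrothendieck.forget F.toPseudofunctor') Φ Ψ h₂
      (Cleavage.ofCoGrothendieck F.toPseudofunctor'),
    transport_isSplitting _ Φ Ψ h₁ h₂ _ (ofCoG_isSplitting F)⟩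

end Groth.Agent.Lib.helper27.SplitTr
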