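import Groth.Agent.Lib.Helper27.StkElem1
import Groth.Agent.S12801
import Groth.Agent.S6416
set_option autoImplicit false
set_option backward.isDefEq.respectTransparency false
set_option backward.isDefEq.respectTransparency.types false
set_option linter.unusedSectionVars false
set_option linter.style.haveILetI false
open CategoryTheory CategoryTheory.Functor CategoryTheory.Limits
universe v₄ u₄ v₃ u₃ v₂ u₂ v u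

namespace Groth.Agent.Lib.helper27.StkComp
open Groth.Agent.FibEquiv Groth.Agent.FibFiberwise Groth.Agent.FibFpProj Groth.Agent.FibYoneda
open Groth.Agent.Lib.helper4 Groth.Agent.Lib.helper27.StkElem1

section plain
variable {C : Type u} [Category.{v} C] {E : Type u₂} [Category.{v₂} E] {B : Type u₃} [Category.{v₃} B]
  (q : B ⥤ E) (p : E ⥤ C)

theorem comp_lift_of {V W : C} (g : V ⟶ W) {y y' : B} (a : y ⟶ y') (h : p.IsHomLift g (q.map a)) :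
    (q ⋙ p).IsHomLift g a := by
  have h1 := IsHomLift.domain_eq p g (q.map a)
  have h2 := IsHomLift.codomain_eq p g (q.map a)
  exact IsHomLift.of_fac' _ _ _ h1 h2 (IsHomLift.fac' p g (q.map a))

theorem lift_of_comp {V W : C} (g : V ⟶ W) {y y' : B} (a : y ⟶ y') (h : (q ⋙ p).IsHomLift g a) :
    p.IsHomLift g (q.map a) := by
  have h1 := IsHomLift.domain_eq (q ⋙ p) g a
  have h2 := IsHomLift.codomain_eq (q ⋙ p) g a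
  exact IsHomLift.of_fac' _ _ _ h1 h2 (IsHomLift.fac' (q ⋙ p) g a)

theorem comp_lift_of' {V W : C} (g : V ⟶ W) {x x' : E} (ξ : x ⟶ x') {y y' : B} (a : y ⟶ y')
    (h : p.IsHomLift g ξ) (h' : q.IsHomLift ξ a) : (q ⋙ p).IsHomLift g a := by
  apply comp_lift_of
  have h1 := IsHomLift.domain_eq q ξ a
  have h2 := IsHomLift.codomain_eq q ξ a
  subst h1 h2
  have : q.map a = ξ := by simpa using IsHomLift.fac' q ξ a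
  rw [this]; exact h

/-- `q.map m` with the source transported along an equality -/
def qmap {x' : E} {y' y : B} (hd : q.obj y' = x') (m : y' ⟶ y) : x' ⟶ q.obj y := eqToHom hd.symm ≫ q.map m

theorem qmap_isHomLift {x' : E} {y' y : B} (hd : q.obj y' = x') (m : y' ⟶ y) : q.IsHomLift (qmap q hd m) m := by
  subst hd
  simp only [qmap, eqToHom_refl, Category.id_comp]
  infer_instance

theorem qmap_lift {V W : C} (g : V ⟶ W) {x' : E} {y' y : B} (hd : q.obj y' = x') (m : y' ⟶ y)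
    (h : (q ⋙ p).IsHomLift g m) : p.IsHomLift g (qmap q hd m) := by
  subst hd
  simp only [qmap, eqToHom_refl, Category.id_comp]
  exact lift_of_comp q p g m h

theorem qmap_comp {x' x'' : E} {y'' y' y : B} (hd' : q.obj y' = x') (hd'' : q.obj y'' = x'') (κ : x'' ⟶ x')
    (κh : y'' ⟶ y') (hκ : q.IsHomLift κ κh) (m : y' ⟶ y) : qmap q hd'' (κh ≫ m) = κ ≫ qmap q hd' m := by
  subst hd' hd''
  have : q.map κh = κ := by simpa using IsHomLift.fac' q κ κh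
  simp only [qmap, eqToHom_refl, Category.id_comp, Functor.map_comp, this]

theorem qmap_eq_of_lift {x' : E} {y' y : B} (hd : q.obj y' = x') (m : y' ⟶ y) (ξ : x' ⟶ q.obj y)
    (h : q.IsHomLift ξ m) : qmap q hd m = ξ := by
  subst hd
  have : q.map m = ξ := by simpa using IsHomLift.fac' q ξ m
  simp only [qmap, eqToHom_refl, Category.id_comp, this]

end plain


section main
variable {C : Type u} [Category.{v} C] (J : GrothendieckTopology C) {𝒳 : BasedCategory.{v₂, u₂} C}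
  (𝒴 : BasedCategory.{v₃, u₃} 𝒳.obj)

/-- `𝒴` as a category over `C` -/
abbrev compB : BasedCategory.{v₃, u₃} C := BasedCategory.ofFunctor (𝒴.p ⋙ 𝒳.p)

theorem mem_K (h𝒳 : FibCat.IsFibGrpd 𝒳.p) {x : 𝒳.obj} (R : Sieve (𝒳.p.obj x)) (hR : R ∈ J (𝒳.p.obj x)) :
    Sieve.functorPullback 𝒳.p R ∈ 𝒳.p.restrictedTopology J x := by
  rw [Groth.Agent.S12801.main 𝒳.p h𝒳 J]
  refine J.superset_covering ?_ hR
  intro V' f hf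
  obtain ⟨x', χ, hχ⟩ := h𝒳.exists_lift (x := x) f
  have hd := IsHomLift.domain_eq 𝒳.p f χ
  subst hd
  have e : 𝒳.p.map χ = f := by simpa using IsHomLift.fac' 𝒳.p f χ
  refine ⟨x', χ, 𝟙 _, ?_, by simp [e]⟩
  change R (𝒳.p.map χ)
  rw [e]; exact hf

variable {J} {𝒴}

theorem sep_comp (h𝒳 : Stk.IsStack J 𝒳) (h𝒴 : Stk.IsStack (𝒳.p.restrictedTopology J) 𝒴)
    ⦃V : C⦄ (R : Sieve V) (hR : R ∈ J V) : SepFor (compB 𝒴) R := by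
  obtain ⟨sep𝒳, -, -⟩ := elem_of_isStack J h𝒳
  obtain ⟨sep𝒴, -, -⟩ := elem_of_isStack _ h𝒴
  intro W g y₁ y₂ a b ha hb hloc
  have ha' : (𝒴.p ⋙ 𝒳.p).IsHomLift g a := ha
  have hb' : (𝒴.p ⋙ 𝒳.p).IsHomLift g b := hb
  have hV : 𝒳.p.obj (𝒴.p.obj y₁) = V := IsHomLift.domain_eq (𝒴.p ⋙ 𝒳.p) g a
  subst hV
  have hqa := lift_of_comp 𝒴.p 𝒳.p g a ha
  have hqb := lift_of_comp 𝒴.p 𝒳.p g b hb
  have hq : 𝒴.p.map a = 𝒴.p.map b := by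
    apply sep𝒳 R hR g _ _ hqa hqb
    intro V' f hf
    obtain ⟨y', χ, hχ, e⟩ := hloc f hf
    refine ⟨𝒴.p.obj y', 𝒴.p.map χ, lift_of_comp 𝒴.p 𝒳.p f χ hχ, ?_⟩
    rw [← 𝒴.p.map_comp, ← 𝒴.p.map_comp, e]
  have hb'' : 𝒴.p.IsHomLift (𝒴.p.map a) b := by rw [hq]; infer_instance
  apply sep𝒴 (Sieve.functorPullback 𝒳.p R) (mem_K J h𝒳.1 R hR) (𝒴.p.map a) a b inferInstance hb''
  intro x' ξ hξ
  obtain ⟨y'', χ, hχ, e⟩ := hloc (𝒳.p.map ξ) hξ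
  have hqχ := lift_of_comp 𝒴.p 𝒳.p _ χ hχ
  let ι : x' ⟶ 𝒴.p.obj y'' := lift h𝒳.1 (𝒳.p.map ξ) (𝒴.p.map χ) hqχ (𝟙 _) (𝒳.p.map ξ) (by simp) ξ inferInstance
  have hι : ι ≫ 𝒴.p.map χ = ξ := lift_comp h𝒳.1 (𝒳.p.map ξ) (𝒴.p.map χ) hqχ (𝟙 _) (𝒳.p.map ξ) (by simp) ξ inferInstance
  obtain ⟨y', ιh, hιh⟩ := h𝒴.1.exists_lift (x := y'') ι
  refine ⟨y', ιh ≫ χ, ?_, by rw [Category.assoc, Category.assoc, e]⟩
  have : 𝒴.p.IsHomLift (ι ≫ 𝒴.p.map χ) (ιh ≫ χ) := inferInstance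
  rwa [hι] at this


theorem glue_comp (h𝒳 : Stk.IsStack J 𝒳) (h𝒴 : Stk.IsStack (𝒳.p.restrictedTopology J) 𝒴)
    ⦃V : C⦄ (R : Sieve V) (hR : R ∈ J V) : GlueFor (compB 𝒴) R := by
  obtain ⟨-, glue𝒳, -⟩ := elem_of_isStack J h𝒳
  obtain ⟨-, glue𝒴, -⟩ := elem_of_isStack _ h𝒴
  intro W g y₁ y₂ hV hW φ hφ hc
  change 𝒳.p.obj (𝒴.p.obj y₁) = V at hV
  change 𝒳.p.obj (𝒴.p.obj y₂) = W at hW
  subst hV hW
  have φ_congr : ∀ ⦃V' : C⦄ (f₁ f₂ : V' ⟶ 𝒳.p.obj (𝒴.p.obj y₁)) (e : f₁ = f₂) (hf₁ : R f₁) (hf₂ : R f₂)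
      (y' : 𝒴.obj) (χ₁ χ₂ : y' ⟶ y₁) (e' : χ₁ = χ₂) (h₁ : (compB 𝒴).p.IsHomLift f₁ χ₁)
      (h₂ : (compB 𝒴).p.IsHomLift f₂ χ₂), φ f₁ hf₁ y' χ₁ h₁ = φ f₂ hf₂ y' χ₂ h₂ := by
    intro V' f₁ f₂ e hf₁ hf₂ y' χ₁ χ₂ e' h₁ h₂; subst e e'; rfl
  have hex := fun (x' : 𝒳.obj) (ξ : x' ⟶ 𝒴.p.obj y₁) => h𝒴.1.exists_lift (x := y₁) ξ
  choose Y' H hH using hex
  have hHd : ∀ x' ξ, 𝒴.p.obj (Y' x' ξ) = x' := fun x' ξ => IsHomLift.domain_eq 𝒴.p ξ (H x' ξ)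
  have hHl : ∀ ⦃V' : C⦄ (f : V' ⟶ 𝒳.p.obj (𝒴.p.obj y₁)) (x' : 𝒳.obj) (ξ : x' ⟶ 𝒴.p.obj y₁)
      (hξ : 𝒳.p.IsHomLift f ξ), (compB 𝒴).p.IsHomLift f (H x' ξ) :=
    fun V' f x' ξ hξ => comp_lift_of' 𝒴.p 𝒳.p f ξ (H x' ξ) hξ (hH x' ξ)
  obtain ⟨h, hh, hhφ⟩ := glue𝒳 R hR g (𝒴.p.obj y₁) (𝒴.p.obj y₂) rfl rfl
    (fun V' f hf x' ξ hξ => qmap 𝒴.p (hHd x' ξ) (φ f hf (Y' x' ξ) (H x' ξ) (hHl f x' ξ hξ)))
    (fun V' f hf x' ξ hξ => qmap_lift 𝒴.p 𝒳.p (f ≫ g) (hHd x' ξ) _ (hφ f hf _ _ _))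
    (fun V' f hf x' ξ hξ V'' f' x'' κ hκ h' => by
      have h1 := hH x' ξ
      have h2 := hH x'' (κ ≫ ξ)
      have hκh : 𝒴.p.IsHomLift κ (lift h𝒴.1 ξ (H x' ξ) h1 κ (κ ≫ ξ) rfl (H x'' (κ ≫ ξ)) h2) :=
        lift_isHomLift h𝒴.1 ξ (H x' ξ) h1 κ (κ ≫ ξ) rfl (H x'' (κ ≫ ξ)) h2
      have cκh : lift h𝒴.1 ξ (H x' ξ) h1 κ (κ ≫ ξ) rfl (H x'' (κ ≫ ξ)) h2 ≫ H x' ξ = H x'' (κ ≫ ξ) :=
        lift_comp h𝒴.1 ξ (H x' ξ) h1 κ (κ ≫ ξ) rfl (H x'' (κ ≫ ξ)) h2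
      have hκh' : (compB 𝒴).p.IsHomLift f' (lift h𝒴.1 ξ (H x' ξ) h1 κ (κ ≫ ξ) rfl (H x'' (κ ≫ ξ)) h2) :=
        comp_lift_of' 𝒴.p 𝒳.p f' κ _ hκ hκh
      have h3 : (compB 𝒴).p.IsHomLift (f' ≫ f)
          (lift h𝒴.1 ξ (H x' ξ) h1 κ (κ ≫ ξ) rfl (H x'' (κ ≫ ξ)) h2 ≫ H x' ξ) := by
        rw [cκh]; exact hHl _ _ _ h'
      have e1 := hc f hf (Y' x' ξ) (H x' ξ) (hHl f x' ξ hξ) f' (Y' x'' (κ ≫ ξ)) _ hκh' h3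
      rw [φ_congr (f' ≫ f) (f' ≫ f) rfl (R.downward_closed hf f') (R.downward_closed hf f') _ (H x'' (κ ≫ ξ)) _ cκh.symm _ h3, e1]
      exact qmap_comp 𝒴.p (hHd x' ξ) (hHd x'' (κ ≫ ξ)) κ _ hκh _)
  obtain ⟨a, ha, haφ⟩ := glue𝒴 (Sieve.functorPullback 𝒳.p R) (mem_K J h𝒳.1 R hR) h y₁ y₂ rfl rfl
    (fun x' ξ hξ y' χ hχ => φ (𝒳.p.map ξ) hξ y' χ (comp_lift_of' 𝒴.p 𝒳.p _ ξ χ inferInstance hχ))
    (fun x' ξ hξ y' χ hχ => by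
      have hξl : 𝒳.p.IsHomLift (𝒳.p.map ξ) ξ := inferInstance
      have e0 := hhφ (𝒳.p.map ξ) hξ x' ξ hξl
      have hι : 𝒴.p.IsHomLift (𝟙 x') (lift h𝒴.1 ξ (H x' ξ) (hH x' ξ) (𝟙 x') ξ (by simp) χ hχ) :=
        lift_isHomLift h𝒴.1 ξ (H x' ξ) (hH x' ξ) (𝟙 x') ξ (by simp) χ hχ
      have cι : lift h𝒴.1 ξ (H x' ξ) (hH x' ξ) (𝟙 x') ξ (by simp) χ hχ ≫ H x' ξ = χ :=
        lift_comp h𝒴.1 ξ (H x' ξ) (hH x' ξ) (𝟙 x') ξ (by simp) χ hχ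
      have hι' : (compB 𝒴).p.IsHomLift (𝟙 (𝒳.p.obj x'))
          (lift h𝒴.1 ξ (H x' ξ) (hH x' ξ) (𝟙 x') ξ (by simp) χ hχ) :=
        comp_lift_of' 𝒴.p 𝒳.p (𝟙 _) (𝟙 x') _ (IsHomLift.id rfl) hι
      have h3 : (compB 𝒴).p.IsHomLift (𝟙 (𝒳.p.obj x') ≫ 𝒳.p.map ξ)
          (lift h𝒴.1 ξ (H x' ξ) (hH x' ξ) (𝟙 x') ξ (by simp) χ hχ ≫ H x' ξ) := by
        rw [cι, Category.id_comp]; exact comp_lift_of' 𝒴.p 𝒳.p _ ξ χ inferInstance hχ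
      have e1 := hc (𝒳.p.map ξ) hξ (Y' x' ξ) (H x' ξ) (hHl _ x' ξ hξl) (𝟙 _) y' _ hι' h3
      have e2 : φ (𝒳.p.map ξ) hξ y' χ (comp_lift_of' 𝒴.p 𝒳.p _ ξ χ inferInstance hχ) =
          φ (𝟙 (𝒳.p.obj x') ≫ 𝒳.p.map ξ) (R.downward_closed hξ _) y' _ h3 :=
        φ_congr _ _ (by simp) _ _ _ _ _ cι.symm _ _
      rw [e2, e1]
      have h4 := qmap_isHomLift 𝒴.p (hHd x' ξ) (φ (𝒳.p.map ξ) hξ (Y' x' ξ) (H x' ξ) (hHl _ x' ξ hξl))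
      rw [← e0] at h4
      exact isHomLift_comp' (𝟙 _) _ _ (by simp) _ _ hι h4)
    (fun x' ξ hξ y' χ hχ x'' κ y'' κh hκh h' => by
      have h3 : (compB 𝒴).p.IsHomLift (𝒳.p.map κ ≫ 𝒳.p.map ξ) (κh ≫ χ) := by
        rw [← 𝒳.p.map_comp]; exact comp_lift_of' 𝒴.p 𝒳.p _ (κ ≫ ξ) _ inferInstance h'
      have e1 := hc (𝒳.p.map ξ) hξ y' χ (comp_lift_of' 𝒴.p 𝒳.p _ ξ χ inferInstance hχ) (𝒳.p.map κ) y'' κh
        (comp_lift_of' 𝒴.p 𝒳.p _ κ κh inferInstance hκh) h3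
      rw [← e1]
      exact φ_congr _ _ (𝒳.p.map_comp κ ξ) _ _ _ _ _ rfl _ _)
  refine ⟨a, comp_lift_of' 𝒴.p 𝒳.p g h a hh ha, ?_⟩
  intro V' f hf y' χ hχ
  have hχ' : (𝒴.p ⋙ 𝒳.p).IsHomLift f χ := hχ
  have hd : 𝒳.p.obj (𝒴.p.obj y') = V' := IsHomLift.domain_eq (𝒴.p ⋙ 𝒳.p) f χ
  subst hd
  have e : 𝒳.p.map (𝒴.p.map χ) = f := by simpa using IsHomLift.fac' (𝒴.p ⋙ 𝒳.p) f χ
  subst e
  rw [haφ (𝒴.p.map χ) hf y' χ inferInstance]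

end main

section eff
variable {C : Type u} [Category.{v} C] {𝒳 : BasedCategory.{v₂, u₂} C} {𝒴 : BasedCategory.{v₃, u₃} 𝒳.obj}
  (h𝒳g : FibCat.IsFibGrpd 𝒳.p) (h𝒴g : FibCat.IsFibGrpd 𝒴.p) {x : 𝒳.obj} {R : Sieve (𝒳.p.obj x)}
  (D : Stk.sieveCat R ⥤ᵇ compB 𝒴)
  (l : ∀ s : (Stk.sieveCat R).obj, 𝒴.p.obj (D.toFunctor.obj s) ⟶ x)
  (hl : ∀ s, 𝒳.p.IsHomLift s.obj.hom (l s))
  (hc : ∀ ⦃s t : (Stk.sieveCat R).obj⦄ (k : s ⟶ t), 𝒴.p.map (D.toFunctor.map k) ≫ l t = l s)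

/-- the index in `R` under an index in the pulled back sieve -/
def sOf (σ : (Stk.sieveCat (Sieve.functorPullback 𝒳.p R)).obj) : (Stk.sieveCat R).obj :=
  ⟨Over.mk (𝒳.p.map σ.obj.hom), σ.property⟩

def sMap {σ' σ : (Stk.sieveCat (Sieve.functorPullback 𝒳.p R)).obj} (m : σ' ⟶ σ) : sOf σ' ⟶ sOf σ :=
  ObjectProperty.homMk (Over.homMk (𝒳.p.map m.hom.left) (by
    change 𝒳.p.map m.hom.left ≫ 𝒳.p.map σ.obj.hom = 𝒳.p.map σ'.obj.hom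
    rw [← 𝒳.p.map_comp, Over.w m.hom]))

theorem sMap_id (σ : (Stk.sieveCat (Sieve.functorPullback 𝒳.p R)).obj) : sMap (𝟙 σ) = 𝟙 (sOf σ) := by
  apply ObjectProperty.hom_ext
  ext
  change 𝒳.p.map (𝟙 σ.obj.left) = 𝟙 _
  simp

theorem sMap_comp {σ'' σ' σ : (Stk.sieveCat (Sieve.functorPullback 𝒳.p R)).obj} (m' : σ'' ⟶ σ') (m : σ' ⟶ σ) :
    sMap (m' ≫ m) = sMap m' ≫ sMap m := by
  apply ObjectProperty.hom_ext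
  ext
  change 𝒳.p.map (m'.hom.left ≫ m.hom.left) = 𝒳.p.map m'.hom.left ≫ 𝒳.p.map m.hom.left
  simp

include h𝒳g in
theorem qD_map_lift {s t : (Stk.sieveCat R).obj} (k : s ⟶ t) :
    𝒳.p.IsHomLift k.hom.left (𝒴.p.map (D.toFunctor.map k)) :=
  lift_of_comp 𝒴.p 𝒳.p _ _ (sieve_map_isHomLift D k)

noncomputable def iOf (σ : (Stk.sieveCat (Sieve.functorPullback 𝒳.p R)).obj) :
    σ.obj.left ⟶ 𝒴.p.obj (D.toFunctor.obj (sOf σ)) :=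
  lift h𝒳g (𝒳.p.map σ.obj.hom) (l (sOf σ)) (hl (sOf σ)) (𝟙 _) (𝒳.p.map σ.obj.hom) (by simp) σ.obj.hom inferInstance

theorem iOf_lift (σ : (Stk.sieveCat (Sieve.functorPullback 𝒳.p R)).obj) :
    𝒳.p.IsHomLift (𝟙 (𝒳.p.obj σ.obj.left)) (iOf h𝒳g D l hl σ) :=
  lift_isHomLift h𝒳g (𝒳.p.map σ.obj.hom) (l (sOf σ)) (hl (sOf σ)) (𝟙 _) (𝒳.p.map σ.obj.hom) (by simp) σ.obj.hom
    inferInstance

theorem iOf_comp (σ : (Stk.sieveCat (Sieve.functorPullback 𝒳.p R)).obj) :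
    iOf h𝒳g D l hl σ ≫ l (sOf σ) = σ.obj.hom :=
  lift_comp h𝒳g (𝒳.p.map σ.obj.hom) (l (sOf σ)) (hl (sOf σ)) (𝟙 _) (𝒳.p.map σ.obj.hom) (by simp) σ.obj.hom
    inferInstance

include hc in
theorem iOf_nat {σ' σ : (Stk.sieveCat (Sieve.functorPullback 𝒳.p R)).obj} (m : σ' ⟶ σ) :
    iOf h𝒳g D l hl σ' ≫ 𝒴.p.map (D.toFunctor.map (sMap m)) = m.hom.left ≫ iOf h𝒳g D l hl σ := by
  have h1 := iOf_lift h𝒳g D l hl σ'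
  have h2 := iOf_lift h𝒳g D l hl σ
  have h3 := qD_map_lift h𝒳g D (sMap m)
  have h4 : 𝒳.p.IsHomLift (𝒳.p.map m.hom.left) m.hom.left := inferInstance
  apply cancel h𝒳g (l (sOf σ)) (𝒳.p.map m.hom.left)
  · exact isHomLift_comp' (𝟙 _) (𝒳.p.map m.hom.left) _ (by simp) _ _ h1 h3
  · exact isHomLift_comp' (𝒳.p.map m.hom.left) (𝟙 _) _ (by simp) _ _ h4 h2
  · rw [Category.assoc, hc, iOf_comp, Category.assoc, iOf_comp, Over.w m.hom]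


noncomputable def E₀ (σ : (Stk.sieveCat (Sieve.functorPullback 𝒳.p R)).obj) : 𝒴.obj :=
  (h𝒴g.exists_lift (x := D.toFunctor.obj (sOf σ)) (iOf h𝒳g D l hl σ)).choose

noncomputable def ε (σ : (Stk.sieveCat (Sieve.functorPullback 𝒳.p R)).obj) :
    E₀ h𝒳g h𝒴g D l hl σ ⟶ D.toFunctor.obj (sOf σ) :=
  (h𝒴g.exists_lift (x := D.toFunctor.obj (sOf σ)) (iOf h𝒳g D l hl σ)).choose_spec.choose

theorem ε_lift (σ : (Stk.sieveCat (Sieve.functorPullback 𝒳.p R)).obj) :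
    𝒴.p.IsHomLift (iOf h𝒳g D l hl σ) (ε h𝒳g h𝒴g D l hl σ) :=
  (h𝒴g.exists_lift (x := D.toFunctor.obj (sOf σ)) (iOf h𝒳g D l hl σ)).choose_spec.choose_spec

theorem E₀_obj (σ : (Stk.sieveCat (Sieve.functorPullback 𝒳.p R)).obj) :
    𝒴.p.obj (E₀ h𝒳g h𝒴g D l hl σ) = σ.obj.left :=
  have := ε_lift h𝒳g h𝒴g D l hl σ
  IsHomLift.domain_eq 𝒴.p (iOf h𝒳g D l hl σ) (ε h𝒳g h𝒴g D l hl σ)

theorem εD_lift {σ' σ : (Stk.sieveCat (Sieve.functorPullback 𝒳.p R)).obj} (m : σ' ⟶ σ) :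
    𝒴.p.IsHomLift (iOf h𝒳g D l hl σ' ≫ 𝒴.p.map (D.toFunctor.map (sMap m)))
      (ε h𝒳g h𝒴g D l hl σ' ≫ D.toFunctor.map (sMap m)) := by
  have := ε_lift h𝒳g h𝒴g D l hl σ'
  infer_instance

noncomputable def E₁ {σ' σ : (Stk.sieveCat (Sieve.functorPullback 𝒳.p R)).obj} (m : σ' ⟶ σ) :
    E₀ h𝒳g h𝒴g D l hl σ' ⟶ E₀ h𝒳g h𝒴g D l hl σ :=
  lift h𝒴g (iOf h𝒳g D l hl σ) (ε h𝒳g h𝒴g D l hl σ) (ε_lift h𝒳g h𝒴g D l hl σ) m.hom.left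
    (iOf h𝒳g D l hl σ' ≫ 𝒴.p.map (D.toFunctor.map (sMap m))) (iOf_nat h𝒳g D l hl hc m)
    (ε h𝒳g h𝒴g D l hl σ' ≫ D.toFunctor.map (sMap m)) (εD_lift h𝒳g h𝒴g D l hl m)

theorem E₁_lift {σ' σ : (Stk.sieveCat (Sieve.functorPullback 𝒳.p R)).obj} (m : σ' ⟶ σ) :
    𝒴.p.IsHomLift m.hom.left (E₁ h𝒳g h𝒴g D l hl hc m) :=
  lift_isHomLift h𝒴g _ _ _ _ _ _ _ _

theorem E₁_comp {σ' σ : (Stk.sieveCat (Sieve.functorPullback 𝒳.p R)).obj} (m : σ' ⟶ σ) :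
    E₁ h𝒳g h𝒴g D l hl hc m ≫ ε h𝒳g h𝒴g D l hl σ = ε h𝒳g h𝒴g D l hl σ' ≫ D.toFunctor.map (sMap m) :=
  lift_comp h𝒴g _ _ _ _ _ _ _ _

theorem E₁_uniq {σ' σ : (Stk.sieveCat (Sieve.functorPullback 𝒳.p R)).obj} (m : σ' ⟶ σ)
    (ψ : E₀ h𝒳g h𝒴g D l hl σ' ⟶ E₀ h𝒳g h𝒴g D l hl σ) (h1 : 𝒴.p.IsHomLift m.hom.left ψ)
    (h2 : ψ ≫ ε h𝒳g h𝒴g D l hl σ = ε h𝒳g h𝒴g D l hl σ' ≫ D.toFunctor.map (sMap m)) :
    ψ = E₁ h𝒳g h𝒴g D l hl hc m :=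
  lift_uniq h𝒴g _ _ _ _ _ _ _ _ ψ h1 h2

noncomputable def Efun : (Stk.sieveCat (Sieve.functorPullback 𝒳.p R)).obj ⥤ 𝒴.obj where
  obj := E₀ h𝒳g h𝒴g D l hl
  map m := E₁ h𝒳g h𝒴g D l hl hc m
  map_id σ := by
    symm
    apply E₁_uniq
    · exact IsHomLift.id (E₀_obj h𝒳g h𝒴g D l hl σ)
    · rw [Category.id_comp, sMap_id, D.toFunctor.map_id, Category.comp_id]
  map_comp {σ'' σ' σ} m' m := by
    symm
    apply E₁_uniq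
    · have h1 := E₁_lift h𝒳g h𝒴g D l hl hc m'
      have h2 := E₁_lift h𝒳g h𝒴g D l hl hc m
      change 𝒴.p.IsHomLift (m'.hom.left ≫ m.hom.left) _
      infer_instance
    · rw [Category.assoc, E₁_comp, ← Category.assoc, E₁_comp, Category.assoc, sMap_comp, D.toFunctor.map_comp]

noncomputable def Eb : Stk.sieveCat (Sieve.functorPullback 𝒳.p R) ⥤ᵇ 𝒴 where
  toFunctor := Efun h𝒳g h𝒴g D l hl hc
  w := CategoryTheory.Functor.ext (fun σ => E₀_obj h𝒳g h𝒴g D l hl σ) (fun σ' σ m => by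
    have := E₁_lift h𝒳g h𝒴g D l hl hc m
    exact IsHomLift.fac' 𝒴.p m.hom.left (E₁ h𝒳g h𝒴g D l hl hc m))


theorem isIso_iOf (σ : (Stk.sieveCat (Sieve.functorPullback 𝒳.p R)).obj) : IsIso (iOf h𝒳g D l hl σ) := by
  have := iOf_lift h𝒳g D l hl σ
  exact Descent.isIso_of_lift h𝒳g (𝟙 (𝒳.p.obj σ.obj.left)) _

theorem isIso_ε (σ : (Stk.sieveCat (Sieve.functorPullback 𝒳.p R)).obj) : IsIso (ε h𝒳g h𝒴g D l hl σ) := by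
  have := isIso_iOf h𝒳g D l hl σ
  have := ε_lift h𝒳g h𝒴g D l hl σ
  exact Descent.isIso_of_lift h𝒴g (iOf h𝒳g D l hl σ) _

theorem ε_lift' (σ : (Stk.sieveCat (Sieve.functorPullback 𝒳.p R)).obj) :
    (𝒴.p ⋙ 𝒳.p).IsHomLift (𝟙 (𝒳.p.obj σ.obj.left)) (ε h𝒳g h𝒴g D l hl σ) :=
  comp_lift_of' 𝒴.p 𝒳.p _ _ _ (iOf_lift h𝒳g D l hl σ) (ε_lift h𝒳g h𝒴g D l hl σ)

include hc in
theorem eff_aux (y₀ : 𝒴.obj)
    (μ : ∀ σ : (Stk.sieveCat (Sieve.functorPullback 𝒳.p R)).obj, E₀ h𝒳g h𝒴g D l hl σ ⟶ y₀)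
    (hμ : ∀ σ, 𝒴.p.IsHomLift σ.obj.hom (μ σ))
    (hμc : ∀ ⦃σ' σ : (Stk.sieveCat (Sieve.functorPullback 𝒳.p R)).obj⦄ (m : σ' ⟶ σ),
      E₁ h𝒳g h𝒴g D l hl hc m ≫ μ σ = μ σ') :
    ∃ l' : ∀ s : (Stk.sieveCat R).obj, D.toFunctor.obj s ⟶ y₀,
      (∀ s, (compB 𝒴).p.IsHomLift s.obj.hom (l' s)) ∧
      ∀ ⦃s t : (Stk.sieveCat R).obj⦄ (k : s ⟶ t), D.toFunctor.map k ≫ l' t = l' s := by
  have hex := fun s : (Stk.sieveCat R).obj => h𝒳g.exists_lift (x := x) s.obj.hom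
  choose X ξ hξ using hex
  have hXd : ∀ s, 𝒳.p.obj (X s) = s.obj.left := fun s => IsHomLift.domain_eq 𝒳.p s.obj.hom (ξ s)
  have hfac : ∀ s, eqToHom (hXd s).symm ≫ 𝒳.p.map (ξ s) = s.obj.hom := fun s => by
    have := IsHomLift.fac' 𝒳.p s.obj.hom (ξ s)
    rw [this]; simp
  have mem : ∀ s, R (𝒳.p.map (ξ s)) := fun s => by
    have e : 𝒳.p.map (ξ s) = eqToHom (hXd s) ≫ s.obj.hom := by rw [← hfac s]; simp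
    rw [e]; exact R.downward_closed s.property _
  let σOf : (Stk.sieveCat R).obj → (Stk.sieveCat (Sieve.functorPullback 𝒳.p R)).obj := fun s =>
    ⟨Over.mk (ξ s), mem s⟩
  let eOf : ∀ s : (Stk.sieveCat R).obj, s ⟶ sOf (σOf s) := fun s =>
    ObjectProperty.homMk (Over.homMk (eqToHom (hXd s).symm) (hfac s))
  have hiso := fun s => isIso_ε h𝒳g h𝒴g D l hl (σOf s)
  refine ⟨fun s => D.toFunctor.map (eOf s) ≫ inv (ε h𝒳g h𝒴g D l hl (σOf s)) ≫ μ (σOf s), ?_, ?_⟩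
  · intro s
    have h1 : (𝒴.p ⋙ 𝒳.p).IsHomLift (eqToHom (hXd s).symm) (D.toFunctor.map (eOf s)) :=
      sieve_map_isHomLift D (eOf s)
    have h2 := ε_lift' h𝒳g h𝒴g D l hl (σOf s)
    have h3 : (𝒴.p ⋙ 𝒳.p).IsHomLift (𝟙 (𝒳.p.obj (X s))) (inv (ε h𝒳g h𝒴g D l hl (σOf s))) := by
      have h2' : (𝒴.p ⋙ 𝒳.p).IsHomLift (𝟙 (𝒳.p.obj (X s))) (ε h𝒳g h𝒴g D l hl (σOf s)) := h2
      infer_instance
    have h4 : (𝒴.p ⋙ 𝒳.p).IsHomLift (𝒳.p.map (ξ s)) (μ (σOf s)) :=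
      comp_lift_of' 𝒴.p 𝒳.p _ (ξ s) _ inferInstance (hμ (σOf s))
    have h5 : (𝒴.p ⋙ 𝒳.p).IsHomLift (eqToHom (hXd s).symm ≫ 𝟙 _ ≫ 𝒳.p.map (ξ s))
        (D.toFunctor.map (eOf s) ≫ inv (ε h𝒳g h𝒴g D l hl (σOf s)) ≫ μ (σOf s)) := inferInstance
    rw [Category.id_comp, hfac s] at h5
    exact h5
  · intro s t k
    have hk1 := hξ s
    have hk2 := hξ t
    let ml : X s ⟶ X t := lift h𝒳g t.obj.hom (ξ t) hk2 k.hom.left s.obj.hom (Over.w k.hom).symm (ξ s) hk1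
    have hml : 𝒳.p.IsHomLift k.hom.left ml :=
      lift_isHomLift h𝒳g t.obj.hom (ξ t) hk2 k.hom.left s.obj.hom (Over.w k.hom).symm (ξ s) hk1
    have cml : ml ≫ ξ t = ξ s :=
      lift_comp h𝒳g t.obj.hom (ξ t) hk2 k.hom.left s.obj.hom (Over.w k.hom).symm (ξ s) hk1
    let m : σOf s ⟶ σOf t := ObjectProperty.homMk (Over.homMk ml cml)
    have e1 : k ≫ eOf t = eOf s ≫ sMap m := by
      apply ObjectProperty.hom_ext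
      ext
      change k.hom.left ≫ eqToHom (hXd t).symm = eqToHom (hXd s).symm ≫ 𝒳.p.map ml
      have := IsHomLift.fac' 𝒳.p k.hom.left ml
      rw [this]; simp
    have e2 := E₁_comp h𝒳g h𝒴g D l hl hc m
    have e3 := hμc m
    have hs := hiso s
    have ht := hiso t
    have e4 : inv (ε h𝒳g h𝒴g D l hl (σOf s)) ≫ E₁ h𝒳g h𝒴g D l hl hc m =
        D.toFunctor.map (sMap m) ≫ inv (ε h𝒳g h𝒴g D l hl (σOf t)) := by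
      rw [IsIso.inv_comp_eq, ← Category.assoc, ← e2, Category.assoc, IsIso.hom_inv_id, Category.comp_id]
    rw [← Category.assoc, ← D.toFunctor.map_comp, e1, D.toFunctor.map_comp, Category.assoc,
      ← Category.assoc (D.toFunctor.map (sMap m)), ← e4, Category.assoc, e3]

end eff

section final
variable {C : Type u} [Category.{v} C] {J : GrothendieckTopology C} {𝒳 : BasedCategory.{v₂, u₂} C}
  {𝒴 : BasedCategory.{v₃, u₃} 𝒳.obj}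

theorem eff_comp (h𝒳 : Stk.IsStack J 𝒳) (h𝒴 : Stk.IsStack (𝒳.p.restrictedTopology J) 𝒴)
    ⦃U : C⦄ (R : Sieve U) (hR : R ∈ J U) : EffFor (compB 𝒴) R := by
  obtain ⟨-, -, eff𝒳⟩ := elem_of_isStack J h𝒳
  obtain ⟨-, -, eff𝒴⟩ := elem_of_isStack _ h𝒴
  intro D
  let qD : Stk.sieveCat R ⥤ᵇ 𝒳 := { toFunctor := D.toFunctor ⋙ 𝒴.p, w := D.w }
  obtain ⟨x, hx, l, hl, hc⟩ := eff𝒳 R hR qD
  subst hx
  obtain ⟨y₀, hy₀, μ, hμ, hμc⟩ := eff𝒴 (Sieve.functorPullback 𝒳.p R) (mem_K J h𝒳.1 R hR)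
    (Eb h𝒳.1 h𝒴.1 D l hl hc)
  obtain ⟨l', h1, h2⟩ := eff_aux h𝒳.1 h𝒴.1 D l hl hc y₀ μ hμ hμc
  exact ⟨y₀, congrArg 𝒳.p.obj hy₀, l', h1, h2⟩

theorem main (h𝒳 : Stk.IsStack J 𝒳) (h𝒴 : Stk.IsStack (𝒳.p.restrictedTopology J) 𝒴) :
    Stk.IsStack J (BasedCategory.ofFunctor (𝒴.p ⋙ 𝒳.p)) :=
  isStack_of_elem J (Groth.Agent.S6416.result 𝒴.p 𝒳.p h𝒴.1 h𝒳.1) (sep_comp h𝒳 h𝒴) (glue_comp h𝒳 h𝒴)
    (eff_comp h𝒳 h𝒴)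

end final

end Groth.Agent.Lib.helper27.StkComp
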