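import Groth.Agent.Lib.Helper4.Descent
set_option autoImplicit false
set_option backward.isDefEq.respectTransparency false
set_option backward.isDefEq.respectTransparency.types false
set_option linter.unusedSectionVars false
set_option linter.style.haveILetI false
open CategoryTheory CategoryTheory.Functor CategoryTheory.Limits
universe v₄ u₄ v₃ u₃ v₂ u₂ v u

namespace Groth.Agent.Lib.helper27.StkElem1
open Groth.Agent.FibEquiv Groth.Agent.FibFiberwise Groth.Agent.FibFpProj Groth.Agent.FibYoneda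
open Groth.Agent.Lib.helper4

variable {C : Type u} [Category.{v} C] (𝒳 : BasedCategory.{v₂, u₂} C)

/-- elementwise separation for one sieve -/
def SepFor {V : C} (R : Sieve V) : Prop :=
  ∀ ⦃W : C⦄ (g : V ⟶ W) ⦃x y : 𝒳.obj⦄ (a b : x ⟶ y), 𝒳.p.IsHomLift g a → 𝒳.p.IsHomLift g b →
    (∀ ⦃V' : C⦄ (f : V' ⟶ V), R f → ∃ (x' : 𝒳.obj) (χ : x' ⟶ x), 𝒳.p.IsHomLift f χ ∧ χ ≫ a = χ ≫ b) → a = b

/-- elementwise gluing of morphisms for one sieve -/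
def GlueFor {V : C} (R : Sieve V) : Prop :=
  ∀ ⦃W : C⦄ (g : V ⟶ W) (x y : 𝒳.obj), 𝒳.p.obj x = V → 𝒳.p.obj y = W →
    ∀ (φ : ∀ ⦃V' : C⦄ (f : V' ⟶ V), R f → ∀ (x' : 𝒳.obj) (χ : x' ⟶ x), 𝒳.p.IsHomLift f χ → (x' ⟶ y)),
      (∀ ⦃V' : C⦄ (f : V' ⟶ V) (hf : R f) (x' : 𝒳.obj) (χ : x' ⟶ x) (hχ : 𝒳.p.IsHomLift f χ),
        𝒳.p.IsHomLift (f ≫ g) (φ f hf x' χ hχ)) →
      (∀ ⦃V' : C⦄ (f : V' ⟶ V) (hf : R f) (x' : 𝒳.obj) (χ : x' ⟶ x) (hχ : 𝒳.p.IsHomLift f χ)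
        ⦃V'' : C⦄ (f' : V'' ⟶ V') (x'' : 𝒳.obj) (κ : x'' ⟶ x') (_ : 𝒳.p.IsHomLift f' κ)
        (h' : 𝒳.p.IsHomLift (f' ≫ f) (κ ≫ χ)),
        φ (f' ≫ f) (R.downward_closed hf f') x'' (κ ≫ χ) h' = κ ≫ φ f hf x' χ hχ) →
      ∃ a : x ⟶ y, 𝒳.p.IsHomLift g a ∧
        ∀ ⦃V' : C⦄ (f : V' ⟶ V) (hf : R f) (x' : 𝒳.obj) (χ : x' ⟶ x) (hχ : 𝒳.p.IsHomLift f χ),
          χ ≫ a = φ f hf x' χ hχ

/-- effectivity of descent data for one sieve, as existence of a cocone -/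
def EffFor {U : C} (R : Sieve U) : Prop :=
  ∀ D : Stk.sieveCat R ⥤ᵇ 𝒳, ∃ (x : 𝒳.obj) (_ : 𝒳.p.obj x = U) (l : ∀ s : (Stk.sieveCat R).obj, D.toFunctor.obj s ⟶ x),
    (∀ s, 𝒳.p.IsHomLift s.obj.hom (l s)) ∧ ∀ ⦃s t : (Stk.sieveCat R).obj⦄ (k : s ⟶ t), D.toFunctor.map k ≫ l t = l s

variable {𝒳}

theorem sepFor_of_faithful (h𝒳 : FibCat.IsFibGrpd 𝒳.p) {V : C} (R : Sieve V) (hR : (Stk.resSieve R 𝒳).Faithful) :
    SepFor 𝒳 R := by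
  intro W g x y a b ha hb h
  have hV : 𝒳.p.obj x = V := IsHomLift.domain_eq 𝒳.p g a
  have hW : 𝒳.p.obj y = W := IsHomLift.codomain_eq 𝒳.p g a
  subst hV hW
  exact Descent.sep h𝒳 a b g R hR h

theorem glueFor_of_full (h𝒳 : FibCat.IsFibGrpd 𝒳.p) {V : C} (R : Sieve V) (hR : (Stk.resSieve R 𝒳).Full) :
    GlueFor 𝒳 R := by
  intro W g x y hV hW φ hφ hc
  subst hV hW
  obtain ⟨a, ha, h⟩ := Descent.glue h𝒳 g R hR
    (fun x' χ h => φ (𝒳.p.map χ) h x' χ inferInstance)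
    (fun x' χ h => hφ _ _ _ _ _)
    (fun x' χ h x'' κ h' => by
      have e : 𝒳.p.map (κ ≫ χ) = 𝒳.p.map κ ≫ 𝒳.p.map χ := 𝒳.p.map_comp κ χ
      have key : ∀ (f₀ : 𝒳.p.obj x'' ⟶ 𝒳.p.obj x) (e₀ : f₀ = 𝒳.p.map κ ≫ 𝒳.p.map χ) (h₀ : R f₀)
          (i₀ : 𝒳.p.IsHomLift f₀ (κ ≫ χ)),
          φ f₀ h₀ x'' (κ ≫ χ) i₀ = κ ≫ φ (𝒳.p.map χ) h x' χ inferInstance := by
        intro f₀ e₀ h₀ i₀
        subst e₀
        exact hc (𝒳.p.map χ) h x' χ inferInstance (𝒳.p.map κ) x'' κ inferInstance i₀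
      exact key _ e h' inferInstance)
  refine ⟨a, ha, ?_⟩
  intro V' f hf x' χ hχ
  have hV' : 𝒳.p.obj x' = V' := IsHomLift.domain_eq 𝒳.p f χ
  subst hV'
  have e : 𝒳.p.map χ = f := by simpa using IsHomLift.fac' 𝒳.p f χ
  subst e
  exact h x' χ hf


section lifts
variable (h𝒳 : FibCat.IsFibGrpd 𝒳.p)
include h𝒳

/-- the unique factorisation of a lift of `k ≫ f` through a lift of `f` -/
noncomputable def lift {x' x'' x : 𝒳.obj} {V W U : C} (f : V ⟶ U) (χ : x' ⟶ x)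
    (hχ : 𝒳.p.IsHomLift f χ) (k : W ⟶ V) (f' : W ⟶ U) (hf' : f' = k ≫ f) (χ' : x'' ⟶ x)
    (hχ' : 𝒳.p.IsHomLift f' χ') : x'' ⟶ x' :=
  (Descent.exists_factor h𝒳 f χ k f' hf' χ').choose

theorem lift_isHomLift {x' x'' x : 𝒳.obj} {V W U : C} (f : V ⟶ U) (χ : x' ⟶ x)
    (hχ : 𝒳.p.IsHomLift f χ) (k : W ⟶ V) (f' : W ⟶ U) (hf' : f' = k ≫ f) (χ' : x'' ⟶ x)
    (hχ' : 𝒳.p.IsHomLift f' χ') : 𝒳.p.IsHomLift k (lift h𝒳 f χ hχ k f' hf' χ' hχ') :=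
  (Descent.exists_factor h𝒳 f χ k f' hf' χ').choose_spec.1

theorem lift_comp {x' x'' x : 𝒳.obj} {V W U : C} (f : V ⟶ U) (χ : x' ⟶ x)
    (hχ : 𝒳.p.IsHomLift f χ) (k : W ⟶ V) (f' : W ⟶ U) (hf' : f' = k ≫ f) (χ' : x'' ⟶ x)
    (hχ' : 𝒳.p.IsHomLift f' χ') : lift h𝒳 f χ hχ k f' hf' χ' hχ' ≫ χ = χ' :=
  (Descent.exists_factor h𝒳 f χ k f' hf' χ').choose_spec.2

theorem lift_uniq {x' x'' x : 𝒳.obj} {V W U : C} (f : V ⟶ U) (χ : x' ⟶ x)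
    (hχ : 𝒳.p.IsHomLift f χ) (k : W ⟶ V) (f' : W ⟶ U) (hf' : f' = k ≫ f) (χ' : x'' ⟶ x)
    (hχ' : 𝒳.p.IsHomLift f' χ') (κ : x'' ⟶ x') (hκ : 𝒳.p.IsHomLift k κ) (h : κ ≫ χ = χ') :
    κ = lift h𝒳 f χ hχ k f' hf' χ' hχ' := by
  have := lift_isHomLift h𝒳 f χ hχ k f' hf' χ' hχ'
  apply Descent.cancel_right h𝒳 χ k
  rw [h, lift_comp]

/-- cancellation with explicit lift hypotheses -/
theorem cancel {z x y : 𝒳.obj} (b : x ⟶ y) {V W : C} (f : V ⟶ W) (ψ₁ ψ₂ : z ⟶ x)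
    (h1 : 𝒳.p.IsHomLift f ψ₁) (h2 : 𝒳.p.IsHomLift f ψ₂) (h : ψ₁ ≫ b = ψ₂ ≫ b) : ψ₁ = ψ₂ :=
  Descent.cancel_right h𝒳 b f ψ₁ ψ₂ h

end lifts

theorem isHomLift_comp' {x y z : 𝒳.obj} {U V W : C} (f : U ⟶ V) (g : V ⟶ W) (h : U ⟶ W) (e : f ≫ g = h)
    (a : x ⟶ y) (b : y ⟶ z) (ha : 𝒳.p.IsHomLift f a) (hb : 𝒳.p.IsHomLift g b) : 𝒳.p.IsHomLift h (a ≫ b) := by
  subst e; infer_instance

theorem faithful_of_sepFor {U : C} (R : Sieve U)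
    (hsep : ∀ ⦃V' : C⦄ (f : V' ⟶ U), SepFor 𝒳 (R.pullback f)) : (Stk.resSieve R 𝒳).Faithful := by
  refine ⟨fun {G G'} θ θ' h => ?_⟩
  apply BasedNatTrans.homCategory.ext
  ext a
  have h1 := app_isHomLift θ a
  have h2 := app_isHomLift θ' a
  apply hsep a.hom (𝟙 a.left) _ _ h1 h2
  intro V' f hf
  let s : Over U := Over.mk (f ≫ a.hom)
  let k : s ⟶ a := Over.homMk f rfl
  refine ⟨G.toFunctor.obj s, G.toFunctor.map k, map_hom_isHomLift G k, ?_⟩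
  rw [θ.toNatTrans.naturality, θ'.toNatTrans.naturality]
  congr 1
  exact congrArg (fun t => t.toNatTrans.app (⟨s, hf⟩ : (Stk.sieveCat R).obj)) h


section full
variable (h𝒳 : FibCat.IsFibGrpd 𝒳.p) {U : C} {R : Sieve U} {G G' : FibCat.overCat U ⥤ᵇ 𝒳}
  (δ : (Stk.resSieve R 𝒳).obj G ⟶ (Stk.resSieve R 𝒳).obj G')

/-- the candidate for `χ ≫ θ_a`, for `χ` lying over (the left part of) `k : s ⟶ a`, `s` in the sieve -/
noncomputable def Φ {a : Over U} (s : (Stk.sieveCat R).obj) (k : s.obj ⟶ a) {x' : 𝒳.obj}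
    (χ : x' ⟶ G.toFunctor.obj a) (hχ : 𝒳.p.IsHomLift k.left χ) : x' ⟶ G'.toFunctor.obj a :=
  lift h𝒳 k.left (G.toFunctor.map k) (map_hom_isHomLift G k) (𝟙 _) k.left (by simp) χ hχ ≫
    δ.toNatTrans.app s ≫ G'.toFunctor.map k

theorem Φ_isHomLift {a : Over U} (s : (Stk.sieveCat R).obj) (k : s.obj ⟶ a) {x' : 𝒳.obj}
    (χ : x' ⟶ G.toFunctor.obj a) (hχ : 𝒳.p.IsHomLift k.left χ) :
    𝒳.p.IsHomLift k.left (Φ h𝒳 δ s k χ hχ) := by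
  have h1 := lift_isHomLift h𝒳 k.left (G.toFunctor.map k) (map_hom_isHomLift G k) (𝟙 _) k.left (by simp) χ hχ
  have h2 : 𝒳.p.IsHomLift (𝟙 s.obj.left) (δ.toNatTrans.app s) := δ.isHomLift' s
  have h3 := map_hom_isHomLift G' k
  exact isHomLift_comp' (𝟙 _) k.left k.left (by simp) _ _ h1
    (isHomLift_comp' (𝟙 _) k.left k.left (by simp) _ _ h2 h3)

theorem Φ_comp {a : Over U} {s s' : (Stk.sieveCat R).obj} (m : s' ⟶ s) (k : s.obj ⟶ a) (k' : s'.obj ⟶ a)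
    (hk : m.hom ≫ k = k') {x' x'' : 𝒳.obj} (χ : x' ⟶ G.toFunctor.obj a) (hχ : 𝒳.p.IsHomLift k.left χ)
    (κ' : x'' ⟶ x') (hκ' : 𝒳.p.IsHomLift m.hom.left κ') (h' : 𝒳.p.IsHomLift k'.left (κ' ≫ χ)) :
    Φ h𝒳 δ s' k' (κ' ≫ χ) h' = κ' ≫ Φ h𝒳 δ s k χ hχ := by
  subst hk
  have hL := lift_isHomLift h𝒳 k.left (G.toFunctor.map k) (map_hom_isHomLift G k) (𝟙 _) k.left (by simp) χ hχ
  have hL' := lift_isHomLift h𝒳 (m.hom ≫ k).left (G.toFunctor.map (m.hom ≫ k)) (map_hom_isHomLift G _) (𝟙 _)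
    (m.hom ≫ k).left (by simp) (κ' ≫ χ) h'
  have cL := lift_comp h𝒳 k.left (G.toFunctor.map k) (map_hom_isHomLift G k) (𝟙 _) k.left (by simp) χ hχ
  have cL' := lift_comp h𝒳 (m.hom ≫ k).left (G.toFunctor.map (m.hom ≫ k)) (map_hom_isHomLift G _) (𝟙 _)
    (m.hom ≫ k).left (by simp) (κ' ≫ χ) h'
  have hGm := map_hom_isHomLift G m.hom
  have key : lift h𝒳 (m.hom ≫ k).left (G.toFunctor.map (m.hom ≫ k)) (map_hom_isHomLift G _) (𝟙 _)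
      (m.hom ≫ k).left (by simp) (κ' ≫ χ) h' ≫ G.toFunctor.map m.hom =
      κ' ≫ lift h𝒳 k.left (G.toFunctor.map k) (map_hom_isHomLift G k) (𝟙 _) k.left (by simp) χ hχ := by
    apply cancel h𝒳 (G.toFunctor.map k) m.hom.left
    · exact isHomLift_comp' (𝟙 _) m.hom.left _ (by simp) _ _ hL' hGm
    · exact isHomLift_comp' m.hom.left (𝟙 _) _ (by simp) _ _ hκ' hL
    · rw [Category.assoc, ← G.toFunctor.map_comp, cL', Category.assoc, cL]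
  have nat : G.toFunctor.map m.hom ≫ δ.toNatTrans.app s = δ.toNatTrans.app s' ≫ G'.toFunctor.map m.hom :=
    δ.toNatTrans.naturality m
  dsimp only [Φ]
  rw [G'.toFunctor.map_comp, ← Category.assoc (δ.toNatTrans.app s'), ← nat, Category.assoc,
    ← Category.assoc _ (G.toFunctor.map m.hom), key, Category.assoc]

theorem Φ_map {a b : Over U} (j : a ⟶ b) (s : (Stk.sieveCat R).obj) (k : s.obj ⟶ a) {x' : 𝒳.obj}
    (χ : x' ⟶ G.toFunctor.obj a) (hχ : 𝒳.p.IsHomLift k.left χ)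
    (h' : 𝒳.p.IsHomLift (k ≫ j).left (χ ≫ G.toFunctor.map j)) :
    Φ h𝒳 δ s (k ≫ j) (χ ≫ G.toFunctor.map j) h' = Φ h𝒳 δ s k χ hχ ≫ G'.toFunctor.map j := by
  have hL := lift_isHomLift h𝒳 k.left (G.toFunctor.map k) (map_hom_isHomLift G k) (𝟙 _) k.left (by simp) χ hχ
  have cL := lift_comp h𝒳 k.left (G.toFunctor.map k) (map_hom_isHomLift G k) (𝟙 _) k.left (by simp) χ hχ
  have e : lift h𝒳 k.left (G.toFunctor.map k) (map_hom_isHomLift G k) (𝟙 _) k.left (by simp) χ hχ =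
      lift h𝒳 (k ≫ j).left (G.toFunctor.map (k ≫ j)) (map_hom_isHomLift G _) (𝟙 _) (k ≫ j).left (by simp)
        (χ ≫ G.toFunctor.map j) h' := by
    apply lift_uniq h𝒳 _ _ _ _ _ _ _ _ _ hL
    rw [G.toFunctor.map_comp, ← Category.assoc, cL]
  dsimp only [Φ]
  rw [← e, G'.toFunctor.map_comp, Category.assoc, Category.assoc]

theorem Φ_self (s : (Stk.sieveCat R).obj) {x' : 𝒳.obj} (χ : x' ⟶ G.toFunctor.obj s.obj)
    (hχ : 𝒳.p.IsHomLift (𝟙 s.obj : s.obj ⟶ s.obj).left χ) :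
    Φ h𝒳 δ s (𝟙 s.obj) χ hχ = χ ≫ δ.toNatTrans.app s := by
  have e : χ = lift h𝒳 (𝟙 s.obj : s.obj ⟶ s.obj).left (G.toFunctor.map (𝟙 s.obj)) (map_hom_isHomLift G _) (𝟙 _)
      (𝟙 s.obj : s.obj ⟶ s.obj).left (by simp) χ hχ := by
    apply lift_uniq h𝒳 _ _ _ _ _ _ _ _ _ hχ
    rw [G.toFunctor.map_id, Category.comp_id]
  have e2 : G'.toFunctor.map (𝟙 s.obj) = 𝟙 (G'.toFunctor.obj s.obj) := G'.toFunctor.map_id _
  have e3 : Φ h𝒳 δ s (𝟙 s.obj) χ hχ = lift h𝒳 (𝟙 s.obj : s.obj ⟶ s.obj).left (G.toFunctor.map (𝟙 s.obj))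
      (map_hom_isHomLift G _) (𝟙 _) (𝟙 s.obj : s.obj ⟶ s.obj).left (by simp) χ hχ ≫ δ.toNatTrans.app s ≫
      𝟙 (G'.toFunctor.obj s.obj) := by
    rw [← e2]; rfl
  rw [e3, ← e]
  exact congrArg (fun t => χ ≫ t) (Category.comp_id _)

end full


theorem full_of_glueFor (h𝒳 : FibCat.IsFibGrpd 𝒳.p) {U : C} (R : Sieve U)
    (hsep : ∀ ⦃V' : C⦄ (f : V' ⟶ U), SepFor 𝒳 (R.pullback f))
    (hglue : ∀ ⦃V' : C⦄ (f : V' ⟶ U), GlueFor 𝒳 (R.pullback f)) : (Stk.resSieve R 𝒳).Full := by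
  refine ⟨fun {G G'} δ => ?_⟩
  have hex : ∀ a : Over U, ∃ θa : G.toFunctor.obj a ⟶ G'.toFunctor.obj a, 𝒳.p.IsHomLift (𝟙 a.left) θa ∧
      ∀ (s : (Stk.sieveCat R).obj) (k : s.obj ⟶ a) (x' : 𝒳.obj) (χ : x' ⟶ G.toFunctor.obj a)
        (hχ : 𝒳.p.IsHomLift k.left χ), χ ≫ θa = Φ h𝒳 δ s k χ hχ := by
    intro a
    obtain ⟨θa, h1, h2⟩ := hglue a.hom (𝟙 a.left) (G.toFunctor.obj a) (G'.toFunctor.obj a) (G.w_obj a) (G'.w_obj a)
      (fun V' f hf x' χ hχ => Φ h𝒳 δ ⟨Over.mk (f ≫ a.hom), hf⟩ (Over.homMk f rfl) χ hχ)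
      (fun V' f hf x' χ hχ => by
        have := Φ_isHomLift h𝒳 δ ⟨Over.mk (f ≫ a.hom), hf⟩ (Over.homMk f rfl) χ hχ
        simpa using this)
      (fun V' f hf x' χ hχ V'' f' x'' κ hκ h' =>
        Φ_comp h𝒳 δ (s := ⟨Over.mk (f ≫ a.hom), hf⟩)
          (s' := ⟨Over.mk ((f' ≫ f) ≫ a.hom), (R.pullback a.hom).downward_closed hf f'⟩)
          (ObjectProperty.homMk (Over.homMk f' (by simp))) (Over.homMk f rfl) (Over.homMk (f' ≫ f) rfl)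
          (by ext; simp) χ hχ κ hκ h')
    refine ⟨θa, h1, ?_⟩
    intro s k x' χ hχ
    have hk : R (k.left ≫ a.hom) := by rw [Over.w k]; exact s.property
    rw [h2 k.left hk x' χ hχ]
    have := Φ_comp h𝒳 δ (s' := ⟨Over.mk (k.left ≫ a.hom), hk⟩) (s := s)
      (ObjectProperty.homMk (Over.homMk (𝟙 _) (by simp [Over.w k]))) k (Over.homMk k.left rfl)
      (by ext; simp) χ hχ (𝟙 x') (IsHomLift.id (IsHomLift.domain_eq 𝒳.p k.left χ)) (by simpa using hχ)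
    simpa using this
  choose θ hθ1 hθ2 using hex
  have hnat : ∀ {a b : Over U} (j : a ⟶ b), G.toFunctor.map j ≫ θ b = θ a ≫ G'.toFunctor.map j := by
    intro a b j
    have hGj := map_hom_isHomLift G j
    have hG'j := map_hom_isHomLift G' j
    apply hsep a.hom j.left _ _
      (isHomLift_comp' j.left (𝟙 _) _ (by simp) _ _ hGj (hθ1 b))
      (isHomLift_comp' (𝟙 _) j.left _ (by simp) _ _ (hθ1 a) hG'j)
    intro V' f hf
    let s : (Stk.sieveCat R).obj := ⟨Over.mk (f ≫ a.hom), hf⟩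
    let k : s.obj ⟶ a := Over.homMk f rfl
    have hGk := map_hom_isHomLift G k
    have hGkj : 𝒳.p.IsHomLift (k ≫ j).left (G.toFunctor.map k ≫ G.toFunctor.map j) := by
      rw [← G.toFunctor.map_comp]; exact map_hom_isHomLift G (k ≫ j)
    refine ⟨G.toFunctor.obj s.obj, G.toFunctor.map k, hGk, ?_⟩
    rw [← Category.assoc, hθ2 b s (k ≫ j) _ (G.toFunctor.map k ≫ G.toFunctor.map j) hGkj,
      Φ_map h𝒳 δ j s k (G.toFunctor.map k) hGk, ← hθ2 a s k _ (G.toFunctor.map k) hGk, Category.assoc]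
  let α : G ⟶ G' :=
    { toNatTrans := { app := θ, naturality := fun a b j => hnat j }
      isHomLift' := fun a => hθ1 a }
  refine ⟨α, ?_⟩
  apply BasedNatTrans.homCategory.ext
  ext s
  change θ s.obj = δ.toNatTrans.app s
  have h1 := hθ2 s.obj s (𝟙 s.obj) _ (𝟙 _) (IsHomLift.id (G.w_obj s.obj))
  rw [Φ_self h𝒳 δ s (𝟙 _) (IsHomLift.id (G.w_obj s.obj))] at h1
  simpa using h1


theorem sieve_map_isHomLift {U : C} {R : Sieve U} (D : Stk.sieveCat R ⥤ᵇ 𝒳) {s t : (Stk.sieveCat R).obj}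
    (k : s ⟶ t) : 𝒳.p.IsHomLift k.hom.left (D.toFunctor.map k) := by
  have : (Stk.sieveCat R).p.IsHomLift k.hom.left k := IsHomLift.of_fac' _ _ _ rfl rfl (by simp; rfl)
  infer_instance

theorem effFor_of_essSurj {U : C} (R : Sieve U) (h : (Stk.resSieve R 𝒳).EssSurj) : EffFor 𝒳 R := by
  intro D
  let G : FibCat.overCat U ⥤ᵇ 𝒳 := (Stk.resSieve R 𝒳).objPreimage D
  let e : (Stk.resSieve R 𝒳).obj G ≅ D := (Stk.resSieve R 𝒳).objObjPreimageIso D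
  refine ⟨G.toFunctor.obj (Over.mk (𝟙 U)), G.w_obj _,
    fun s => e.inv.toNatTrans.app s ≫ G.toFunctor.map (toId s.obj), ?_, ?_⟩
  · intro s
    have h1 : 𝒳.p.IsHomLift (𝟙 s.obj.left) (e.inv.toNatTrans.app s) := e.inv.isHomLift' s
    have h2 := map_toId_isHomLift G s.obj
    exact isHomLift_comp' (𝟙 _) s.obj.hom _ (by simp) _ _ h1 h2
  · intro s t k
    have n : D.toFunctor.map k ≫ e.inv.toNatTrans.app t =
        e.inv.toNatTrans.app s ≫ G.toFunctor.map k.hom := e.inv.toNatTrans.naturality k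
    rw [← Category.assoc, n, Category.assoc, ← G.toFunctor.map_comp, comp_toId]
    rfl

theorem essSurj_of_effFor (h𝒳 : FibCat.IsFibGrpd 𝒳.p) {U : C} (R : Sieve U) (heff : EffFor 𝒳 R) :
    (Stk.resSieve R 𝒳).EssSurj := by
  refine ⟨fun D => ?_⟩
  obtain ⟨x, hx, l, hl, hc⟩ := heff D
  subst hx
  haveI : 𝒳.p.IsFibered := isFibered_of_isFibGrpd 𝒳.p h𝒳
  let G : FibCat.overCat (𝒳.p.obj x) ⥤ᵇ 𝒳 := yBased x
  have hy : ∀ s : (Stk.sieveCat R).obj, 𝒳.p.IsHomLift s.obj.hom (yMap x s.obj) := fun s =>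
    (yMap_isStronglyCartesian x s.obj).toIsHomLift
  let κ : ∀ s : (Stk.sieveCat R).obj, D.toFunctor.obj s ⟶ G.toFunctor.obj s.obj := fun s =>
    lift h𝒳 s.obj.hom (yMap x s.obj) (hy s) (𝟙 _) s.obj.hom (by simp) (l s) (hl s)
  have hκl : ∀ s, 𝒳.p.IsHomLift (𝟙 s.obj.left) (κ s) := fun s =>
    lift_isHomLift h𝒳 s.obj.hom (yMap x s.obj) (hy s) (𝟙 _) s.obj.hom (by simp) (l s) (hl s)
  have hκc : ∀ s, κ s ≫ yMap x s.obj = l s := fun s =>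
    lift_comp h𝒳 s.obj.hom (yMap x s.obj) (hy s) (𝟙 _) s.obj.hom (by simp) (l s) (hl s)
  have hκiso : ∀ s, IsIso (κ s) := fun s => by
    have := hκl s
    exact Descent.isIso_of_lift h𝒳 (𝟙 s.obj.left) (κ s)
  have hnat : ∀ {s t : (Stk.sieveCat R).obj} (k : s ⟶ t),
      D.toFunctor.map k ≫ κ t = κ s ≫ G.toFunctor.map k.hom := by
    intro s t k
    have h1 := sieve_map_isHomLift D k
    have h2 := map_hom_isHomLift G k.hom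
    apply cancel h𝒳 (yMap x t.obj) k.hom.left
    · exact isHomLift_comp' k.hom.left (𝟙 _) _ (by simp) _ _ h1 (hκl t)
    · exact isHomLift_comp' (𝟙 _) k.hom.left _ (by simp) _ _ (hκl s) h2
    · rw [Category.assoc, hκc, hc, Category.assoc]
      have : G.toFunctor.map k.hom ≫ yMap x t.obj = yMap x s.obj := yHom_fac x k.hom
      rw [this, hκc]
  let E0 : D.toFunctor ≅ ((Stk.resSieve R 𝒳).obj G).toFunctor :=
    NatIso.ofComponents (fun s => @asIso _ _ _ _ (κ s) (hκiso s)) (fun {s t} k => hnat k)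
  let E : D ≅ (Stk.resSieve R 𝒳).obj G := BasedNatIso.mkNatIso E0 (fun s => hκl s)
  exact ⟨G, ⟨E.symm⟩⟩

/-- the stack condition for one sieve from elementwise conditions -/
theorem isStackFor_of_elem (h𝒳 : FibCat.IsFibGrpd 𝒳.p) {U : C} (R : Sieve U)
    (hsep : ∀ ⦃V' : C⦄ (f : V' ⟶ U), SepFor 𝒳 (R.pullback f))
    (hglue : ∀ ⦃V' : C⦄ (f : V' ⟶ U), GlueFor 𝒳 (R.pullback f)) (heff : EffFor 𝒳 R) :
    Stk.IsStackFor R 𝒳 :=
  { faithful := faithful_of_sepFor R hsep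
    full := full_of_glueFor h𝒳 R hsep hglue
    essSurj := essSurj_of_effFor h𝒳 R heff }

theorem isStack_of_elem (J : GrothendieckTopology C) (h𝒳 : FibCat.IsFibGrpd 𝒳.p)
    (hsep : ∀ ⦃V : C⦄ (R : Sieve V), R ∈ J V → SepFor 𝒳 R)
    (hglue : ∀ ⦃V : C⦄ (R : Sieve V), R ∈ J V → GlueFor 𝒳 R)
    (heff : ∀ ⦃V : C⦄ (R : Sieve V), R ∈ J V → EffFor 𝒳 R) : Stk.IsStack J 𝒳 :=
  ⟨h𝒳, fun _ R hR => isStackFor_of_elem h𝒳 R (fun _ f => hsep _ (J.pullback_stable f hR))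
    (fun _ f => hglue _ (J.pullback_stable f hR)) (heff R hR)⟩

theorem elem_of_isStack (J : GrothendieckTopology C) (h : Stk.IsStack J 𝒳) :
    (∀ ⦃V : C⦄ (R : Sieve V), R ∈ J V → SepFor 𝒳 R) ∧
    (∀ ⦃V : C⦄ (R : Sieve V), R ∈ J V → GlueFor 𝒳 R) ∧
    (∀ ⦃V : C⦄ (R : Sieve V), R ∈ J V → EffFor 𝒳 R) :=
  ⟨fun _ R hR => sepFor_of_faithful h.1 R (h.2 R hR).faithful,
   fun _ R hR => glueFor_of_full h.1 R (h.2 R hR).full,
   fun _ R hR => effFor_of_essSurj R (h.2 R hR).essSurj⟩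

end Groth.Agent.Lib.helper27.StkElem1
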