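import Groth.Agent.Lib.Helper27.StkElem1
set_option autoImplicit false
set_option backward.isDefEq.respectTransparency false
set_option backward.isDefEq.respectTransparency.types false
set_option linter.unusedSectionVars false
set_option linter.style.haveILetI false
open CategoryTheory CategoryTheory.Functor CategoryTheory.Limits
universe v₄ u₄ v₃ u₃ v₂ u₂ v u

namespace Groth.Agent.Lib.helper27.StkElem2
open Groth.Agent.FibEquiv Groth.Agent.FibFiberwise Groth.Agent.FibFpProj Groth.Agent.FibYoneda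
open Groth.Agent.Lib.helper4 Groth.Agent.Lib.helper27.StkElem1

variable {C : Type u} [Category.{v} C] {𝒳 : BasedCategory.{v₂, u₂} C} {U : C} {S R : Sieve U} (hSR : S ≤ R)

/-- the inclusion of a smaller sieve, as a functor over `C` -/
def inclSR : Stk.sieveCat S ⥤ᵇ Stk.sieveCat R where
  toFunctor := ObjectProperty.ιOfLE (fun _ hf => hSR _ hf)
  w := rfl

/-- restriction of functors on `R` to the smaller sieve `S` -/
abbrev resSS (𝒳 : BasedCategory.{v₂, u₂} C) : (Stk.sieveCat R ⥤ᵇ 𝒳) ⥤ (Stk.sieveCat S ⥤ᵇ 𝒳) :=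
  Stk.restr (inclSR hSR) 𝒳

/-- restriction to `S` factors through restriction to `R` -/
def resFac (𝒳 : BasedCategory.{v₂, u₂} C) : Stk.resSieve R 𝒳 ⋙ resSS hSR 𝒳 ≅ Stk.resSieve S 𝒳 :=
  NatIso.ofComponents (fun G => Iso.refl _) (by
    intro G G' γ
    apply BasedNatTrans.homCategory.ext
    ext s
    simp
    rfl)

theorem faithful_SS (hsep : ∀ ⦃V' : C⦄ (f : V' ⟶ U), R f → SepFor 𝒳 (S.pullback f)) :
    (resSS hSR 𝒳).Faithful := by
  refine ⟨fun {G G'} θ θ' h => ?_⟩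
  apply BasedNatTrans.homCategory.ext
  ext a
  have h1 : 𝒳.p.IsHomLift (𝟙 a.obj.left) (θ.toNatTrans.app a) := θ.isHomLift' a
  have h2 : 𝒳.p.IsHomLift (𝟙 a.obj.left) (θ'.toNatTrans.app a) := θ'.isHomLift' a
  apply hsep a.obj.hom a.property (𝟙 a.obj.left) _ _ h1 h2
  intro V' f hf
  let s : (Stk.sieveCat S).obj := ⟨Over.mk (f ≫ a.obj.hom), hf⟩
  let k : (inclSR hSR).toFunctor.obj s ⟶ a := ObjectProperty.homMk (Over.homMk f rfl)
  refine ⟨G.toFunctor.obj ((inclSR hSR).toFunctor.obj s), G.toFunctor.map k, sieve_map_isHomLift G k, ?_⟩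
  rw [θ.toNatTrans.naturality, θ'.toNatTrans.naturality]
  congr 1
  exact congrArg (fun t => t.toNatTrans.app s) h


section full
variable (h𝒳 : FibCat.IsFibGrpd 𝒳.p) {G G' : Stk.sieveCat R ⥤ᵇ 𝒳}
  (δ : (resSS hSR 𝒳).obj G ⟶ (resSS hSR 𝒳).obj G')

noncomputable def Ψ {a : (Stk.sieveCat R).obj} (s : (Stk.sieveCat S).obj)
    (k : (inclSR hSR).toFunctor.obj s ⟶ a) {x' : 𝒳.obj}
    (χ : x' ⟶ G.toFunctor.obj a) (hχ : 𝒳.p.IsHomLift k.hom.left χ) : x' ⟶ G'.toFunctor.obj a :=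
  lift h𝒳 k.hom.left (G.toFunctor.map k) (sieve_map_isHomLift G k) (𝟙 _) k.hom.left (by simp) χ hχ ≫
    δ.toNatTrans.app s ≫ G'.toFunctor.map k

theorem Ψ_isHomLift {a : (Stk.sieveCat R).obj} (s : (Stk.sieveCat S).obj)
    (k : (inclSR hSR).toFunctor.obj s ⟶ a) {x' : 𝒳.obj}
    (χ : x' ⟶ G.toFunctor.obj a) (hχ : 𝒳.p.IsHomLift k.hom.left χ) :
    𝒳.p.IsHomLift k.hom.left (Ψ hSR h𝒳 δ s k χ hχ) := by
  have h1 := lift_isHomLift h𝒳 k.hom.left (G.toFunctor.map k) (sieve_map_isHomLift G k) (𝟙 _) k.hom.left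
    (by simp) χ hχ
  have h2 : 𝒳.p.IsHomLift (𝟙 s.obj.left) (δ.toNatTrans.app s) := δ.isHomLift' s
  have h3 := sieve_map_isHomLift G' k
  exact isHomLift_comp' (𝟙 _) k.hom.left k.hom.left (by simp) _ _ h1
    (isHomLift_comp' (𝟙 _) k.hom.left k.hom.left (by simp) _ _ h2 h3)

theorem Ψ_comp {a : (Stk.sieveCat R).obj} {s s' : (Stk.sieveCat S).obj} (m : s' ⟶ s)
    (k : (inclSR hSR).toFunctor.obj s ⟶ a) (k' : (inclSR hSR).toFunctor.obj s' ⟶ a)
    (hk : (inclSR hSR).toFunctor.map m ≫ k = k') {x' x'' : 𝒳.obj} (χ : x' ⟶ G.toFunctor.obj a)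
    (hχ : 𝒳.p.IsHomLift k.hom.left χ)
    (κ' : x'' ⟶ x') (hκ' : 𝒳.p.IsHomLift m.hom.left κ') (h' : 𝒳.p.IsHomLift k'.hom.left (κ' ≫ χ)) :
    Ψ hSR h𝒳 δ s' k' (κ' ≫ χ) h' = κ' ≫ Ψ hSR h𝒳 δ s k χ hχ := by
  subst hk
  have hL := lift_isHomLift h𝒳 k.hom.left (G.toFunctor.map k) (sieve_map_isHomLift G k) (𝟙 _) k.hom.left
    (by simp) χ hχ
  have hL' := lift_isHomLift h𝒳 ((inclSR hSR).toFunctor.map m ≫ k).hom.left
    (G.toFunctor.map ((inclSR hSR).toFunctor.map m ≫ k)) (sieve_map_isHomLift G _) (𝟙 _)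
    ((inclSR hSR).toFunctor.map m ≫ k).hom.left (by simp) (κ' ≫ χ) h'
  have cL := lift_comp h𝒳 k.hom.left (G.toFunctor.map k) (sieve_map_isHomLift G k) (𝟙 _) k.hom.left
    (by simp) χ hχ
  have cL' := lift_comp h𝒳 ((inclSR hSR).toFunctor.map m ≫ k).hom.left
    (G.toFunctor.map ((inclSR hSR).toFunctor.map m ≫ k)) (sieve_map_isHomLift G _) (𝟙 _)
    ((inclSR hSR).toFunctor.map m ≫ k).hom.left (by simp) (κ' ≫ χ) h'
  have hGm : 𝒳.p.IsHomLift m.hom.left (G.toFunctor.map ((inclSR hSR).toFunctor.map m)) :=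
    sieve_map_isHomLift G ((inclSR hSR).toFunctor.map m)
  have key : lift h𝒳 ((inclSR hSR).toFunctor.map m ≫ k).hom.left
      (G.toFunctor.map ((inclSR hSR).toFunctor.map m ≫ k)) (sieve_map_isHomLift G _) (𝟙 _)
      ((inclSR hSR).toFunctor.map m ≫ k).hom.left (by simp) (κ' ≫ χ) h' ≫
        G.toFunctor.map ((inclSR hSR).toFunctor.map m) =
      κ' ≫ lift h𝒳 k.hom.left (G.toFunctor.map k) (sieve_map_isHomLift G k) (𝟙 _) k.hom.left (by simp) χ hχ := by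
    apply cancel h𝒳 (G.toFunctor.map k) m.hom.left
    · exact isHomLift_comp' (𝟙 _) m.hom.left _ (by simp) _ _ hL' hGm
    · exact isHomLift_comp' m.hom.left (𝟙 _) _ (by simp) _ _ hκ' hL
    · rw [Category.assoc, ← G.toFunctor.map_comp, cL', Category.assoc, cL]
  have nat : G.toFunctor.map ((inclSR hSR).toFunctor.map m) ≫ δ.toNatTrans.app s =
      δ.toNatTrans.app s' ≫ G'.toFunctor.map ((inclSR hSR).toFunctor.map m) :=
    δ.toNatTrans.naturality m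
  dsimp only [Ψ]
  rw [G'.toFunctor.map_comp, ← Category.assoc (δ.toNatTrans.app s'), ← nat, Category.assoc,
    ← Category.assoc _ (G.toFunctor.map ((inclSR hSR).toFunctor.map m)), key, Category.assoc]

theorem Ψ_map {a b : (Stk.sieveCat R).obj} (j : a ⟶ b) (s : (Stk.sieveCat S).obj)
    (k : (inclSR hSR).toFunctor.obj s ⟶ a) {x' : 𝒳.obj}
    (χ : x' ⟶ G.toFunctor.obj a) (hχ : 𝒳.p.IsHomLift k.hom.left χ)
    (h' : 𝒳.p.IsHomLift (k ≫ j).hom.left (χ ≫ G.toFunctor.map j)) :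
    Ψ hSR h𝒳 δ s (k ≫ j) (χ ≫ G.toFunctor.map j) h' = Ψ hSR h𝒳 δ s k χ hχ ≫ G'.toFunctor.map j := by
  have hL := lift_isHomLift h𝒳 k.hom.left (G.toFunctor.map k) (sieve_map_isHomLift G k) (𝟙 _) k.hom.left
    (by simp) χ hχ
  have cL := lift_comp h𝒳 k.hom.left (G.toFunctor.map k) (sieve_map_isHomLift G k) (𝟙 _) k.hom.left
    (by simp) χ hχ
  have e : lift h𝒳 k.hom.left (G.toFunctor.map k) (sieve_map_isHomLift G k) (𝟙 _) k.hom.left (by simp) χ hχ =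
      lift h𝒳 (k ≫ j).hom.left (G.toFunctor.map (k ≫ j)) (sieve_map_isHomLift G _) (𝟙 _) (k ≫ j).hom.left
        (by simp) (χ ≫ G.toFunctor.map j) h' := by
    apply lift_uniq h𝒳 _ _ _ _ _ _ _ _ _ hL
    rw [G.toFunctor.map_comp, ← Category.assoc, cL]
  dsimp only [Ψ]
  rw [← e, G'.toFunctor.map_comp, Category.assoc, Category.assoc]

theorem Ψ_self (s : (Stk.sieveCat S).obj) {x' : 𝒳.obj}
    (χ : x' ⟶ G.toFunctor.obj ((inclSR hSR).toFunctor.obj s))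
    (hχ : 𝒳.p.IsHomLift (𝟙 ((inclSR hSR).toFunctor.obj s) :
      (inclSR hSR).toFunctor.obj s ⟶ (inclSR hSR).toFunctor.obj s).hom.left χ) :
    Ψ hSR h𝒳 δ s (𝟙 _) χ hχ = χ ≫ δ.toNatTrans.app s := by
  have e : χ = lift h𝒳 (𝟙 ((inclSR hSR).toFunctor.obj s) :
      (inclSR hSR).toFunctor.obj s ⟶ (inclSR hSR).toFunctor.obj s).hom.left
      (G.toFunctor.map (𝟙 _)) (sieve_map_isHomLift G _) (𝟙 _)
      (𝟙 ((inclSR hSR).toFunctor.obj s) :
      (inclSR hSR).toFunctor.obj s ⟶ (inclSR hSR).toFunctor.obj s).hom.left (by simp) χ hχ := by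
    apply lift_uniq h𝒳 _ _ _ _ _ _ _ _ _ hχ
    rw [G.toFunctor.map_id, Category.comp_id]
  have e2 : G'.toFunctor.map (𝟙 ((inclSR hSR).toFunctor.obj s)) = 𝟙 (G'.toFunctor.obj ((inclSR hSR).toFunctor.obj s)) := G'.toFunctor.map_id _
  have e3 : Ψ hSR h𝒳 δ s (𝟙 _) χ hχ = lift h𝒳 (𝟙 ((inclSR hSR).toFunctor.obj s) :
      (inclSR hSR).toFunctor.obj s ⟶ (inclSR hSR).toFunctor.obj s).hom.left
      (G.toFunctor.map (𝟙 _)) (sieve_map_isHomLift G _) (𝟙 _)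
      (𝟙 ((inclSR hSR).toFunctor.obj s) :
      (inclSR hSR).toFunctor.obj s ⟶ (inclSR hSR).toFunctor.obj s).hom.left (by simp) χ hχ ≫
      δ.toNatTrans.app s ≫ 𝟙 (G'.toFunctor.obj ((inclSR hSR).toFunctor.obj s)) := by
    rw [← e2]; rfl
  rw [e3, ← e]
  exact congrArg (fun t => χ ≫ t) (Category.comp_id _)

end full


theorem full_SS (h𝒳 : FibCat.IsFibGrpd 𝒳.p)
    (hsep : ∀ ⦃V' : C⦄ (f : V' ⟶ U), R f → SepFor 𝒳 (S.pullback f))
    (hglue : ∀ ⦃V' : C⦄ (f : V' ⟶ U), R f → GlueFor 𝒳 (S.pullback f)) : (resSS hSR 𝒳).Full := by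
  refine ⟨fun {G G'} δ => ?_⟩
  have hex : ∀ a : (Stk.sieveCat R).obj, ∃ θa : G.toFunctor.obj a ⟶ G'.toFunctor.obj a,
      𝒳.p.IsHomLift (𝟙 a.obj.left) θa ∧
      ∀ (s : (Stk.sieveCat S).obj) (k : (inclSR hSR).toFunctor.obj s ⟶ a) (x' : 𝒳.obj)
        (χ : x' ⟶ G.toFunctor.obj a) (hχ : 𝒳.p.IsHomLift k.hom.left χ), χ ≫ θa = Ψ hSR h𝒳 δ s k χ hχ := by
    intro a
    obtain ⟨θa, h1, h2⟩ := hglue a.obj.hom a.property (𝟙 a.obj.left) (G.toFunctor.obj a) (G'.toFunctor.obj a)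
      (G.w_obj a) (G'.w_obj a)
      (fun V' f hf x' χ hχ => Ψ hSR h𝒳 δ ⟨Over.mk (f ≫ a.obj.hom), hf⟩
        (ObjectProperty.homMk (Over.homMk f rfl)) χ hχ)
      (fun V' f hf x' χ hχ => by
        have := Ψ_isHomLift hSR h𝒳 δ ⟨Over.mk (f ≫ a.obj.hom), hf⟩
          (ObjectProperty.homMk (Over.homMk f rfl)) χ hχ
        simpa using this)
      (fun V' f hf x' χ hχ V'' f' x'' κ hκ h' =>
        Ψ_comp hSR h𝒳 δ (s := ⟨Over.mk (f ≫ a.obj.hom), hf⟩)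
          (s' := ⟨Over.mk ((f' ≫ f) ≫ a.obj.hom), (S.pullback a.obj.hom).downward_closed hf f'⟩)
          (ObjectProperty.homMk (Over.homMk f' (by simp))) (ObjectProperty.homMk (Over.homMk f rfl))
          (ObjectProperty.homMk (Over.homMk (f' ≫ f) rfl))
          (by apply ObjectProperty.hom_ext; ext; rfl) χ hχ κ hκ h')
    refine ⟨θa, h1, ?_⟩
    intro s k x' χ hχ
    have hk : S (k.hom.left ≫ a.obj.hom) := by rw [Over.w k.hom]; exact s.property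
    rw [h2 k.hom.left hk x' χ hχ]
    have := Ψ_comp hSR h𝒳 δ (s' := ⟨Over.mk (k.hom.left ≫ a.obj.hom), hk⟩) (s := s)
      (ObjectProperty.homMk (Over.homMk (𝟙 _) (by rw [Category.id_comp]; exact (Over.w k.hom).symm))) k
      (ObjectProperty.homMk (Over.homMk k.hom.left rfl))
      (by apply ObjectProperty.hom_ext; ext; exact Category.id_comp _) χ hχ (𝟙 x')
      (IsHomLift.id (IsHomLift.domain_eq 𝒳.p k.hom.left χ)) (by simpa using hχ)
    simpa using this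
  choose θ hθ1 hθ2 using hex
  have hnat : ∀ {a b : (Stk.sieveCat R).obj} (j : a ⟶ b),
      G.toFunctor.map j ≫ θ b = θ a ≫ G'.toFunctor.map j := by
    intro a b j
    have hGj := sieve_map_isHomLift G j
    have hG'j := sieve_map_isHomLift G' j
    apply hsep a.obj.hom a.property j.hom.left _ _
      (isHomLift_comp' j.hom.left (𝟙 _) _ (by simp) _ _ hGj (hθ1 b))
      (isHomLift_comp' (𝟙 _) j.hom.left _ (by simp) _ _ (hθ1 a) hG'j)
    intro V' f hf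
    let s : (Stk.sieveCat S).obj := ⟨Over.mk (f ≫ a.obj.hom), hf⟩
    let k : (inclSR hSR).toFunctor.obj s ⟶ a := ObjectProperty.homMk (Over.homMk f rfl)
    have hGk := sieve_map_isHomLift G k
    have hGkj : 𝒳.p.IsHomLift (k ≫ j).hom.left (G.toFunctor.map k ≫ G.toFunctor.map j) := by
      rw [← G.toFunctor.map_comp]; exact sieve_map_isHomLift G (k ≫ j)
    refine ⟨G.toFunctor.obj ((inclSR hSR).toFunctor.obj s), G.toFunctor.map k, hGk, ?_⟩
    rw [← Category.assoc, hθ2 b s (k ≫ j) _ (G.toFunctor.map k ≫ G.toFunctor.map j) hGkj,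
      Ψ_map hSR h𝒳 δ j s k (G.toFunctor.map k) hGk, ← hθ2 a s k _ (G.toFunctor.map k) hGk, Category.assoc]
  let α : G ⟶ G' :=
    { toNatTrans := { app := θ, naturality := fun a b j => hnat j }
      isHomLift' := fun a => hθ1 a }
  refine ⟨α, ?_⟩
  apply BasedNatTrans.homCategory.ext
  ext s
  change θ ((inclSR hSR).toFunctor.obj s) = δ.toNatTrans.app s
  have h1 := hθ2 ((inclSR hSR).toFunctor.obj s) s (𝟙 _) _ (𝟙 _)
    (IsHomLift.id (G.w_obj ((inclSR hSR).toFunctor.obj s)))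
  rw [Ψ_self hSR h𝒳 δ s (𝟙 _) (IsHomLift.id (G.w_obj ((inclSR hSR).toFunctor.obj s)))] at h1
  simpa using h1

include hSR in
/-- S12815 -/
theorem isStackFor_of_le (h𝒳 : FibCat.IsFibGrpd 𝒳.p) (hS : Stk.IsStackFor S 𝒳)
    (hR : ∀ ⦃V : C⦄ (f : V ⟶ U), R f → Stk.IsPrestackFor (S.pullback f) 𝒳) : Stk.IsStackFor R 𝒳 := by
  have hsep : ∀ ⦃V' : C⦄ (f : V' ⟶ U), R f → SepFor 𝒳 (S.pullback f) := fun V' f hf =>
    sepFor_of_faithful h𝒳 _ (hR f hf).2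
  have hglue : ∀ ⦃V' : C⦄ (f : V' ⟶ U), R f → GlueFor 𝒳 (S.pullback f) := fun V' f hf =>
    glueFor_of_full h𝒳 _ (hR f hf).1
  have hfa := faithful_SS hSR hsep
  have hfu := full_SS hSR h𝒳 hsep hglue
  have hS' : (Stk.resSieve S 𝒳).IsEquivalence := hS
  have hcomp : (Stk.resSieve R 𝒳 ⋙ resSS hSR 𝒳).IsEquivalence :=
    Functor.isEquivalence_of_iso (resFac hSR 𝒳).symm
  have h1 : (Stk.resSieve R 𝒳).Faithful := Functor.Faithful.of_comp (Stk.resSieve R 𝒳) (resSS hSR 𝒳)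
  have h2 : (Stk.resSieve R 𝒳).Full := Functor.Full.of_comp_faithful (Stk.resSieve R 𝒳) (resSS hSR 𝒳)
  have h3 : (Stk.resSieve R 𝒳).EssSurj := by
    refine ⟨fun D => ?_⟩
    let G := (Stk.resSieve R 𝒳 ⋙ resSS hSR 𝒳).objPreimage ((resSS hSR 𝒳).obj D)
    let e : (resSS hSR 𝒳).obj ((Stk.resSieve R 𝒳).obj G) ≅ (resSS hSR 𝒳).obj D :=
      (Stk.resSieve R 𝒳 ⋙ resSS hSR 𝒳).objObjPreimageIso ((resSS hSR 𝒳).obj D)
    exact ⟨G, ⟨(resSS hSR 𝒳).preimageIso e⟩⟩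
  exact { faithful := h1, full := h2, essSurj := h3 }

end Groth.Agent.Lib.helper27.StkElem2
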