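import Groth.Agent.Lib.Helper27.StkElem1
set_option autoImplicit false
set_option backward.isDefEq.respectTransparency false
set_option backward.isDefEq.respectTransparency.types false
set_option linter.unusedSectionVars false
set_option linter.style.haveILetI false
open CategoryTheory CategoryTheory.Functor CategoryTheory.Limits
universe v₄ u₄ v₃ u₃ v₂ u₂ v u

namespace Groth.Agent.Lib.helper27.StkElem3
open Groth.Agent.FibEquiv Groth.Agent.FibFiberwise Groth.Agent.FibFpProj Groth.Agent.FibYoneda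
open Groth.Agent.Lib.helper4 Groth.Agent.Lib.helper27.StkElem1

variable {C : Type u} [Category.{v} C] (𝒳 : BasedCategory.{v₂, u₂} C)

/-- gluing of morphisms over an identity -/
def GlueForId {V : C} (R : Sieve V) : Prop :=
  ∀ (x y : 𝒳.obj), 𝒳.p.obj x = V → 𝒳.p.obj y = V →
    ∀ (φ : ∀ ⦃V' : C⦄ (f : V' ⟶ V), R f → ∀ (x' : 𝒳.obj) (χ : x' ⟶ x), 𝒳.p.IsHomLift f χ → (x' ⟶ y)),
      (∀ ⦃V' : C⦄ (f : V' ⟶ V) (hf : R f) (x' : 𝒳.obj) (χ : x' ⟶ x) (hχ : 𝒳.p.IsHomLift f χ),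
        𝒳.p.IsHomLift f (φ f hf x' χ hχ)) →
      (∀ ⦃V' : C⦄ (f : V' ⟶ V) (hf : R f) (x' : 𝒳.obj) (χ : x' ⟶ x) (hχ : 𝒳.p.IsHomLift f χ)
        ⦃V'' : C⦄ (f' : V'' ⟶ V') (x'' : 𝒳.obj) (κ : x'' ⟶ x') (_ : 𝒳.p.IsHomLift f' κ)
        (h' : 𝒳.p.IsHomLift (f' ≫ f) (κ ≫ χ)),
        φ (f' ≫ f) (R.downward_closed hf f') x'' (κ ≫ χ) h' = κ ≫ φ f hf x' χ hχ) →
      ∃ a : x ⟶ y, 𝒳.p.IsHomLift (𝟙 V) a ∧
        ∀ ⦃V' : C⦄ (f : V' ⟶ V) (hf : R f) (x' : 𝒳.obj) (χ : x' ⟶ x) (hχ : 𝒳.p.IsHomLift f χ),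
          χ ≫ a = φ f hf x' χ hχ

variable {𝒳}

theorem glueFor_of_id (h𝒳 : FibCat.IsFibGrpd 𝒳.p) {V : C} (R : Sieve V) (h : GlueForId 𝒳 R) : GlueFor 𝒳 R := by
  intro W g x y hx hy φ hφ hc
  obtain ⟨y', γ, hγ⟩ := exists_lift_of_eq 𝒳.p h𝒳 hy g
  have hy' : 𝒳.p.obj y' = V := IsHomLift.domain_eq 𝒳.p g γ
  obtain ⟨a', ha', haφ⟩ := h x y' hx hy'
    (fun V' f hf x' χ hχ => lift h𝒳 g γ hγ f (f ≫ g) rfl (φ f hf x' χ hχ) (hφ f hf x' χ hχ))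
    (fun V' f hf x' χ hχ => lift_isHomLift h𝒳 g γ hγ f (f ≫ g) rfl (φ f hf x' χ hχ) (hφ f hf x' χ hχ))
    (fun V' f hf x' χ hχ V'' f' x'' κ hκ h' => by
      have h1 := lift_isHomLift h𝒳 g γ hγ f (f ≫ g) rfl (φ f hf x' χ hχ) (hφ f hf x' χ hχ)
      have h2 := lift_isHomLift h𝒳 g γ hγ (f' ≫ f) ((f' ≫ f) ≫ g) rfl
        (φ (f' ≫ f) (R.downward_closed hf f') x'' (κ ≫ χ) h') (hφ _ _ _ _ _)
      apply cancel h𝒳 γ (f' ≫ f)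
      · exact h2
      · exact isHomLift_comp' f' f _ rfl _ _ hκ h1
      · rw [lift_comp, Category.assoc, lift_comp, hc f hf x' χ hχ f' x'' κ hκ h'])
  refine ⟨a' ≫ γ, isHomLift_comp' (𝟙 _) g _ (by simp) _ _ ha' hγ, ?_⟩
  intro V' f hf x' χ hχ
  rw [← Category.assoc, haφ f hf x' χ hχ, lift_comp]

end Groth.Agent.Lib.helper27.StkElem3
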