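import Groth.Agent.Lib.Helper27.StkElem3
import Groth.Agent.Lib.Helper27.StkComp
set_option autoImplicit false
set_option backward.isDefEq.respectTransparency false
set_option backward.isDefEq.respectTransparency.types false
set_option linter.unusedSectionVars false
set_option linter.style.haveILetI false
open CategoryTheory CategoryTheory.Functor CategoryTheory.Limits
universe v₄ u₄ v₃ u₃ v₂ u₂ v u

namespace Groth.Agent.Lib.helper27.StkFaith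
open Groth.Agent.FibEquiv Groth.Agent.FibFiberwise Groth.Agent.FibFpProj Groth.Agent.FibYoneda Groth.Agent.FibFp
open Groth.Agent.Lib.helper4 Groth.Agent.Lib.helper27.StkElem1 Groth.Agent.Lib.helper27.StkElem3
open Groth.Agent.Lib.helper27.StkComp

variable {C : Type u} [Category.{v} C] {J : GrothendieckTopology C} {𝒮 : BasedCategory.{v₂, u₂} C}
  {𝒯 : BasedCategory.{v₃, u₃} C} (F : 𝒮 ⥤ᵇ 𝒯)

/-- the 2-fibre product `(C/U) ×_𝒯 𝒮` over `C/U` -/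
abbrev ZB {U : C} (y : FibCat.overCat U ⥤ᵇ 𝒯) :=
  BasedCategory.ofFunctor ((FibCat.fpFst y F).toFunctor : (FibCat.fp y F).obj ⥤ Over U)

theorem sep_faith (h𝒯 : Stk.IsStack J 𝒯) [F.toFunctor.Faithful] ⦃V : C⦄ (R : Sieve V) (hR : R ∈ J V) :
    SepFor 𝒮 R := by
  obtain ⟨sep𝒯, -, -⟩ := elem_of_isStack J h𝒯
  intro W g s₁ s₂ a b ha hb hloc
  apply F.toFunctor.map_injective
  apply sep𝒯 R hR g _ _ inferInstance inferInstance
  intro V' f hf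
  obtain ⟨s', χ, hχ, e⟩ := hloc f hf
  exact ⟨F.toFunctor.obj s', F.toFunctor.map χ, inferInstance, by
    rw [← F.toFunctor.map_comp, ← F.toFunctor.map_comp, e]⟩

theorem glueId_faith (h𝒮 : FibCat.IsFibGrpd 𝒮.p) (h𝒯 : Stk.IsStack J 𝒯) [F.toFunctor.Faithful]
    (h3 : ∀ (U : C) (y : FibCat.overCat U ⥤ᵇ 𝒯), Stk.IsStack (J.over U) (ZB F y))
    ⦃V : C⦄ (R : Sieve V) (hR : R ∈ J V) : GlueForId 𝒮 R := by
  obtain ⟨-, glue𝒯, -⟩ := elem_of_isStack J h𝒯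
  have h𝒯g := h𝒯.1
  intro s₁ s₂ hs₁ hs₂ φ hφ hc
  subst hs₁
  have φ_congr : ∀ ⦃V' : C⦄ (f₁ f₂ : V' ⟶ 𝒮.p.obj s₁) (e : f₁ = f₂) (hf₁ : R f₁) (hf₂ : R f₂)
      (s' : 𝒮.obj) (χ₁ χ₂ : s' ⟶ s₁) (e' : χ₁ = χ₂) (h₁ : 𝒮.p.IsHomLift f₁ χ₁)
      (h₂ : 𝒮.p.IsHomLift f₂ χ₂), φ f₁ hf₁ s' χ₁ h₁ = φ f₂ hf₂ s' χ₂ h₂ := by
    intro V' f₁ f₂ e hf₁ hf₂ s' χ₁ χ₂ e' h₁ h₂; subst e e'; rfl
  have hex := fun (V' : C) (f : V' ⟶ 𝒮.p.obj s₁) (_ : R f) => h𝒮.exists_lift (x := s₁) f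
  choose S' X hX using hex
  have hFX : ∀ (V' : C) (f : V' ⟶ 𝒮.p.obj s₁) (hf : R f), 𝒯.p.IsHomLift f (F.toFunctor.map (X V' f hf)) :=
    fun V' f hf => by have := hX V' f hf; infer_instance
  obtain ⟨h, hh, hhψ⟩ := glue𝒯 R hR (𝟙 _) (F.toFunctor.obj s₁) (F.toFunctor.obj s₂) (F.w_obj s₁)
    ((F.w_obj s₂).trans hs₂)
    (fun V' f hf t' ζ hζ => lift h𝒯g f (F.toFunctor.map (X V' f hf)) (hFX V' f hf) (𝟙 _) f (by simp) ζ hζ ≫
      F.toFunctor.map (φ f hf _ (X V' f hf) (hX V' f hf)))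
    (fun V' f hf t' ζ hζ => by
      have h1 := lift_isHomLift h𝒯g f (F.toFunctor.map (X V' f hf)) (hFX V' f hf) (𝟙 _) f (by simp) ζ hζ
      have h2 : 𝒯.p.IsHomLift f (F.toFunctor.map (φ f hf _ (X V' f hf) (hX V' f hf))) := by
        have := hφ f hf _ (X V' f hf) (hX V' f hf); infer_instance
      exact isHomLift_comp' (𝟙 _) f _ (by simp) _ _ h1 h2)
    (fun V' f hf t' ζ hζ V'' f' t'' κ' hκ' h' => by
      have hf' : R (f' ≫ f) := R.downward_closed hf f'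
      have hm := lift_isHomLift h𝒮 f (X V' f hf) (hX V' f hf) f' (f' ≫ f) rfl (X V'' (f' ≫ f) hf')
        (hX V'' (f' ≫ f) hf')
      have cm := lift_comp h𝒮 f (X V' f hf) (hX V' f hf) f' (f' ≫ f) rfl (X V'' (f' ≫ f) hf')
        (hX V'' (f' ≫ f) hf')
      have hFm : 𝒯.p.IsHomLift f' (F.toFunctor.map (lift h𝒮 f (X V' f hf) (hX V' f hf) f' (f' ≫ f) rfl
          (X V'' (f' ≫ f) hf') (hX V'' (f' ≫ f) hf'))) := inferInstance
      have h4 : 𝒮.p.IsHomLift (f' ≫ f) (lift h𝒮 f (X V' f hf) (hX V' f hf) f' (f' ≫ f) rfl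
          (X V'' (f' ≫ f) hf') (hX V'' (f' ≫ f) hf') ≫ X V' f hf) := by
        rw [cm]; exact hX V'' (f' ≫ f) hf'
      have e1 : φ (f' ≫ f) hf' _ (X V'' (f' ≫ f) hf') (hX V'' (f' ≫ f) hf') =
          lift h𝒮 f (X V' f hf) (hX V' f hf) f' (f' ≫ f) rfl (X V'' (f' ≫ f) hf') (hX V'' (f' ≫ f) hf') ≫
            φ f hf _ (X V' f hf) (hX V' f hf) := by
        rw [← hc f hf _ (X V' f hf) (hX V' f hf) f' _ _ hm h4]
        exact φ_congr _ _ rfl _ _ _ _ _ cm.symm _ _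
      have hκ := lift_isHomLift h𝒯g f (F.toFunctor.map (X V' f hf)) (hFX V' f hf) (𝟙 _) f (by simp) ζ hζ
      have cκ := lift_comp h𝒯g f (F.toFunctor.map (X V' f hf)) (hFX V' f hf) (𝟙 _) f (by simp) ζ hζ
      have hκ₂ := lift_isHomLift h𝒯g (f' ≫ f) (F.toFunctor.map (X V'' (f' ≫ f) hf')) (hFX V'' (f' ≫ f) hf')
        (𝟙 _) (f' ≫ f) (by simp) (κ' ≫ ζ) h'
      have cκ₂ := lift_comp h𝒯g (f' ≫ f) (F.toFunctor.map (X V'' (f' ≫ f) hf')) (hFX V'' (f' ≫ f) hf')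
        (𝟙 _) (f' ≫ f) (by simp) (κ' ≫ ζ) h'
      have key : lift h𝒯g (f' ≫ f) (F.toFunctor.map (X V'' (f' ≫ f) hf')) (hFX V'' (f' ≫ f) hf')
          (𝟙 _) (f' ≫ f) (by simp) (κ' ≫ ζ) h' ≫
          F.toFunctor.map (lift h𝒮 f (X V' f hf) (hX V' f hf) f' (f' ≫ f) rfl (X V'' (f' ≫ f) hf')
            (hX V'' (f' ≫ f) hf')) =
          κ' ≫ lift h𝒯g f (F.toFunctor.map (X V' f hf)) (hFX V' f hf) (𝟙 _) f (by simp) ζ hζ := by
        apply cancel h𝒯g (F.toFunctor.map (X V' f hf)) f'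
        · exact isHomLift_comp' (𝟙 _) f' _ (by simp) _ _ hκ₂ hFm
        · exact isHomLift_comp' f' (𝟙 _) _ (by simp) _ _ hκ' hκ
        · rw [Category.assoc, ← F.toFunctor.map_comp, cm, cκ₂, Category.assoc, cκ]
      change lift h𝒯g (f' ≫ f) (F.toFunctor.map (X V'' (f' ≫ f) hf')) (hFX V'' (f' ≫ f) hf')
          (𝟙 _) (f' ≫ f) (by simp) (κ' ≫ ζ) h' ≫
          F.toFunctor.map (φ (f' ≫ f) hf' _ (X V'' (f' ≫ f) hf') (hX V'' (f' ≫ f) hf')) =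
        κ' ≫ lift h𝒯g f (F.toFunctor.map (X V' f hf)) (hFX V' f hf) (𝟙 _) f (by simp) ζ hζ ≫
          F.toFunctor.map (φ f hf _ (X V' f hf) (hX V' f hf))
      rw [e1, F.toFunctor.map_comp, ← Category.assoc, key, Category.assoc])
  -- the glued morphism is locally `F φ`
  have hFχ : ∀ ⦃V' : C⦄ (f : V' ⟶ 𝒮.p.obj s₁) (hf : R f) (s' : 𝒮.obj) (χ : s' ⟶ s₁) (hχ : 𝒮.p.IsHomLift f χ),
      F.toFunctor.map χ ≫ h = F.toFunctor.map (φ f hf s' χ hχ) := by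
    intro V' f hf s' χ hχ
    have hFχl : 𝒯.p.IsHomLift f (F.toFunctor.map χ) := inferInstance
    rw [hhψ f hf _ (F.toFunctor.map χ) hFχl]
    have hm := lift_isHomLift h𝒮 f (X V' f hf) (hX V' f hf) (𝟙 _) f (by simp) χ hχ
    have cm := lift_comp h𝒮 f (X V' f hf) (hX V' f hf) (𝟙 _) f (by simp) χ hχ
    have hFm : 𝒯.p.IsHomLift (𝟙 V') (F.toFunctor.map (lift h𝒮 f (X V' f hf) (hX V' f hf) (𝟙 _) f (by simp) χ hχ)) :=
      inferInstance
    have e1 : F.toFunctor.map (lift h𝒮 f (X V' f hf) (hX V' f hf) (𝟙 _) f (by simp) χ hχ) =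
        lift h𝒯g f (F.toFunctor.map (X V' f hf)) (hFX V' f hf) (𝟙 _) f (by simp) (F.toFunctor.map χ) hFχl := by
      apply lift_uniq h𝒯g _ _ _ _ _ _ _ _ _ hFm
      rw [← F.toFunctor.map_comp, cm]
    have h4 : 𝒮.p.IsHomLift (𝟙 V' ≫ f) (lift h𝒮 f (X V' f hf) (hX V' f hf) (𝟙 _) f (by simp) χ hχ ≫ X V' f hf) := by
      rw [cm, Category.id_comp]; exact hχ
    have e2 : φ f hf s' χ hχ = lift h𝒮 f (X V' f hf) (hX V' f hf) (𝟙 _) f (by simp) χ hχ ≫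
        φ f hf _ (X V' f hf) (hX V' f hf) := by
      rw [← hc f hf _ (X V' f hf) (hX V' f hf) (𝟙 V') _ _ hm h4]
      exact φ_congr _ _ (by simp) _ _ _ _ _ cm.symm _ _
    rw [← e1, e2, F.toFunctor.map_comp]
  -- the fibre product over the slice
  haveI : 𝒮.p.IsFibered := isFibered_of_isFibGrpd 𝒮.p h𝒮
  let y : FibCat.overCat (𝒮.p.obj s₁) ⥤ᵇ 𝒯 := BasedFunctor.comp (yBased s₁) F
  let I : Over (𝒮.p.obj s₁) := Over.mk (𝟙 (𝒮.p.obj s₁))
  let E : yObj s₁ I ⟶ s₁ := yMap s₁ I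
  have hE : 𝒮.p.IsHomLift (𝟙 (𝒮.p.obj s₁)) E := (yMap_isStronglyCartesian s₁ I).toIsHomLift
  have hEiso : IsIso E := Descent.isIso_of_lift h𝒮 (𝟙 (𝒮.p.obj s₁)) E
  have hFE : 𝒯.p.IsHomLift (𝟙 (𝒮.p.obj s₁)) (F.toFunctor.map E) := inferInstance
  have hiso : IsIso h := Descent.isIso_of_lift h𝒯g (𝟙 (𝒮.p.obj s₁)) h
  let z₁ : (ZB F y).obj := ⟨⟨I, s₁, F.toFunctor.mapIso (asIso E)⟩, hFE⟩
  let z₂ : (ZB F y).obj := ⟨⟨I, s₂, F.toFunctor.mapIso (asIso E) ≪≫ asIso h⟩,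
    isHomLift_comp' (𝒳 := 𝒯) (𝟙 _) (𝟙 _) _ (by simp) _ _ hFE hh⟩
  obtain ⟨-, glueZ, -⟩ := elem_of_isStack _ (h3 (𝒮.p.obj s₁) y)
  have hR' : (Sieve.overEquiv I).symm R ∈ (J.over (𝒮.p.obj s₁)) I := by
    rw [GrothendieckTopology.mem_over_iff, OrderIso.apply_symm_apply]; exact hR
  have memR : ∀ {B : Over (𝒮.p.obj s₁)} (b : B ⟶ I) (_ : ((Sieve.overEquiv I).symm R) b) {z' : (ZB F y).obj}
      (ζ : z' ⟶ z₁) (_ : (ZB F y).p.IsHomLift b ζ), R ζ.hom.fst.left := by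
    intro B b hb z' ζ hζ
    have hd := IsHomLift.domain_eq (ZB F y).p b ζ
    subst hd
    have e : (ZB F y).p.map ζ = b := by simpa using IsHomLift.fac' (ZB F y).p b ζ
    have e' : ζ.hom.fst = b := e
    rw [e']
    exact (Sieve.overEquiv_symm_iff _ _).1 hb
  have hsnd : ∀ {z' : (ZB F y).obj} (ζ : z' ⟶ z₁), 𝒮.p.IsHomLift ζ.hom.fst.left ζ.hom.snd := fun ζ =>
    FibCat.fp_isHomLift_snd (F := y) (G := F) ζ
  obtain ⟨A, hA, -⟩ := glueZ _ hR' (𝟙 I) z₁ z₂ rfl rfl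
    (fun B b hb z' ζ hζ => ObjectProperty.homMk
      { fst := ζ.hom.fst
        snd := φ ζ.hom.fst.left (memR b hb ζ hζ) z'.obj.snd ζ.hom.snd (hsnd ζ)
        w := by
          have w1 : y.toFunctor.map ζ.hom.fst ≫ F.toFunctor.map E =
              z'.obj.iso.hom ≫ F.toFunctor.map ζ.hom.snd := ζ.hom.w
          change y.toFunctor.map ζ.hom.fst ≫ (F.toFunctor.map E ≫ h) = z'.obj.iso.hom ≫ F.toFunctor.map _
          rw [← Category.assoc, w1, Category.assoc, hFχ] })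
    (fun B b hb z' ζ hζ => by
      have h1 := IsHomLift.domain_eq (ZB F y).p b ζ
      have h2 := IsHomLift.codomain_eq (ZB F y).p b ζ
      have h3' := IsHomLift.fac' (ZB F y).p b ζ
      refine IsHomLift.of_fac' _ _ _ h1 h2 ?_
      rw [Category.comp_id]
      exact h3')
    (fun B b hb z' ζ hζ B' b' z'' κ hκ h' => by
      apply ObjectProperty.hom_ext
      apply CategoricalPullback.hom_ext
      · rfl
      · have h5 : 𝒮.p.IsHomLift (κ.hom.fst.left ≫ ζ.hom.fst.left) (κ.hom.snd ≫ ζ.hom.snd) := by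
          have := hsnd ζ
          have : 𝒮.p.IsHomLift κ.hom.fst.left κ.hom.snd := FibCat.fp_isHomLift_snd (F := y) (G := F) κ
          infer_instance
        have e1 := hc ζ.hom.fst.left (memR b hb ζ hζ) z'.obj.snd ζ.hom.snd (hsnd ζ) κ.hom.fst.left z''.obj.snd
          κ.hom.snd (FibCat.fp_isHomLift_snd (F := y) (G := F) κ) h5
        change φ (κ ≫ ζ).hom.fst.left _ z''.obj.snd (κ ≫ ζ).hom.snd _ = κ.hom.snd ≫ φ ζ.hom.fst.left _ z'.obj.snd ζ.hom.snd _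
        rw [← e1]
        exact φ_congr _ _ rfl _ _ _ _ _ rfl _ _)
  have hAfst : A.hom.fst = 𝟙 I := by
    have e : (ZB F y).p.map A = 𝟙 ((ZB F y).p.obj z₁) := by
      simpa using IsHomLift.fac' (ZB F y).p (𝟙 I) A
    exact e
  have hAw : y.toFunctor.map A.hom.fst ≫ (F.toFunctor.map E ≫ h) =
      F.toFunctor.map E ≫ F.toFunctor.map A.hom.snd := A.hom.w
  have hFa : F.toFunctor.map A.hom.snd = h := by
    rw [hAfst, y.toFunctor.map_id, Category.id_comp] at hAw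
    have : IsIso (F.toFunctor.map E) := inferInstance
    exact ((cancel_epi (F.toFunctor.map E)).1 hAw).symm
  refine ⟨A.hom.snd, ?_, ?_⟩
  · have : 𝒯.p.IsHomLift (𝟙 (𝒮.p.obj s₁)) (F.toFunctor.map A.hom.snd) := by rw [hFa]; exact hh
    exact F.isHomLift_map _ _
  · intro V' f hf s' χ hχ
    apply F.toFunctor.map_injective
    rw [F.toFunctor.map_comp, hFa, hFχ]


theorem eff_faith (h𝒮 : FibCat.IsFibGrpd 𝒮.p) (h𝒯 : Stk.IsStack J 𝒯)
    (h3 : ∀ (U : C) (y : FibCat.overCat U ⥤ᵇ 𝒯), Stk.IsStack (J.over U) (ZB F y))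
    ⦃U : C⦄ (R : Sieve U) (hR : R ∈ J U) : EffFor 𝒮 R := by
  obtain ⟨-, -, eff𝒯⟩ := elem_of_isStack J h𝒯
  have h𝒯g := h𝒯.1
  intro D
  let FD : Stk.sieveCat R ⥤ᵇ 𝒯 := BasedFunctor.comp D F
  obtain ⟨t₀, ht₀, lT, hlT, hcT⟩ := eff𝒯 R hR FD
  subst ht₀
  haveI : 𝒯.p.IsFibered := isFibered_of_isFibGrpd 𝒯.p h𝒯g
  let y : FibCat.overCat (𝒯.p.obj t₀) ⥤ᵇ 𝒯 := yBased t₀
  let I : Over (𝒯.p.obj t₀) := Over.mk (𝟙 (𝒯.p.obj t₀))
  have hR' : (Sieve.overEquiv I).symm R ∈ (J.over (𝒯.p.obj t₀)) I := by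
    rw [GrothendieckTopology.mem_over_iff, OrderIso.apply_symm_apply]; exact hR
  have memS : ∀ σ : (Stk.sieveCat ((Sieve.overEquiv I).symm R)).obj, R σ.obj.left.hom := by
    intro σ
    have h1 : R σ.obj.hom.left := (Sieve.overEquiv_symm_iff _ _).1 σ.property
    have h2 : σ.obj.hom.left = σ.obj.left.hom := by simpa [I] using Over.w σ.obj.hom
    rwa [h2] at h1
  let sOf : (Stk.sieveCat ((Sieve.overEquiv I).symm R)).obj → (Stk.sieveCat R).obj := fun σ =>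
    ⟨σ.obj.left, memS σ⟩
  let sMap : ∀ {σ' σ : (Stk.sieveCat ((Sieve.overEquiv I).symm R)).obj} (_ : σ' ⟶ σ), sOf σ' ⟶ sOf σ :=
    fun m => ObjectProperty.homMk m.hom.left
  have hyl : ∀ a : Over (𝒯.p.obj t₀), 𝒯.p.IsHomLift a.hom (yMap t₀ a) := fun a =>
    (yMap_isStronglyCartesian t₀ a).toIsHomLift
  let κ : ∀ σ : (Stk.sieveCat ((Sieve.overEquiv I).symm R)).obj,
      yObj t₀ σ.obj.left ⟶ F.toFunctor.obj (D.toFunctor.obj (sOf σ)) := fun σ =>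
    lift h𝒯g σ.obj.left.hom (lT (sOf σ)) (hlT (sOf σ)) (𝟙 _) σ.obj.left.hom (by simp) (yMap t₀ σ.obj.left)
      (hyl σ.obj.left)
  have hκ : ∀ σ, 𝒯.p.IsHomLift (𝟙 σ.obj.left.left) (κ σ) := fun σ =>
    lift_isHomLift h𝒯g σ.obj.left.hom (lT (sOf σ)) (hlT (sOf σ)) (𝟙 _) σ.obj.left.hom (by simp)
      (yMap t₀ σ.obj.left) (hyl σ.obj.left)
  have cκ : ∀ σ, κ σ ≫ lT (sOf σ) = yMap t₀ σ.obj.left := fun σ =>
    lift_comp h𝒯g σ.obj.left.hom (lT (sOf σ)) (hlT (sOf σ)) (𝟙 _) σ.obj.left.hom (by simp)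
      (yMap t₀ σ.obj.left) (hyl σ.obj.left)
  have hκiso : ∀ σ, IsIso (κ σ) := fun σ => by
    have := hκ σ
    exact Descent.isIso_of_lift h𝒯g (𝟙 σ.obj.left.left) (κ σ)
  let D'obj : (Stk.sieveCat ((Sieve.overEquiv I).symm R)).obj → (ZB F y).obj := fun σ =>
    ⟨⟨σ.obj.left, D.toFunctor.obj (sOf σ), @asIso _ _ _ _ (κ σ) (hκiso σ)⟩, hκ σ⟩
  have hw : ∀ {σ' σ : (Stk.sieveCat ((Sieve.overEquiv I).symm R)).obj} (m : σ' ⟶ σ),
      y.toFunctor.map m.hom.left ≫ κ σ = κ σ' ≫ F.toFunctor.map (D.toFunctor.map (sMap m)) := by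
    intro σ' σ m
    have h1 := map_hom_isHomLift y m.hom.left
    have h2 : 𝒯.p.IsHomLift m.hom.left.left (F.toFunctor.map (D.toFunctor.map (sMap m))) :=
      sieve_map_isHomLift FD (sMap m)
    apply cancel h𝒯g (lT (sOf σ)) m.hom.left.left
    · exact isHomLift_comp' m.hom.left.left (𝟙 _) _ (by simp) _ _ h1 (hκ σ)
    · exact isHomLift_comp' (𝟙 _) m.hom.left.left _ (by simp) _ _ (hκ σ') h2
    · have e1 : F.toFunctor.map (D.toFunctor.map (sMap m)) ≫ lT (sOf σ) = lT (sOf σ') := hcT (sMap m)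
      have e2 : y.toFunctor.map m.hom.left ≫ yMap t₀ σ.obj.left = yMap t₀ σ'.obj.left := yHom_fac t₀ m.hom.left
      rw [Category.assoc, cκ, e2, Category.assoc, e1, cκ]
  let D'fun : (Stk.sieveCat ((Sieve.overEquiv I).symm R)).obj ⥤ (ZB F y).obj :=
    { obj := D'obj
      map := fun {σ' σ} m => ObjectProperty.homMk
        { fst := m.hom.left
          snd := D.toFunctor.map (sMap m)
          w := hw m }
      map_id := fun σ => by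
        apply ObjectProperty.hom_ext
        apply CategoricalPullback.hom_ext
        · rfl
        · change D.toFunctor.map (sMap (𝟙 σ)) = 𝟙 _
          rw [← D.toFunctor.map_id]
          rfl
      map_comp := fun m m' => by
        apply ObjectProperty.hom_ext
        apply CategoricalPullback.hom_ext
        · rfl
        · change D.toFunctor.map (sMap (m ≫ m')) = D.toFunctor.map (sMap m) ≫ D.toFunctor.map (sMap m')
          rw [← D.toFunctor.map_comp]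
          rfl }
  let D' : Stk.sieveCat ((Sieve.overEquiv I).symm R) ⥤ᵇ ZB F y :=
    { toFunctor := D'fun
      w := rfl }
  obtain ⟨-, -, effZ⟩ := elem_of_isStack _ (h3 (𝒯.p.obj t₀) y)
  obtain ⟨z₀, hz₀, lZ, hlZ, hcZ⟩ := effZ _ hR' D'
  have hz₀' : z₀.obj.fst = I := hz₀
  let σOf : (Stk.sieveCat R).obj → (Stk.sieveCat ((Sieve.overEquiv I).symm R)).obj := fun s =>
    ⟨Over.mk (toId s.obj), (Sieve.overEquiv_symm_iff _ _).2 s.property⟩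
  let σMap : ∀ {s t : (Stk.sieveCat R).obj} (_ : s ⟶ t), σOf s ⟶ σOf t := fun k =>
    ObjectProperty.homMk (Over.homMk k.hom (comp_toId k.hom))
  refine ⟨z₀.obj.snd, (snd_obj y F z₀).trans (congrArg Comma.left hz₀'),
    fun s => (lZ (σOf s)).hom.snd, ?_, ?_⟩
  · intro s
    have h1 : (ZB F y).p.IsHomLift (toId s.obj) (lZ (σOf s)) := hlZ (σOf s)
    have h2 : ((ZB F y).p ⋙ Over.forget (𝒯.p.obj t₀)).IsHomLift s.obj.hom (lZ (σOf s)) :=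
      comp_lift_of' (ZB F y).p (Over.forget (𝒯.p.obj t₀)) _ (toId s.obj) _ (hom_isHomLift (toId s.obj)) h1
    have h3' : (FibCat.fp y F).p.IsHomLift s.obj.hom (lZ (σOf s)) := h2
    exact (inferInstance : 𝒮.p.IsHomLift s.obj.hom ((FibCat.fpSnd y F).toFunctor.map (lZ (σOf s))))
  · intro s t k
    exact congrArg (fun m => m.hom.snd) (hcZ (σMap k))

theorem main (h𝒮 : FibCat.IsFibGrpd 𝒮.p) (h𝒯 : Stk.IsStack J 𝒯) [F.toFunctor.Faithful]
    (h3 : ∀ (U : C) (y : FibCat.overCat U ⥤ᵇ 𝒯), Stk.IsStack (J.over U) (ZB F y)) : Stk.IsStack J 𝒮 :=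
  isStack_of_elem J h𝒮 (sep_faith F h𝒯)
    (fun _ R hR => glueFor_of_id h𝒮 R (glueId_faith F h𝒮 h𝒯 h3 R hR))
    (eff_faith F h𝒮 h𝒯 h3)

end Groth.Agent.Lib.helper27.StkFaith
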