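import Groth.Agent.Lib.Helper27.StkElem3
set_option autoImplicit false
set_option backward.isDefEq.respectTransparency false
set_option backward.isDefEq.respectTransparency.types false
set_option linter.unusedSectionVars false
set_option linter.style.haveILetI false
open CategoryTheory CategoryTheory.Functor CategoryTheory.Limits
universe v₄ u₄ v₃ u₃ v₂ u₂ v u

namespace Groth.Agent.Lib.helper27.StkPb0
open Groth.Agent.FibEquiv Groth.Agent.FibFiberwise Groth.Agent.FibFpProj Groth.Agent.FibYoneda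
open Groth.Agent.Lib.helper4 Groth.Agent.Lib.helper27.StkElem1 Groth.Agent.Lib.helper27.StkElem3

section lifts
variable {D : Type u₂} [Category.{v₂} D] {𝒮 : BasedCategory.{v₃, u₃} D} (h𝒮 : FibCat.IsFibGrpd 𝒮.p)
include h𝒮

theorem exists_unique_lft {a b c : 𝒮.obj} (φ : a ⟶ b) (ψ : c ⟶ b) (g : 𝒮.p.obj c ⟶ 𝒮.p.obj a)
    (hg : g ≫ 𝒮.p.map φ = 𝒮.p.map ψ) : ∃! θ : c ⟶ a, 𝒮.p.IsHomLift g θ ∧ θ ≫ φ = ψ := by
  haveI := h𝒮.isStronglyCartesian φ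
  haveI : 𝒮.p.IsHomLift (g ≫ 𝒮.p.map φ) ψ := by rw [hg]; infer_instance
  exact (h𝒮.isStronglyCartesian φ).universal_property' g ψ

/-- map-based lift through a morphism of a category fibred in groupoids -/
noncomputable def lft {a b c : 𝒮.obj} (φ : a ⟶ b) (ψ : c ⟶ b) (g : 𝒮.p.obj c ⟶ 𝒮.p.obj a)
    (hg : g ≫ 𝒮.p.map φ = 𝒮.p.map ψ) : c ⟶ a :=
  (exists_unique_lft h𝒮 φ ψ g hg).choose

theorem lft_map {a b c : 𝒮.obj} (φ : a ⟶ b) (ψ : c ⟶ b) (g : 𝒮.p.obj c ⟶ 𝒮.p.obj a)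
    (hg : g ≫ 𝒮.p.map φ = 𝒮.p.map ψ) : 𝒮.p.map (lft h𝒮 φ ψ g hg) = g := by
  haveI : 𝒮.p.IsHomLift g (lft h𝒮 φ ψ g hg) := (exists_unique_lft h𝒮 φ ψ g hg).choose_spec.1.1
  exact (IsHomLift.eq_of_isHomLift (p := 𝒮.p) g (lft h𝒮 φ ψ g hg)).symm

theorem lft_comp {a b c : 𝒮.obj} (φ : a ⟶ b) (ψ : c ⟶ b) (g : 𝒮.p.obj c ⟶ 𝒮.p.obj a)
    (hg : g ≫ 𝒮.p.map φ = 𝒮.p.map ψ) : lft h𝒮 φ ψ g hg ≫ φ = ψ :=
  (exists_unique_lft h𝒮 φ ψ g hg).choose_spec.1.2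

theorem cancelS {a b c : 𝒮.obj} (φ : a ⟶ b) (θ₁ θ₂ : c ⟶ a) (h1 : 𝒮.p.map θ₁ = 𝒮.p.map θ₂)
    (h2 : θ₁ ≫ φ = θ₂ ≫ φ) : θ₁ = θ₂ := by
  have hg : 𝒮.p.map θ₁ ≫ 𝒮.p.map φ = 𝒮.p.map (θ₁ ≫ φ) := (𝒮.p.map_comp _ _).symm
  obtain ⟨θ, -, hu⟩ := exists_unique_lft h𝒮 φ (θ₁ ≫ φ) (𝒮.p.map θ₁) hg
  have e1 : θ₁ = θ := hu θ₁ ⟨inferInstance, rfl⟩
  have e2 : θ₂ = θ := hu θ₂ ⟨by rw [h1]; infer_instance, h2.symm⟩
  rw [e1, e2]

theorem lft_uniq {a b c : 𝒮.obj} (φ : a ⟶ b) (ψ : c ⟶ b) (g : 𝒮.p.obj c ⟶ 𝒮.p.obj a)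
    (hg : g ≫ 𝒮.p.map φ = 𝒮.p.map ψ) (θ : c ⟶ a) (h1 : 𝒮.p.map θ = g) (h2 : θ ≫ φ = ψ) :
    θ = lft h𝒮 φ ψ g hg :=
  cancelS h𝒮 φ _ _ (by rw [h1, lft_map]) (by rw [h2, lft_comp])

/-- pullback object along a morphism into `p b`, with `T = p a` up to a propositional equality -/
theorem exists_pull (b : 𝒮.obj) {T : D} (g : T ⟶ 𝒮.p.obj b) :
    ∃ (a : 𝒮.obj) (φ : a ⟶ b) (e : 𝒮.p.obj a = T), 𝒮.p.map φ = eqToHom e ≫ g := by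
  obtain ⟨a, φ, hφ⟩ := h𝒮.exists_lift g
  have e := IsHomLift.domain_eq 𝒮.p g φ
  refine ⟨a, φ, e, ?_⟩
  have := IsHomLift.fac' 𝒮.p g φ
  simpa using this

end lifts

variable {C : Type u} [Category.{v} C] {D : Type u₂} [Category.{v₂} D] (u : C ⥤ D)
  (𝒮 : BasedCategory.{v₃, u₃} D)

theorem map_snd {x' x : CategoricalPullback u 𝒮.p} (χ : x' ⟶ x) :
    𝒮.p.map χ.snd = x'.iso.inv ≫ u.map χ.fst ≫ x.iso.hom := by
  rw [χ.w]; simp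

theorem isFibGrpd_π₁ (h𝒮 : FibCat.IsFibGrpd 𝒮.p) : FibCat.IsFibGrpd (CategoricalPullback.π₁ u 𝒮.p) := by
  refine ⟨?_, ?_⟩
  · intro x V f
    obtain ⟨a, φ, e, hφ⟩ := exists_pull h𝒮 x.snd (u.map f ≫ x.iso.hom)
    refine ⟨⟨V, a, eqToIso e.symm⟩, ⟨f, φ, by simp [hφ]⟩, ?_⟩
    exact IsHomLift.of_fac' _ _ _ rfl rfl (by simp)
  · intro x' x m
    refine { toIsHomLift := inferInstance, universal_property' := ?_ }
    intro x'' g₀ ψ hψ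
    have hψ1 : ψ.fst = g₀ ≫ m.fst := by
      have := IsHomLift.fac' (CategoricalPullback.π₁ u 𝒮.p) (g₀ ≫ (CategoricalPullback.π₁ u 𝒮.p).map m) ψ
      simpa using this
    have hb : (x''.iso.inv ≫ u.map g₀ ≫ x'.iso.hom) ≫ 𝒮.p.map m.snd = 𝒮.p.map ψ.snd := by
      rw [map_snd, map_snd, hψ1]; simp
    let β := lft h𝒮 m.snd ψ.snd _ hb
    have hβ1 : 𝒮.p.map β = x''.iso.inv ≫ u.map g₀ ≫ x'.iso.hom := lft_map h𝒮 _ _ _ hb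
    have hβ2 : β ≫ m.snd = ψ.snd := lft_comp h𝒮 _ _ _ hb
    refine ⟨⟨g₀, β, by rw [hβ1]; simp⟩, ⟨IsHomLift.of_fac' _ _ _ rfl rfl (by simp), ?_⟩, ?_⟩
    · apply CategoricalPullback.hom_ext
      · simp [hψ1]
      · simpa using hβ2
    · rintro χ' ⟨h1, h2⟩
      have hχ'1 : χ'.fst = g₀ := by
        have := IsHomLift.fac' (CategoricalPullback.π₁ u 𝒮.p) g₀ χ'
        simpa using this
      apply CategoricalPullback.hom_ext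
      · simpa using hχ'1
      · change χ'.snd = β
        apply lft_uniq h𝒮
        · rw [map_snd, hχ'1]
        · have := congrArg CategoricalPullback.Hom.snd h2
          simpa using this

end Groth.Agent.Lib.helper27.StkPb0
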