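import Groth.Agent.Lib.Helper27.StkPb0
set_option autoImplicit false
set_option backward.isDefEq.respectTransparency false
set_option backward.isDefEq.respectTransparency.types false
set_option linter.unusedSectionVars false
set_option linter.style.haveILetI false
open CategoryTheory CategoryTheory.Functor CategoryTheory.Limits
universe v₄ u₄ v₃ u₃ v₂ u₂ v u

namespace Groth.Agent.Lib.helper27.StkPb1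
open Groth.Agent.Lib.helper27.StkPb0

variable {C : Type u} [Category.{v} C] {D : Type u₂} [Category.{v₂} D] (u : C ⥤ D)
  (𝒮 : BasedCategory.{v₃, u₃} D)
  {ℐ : Type u₄} [Category.{v₄} ℐ] (X : ℐ ⥤ CategoricalPullback u 𝒮.p) {U : C}
  (F : ∀ i, (X.obj i).fst ⟶ U)

/-- products over `U` in the index category, sent to pullbacks in `D` -/
def HasProd : Prop := ∀ i₁ i₂ : ℐ, ∃ (i₀ : ℐ) (a₁ : i₀ ⟶ i₁) (a₂ : i₀ ⟶ i₂),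
  IsPullback (u.map (X.map a₁).fst) (u.map (X.map a₂).fst) (u.map (F i₁)) (u.map (F i₂)) ∧
  ∀ ⦃j : ℐ⦄ (b₁ : j ⟶ i₁) (b₂ : j ⟶ i₂), ∃ c : j ⟶ i₀, c ≫ a₁ = b₁ ∧ c ≫ a₂ = b₂

/-- the sections `ζ` of `X i` and `ζ'` of `X i'` over the same object `σ` agree on every common refinement -/
def Rel {σ : 𝒮.obj} (i : ℐ) (k : 𝒮.p.obj σ ⟶ u.obj (X.obj i).fst) (ζ : σ ⟶ (X.obj i).snd)
    (i' : ℐ) (k' : 𝒮.p.obj σ ⟶ u.obj (X.obj i').fst) (ζ' : σ ⟶ (X.obj i').snd) : Prop :=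
  ∀ (j : ℐ) (b : j ⟶ i) (b' : j ⟶ i') (n : 𝒮.p.obj σ ⟶ u.obj (X.obj j).fst) (ξ : σ ⟶ (X.obj j).snd),
    𝒮.p.map ξ = n ≫ (X.obj j).iso.hom → n ≫ u.map (X.map b).fst = k → n ≫ u.map (X.map b').fst = k' →
    ξ ≫ (X.map b).snd = ζ → ξ ≫ (X.map b').snd = ζ'

variable {u 𝒮 X F}
variable (h𝒮 : FibCat.IsFibGrpd 𝒮.p) (hp : HasProd u 𝒮 X F)
include h𝒮 hp

theorem exists_ref {σ : 𝒮.obj} (i : ℐ) (k : 𝒮.p.obj σ ⟶ u.obj (X.obj i).fst) (ζ : σ ⟶ (X.obj i).snd)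
    (hζ : 𝒮.p.map ζ = k ≫ (X.obj i).iso.hom) (i' : ℐ) (k' : 𝒮.p.obj σ ⟶ u.obj (X.obj i').fst)
    (hb : k ≫ u.map (F i) = k' ≫ u.map (F i')) :
    ∃ (j : ℐ) (b : j ⟶ i) (b' : j ⟶ i') (n : 𝒮.p.obj σ ⟶ u.obj (X.obj j).fst) (ξ : σ ⟶ (X.obj j).snd),
      𝒮.p.map ξ = n ≫ (X.obj j).iso.hom ∧ n ≫ u.map (X.map b).fst = k ∧ n ≫ u.map (X.map b').fst = k' ∧
      ξ ≫ (X.map b).snd = ζ ∧
      (∀ ⦃j₂ : ℐ⦄ (c₁ : j₂ ⟶ i) (c₂ : j₂ ⟶ i'), ∃ c : j₂ ⟶ j, c ≫ b = c₁ ∧ c ≫ b' = c₂) ∧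
      (∀ {T : D} (n₁ n₂ : T ⟶ u.obj (X.obj j).fst), n₁ ≫ u.map (X.map b).fst = n₂ ≫ u.map (X.map b).fst →
        n₁ ≫ u.map (X.map b').fst = n₂ ≫ u.map (X.map b').fst → n₁ = n₂) := by
  obtain ⟨i₀, a₁, a₂, hpb, huniv⟩ := hp i i'
  let n := hpb.lift k k' hb
  have hn1 : n ≫ u.map (X.map a₁).fst = k := hpb.lift_fst _ _ _
  have hn2 : n ≫ u.map (X.map a₂).fst = k' := hpb.lift_snd _ _ _
  have hg : (n ≫ (X.obj i₀).iso.hom) ≫ 𝒮.p.map (X.map a₁).snd = 𝒮.p.map ζ := by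
    rw [map_snd, hζ, ← hn1]; simp
  refine ⟨i₀, a₁, a₂, n, lft h𝒮 (X.map a₁).snd ζ _ hg, lft_map h𝒮 _ _ _ hg, hn1, hn2,
    lft_comp h𝒮 _ _ _ hg, huniv, ?_⟩
  intro T n₁ n₂ e1 e2
  exact hpb.hom_ext e1 e2

theorem exists_tr {σ : 𝒮.obj} (i : ℐ) (k : 𝒮.p.obj σ ⟶ u.obj (X.obj i).fst) (ζ : σ ⟶ (X.obj i).snd)
    (hζ : 𝒮.p.map ζ = k ≫ (X.obj i).iso.hom) (i' : ℐ) (k' : 𝒮.p.obj σ ⟶ u.obj (X.obj i').fst)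
    (hb : k ≫ u.map (F i) = k' ≫ u.map (F i')) :
    ∃ ζ' : σ ⟶ (X.obj i').snd, 𝒮.p.map ζ' = k' ≫ (X.obj i').iso.hom ∧ Rel u 𝒮 X i k ζ i' k' ζ' := by
  obtain ⟨j, b, b', n, ξ, hξ, hn1, hn2, hξb, huniv, hmono⟩ := exists_ref h𝒮 hp i k ζ hζ i' k' hb
  refine ⟨ξ ≫ (X.map b').snd, ?_, ?_⟩
  · rw [Functor.map_comp, map_snd, hξ, ← hn2]; simp
  · intro j₂ b₂ b₂' n₂ ξ₂ hξ₂ hn₂1 hn₂2 hξ₂b
    obtain ⟨c, hc1, hc2⟩ := huniv b₂ b₂'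
    have e1 : n₂ ≫ u.map (X.map c).fst = n := by
      apply hmono
      · rw [Category.assoc, ← u.map_comp, ← CategoricalPullback.comp_fst, ← X.map_comp, hc1, hn₂1, hn1]
      · rw [Category.assoc, ← u.map_comp, ← CategoricalPullback.comp_fst, ← X.map_comp, hc2, hn₂2, hn2]
    have e2 : ξ₂ ≫ (X.map c).snd = ξ := by
      apply cancelS h𝒮 (X.map b).snd
      · rw [Functor.map_comp, map_snd, hξ₂, hξ, ← e1]; simp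
      · rw [Category.assoc, ← CategoricalPullback.comp_snd, ← X.map_comp, hc1, hξ₂b, hξb]
    rw [← e2, Category.assoc, ← CategoricalPullback.comp_snd, ← X.map_comp, hc2]

/-- a single refinement determines the transport -/
theorem rel_of_ref {σ : 𝒮.obj} (i : ℐ) (k : 𝒮.p.obj σ ⟶ u.obj (X.obj i).fst) (ζ : σ ⟶ (X.obj i).snd)
    (hζ : 𝒮.p.map ζ = k ≫ (X.obj i).iso.hom) (i' : ℐ) (k' : 𝒮.p.obj σ ⟶ u.obj (X.obj i').fst)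
    (hb : k ≫ u.map (F i) = k' ≫ u.map (F i'))
    (j : ℐ) (b : j ⟶ i) (b' : j ⟶ i') (n : 𝒮.p.obj σ ⟶ u.obj (X.obj j).fst) (ξ : σ ⟶ (X.obj j).snd)
    (hξ : 𝒮.p.map ξ = n ≫ (X.obj j).iso.hom) (hn1 : n ≫ u.map (X.map b).fst = k)
    (hn2 : n ≫ u.map (X.map b').fst = k') (hξb : ξ ≫ (X.map b).snd = ζ) :
    Rel u 𝒮 X i k ζ i' k' (ξ ≫ (X.map b').snd) := by
  obtain ⟨ζ', -, hrel⟩ := exists_tr h𝒮 hp i k ζ hζ i' k' hb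
  have := hrel j b b' n ξ hξ hn1 hn2 hξb
  rw [this]; exact hrel

theorem rel_uniq {σ : 𝒮.obj} (i : ℐ) (k : 𝒮.p.obj σ ⟶ u.obj (X.obj i).fst) (ζ : σ ⟶ (X.obj i).snd)
    (hζ : 𝒮.p.map ζ = k ≫ (X.obj i).iso.hom) (i' : ℐ) (k' : 𝒮.p.obj σ ⟶ u.obj (X.obj i').fst)
    (hb : k ≫ u.map (F i) = k' ≫ u.map (F i')) (ζ₁ ζ₂ : σ ⟶ (X.obj i').snd)
    (h1 : Rel u 𝒮 X i k ζ i' k' ζ₁) (h2 : Rel u 𝒮 X i k ζ i' k' ζ₂) : ζ₁ = ζ₂ := by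
  obtain ⟨j, b, b', n, ξ, hξ, hn1, hn2, hξb, -, -⟩ := exists_ref h𝒮 hp i k ζ hζ i' k' hb
  rw [← h1 j b b' n ξ hξ hn1 hn2 hξb, ← h2 j b b' n ξ hξ hn1 hn2 hξb]

theorem rel_refl {σ : 𝒮.obj} (i : ℐ) (k : 𝒮.p.obj σ ⟶ u.obj (X.obj i).fst) (ζ : σ ⟶ (X.obj i).snd)
    (hζ : 𝒮.p.map ζ = k ≫ (X.obj i).iso.hom) : Rel u 𝒮 X i k ζ i k ζ := by
  have := rel_of_ref h𝒮 hp i k ζ hζ i k rfl i (𝟙 i) (𝟙 i) k ζ hζ (by simp) (by simp) (by simp)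
  simpa using this

theorem rel_map (hF : ∀ ⦃i j : ℐ⦄ (a : i ⟶ j), (X.map a).fst ≫ F j = F i)
    {σ : 𝒮.obj} (i : ℐ) (k : 𝒮.p.obj σ ⟶ u.obj (X.obj i).fst) (ζ : σ ⟶ (X.obj i).snd)
    (hζ : 𝒮.p.map ζ = k ≫ (X.obj i).iso.hom) {i' : ℐ} (a : i ⟶ i') :
    Rel u 𝒮 X i k ζ i' (k ≫ u.map (X.map a).fst) (ζ ≫ (X.map a).snd) := by
  have hb : k ≫ u.map (F i) = (k ≫ u.map (X.map a).fst) ≫ u.map (F i') := by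
    rw [Category.assoc, ← u.map_comp, hF]
  exact rel_of_ref h𝒮 hp i k ζ hζ i' _ hb i (𝟙 i) a k ζ hζ (by simp) rfl (by simp)

theorem rel_precomp {σ σ' : 𝒮.obj} (κ : σ' ⟶ σ) (i : ℐ) (k : 𝒮.p.obj σ ⟶ u.obj (X.obj i).fst)
    (ζ : σ ⟶ (X.obj i).snd) (hζ : 𝒮.p.map ζ = k ≫ (X.obj i).iso.hom) (i' : ℐ)
    (k' : 𝒮.p.obj σ ⟶ u.obj (X.obj i').fst) (hb : k ≫ u.map (F i) = k' ≫ u.map (F i'))
    (ζ' : σ ⟶ (X.obj i').snd) (h : Rel u 𝒮 X i k ζ i' k' ζ') :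
    Rel u 𝒮 X i (𝒮.p.map κ ≫ k) (κ ≫ ζ) i' (𝒮.p.map κ ≫ k') (κ ≫ ζ') := by
  obtain ⟨j, b, b', n, ξ, hξ, hn1, hn2, hξb, -, -⟩ := exists_ref h𝒮 hp i k ζ hζ i' k' hb
  have e := h j b b' n ξ hξ hn1 hn2 hξb
  have := rel_of_ref h𝒮 hp i (𝒮.p.map κ ≫ k) (κ ≫ ζ) (by rw [Functor.map_comp, hζ, Category.assoc]) i'
    (𝒮.p.map κ ≫ k') (by rw [Category.assoc, Category.assoc, hb]) j b b' (𝒮.p.map κ ≫ n) (κ ≫ ξ)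
    (by rw [Functor.map_comp, hξ, Category.assoc]) (by rw [Category.assoc, hn1])
    (by rw [Category.assoc, hn2]) (by rw [Category.assoc, hξb])
  rw [Category.assoc, e] at this
  exact this

theorem rel_trans (hF : ∀ ⦃i j : ℐ⦄ (a : i ⟶ j), (X.map a).fst ≫ F j = F i)
    {σ : 𝒮.obj} (i : ℐ) (k : 𝒮.p.obj σ ⟶ u.obj (X.obj i).fst) (ζ : σ ⟶ (X.obj i).snd)
    (hζ : 𝒮.p.map ζ = k ≫ (X.obj i).iso.hom) (i' : ℐ) (k' : 𝒮.p.obj σ ⟶ u.obj (X.obj i').fst)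
    (hb : k ≫ u.map (F i) = k' ≫ u.map (F i')) (ζ' : σ ⟶ (X.obj i').snd)
    (i'' : ℐ) (k'' : 𝒮.p.obj σ ⟶ u.obj (X.obj i'').fst)
    (hb' : k ≫ u.map (F i) = k'' ≫ u.map (F i'')) (ζ'' : σ ⟶ (X.obj i'').snd)
    (h1 : Rel u 𝒮 X i k ζ i' k' ζ') (h2 : Rel u 𝒮 X i' k' ζ' i'' k'' ζ'') :
    Rel u 𝒮 X i k ζ i'' k'' ζ'' := by
  obtain ⟨j₁, b₁, b₁', n₁, ξ₁, hξ₁, hn₁1, hn₁2, hξ₁b, -, -⟩ := exists_ref h𝒮 hp i k ζ hζ i' k' hb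
  have e1 := h1 j₁ b₁ b₁' n₁ ξ₁ hξ₁ hn₁1 hn₁2 hξ₁b
  have hb₁ : n₁ ≫ u.map (F j₁) = k'' ≫ u.map (F i'') := by
    rw [← hb', ← hn₁1, Category.assoc, ← u.map_comp, hF]
  obtain ⟨j₂, c, b'', n₂, ξ₂, hξ₂, hn₂1, hn₂2, hξ₂c, -, -⟩ := exists_ref h𝒮 hp j₁ n₁ ξ₁ hξ₁ i'' k'' hb₁
  have e2 := h2 j₂ (c ≫ b₁') b'' n₂ ξ₂ hξ₂
    (by rw [X.map_comp, CategoricalPullback.comp_fst, u.map_comp, ← Category.assoc, hn₂1, hn₁2]) hn₂2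
    (by rw [X.map_comp, CategoricalPullback.comp_snd, ← Category.assoc, hξ₂c, e1])
  have := rel_of_ref h𝒮 hp i k ζ hζ i'' k'' hb' j₂ (c ≫ b₁) b'' n₂ ξ₂ hξ₂
    (by rw [X.map_comp, CategoricalPullback.comp_fst, u.map_comp, ← Category.assoc, hn₂1, hn₁1]) hn₂2
    (by rw [X.map_comp, CategoricalPullback.comp_snd, ← Category.assoc, hξ₂c, hξ₁b])
  rw [e2] at this
  exact this

end Groth.Agent.Lib.helper27.StkPb1
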