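import Groth.Agent.Lib.Helper27.StkPb1
set_option autoImplicit false
set_option backward.isDefEq.respectTransparency false
set_option backward.isDefEq.respectTransparency.types false
set_option linter.unusedSectionVars false
set_option linter.style.haveILetI false
open CategoryTheory CategoryTheory.Functor CategoryTheory.Limits
universe v₄ u₄ v₃ u₃ v₂ u₂ v u

namespace Groth.Agent.Lib.helper27.StkPb2
open Groth.Agent.Lib.helper27.StkPb0 Groth.Agent.Lib.helper27.StkPb1 Groth.Agent.Lib.helper27.StkElem1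

variable {C : Type u} [Category.{v} C] {D : Type u₂} [Category.{v₂} D] {u : C ⥤ D}
  {𝒮 : BasedCategory.{v₃, u₃} D}
  {ℐ : Type u₄} [Category.{v₄} ℐ] {X : ℐ ⥤ CategoricalPullback u 𝒮.p} {U : C}
  {F : ∀ i, (X.obj i).fst ⟶ U}

theorem Rel.congr {σ : 𝒮.obj} {i : ℐ} {k k₂ : 𝒮.p.obj σ ⟶ u.obj (X.obj i).fst} {ζ ζ₂ : σ ⟶ (X.obj i).snd}
    {i' : ℐ} {k' k₂' : 𝒮.p.obj σ ⟶ u.obj (X.obj i').fst} {ζ' ζ₂' : σ ⟶ (X.obj i').snd}
    (h : Rel u 𝒮 X i k ζ i' k' ζ') (e1 : k = k₂) (e2 : ζ = ζ₂) (e3 : k' = k₂') (e4 : ζ' = ζ₂') :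
    Rel u 𝒮 X i k₂ ζ₂ i' k₂' ζ₂' := by
  subst e1 e2 e3 e4; exact h

theorem eff_abs (h𝒮 : FibCat.IsFibGrpd 𝒮.p) (hp : HasProd u 𝒮 X F)
    (hF : ∀ ⦃i j : ℐ⦄ (a : i ⟶ j), (X.map a).fst ≫ F j = F i)
    (R' : Sieve (u.obj U))
    (hR'1 : ∀ ⦃T : D⦄ (t : T ⟶ u.obj U), R' t →
      ∃ (i : ℐ) (k : T ⟶ u.obj (X.obj i).fst), k ≫ u.map (F i) = t)
    (hR'2 : ∀ i, R' (u.map (F i))) (heff : EffFor 𝒮 R') :
    ∃ (s₀ : 𝒮.obj) (e₀ : 𝒮.p.obj s₀ = u.obj U) (l : ∀ i, (X.obj i).snd ⟶ s₀),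
      (∀ i, 𝒮.p.map (l i) = (X.obj i).iso.inv ≫ u.map (F i) ≫ eqToHom e₀.symm) ∧
      ∀ ⦃i j : ℐ⦄ (a : i ⟶ j), (X.map a).snd ≫ l j = l i := by
  choose cI cK hcK using fun t : (Stk.sieveCat R').obj => hR'1 t.obj.hom t.property
  choose cS cL cE hcL using fun t : (Stk.sieveCat R').obj =>
    exists_pull h𝒮 (X.obj (cI t)).snd (cK t ≫ (X.obj (cI t)).iso.hom)
  obtain ⟨K, hKdef⟩ : ∃ K : ∀ t : (Stk.sieveCat R').obj, 𝒮.p.obj (cS t) ⟶ u.obj (X.obj (cI t)).fst,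
      ∀ t, K t = eqToHom (cE t) ≫ cK t := ⟨_, fun _ => rfl⟩
  have hL : ∀ t, 𝒮.p.map (cL t) = K t ≫ (X.obj (cI t)).iso.hom := fun t => by
    rw [hcL, hKdef]; simp
  have hKb : ∀ t, K t ≫ u.map (F (cI t)) = eqToHom (cE t) ≫ t.obj.hom := fun t => by
    rw [hKdef]; simp [hcK]
  obtain ⟨tl, htldef⟩ : ∃ tl : ∀ {t₂ t₁ : (Stk.sieveCat R').obj} (_ : t₂ ⟶ t₁),
      (𝒮.p.obj (cS t₂) ⟶ 𝒮.p.obj (cS t₁)),
      ∀ {t₂ t₁ : (Stk.sieveCat R').obj} (h : t₂ ⟶ t₁),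
        tl h = eqToHom (cE t₂) ≫ h.hom.left ≫ eqToHom (cE t₁).symm := ⟨_, fun _ => rfl⟩
  have htlb : ∀ {t₂ t₁ : (Stk.sieveCat R').obj} (h : t₂ ⟶ t₁),
      K t₂ ≫ u.map (F (cI t₂)) = (tl h ≫ K t₁) ≫ u.map (F (cI t₁)) := by
    intro t₂ t₁ h
    rw [Category.assoc, hKb, hKb, htldef]
    simp only [Category.assoc, eqToHom_trans_assoc, eqToHom_refl, Category.id_comp]
    rw [Over.w h.hom]
  have htl_id : ∀ t : (Stk.sieveCat R').obj, tl (𝟙 t) = 𝟙 _ := fun t => by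
    rw [htldef]
    have : (𝟙 t : t ⟶ t).hom.left = 𝟙 _ := rfl
    rw [this]; simp
  have htl_comp : ∀ {t₃ t₂ t₁ : (Stk.sieveCat R').obj} (h₂ : t₃ ⟶ t₂) (h₁ : t₂ ⟶ t₁),
      tl (h₂ ≫ h₁) = tl h₂ ≫ tl h₁ := fun h₂ h₁ => by
    rw [htldef, htldef, htldef]
    have : (h₂ ≫ h₁).hom.left = h₂.hom.left ≫ h₁.hom.left := rfl
    rw [this]; simp
  -- characterisation of the transition maps
  have hex : ∀ {t₂ t₁ : (Stk.sieveCat R').obj} (h : t₂ ⟶ t₁), ∃ θ : cS t₂ ⟶ cS t₁, 𝒮.p.map θ = tl h ∧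
      Rel u 𝒮 X (cI t₂) (K t₂) (cL t₂) (cI t₁) (tl h ≫ K t₁) (θ ≫ cL t₁) := by
    intro t₂ t₁ h
    obtain ⟨τ, hτ, hrel⟩ := exists_tr h𝒮 hp (cI t₂) (K t₂) (cL t₂) (hL t₂) (cI t₁) (tl h ≫ K t₁) (htlb h)
    have hg : tl h ≫ 𝒮.p.map (cL t₁) = 𝒮.p.map τ := by rw [hτ, hL, Category.assoc]
    refine ⟨lft h𝒮 (cL t₁) τ (tl h) hg, lft_map h𝒮 _ _ _ hg, ?_⟩
    rw [lft_comp]; exact hrel
  have huq : ∀ {t₂ t₁ : (Stk.sieveCat R').obj} (h : t₂ ⟶ t₁) (θ θ' : cS t₂ ⟶ cS t₁),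
      𝒮.p.map θ = tl h → 𝒮.p.map θ' = tl h →
      Rel u 𝒮 X (cI t₂) (K t₂) (cL t₂) (cI t₁) (tl h ≫ K t₁) (θ ≫ cL t₁) →
      Rel u 𝒮 X (cI t₂) (K t₂) (cL t₂) (cI t₁) (tl h ≫ K t₁) (θ' ≫ cL t₁) → θ = θ' := by
    intro t₂ t₁ h θ θ' h1 h2 r1 r2
    apply cancelS h𝒮 (cL t₁)
    · rw [h1, h2]
    · exact rel_uniq h𝒮 hp _ _ _ (hL t₂) _ _ (htlb h) _ _ r1 r2
  choose dmap hdmap1 hdmap2 using @hex
  let D'fun : (Stk.sieveCat R').obj ⥤ 𝒮.obj :=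
    { obj := cS
      map := fun {t₂ t₁} h => dmap h
      map_id := fun t => by
        have e : tl (𝟙 t) = 𝟙 _ := htl_id t
        apply huq (𝟙 t) _ _ (hdmap1 _) (by rw [e]; simp) (hdmap2 _)
        have := rel_refl h𝒮 hp (cI t) (K t) (cL t) (hL t)
        exact Rel.congr this rfl rfl (by rw [e]; simp) (by simp)
      map_comp := fun {t₃ t₂ t₁} h₂ h₁ => by
        have e : tl (h₂ ≫ h₁) = tl h₂ ≫ tl h₁ := htl_comp h₂ h₁
        apply huq (h₂ ≫ h₁) _ _ (hdmap1 _) (by rw [Functor.map_comp, hdmap1, hdmap1, e]) (hdmap2 _)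
        have r2 := rel_precomp h𝒮 hp (dmap h₂) (cI t₂) (K t₂) (cL t₂) (hL t₂) (cI t₁) (tl h₁ ≫ K t₁)
          (htlb h₁) _ (hdmap2 h₁)
        rw [hdmap1] at r2
        have hb' : K t₃ ≫ u.map (F (cI t₃)) = (tl (h₂ ≫ h₁) ≫ K t₁) ≫ u.map (F (cI t₁)) := htlb _
        have := rel_trans h𝒮 hp hF (cI t₃) (K t₃) (cL t₃) (hL t₃) (cI t₂) (tl h₂ ≫ K t₂) (htlb h₂)
          (dmap h₂ ≫ cL t₂) (cI t₁) (tl h₂ ≫ tl h₁ ≫ K t₁) (by rw [hb', e]; simp)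
          (dmap h₂ ≫ dmap h₁ ≫ cL t₁) (hdmap2 h₂) r2
        exact Rel.congr this rfl rfl (by rw [e]; simp) (by simp) }
  let D' : Stk.sieveCat R' ⥤ᵇ 𝒮 :=
    { toFunctor := D'fun
      w := by
        refine CategoryTheory.Functor.ext (fun t => cE t) ?_
        intro t₂ t₁ h
        change 𝒮.p.map (dmap h) = _
        rw [hdmap1, htldef]
        rfl }
  obtain ⟨s₀, e₀, L, hLl, hLn⟩ := heff D'
  have hLmap : ∀ t, 𝒮.p.map (L t) = eqToHom (cE t) ≫ t.obj.hom ≫ eqToHom e₀.symm := fun t => by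
    haveI := hLl t
    exact IsHomLift.fac' 𝒮.p t.obj.hom (L t)
  -- the objects of `sieveCat R'` attached to the index objects
  let tt : ℐ → (Stk.sieveCat R').obj := fun i =>
    ⟨Over.mk ((X.obj i).iso.inv ≫ u.map (F i)), R'.downward_closed (hR'2 i) _⟩
  obtain ⟨gg, hggdef⟩ : ∃ gg : ∀ i, 𝒮.p.obj (X.obj i).snd ⟶ 𝒮.p.obj (cS (tt i)),
      ∀ i, gg i = eqToHom (cE (tt i)).symm := ⟨_, fun _ => rfl⟩
  have hggb : ∀ i, (X.obj i).iso.inv ≫ u.map (F i) = (gg i ≫ K (tt i)) ≫ u.map (F (cI (tt i))) := by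
    intro i
    rw [Category.assoc, hKb, hggdef]
    simp [tt]
  have hid : ∀ i, 𝒮.p.map (𝟙 (X.obj i).snd) = (X.obj i).iso.inv ≫ (X.obj i).iso.hom := fun i => by simp
  have hexε : ∀ i, ∃ ε : (X.obj i).snd ⟶ cS (tt i), 𝒮.p.map ε = gg i ∧
      Rel u 𝒮 X i (X.obj i).iso.inv (𝟙 _) (cI (tt i)) (gg i ≫ K (tt i)) (ε ≫ cL (tt i)) := by
    intro i
    obtain ⟨τ, hτ, hrel⟩ := exists_tr h𝒮 hp i (X.obj i).iso.inv (𝟙 _) (hid i) (cI (tt i)) (gg i ≫ K (tt i))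
      (hggb i)
    have hg : gg i ≫ 𝒮.p.map (cL (tt i)) = 𝒮.p.map τ := by rw [hτ, hL, Category.assoc]
    refine ⟨lft h𝒮 (cL (tt i)) τ (gg i) hg, lft_map h𝒮 _ _ _ hg, ?_⟩
    rw [lft_comp]; exact hrel
  choose ε hε1 hε2 using hexε
  refine ⟨s₀, e₀, fun i => ε i ≫ L (tt i), ?_, ?_⟩
  · intro i
    rw [Functor.map_comp, hε1, hLmap, hggdef]
    simp [tt]
  · intro i j a
    have hβ : 𝒮.p.map (X.map a).snd ≫ (X.obj j).iso.inv ≫ u.map (F j) = (X.obj i).iso.inv ≫ u.map (F i) := by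
      rw [map_snd]
      simp only [Category.assoc, Iso.hom_inv_id_assoc]
      rw [← u.map_comp, hF]
    let hβm : tt i ⟶ tt j := ObjectProperty.homMk (Over.homMk (𝒮.p.map (X.map a).snd) hβ)
    have key : (X.map a).snd ≫ ε j = ε i ≫ dmap hβm := by
      have etl : gg i ≫ tl hβm = 𝒮.p.map (X.map a).snd ≫ gg j := by
        rw [htldef, hggdef, hggdef]
        simp only [eqToHom_trans_assoc, eqToHom_refl, Category.id_comp]
        rfl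
      have hb3 : (X.obj i).iso.inv ≫ u.map (F i) =
          ((𝒮.p.map (X.map a).snd ≫ gg j) ≫ K (tt j)) ≫ u.map (F (cI (tt j))) := by
        rw [Category.assoc, Category.assoc, ← Category.assoc (gg j), ← hggb j, hβ]
      apply cancelS h𝒮 (cL (tt j))
      · rw [Functor.map_comp, Functor.map_comp, hε1, hε1, hdmap1, etl]
      · refine rel_uniq h𝒮 hp i (X.obj i).iso.inv (𝟙 _) (hid i) (cI (tt j))
          ((𝒮.p.map (X.map a).snd ≫ gg j) ≫ K (tt j)) hb3 _ _ ?_ ?_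
        · -- left side
          have r1 := rel_map h𝒮 hp hF i (X.obj i).iso.inv (𝟙 _) (hid i) a
          have r2 := rel_precomp h𝒮 hp (X.map a).snd j (X.obj j).iso.inv (𝟙 _) (hid j) (cI (tt j))
            (gg j ≫ K (tt j)) (hggb j) _ (hε2 j)
          have ek : 𝒮.p.map (X.map a).snd ≫ (X.obj j).iso.inv = (X.obj i).iso.inv ≫ u.map (X.map a).fst := by
            rw [map_snd]; simp
          have r2' := Rel.congr r2 ek (by simp : (X.map a).snd ≫ 𝟙 _ = 𝟙 _ ≫ (X.map a).snd) rfl rfl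
          have hb1 : (X.obj i).iso.inv ≫ u.map (F i) =
              ((X.obj i).iso.inv ≫ u.map (X.map a).fst) ≫ u.map (F j) := by
            rw [Category.assoc, ← u.map_comp, hF]
          have := rel_trans h𝒮 hp hF i (X.obj i).iso.inv (𝟙 _) (hid i) j _ hb1 _ (cI (tt j))
            (𝒮.p.map (X.map a).snd ≫ gg j ≫ K (tt j)) (by rw [hb3]; simp) _ r1 r2'
          exact Rel.congr this rfl rfl (by simp) (by simp)
        · -- right side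
          have r2 := rel_precomp h𝒮 hp (ε i) (cI (tt i)) (K (tt i)) (cL (tt i)) (hL (tt i)) (cI (tt j))
            (tl hβm ≫ K (tt j)) (htlb hβm) _ (hdmap2 hβm)
          rw [hε1] at r2
          have := rel_trans h𝒮 hp hF i (X.obj i).iso.inv (𝟙 _) (hid i) (cI (tt i)) (gg i ≫ K (tt i))
            (hggb i) _ (cI (tt j)) (gg i ≫ tl hβm ≫ K (tt j))
            (by rw [hb3, ← etl]; simp) _ (hε2 i) r2
          exact Rel.congr this rfl rfl (by rw [← etl]; simp) (by simp)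
    rw [← Category.assoc, key, Category.assoc]
    have := hLn hβm
    change dmap hβm ≫ L (tt j) = L (tt i) at this
    rw [this]

end Groth.Agent.Lib.helper27.StkPb2
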