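import Groth.Agent.Lib.Helper27.StkPb2
set_option autoImplicit false
set_option backward.isDefEq.respectTransparency false
set_option backward.isDefEq.respectTransparency.types false
set_option linter.unusedSectionVars false
set_option linter.style.haveILetI false
open CategoryTheory CategoryTheory.Functor CategoryTheory.Limits
universe v₄ u₄ v₃ u₃ v₂ u₂ v u

namespace Groth.Agent.Lib.helper27.StkPb3
open Groth.Agent.Lib.helper27.StkPb0 Groth.Agent.Lib.helper27.StkPb1 Groth.Agent.Lib.helper27.StkElem1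

variable {C : Type u} [Category.{v} C] {D : Type u₂} [Category.{v₂} D] {u : C ⥤ D}
  {𝒮 : BasedCategory.{v₃, u₃} D}
  {ℐ : Type u₄} [Category.{v₄} ℐ] {X : ℐ ⥤ CategoricalPullback u 𝒮.p} {U : C}
  {F : ∀ i, (X.obj i).fst ⟶ U}

variable (u 𝒮 X F) in
/-- weak products over `U` in the index category, sent to pullbacks in `D` -/
def HasProdW : Prop := ∀ i₁ i₂ : ℐ, ∃ (i₀ : ℐ) (a₁ : i₀ ⟶ i₁) (a₂ : i₀ ⟶ i₂),
  IsPullback (u.map (X.map a₁).fst) (u.map (X.map a₂).fst) (u.map (F i₁)) (u.map (F i₂))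

theorem sep_abs (h𝒮 : FibCat.IsFibGrpd 𝒮.p) (R' : Sieve (u.obj U))
    (hR'1 : ∀ ⦃T : D⦄ (t : T ⟶ u.obj U), R' t →
      ∃ (i : ℐ) (k : T ⟶ u.obj (X.obj i).fst), k ≫ u.map (F i) = t)
    {s y' : 𝒮.obj} (jj : u.obj U ≅ 𝒮.p.obj s) (l : ∀ i, (X.obj i).snd ⟶ s)
    (hl : ∀ i, 𝒮.p.map (l i) = (X.obj i).iso.inv ≫ u.map (F i) ≫ jj.hom)
    (a b : s ⟶ y') (hab : 𝒮.p.map a = 𝒮.p.map b) (h : ∀ i, l i ≫ a = l i ≫ b)
    (hsep : SepFor 𝒮 (R'.pullback jj.inv)) : a = b := by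
  apply hsep (𝒮.p.map a) a b inferInstance (by rw [hab]; infer_instance)
  intro V' f hf
  obtain ⟨i, k, hk⟩ := hR'1 _ hf
  obtain ⟨σ, ψ, e, hψ⟩ := exists_pull h𝒮 (X.obj i).snd (k ≫ (X.obj i).iso.hom)
  refine ⟨σ, ψ ≫ l i, ?_, ?_⟩
  · apply IsHomLift.of_fac' _ _ _ e rfl
    rw [Functor.map_comp, hψ, hl]
    simp only [Category.assoc, Iso.hom_inv_id_assoc, eqToHom_refl, Category.comp_id]
    rw [reassoc_of% hk]; simp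
  · rw [Category.assoc, Category.assoc, h]

theorem glue_abs (h𝒮 : FibCat.IsFibGrpd 𝒮.p) (hp : HasProdW u 𝒮 X F) (R' : Sieve (u.obj U))
    (hR'1 : ∀ ⦃T : D⦄ (t : T ⟶ u.obj U), R' t →
      ∃ (i : ℐ) (k : T ⟶ u.obj (X.obj i).fst), k ≫ u.map (F i) = t)
    (hR'2 : ∀ i, R' (u.map (F i)))
    {s y' : 𝒮.obj} (jj : u.obj U ≅ 𝒮.p.obj s) (l : ∀ i, (X.obj i).snd ⟶ s)
    (hl : ∀ i, 𝒮.p.map (l i) = (X.obj i).iso.inv ≫ u.map (F i) ≫ jj.hom)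
    (hln : ∀ ⦃i j : ℐ⦄ (a : i ⟶ j), (X.map a).snd ≫ l j = l i)
    (g : 𝒮.p.obj s ⟶ 𝒮.p.obj y') (φ : ∀ i, (X.obj i).snd ⟶ y')
    (hφ : ∀ i, 𝒮.p.map (φ i) = 𝒮.p.map (l i) ≫ g)
    (hφn : ∀ ⦃i j : ℐ⦄ (a : i ⟶ j), (X.map a).snd ≫ φ j = φ i)
    (hglue : GlueFor 𝒮 (R'.pullback jj.inv)) :
    ∃ a : s ⟶ y', 𝒮.p.map a = g ∧ ∀ i, l i ≫ a = φ i := by
  -- the base-map condition for lifting through `l i`
  have hlg : ∀ {σ : 𝒮.obj} (ζ : σ ⟶ s) (i : ℐ) (k : 𝒮.p.obj σ ⟶ u.obj (X.obj i).fst)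
      (_ : k ≫ u.map (F i) = 𝒮.p.map ζ ≫ jj.inv), (k ≫ (X.obj i).iso.hom) ≫ 𝒮.p.map (l i) = 𝒮.p.map ζ := by
    intro σ ζ i k hk
    rw [hl]
    simp only [Category.assoc, Iso.hom_inv_id_assoc]
    rw [reassoc_of% hk]; simp
  -- independence of the chosen factorisation
  have hind : ∀ {σ : 𝒮.obj} (ζ : σ ⟶ s) (i₁ : ℐ) (k₁ : 𝒮.p.obj σ ⟶ u.obj (X.obj i₁).fst)
      (hk₁ : k₁ ≫ u.map (F i₁) = 𝒮.p.map ζ ≫ jj.inv) (i₂ : ℐ) (k₂ : 𝒮.p.obj σ ⟶ u.obj (X.obj i₂).fst)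
      (hk₂ : k₂ ≫ u.map (F i₂) = 𝒮.p.map ζ ≫ jj.inv),
      lft h𝒮 (l i₁) ζ _ (hlg ζ i₁ k₁ hk₁) ≫ φ i₁ = lft h𝒮 (l i₂) ζ _ (hlg ζ i₂ k₂ hk₂) ≫ φ i₂ := by
    intro σ ζ i₁ k₁ hk₁ i₂ k₂ hk₂
    obtain ⟨i₀, a₁, a₂, hpb⟩ := hp i₁ i₂
    let n := hpb.lift k₁ k₂ (hk₁.trans hk₂.symm)
    have hn1 : n ≫ u.map (X.map a₁).fst = k₁ := hpb.lift_fst _ _ _
    have hn2 : n ≫ u.map (X.map a₂).fst = k₂ := hpb.lift_snd _ _ _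
    have hn0 : (n ≫ (X.obj i₀).iso.hom) ≫ 𝒮.p.map (l i₀) = 𝒮.p.map ζ := by
      rw [← hln a₁, Functor.map_comp, map_snd, ← hlg ζ i₁ k₁ hk₁, ← hn1]
      simp
    have e1 : lft h𝒮 (l i₀) ζ _ hn0 ≫ (X.map a₁).snd = lft h𝒮 (l i₁) ζ _ (hlg ζ i₁ k₁ hk₁) := by
      apply lft_uniq
      · rw [Functor.map_comp, lft_map, map_snd, ← hn1]; simp
      · rw [Category.assoc, hln, lft_comp]
    have e2 : lft h𝒮 (l i₀) ζ _ hn0 ≫ (X.map a₂).snd = lft h𝒮 (l i₂) ζ _ (hlg ζ i₂ k₂ hk₂) := by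
      apply lft_uniq
      · rw [Functor.map_comp, lft_map, map_snd, ← hn2]; simp
      · rw [Category.assoc, hln, lft_comp]
    rw [← e1, ← e2, Category.assoc, Category.assoc, hφn, hφn]
  have hex : ∀ (σ : 𝒮.obj) (ζ : σ ⟶ s), (R'.pullback jj.inv) (𝒮.p.map ζ) →
      ∃ ψ : σ ⟶ y', ∀ (i : ℐ) (k : 𝒮.p.obj σ ⟶ u.obj (X.obj i).fst)
        (hk : k ≫ u.map (F i) = 𝒮.p.map ζ ≫ jj.inv), ψ = lft h𝒮 (l i) ζ _ (hlg ζ i k hk) ≫ φ i := by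
    intro σ ζ hh
    obtain ⟨i₀, k₀, hk₀⟩ := hR'1 _ hh
    exact ⟨lft h𝒮 (l i₀) ζ _ (hlg ζ i₀ k₀ hk₀) ≫ φ i₀, fun i k hk => hind ζ i₀ k₀ hk₀ i k hk⟩
  choose Φ hΦ using hex
  have hmem : ∀ ⦃V' : D⦄ (f : V' ⟶ 𝒮.p.obj s) (_ : (R'.pullback jj.inv) f) (σ : 𝒮.obj) (ζ : σ ⟶ s)
      (_ : 𝒮.p.IsHomLift f ζ), (R'.pullback jj.inv) (𝒮.p.map ζ) := by
    intro V' f hf σ ζ hζ
    have := IsHomLift.fac' 𝒮.p f ζ
    rw [this]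
    simp only [eqToHom_refl, Category.comp_id]
    exact (R'.pullback jj.inv).downward_closed hf _
  have hΦmap : ∀ (σ : 𝒮.obj) (ζ : σ ⟶ s) (hh : (R'.pullback jj.inv) (𝒮.p.map ζ)),
      𝒮.p.map (Φ σ ζ hh) = 𝒮.p.map ζ ≫ g := by
    intro σ ζ hh
    obtain ⟨i₀, k₀, hk₀⟩ := hR'1 _ hh
    rw [hΦ σ ζ hh i₀ k₀ hk₀, Functor.map_comp, lft_map, hφ, ← Category.assoc, hlg ζ i₀ k₀ hk₀]
  obtain ⟨a, ha, haφ⟩ := hglue g s y' rfl rfl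
    (fun V' f hf σ ζ hζ => Φ σ ζ (hmem f hf σ ζ hζ))
    (fun V' f hf σ ζ hζ => by
      have h1 := IsHomLift.domain_eq 𝒮.p f ζ
      subst h1
      have h2 : f = 𝒮.p.map ζ := IsHomLift.eq_of_isHomLift (p := 𝒮.p) f ζ
      subst h2
      have := hΦmap σ ζ (hmem _ hf σ ζ hζ)
      rw [← this]
      infer_instance)
    (fun V' f hf σ ζ hζ V'' f' σ' κ hκ h' => by
      obtain ⟨i₀, k₀, hk₀⟩ := hR'1 _ (hmem f hf σ ζ hζ)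
      have hk' : (𝒮.p.map κ ≫ k₀) ≫ u.map (F i₀) = 𝒮.p.map (κ ≫ ζ) ≫ jj.inv := by
        rw [Category.assoc, hk₀, Functor.map_comp, Category.assoc]
      rw [hΦ σ ζ _ i₀ k₀ hk₀, hΦ σ' (κ ≫ ζ) _ i₀ (𝒮.p.map κ ≫ k₀) hk', ← Category.assoc]
      congr 1
      symm
      apply lft_uniq
      · rw [Functor.map_comp, lft_map, Category.assoc]
      · rw [Category.assoc, lft_comp])
  refine ⟨a, (IsHomLift.eq_of_isHomLift (p := 𝒮.p) g a).symm, ?_⟩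
  intro i
  have hi : (R'.pullback jj.inv) (𝒮.p.map (l i)) := by
    change R' (𝒮.p.map (l i) ≫ jj.inv)
    rw [hl]
    simp only [Category.assoc, Iso.hom_inv_id, Category.comp_id]
    exact R'.downward_closed (hR'2 i) _
  have := haφ (𝒮.p.map (l i)) hi _ (l i) inferInstance
  rw [this]
  have hk : (X.obj i).iso.inv ≫ u.map (F i) = 𝒮.p.map (l i) ≫ jj.inv := by rw [hl]; simp
  change Φ _ (l i) _ = φ i
  rw [hΦ _ (l i) _ i _ hk]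
  have : lft h𝒮 (l i) (l i) _ (hlg (l i) i _ hk) = 𝟙 _ := by
    symm
    apply lft_uniq
    · simp
    · simp
  rw [this, Category.id_comp]

end Groth.Agent.Lib.helper27.StkPb3
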