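import Groth.Agent.Lib.Helper27.StkPb3
set_option autoImplicit false
set_option backward.isDefEq.respectTransparency false
set_option backward.isDefEq.respectTransparency.types false
set_option linter.unusedSectionVars false
set_option linter.style.haveILetI false
open CategoryTheory CategoryTheory.Functor CategoryTheory.Limits
universe v₄ u₄ v₃ u₃ v₂ u₂ v u

namespace Groth.Agent.Lib.helper27.StkPb4
open Groth.Agent.Lib.helper27.StkPb0 Groth.Agent.Lib.helper27.StkPb1 Groth.Agent.Lib.helper27.StkPb2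
open Groth.Agent.Lib.helper27.StkPb3 Groth.Agent.Lib.helper27.StkElem1 Groth.Agent.Lib.helper27.StkElem3

variable {C : Type u} [Category.{v} C] {D : Type u₂} [Category.{v₂} D] (u : C ⥤ D)
  (𝒮 : BasedCategory.{v₃, u₃} D)

/-- `C ×_D 𝒮` over `C` -/
abbrev XB : BasedCategory.{max v v₃, max u u₃ v₂} C := BasedCategory.ofFunctor (CategoricalPullback.π₁ u 𝒮.p)

variable {u 𝒮}

instance hom_lift {x' x : CategoricalPullback u 𝒮.p} (χ : x' ⟶ x) : (XB u 𝒮).p.IsHomLift χ.fst χ :=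
  IsHomLift.map (CategoricalPullback.π₁ u 𝒮.p) χ

theorem fst_eq_of_lift {x' x : CategoricalPullback u 𝒮.p} (χ : x' ⟶ x) (f : x'.fst ⟶ x.fst)
    (h : (XB u 𝒮).p.IsHomLift f χ) : χ.fst = f := by
  haveI : (CategoricalPullback.π₁ u 𝒮.p).IsHomLift f χ := h
  exact (IsHomLift.eq_of_isHomLift (p := CategoricalPullback.π₁ u 𝒮.p) (a := x') (b := x) f χ).symm

/-- the index category: objects of `C ×_D 𝒮` over `x` lying over arrows of the sieve -/
abbrev IOver (x : CategoricalPullback u 𝒮.p) (R : Sieve x.fst) :=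
  ObjectProperty.FullSubcategory (fun o : Over x => R o.hom.fst)

abbrev XOver (x : CategoricalPullback u 𝒮.p) (R : Sieve x.fst) : IOver x R ⥤ CategoricalPullback u 𝒮.p :=
  ObjectProperty.ι _ ⋙ Over.forget x

abbrev FOver (x : CategoricalPullback u 𝒮.p) (R : Sieve x.fst) (o : IOver x R) :
    ((XOver x R).obj o).fst ⟶ x.fst := o.obj.hom.fst

theorem hF_over (x : CategoricalPullback u 𝒮.p) (R : Sieve x.fst) ⦃i j : IOver x R⦄ (a : i ⟶ j) :
    ((XOver x R).map a).fst ≫ FOver x R j = FOver x R i := by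
  have := Over.w a.hom
  exact congrArg CategoricalPullback.Hom.fst this

theorem hln_over (x : CategoricalPullback u 𝒮.p) (R : Sieve x.fst) ⦃i j : IOver x R⦄ (a : i ⟶ j) :
    ((XOver x R).map a).snd ≫ j.obj.hom.snd = i.obj.hom.snd := by
  have := Over.w a.hom
  exact congrArg CategoricalPullback.Hom.snd this

theorem hl_over (x : CategoricalPullback u 𝒮.p) (R : Sieve x.fst) (o : IOver x R) :
    𝒮.p.map o.obj.hom.snd = ((XOver x R).obj o).iso.inv ≫ u.map (FOver x R o) ≫ x.iso.hom :=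
  map_snd u 𝒮 o.obj.hom

theorem hR'1_over (h𝒮 : FibCat.IsFibGrpd 𝒮.p) (x : CategoricalPullback u 𝒮.p) (R : Sieve x.fst)
    ⦃T : D⦄ (t : T ⟶ u.obj x.fst) (ht : (R.functorPushforward u) t) :
    ∃ (i : IOver x R) (k : T ⟶ u.obj ((XOver x R).obj i).fst), k ≫ u.map (FOver x R i) = t := by
  obtain ⟨Z, g, h, hg, rfl⟩ := ht
  obtain ⟨x', χ, hχ⟩ := (isFibGrpd_π₁ u 𝒮 h𝒮).exists_lift (x := x) g
  have e := IsHomLift.domain_eq (CategoricalPullback.π₁ u 𝒮.p) g χ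
  change x'.fst = Z at e
  subst e
  have e2 : χ.fst = g := fst_eq_of_lift χ g hχ
  subst e2
  exact ⟨⟨Over.mk χ, hg⟩, h, rfl⟩

theorem hR'2_over (x : CategoricalPullback u 𝒮.p) (R : Sieve x.fst) (o : IOver x R) :
    (R.functorPushforward u) (u.map (FOver x R o)) :=
  Sieve.image_mem_functorPushforward u R o.property

theorem isPullback_of_lifts {A₁ A₂ B P : C} {f₁ : A₁ ⟶ B} {f₂ : A₂ ⟶ B} {π₁ : P ⟶ A₁} {π₂ : P ⟶ A₂}
    (hpb : IsPullback π₁ π₂ f₁ f₂) {x₀ x₁ x₂ : CategoricalPullback u 𝒮.p} (h1 : x₁.fst = A₁) (h2 : x₂.fst = A₂)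
    (ξ₁ : x₀ ⟶ x₁) (ξ₂ : x₀ ⟶ x₂) (hξ₁ : (XB u 𝒮).p.IsHomLift π₁ ξ₁) (hξ₂ : (XB u 𝒮).p.IsHomLift π₂ ξ₂) :
    IsPullback ξ₁.fst ξ₂.fst (eqToHom h1 ≫ f₁) (eqToHom h2 ≫ f₂) := by
  subst h1 h2
  haveI : (CategoricalPullback.π₁ u 𝒮.p).IsHomLift π₁ ξ₁ := hξ₁
  have e := IsHomLift.domain_eq (CategoricalPullback.π₁ u 𝒮.p) π₁ ξ₁
  change x₀.fst = P at e
  subst e
  have e1 : ξ₁.fst = π₁ := fst_eq_of_lift ξ₁ π₁ hξ₁
  have e2 : ξ₂.fst = π₂ := fst_eq_of_lift ξ₂ π₂ hξ₂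
  rw [e1, e2]
  simpa using hpb

theorem hasProdW_over [HasPullbacks C] [PreservesLimitsOfShape WalkingCospan u] (h𝒮 : FibCat.IsFibGrpd 𝒮.p)
    (x : CategoricalPullback u 𝒮.p) (R : Sieve x.fst) : HasProdW u 𝒮 (XOver x R) (FOver x R) := by
  intro o₁ o₂
  have h𝒳 := isFibGrpd_π₁ u 𝒮 h𝒮
  obtain ⟨x₀, ξ₁, hξ₁⟩ := h𝒳.exists_lift (x := o₁.obj.left) (pullback.fst o₁.obj.hom.fst o₂.obj.hom.fst)
  have hl2 : (XB u 𝒮).p.IsHomLift (pullback.fst o₁.obj.hom.fst o₂.obj.hom.fst ≫ o₁.obj.hom.fst)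
      (ξ₁ ≫ o₁.obj.hom) := by
    haveI : (XB u 𝒮).p.IsHomLift (pullback.fst o₁.obj.hom.fst o₂.obj.hom.fst) ξ₁ := hξ₁
    infer_instance
  let ξ₂ : x₀ ⟶ o₂.obj.left := lift (𝒳 := XB u 𝒮) h𝒳 o₂.obj.hom.fst o₂.obj.hom (hom_lift _)
    (pullback.snd o₁.obj.hom.fst o₂.obj.hom.fst) (pullback.fst o₁.obj.hom.fst o₂.obj.hom.fst ≫ o₁.obj.hom.fst)
    pullback.condition (ξ₁ ≫ o₁.obj.hom) hl2
  have hξ₂ : (XB u 𝒮).p.IsHomLift (pullback.snd o₁.obj.hom.fst o₂.obj.hom.fst) ξ₂ :=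
    lift_isHomLift (𝒳 := XB u 𝒮) h𝒳 _ _ _ _ _ _ _ _
  have cξ₂ : ξ₂ ≫ o₂.obj.hom = ξ₁ ≫ o₁.obj.hom := lift_comp (𝒳 := XB u 𝒮) h𝒳 _ _ _ _ _ _ _ _
  have hpb := isPullback_of_lifts (u := u) (𝒮 := 𝒮) (IsPullback.of_hasPullback o₁.obj.hom.fst o₂.obj.hom.fst)
    rfl rfl ξ₁ ξ₂ hξ₁ hξ₂
  simp only [eqToHom_refl, Category.id_comp] at hpb
  let o₀ : IOver x R := ⟨Over.mk (ξ₁ ≫ o₁.obj.hom), by
    change R (ξ₁.fst ≫ o₁.obj.hom.fst)
    exact R.downward_closed o₁.property _⟩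
  let a₁ : o₀ ⟶ o₁ := ObjectProperty.homMk (Over.homMk ξ₁ rfl)
  let a₂ : o₀ ⟶ o₂ := ObjectProperty.homMk (Over.homMk ξ₂ cξ₂)
  exact ⟨o₀, a₁, a₂, hpb.map u⟩

variable [HasPullbacks C] [PreservesLimitsOfShape WalkingCospan u]
  {J : GrothendieckTopology C} {K : GrothendieckTopology D}

theorem sep_pb (hu : CoverPreserving J K u) (h𝒮 : Stk.IsStack K 𝒮) ⦃V : C⦄ (R : Sieve V) (hR : R ∈ J V) :
    SepFor (XB u 𝒮) R := by
  obtain ⟨sep𝒮, -, -⟩ := elem_of_isStack K h𝒮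
  have h𝒮g := h𝒮.1
  have h𝒳 := isFibGrpd_π₁ u 𝒮 h𝒮g
  intro W g x y a b ha hb hloc
  have hV := IsHomLift.domain_eq (XB u 𝒮).p g a
  change x.fst = V at hV
  subst hV
  have hW := IsHomLift.codomain_eq (XB u 𝒮).p g a
  change y.fst = W at hW
  subst hW
  have ea : a.fst = g := fst_eq_of_lift a g ha
  have eb : b.fst = g := fst_eq_of_lift b g hb
  apply CategoricalPullback.hom_ext
  · rw [ea, eb]
  · refine sep_abs (X := XOver x R) (F := FOver x R) h𝒮g (R.functorPushforward u) (hR'1_over h𝒮g x R) x.iso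
      (fun o => o.obj.hom.snd) (hl_over x R) a.snd b.snd (by rw [map_snd, map_snd, ea, eb]) ?_
      (sep𝒮 _ (K.pullback_stable _ (hu.cover_preserve hR)))
    intro o
    obtain ⟨x'', χ'', hχ'', e⟩ := hloc o.obj.hom.fst o.property
    have c := lift_comp (𝒳 := XB u 𝒮) h𝒳 o.obj.hom.fst χ'' hχ'' (𝟙 _) o.obj.hom.fst (by simp) o.obj.hom
      (hom_lift _)
    have : o.obj.hom ≫ a = o.obj.hom ≫ b := by
      rw [← c, Category.assoc, Category.assoc, e]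
    exact congrArg CategoricalPullback.Hom.snd this

theorem glueId_pb (hu : CoverPreserving J K u) (h𝒮 : Stk.IsStack K 𝒮) ⦃V : C⦄ (R : Sieve V) (hR : R ∈ J V) :
    GlueForId (XB u 𝒮) R := by
  obtain ⟨-, glue𝒮, -⟩ := elem_of_isStack K h𝒮
  have h𝒮g := h𝒮.1
  have h𝒳 := isFibGrpd_π₁ u 𝒮 h𝒮g
  intro x y hx hy φ hφ hc
  change x.fst = V at hx
  subst hx
  obtain ⟨yf, ys, yi⟩ := y
  change yf = x.fst at hy
  subst hy
  have φ_congr : ∀ ⦃V' : C⦄ (f₁ f₂ : V' ⟶ x.fst) (e : f₁ = f₂) (hf₁ : R f₁) (hf₂ : R f₂)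
      (x' : CategoricalPullback u 𝒮.p) (χ₁ χ₂ : x' ⟶ x) (e' : χ₁ = χ₂) (h₁ : (XB u 𝒮).p.IsHomLift f₁ χ₁)
      (h₂ : (XB u 𝒮).p.IsHomLift f₂ χ₂), φ f₁ hf₁ x' χ₁ h₁ = φ f₂ hf₂ x' χ₂ h₂ := by
    intro V' f₁ f₂ e hf₁ hf₂ x' χ₁ χ₂ e' h₁ h₂; subst e e'; rfl
  let φo : ∀ o : IOver x R, ((XOver x R).obj o).snd ⟶ ys := fun o =>
    (φ o.obj.hom.fst o.property o.obj.left o.obj.hom (hom_lift _)).snd
  have hφfst : ∀ o : IOver x R, (φ o.obj.hom.fst o.property o.obj.left o.obj.hom (hom_lift _)).fst =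
      o.obj.hom.fst := fun o =>
    fst_eq_of_lift (x := ⟨x.fst, ys, yi⟩) _ _ (hφ o.obj.hom.fst o.property o.obj.left o.obj.hom (hom_lift _))
  obtain ⟨a₂, ha₂, haφ⟩ := glue_abs (X := XOver x R) (F := FOver x R) h𝒮g (hasProdW_over h𝒮g x R)
    (R.functorPushforward u) (hR'1_over h𝒮g x R) (hR'2_over x R) x.iso (fun o => o.obj.hom.snd)
    (hl_over x R) (hln_over x R) (x.iso.inv ≫ yi.hom) φo
    (fun o => by
      change 𝒮.p.map (φ o.obj.hom.fst o.property o.obj.left o.obj.hom (hom_lift _)).snd = _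
      rw [map_snd, hφfst, map_snd]
      simp)
    (fun o₂ o₁ a => by
      change (a.hom.left).snd ≫ (φ o₁.obj.hom.fst o₁.property o₁.obj.left o₁.obj.hom (hom_lift _)).snd =
        (φ o₂.obj.hom.fst o₂.property o₂.obj.left o₂.obj.hom (hom_lift _)).snd
      have hw : a.hom.left ≫ o₁.obj.hom = o₂.obj.hom := Over.w a.hom
      have h' : (XB u 𝒮).p.IsHomLift ((a.hom.left).fst ≫ o₁.obj.hom.fst) (a.hom.left ≫ o₁.obj.hom) :=
        hom_lift (a.hom.left ≫ o₁.obj.hom)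
      have e1 := hc o₁.obj.hom.fst o₁.property o₁.obj.left o₁.obj.hom (hom_lift _) (a.hom.left).fst
        o₂.obj.left a.hom.left (hom_lift _) h'
      have e2 : φ ((a.hom.left).fst ≫ o₁.obj.hom.fst) (R.downward_closed o₁.property _) o₂.obj.left
          (a.hom.left ≫ o₁.obj.hom) h' = φ o₂.obj.hom.fst o₂.property o₂.obj.left o₂.obj.hom (hom_lift _) :=
        φ_congr _ _ (congrArg CategoricalPullback.Hom.fst hw) _ _ _ _ _ hw _ _
      rw [← e2, e1]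
      rfl)
    (glue𝒮 _ (K.pullback_stable _ (hu.cover_preserve hR)))
  let A : x ⟶ (⟨x.fst, ys, yi⟩ : CategoricalPullback u 𝒮.p) := ⟨𝟙 _, a₂, by rw [ha₂]; simp⟩
  refine ⟨A, ?_, ?_⟩
  · refine IsHomLift.of_fac' _ _ _ rfl rfl ?_
    change A.fst = eqToHom rfl ≫ 𝟙 _ ≫ eqToHom rfl
    simp [A]
  · intro V' f hf x' χ hχ
    have e := IsHomLift.domain_eq (XB u 𝒮).p f χ
    change x'.fst = V' at e
    subst e
    have e1 : χ.fst = f := fst_eq_of_lift χ f hχ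
    subst e1
    have e2 : (φ χ.fst hf x' χ hχ).fst = χ.fst :=
      fst_eq_of_lift (x := ⟨x.fst, ys, yi⟩) _ _ (hφ χ.fst hf x' χ hχ)
    apply CategoricalPullback.hom_ext
    · rw [e2]
      change χ.fst ≫ 𝟙 _ = χ.fst
      simp
    · have := haφ ⟨Over.mk χ, hf⟩
      exact this

theorem eff_pb (hu : CoverPreserving J K u) (h𝒮 : Stk.IsStack K 𝒮) ⦃U : C⦄ (R : Sieve U) (hR : R ∈ J U) :
    EffFor (XB u 𝒮) R := by
  obtain ⟨-, -, eff𝒮⟩ := elem_of_isStack K h𝒮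
  have h𝒮g := h𝒮.1
  intro Dd
  let F : ∀ s : (Stk.sieveCat R).obj, (Dd.toFunctor.obj s).fst ⟶ U := fun s =>
    eqToHom (Dd.w_obj s) ≫ s.obj.hom
  have hmapfst : ∀ ⦃s₂ s₁ : (Stk.sieveCat R).obj⦄ (a : s₂ ⟶ s₁),
      (Dd.toFunctor.map a).fst = eqToHom (Dd.w_obj s₂) ≫ a.hom.left ≫ eqToHom (Dd.w_obj s₁).symm := by
    intro s₂ s₁ a
    haveI := sieve_map_isHomLift Dd a
    exact IsHomLift.fac' (XB u 𝒮).p a.hom.left (Dd.toFunctor.map a)
  have hF : ∀ ⦃s₂ s₁ : (Stk.sieveCat R).obj⦄ (a : s₂ ⟶ s₁), (Dd.toFunctor.map a).fst ≫ F s₁ = F s₂ := by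
    intro s₂ s₁ a
    rw [hmapfst]
    simp only [F, Category.assoc, eqToHom_trans_assoc, eqToHom_refl, Category.id_comp]
    rw [Over.w a.hom]
  have hp : HasProd u 𝒮 Dd.toFunctor F := by
    intro s₁ s₂
    let s₀ : (Stk.sieveCat R).obj := ⟨Over.mk (pullback.fst s₁.obj.hom s₂.obj.hom ≫ s₁.obj.hom),
      R.downward_closed s₁.property _⟩
    let a₁ : s₀ ⟶ s₁ := ObjectProperty.homMk (Over.homMk (pullback.fst s₁.obj.hom s₂.obj.hom) rfl)
    let a₂ : s₀ ⟶ s₂ := ObjectProperty.homMk (Over.homMk (pullback.snd s₁.obj.hom s₂.obj.hom)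
      pullback.condition.symm)
    refine ⟨s₀, a₁, a₂, ?_, ?_⟩
    · have hpb := (IsPullback.of_hasPullback s₁.obj.hom s₂.obj.hom).map u
      refine IsPullback.of_iso hpb (u.mapIso (eqToIso (Dd.w_obj s₀).symm)) (u.mapIso (eqToIso (Dd.w_obj s₁).symm))
        (u.mapIso (eqToIso (Dd.w_obj s₂).symm)) (Iso.refl _) ?_ ?_ ?_ ?_
      · rw [hmapfst a₁]
        simp only [Functor.mapIso_hom, eqToIso.hom, ← u.map_comp]
        congr 1
        simp
        rfl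
      · rw [hmapfst a₂]
        simp only [Functor.mapIso_hom, eqToIso.hom, ← u.map_comp]
        congr 1
        simp
        rfl
      · simp only [Functor.mapIso_hom, eqToIso.hom, Iso.refl_hom, Category.comp_id, ← u.map_comp]
        congr 1
        simp [F]
      · simp only [Functor.mapIso_hom, eqToIso.hom, Iso.refl_hom, Category.comp_id, ← u.map_comp]
        congr 1
        simp [F]
    · intro j b₁ b₂
      have e : b₁.hom.left ≫ s₁.obj.hom = b₂.hom.left ≫ s₂.obj.hom := by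
        rw [Over.w b₁.hom, Over.w b₂.hom]
      refine ⟨ObjectProperty.homMk (Over.homMk (pullback.lift b₁.hom.left b₂.hom.left e) ?_), ?_, ?_⟩
      · change pullback.lift b₁.hom.left b₂.hom.left e ≫ pullback.fst s₁.obj.hom s₂.obj.hom ≫ s₁.obj.hom = j.obj.hom
        rw [pullback.lift_fst_assoc, Over.w b₁.hom]
      · apply ObjectProperty.hom_ext
        apply Over.OverMorphism.ext
        exact pullback.lift_fst _ _ _
      · apply ObjectProperty.hom_ext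
        apply Over.OverMorphism.ext
        exact pullback.lift_snd _ _ _
  obtain ⟨s₀, e₀, l, hl, hln⟩ := eff_abs (X := Dd.toFunctor) (F := F) h𝒮g hp hF (R.functorPushforward u)
    (by
      intro T t ht
      obtain ⟨Z, g, h, hg, rfl⟩ := ht
      let s : (Stk.sieveCat R).obj := ⟨Over.mk g, hg⟩
      refine ⟨s, h ≫ u.map (eqToHom (Dd.w_obj s).symm), ?_⟩
      rw [Category.assoc, ← u.map_comp]
      simp [F, s])
    (fun s => Sieve.image_mem_functorPushforward u R (R.downward_closed s.property _))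
    (eff𝒮 _ (hu.cover_preserve hR))
  let x₀ : CategoricalPullback u 𝒮.p := ⟨U, s₀, eqToIso e₀.symm⟩
  refine ⟨x₀, rfl, fun s => ⟨F s, l s, by rw [hl]; simp [x₀]⟩, ?_, ?_⟩
  · intro s
    refine IsHomLift.of_fac' _ _ _ (Dd.w_obj s) rfl ?_
    change F s = _
    simp [F]
  · intro s t k
    apply CategoricalPullback.hom_ext
    · exact hF k
    · exact hln k

theorem main (hu : CoverPreserving J K u) (h𝒮 : Stk.IsStack K 𝒮) : Stk.IsStack J (XB u 𝒮) :=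
  isStack_of_elem J (isFibGrpd_π₁ u 𝒮 h𝒮.1) (sep_pb hu h𝒮)
    (fun _ R hR => glueFor_of_id (isFibGrpd_π₁ u 𝒮 h𝒮.1) R (glueId_pb hu h𝒮 R hR))
    (eff_pb hu h𝒮)

end Groth.Agent.Lib.helper27.StkPb4
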