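import Groth.Agent.Lib.Helper27.StkComp
set_option autoImplicit false
set_option backward.isDefEq.respectTransparency false
set_option backward.isDefEq.respectTransparency.types false
set_option linter.unusedSectionVars false
set_option linter.style.haveILetI false
open CategoryTheory CategoryTheory.Functor CategoryTheory.Limits
universe v₄ u₄ v₃ u₃ v₂ u₂ v u

namespace Groth.Agent.Lib.helper27.StkRel
open Groth.Agent.FibEquiv Groth.Agent.FibFiberwise Groth.Agent.FibFpProj Groth.Agent.FibYoneda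
open Groth.Agent.Lib.helper4 Groth.Agent.Lib.helper27.StkElem1 Groth.Agent.Lib.helper27.StkComp

variable {C : Type u} [Category.{v} C] {𝒳 : BasedCategory.{v₂, u₂} C} {𝒴 : BasedCategory.{v₃, u₃} C}

/-- the source of `F` as a category over the target -/
abbrev relB (F : 𝒳 ⥤ᵇ 𝒴) : BasedCategory.{v₂, u₂} 𝒴.obj := BasedCategory.ofFunctor F.toFunctor

theorem mem_of_pushforward (h𝒴 : FibCat.IsFibGrpd 𝒴.p) {y₀ : 𝒴.obj} (T : Sieve y₀) {y' : 𝒴.obj} (η : y' ⟶ y₀)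
    (h : (T.functorPushforward 𝒴.p) (𝒴.p.map η)) : T η := by
  obtain ⟨z, η₀, c, hη₀, e⟩ := h
  have h1 : 𝒴.p.IsHomLift (𝒴.p.map η₀) η₀ := inferInstance
  have h2 : 𝒴.p.IsHomLift (𝒴.p.map η) η := inferInstance
  have e' : 𝒴.p.map η = c ≫ 𝒴.p.map η₀ := e
  have := lift_comp h𝒴 (𝒴.p.map η₀) η₀ h1 c (𝒴.p.map η) e' η h2
  rw [← this]
  exact T.downward_closed hη₀ _

theorem X_lift_of (F : 𝒳 ⥤ᵇ 𝒴) {V W : C} (f : V ⟶ W) {y y' : 𝒴.obj} (η : y ⟶ y') {x x' : 𝒳.obj} (χ : x ⟶ x')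
    (h1 : 𝒴.p.IsHomLift f η) (h2 : F.toFunctor.IsHomLift η χ) : 𝒳.p.IsHomLift f χ := by
  have h3 : (F.toFunctor ⋙ 𝒴.p).IsHomLift f χ := comp_lift_of' F.toFunctor 𝒴.p f η χ h1 h2
  rw [F.w] at h3
  exact h3

theorem F_map_eq (F : 𝒳 ⥤ᵇ 𝒴) {x x' : 𝒳.obj} (χ : x ⟶ x') (η : F.toFunctor.obj x ⟶ F.toFunctor.obj x')
    (h : F.toFunctor.IsHomLift η χ) : F.toFunctor.map χ = η := by
  simpa using IsHomLift.fac' F.toFunctor η χ

variable {J : GrothendieckTopology C}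

theorem sep_rel (h𝒳 : Stk.IsStack J 𝒳) (h𝒴 : Stk.IsStack J 𝒴) (F : 𝒳 ⥤ᵇ 𝒴)
    ⦃y₀ : 𝒴.obj⦄ (T : Sieve y₀) (hT : T ∈ 𝒴.p.restrictedTopology J y₀) : SepFor (relB F) T := by
  obtain ⟨sep𝒳, -, -⟩ := elem_of_isStack J h𝒳
  have hR : T.functorPushforward 𝒴.p ∈ J (𝒴.p.obj y₀) := (Groth.Agent.S12801.main 𝒴.p h𝒴.1 J T).1 hT
  intro w g x₁ x₂ a b ha hb hloc
  have ha' : F.toFunctor.IsHomLift g a := ha
  have hb' : F.toFunctor.IsHomLift g b := hb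
  have h1 : 𝒴.p.IsHomLift (𝒴.p.map g) g := inferInstance
  apply sep𝒳 _ hR (𝒴.p.map g) a b (X_lift_of F _ g a h1 ha') (X_lift_of F _ g b h1 hb')
  rintro V' f ⟨y', η, c, hη, rfl⟩
  obtain ⟨x', χ, hχ, e⟩ := hloc η hη
  have hχ' : F.toFunctor.IsHomLift η χ := hχ
  have hχX : 𝒳.p.IsHomLift (𝒴.p.map η) χ := X_lift_of F _ η χ inferInstance hχ'
  obtain ⟨x'', κ, hκ⟩ := exists_lift_of_eq 𝒳.p h𝒳.1 (IsHomLift.domain_eq 𝒳.p (𝒴.p.map η) χ) c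
  refine ⟨x'', κ ≫ χ, inferInstance, ?_⟩
  rw [Category.assoc, Category.assoc, e]


theorem glue_rel (h𝒳 : Stk.IsStack J 𝒳) (h𝒴 : Stk.IsStack J 𝒴) (F : 𝒳 ⥤ᵇ 𝒴)
    ⦃y₀ : 𝒴.obj⦄ (T : Sieve y₀) (hT : T ∈ 𝒴.p.restrictedTopology J y₀) : GlueFor (relB F) T := by
  obtain ⟨-, glue𝒳, -⟩ := elem_of_isStack J h𝒳
  obtain ⟨sep𝒴, -, -⟩ := elem_of_isStack J h𝒴
  have hR : T.functorPushforward 𝒴.p ∈ J (𝒴.p.obj y₀) := (Groth.Agent.S12801.main 𝒴.p h𝒴.1 J T).1 hT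
  intro w g x₁ x₂ hx₁ hx₂ φ hφ hc
  change F.toFunctor.obj x₁ = y₀ at hx₁
  change F.toFunctor.obj x₂ = w at hx₂
  subst hx₁ hx₂
  have φ_congr : ∀ ⦃y' : 𝒴.obj⦄ (η₁ η₂ : y' ⟶ F.toFunctor.obj x₁) (e : η₁ = η₂) (h₁ : T η₁) (h₂ : T η₂)
      (x' : 𝒳.obj) (χ₁ χ₂ : x' ⟶ x₁) (e' : χ₁ = χ₂) (l₁ : (relB F).p.IsHomLift η₁ χ₁)
      (l₂ : (relB F).p.IsHomLift η₂ χ₂), φ η₁ h₁ x' χ₁ l₁ = φ η₂ h₂ x' χ₂ l₂ := by
    intro y' η₁ η₂ e h₁ h₂ x' χ₁ χ₂ e' l₁ l₂; subst e e'; rfl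
  have hmap : ∀ {x' x'' : 𝒳.obj} (χ : x' ⟶ x''), (relB F).p.IsHomLift (F.toFunctor.map χ) χ := fun χ =>
    (inferInstance : F.toFunctor.IsHomLift (F.toFunctor.map χ) χ)
  have memT : ∀ {x' : 𝒳.obj} (χ : x' ⟶ x₁) {V' : C} (f : V' ⟶ 𝒴.p.obj (F.toFunctor.obj x₁))
      (_ : (T.functorPushforward 𝒴.p) f) (_ : 𝒳.p.IsHomLift f χ), T (F.toFunctor.map χ) := by
    intro x' χ V' f hf hχ
    apply mem_of_pushforward h𝒴.1
    have h1 : 𝒴.p.IsHomLift f (F.toFunctor.map χ) := inferInstance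
    have hd := IsHomLift.domain_eq 𝒴.p f (F.toFunctor.map χ)
    subst hd
    have : 𝒴.p.map (F.toFunctor.map χ) = f := by simpa using IsHomLift.fac' 𝒴.p f (F.toFunctor.map χ)
    rw [this]; exact hf
  obtain ⟨a, ha, haφ⟩ := glue𝒳 _ hR (𝒴.p.map g) x₁ x₂ (F.w_obj x₁).symm (F.w_obj x₂).symm
    (fun V' f hf x' χ hχ => φ (F.toFunctor.map χ) (memT χ f hf hχ) x' χ (hmap χ))
    (fun V' f hf x' χ hχ => by
      have h1 : F.toFunctor.IsHomLift (F.toFunctor.map χ ≫ g) (φ (F.toFunctor.map χ) (memT χ f hf hχ) x' χ (hmap χ)) :=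
        hφ (F.toFunctor.map χ) (memT χ f hf hχ) x' χ (hmap χ)
      have h2 : 𝒴.p.IsHomLift f (F.toFunctor.map χ) := inferInstance
      have h3 : 𝒴.p.IsHomLift (f ≫ 𝒴.p.map g) (F.toFunctor.map χ ≫ g) := inferInstance
      exact X_lift_of F _ _ _ h3 h1)
    (fun V' f hf x' χ hχ V'' f' x'' κ hκ h' => by
      have h4 : (relB F).p.IsHomLift (F.toFunctor.map κ ≫ F.toFunctor.map χ) (κ ≫ χ) := by
        rw [← F.toFunctor.map_comp]; exact hmap _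
      have e1 := hc (F.toFunctor.map χ) (memT χ f hf hχ) x' χ (hmap χ) (F.toFunctor.map κ) x'' κ (hmap κ) h4
      rw [← e1]
      exact φ_congr _ _ (F.toFunctor.map_comp κ χ) _ _ _ _ _ rfl _ _)
  have hFa : F.toFunctor.map a = g := by
    have hpa : 𝒴.p.IsHomLift (𝒴.p.map g) (F.toFunctor.map a) := inferInstance
    apply sep𝒴 _ hR (𝒴.p.map g) _ _ hpa inferInstance
    intro V' f hf
    obtain ⟨x', χ, hχ⟩ := exists_lift_of_eq 𝒳.p h𝒳.1 (F.w_obj x₁).symm f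
    refine ⟨F.toFunctor.obj x', F.toFunctor.map χ, inferInstance, ?_⟩
    rw [← F.toFunctor.map_comp, haφ f hf x' χ hχ]
    exact F_map_eq F _ _ (hφ (F.toFunctor.map χ) (memT χ f hf hχ) x' χ (hmap χ))
  refine ⟨a, ?_, ?_⟩
  · have := hmap a
    rw [hFa] at this
    exact this
  · intro y' η hη x' χ hχ
    have hχ' : F.toFunctor.IsHomLift η χ := hχ
    have hd := IsHomLift.domain_eq F.toFunctor η χ
    subst hd
    have e := F_map_eq F χ η hχ'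
    subst e
    have hf : (T.functorPushforward 𝒴.p) (𝒴.p.map (F.toFunctor.map χ)) :=
      Sieve.image_mem_functorPushforward _ _ hη
    rw [haφ (𝒴.p.map (F.toFunctor.map χ)) hf x' χ (X_lift_of F _ _ χ inferInstance hχ')]


section eff
variable (h𝒳g : FibCat.IsFibGrpd 𝒳.p) (h𝒴g : FibCat.IsFibGrpd 𝒴.p) (F : 𝒳 ⥤ᵇ 𝒴)
  {y₀ : 𝒴.obj} {T : Sieve y₀} (D : Stk.sieveCat T ⥤ᵇ relB F)

noncomputable def Yl (s : (Stk.sieveCat (T.functorPushforward 𝒴.p)).obj) : 𝒴.obj :=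
  (h𝒴g.exists_lift (x := y₀) s.obj.hom).choose

noncomputable def ηl (s : (Stk.sieveCat (T.functorPushforward 𝒴.p)).obj) : Yl h𝒴g s ⟶ y₀ :=
  (h𝒴g.exists_lift (x := y₀) s.obj.hom).choose_spec.choose

theorem ηl_lift (s : (Stk.sieveCat (T.functorPushforward 𝒴.p)).obj) : 𝒴.p.IsHomLift s.obj.hom (ηl h𝒴g s) :=
  (h𝒴g.exists_lift (x := y₀) s.obj.hom).choose_spec.choose_spec

theorem Yl_obj (s : (Stk.sieveCat (T.functorPushforward 𝒴.p)).obj) : 𝒴.p.obj (Yl h𝒴g s) = s.obj.left :=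
  have := ηl_lift h𝒴g s
  IsHomLift.domain_eq 𝒴.p s.obj.hom (ηl h𝒴g s)

theorem ηl_mem (s : (Stk.sieveCat (T.functorPushforward 𝒴.p)).obj) : T (ηl h𝒴g s) := by
  apply mem_of_pushforward h𝒴g
  have := ηl_lift h𝒴g s
  have e : 𝒴.p.map (ηl h𝒴g s) = eqToHom (Yl_obj h𝒴g s) ≫ s.obj.hom := by
    have := IsHomLift.fac' 𝒴.p s.obj.hom (ηl h𝒴g s)
    rw [this]; simp
  rw [e]
  exact (T.functorPushforward 𝒴.p).downward_closed s.property _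

noncomputable def τ (s : (Stk.sieveCat (T.functorPushforward 𝒴.p)).obj) : (Stk.sieveCat T).obj :=
  ⟨Over.mk (ηl h𝒴g s), ηl_mem h𝒴g s⟩

noncomputable def τl {s t : (Stk.sieveCat (T.functorPushforward 𝒴.p)).obj} (k : s ⟶ t) : Yl h𝒴g s ⟶ Yl h𝒴g t :=
  lift h𝒴g t.obj.hom (ηl h𝒴g t) (ηl_lift h𝒴g t) k.hom.left s.obj.hom (Over.w k.hom).symm (ηl h𝒴g s) (ηl_lift h𝒴g s)

theorem τl_lift {s t : (Stk.sieveCat (T.functorPushforward 𝒴.p)).obj} (k : s ⟶ t) :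
    𝒴.p.IsHomLift k.hom.left (τl h𝒴g k) :=
  lift_isHomLift h𝒴g _ _ _ _ _ _ _ _

theorem τl_comp {s t : (Stk.sieveCat (T.functorPushforward 𝒴.p)).obj} (k : s ⟶ t) :
    τl h𝒴g k ≫ ηl h𝒴g t = ηl h𝒴g s :=
  lift_comp h𝒴g _ _ _ _ _ _ _ _

theorem τl_uniq {s t : (Stk.sieveCat (T.functorPushforward 𝒴.p)).obj} (k : s ⟶ t) (ψ : Yl h𝒴g s ⟶ Yl h𝒴g t)
    (h1 : 𝒴.p.IsHomLift k.hom.left ψ) (h2 : ψ ≫ ηl h𝒴g t = ηl h𝒴g s) : ψ = τl h𝒴g k :=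
  lift_uniq h𝒴g _ _ _ _ _ _ _ _ ψ h1 h2

noncomputable def τmap {s t : (Stk.sieveCat (T.functorPushforward 𝒴.p)).obj} (k : s ⟶ t) :
    τ h𝒴g s ⟶ τ h𝒴g t :=
  ObjectProperty.homMk (Over.homMk (τl h𝒴g k) (τl_comp h𝒴g k))

theorem τmap_id (s : (Stk.sieveCat (T.functorPushforward 𝒴.p)).obj) : τmap h𝒴g (𝟙 s) = 𝟙 (τ h𝒴g s) := by
  apply ObjectProperty.hom_ext
  ext
  change τl h𝒴g (𝟙 s) = 𝟙 _
  symm
  apply τl_uniq
  · exact IsHomLift.id (Yl_obj h𝒴g s)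
  · exact Category.id_comp _

theorem τmap_comp {s t r : (Stk.sieveCat (T.functorPushforward 𝒴.p)).obj} (k : s ⟶ t) (k' : t ⟶ r) :
    τmap h𝒴g (k ≫ k') = τmap h𝒴g k ≫ τmap h𝒴g k' := by
  apply ObjectProperty.hom_ext
  ext
  change τl h𝒴g (k ≫ k') = τl h𝒴g k ≫ τl h𝒴g k'
  symm
  apply τl_uniq
  · have h1 := τl_lift h𝒴g k
    have h2 := τl_lift h𝒴g k'
    change 𝒴.p.IsHomLift (k.hom.left ≫ k'.hom.left) _
    infer_instance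
  · rw [Category.assoc, τl_comp, τl_comp]

theorem D'_map_lift {s t : (Stk.sieveCat (T.functorPushforward 𝒴.p)).obj} (k : s ⟶ t) :
    𝒳.p.IsHomLift k.hom.left (D.toFunctor.map (τmap h𝒴g k)) := by
  have h1 : F.toFunctor.IsHomLift (τl h𝒴g k) (D.toFunctor.map (τmap h𝒴g k)) :=
    sieve_map_isHomLift D (τmap h𝒴g k)
  exact X_lift_of F _ _ _ (τl_lift h𝒴g k) h1

theorem D'_obj (s : (Stk.sieveCat (T.functorPushforward 𝒴.p)).obj) :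
    𝒳.p.obj (D.toFunctor.obj (τ h𝒴g s)) = s.obj.left := by
  have h1 : F.toFunctor.obj (D.toFunctor.obj (τ h𝒴g s)) = Yl h𝒴g s := D.w_obj (τ h𝒴g s)
  rw [← F.w_obj, h1, Yl_obj]

noncomputable def D' : Stk.sieveCat (T.functorPushforward 𝒴.p) ⥤ᵇ 𝒳 where
  toFunctor :=
    { obj := fun s => D.toFunctor.obj (τ h𝒴g s)
      map := fun k => D.toFunctor.map (τmap h𝒴g k)
      map_id := fun s => by rw [τmap_id, D.toFunctor.map_id]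
      map_comp := fun k k' => by rw [τmap_comp, D.toFunctor.map_comp] }
  w := CategoryTheory.Functor.ext (fun s => D'_obj h𝒴g F D s) (fun s t k => by
    have := D'_map_lift h𝒴g F D k
    exact IsHomLift.fac' 𝒳.p k.hom.left (D.toFunctor.map (τmap h𝒴g k)))


/-- the structure map of an index, from the value of `D` -/
def ηD (σ : (Stk.sieveCat T).obj) : F.toFunctor.obj (D.toFunctor.obj σ) ⟶ y₀ :=
  eqToHom (D.w_obj σ) ≫ σ.obj.hom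

theorem ηD_nat {σ' σ : (Stk.sieveCat T).obj} (m : σ' ⟶ σ) :
    F.toFunctor.map (D.toFunctor.map m) ≫ ηD F D σ = ηD F D σ' := by
  have h1 : F.toFunctor.IsHomLift m.hom.left (D.toFunctor.map m) := sieve_map_isHomLift D m
  have h2 := IsHomLift.fac' F.toFunctor m.hom.left (D.toFunctor.map m)
  dsimp only [ηD]
  rw [h2]
  simp only [Category.assoc, eqToHom_trans_assoc, eqToHom_refl, Category.id_comp]
  congr 1
  exact Over.w m.hom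

theorem isHomLift_eqToHom_comp {E : Type u₄} [Category.{v₄} E] (p : E ⥤ C) {a b c : E} (h : a = b) (m : b ⟶ c)
    {V W : C} (f : V ⟶ W) (hm : p.IsHomLift f m) : p.IsHomLift f (eqToHom h ≫ m) := by
  subst h; simpa using hm

theorem ηD_lift (s : (Stk.sieveCat (T.functorPushforward 𝒴.p)).obj) :
    𝒴.p.IsHomLift s.obj.hom (ηD F D (τ h𝒴g s)) :=
  isHomLift_eqToHom_comp 𝒴.p _ _ _ (ηl_lift h𝒴g s)

end eff


theorem eff_rel (h𝒳 : Stk.IsStack J 𝒳) (h𝒴 : Stk.IsStack J 𝒴) (F : 𝒳 ⥤ᵇ 𝒴) (hF : FibCat.IsFibGrpd F.toFunctor)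
    ⦃y₀ : 𝒴.obj⦄ (T : Sieve y₀) (hT : T ∈ 𝒴.p.restrictedTopology J y₀) : EffFor (relB F) T := by
  obtain ⟨-, -, eff𝒳⟩ := elem_of_isStack J h𝒳
  obtain ⟨-, glue𝒴, -⟩ := elem_of_isStack J h𝒴
  have hR : T.functorPushforward 𝒴.p ∈ J (𝒴.p.obj y₀) := (Groth.Agent.S12801.main 𝒴.p h𝒴.1 J T).1 hT
  have h𝒴g := h𝒴.1
  intro D
  obtain ⟨x₁, hx₁, l', hl', hc'⟩ := eff𝒳 _ hR (D' h𝒴g F D)
  have hc'' : ∀ ⦃s t : (Stk.sieveCat (T.functorPushforward 𝒴.p)).obj⦄ (k : s ⟶ t),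
      D.toFunctor.map (τmap h𝒴g k) ≫ l' t = l' s := hc'
  have hFl' : ∀ s, 𝒴.p.IsHomLift s.obj.hom (F.toFunctor.map (l' s)) := fun s => by
    have := hl' s; infer_instance
  obtain ⟨h, hh, hhφ⟩ := glue𝒴 _ hR (𝟙 (𝒴.p.obj y₀)) (F.toFunctor.obj x₁) y₀ ((F.w_obj x₁).trans hx₁) rfl
    (fun V' f hf y' ζ hζ =>
      lift h𝒴g f (F.toFunctor.map (l' ⟨Over.mk f, hf⟩)) (hFl' ⟨Over.mk f, hf⟩) (𝟙 _) f (by simp) ζ hζ ≫
        ηD F D (τ h𝒴g ⟨Over.mk f, hf⟩))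
    (fun V' f hf y' ζ hζ => by
      have h1 := lift_isHomLift h𝒴g f (F.toFunctor.map (l' ⟨Over.mk f, hf⟩)) (hFl' ⟨Over.mk f, hf⟩) (𝟙 _) f
        (by simp) ζ hζ
      have h2 := ηD_lift h𝒴g F D ⟨Over.mk f, hf⟩
      exact isHomLift_comp' (𝟙 _) f _ (by simp) _ _ h1 h2)
    (fun V' f hf y' ζ hζ V'' f' y'' κ' hκ' h' => by
      let s : (Stk.sieveCat (T.functorPushforward 𝒴.p)).obj := ⟨Over.mk f, hf⟩
      let s' : (Stk.sieveCat (T.functorPushforward 𝒴.p)).obj :=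
        ⟨Over.mk (f' ≫ f), (T.functorPushforward 𝒴.p).downward_closed hf f'⟩
      let k : s' ⟶ s := ObjectProperty.homMk (Over.homMk f' rfl)
      have hL := lift_isHomLift h𝒴g f (F.toFunctor.map (l' s)) (hFl' s) (𝟙 _) f (by simp) ζ hζ
      have cL := lift_comp h𝒴g f (F.toFunctor.map (l' s)) (hFl' s) (𝟙 _) f (by simp) ζ hζ
      have hL' := lift_isHomLift h𝒴g (f' ≫ f) (F.toFunctor.map (l' s')) (hFl' s') (𝟙 _) (f' ≫ f) (by simp)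
        (κ' ≫ ζ) h'
      have cL' := lift_comp h𝒴g (f' ≫ f) (F.toFunctor.map (l' s')) (hFl' s') (𝟙 _) (f' ≫ f) (by simp)
        (κ' ≫ ζ) h'
      have hDk : 𝒴.p.IsHomLift f' (F.toFunctor.map (D.toFunctor.map (τmap h𝒴g k))) := by
        have : 𝒳.p.IsHomLift f' (D.toFunctor.map (τmap h𝒴g k)) := D'_map_lift h𝒴g F D k
        infer_instance
      have key : lift h𝒴g (f' ≫ f) (F.toFunctor.map (l' s')) (hFl' s') (𝟙 _) (f' ≫ f) (by simp) (κ' ≫ ζ) h' ≫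
          F.toFunctor.map (D.toFunctor.map (τmap h𝒴g k)) =
          κ' ≫ lift h𝒴g f (F.toFunctor.map (l' s)) (hFl' s) (𝟙 _) f (by simp) ζ hζ := by
        apply cancel h𝒴g (F.toFunctor.map (l' s)) f'
        · exact isHomLift_comp' (𝟙 _) f' _ (by simp) _ _ hL' hDk
        · exact isHomLift_comp' f' (𝟙 _) _ (by simp) _ _ hκ' hL
        · rw [Category.assoc, ← F.toFunctor.map_comp, hc'' k, cL', Category.assoc, cL]
      change lift h𝒴g (f' ≫ f) (F.toFunctor.map (l' s')) (hFl' s') (𝟙 _) (f' ≫ f) (by simp) (κ' ≫ ζ) h' ≫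
          ηD F D (τ h𝒴g s') =
        κ' ≫ lift h𝒴g f (F.toFunctor.map (l' s)) (hFl' s) (𝟙 _) f (by simp) ζ hζ ≫ ηD F D (τ h𝒴g s)
      rw [← ηD_nat F D (τmap h𝒴g k), ← Category.assoc, key, Category.assoc])
  have hFl'h : ∀ ⦃V' : C⦄ (f : V' ⟶ 𝒴.p.obj y₀) (hf : (T.functorPushforward 𝒴.p) f),
      F.toFunctor.map (l' ⟨Over.mk f, hf⟩) ≫ h = ηD F D (τ h𝒴g ⟨Over.mk f, hf⟩) := by
    intro V' f hf
    rw [hhφ f hf _ (F.toFunctor.map (l' ⟨Over.mk f, hf⟩)) (hFl' ⟨Over.mk f, hf⟩)]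
    have e : 𝟙 _ = lift h𝒴g f (F.toFunctor.map (l' ⟨Over.mk f, hf⟩)) (hFl' ⟨Over.mk f, hf⟩) (𝟙 _) f (by simp)
        (F.toFunctor.map (l' ⟨Over.mk f, hf⟩)) (hFl' ⟨Over.mk f, hf⟩) := by
      have hinst : 𝒴.p.IsHomLift f (F.toFunctor.map (l' ⟨Over.mk f, hf⟩)) := hFl' ⟨Over.mk f, hf⟩
      apply lift_uniq h𝒴g
      · exact IsHomLift.id (IsHomLift.domain_eq 𝒴.p f (F.toFunctor.map (l' ⟨Over.mk f, hf⟩)))
      · exact Category.id_comp _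
    rw [← e, Category.id_comp]
  have hiso : IsIso h := Descent.isIso_of_lift h𝒴g (𝟙 (𝒴.p.obj y₀)) h
  obtain ⟨x₀, θ, hθ⟩ := hF.exists_lift (x := x₁) (inv h)
  have hx₀ : F.toFunctor.obj x₀ = y₀ := IsHomLift.domain_eq F.toFunctor (inv h) θ
  -- indices
  let sOf' : (Stk.sieveCat T).obj → (Stk.sieveCat (T.functorPushforward 𝒴.p)).obj := fun σ =>
    ⟨Over.mk (𝒴.p.map σ.obj.hom), Sieve.image_mem_functorPushforward _ _ σ.property⟩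
  have hσl : ∀ σ : (Stk.sieveCat T).obj, 𝒴.p.IsHomLift (𝒴.p.map σ.obj.hom) σ.obj.hom := fun σ => inferInstance
  let ml : ∀ σ : (Stk.sieveCat T).obj, σ.obj.left ⟶ Yl h𝒴g (sOf' σ) := fun σ =>
    lift h𝒴g (𝒴.p.map σ.obj.hom) (ηl h𝒴g (sOf' σ)) (ηl_lift h𝒴g (sOf' σ)) (𝟙 _) (𝒴.p.map σ.obj.hom) (by simp)
      σ.obj.hom (hσl σ)
  have hml : ∀ σ, 𝒴.p.IsHomLift (𝟙 (𝒴.p.obj σ.obj.left)) (ml σ) := fun σ =>
    lift_isHomLift h𝒴g (𝒴.p.map σ.obj.hom) (ηl h𝒴g (sOf' σ)) (ηl_lift h𝒴g (sOf' σ)) (𝟙 _) (𝒴.p.map σ.obj.hom)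
      (by simp) σ.obj.hom (hσl σ)
  have cml : ∀ σ, ml σ ≫ ηl h𝒴g (sOf' σ) = σ.obj.hom := fun σ =>
    lift_comp h𝒴g (𝒴.p.map σ.obj.hom) (ηl h𝒴g (sOf' σ)) (ηl_lift h𝒴g (sOf' σ)) (𝟙 _) (𝒴.p.map σ.obj.hom)
      (by simp) σ.obj.hom (hσl σ)
  let mσ : ∀ σ : (Stk.sieveCat T).obj, σ ⟶ τ h𝒴g (sOf' σ) := fun σ =>
    ObjectProperty.homMk (Over.homMk (ml σ) (cml σ))
  -- the lift property of the composite
  have hlF : ∀ σ : (Stk.sieveCat T).obj, (relB F).p.IsHomLift (σ.obj.hom ≫ inv h)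
      (D.toFunctor.map (mσ σ) ≫ l' (sOf' σ)) := by
    intro σ
    have h1 : F.toFunctor.IsHomLift (ml σ) (D.toFunctor.map (mσ σ)) := sieve_map_isHomLift D (mσ σ)
    have e1 := hFl'h (𝒴.p.map σ.obj.hom) (sOf' σ).property
    have e2 : F.toFunctor.map (l' (sOf' σ)) =
        eqToHom (D.w_obj (τ h𝒴g (sOf' σ))) ≫ (ηl h𝒴g (sOf' σ) ≫ inv h) ≫ eqToHom rfl := by
      have e1' : F.toFunctor.map (l' (sOf' σ)) = ηD F D (τ h𝒴g (sOf' σ)) ≫ inv h := by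
        rw [← e1, Category.assoc, IsIso.hom_inv_id, Category.comp_id]
      rw [e1']
      simp [ηD, τ]
    have h2 : F.toFunctor.IsHomLift (ηl h𝒴g (sOf' σ) ≫ inv h) (l' (sOf' σ)) :=
      IsHomLift.of_fac' _ _ _ (D.w_obj (τ h𝒴g (sOf' σ))) rfl e2
    have h3 : F.toFunctor.IsHomLift (ml σ ≫ ηl h𝒴g (sOf' σ) ≫ inv h)
        (D.toFunctor.map (mσ σ) ≫ l' (sOf' σ)) := inferInstance
    rw [← Category.assoc, cml σ] at h3
    exact h3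
  let l : ∀ σ : (Stk.sieveCat T).obj, D.toFunctor.obj σ ⟶ x₀ := fun σ =>
    lift (𝒳 := relB F) hF (inv h) θ hθ σ.obj.hom (σ.obj.hom ≫ inv h) rfl
      (D.toFunctor.map (mσ σ) ≫ l' (sOf' σ)) (hlF σ)
  have hl : ∀ σ, (relB F).p.IsHomLift σ.obj.hom (l σ) := fun σ =>
    lift_isHomLift (𝒳 := relB F) hF (inv h) θ hθ σ.obj.hom (σ.obj.hom ≫ inv h) rfl
      (D.toFunctor.map (mσ σ) ≫ l' (sOf' σ)) (hlF σ)
  have cl : ∀ σ, l σ ≫ θ = D.toFunctor.map (mσ σ) ≫ l' (sOf' σ) := fun σ =>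
    lift_comp (𝒳 := relB F) hF (inv h) θ hθ σ.obj.hom (σ.obj.hom ≫ inv h) rfl
      (D.toFunctor.map (mσ σ) ≫ l' (sOf' σ)) (hlF σ)
  refine ⟨x₀, hx₀, l, hl, ?_⟩
  intro σ' σ k
  have hDk : (relB F).p.IsHomLift k.hom.left (D.toFunctor.map k) := sieve_map_isHomLift D k
  apply cancel (𝒳 := relB F) hF θ σ'.obj.hom
  · exact isHomLift_comp' (𝒳 := relB F) k.hom.left σ.obj.hom _ (Over.w k.hom) _ _ hDk (hl σ)
  · exact hl σ'
  · rw [Category.assoc, cl, cl]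
    let kb : sOf' σ' ⟶ sOf' σ := ObjectProperty.homMk (Over.homMk (𝒴.p.map k.hom.left) (by
      change 𝒴.p.map k.hom.left ≫ 𝒴.p.map σ.obj.hom = 𝒴.p.map σ'.obj.hom
      rw [← 𝒴.p.map_comp, Over.w k.hom]))
    have e1 : k ≫ mσ σ = mσ σ' ≫ τmap h𝒴g kb := by
      apply ObjectProperty.hom_ext
      ext
      change k.hom.left ≫ ml σ = ml σ' ≫ τl h𝒴g kb
      have h1 : 𝒴.p.IsHomLift (𝒴.p.map k.hom.left) k.hom.left := inferInstance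
      have h2 : 𝒴.p.IsHomLift (𝒴.p.map k.hom.left) (τl h𝒴g kb) := τl_lift h𝒴g kb
      apply cancel h𝒴g (ηl h𝒴g (sOf' σ)) (𝒴.p.map k.hom.left)
      · exact isHomLift_comp' (𝒴.p.map k.hom.left) (𝟙 _) _ (by simp) _ _ h1 (hml σ)
      · exact isHomLift_comp' (𝟙 _) (𝒴.p.map k.hom.left) _ (by simp) _ _ (hml σ') h2
      · rw [Category.assoc, cml, Category.assoc, τl_comp, cml, Over.w k.hom]
    rw [← Category.assoc, ← D.toFunctor.map_comp, e1, D.toFunctor.map_comp, Category.assoc, hc'' kb]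

theorem main (h𝒳 : Stk.IsStack J 𝒳) (h𝒴 : Stk.IsStack J 𝒴) (F : 𝒳 ⥤ᵇ 𝒴) (hF : FibCat.IsFibGrpd F.toFunctor) :
    Stk.IsStack (𝒴.p.restrictedTopology J) (BasedCategory.ofFunctor F.toFunctor) :=
  isStack_of_elem _ hF (sep_rel h𝒳 h𝒴 F) (glue_rel h𝒳 h𝒴 F) (eff_rel h𝒳 h𝒴 F hF)

end Groth.Agent.Lib.helper27.StkRel
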