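import Groth.Agent.FibYoneda
set_option autoImplicit false
set_option backward.isDefEq.respectTransparency false
set_option backward.isDefEq.respectTransparency.types false
set_option linter.unusedSectionVars false
set_option linter.style.haveILetI false
open CategoryTheory CategoryTheory.Functor CategoryTheory.Limits Opposite
universe v u

namespace Groth.Agent.Lib.helper27.Strict1
open Groth.Agent.FibYoneda Groth.Agent.FibEquiv Groth.Agent.FibOver

variable {C : Type u} [Category.{v} C] (𝒳 : BasedCategory.{v, max u v} C)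

/-- objects of the strictified fibre over `U`: cartesian functors `C/U ⥤ 𝒳` over `C` -/
structure SObj (U : C) : Type (max u v) where
  fn : FibCat.overCat U ⥤ᵇ 𝒳
  cart : FibCat.PreservesStronglyCartesian fn

variable {𝒳} {U V W : C}

@[ext] theorem SObj.ext' {α β : SObj 𝒳 U} (h : α.fn = β.fn) : α = β := by
  cases α; cases β; cases h; rfl

instance small_hom (α β : SObj 𝒳 U) : Small.{v} (α.fn ⟶ β.fn) :=
  small_of_injective (f := fun θ => θ.toNatTrans.app (Over.mk (𝟙 U)))
    (fun θ θ' h => ext_of_app_id β.cart θ θ' h)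

noncomputable instance : Category.{v} (SObj 𝒳 U) where
  Hom α β := Shrink.{v} (α.fn ⟶ β.fn)
  id α := equivShrink _ (𝟙 α.fn)
  comp f g := equivShrink _ ((equivShrink _).symm f ≫ (equivShrink _).symm g)
  id_comp f := by
    rw [Equiv.symm_apply_apply, Category.id_comp, Equiv.apply_symm_apply]
  comp_id f := by
    rw [Equiv.symm_apply_apply, Category.comp_id, Equiv.apply_symm_apply]
  assoc f g h := by
    rw [Equiv.symm_apply_apply, Equiv.symm_apply_apply, Category.assoc]

noncomputable def homMk {α β : SObj 𝒳 U} (θ : α.fn ⟶ β.fn) : α ⟶ β := equivShrink _ θ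
noncomputable def homNat {α β : SObj 𝒳 U} (m : α ⟶ β) : α.fn ⟶ β.fn := (equivShrink _).symm m

@[simp] theorem homNat_homMk {α β : SObj 𝒳 U} (θ : α.fn ⟶ β.fn) : homNat (homMk θ) = θ := by
  simp [homNat, homMk]
@[simp] theorem homMk_homNat {α β : SObj 𝒳 U} (m : α ⟶ β) : homMk (homNat m) = m := by
  simp [homNat, homMk]
@[simp] theorem homNat_id (α : SObj 𝒳 U) : homNat (𝟙 α) = 𝟙 α.fn := by
  change (equivShrink _).symm (equivShrink _ (𝟙 α.fn)) = _
  simp
@[simp] theorem homNat_comp {α β γ : SObj 𝒳 U} (m : α ⟶ β) (n : β ⟶ γ) :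
    homNat (m ≫ n) = homNat m ≫ homNat n := by
  change (equivShrink _).symm (equivShrink _ _) = _
  simp [homNat]
theorem homNat_injective {α β : SObj 𝒳 U} (m n : α ⟶ β) (h : homNat m = homNat n) : m = n := by
  rw [← homMk_homNat m, ← homMk_homNat n, h]
theorem homNat_eqToHom {α β : SObj 𝒳 U} (h : α = β) :
    homNat (eqToHom h) = eqToHom (congrArg SObj.fn h) := by
  subst h; simp

/-- every based functor between slice categories followed by a cartesian functor is cartesian -/
theorem cart_comp (P : FibCat.overCat U ⥤ᵇ FibCat.overCat V) (β : SObj 𝒳 V) :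
    FibCat.PreservesStronglyCartesian (BasedFunctor.comp P β.fn) := by
  intro R S f a b φ hφ
  have h0 := hφ.toIsHomLift
  have h1 : (FibCat.overCat V).p.IsHomLift f (P.toFunctor.map φ) := inferInstance
  exact β.cart f (P.toFunctor.map φ)
    (Groth.Agent.FibFpProj.isStronglyCartesian_of_isFibGrpd (FibCat.overCat V).p (isFibGrpd_overCat V) f
      (P.toFunctor.map φ))

/-- restriction along a functor of slices -/
noncomputable def res (P : FibCat.overCat U ⥤ᵇ FibCat.overCat V) : SObj 𝒳 V ⥤ SObj 𝒳 U where
  obj β := ⟨BasedFunctor.comp P β.fn, cart_comp P β⟩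
  map {β β'} m := homMk (BasedCategory.whiskerLeft P (homNat m))
  map_id β := by
    apply homNat_injective
    rw [homNat_homMk, homNat_id, homNat_id]
    rfl
  map_comp {β β' β''} m n := by
    apply homNat_injective
    rw [homNat_homMk, homNat_comp, homNat_comp, homNat_homMk, homNat_homMk]
    rfl

theorem homNat_res_map (P : FibCat.overCat U ⥤ᵇ FibCat.overCat V) {β β' : SObj 𝒳 V} (m : β ⟶ β') :
    homNat ((res P).map m) = BasedCategory.whiskerLeft P (homNat m) :=
  homNat_homMk _

theorem res_id : res (𝒳 := 𝒳) (BasedFunctor.id (FibCat.overCat U)) = 𝟭 (SObj 𝒳 U) := by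
  refine CategoryTheory.Functor.ext (fun β => rfl) (fun β β' m => ?_)
  rw [eqToHom_refl, eqToHom_refl, Category.comp_id, Category.id_comp]
  apply homNat_injective
  rw [homNat_res_map]
  rfl

theorem res_comp (P : FibCat.overCat U ⥤ᵇ FibCat.overCat V) (Q : FibCat.overCat V ⥤ᵇ FibCat.overCat W) :
    res (𝒳 := 𝒳) (BasedFunctor.comp P Q) = res Q ⋙ res P := by
  refine CategoryTheory.Functor.ext (fun β => rfl) (fun β β' m => ?_)
  rw [eqToHom_refl, eqToHom_refl, Category.comp_id, Category.id_comp]
  apply homNat_injective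
  rw [homNat_res_map, Functor.comp_map, homNat_res_map, homNat_res_map]
  rfl

/-- the functor of slices induced by a morphism of the base -/
def overMap (f : U ⟶ V) : FibCat.overCat U ⥤ᵇ FibCat.overCat V where
  toFunctor := Over.map f
  w := rfl

theorem overMap_id : overMap (𝟙 U) = BasedFunctor.id (FibCat.overCat U) := by
  have : (overMap (𝟙 U)).toFunctor = (BasedFunctor.id (FibCat.overCat U)).toFunctor := Over.mapId_eq U
  cases h1 : overMap (𝟙 U); cases h2 : BasedFunctor.id (FibCat.overCat U)
  simp only [h1, h2] at this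
  subst this
  rfl

theorem overMap_comp (f : U ⟶ V) (g : V ⟶ W) :
    overMap (f ≫ g) = BasedFunctor.comp (overMap f) (overMap g) := by
  have : (overMap (f ≫ g)).toFunctor = (BasedFunctor.comp (overMap f) (overMap g)).toFunctor :=
    Over.mapComp_eq f g
  cases h1 : overMap (f ≫ g); cases h2 : BasedFunctor.comp (overMap f) (overMap g)
  simp only [h1, h2] at this
  subst this
  rfl

variable (𝒳) in
/-- the strictification functor -/
noncomputable def SF : Cᵒᵖ ⥤ Cat.{v, max u v} where
  obj U := Cat.of (SObj 𝒳 U.unop)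
  map {U V} f := (res (𝒳 := 𝒳) (overMap f.unop)).toCatHom
  map_id U := by
    change (res (𝒳 := 𝒳) (overMap (𝟙 U.unop))).toCatHom = _
    rw [overMap_id, res_id]
    rfl
  map_comp {U V W} f g := by
    change (res (𝒳 := 𝒳) (overMap (g.unop ≫ f.unop))).toCatHom = _
    rw [overMap_comp, res_comp]
    rfl

end Groth.Agent.Lib.helper27.Strict1
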