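import Groth.Agent.Lib.Helper27.Strict1
set_option autoImplicit false
set_option backward.isDefEq.respectTransparency false
set_option backward.isDefEq.respectTransparency.types false
set_option linter.unusedSectionVars false
set_option linter.style.haveILetI false
open CategoryTheory CategoryTheory.Functor CategoryTheory.Limits Opposite Pseudofunctor
universe v u v₁ u₁ v₂ u₂

namespace Groth.Agent.Lib.helper27.Strict2
open Groth.Agent.FibYoneda Groth.Agent.FibEquiv Groth.Agent.FibOver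
open Groth.Agent.Lib.helper27.Strict1

section gen
variable {𝒮 : Type u₁} [Category.{v₁} 𝒮] (F : 𝒮ᵒᵖ ⥤ Cat.{v₂, u₂})

theorem id_obj_eq (U : 𝒮ᵒᵖ) (x : F.obj U) : x = (F.map (𝟙 U)).toFunctor.obj x := by
  rw [F.map_id]; rfl

theorem comp_obj_eq {U V W : 𝒮ᵒᵖ} (f : U ⟶ V) (g : V ⟶ W) (x : F.obj U) :
    (F.map g).toFunctor.obj ((F.map f).toFunctor.obj x) = (F.map (f ≫ g)).toFunctor.obj x := by
  rw [F.map_comp]; rfl

theorem id_fiber' (X : CoGrothendieck F.toPseudofunctor') :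
    (𝟙 X : X ⟶ X).fiber = eqToHom (id_obj_eq F (op X.base) X.fiber) := by
  simp

theorem comp_fiber' {X Y Z : CoGrothendieck F.toPseudofunctor'} (f : X ⟶ Y) (g : Y ⟶ Z) :
    (f ≫ g).fiber = f.fiber ≫ (F.map f.base.op).toFunctor.map g.fiber ≫
      eqToHom (comp_obj_eq F g.base.op f.base.op Z.fiber) := by
  simp
  rfl

end gen

variable {C : Type u} [Category.{v} C] (𝒳 : BasedCategory.{v, max u v} C)

noncomputable abbrev SP := (SF 𝒳).toPseudofunctor'
noncomputable abbrev Tot := CoGrothendieck (SP 𝒳)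

variable {𝒳}

/-- the fibre component, as an object of the strictified fibre -/
noncomputable def fib (X : Tot 𝒳) : SObj 𝒳 X.base := X.fiber

/-- the fibre component of a morphism -/
noncomputable def fibHom {X Y : Tot 𝒳} (φ : X ⟶ Y) : fib X ⟶ (res (overMap φ.base)).obj (fib Y) := φ.fiber

abbrev oId (U : C) : Over U := Over.mk (𝟙 U)

theorem eqToHom_app_based {U : C} {G G' : FibCat.overCat U ⥤ᵇ 𝒳} (h : G = G') (a : Over U) :
    (eqToHom h : G ⟶ G').toNatTrans.app a = eqToHom (by rw [h]) := by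
  subst h; rfl

theorem eqToHom_map_toId {W : C} (β : SObj 𝒳 W) {b b' : Over W} (h : b = b')
    (h' : β.fn.toFunctor.obj b = β.fn.toFunctor.obj b') :
    eqToHom h' ≫ β.fn.toFunctor.map (toId b') = β.fn.toFunctor.map (toId b) := by
  subst h; simp

theorem toId_eq_eqToHom {W : C} {b : Over W} (h : b = oId W) : toId b = eqToHom h := by
  subst h; exact toId_id

/-- the evaluation at the identity, on morphisms -/
noncomputable def evMap {X Y : Tot 𝒳} (φ : X ⟶ Y) :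
    (fib X).fn.toFunctor.obj (oId X.base) ⟶ (fib Y).fn.toFunctor.obj (oId Y.base) :=
  (homNat (fibHom φ)).toNatTrans.app (oId X.base) ≫
    (fib Y).fn.toFunctor.map (toId ((Over.map φ.base).obj (oId X.base)))

theorem evMap_lift {X Y : Tot 𝒳} (φ : X ⟶ Y) : 𝒳.p.IsHomLift φ.base (evMap φ) := by
  have h1 : 𝒳.p.IsHomLift (𝟙 X.base) ((homNat (fibHom φ)).toNatTrans.app (oId X.base)) :=
    app_isHomLift (homNat (fibHom φ)) (oId X.base)
  have h2 : 𝒳.p.IsHomLift (𝟙 X.base ≫ φ.base)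
      ((fib Y).fn.toFunctor.map (toId ((Over.map φ.base).obj (oId X.base)))) :=
    map_toId_isHomLift (fib Y).fn ((Over.map φ.base).obj (oId X.base))
  have : 𝒳.p.IsHomLift (𝟙 X.base ≫ 𝟙 X.base ≫ φ.base) (evMap φ) := by
    unfold evMap; infer_instance
  simpa using this

theorem fibHom_id (X : Tot 𝒳) : fibHom (𝟙 X) = eqToHom (id_obj_eq (SF 𝒳) (op X.base) X.fiber) :=
  id_fiber' (SF 𝒳) X

theorem fibHom_comp {X Y Z : Tot 𝒳} (φ : X ⟶ Y) (ψ : Y ⟶ Z) :
    fibHom (φ ≫ ψ) = fibHom φ ≫ (res (overMap φ.base)).map (fibHom ψ) ≫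
      eqToHom (comp_obj_eq (SF 𝒳) ψ.base.op φ.base.op Z.fiber) :=
  comp_fiber' (SF 𝒳) φ ψ

theorem evMap_id (X : Tot 𝒳) : evMap (𝟙 X) = 𝟙 _ := by
  unfold evMap
  rw [fibHom_id, homNat_eqToHom, eqToHom_app_based]
  have h : (Over.map (𝟙 X : X ⟶ X).base).obj (oId X.base) = oId X.base := by
    change (Over.map (𝟙 X.base)).obj (oId X.base) = oId X.base
    rw [Over.mapId_eq]; rfl
  rw [toId_eq_eqToHom h, eqToHom_map, eqToHom_trans, eqToHom_refl]

theorem based_comp_app {U : C} {G G' G'' : FibCat.overCat U ⥤ᵇ 𝒳} (α : G ⟶ G') (β : G' ⟶ G'') (a : Over U) :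
    (α ≫ β).toNatTrans.app a = α.toNatTrans.app a ≫ β.toNatTrans.app a := rfl

theorem evMap_comp {X Y Z : Tot 𝒳} (φ : X ⟶ Y) (ψ : Y ⟶ Z) : evMap (φ ≫ ψ) = evMap φ ≫ evMap ψ := by
  have hb : (Over.map ψ.base).obj ((Over.map φ.base).obj (oId X.base)) =
      (Over.map (φ ≫ ψ).base).obj (oId X.base) := by
    change _ = (Over.map (φ.base ≫ ψ.base)).obj (oId X.base)
    rw [Over.mapComp_eq]; rfl
  have e1 : (homNat (fibHom (φ ≫ ψ))).toNatTrans.app (oId X.base) =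
      (homNat (fibHom φ)).toNatTrans.app (oId X.base) ≫
        (homNat (fibHom ψ)).toNatTrans.app ((Over.map φ.base).obj (oId X.base)) ≫
          eqToHom (congrArg (fib Z).fn.toFunctor.obj hb) := by
    rw [fibHom_comp, homNat_comp, homNat_comp, homNat_res_map, homNat_eqToHom, based_comp_app,
      based_comp_app, eqToHom_app_based]
    rfl
  have n := (homNat (fibHom ψ)).toNatTrans.naturality (toId ((Over.map φ.base).obj (oId X.base)))
  change (fib Y).fn.toFunctor.map (toId ((Over.map φ.base).obj (oId X.base))) ≫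
      (homNat (fibHom ψ)).toNatTrans.app (oId Y.base) =
    (homNat (fibHom ψ)).toNatTrans.app ((Over.map φ.base).obj (oId X.base)) ≫
      (fib Z).fn.toFunctor.map ((Over.map ψ.base).map (toId ((Over.map φ.base).obj (oId X.base)))) at n
  unfold evMap
  rw [e1]
  simp only [Category.assoc]
  rw [eqToHom_map_toId (fib Z) hb, reassoc_of% n, ← (fib Z).fn.toFunctor.map_comp, comp_toId]
  rfl

noncomputable def evFun : Tot 𝒳 ⥤ 𝒳.obj where
  obj X := (fib X).fn.toFunctor.obj (oId X.base)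
  map φ := evMap φ
  map_id := evMap_id
  map_comp := evMap_comp

theorem ev_obj_proj (X : Tot 𝒳) : 𝒳.p.obj ((fib X).fn.toFunctor.obj (oId X.base)) = X.base :=
  (fib X).fn.w_obj (oId X.base)

variable (𝒳) in
noncomputable def ev : BasedCategory.ofFunctor (CoGrothendieck.forget (SP 𝒳)) ⥤ᵇ 𝒳 where
  toFunctor := evFun
  w := CategoryTheory.Functor.ext (fun X => ev_obj_proj X) (fun X Y φ => by
    haveI := evMap_lift φ
    exact IsHomLift.fac' 𝒳.p φ.base (evMap φ))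

theorem base_eq_of_lift {𝒵 : Type u₂} [Category.{v₂} 𝒵] (p : 𝒵 ⥤ C) {R S : C} (f f' : R ⟶ S) {a b : 𝒵}
    (m : a ⟶ b) (h : p.IsHomLift f m) (h' : p.IsHomLift f' m) : f = f' := by
  have e1 := IsHomLift.fac p f m
  have e2 := IsHomLift.fac p f' m
  exact e1.trans e2.symm

theorem ev_faithful : (ev 𝒳).toFunctor.Faithful := by
  refine ⟨fun {X Y} φ φ' h => ?_⟩
  change evMap φ = evMap φ' at h
  have hb : φ.base = φ'.base := by
    have h1 := evMap_lift φ
    have h2 := evMap_lift φ'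
    rw [← h] at h2
    exact base_eq_of_lift 𝒳.p _ _ _ h1 h2
  obtain ⟨f, m⟩ := φ
  obtain ⟨f', m'⟩ := φ'
  dsimp only at hb
  subst hb
  congr 1
  let a := (Over.map f).obj (oId X.base)
  have hsc : 𝒳.p.IsStronglyCartesian a.hom ((fib Y).fn.toFunctor.map (toId a)) :=
    map_toId_isStronglyCartesian (fib Y).fn (fib Y).cart a
  let M : fib X ⟶ (res (overMap f)).obj (fib Y) := m
  let M' : fib X ⟶ (res (overMap f)).obj (fib Y) := m'
  change (homNat M).toNatTrans.app (oId X.base) ≫ (fib Y).fn.toFunctor.map (toId a) =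
    (homNat M').toNatTrans.app (oId X.base) ≫ (fib Y).fn.toFunctor.map (toId a) at h
  have h1 : 𝒳.p.IsHomLift (𝟙 X.base) ((homNat M).toNatTrans.app (oId X.base)) :=
    app_isHomLift (homNat M) (oId X.base)
  have h2 : 𝒳.p.IsHomLift (𝟙 X.base) ((homNat M').toNatTrans.app (oId X.base)) :=
    app_isHomLift (homNat M') (oId X.base)
  have e : (homNat M).toNatTrans.app (oId X.base) = (homNat M').toNatTrans.app (oId X.base) := by
    obtain ⟨χ, -, hχ⟩ :=
      IsStronglyCartesian.universal_property (p := 𝒳.p) (f := a.hom) (φ := (fib Y).fn.toFunctor.map (toId a))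
        (𝟙 X.base) a.hom (by simp) ((homNat M).toNatTrans.app (oId X.base) ≫ (fib Y).fn.toFunctor.map (toId a))
    rw [hχ _ ⟨h1, rfl⟩]
    exact (hχ _ ⟨h2, h.symm⟩).symm
  have : M = M' := homNat_injective _ _ (ext_of_app_id (cart_comp (overMap f) (fib Y)) _ _ e)
  exact this

theorem ev_full : (ev 𝒳).toFunctor.Full := by
  refine ⟨fun {X Y} μ => ?_⟩
  change (fib X).fn.toFunctor.obj (oId X.base) ⟶ (fib Y).fn.toFunctor.obj (oId Y.base) at μ
  let f : X.base ⟶ Y.base := eqToHom (ev_obj_proj X).symm ≫ 𝒳.p.map μ ≫ eqToHom (ev_obj_proj Y)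
  have hμ : 𝒳.p.IsHomLift f μ :=
    IsHomLift.of_fac' 𝒳.p f μ (ev_obj_proj X) (ev_obj_proj Y) (by simp [f])
  let a := (Over.map f).obj (oId X.base)
  have hsc : 𝒳.p.IsStronglyCartesian a.hom ((fib Y).fn.toFunctor.map (toId a)) :=
    map_toId_isStronglyCartesian (fib Y).fn (fib Y).cart a
  have haf : f = 𝟙 X.base ≫ a.hom := by
    change f = 𝟙 X.base ≫ (𝟙 X.base ≫ f)
    simp
  obtain ⟨ν, ⟨hν1, hν2⟩, -⟩ :=
    IsStronglyCartesian.universal_property (p := 𝒳.p) (f := a.hom) (φ := (fib Y).fn.toFunctor.map (toId a))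
      (𝟙 X.base) f haf μ
  obtain ⟨θ, hθ⟩ := exists_of_app_id (G := (fib X).fn) (H := BasedFunctor.comp (overMap f) (fib Y).fn)
    (cart_comp (overMap f) (fib Y)) ν
  let M : fib X ⟶ (res (overMap f)).obj (fib Y) := homMk θ
  refine ⟨⟨f, M⟩, ?_⟩
  change (homNat M).toNatTrans.app (oId X.base) ≫ (fib Y).fn.toFunctor.map (toId a) = μ
  rw [homNat_homMk, hθ, hν2]

theorem ev_essSurj [𝒳.p.IsFibered] (x : 𝒳.obj) :
    ∃ (ξ : Tot 𝒳) (e : (ev 𝒳).toFunctor.obj ξ ≅ x), 𝒳.p.IsHomLift (𝟙 (𝒳.p.obj x)) e.hom := by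
  obtain ⟨e, he⟩ := yBased_id_iso x
  let β : SObj 𝒳 (𝒳.p.obj x) := ⟨yBased x, yBased_preserves x⟩
  exact ⟨⟨𝒳.p.obj x, β⟩, e, he⟩

theorem ev_isEquivOver [𝒳.p.IsFibered] : FibCat.IsEquivOver (ev 𝒳) := by
  haveI := ev_faithful (𝒳 := 𝒳)
  haveI := ev_full (𝒳 := 𝒳)
  exact isEquivOver_of (ev 𝒳) (fun x => ev_essSurj x)

theorem main [𝒳.p.IsFibered] :
    ∃ (F : Cᵒᵖ ⥤ Cat.{v, max u v})
      (E : 𝒳 ⥤ᵇ BasedCategory.ofFunctor (Pseudofunctor.CoGrothendieck.forget F.toPseudofunctor')),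
      FibCat.IsEquivOver E := by
  obtain ⟨G, hα, hβ⟩ := ev_isEquivOver (𝒳 := 𝒳)
  exact ⟨SF 𝒳, G, ev 𝒳, hβ, hα⟩

theorem isGroupoid_SObj (h𝒳 : FibCat.IsFibGrpd 𝒳.p) (U : C) : IsGroupoid (SObj 𝒳 U) := by
  refine ⟨fun {α β} m => ?_⟩
  have hcomp : ∀ a : Over U, IsIso ((homNat m).toNatTrans.app a) := fun a => by
    haveI : 𝒳.p.IsHomLift (𝟙 a.left) ((homNat m).toNatTrans.app a) := app_isHomLift (homNat m) a
    have hsc : 𝒳.p.IsStronglyCartesian (𝟙 a.left) ((homNat m).toNatTrans.app a) :=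
      Groth.Agent.FibFpProj.isStronglyCartesian_of_isFibGrpd 𝒳.p h𝒳 (𝟙 a.left) _
    exact IsStronglyCartesian.isIso_of_base_isIso 𝒳.p (𝟙 a.left) _
  haveI : IsIso (X := α.fn.toFunctor) (homNat m).toNatTrans := NatIso.isIso_of_isIso_app _
  haveI : IsIso (homNat m) := BasedNatIso.isIso_of_toNatTrans_isIso (homNat m)
  refine ⟨homMk (inv (homNat m)), ?_, ?_⟩
  · apply homNat_injective
    rw [homNat_comp, homNat_homMk, homNat_id, IsIso.hom_inv_id]
  · apply homNat_injective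
    rw [homNat_comp, homNat_homMk, homNat_id, IsIso.inv_hom_id]

theorem main_grpd (h𝒳 : FibCat.IsFibGrpd 𝒳.p) :
    ∃ (F : Cᵒᵖ ⥤ Cat.{v, max u v}) (_ : ∀ U : Cᵒᵖ, IsGroupoid (F.obj U))
      (E : 𝒳 ⥤ᵇ BasedCategory.ofFunctor (Pseudofunctor.CoGrothendieck.forget F.toPseudofunctor')),
      FibCat.IsEquivOver E := by
  haveI : 𝒳.p.IsFibered := Groth.Agent.FibFiberwise.isFibered_of_isFibGrpd 𝒳.p h𝒳
  obtain ⟨G, hα, hβ⟩ := ev_isEquivOver (𝒳 := 𝒳)
  exact ⟨SF 𝒳, fun U => isGroupoid_SObj h𝒳 U.unop, G, ev 𝒳, hβ, hα⟩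

end Groth.Agent.Lib.helper27.Strict2
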