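import Mathlib
import Groth.Agent.Lib.Helper27.AcyclicClass

set_option linter.unusedSectionVars false
set_option linter.unusedVariables false

namespace Groth.Agent.Lib.helper27

open CategoryTheory Limits Opposite

universe u

namespace Tower

/-- towers of abelian groups -/
abbrev Tow := ℕᵒᵖ ⥤ AddCommGrpCat.{u}

/-- the transition maps -/
def tr (A : Tow.{u}) (n : ℕ) : A.obj (op (n + 1)) ⟶ A.obj (op n) :=
  A.map (homOfLE (Nat.le_succ n)).op

/-- towers with surjective transition maps -/
def SurjTr : ObjectProperty Tow.{u} := fun A => ∀ n, Function.Surjective (tr A n)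

lemma map_eq (A : Tow.{u}) {n m : ℕᵒᵖ} (f g : n ⟶ m) : A.map f = A.map g := by
  rw [Subsingleton.elim f g]

lemma tr_nat {A B : Tow.{u}} (φ : A ⟶ B) (n : ℕ) (x : A.obj (op (n + 1))) :
    φ.app (op n) (tr A n x) = tr B n (φ.app (op (n + 1)) x) := by
  have := φ.naturality (homOfLE (Nat.le_succ n)).op
  exact ConcreteCategory.congr_hom this x

/-- the prefix-product tower -/
def prefixTow (A : Tow.{u}) : Tow.{u} where
  obj n := AddCommGrpCat.of (∀ k : {k : ℕ // k ≤ n.unop}, A.obj (op k.1))
  map {n m} f := AddCommGrpCat.ofHom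
    { toFun := fun x k => x ⟨k.1, k.2.trans (leOfHom f.unop)⟩
      map_zero' := rfl
      map_add' := fun _ _ => rfl }
  map_id _ := rfl
  map_comp _ _ := rfl

/-- the embedding into the prefix-product tower -/
def prefixι (A : Tow.{u}) : A ⟶ prefixTow A where
  app n := AddCommGrpCat.ofHom
    { toFun := fun a k => A.map (homOfLE k.2).op a
      map_zero' := by funext k; exact map_zero _
      map_add' := fun a b => by funext k; exact map_add _ a b }
  naturality n m f := by
    ext a
    funext k
    change A.map (homOfLE k.2).op (A.map f a) = A.map (homOfLE _).op a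
    rw [← ConcreteCategory.comp_apply, ← A.map_comp]
    exact ConcreteCategory.congr_hom (map_eq A _ _) a

lemma prefixι_app_apply (A : Tow.{u}) (n : ℕᵒᵖ) (a : A.obj n) (k : {k : ℕ // k ≤ n.unop}) :
    (prefixι A).app n a k = A.map (homOfLE k.2).op a := rfl

instance (A : Tow.{u}) : Mono (prefixι A) := by
  rw [NatTrans.mono_iff_mono_app]
  intro n
  rw [AddCommGrpCat.mono_iff_injective]
  intro a b h
  have h1 := congrFun h ⟨n.unop, le_refl _⟩
  rw [prefixι_app_apply, prefixι_app_apply] at h1
  have e : A.map (homOfLE (le_refl n.unop)).op = 𝟙 _ := by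
    rw [map_eq A _ (𝟙 n), A.map_id]
  change A.map (homOfLE (le_refl n.unop)).op a = A.map (homOfLE (le_refl n.unop)).op b at h1
  rw [e] at h1
  exact h1

lemma prefixTow_surj (A : Tow.{u}) : SurjTr (prefixTow A) := by
  intro n x
  refine ⟨fun k => if h : k.1 ≤ n then x ⟨k.1, h⟩ else 0, ?_⟩
  funext k
  change (if h : k.1 ≤ n then x ⟨k.1, h⟩ else 0) = x k
  rw [dif_pos k.2]

lemma surjTr_of_retract {A B : Tow.{u}} (i : A ⟶ B) (r : B ⟶ A) (h : i ≫ r = 𝟙 A)
    (hB : SurjTr B) : SurjTr A := by
  intro n x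
  obtain ⟨y', hy'⟩ := hB n (i.app (op n) x)
  refine ⟨r.app (op (n + 1)) y', ?_⟩
  rw [← tr_nat, hy']
  have := congrArg (fun φ => φ.app (op n)) h
  exact ConcreteCategory.congr_hom this x

lemma surjTr_of_injective (I : Tow.{u}) [Injective I] : SurjTr I :=
  surjTr_of_retract (prefixι I) (Injective.factorThru (𝟙 I) (prefixι I))
    (Injective.comp_factorThru _ _) (prefixTow_surj I)

lemma app_surjective_of_shortExact {S : ShortComplex Tow.{u}} (hS : S.ShortExact) (n : ℕᵒᵖ) :
    Function.Surjective (S.g.app n) := by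
  have := hS.epi_g
  have : Epi (S.g.app n) := (NatTrans.epi_iff_epi_app S.g).1 inferInstance n
  exact (AddCommGrpCat.epi_iff_surjective _).1 this

lemma surjTr_quot {S : ShortComplex Tow.{u}} (hS : S.ShortExact) (h : SurjTr S.X₂) :
    SurjTr S.X₃ := by
  intro n x
  obtain ⟨y, rfl⟩ := app_surjective_of_shortExact hS (op n) x
  obtain ⟨y', rfl⟩ := h n y
  exact ⟨S.g.app (op (n + 1)) y', (tr_nat S.g n y').symm⟩

end Tower

end Groth.Agent.Lib.helper27
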