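import Mathlib
import Groth.Agent.Lib.Helper27.AcyclicClass
import Groth.Agent.Lib.Helper27.TowerLim

set_option linter.unusedSectionVars false
set_option linter.unusedVariables false

namespace Groth.Agent.Lib.helper27

open CategoryTheory Limits Opposite

universe u

namespace Tower

lemma app_exact_of_shortExact {S : ShortComplex Tow.{u}} (hS : S.ShortExact) (n : ℕᵒᵖ)
    (y : S.X₂.obj n) (hy : S.g.app n y = 0) : ∃ a : S.X₁.obj n, S.f.app n a = y := by
  have h := hS.exact.map ((evaluation _ _).obj n)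
  rw [ShortComplex.ab_exact_iff] at h
  exact h y hy

lemma step {S : ShortComplex Tow.{u}} (hS : S.ShortExact) (h1 : SurjTr S.X₁) (n : ℕ)
    (y : S.X₂.obj (op n)) (x' : S.X₃.obj (op (n + 1)))
    (hx : tr S.X₃ n x' = S.g.app (op n) y) :
    ∃ y' : S.X₂.obj (op (n + 1)), S.g.app _ y' = x' ∧ tr S.X₂ n y' = y := by
  obtain ⟨z, hz⟩ := app_surjective_of_shortExact hS (op (n + 1)) x'
  have h0 : S.g.app (op n) (tr S.X₂ n z - y) = 0 := by
    rw [map_sub, tr_nat, hz, hx, sub_self]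
  obtain ⟨b, hb⟩ := app_exact_of_shortExact hS (op n) _ h0
  obtain ⟨b', rfl⟩ := h1 n b
  refine ⟨z - S.f.app _ b', ?_, ?_⟩
  · rw [map_sub, hz]
    have : S.g.app (op (n + 1)) (S.f.app (op (n + 1)) b') = 0 := by
      rw [← ConcreteCategory.comp_apply, ← NatTrans.comp_app, S.zero]
      rfl
    rw [this, sub_zero]
  · rw [map_sub, ← tr_nat, hb]
    abel

lemma exists_lifts {S : ShortComplex Tow.{u}} (hS : S.ShortExact) (h1 : SurjTr S.X₁)
    (x : ∀ n : ℕ, S.X₃.obj (op n)) (hx : ∀ n, tr S.X₃ n (x (n + 1)) = x n) :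
    ∃ y : ∀ n : ℕ, S.X₂.obj (op n), (∀ n, S.g.app (op n) (y n) = x n) ∧
      ∀ n, tr S.X₂ n (y (n + 1)) = y n := by
  have key : ∀ (n : ℕ) (y : {y : S.X₂.obj (op n) // S.g.app (op n) y = x n}),
      ∃ y' : {y' : S.X₂.obj (op (n + 1)) // S.g.app (op (n + 1)) y' = x (n + 1)},
        tr S.X₂ n y'.1 = y.1 := by
    intro n y
    obtain ⟨y', h1', h2'⟩ := step hS h1 n y.1 (x (n + 1)) ((hx n).trans y.2.symm)
    exact ⟨⟨y', h1'⟩, h2'⟩
  choose next hnext using key
  obtain ⟨y0, hy0⟩ := app_surjective_of_shortExact hS (op 0) (x 0)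
  let Y : ∀ n : ℕ, {y : S.X₂.obj (op n) // S.g.app (op n) y = x n} :=
    fun n => Nat.rec ⟨y0, hy0⟩ (fun n y => next n y) n
  exact ⟨fun n => (Y n).1, fun n => (Y n).2, fun n => hnext n (Y n)⟩

lemma map_eq_of_tr (A : Tow.{u}) (a : ∀ n : ℕ, A.obj (op n))
    (ha : ∀ n, tr A n (a (n + 1)) = a n) (m n : ℕ) (h : m ≤ n) :
    A.map (homOfLE h).op (a n) = a m := by
  induction n, h using Nat.le_induction with
  | base =>
    rw [map_eq A _ (𝟙 (op m)), A.map_id]
    rfl
  | succ n hmn ih =>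
    have : A.map (homOfLE (hmn.trans (Nat.le_succ n))).op =
        tr A n ≫ A.map (homOfLE hmn).op := by
      rw [tr, ← A.map_comp]
      exact map_eq A _ _
    rw [this, ConcreteCategory.comp_apply, ha, ih]

lemma exists_limit_elt (A : Tow.{u}) (a : ∀ n : ℕ, A.obj (op n))
    (ha : ∀ n, tr A n (a (n + 1)) = a n) :
    ∃ s : (limit A : AddCommGrpCat.{u}), ∀ n : ℕ, limit.π A (op n) s = a n := by
  let sec : (A ⋙ forget AddCommGrpCat.{u}).sections :=
    ⟨fun j => a j.unop, by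
      intro j j' f
      have h : j'.unop ≤ j.unop := leOfHom f.unop
      have := map_eq_of_tr A a ha _ _ h
      change A.map f (a j.unop) = a j'.unop
      rw [map_eq A f (homOfLE h).op]
      exact this⟩
  let e := Types.isLimitEquivSections (isLimitOfPreserves (forget AddCommGrpCat.{u})
    (limit.isLimit A))
  refine ⟨e.symm sec, fun n => ?_⟩
  exact Types.isLimitEquivSections_symm_apply (isLimitOfPreserves (forget AddCommGrpCat.{u})
    (limit.isLimit A)) sec (op n)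

lemma lim_map_surjective {S : ShortComplex Tow.{u}} (hS : S.ShortExact) (h1 : SurjTr S.X₁) :
    Function.Surjective (lim.map S.g) := by
  intro x
  have hx : ∀ n : ℕ, tr S.X₃ n (limit.π S.X₃ (op (n + 1)) x) = limit.π S.X₃ (op n) x := by
    intro n
    rw [tr, ← ConcreteCategory.comp_apply, limit.w]
  obtain ⟨y, hy1, hy2⟩ := exists_lifts hS h1 (fun n => limit.π S.X₃ (op n) x) hx
  obtain ⟨s, hs⟩ := exists_limit_elt S.X₂ y hy2
  refine ⟨s, ?_⟩
  apply Concrete.limit_ext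
  intro j
  obtain ⟨n⟩ := j
  rw [lim_map, ← ConcreteCategory.comp_apply, limMap_π, ConcreteCategory.comp_apply, hs, hy1]

end Tower

end Groth.Agent.Lib.helper27

namespace Groth.Agent.Lib.helper27

open CategoryTheory Limits Opposite

universe u

namespace Tower

theorem isZero_rightDerived_lim
    [EnoughInjectives (ℕᵒᵖ ⥤ AddCommGrpCat.{u})]
    [(lim : (ℕᵒᵖ ⥤ AddCommGrpCat.{u}) ⥤ AddCommGrpCat.{u}).Additive]
    (A : ℕᵒᵖ ⥤ AddCommGrpCat.{u}) (i : ℕ) (hi : 2 ≤ i) :
    IsZero (((lim : (ℕᵒᵖ ⥤ AddCommGrpCat.{u}) ⥤ AddCommGrpCat.{u}).rightDerived i).obj A) := by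
  obtain ⟨j, rfl⟩ : ∃ j, i = j + 2 := ⟨i - 2, by omega⟩
  have : PreservesFiniteLimits (lim : (ℕᵒᵖ ⥤ AddCommGrpCat.{u}) ⥤ AddCommGrpCat.{u}) :=
    inferInstance
  refine Horseshoe.isZero_rightDerived_of_class_two
    (lim : (ℕᵒᵖ ⥤ AddCommGrpCat.{u}) ⥤ AddCommGrpCat.{u}) SurjTr.{u} ?_ ?_ ?_ ?_ j A
  · intro X _
    exact ⟨Injective.under X, Injective.ι X, inferInstance, inferInstance,
      surjTr_of_injective _⟩
  · intro S hS h
    exact surjTr_quot hS h
  · intro S hS h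
    rw [← Horseshoe.epi_map_iff, AddCommGrpCat.epi_iff_surjective]
    exact lim_map_surjective hS h
  · intro X
    exact ⟨prefixTow X, prefixι X, inferInstance, prefixTow_surj X⟩

end Tower

end Groth.Agent.Lib.helper27
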