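import Mathlib

/-!
# Traces, eigenvalues and short exact sequences of finite-dimensional vector spaces (helper27)
-/

set_option autoImplicit false

namespace Groth.Agent.Lib.helper27

namespace TrLin

open Module

section field

variable {K : Type*} [Field K]
  {V' V V'' : Type*} [AddCommGroup V'] [AddCommGroup V] [AddCommGroup V'']
  [Module K V'] [Module K V] [Module K V'']

/-- additivity of the trace on an exact sequence of finite-dimensional vector spaces with
compatible endomorphisms -/
theorem trace_add_of_exact [Module.Finite K V'] [Module.Finite K V] [Module.Finite K V'']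
    (i : V' →ₗ[K] V) (p : V →ₗ[K] V'') (hi : Function.Injective i) (hp : Function.Surjective p)
    (hex : LinearMap.range i = LinearMap.ker p)
    (φ' : V' →ₗ[K] V') (φ : V →ₗ[K] V) (φ'' : V'' →ₗ[K] V'')
    (h1 : φ ∘ₗ i = i ∘ₗ φ') (h2 : p ∘ₗ φ = φ'' ∘ₗ p) :
    LinearMap.trace K V φ = LinearMap.trace K V' φ' + LinearMap.trace K V'' φ'' := by
  obtain ⟨s, hs⟩ := LinearMap.exists_rightInverse_of_surjective p (LinearMap.range_eq_top.2 hp)
  -- the retraction
  have hmem : ∀ m : V, m - s (p m) ∈ LinearMap.range i := by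
    intro m
    rw [hex, LinearMap.mem_ker, map_sub]
    have : p (s (p m)) = p m := by
      have := LinearMap.congr_fun hs (p m)
      simpa using this
    rw [this, sub_self]
  let e := LinearEquiv.ofInjective i hi
  let r' : V →ₗ[K] V' := e.symm.toLinearMap ∘ₗ
    (LinearMap.codRestrict (LinearMap.range i) (LinearMap.id - s ∘ₗ p) (fun m => by simpa using hmem m))
  have hr' : i ∘ₗ r' = LinearMap.id - s ∘ₗ p := by
    ext m
    have key : ∀ w : LinearMap.range i, i (e.symm w) = w.1 := fun w =>
      congrArg Subtype.val (e.apply_symm_apply w)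
    show i (e.symm ((LinearMap.codRestrict (LinearMap.range i) (LinearMap.id - s ∘ₗ p) _) m)) = _
    rw [key]
    rfl
  have hsum : φ = φ ∘ₗ (i ∘ₗ r') + φ ∘ₗ (s ∘ₗ p) := by
    rw [hr', ← LinearMap.comp_add, sub_add_cancel, LinearMap.comp_id]
  have hr'i : r' ∘ₗ i = LinearMap.id := by
    apply LinearMap.ext
    intro x
    apply hi
    have := LinearMap.congr_fun hr' (i x)
    have hpi : p (i x) = 0 := by
      have : i x ∈ LinearMap.ker p := hex ▸ LinearMap.mem_range_self i x
      exact this
    simpa [hpi] using this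
  have t1 : LinearMap.trace K V (φ ∘ₗ (i ∘ₗ r')) = LinearMap.trace K V' φ' := by
    have : φ ∘ₗ (i ∘ₗ r') = (i ∘ₗ φ') ∘ₗ r' := by
      rw [← LinearMap.comp_assoc, h1]
    rw [this, LinearMap.trace_comp_comm' r' (i ∘ₗ φ'), ← LinearMap.comp_assoc, hr'i,
      LinearMap.id_comp]
  have t2 : LinearMap.trace K V (φ ∘ₗ (s ∘ₗ p)) = LinearMap.trace K V'' φ'' := by
    have : φ ∘ₗ (s ∘ₗ p) = (φ ∘ₗ s) ∘ₗ p := by rw [LinearMap.comp_assoc]
    rw [this, LinearMap.trace_comp_comm' p (φ ∘ₗ s), ← LinearMap.comp_assoc, h2,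
      LinearMap.comp_assoc, hs, LinearMap.comp_id]
  rw [hsum, map_add, t1, t2]

/-- eigenvalues of a sub-endomorphism -/
theorem hasEigenvalue_of_injective (i : V' →ₗ[K] V) (hi : Function.Injective i)
    (φ' : V' →ₗ[K] V') (φ : V →ₗ[K] V) (h1 : φ ∘ₗ i = i ∘ₗ φ') (μ : K)
    (h : Module.End.HasEigenvalue φ' μ) : Module.End.HasEigenvalue φ μ := by
  obtain ⟨v, hv⟩ := h.exists_hasEigenvector
  refine Module.End.hasEigenvalue_of_hasEigenvector (x := i v) ⟨?_, ?_⟩
  · rw [Module.End.mem_eigenspace_iff]
    have := LinearMap.congr_fun h1 v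
    simp only [LinearMap.comp_apply] at this
    rw [this, hv.apply_eq_smul, map_smul]
  · intro h0
    exact hv.2 (hi (by rw [h0, map_zero]))

/-- eigenvalues of a quotient endomorphism (finite-dimensional case) -/
theorem hasEigenvalue_of_surjective [Module.Finite K V] [Module.Finite K V'']
    (p : V →ₗ[K] V'') (hp : Function.Surjective p)
    (φ : V →ₗ[K] V) (φ'' : V'' →ₗ[K] V'') (h2 : p ∘ₗ φ = φ'' ∘ₗ p) (μ : K)
    (h : Module.End.HasEigenvalue φ'' μ) : Module.End.HasEigenvalue φ μ := by
  rw [Module.End.hasEigenvalue_iff, Module.End.eigenspace_def] at h ⊢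
  intro hker
  apply h
  have hinj : Function.Injective (φ - μ • (1 : Module.End K V)) := LinearMap.ker_eq_bot.1 hker
  have hsurj : Function.Surjective (φ - μ • (1 : Module.End K V)) :=
    LinearMap.injective_iff_surjective.1 hinj
  have hsurj'' : Function.Surjective (φ'' - μ • (1 : Module.End K V'')) := by
    intro w
    obtain ⟨m, rfl⟩ := hp w
    obtain ⟨m', rfl⟩ := hsurj m
    refine ⟨p m', ?_⟩
    have := LinearMap.congr_fun h2 m'
    simp only [LinearMap.comp_apply] at this
    simp [LinearMap.sub_apply, this]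
  exact LinearMap.ker_eq_bot.2 (LinearMap.injective_iff_surjective.2 hsurj'')

end field

section complex

variable {V : Type*} [AddCommGroup V] [Module ℂ V] [Module.Finite ℂ V]

/-- the trace is bounded by the dimension times a bound for the eigenvalues -/
theorem norm_trace_le (φ : V →ₗ[ℂ] V) (R : ℝ)
    (h : ∀ μ : ℂ, Module.End.HasEigenvalue φ μ → ‖μ‖ ≤ R) :
    ‖LinearMap.trace ℂ V φ‖ ≤ (Module.finrank ℂ V : ℝ) * R := by
  have hs : (LinearMap.charpoly φ).Splits := IsAlgClosed.splits _
  rw [Module.End.trace_eq_sum_roots_charpoly_of_splits hs]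
  have hcard : (LinearMap.charpoly φ).roots.card = Module.finrank ℂ V := by
    rw [← LinearMap.charpoly_natDegree φ]
    exact (Polynomial.splits_iff_card_roots.1 hs)
  calc ‖(LinearMap.charpoly φ).roots.sum‖
      ≤ ((LinearMap.charpoly φ).roots.map (fun μ => ‖μ‖)).sum := norm_multiset_sum_le _
    _ ≤ ((LinearMap.charpoly φ).roots.map (fun _ => R)).sum := by
        apply Multiset.sum_map_le_sum_map
        intro μ hμ
        apply h
        rw [Module.End.hasEigenvalue_iff_isRoot_charpoly]
        exact (Polynomial.mem_roots'.1 hμ).2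
    _ = (Module.finrank ℂ V : ℝ) * R := by
        rw [Multiset.map_const', Multiset.sum_replicate, hcard, nsmul_eq_mul]

end complex

end TrLin

end Groth.Agent.Lib.helper27
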