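import Mathlib
import Groth.Agent.Lib.Helper27.TrLin

/-!
# Traces of `X` on finite-dimensional `ℂ[X]`-modules (helper27)
-/

set_option autoImplicit false
set_option linter.style.haveILetI false

namespace Groth.Agent.Lib.helper27

namespace TrMod

open CategoryTheory CategoryTheory.Limits

universe u

/-- restriction of scalars from `ℂ[X]` to `ℂ` -/
noncomputable abbrev resF : ModuleCat.{u} (Polynomial ℂ) ⥤ ModuleCat.{u} ℂ :=
  ModuleCat.restrictScalars (algebraMap ℂ (Polynomial ℂ))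

/-- the underlying vector space -/
noncomputable abbrev V (M : ModuleCat.{u} (Polynomial ℂ)) : ModuleCat.{u} ℂ := resF.obj M

/-- multiplication by `X` -/
noncomputable abbrev φ (M : ModuleCat.{u} (Polynomial ℂ)) : V M →ₗ[ℂ] V M :=
  (resF.map ((Polynomial.X : Polynomial ℂ) • 𝟙 M)).hom

/-- the ℂ-linear map underlying a morphism -/
noncomputable abbrev lin {M N : ModuleCat.{u} (Polynomial ℂ)} (g : M ⟶ N) : V M →ₗ[ℂ] V N :=
  (resF.map g).hom

/-- the trace of `X` -/
noncomputable def τ (M : ModuleCat.{u} (Polynomial ℂ)) : ℂ := LinearMap.trace ℂ _ (φ M)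

/-- finite-dimensionality -/
def Fd (M : ModuleCat.{u} (Polynomial ℂ)) : Prop := Module.Finite ℂ (V M)

/-- the dimension -/
noncomputable def dm (M : ModuleCat.{u} (Polynomial ℂ)) : ℕ := Module.finrank ℂ (V M)

/-- eigenvalues of `X` -/
def Eig (M : ModuleCat.{u} (Polynomial ℂ)) (μ : ℂ) : Prop := Module.End.HasEigenvalue (φ M) μ

lemma lin_φ {M N : ModuleCat.{u} (Polynomial ℂ)} (g : M ⟶ N) :
    φ N ∘ₗ lin g = lin g ∘ₗ φ M := by
  have : ((Polynomial.X : Polynomial ℂ) • 𝟙 M) ≫ g = g ≫ ((Polynomial.X : Polynomial ℂ) • 𝟙 N) := by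
    rw [Linear.smul_comp, Linear.comp_smul, Category.id_comp, Category.comp_id]
  have h2 := congrArg (fun k => (resF.map k).hom) this
  simp only [Functor.map_comp, ModuleCat.hom_comp] at h2
  exact h2.symm

lemma lin_injective {M N : ModuleCat.{u} (Polynomial ℂ)} (g : M ⟶ N) [Mono g] :
    Function.Injective (lin g) :=
  (ModuleCat.mono_iff_injective g).1 inferInstance

lemma lin_surjective {M N : ModuleCat.{u} (Polynomial ℂ)} (g : M ⟶ N) [Epi g] :
    Function.Surjective (lin g) :=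
  (ModuleCat.epi_iff_surjective g).1 inferInstance

section mono_epi

variable {M N : ModuleCat.{u} (Polynomial ℂ)} (g : M ⟶ N)

lemma Fd.of_mono [Mono g] (h : Fd N) : Fd M :=
  haveI : Module.Finite ℂ (V N) := h
  Module.Finite.of_injective (lin g) (lin_injective g)

lemma Fd.of_epi [Epi g] (h : Fd M) : Fd N :=
  haveI : Module.Finite ℂ (V M) := h
  Module.Finite.of_surjective (lin g) (lin_surjective g)

lemma dm_le_of_mono [Mono g] (h : Fd N) : dm M ≤ dm N :=
  haveI : Module.Finite ℂ (V N) := h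
  LinearMap.finrank_le_finrank_of_injective (lin_injective g)

lemma dm_le_of_epi [Epi g] (h : Fd M) : dm N ≤ dm M :=
  haveI : Module.Finite ℂ (V M) := h
  LinearMap.finrank_le_finrank_of_surjective (lin_surjective g)

lemma Eig.of_mono [Mono g] (μ : ℂ) (h : Eig M μ) : Eig N μ :=
  TrLin.hasEigenvalue_of_injective (lin g) (lin_injective g) (φ M) (φ N) (lin_φ g) μ h

lemma Eig.of_epi [Epi g] (hM : Fd M) (μ : ℂ) (h : Eig N μ) : Eig M μ :=
  haveI : Module.Finite ℂ (V M) := hM
  haveI : Module.Finite ℂ (V N) := Fd.of_epi g hM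
  TrLin.hasEigenvalue_of_surjective (lin g) (lin_surjective g) (φ M) (φ N) (lin_φ g).symm μ h

end mono_epi

section iso

variable {M N : ModuleCat.{u} (Polynomial ℂ)}

lemma Fd.of_iso (e : M ≅ N) (h : Fd M) : Fd N := Fd.of_epi e.hom h

lemma dm_iso (e : M ≅ N) (h : Fd M) : dm M = dm N :=
  le_antisymm (dm_le_of_mono e.hom (Fd.of_iso e h)) (dm_le_of_epi e.hom h)

lemma Eig.iso_iff (e : M ≅ N) (h : Fd M) (μ : ℂ) : Eig M μ ↔ Eig N μ :=
  ⟨Eig.of_mono e.hom μ, Eig.of_epi e.hom h μ⟩

end iso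

lemma Fd.of_isZero {M : ModuleCat.{u} (Polynomial ℂ)} (h : IsZero M) : Fd M := by
  have : Subsingleton M := ModuleCat.subsingleton_of_isZero h
  have : Subsingleton (V M) := this
  haveI : Finite (V M) := Finite.of_subsingleton
  exact Module.Finite.of_finite

lemma τ_of_isZero {M : ModuleCat.{u} (Polynomial ℂ)} (h : IsZero M) : τ M = 0 := by
  have : Subsingleton M := ModuleCat.subsingleton_of_isZero h
  have : Subsingleton (V M) := this
  have : φ M = 0 := Subsingleton.elim _ _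
  rw [τ, this, map_zero]

lemma dm_of_isZero {M : ModuleCat.{u} (Polynomial ℂ)} (h : IsZero M) : dm M = 0 := by
  have : Subsingleton M := ModuleCat.subsingleton_of_isZero h
  have : Subsingleton (V M) := this
  exact Module.finrank_zero_of_subsingleton

section ses

variable (S : ShortComplex (ModuleCat.{u} (Polynomial ℂ))) (hS : S.ShortExact)

include hS

lemma range_eq_ker : LinearMap.range (lin S.f) = LinearMap.ker (lin S.g) := by
  have h := hS.exact.moduleCat_range_eq_ker
  ext x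
  have h' := SetLike.ext_iff.1 h x
  exact h'

lemma Fd.ses₁ (h : Fd S.X₂) : Fd S.X₁ := haveI := hS.mono_f; Fd.of_mono S.f h

lemma Fd.ses₃ (h : Fd S.X₂) : Fd S.X₃ := haveI := hS.epi_g; Fd.of_epi S.g h

lemma Fd.ses₂ (h₁ : Fd S.X₁) (h₃ : Fd S.X₃) : Fd S.X₂ := by
  haveI : Module.Finite ℂ (V S.X₁) := h₁
  haveI : Module.Finite ℂ (V S.X₃) := h₃
  haveI := hS.epi_g
  refine Module.Finite.of_exact (f := lin S.f) (g := lin S.g) ?_ (lin_surjective S.g)
  rw [LinearMap.exact_iff, range_eq_ker S hS]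

/-- additivity of the trace -/
theorem τ_ses (h : Fd S.X₂) : τ S.X₂ = τ S.X₁ + τ S.X₃ := by
  haveI : Module.Finite ℂ (V S.X₂) := h
  haveI : Module.Finite ℂ (V S.X₁) := Fd.ses₁ S hS h
  haveI : Module.Finite ℂ (V S.X₃) := Fd.ses₃ S hS h
  haveI := hS.mono_f
  haveI := hS.epi_g
  exact TrLin.trace_add_of_exact (lin S.f) (lin S.g) (lin_injective S.f) (lin_surjective S.g)
    (range_eq_ker S hS) (φ S.X₁) (φ S.X₂) (φ S.X₃) (lin_φ S.f) (lin_φ S.g).symm

end ses

lemma τ_iso {M N : ModuleCat.{u} (Polynomial ℂ)} (e : M ≅ N) (h : Fd M) : τ M = τ N := by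
  haveI : Module.Finite ℂ (V M) := h
  haveI : Module.Finite ℂ (V N) := Fd.of_iso e h
  let el : V M ≃ₗ[ℂ] V N := (resF.mapIso e).toLinearEquiv
  have h1 : φ N = el.conj (φ M) := by
    apply LinearMap.ext
    intro x
    have := LinearMap.congr_fun (lin_φ e.hom) (el.symm x)
    simp only [LinearMap.comp_apply] at this
    have hx : lin e.hom (el.symm x) = x := el.apply_symm_apply x
    rw [hx] at this
    rw [LinearEquiv.conj_apply]
    simp only [LinearMap.comp_apply, LinearEquiv.coe_coe]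
    exact this
  rw [τ, τ, h1, LinearMap.trace_conj']

/-- the bound of the trace by dimension times eigenvalue bound -/
theorem norm_τ_le {M : ModuleCat.{u} (Polynomial ℂ)} (h : Fd M) (R : ℝ)
    (hR : ∀ μ : ℂ, Eig M μ → ‖μ‖ ≤ R) : ‖τ M‖ ≤ (dm M : ℝ) * R :=
  haveI : Module.Finite ℂ (V M) := h
  TrLin.norm_trace_le (φ M) R hR

end TrMod

end Groth.Agent.Lib.helper27
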