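import Mathlib
import Groth.Agent.Lib.Helper27.TrMod

/-!
# The trace of `X` on the homology of a short complex of `ℂ[X]`-modules (helper27)
-/

set_option autoImplicit false
set_option linter.style.haveILetI false

namespace Groth.Agent.Lib.helper27

namespace TrHom

open CategoryTheory CategoryTheory.Limits TrMod

universe v u

section abelian

variable {C : Type u} [Category.{v} C] [Abelian C]

/-- an epi-mono factorisation identifies the middle object with the coimage -/
noncomputable def coimageIsoOfFac {A B Q : C} (f : A ⟶ B) (e : A ⟶ Q) (m : Q ⟶ B) [Epi e] [Mono m]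
    (h : e ≫ m = f) : Q ≅ Abelian.coimage f := by
  have h0 : kernel.ι f ≫ e = 0 := by
    rw [← cancel_mono m, Category.assoc, h, kernel.condition, zero_comp]
  have hk : IsLimit (KernelFork.ofι (kernel.ι f) h0) :=
    isKernelOfComp m f (kernelIsKernel f) h0 h
  have hc := Abelian.epiIsCokernelOfKernel (KernelFork.ofι (kernel.ι f) h0) hk
  have t := cokernelIsCokernel (kernel.ι f)
  have e := hc.coconePointUniqueUpToIso t
  exact e

/-- the coimage of a morphism with zero source -/
lemma isZero_coimage_of_isZero_src {A B : C} (f : A ⟶ B) (h : IsZero A) :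
    IsZero (Abelian.coimage f) := by
  rw [IsZero.iff_id_eq_zero, ← cancel_epi (cokernel.π (kernel.ι f))]
  rw [comp_zero, Category.comp_id]
  exact h.eq_of_src _ _

/-- the coimage of a zero morphism -/
lemma isZero_coimage_of_eq_zero {A B : C} (f : A ⟶ B) (h : f = 0) :
    IsZero (Abelian.coimage f) := by
  subst h
  rw [IsZero.iff_id_eq_zero, ← cancel_epi (cokernel.π (kernel.ι (0 : A ⟶ B)))]
  rw [comp_zero, Category.comp_id]
  haveI : IsIso (kernel.ι (0 : A ⟶ B)) := kernel.ι_zero_isIso
  rw [← cancel_epi (kernel.ι (0 : A ⟶ B)), cokernel.condition, comp_zero]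

variable (S : ShortComplex C)

/-- `cokernel iCycles` is the coimage of `g` -/
noncomputable def cokerICyclesIso : cokernel S.iCycles ≅ Abelian.coimage S.g :=
  cokernel.mapIso S.iCycles (kernel.ι S.g) S.cyclesIsoKernel (Iso.refl _) (by simp)

/-- `kernel homologyπ` is the coimage of `f` -/
noncomputable def kerHomologyπIso : kernel S.homologyπ ≅ Abelian.coimage S.f := by
  have hex : (ShortComplex.mk S.toCycles S.homologyπ S.toCycles_comp_homologyπ).Exact :=
    ShortComplex.exact_of_g_is_cokernel _ S.homologyIsCokernel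
  haveI : Epi (kernel.lift S.homologyπ S.toCycles S.toCycles_comp_homologyπ) := hex.epi_kernelLift
  exact coimageIsoOfFac S.f (kernel.lift S.homologyπ S.toCycles S.toCycles_comp_homologyπ)
    (kernel.ι S.homologyπ ≫ S.iCycles) (by simp)

lemma shortExact₁ : (ShortComplex.mk S.iCycles (cokernel.π S.iCycles)
    (cokernel.condition _)).ShortExact :=
  ShortComplex.ShortExact.mk' (ShortComplex.exact_cokernel _) inferInstance inferInstance

lemma shortExact₂ : (ShortComplex.mk (kernel.ι S.homologyπ) S.homologyπ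
    (kernel.condition _)).ShortExact :=
  ShortComplex.ShortExact.mk' (ShortComplex.exact_kernel _) inferInstance inferInstance

end abelian

section main

variable (S : ShortComplex (ModuleCat.{u} (Polynomial ℂ)))

lemma fd_cycles (h : Fd S.X₂) : Fd S.cycles := Fd.of_mono S.iCycles h

lemma fd_homology (h : Fd S.X₂) : Fd S.homology := Fd.of_epi S.homologyπ (fd_cycles S h)

lemma dm_homology_le (h : Fd S.X₂) : dm S.homology ≤ dm S.X₂ :=
  (dm_le_of_epi S.homologyπ (fd_cycles S h)).trans (dm_le_of_mono S.iCycles h)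

lemma eig_homology (h : Fd S.X₂) (μ : ℂ) (hμ : Eig S.homology μ) : Eig S.X₂ μ :=
  Eig.of_mono S.iCycles μ (Eig.of_epi S.homologyπ (fd_cycles S h) μ hμ)

lemma fd_coimage {A B : ModuleCat.{u} (Polynomial ℂ)} (f : A ⟶ B) (h : Fd A) :
    Fd (Abelian.coimage f) := Fd.of_epi (cokernel.π (kernel.ι f)) h

lemma dm_coimage_le {A B : ModuleCat.{u} (Polynomial ℂ)} (f : A ⟶ B) (h : Fd A) :
    dm (Abelian.coimage f) ≤ dm A := dm_le_of_epi (cokernel.π (kernel.ι f)) h

lemma eig_coimage {A B : ModuleCat.{u} (Polynomial ℂ)} (f : A ⟶ B) (h : Fd A) (μ : ℂ)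
    (hμ : Eig (Abelian.coimage f) μ) : Eig A μ := Eig.of_epi (cokernel.π (kernel.ι f)) h μ hμ

/-- the trace on homology -/
theorem τ_homology (h : Fd S.X₂) :
    τ S.homology = τ S.X₂ - τ (Abelian.coimage S.g) - τ (Abelian.coimage S.f) := by
  have e1 := τ_ses _ (shortExact₁ S) h
  have e2 := τ_ses _ (shortExact₂ S) (fd_cycles S h)
  dsimp only at e1 e2
  have e3 : τ (cokernel S.iCycles) = τ (Abelian.coimage S.g) :=
    τ_iso (cokerICyclesIso S) (Fd.of_epi (cokernel.π S.iCycles) h)
  have e4 : τ (kernel S.homologyπ) = τ (Abelian.coimage S.f) :=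
    τ_iso (kerHomologyπIso S) (Fd.of_mono (kernel.ι S.homologyπ) (fd_cycles S h))
  rw [e1, e2, e3, e4]
  ring

end main

end TrHom

end Groth.Agent.Lib.helper27
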