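import Mathlib
import Groth.Prelude.Def_SpSeq
import Groth.Agent.Lib.Helper27.TrHom

/-!
# The trace of `X` on a finitely filtered `ℂ[X]`-module (helper27)
-/

set_option autoImplicit false
set_option linter.style.haveILetI false

namespace Groth.Agent.Lib.helper27

namespace TrFil

open CategoryTheory CategoryTheory.Limits TrMod TrHom

universe u

variable (F : SpSeq.FilObj (ModuleCat.{u} (Polynomial ℂ)))

lemma shortExact (p : ℤ) :
    (ShortComplex.mk (F.stepLE (Int.le_add_one (le_refl p)))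
      (cokernel.π (F.stepLE (Int.le_add_one (le_refl p)))) (cokernel.condition _)).ShortExact :=
  ShortComplex.ShortExact.mk' (ShortComplex.exact_cokernel _) inferInstance inferInstance

lemma isZero_step_of_bot (p : ℤ) (h : F.fil p = ⊥) : IsZero (F.step p) := by
  have h0 : (F.fil p).arrow = 0 := by rw [h]; exact Subobject.bot_arrow
  exact IsZero.of_mono_eq_zero _ h0

lemma isZero_gr_of_bot (p : ℤ) (h : F.fil p = ⊥) : IsZero (F.gr p) := by
  have hz := isZero_step_of_bot F p h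
  change IsZero (cokernel (F.stepLE (Int.le_add_one (le_refl p))))
  rw [IsZero.iff_id_eq_zero, ← cancel_epi (cokernel.π (F.stepLE (Int.le_add_one (le_refl p))))]
  exact hz.eq_of_src _ _

lemma isZero_gr_of_top (p : ℤ) (h : F.fil (p + 1) = ⊤) : IsZero (F.gr p) := by
  have h' : F.fil p = ⊤ := top_le_iff.1 (h ▸ F.anti (Int.le_add_one (le_refl p)))
  haveI : IsIso (F.fil (p + 1)).arrow := by rw [h]; infer_instance
  haveI : IsIso (F.fil p).arrow := by rw [h']; infer_instance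
  haveI : IsIso (F.stepLE (Int.le_add_one (le_refl p))) := by
    have : F.stepLE (Int.le_add_one (le_refl p)) ≫ (F.fil p).arrow = (F.fil (p + 1)).arrow :=
      Subobject.ofLE_arrow _
    exact IsIso.of_isIso_fac_right this
  change IsZero (cokernel (F.stepLE (Int.le_add_one (le_refl p))))
  rw [IsZero.iff_id_eq_zero, ← cancel_epi (cokernel.π (F.stepLE (Int.le_add_one (le_refl p)))),
    ← cancel_epi (F.stepLE (Int.le_add_one (le_refl p)))]
  simp

variable (hfd : ∀ p : ℤ, Fd (F.gr p))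

include hfd

/-- downward induction from a zero step -/
lemma fd_τ_step (b : ℤ) (hb : F.fil b = ⊥) (j : ℕ) :
    Fd (F.step (b - j)) ∧
      τ (F.step (b - j)) = ∑ p ∈ Finset.Ico (b - j) b, τ (F.gr p) := by
  induction j with
  | zero =>
    simp only [Nat.cast_zero, sub_zero, Finset.Ico_self, Finset.sum_empty]
    exact ⟨Fd.of_isZero (isZero_step_of_bot F b hb), τ_of_isZero (isZero_step_of_bot F b hb)⟩
  | succ j ih =>
    have hS := shortExact F (b - ((j + 1 : ℕ) : ℤ))
    have e : b - ((j + 1 : ℕ) : ℤ) + 1 = b - (j : ℤ) := by push_cast; ring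
    have ih' : Fd (F.step (b - ((j + 1 : ℕ) : ℤ) + 1)) ∧
        τ (F.step (b - ((j + 1 : ℕ) : ℤ) + 1)) = ∑ p ∈ Finset.Ico (b - (j : ℤ)) b, τ (F.gr p) := by
      rw [e]; exact ih
    have hfd2 : Fd (F.step (b - ((j + 1 : ℕ) : ℤ))) := Fd.ses₂ _ hS ih'.1 (hfd _)
    refine ⟨hfd2, ?_⟩
    have hτ := τ_ses _ hS hfd2
    dsimp only at hτ
    rw [hτ, ih'.2]
    have hI : Finset.Ico (b - ((j + 1 : ℕ) : ℤ)) b =
        insert (b - ((j + 1 : ℕ) : ℤ)) (Finset.Ico (b - (j : ℤ)) b) := by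
      ext x; simp only [Finset.mem_Ico, Finset.mem_insert]; push_cast; omega
    have hg : τ (cokernel (F.stepLE (Int.le_add_one (le_refl (b - ((j + 1 : ℕ) : ℤ)))))) =
        τ (F.gr (b - ((j + 1 : ℕ) : ℤ))) := rfl
    rw [hI, Finset.sum_insert (by simp only [Finset.mem_Ico]; push_cast; omega), add_comm, hg]

/-- the trace on a finitely filtered object -/
theorem fd_τ (hfin : F.IsFinite) (s : Finset ℤ) (hs : ∀ p ∉ s, IsZero (F.gr p)) :
    Fd F.obj ∧ τ F.obj = ∑ p ∈ s, τ (F.gr p) := by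
  obtain ⟨⟨a₀, ha₀⟩, ⟨b, hb⟩⟩ := hfin
  -- WLOG a ≤ b
  obtain ⟨a, hab, ha⟩ : ∃ a, a ≤ b ∧ F.fil a = ⊤ := by
    refine ⟨min a₀ b, min_le_right _ _, ?_⟩
    exact top_le_iff.1 (ha₀ ▸ F.anti (min_le_left a₀ b))
  obtain ⟨h1, h2⟩ := fd_τ_step F hfd b hb (b - a).toNat
  rw [Int.toNat_of_nonneg (by omega), sub_sub_cancel] at h1 h2
  haveI : IsIso (F.fil a).arrow := by rw [ha]; infer_instance
  have e : F.step a ≅ F.obj := asIso (F.fil a).arrow
  refine ⟨Fd.of_iso e h1, ?_⟩
  rw [← τ_iso e h1, h2]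
  -- compare the two finite sums
  have hz1 : ∀ p ∈ s ∪ Finset.Ico a b, p ∉ Finset.Ico a b → τ (F.gr p) = 0 := by
    intro p _ hp
    simp only [Finset.mem_Ico, not_and, not_lt] at hp
    apply τ_of_isZero
    by_cases hpa : a ≤ p
    · exact isZero_gr_of_bot F p (le_bot_iff.1 (hb ▸ F.anti (hp hpa)))
    · exact isZero_gr_of_top F p (top_le_iff.1 (ha ▸ F.anti (by omega)))
  have hz2 : ∀ p ∈ s ∪ Finset.Ico a b, p ∉ s → τ (F.gr p) = 0 :=
    fun p _ hp => τ_of_isZero (hs p hp)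
  rw [Finset.sum_subset (Finset.subset_union_right (s₁ := s)) hz1,
    Finset.sum_subset (Finset.subset_union_left (s₂ := Finset.Ico a b)) hz2]

end TrFil

end Groth.Agent.Lib.helper27
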