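import Mathlib
import Groth.Agent.Lib.Helper27.TrHom

/-!
# The trace of `X` from one page of a spectral sequence of `ℂ[X]`-modules to the next (helper27)
-/

set_option autoImplicit false
set_option linter.style.haveILetI false

namespace Groth.Agent.Lib.helper27

namespace TrPage

open CategoryTheory CategoryTheory.Limits TrMod TrHom

universe u

variable {r₀ : ℤ} (E : CohomologicalSpectralSequence (ModuleCat.{u} (Polynomial ℂ)) r₀)
  (r : ℤ) (hr : r₀ ≤ r)

lemma prev_eq (pq : ℤ × ℤ) :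
    (ComplexShape.up' ((r, 1 - r) : ℤ × ℤ)).prev pq = pq - (r, 1 - r) :=
  ComplexShape.prev_eq' _ (show pq - (r, 1 - r) + (r, 1 - r) = pq from sub_add_cancel _ _)

lemma next_eq (pq : ℤ × ℤ) :
    (ComplexShape.up' ((r, 1 - r) : ℤ × ℤ)).next pq = pq + (r, 1 - r) :=
  ComplexShape.next_eq' _ (show pq + (r, 1 - r) = pq + (r, 1 - r) from rfl)

/-- the next page is the homology of the explicit short complex -/
noncomputable def nextIso (pq : ℤ × ℤ) :
    (E.page (r + 1) (Int.le_add_one hr)).X pq ≅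
      ((E.page r hr).sc' (pq - (r, 1 - r)) pq (pq + (r, 1 - r))).homology :=
  (E.iso r (r + 1) pq rfl hr).symm ≪≫
    (E.page r hr).homologyIsoSc' _ _ _ (prev_eq r pq) (next_eq r pq)

/-- trace of the coimage of the outgoing differential -/
noncomputable def cb (pq : ℤ × ℤ) : ℂ :=
  τ (Abelian.coimage ((E.page r hr).d pq (pq + (r, 1 - r))))

lemma τ_coimage_congr (i j j' : ℤ × ℤ) (h : j = j') :
    τ (Abelian.coimage ((E.page r hr).d i j)) = τ (Abelian.coimage ((E.page r hr).d i j')) := by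
  subst h; rfl

/-- the explicit short complex at `pq` -/
noncomputable abbrev scAt (pq : ℤ × ℤ) : ShortComplex (ModuleCat.{u} (Polynomial ℂ)) :=
  (E.page r hr).sc' (pq - (r, 1 - r)) pq (pq + (r, 1 - r))

variable (hfd : ∀ pq : ℤ × ℤ, Fd ((E.page r hr).X pq))

include hfd

lemma fd_next (pq : ℤ × ℤ) : Fd ((E.page (r + 1) (Int.le_add_one hr)).X pq) :=
  Fd.of_iso (nextIso E r hr pq).symm (fd_homology (scAt E r hr pq) (hfd pq))

lemma dm_next_le (pq : ℤ × ℤ) :
    dm ((E.page (r + 1) (Int.le_add_one hr)).X pq) ≤ dm ((E.page r hr).X pq) := by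
  rw [dm_iso (nextIso E r hr pq) (fd_next E r hr hfd pq)]
  exact dm_homology_le (scAt E r hr pq) (hfd pq)

lemma eig_next (pq : ℤ × ℤ) (μ : ℂ) (h : Eig ((E.page (r + 1) (Int.le_add_one hr)).X pq) μ) :
    Eig ((E.page r hr).X pq) μ :=
  eig_homology (scAt E r hr pq) (hfd pq) μ ((Eig.iso_iff (nextIso E r hr pq) (fd_next E r hr hfd pq) μ).1 h)

/-- the trace on the next page -/
theorem τ_next (pq : ℤ × ℤ) :
    τ ((E.page (r + 1) (Int.le_add_one hr)).X pq) =
      τ ((E.page r hr).X pq) - cb E r hr pq - cb E r hr (pq - (r, 1 - r)) := by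
  rw [τ_iso (nextIso E r hr pq) (fd_next E r hr hfd pq), τ_homology (scAt E r hr pq) (hfd pq)]
  congr 1
  exact τ_coimage_congr E r hr (pq - (r, 1 - r)) pq _ (sub_add_cancel _ _).symm

omit hfd in
lemma isZero_next (pq : ℤ × ℤ) (h : IsZero ((E.page r hr).X pq)) :
    IsZero ((E.page (r + 1) (Int.le_add_one hr)).X pq) := by
  refine IsZero.of_iso ?_ (nextIso E r hr pq)
  exact ShortComplex.isZero_homology_of_isZero_X₂ (scAt E r hr pq) h

omit hfd in
lemma cb_eq_zero_of_src (pq : ℤ × ℤ) (h : IsZero ((E.page r hr).X pq)) : cb E r hr pq = 0 :=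
  τ_of_isZero (isZero_coimage_of_isZero_src _ h)

omit hfd in
lemma cb_eq_zero_of_tgt (pq : ℤ × ℤ) (h : IsZero ((E.page r hr).X (pq + (r, 1 - r)))) :
    cb E r hr pq = 0 :=
  τ_of_isZero (isZero_coimage_of_eq_zero _ (h.eq_of_tgt _ _))

lemma norm_cb_le (pq : ℤ × ℤ) (R : ℝ)
    (hR : ∀ μ : ℂ, Eig ((E.page r hr).X pq) μ → ‖μ‖ ≤ R) (hR0 : 0 ≤ R) :
    ‖cb E r hr pq‖ ≤ (dm ((E.page r hr).X pq) : ℝ) * R := by
  refine (norm_τ_le (fd_coimage _ (hfd pq)) R
    (fun μ hμ => hR μ (eig_coimage _ (hfd pq) μ hμ))).trans ?_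
  exact mul_le_mul_of_nonneg_right (by exact_mod_cast dm_coimage_le _ (hfd pq)) hR0

end TrPage

end Groth.Agent.Lib.helper27
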