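import Mathlib
import Groth.Agent.Lib.Helper27.TrPage

/-!
# Alternating sums of traces over the pages of a spectral sequence of `ℂ[X]`-modules (helper27)
-/

set_option autoImplicit false
set_option linter.style.haveILetI false

namespace Groth.Agent.Lib.helper27

namespace TrSum

open CategoryTheory CategoryTheory.Limits TrMod TrHom TrPage

universe u

/-- the sign of an integer -/
noncomputable def sgz (n : ℤ) : ℂ := if Even n then 1 else -1

lemma sgz_sub_one (n : ℤ) : sgz (n - 1) = - sgz n := by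
  unfold sgz
  by_cases h : Even n
  · rw [if_pos h, if_neg (by rw [Int.even_sub_one]; exact not_not.2 h)]
  · rw [if_neg h, if_pos (by rw [Int.even_sub_one]; exact h), neg_neg]

lemma sgz_natCast (n : ℕ) : sgz (n : ℤ) = (-1 : ℂ) ^ n := by
  unfold sgz
  rcases Nat.even_or_odd n with h | h
  · rw [if_pos (by exact_mod_cast h), h.neg_one_pow]
  · rw [if_neg (by rw [Int.not_even_iff_odd]; exact_mod_cast h), h.neg_one_pow]

lemma norm_sgz (n : ℤ) : ‖sgz n‖ = 1 := by
  unfold sgz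
  split_ifs <;> simp

/-- the sign at a position -/
noncomputable def sg (pq : ℤ × ℤ) : ℂ := sgz (pq.1 + pq.2)

lemma sg_sub (pq : ℤ × ℤ) (r : ℤ) : sg (pq - (r, 1 - r)) = - sg pq := by
  unfold sg
  rw [← sgz_sub_one]
  congr 1
  simp only [Prod.fst_sub, Prod.snd_sub]
  ring

lemma norm_sg (pq : ℤ × ℤ) : ‖sg pq‖ = 1 := norm_sgz _

/-- the embedding of the first quadrant -/
def ι (pq : ℕ × ℕ) : ℤ × ℤ := ((pq.1 : ℤ), (pq.2 : ℤ))

lemma ι_injective : Function.Injective ι := by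
  rintro ⟨a, b⟩ ⟨c, d⟩ h
  simp only [ι, Prod.mk.injEq, Nat.cast_inj] at h
  exact Prod.ext h.1 h.2

lemma neg_of_not_mem_range (pq : ℤ × ℤ) (h : pq ∉ Set.range ι) : pq.1 < 0 ∨ pq.2 < 0 := by
  by_contra hc
  simp only [not_or, not_lt] at hc
  apply h
  refine ⟨(pq.1.toNat, pq.2.toNat), ?_⟩
  simp only [ι]
  rw [Int.toNat_of_nonneg hc.1, Int.toNat_of_nonneg hc.2]

lemma sg_ι (pq : ℕ × ℕ) : sg (ι pq) = (-1 : ℂ) ^ (pq.1 + pq.2) := by
  unfold sg ι
  rw [← sgz_natCast]
  congr 1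

/-- the telescoping lemma -/
lemma shift_sum (x h g : ℤ × ℤ → ℂ) (v : ℤ × ℤ)
    (hh : ∀ pq, h pq = x pq - g pq + g (pq - v)) (hx : Summable x) (hg : Summable g) :
    Summable h ∧ ∑' pq, h pq = ∑' pq, x pq := by
  have hg' : Summable (fun pq => g (pq - v)) :=
    (Equiv.summable_iff (Equiv.subRight v)).2 hg
  have hh' : h = fun pq => x pq - g pq + g (pq - v) := funext hh
  have h1 : Summable (fun pq => x pq - g pq) := hx.sub hg
  refine ⟨hh' ▸ h1.add hg', ?_⟩
  rw [hh', h1.tsum_add hg', hx.tsum_sub hg]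
  have : ∑' pq, g (pq - v) = ∑' pq, g pq := (Equiv.subRight v).tsum_eq g
  rw [this, sub_add_cancel]

section bound

variable (N : ℕ) (a c : ℕ → ℝ) (b d : ℕ → ℕ)

/-- the dominating function -/
noncomputable def Mb (pq : ℕ × ℕ) : ℝ :=
  (c pq.1 * (d pq.1 : ℝ)) * (if pq.2 ≤ N then a pq.2 * (b pq.2 : ℝ) else 0)

variable (ha : ∀ q, 0 ≤ a q) (hc : ∀ p, 0 ≤ c p)
  (hsum : Summable fun p : ℕ => c p * (d p : ℝ))

include ha hc in
lemma Mb_nonneg (pq : ℕ × ℕ) : 0 ≤ Mb N a c b d pq := by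
  unfold Mb
  apply mul_nonneg (mul_nonneg (hc _) (Nat.cast_nonneg _))
  split_ifs
  · exact mul_nonneg (ha _) (Nat.cast_nonneg _)
  · exact le_refl _

include ha hc hsum in
lemma summable_Mb : Summable (Mb N a c b d) := by
  have hg : Summable (fun q : ℕ => if q ≤ N then a q * (b q : ℝ) else 0) := by
    apply summable_of_hasFiniteSupport
    apply (Set.finite_le_nat N).subset
    intro q hq
    by_contra hqn
    apply hq
    have hqn : ¬ q ≤ N := hqn
    show (if q ≤ N then a q * (b q : ℝ) else 0) = 0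
    rw [if_neg hqn]
  exact hsum.mul_of_nonneg hg (fun p => mul_nonneg (hc p) (Nat.cast_nonneg _))
    (fun q => by
      show 0 ≤ (if q ≤ N then a q * (b q : ℝ) else 0)
      split_ifs
      · exact mul_nonneg (ha _) (Nat.cast_nonneg _)
      · exact le_refl _)

end bound

section page

variable {r₀ : ℤ} (E : CohomologicalSpectralSequence (ModuleCat.{u} (Polynomial ℂ)) r₀)

/-- the boundedness condition on a page -/
structure PageBd (r : ℤ) (hr : r₀ ≤ r) (N : ℕ) (a c : ℕ → ℝ) (b d : ℕ → ℕ) : Prop where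
  quad : ∀ pq : ℤ × ℤ, pq.1 < 0 ∨ pq.2 < 0 → IsZero ((E.page r hr).X pq)
  fd : ∀ pq : ℤ × ℤ, Fd ((E.page r hr).X pq)
  van : ∀ p q : ℕ, N < q → IsZero ((E.page r hr).X ((p : ℤ), (q : ℤ)))
  eig : ∀ (p q : ℕ) (μ : ℂ), Eig ((E.page r hr).X ((p : ℤ), (q : ℤ))) μ → ‖μ‖ ≤ a q * c p
  dim : ∀ p q : ℕ, dm ((E.page r hr).X ((p : ℤ), (q : ℤ))) ≤ b q * d p

variable {E} {r : ℤ} {hr : r₀ ≤ r} {N : ℕ} {a c : ℕ → ℝ} {b d : ℕ → ℕ}

/-- the condition passes to the next page -/
theorem PageBd.next (h : PageBd E r hr N a c b d) :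
    PageBd E (r + 1) (Int.le_add_one hr) N a c b d where
  quad pq hpq := isZero_next E r hr pq (h.quad pq hpq)
  fd pq := fd_next E r hr h.fd pq
  van p q hq := isZero_next E r hr _ (h.van p q hq)
  eig p q μ hμ := h.eig p q μ (eig_next E r hr h.fd _ μ hμ)
  dim p q := (dm_next_le E r hr h.fd _).trans (h.dim p q)

variable (ha : ∀ q, 0 ≤ a q) (hc : ∀ p, 0 ≤ c p)

include ha hc in
lemma PageBd.norm_τ_le (h : PageBd E r hr N a c b d) (pq : ℕ × ℕ) :
    ‖τ ((E.page r hr).X (ι pq))‖ ≤ Mb N a c b d pq := by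
  obtain ⟨p, q⟩ := pq
  unfold Mb
  by_cases hq : q ≤ N
  · simp only [if_pos hq]
    refine (TrMod.norm_τ_le (h.fd _) (a q * c p) (h.eig p q)).trans ?_
    have h1 : (dm ((E.page r hr).X (ι (p, q))) : ℝ) ≤ (b q : ℝ) * (d p : ℝ) := by
      exact_mod_cast h.dim p q
    calc (dm ((E.page r hr).X (ι (p, q))) : ℝ) * (a q * c p)
        ≤ ((b q : ℝ) * (d p : ℝ)) * (a q * c p) :=
          mul_le_mul_of_nonneg_right h1 (mul_nonneg (ha q) (hc p))
      _ = c p * (d p : ℝ) * (a q * (b q : ℝ)) := by ring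
  · simp only [if_neg hq, mul_zero]
    have : τ ((E.page r hr).X (ι (p, q))) = 0 := τ_of_isZero (h.van p q (not_le.1 hq))
    rw [this, norm_zero]

include ha hc in
lemma PageBd.norm_cb_le (h : PageBd E r hr N a c b d) (pq : ℕ × ℕ) :
    ‖cb E r hr (ι pq)‖ ≤ Mb N a c b d pq := by
  obtain ⟨p, q⟩ := pq
  unfold Mb
  by_cases hq : q ≤ N
  · simp only [if_pos hq]
    refine (TrPage.norm_cb_le E r hr h.fd _ (a q * c p) (h.eig p q)
      (mul_nonneg (ha q) (hc p))).trans ?_
    have h1 : (dm ((E.page r hr).X (ι (p, q))) : ℝ) ≤ (b q : ℝ) * (d p : ℝ) := by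
      exact_mod_cast h.dim p q
    calc (dm ((E.page r hr).X (ι (p, q))) : ℝ) * (a q * c p)
        ≤ ((b q : ℝ) * (d p : ℝ)) * (a q * c p) :=
          mul_le_mul_of_nonneg_right h1 (mul_nonneg (ha q) (hc p))
      _ = c p * (d p : ℝ) * (a q * (b q : ℝ)) := by ring
  · simp only [if_neg hq, mul_zero]
    have : cb E r hr (ι (p, q)) = 0 := cb_eq_zero_of_src E r hr _ (h.van p q (not_le.1 hq))
    rw [this, norm_zero]

variable (hsum : Summable fun p : ℕ => c p * (d p : ℝ))

include ha hc hsum in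
/-- summability of the signed traces on a page -/
lemma PageBd.summable_τ (h : PageBd E r hr N a c b d) :
    Summable (fun pq : ℤ × ℤ => sg pq * τ ((E.page r hr).X pq)) := by
  rw [← Function.Injective.summable_iff ι_injective (fun pq hpq => by
    rw [τ_of_isZero (h.quad pq (neg_of_not_mem_range pq hpq)), mul_zero])]
  refine (summable_Mb N a c b d ha hc hsum).of_norm_bounded (fun pq => ?_)
  rw [Function.comp_apply, norm_mul, norm_sg, one_mul]
  exact h.norm_τ_le ha hc pq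

include ha hc hsum in
lemma PageBd.summable_cb (h : PageBd E r hr N a c b d) :
    Summable (fun pq : ℤ × ℤ => sg pq * cb E r hr pq) := by
  rw [← Function.Injective.summable_iff ι_injective (fun pq hpq => by
    rw [cb_eq_zero_of_src E r hr pq (h.quad pq (neg_of_not_mem_range pq hpq)), mul_zero])]
  refine (summable_Mb N a c b d ha hc hsum).of_norm_bounded (fun pq => ?_)
  rw [Function.comp_apply, norm_mul, norm_sg, one_mul]
  exact h.norm_cb_le ha hc pq

include ha hc hsum in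
/-- the alternating sum of traces does not change from a page to the next -/
theorem PageBd.tsum_next (h : PageBd E r hr N a c b d) :
    ∑' pq : ℤ × ℤ, sg pq * τ ((E.page (r + 1) (Int.le_add_one hr)).X pq) =
      ∑' pq : ℤ × ℤ, sg pq * τ ((E.page r hr).X pq) := by
  refine (shift_sum _ _ (fun pq => sg pq * cb E r hr pq) (r, 1 - r) (fun pq => ?_)
    (h.summable_τ ha hc hsum) (h.summable_cb ha hc hsum)).2
  rw [τ_next E r hr h.fd pq, sg_sub]
  ring

/-- the sum over the first quadrant -/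
lemma PageBd.tsum_nat (h : PageBd E r hr N a c b d) :
    ∑' pq : ℕ × ℕ, (-1 : ℂ) ^ (pq.1 + pq.2) * τ ((E.page r hr).X ((pq.1 : ℤ), (pq.2 : ℤ))) =
      ∑' pq : ℤ × ℤ, sg pq * τ ((E.page r hr).X pq) := by
  rw [← Function.Injective.tsum_eq ι_injective (f := fun pq => sg pq * τ ((E.page r hr).X pq))]
  · refine tsum_congr (fun pq => ?_)
    rw [sg_ι]
    rfl
  · intro pq hpq
    by_contra hc'
    apply hpq
    show sg pq * τ ((E.page r hr).X pq) = 0
    rw [τ_of_isZero (h.quad pq (neg_of_not_mem_range pq hc')), mul_zero]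

end page

end TrSum

end Groth.Agent.Lib.helper27
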