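import Mathlib
import Groth.Prelude.Def_SpSeq
import Groth.Prelude.Def_W4c1gvcharpAbut
import Groth.Agent.Lib.Helper27.TrSum
import Groth.Agent.Lib.Helper27.TrFil

/-!
# The alternating sum of traces on the abutment of a spectral sequence of `ℂ[X]`-modules (helper27)
-/

set_option autoImplicit false
set_option linter.style.haveILetI false

namespace Groth.Agent.Lib.helper27

namespace TrAbut

open CategoryTheory CategoryTheory.Limits TrMod TrHom TrPage TrSum Filter Topology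

universe u

section analysis

variable {α : Type*} [NormedAddCommGroup α] [CompleteSpace α]

/-- summation along antidiagonals -/
lemma tsum_antidiagonal (G : ℕ × ℕ → α) (hG : Summable G) :
    Summable (fun n => ∑ kl ∈ Finset.HasAntidiagonal.antidiagonal n, G kl) ∧
      ∑' n, ∑ kl ∈ Finset.HasAntidiagonal.antidiagonal n, G kl = ∑' pq, G pq := by
  have h : Summable (G ∘ (Finset.HasAntidiagonal.sigmaAntidiagonalEquivProd (A := ℕ))) :=
    (Finset.HasAntidiagonal.sigmaAntidiagonalEquivProd (A := ℕ)).summable_iff.2 hG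
  constructor
  · conv => congr; ext; rw [← Finset.sum_finset_coe, ← tsum_fintype (L := .unconditional _)]
    exact h.sigma' fun n => (hasSum_fintype _).summable
  · conv_lhs => congr; ext; rw [← Finset.sum_finset_coe, ← tsum_fintype (L := .unconditional _)]
    rw [← (Finset.HasAntidiagonal.sigmaAntidiagonalEquivProd (A := ℕ)).tsum_eq G]
    exact (h.tsum_sigma' fun n => (hasSum_fintype _).summable).symm

end analysis

variable (E : E₂CohomologicalSpectralSequence (ModuleCat.{u} (Polynomial ℂ)))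

lemma two_le (k : ℕ) : (2 : ℤ) ≤ 2 + k := le_add_of_nonneg_right (Int.natCast_nonneg k)

variable {E} in
lemma PageBd.congr {r r' : ℤ} (h : r = r') (hr : (2 : ℤ) ≤ r) (hr' : (2 : ℤ) ≤ r')
    {N : ℕ} {a c : ℕ → ℝ} {b d : ℕ → ℕ}
    (hb : PageBd E r hr N a c b d) : PageBd E r' hr' N a c b d := by
  subst h; exact hb

variable {N : ℕ} {a c : ℕ → ℝ} {b d : ℕ → ℕ} (hb : PageBd E 2 le_rfl N a c b d)

include hb

lemma pageBd_all (k : ℕ) : PageBd E (2 + k) (two_le k) N a c b d := by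
  induction k with
  | zero => exact PageBd.congr (by simp) _ _ hb
  | succ k ih => exact PageBd.congr (by push_cast; ring) _ _ ih.next

variable (ha : ∀ q, 0 ≤ a q) (hc : ∀ p, 0 ≤ c p) (hsum : Summable fun p : ℕ => c p * (d p : ℝ))

include ha hc hsum in
lemma tsum_all (k : ℕ) :
    ∑' pq : ℤ × ℤ, sg pq * τ ((E.page (2 + k) (two_le k)).X pq) =
      ∑' pq : ℤ × ℤ, sg pq * τ ((E.page 2 le_rfl).X pq) := by
  induction k with
  | zero =>
    have : ∀ (r : ℤ) (hr : (2 : ℤ) ≤ r), r = 2 →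
        ∑' pq : ℤ × ℤ, sg pq * τ ((E.page r hr).X pq) =
          ∑' pq : ℤ × ℤ, sg pq * τ ((E.page 2 le_rfl).X pq) := by
      intro r hr h; subst h; rfl
    exact this _ _ (by simp)
  | succ k ih =>
    have h1 := (pageBd_all E hb k).tsum_next ha hc hsum
    have : ∀ (r : ℤ) (hr : (2 : ℤ) ≤ r), r = 2 + (k : ℤ) + 1 →
        ∑' pq : ℤ × ℤ, sg pq * τ ((E.page r hr).X pq) =
          ∑' pq : ℤ × ℤ, sg pq * τ ((E.page (2 + (k : ℤ) + 1) (Int.le_add_one (two_le k))).X pq) := by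
      intro r hr h; subst h; rfl
    rw [this _ _ (by push_cast; ring), h1, ih]

variable {H : ℤ → ModuleCat.{u} (Polynomial ℂ)} (abut : SpSeq.Abutment E H)

omit hb in
lemma two_le_rk (pq : ℤ × ℤ) : (2 : ℤ) ≤ abut.rk pq := (abut.stat pq).1

/-- the limit term -/
noncomputable abbrev Einf (pq : ℤ × ℤ) : ModuleCat.{u} (Polynomial ℂ) :=
  (E.page (abut.rk pq) (abut.stat pq).1).X pq

omit hb in
/-- the pages beyond `rk pq` agree with the limit term at `pq` -/
lemma isoInf (pq : ℤ × ℤ) (k : ℕ) (hk : abut.rk pq ≤ 2 + k) :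
    Nonempty ((E.page (2 + k) (two_le k)).X pq ≅ Einf E abut pq) := by
  have h : (2 : ℤ) + k = abut.rk pq + (((2 : ℤ) + k - abut.rk pq).toNat : ℤ) := by
    rw [Int.toNat_of_nonneg (by omega)]; ring
  exact ⟨E.pageXIsoOfEq pq (2 + k) _ h (two_le k) ≪≫
    SpSeqMor.statXIso E pq (abut.rk pq) (abut.stat pq) ((2 : ℤ) + k - abut.rk pq).toNat⟩

/-- a page index beyond `rk pq` -/
noncomputable def k₀ (pq : ℤ × ℤ) : ℕ := (abut.rk pq - 2).toNat

omit hb in
lemma rk_le (pq : ℤ × ℤ) (k : ℕ) (hk : k₀ E abut pq ≤ k) : abut.rk pq ≤ 2 + k := by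
  have := two_le_rk E abut pq
  unfold k₀ at hk
  omega

lemma fd_Einf (pq : ℤ × ℤ) : Fd (Einf E abut pq) := by
  obtain ⟨e⟩ := isoInf E abut pq (k₀ E abut pq) (rk_le E abut pq _ le_rfl)
  exact Fd.of_iso e ((pageBd_all E hb _).fd pq)

lemma isZero_Einf (pq : ℤ × ℤ) (h : pq.1 < 0 ∨ pq.2 < 0) : IsZero (Einf E abut pq) := by
  obtain ⟨e⟩ := isoInf E abut pq (k₀ E abut pq) (rk_le E abut pq _ le_rfl)
  exact IsZero.of_iso ((pageBd_all E hb _).quad pq h) e.symm

lemma τ_Einf (pq : ℤ × ℤ) (k : ℕ) (hk : k₀ E abut pq ≤ k) :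
    τ ((E.page (2 + k) (two_le k)).X pq) = τ (Einf E abut pq) := by
  obtain ⟨e⟩ := isoInf E abut pq k (rk_le E abut pq k hk)
  exact τ_iso e ((pageBd_all E hb k).fd pq)

include ha hc in
lemma norm_τ_Einf_le (pq : ℕ × ℕ) : ‖τ (Einf E abut (ι pq))‖ ≤ Mb N a c b d pq := by
  rw [← τ_Einf E hb abut (ι pq) _ le_rfl]
  exact (pageBd_all E hb _).norm_τ_le ha hc pq

/-- the signed trace of the limit terms -/
noncomputable def G (pq : ℕ × ℕ) : ℂ := (-1 : ℂ) ^ (pq.1 + pq.2) * τ (Einf E abut (ι pq))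

include ha hc in
lemma norm_G_le (pq : ℕ × ℕ) : ‖G E abut pq‖ ≤ Mb N a c b d pq := by
  unfold G
  rw [norm_mul, norm_pow, norm_neg, norm_one, one_pow, one_mul]
  exact norm_τ_Einf_le E hb ha hc abut pq

include ha hc hsum in
lemma summable_norm_G : Summable (fun pq => ‖G E abut pq‖) :=
  Summable.of_nonneg_of_le (fun _ => norm_nonneg _) (norm_G_le E hb ha hc abut)
    (summable_Mb N a c b d ha hc hsum)

include ha hc hsum in
/-- the sum of the signed traces of the limit terms is the sum over the second page -/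
theorem tsum_G :
    ∑' pq, G E abut pq =
      ∑' pq : ℕ × ℕ, (-1 : ℂ) ^ (pq.1 + pq.2) *
        τ ((E.page 2 le_rfl).X ((pq.1 : ℤ), (pq.2 : ℤ))) := by
  have hlim : Tendsto (fun k : ℕ => ∑' pq : ℕ × ℕ, (-1 : ℂ) ^ (pq.1 + pq.2) *
      τ ((E.page (2 + k) (two_le k)).X (ι pq))) atTop (𝓝 (∑' pq, G E abut pq)) := by
    refine tendsto_tsum_of_dominated_convergence (bound := Mb N a c b d)
      (summable_Mb N a c b d ha hc hsum) (fun pq => ?_) (Eventually.of_forall fun k pq => ?_)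
    · refine tendsto_const_nhds.congr' ?_
      filter_upwards [eventually_ge_atTop (k₀ E abut (ι pq))] with k hk
      unfold G
      rw [τ_Einf E hb abut (ι pq) k hk]
    · rw [norm_mul, norm_pow, norm_neg, norm_one, one_pow, one_mul]
      exact (pageBd_all E hb k).norm_τ_le ha hc pq
  have hconst : ∀ k : ℕ, ∑' pq : ℕ × ℕ, (-1 : ℂ) ^ (pq.1 + pq.2) *
      τ ((E.page (2 + k) (two_le k)).X (ι pq)) =
      ∑' pq : ℕ × ℕ, (-1 : ℂ) ^ (pq.1 + pq.2) *
        τ ((E.page 2 le_rfl).X ((pq.1 : ℤ), (pq.2 : ℤ))) := by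
    intro k
    have e1 := (pageBd_all E hb k).tsum_nat
    have e2 := hb.tsum_nat
    exact e1.trans ((tsum_all E hb ha hc hsum k).trans e2.symm)
  have hlim2 : Tendsto (fun k : ℕ => ∑' pq : ℕ × ℕ, (-1 : ℂ) ^ (pq.1 + pq.2) *
      τ ((E.page (2 + k) (two_le k)).X (ι pq))) atTop
      (𝓝 (∑' pq : ℕ × ℕ, (-1 : ℂ) ^ (pq.1 + pq.2) *
        τ ((E.page 2 le_rfl).X ((pq.1 : ℤ), (pq.2 : ℤ))))) := by
    simp only [hconst]
    exact tendsto_const_nhds
  exact tendsto_nhds_unique hlim hlim2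

end TrAbut

end Groth.Agent.Lib.helper27
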