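import Mathlib
import Groth.Prelude.Def_SpSeq
import Groth.Agent.Lib.Helper27.TrAbut

/-!
# The trace formula for a spectral sequence of `ℂ[X]`-modules with abutment (helper27)
-/

set_option autoImplicit false
set_option linter.style.haveILetI false

namespace Groth.Agent.Lib.helper27

namespace TrMain

open CategoryTheory CategoryTheory.Limits TrMod TrHom TrPage TrSum TrAbut Filter Topology

universe u

variable (E : E₂CohomologicalSpectralSequence (ModuleCat.{u} (Polynomial ℂ)))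
  {H : ℤ → ModuleCat.{u} (Polynomial ℂ)} (abut : SpSeq.Abutment E H)

/-- the graded pieces of the abutment are the limit terms -/
lemma grIso (n p : ℤ) : Nonempty ((abut.filObj n).gr p ≅ Einf E abut (p, n - p)) := by
  have aux : ∀ (m : ℤ), m = n → Nonempty (SpSeq.grPiece (abut.fil m) (abut.anti m) p ≅
      SpSeq.grPiece (abut.fil n) (abut.anti n) p) := by
    intro m hm; subst hm; exact ⟨Iso.refl _⟩
  obtain ⟨e⟩ := aux ((p, n - p).1 + (p, n - p).2) (by show p + (n - p) = n; ring)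
  exact ⟨(abut.β (p, n - p) ≪≫ e).symm⟩

variable {N : ℕ} {a c : ℕ → ℝ} {b d : ℕ → ℕ} (hb : PageBd E 2 le_rfl N a c b d)
  (hfin : ∀ n, abut.IsFinite n)

include hb hfin

/-- the trace on the abutment in degree `n` -/
theorem fd_τ_H (n : ℕ) : Fd (H n) ∧
    τ (H n) = ∑ kl ∈ Finset.HasAntidiagonal.antidiagonal n, τ (Einf E abut (ι kl)) := by
  have hfd : ∀ p : ℤ, Fd ((abut.filObj n).gr p) := fun p => by
    obtain ⟨e⟩ := grIso E abut n p
    exact Fd.of_iso e.symm (fd_Einf E hb abut _)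
  have hs : ∀ p ∉ (Finset.range (n + 1)).map Nat.castEmbedding, IsZero ((abut.filObj n).gr p) := by
    intro p hp
    obtain ⟨e⟩ := grIso E abut n p
    refine IsZero.of_iso (isZero_Einf E hb abut _ ?_) e
    simp only [Finset.mem_map, Finset.mem_range, Nat.castEmbedding_apply, not_exists, not_and] at hp
    by_contra hc'
    simp only [not_or, not_lt, sub_nonneg] at hc'
    exact hp p.toNat (by omega) (Int.toNat_of_nonneg hc'.1)
  obtain ⟨h1, h2⟩ := TrFil.fd_τ (abut.filObj n) hfd (hfin n) _ hs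
  refine ⟨h1, ?_⟩
  have h2' : τ (H n) = ∑ p ∈ (Finset.range (n + 1)).map Nat.castEmbedding,
      τ ((abut.filObj n).gr p) := h2
  rw [h2', Finset.sum_map, Finset.Nat.sum_antidiagonal_eq_sum_range_succ_mk]
  refine Finset.sum_congr rfl (fun k hk => ?_)
  obtain ⟨e⟩ := grIso E abut n (k : ℤ)
  have hk' : k ≤ n := Nat.lt_succ_iff.1 (Finset.mem_range.1 hk)
  have : ι (k, n - k) = ((k : ℤ), (n : ℤ) - k) := by
    unfold ι
    simp only [Nat.cast_sub hk']
  rw [this]
  exact τ_iso e (hfd _)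

variable (ha : ∀ q, 0 ≤ a q) (hc : ∀ p, 0 ≤ c p) (hsum : Summable fun p : ℕ => c p * (d p : ℝ))

lemma sign_τ_H (n : ℕ) :
    (-1 : ℂ) ^ n * τ (H n) = ∑ kl ∈ Finset.HasAntidiagonal.antidiagonal n, G E abut kl := by
  rw [(fd_τ_H E abut hb hfin n).2, Finset.mul_sum]
  refine Finset.sum_congr rfl (fun kl hkl => ?_)
  unfold G
  rw [Finset.HasAntidiagonal.mem_antidiagonal.1 hkl]

include ha hc hsum in
/-- the main theorem -/
theorem main :
    Summable (fun n : ℕ => ‖τ (H n)‖) ∧
    ∑' n : ℕ, (-1 : ℂ) ^ n * τ (H n) =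
      ∑' pq : ℕ × ℕ, (-1 : ℂ) ^ (pq.1 + pq.2) *
        τ ((E.page 2 le_rfl).X ((pq.1 : ℤ), (pq.2 : ℤ))) := by
  have hnG := summable_norm_G E hb ha hc hsum abut
  have hG : Summable (G E abut) := hnG.of_norm
  constructor
  · obtain ⟨h1, -⟩ := tsum_antidiagonal (fun pq => ‖G E abut pq‖) hnG
    refine Summable.of_nonneg_of_le (fun _ => norm_nonneg _) (fun n => ?_) h1
    have : ‖τ (H n)‖ = ‖(-1 : ℂ) ^ n * τ (H n)‖ := by
      rw [norm_mul, norm_pow, norm_neg, norm_one, one_pow, one_mul]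
    rw [this, sign_τ_H E abut hb hfin n]
    exact norm_sum_le _ _
  · obtain ⟨-, h2⟩ := tsum_antidiagonal (G E abut) hG
    rw [← tsum_G E hb ha hc hsum abut, ← h2]
    exact tsum_congr (fun n => sign_τ_H E abut hb hfin n)

end TrMain

end Groth.Agent.Lib.helper27
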