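import Mathlib
import Groth.Prelude.Def_FibDesc
import Groth.Agent.Lib.Helper27.CechBi
import Groth.Agent.Lib.Helper27.CechContr

set_option autoImplicit false
set_option linter.unusedSectionVars false
set_option linter.unusedVariables false
set_option linter.style.haveILetI false
set_option backward.isDefEq.respectTransparency false
set_option backward.isDefEq.respectTransparency.types false

namespace Groth.Agent.Lib.helper27

open CategoryTheory Limits Opposite
open FibDesc TopologicalSpace

universe u

namespace UcdCalc

open CechBi CechContr CechOpen

/-- cohomological descent of a map is invariant under isomorphisms of arrows -/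
theorem cd_of_arrowIso {X S X' S' : TopCat.{u}} {f : X ⟶ S} {f' : X' ⟶ S'}
    (e : Arrow.mk f ≅ Arrow.mk f') (h : IsCohDescentMap f) : IsCohDescentMap f' :=
  AugIso.isCohDescentTop_of_iso
    (AugmentedSimplexCategory.equivAugmentedSimplicialObject.inverse.mapIso
      (SimplicialObject.augmentedCechNerve.mapIso e)) h

section bc

variable {X S X' S' : TopCat.{u}} {f : X ⟶ S} {g : S' ⟶ S} {a : X' ⟶ X} {f' : X' ⟶ S'}

/-- the arrow of a base change is the arrow of the chosen pullback -/
noncomputable def arrowIso (sq : IsPullback a f' f g) :
    Arrow.mk (pullback.snd f g) ≅ Arrow.mk f' :=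
  Arrow.isoMk sq.isoPullback.symm (Iso.refl _)
    ((IsPullback.isoPullback_inv_snd sq).trans (Category.comp_id _).symm)

/-- base changes of maps universally of cohomological descent are of cohomological descent -/
theorem cd_of_isPullback (sq : IsPullback a f' f g) (hf : IsUnivCohDescentMap f) :
    IsCohDescentMap f' :=
  cd_of_arrowIso (arrowIso sq) (hf S' g)

/-- the chosen base change is of cohomological descent if some base change is -/
theorem cd_snd_of_isPullback (sq : IsPullback a f' f g) (h : IsCohDescentMap f') :
    IsCohDescentMap (pullback.snd f g) :=
  cd_of_arrowIso (arrowIso sq).symm h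

/-- base changes of maps universally of cohomological descent are universally of cohomological
descent -/
theorem ucd_of_isPullback (sq : IsPullback a f' f g) (hf : IsUnivCohDescentMap f) :
    IsUnivCohDescentMap f' := by
  intro T t
  exact cd_of_isPullback ((IsPullback.of_hasPullback f' t).paste_horiz sq) hf

end bc

section comp

variable {X Y S : TopCat.{u}} (f : X ⟶ Y) (g : Y ⟶ S)

/-- the base change of a composite is the composite of the base changes -/
theorem isPullback_comp {T : TopCat.{u}} (t : T ⟶ S) :
    IsPullback (pullback.fst f (pullback.fst g t))
      (pullback.snd f (pullback.fst g t) ≫ pullback.snd g t) (f ≫ g) t :=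
  (IsPullback.of_hasPullback f (pullback.fst g t)).paste_vert (IsPullback.of_hasPullback g t)

/-- if a composite is universally of cohomological descent, the second map is of cohomological
descent -/
theorem cd_of_comp (h : IsUnivCohDescentMap (f ≫ g)) : IsCohDescentMap g := by
  apply CechBi.isCohDescentMap_of_levels g (f ≫ g) h
  intro n
  have w : (pr (f ≫ g) n.len 0 ≫ f) ≫ g =
      𝟙 _ ≫ (augCone (f ≫ g)).app (op (WithInitial.of n)) := by
    rw [Category.id_comp, Category.assoc]
    exact pr_f (f ≫ g) n.len 0
  exact CechContr.isCohDescentMap_of_section
    (pullback.snd g ((augCone (f ≫ g)).app (op (WithInitial.of n))))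
    (pullback.lift (pr (f ≫ g) n.len 0 ≫ f) (𝟙 _) w) (pullback.lift_snd _ _ _)

/-- if a composite is universally of cohomological descent, so is the second map -/
theorem ucd_of_comp (h : IsUnivCohDescentMap (f ≫ g)) : IsUnivCohDescentMap g := by
  intro T t
  exact cd_of_comp (pullback.snd f (pullback.fst g t)) (pullback.snd g t)
    (ucd_of_isPullback (isPullback_comp f g t) h)

/-- the composite of two maps universally of cohomological descent is of cohomological descent -/
theorem cd_comp (hf : IsUnivCohDescentMap f) (hg : IsUnivCohDescentMap g) :
    IsCohDescentMap (f ≫ g) := by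
  apply CechBi.isCohDescentMap_of_levels (f ≫ g) g hg
  intro n
  have w : pullback.fst f (pr g n.len 0) ≫ f ≫ g =
      pullback.snd f (pr g n.len 0) ≫ (augCone g).app (op (WithInitial.of n)) := by
    rw [← Category.assoc, pullback.condition, Category.assoc]
    exact congrArg (fun t => pullback.snd f (pr g n.len 0) ≫ t) (pr_f g n.len 0)
  have h1 : IsUnivCohDescentMap
      (pullback.lift (pullback.fst f (pr g n.len 0)) (pullback.snd f (pr g n.len 0)) w ≫
        pullback.snd (f ≫ g) ((augCone g).app (op (WithInitial.of n)))) := by
    rw [pullback.lift_snd]
    exact ucd_of_isPullback (IsPullback.of_hasPullback f (pr g n.len 0)) hf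
  exact isCohDescentMap_of_univ _ (ucd_of_comp _ _ h1)

/-- the composite of two maps universally of cohomological descent is universally of cohomological
descent -/
theorem ucd_comp (hf : IsUnivCohDescentMap f) (hg : IsUnivCohDescentMap g) :
    IsUnivCohDescentMap (f ≫ g) := by
  intro T t
  apply cd_snd_of_isPullback (isPullback_comp f g t)
  exact cd_comp _ _
    (ucd_of_isPullback (IsPullback.of_hasPullback f (pullback.fst g t)) hf)
    (ucd_of_isPullback (IsPullback.of_hasPullback g t) hg)

end comp

end UcdCalc

end Groth.Agent.Lib.helper27
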