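import Mathlib
import Groth.Prelude.Def_W4stkalgstUpp
set_option autoImplicit false
set_option backward.isDefEq.respectTransparency false
set_option backward.isDefEq.respectTransparency.types false
set_option linter.unusedSectionVars false
set_option linter.style.haveILetI false
open CategoryTheory CategoryTheory.Functor CategoryTheory.Limits
universe v₃ u₃ v₂ u₂ v u

namespace Groth.Agent.Lib.helper27.Upp1
open Stk

variable {C : Type u} [Category.{v} C] {D : Type u₂} [Category.{v₂} D] (u : C ⥤ D)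
  (𝒮 : BasedCategory.{v₃, u₃} C)

theorem uppR_id (a : UppObj u 𝒮) : uppR u 𝒮 (𝟙 a) := by
  refine ⟨?_, ?_⟩
  · change 𝒮.p.IsStronglyCartesian (𝒮.p.map (𝟙 a.x)) (𝟙 a.x)
    infer_instance
  · change IsIso (𝟙 a.V)
    infer_instance

theorem uppR_comp {a b c : UppObj u 𝒮} (f : a ⟶ b) (g : b ⟶ c) (hf : uppR u 𝒮 f) (hg : uppR u 𝒮 g) :
    uppR u 𝒮 (f ≫ g) := by
  obtain ⟨hf1, hf2⟩ := hf
  obtain ⟨hg1, hg2⟩ := hg
  refine ⟨?_, ?_⟩
  · change 𝒮.p.IsStronglyCartesian (𝒮.p.map (f.top ≫ g.top)) (f.top ≫ g.top)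
    rw [Functor.map_comp]
    infer_instance
  · change IsIso (f.bot ≫ g.bot)
    infer_instance

instance : (uppR u 𝒮).IsMultiplicative where
  id_mem a := uppR_id u 𝒮 a
  comp_mem f g hf hg := uppR_comp u 𝒮 f g hf hg

variable [𝒮.p.IsFibered]

/-- existence of a strongly cartesian lift with abstract base -/
theorem exists_sc {x : 𝒮.obj} {P : C} (f : P ⟶ 𝒮.p.obj x) :
    ∃ (x' : 𝒮.obj) (top : x' ⟶ x), 𝒮.p.IsStronglyCartesian f top := by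
  obtain ⟨x', top, h⟩ := IsPreFibered.exists_isCartesian 𝒮.p rfl f
  exact ⟨x', top, inferInstance⟩

theorem ore_aux {X Y Y' : UppObj u 𝒮} (f : X ⟶ Y') (s : Y ⟶ Y') (hs : uppR u 𝒮 s)
    {P : C} (pr₁ : P ⟶ 𝒮.p.obj X.x) (pr₂ : P ⟶ 𝒮.p.obj Y.x)
    (comm : pr₁ ≫ 𝒮.p.map f.top = pr₂ ≫ 𝒮.p.map s.top) (ψ : X.V ⟶ u.obj P)
    (hψ₁ : ψ ≫ u.map pr₁ = X.φ) (hψ₂ : ψ ≫ u.map pr₂ = f.bot ≫ @inv _ _ _ _ s.bot hs.2 ≫ Y.φ) :
    ∃ (X' : UppObj u 𝒮) (s' : X' ⟶ X) (_ : uppR u 𝒮 s') (f' : X' ⟶ Y), s' ≫ f = f' ≫ s := by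
  obtain ⟨hs1, hs2⟩ := hs
  obtain ⟨x', top, htop⟩ := exists_sc 𝒮 pr₁
  have hd := IsHomLift.domain_eq 𝒮.p pr₁ top
  subst hd
  have e1 : 𝒮.p.map top = pr₁ := by simpa using IsHomLift.fac' 𝒮.p pr₁ top
  subst e1
  have hl : 𝒮.p.IsHomLift (pr₂ ≫ 𝒮.p.map s.top) (top ≫ f.top) := by
    rw [← comm]; infer_instance
  let top' : x' ⟶ Y.x := IsStronglyCartesian.map 𝒮.p (𝒮.p.map s.top) s.top (g := pr₂) rfl (top ≫ f.top)
  have htop' : 𝒮.p.IsHomLift pr₂ top' := IsStronglyCartesian.map_isHomLift _ _ _ _ _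
  have e2 : 𝒮.p.map top' = pr₂ := by simpa using IsHomLift.fac' 𝒮.p pr₂ top'
  have fac : top' ≫ s.top = top ≫ f.top := IsStronglyCartesian.fac _ _ _ _ _
  refine ⟨⟨x', X.V, ψ⟩, ⟨top, 𝟙 _, by simpa using hψ₁⟩, ⟨htop, by change IsIso (𝟙 X.V); infer_instance⟩,
    ⟨top', f.bot ≫ inv s.bot, by rw [e2, hψ₂]; simp⟩, ?_⟩
  apply UppObj.hom_ext
  · exact fac.symm
  · simp

theorem ext_aux {X Y Z : UppObj u 𝒮} (f₁ f₂ : X ⟶ Y) (s : Y ⟶ Z) (hs : uppR u 𝒮 s)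
    (h : f₁ ≫ s = f₂ ≫ s) {E : C} (e : E ⟶ 𝒮.p.obj X.x)
    (he : e ≫ 𝒮.p.map f₁.top = e ≫ 𝒮.p.map f₂.top) (ψ : X.V ⟶ u.obj E) (hψ : ψ ≫ u.map e = X.φ) :
    ∃ (X' : UppObj u 𝒮) (t : X' ⟶ X) (_ : uppR u 𝒮 t), t ≫ f₁ = t ≫ f₂ := by
  obtain ⟨hs1, hs2⟩ := hs
  obtain ⟨x', top, htop⟩ := exists_sc 𝒮 e
  have hd := IsHomLift.domain_eq 𝒮.p e top
  subst hd
  have e1 : 𝒮.p.map top = e := by simpa using IsHomLift.fac' 𝒮.p e top
  subst e1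
  have hbot : f₁.bot = f₂.bot := by
    have : f₁.bot ≫ s.bot = f₂.bot ≫ s.bot := congrArg UppObj.Hom.bot h
    exact (cancel_mono s.bot).1 this
  have htop2 : f₁.top ≫ s.top = f₂.top ≫ s.top := congrArg UppObj.Hom.top h
  refine ⟨⟨x', X.V, ψ⟩, ⟨top, 𝟙 _, by simpa using hψ⟩, ⟨htop, by change IsIso (𝟙 X.V); infer_instance⟩, ?_⟩
  apply UppObj.hom_ext
  · change top ≫ f₁.top = top ≫ f₂.top
    have h1 : 𝒮.p.IsHomLift (𝒮.p.map top ≫ 𝒮.p.map f₁.top) (top ≫ f₁.top) := inferInstance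
    have h2 : 𝒮.p.IsHomLift (𝒮.p.map top ≫ 𝒮.p.map f₁.top) (top ≫ f₂.top) := by
      rw [he]; infer_instance
    apply IsStronglyCartesian.ext 𝒮.p (𝒮.p.map s.top) s.top (𝒮.p.map top ≫ 𝒮.p.map f₁.top)
    rw [Category.assoc, Category.assoc, htop2]
  · change 𝟙 _ ≫ f₁.bot = 𝟙 _ ≫ f₂.bot
    rw [hbot]

theorem main
    (hC : ∀ (I : Type) [SmallCategory I] [FinCategory I], Nonempty I → HasLimitsOfShape I C)
    (hu : ∀ (I : Type) [SmallCategory I] [FinCategory I], Nonempty I → PreservesLimitsOfShape I u) :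
    (Stk.uppR u 𝒮).HasRightCalculusOfFractions := by
  haveI : HasLimitsOfShape WalkingCospan C := hC _ ⟨WalkingCospan.one⟩
  haveI : HasLimitsOfShape WalkingParallelPair C := hC _ ⟨WalkingParallelPair.zero⟩
  haveI : PreservesLimitsOfShape WalkingCospan u := hu _ ⟨WalkingCospan.one⟩
  haveI : PreservesLimitsOfShape WalkingParallelPair u := hu _ ⟨WalkingParallelPair.zero⟩
  refine { exists_rightFraction := ?_, ext := ?_ }
  · intro X Y φ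
    haveI : IsIso φ.s.bot := φ.hs.2
    have c1 : X.φ ≫ u.map (𝒮.p.map φ.f.top) = (φ.f.bot ≫ inv φ.s.bot ≫ Y.φ) ≫ u.map (𝒮.p.map φ.s.top) := by
      rw [φ.f.w, Category.assoc, Category.assoc, φ.s.w]; simp
    have hpb : IsPullback (u.map (pullback.fst (𝒮.p.map φ.f.top) (𝒮.p.map φ.s.top)))
        (u.map (pullback.snd (𝒮.p.map φ.f.top) (𝒮.p.map φ.s.top)))
        (u.map (𝒮.p.map φ.f.top)) (u.map (𝒮.p.map φ.s.top)) :=
      (IsPullback.of_hasPullback (𝒮.p.map φ.f.top) (𝒮.p.map φ.s.top)).map u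
    let ψ : X.V ⟶ u.obj (pullback (𝒮.p.map φ.f.top) (𝒮.p.map φ.s.top)) :=
      hpb.lift X.φ (φ.f.bot ≫ inv φ.s.bot ≫ Y.φ) c1
    obtain ⟨X', s', hs', f', hf'⟩ := ore_aux u 𝒮 φ.f φ.s φ.hs (pullback.fst _ _) (pullback.snd _ _)
      pullback.condition ψ
      (hpb.lift_fst _ _ _) (hpb.lift_snd _ _ _)
    exact ⟨⟨s', hs', f'⟩, hf'⟩
  · intro X Y Z f₁ f₂ s hs h
    haveI : IsIso s.bot := hs.2
    have hbot : f₁.bot = f₂.bot := by
      have : f₁.bot ≫ s.bot = f₂.bot ≫ s.bot := congrArg UppObj.Hom.bot h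
      exact (cancel_mono s.bot).1 this
    have c1 : X.φ ≫ u.map (𝒮.p.map f₁.top) = X.φ ≫ u.map (𝒮.p.map f₂.top) := by
      rw [f₁.w, f₂.w, hbot]
    have hl : IsLimit (Fork.ofι (u.map (equalizer.ι (𝒮.p.map f₁.top) (𝒮.p.map f₂.top)))
        (by rw [← u.map_comp, ← u.map_comp, equalizer.condition]) :
        Fork (u.map (𝒮.p.map f₁.top)) (u.map (𝒮.p.map f₂.top))) :=
      isLimitForkMapOfIsLimit u (equalizer.condition _ _) (equalizerIsEqualizer _ _)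
    obtain ⟨ψ, hψ⟩ := Fork.IsLimit.lift' hl X.φ c1
    exact ext_aux u 𝒮 f₁ f₂ s hs h (equalizer.ι _ _) (equalizer.condition _ _) ψ hψ

end Groth.Agent.Lib.helper27.Upp1
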