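import Mathlib
import Groth.Prelude.Def_W4stkalgstUpp
import Groth.Prelude.Def_FibCat2
import Groth.Agent.FibFiberwise
set_option autoImplicit false
set_option backward.isDefEq.respectTransparency false
set_option backward.isDefEq.respectTransparency.types false
set_option linter.unusedSectionVars false
set_option linter.style.haveILetI false
open CategoryTheory CategoryTheory.Functor CategoryTheory.Limits
universe v₃ u₃ v₂ u₂ v u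

namespace Groth.Agent.Lib.helper27.Upp2
open Stk

variable {C : Type u} [Category.{v} C] {D : Type u₂} [Category.{v₂} D] (u : C ⥤ D)
  (𝒮 : BasedCategory.{v₃, u₃} C)

/-- the structure functor of the localisation -/
noncomputable abbrev Pf : (uppR u 𝒮).Localization ⥤ D :=
  Localization.Construction.lift (UppObj.forget u 𝒮) (uppR_isInvertedBy u 𝒮)

theorem Pf_map {X Y : UppObj u 𝒮} (m : X ⟶ Y) : (Pf u 𝒮).map ((uppR u 𝒮).Q.map m) = m.bot := by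
  have := Functor.congr_hom (Localization.Construction.fac (UppObj.forget u 𝒮) (uppR_isInvertedBy u 𝒮)) m
  simpa using this

theorem Pf_map_frac {X Y : UppObj u 𝒮} (ρ : (uppR u 𝒮).RightFraction X Y) :
    (Pf u 𝒮).map (ρ.map (uppR u 𝒮).Q (Localization.inverts _ _)) =
      @inv _ _ _ _ ρ.s.bot ρ.hs.2 ≫ ρ.f.bot := by
  haveI := ρ.hs.2
  haveI : IsIso ((uppR u 𝒮).Q.map ρ.s) := Localization.inverts _ (uppR u 𝒮) _ ρ.hs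
  have h1 : ρ.map (uppR u 𝒮).Q (Localization.inverts _ _) = inv ((uppR u 𝒮).Q.map ρ.s) ≫ (uppR u 𝒮).Q.map ρ.f := rfl
  rw [h1, Functor.map_comp, Functor.map_inv]
  have e1 : (Pf u 𝒮).map ((uppR u 𝒮).Q.map ρ.f) = ρ.f.bot := Pf_map u 𝒮 _
  have e2 : inv ((Pf u 𝒮).map ((uppR u 𝒮).Q.map ρ.s)) = inv ρ.s.bot := by
    apply IsIso.inv_eq_of_hom_inv_id
    rw [Pf_map]; simp
  rw [e1, e2]

/-- base change of an object of `u_pp 𝒮` along a morphism of `D` -/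
def baseObj (Y : UppObj u 𝒮) {V : D} (g : V ⟶ Y.V) : UppObj u 𝒮 := ⟨Y.x, V, g ≫ Y.φ⟩

def baseMap (Y : UppObj u 𝒮) {V : D} (g : V ⟶ Y.V) : baseObj u 𝒮 Y g ⟶ Y :=
  ⟨𝟙 _, g, by simp [baseObj]⟩

theorem exists_obj (a : (uppR u 𝒮).Localization) : ∃ Z : UppObj u 𝒮, a = (uppR u 𝒮).Q.obj Z :=
  ⟨_, ((Localization.Construction.objEquiv (uppR u 𝒮)).apply_symm_apply a).symm⟩

variable [(uppR u 𝒮).HasRightCalculusOfFractions]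

theorem sc_baseMap (Y : UppObj u 𝒮) {V : D} (g : V ⟶ Y.V) :
    (Pf u 𝒮).IsStronglyCartesian g ((uppR u 𝒮).Q.map (baseMap u 𝒮 Y g)) := by
  haveI hl : (Pf u 𝒮).IsHomLift g ((uppR u 𝒮).Q.map (baseMap u 𝒮 Y g)) := by
    have e : (Pf u 𝒮).map ((uppR u 𝒮).Q.map (baseMap u 𝒮 Y g)) = g := Pf_map u 𝒮 _
    have := IsHomLift.map (Pf u 𝒮) ((uppR u 𝒮).Q.map (baseMap u 𝒮 Y g))
    rw [e] at this
    exact this
  refine ⟨?_⟩
  intro a' h φ' hφ'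
  obtain ⟨Z, rfl⟩ := exists_obj u 𝒮 a'
  obtain ⟨ρ, rfl⟩ := Localization.exists_rightFraction (uppR u 𝒮).Q (uppR u 𝒮) φ'
  haveI := ρ.hs.2
  have e1 : inv ρ.s.bot ≫ ρ.f.bot = h ≫ g := by
    rw [← Pf_map_frac]
    exact (IsHomLift.eq_of_isHomLift (p := Pf u 𝒮) (a := (uppR u 𝒮).Q.obj Z) (b := (uppR u 𝒮).Q.obj Y)
      (h ≫ g) _).symm
  have e2 : ρ.f.bot = ρ.s.bot ≫ h ≫ g := by rw [← e1]; simp
  let k : ρ.X' ⟶ baseObj u 𝒮 Y g := ⟨ρ.f.top, ρ.s.bot ≫ h, by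
    change ρ.X'.φ ≫ u.map (𝒮.p.map ρ.f.top) = (ρ.s.bot ≫ h) ≫ g ≫ Y.φ
    rw [ρ.f.w, e2]; simp⟩
  have hk : k ≫ baseMap u 𝒮 Y g = ρ.f := by
    apply UppObj.hom_ext
    · change ρ.f.top ≫ 𝟙 _ = ρ.f.top; simp
    · change (ρ.s.bot ≫ h) ≫ g = ρ.f.bot; rw [e2]; simp
  let χρ : (uppR u 𝒮).RightFraction Z (baseObj u 𝒮 Y g) := ⟨ρ.s, ρ.hs, k⟩
  haveI : IsIso ((uppR u 𝒮).Q.map ρ.s) := Localization.inverts _ (uppR u 𝒮) _ ρ.hs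
  refine ⟨χρ.map (uppR u 𝒮).Q (Localization.inverts _ _), ⟨?_, ?_⟩, ?_⟩
  · have e : (Pf u 𝒮).map (χρ.map (uppR u 𝒮).Q (Localization.inverts _ _)) = h := by
      rw [Pf_map_frac]; change inv ρ.s.bot ≫ ρ.s.bot ≫ h = h; simp
    have := IsHomLift.map (Pf u 𝒮) (χρ.map (uppR u 𝒮).Q (Localization.inverts _ _))
    rw [e] at this
    exact this
  · change (inv ((uppR u 𝒮).Q.map ρ.s) ≫ (uppR u 𝒮).Q.map k) ≫ (uppR u 𝒮).Q.map (baseMap u 𝒮 Y g) =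
      inv ((uppR u 𝒮).Q.map ρ.s) ≫ (uppR u 𝒮).Q.map ρ.f
    rw [Category.assoc, ← Functor.map_comp, hk]
  · rintro χ' ⟨hχ'1, hχ'2⟩
    obtain ⟨σ, rfl⟩ := Localization.exists_rightFraction (uppR u 𝒮).Q (uppR u 𝒮) χ'
    haveI := σ.hs.2
    haveI : IsIso ((uppR u 𝒮).Q.map σ.s) := Localization.inverts _ (uppR u 𝒮) _ σ.hs
    have e3 : inv σ.s.bot ≫ σ.f.bot = h := by
      rw [← Pf_map_frac]
      exact (IsHomLift.eq_of_isHomLift (p := Pf u 𝒮) (a := (uppR u 𝒮).Q.obj Z)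
        (b := (uppR u 𝒮).Q.obj (baseObj u 𝒮 Y g)) h _).symm
    have e4 : σ.f.bot = σ.s.bot ≫ h := by rw [← e3]; simp
    let σ' : (uppR u 𝒮).RightFraction Z Y := ⟨σ.s, σ.hs, σ.f ≫ baseMap u 𝒮 Y g⟩
    have e5 : σ'.map (uppR u 𝒮).Q (Localization.inverts _ _) = ρ.map (uppR u 𝒮).Q (Localization.inverts _ _) := by
      rw [← hχ'2]
      change inv ((uppR u 𝒮).Q.map σ.s) ≫ (uppR u 𝒮).Q.map (σ.f ≫ baseMap u 𝒮 Y g) =
        (inv ((uppR u 𝒮).Q.map σ.s) ≫ (uppR u 𝒮).Q.map σ.f) ≫ (uppR u 𝒮).Q.map (baseMap u 𝒮 Y g)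
      rw [Functor.map_comp, Category.assoc]
    rw [MorphismProperty.RightFraction.map_eq_iff] at e5
    obtain ⟨Z₀, t₁, t₂, hs, hf, ht⟩ := e5
    rw [MorphismProperty.RightFraction.map_eq_iff]
    refine ⟨Z₀, t₁, t₂, hs, ?_, ht⟩
    have hs' : t₁ ≫ σ.s = t₂ ≫ ρ.s := hs
    have hf' : t₁ ≫ σ.f ≫ baseMap u 𝒮 Y g = t₂ ≫ ρ.f := hf
    change t₁ ≫ σ.f = t₂ ≫ k
    apply UppObj.hom_ext
    · have := congrArg UppObj.Hom.top hf'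
      change t₁.top ≫ σ.f.top ≫ 𝟙 _ = t₂.top ≫ ρ.f.top at this
      change t₁.top ≫ σ.f.top = t₂.top ≫ ρ.f.top
      simpa using this
    · have := congrArg UppObj.Hom.bot hs'
      change t₁.bot ≫ σ.s.bot = t₂.bot ≫ ρ.s.bot at this
      change t₁.bot ≫ σ.f.bot = t₂.bot ≫ ρ.s.bot ≫ h
      rw [e4, ← Category.assoc, this, Category.assoc]

theorem isFibered : (Pf u 𝒮).IsFibered := by
  apply IsFibered.of_exists_isStronglyCartesian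
  intro a R f
  obtain ⟨Y, rfl⟩ := exists_obj u 𝒮 a
  exact ⟨_, _, sc_baseMap u 𝒮 Y f⟩

theorem isFibGrpd (h𝒮 : FibCat.IsFibGrpd 𝒮.p) : FibCat.IsFibGrpd (Pf u 𝒮) := by
  refine ⟨?_, ?_⟩
  · intro a V f
    obtain ⟨Y, rfl⟩ := exists_obj u 𝒮 a
    exact ⟨_, _, (sc_baseMap u 𝒮 Y f).toIsHomLift⟩
  · intro a b φ
    obtain ⟨Z, rfl⟩ := exists_obj u 𝒮 a
    obtain ⟨Y, rfl⟩ := exists_obj u 𝒮 b
    obtain ⟨ρ, rfl⟩ := Localization.exists_rightFraction (uppR u 𝒮).Q (uppR u 𝒮) φ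
    haveI : IsIso ((uppR u 𝒮).Q.map ρ.s) := Localization.inverts _ (uppR u 𝒮) _ ρ.hs
    let f₁ : ρ.X' ⟶ baseObj u 𝒮 Y ρ.f.bot := ⟨ρ.f.top, 𝟙 _, by
      change ρ.X'.φ ≫ u.map (𝒮.p.map ρ.f.top) = 𝟙 _ ≫ ρ.f.bot ≫ Y.φ
      rw [ρ.f.w]; simp⟩
    have hf₁ : uppR u 𝒮 f₁ := ⟨h𝒮.isStronglyCartesian _, by change IsIso (𝟙 ρ.X'.V); infer_instance⟩
    haveI : IsIso ((uppR u 𝒮).Q.map f₁) := Localization.inverts _ (uppR u 𝒮) _ hf₁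
    have hfac : f₁ ≫ baseMap u 𝒮 Y ρ.f.bot = ρ.f := by
      apply UppObj.hom_ext
      · change ρ.f.top ≫ 𝟙 _ = ρ.f.top; simp
      · change 𝟙 _ ≫ ρ.f.bot = ρ.f.bot; simp
    let ι := inv ((uppR u 𝒮).Q.map ρ.s) ≫ (uppR u 𝒮).Q.map f₁
    have e : ρ.map (uppR u 𝒮).Q (Localization.inverts _ _) = ι ≫ (uppR u 𝒮).Q.map (baseMap u 𝒮 Y ρ.f.bot) := by
      have e0 : (uppR u 𝒮).Q.map ρ.f = (uppR u 𝒮).Q.map f₁ ≫ (uppR u 𝒮).Q.map (baseMap u 𝒮 Y ρ.f.bot) := by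
        rw [← Functor.map_comp, hfac]
      change inv ((uppR u 𝒮).Q.map ρ.s) ≫ (uppR u 𝒮).Q.map ρ.f = _
      rw [e0, Category.assoc]
    rw [e]
    haveI : IsIso ι := inferInstance
    haveI h1 : (Pf u 𝒮).IsStronglyCartesian ((Pf u 𝒮).map ι) ι := IsStronglyCartesian.of_isIso _ _ _
    haveI h2 := sc_baseMap u 𝒮 Y ρ.f.bot
    have h3 : (Pf u 𝒮).IsStronglyCartesian ((Pf u 𝒮).map ι ≫ ρ.f.bot)
        (ι ≫ (uppR u 𝒮).Q.map (baseMap u 𝒮 Y ρ.f.bot)) := inferInstance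
    exact Groth.Agent.FibFiberwise.isStronglyCartesian_map_of (Pf u 𝒮) _ ((Pf u 𝒮).map ι ≫ ρ.f.bot)

end Groth.Agent.Lib.helper27.Upp2
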