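import Mathlib
import Groth.Prelude.Def_CohSite

open CategoryTheory CategoryTheory.Limits Opposite

universe u

namespace Groth.Agent.Lib.helper27.WcAB4Star

variable {C : Type u} [SmallCategory C] (J : GrothendieckTopology C)

/-- sections over `U` as a functor on abelian sheaves -/
noncomputable abbrev E (U : C) : Sheaf J AddCommGrpCat.{u} ⥤ AddCommGrpCat.{u} :=
  sheafToPresheaf J AddCommGrpCat.{u} ⋙ (evaluation Cᵒᵖ AddCommGrpCat.{u}).obj (op U)

lemma surjective_of_wc (U : C) (hU : CohSite.IsWeaklyContractible J U)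
    {A B : Sheaf J AddCommGrpCat.{u}} (ψ : A ⟶ B) [Epi ψ] :
    Function.Surjective (ψ.hom.app (op U)) := by
  have h1 : Sheaf.IsLocallySurjective ψ := (Sheaf.isLocallySurjective_iff_epi' (φ := ψ)).2 inferInstance
  have h2 : Sheaf.IsLocallySurjective ((sheafCompose J (forget AddCommGrpCat.{u})).map ψ) := by
    constructor
    intro V s
    exact Presheaf.imageSieve_mem J ψ.hom s
  have h3 : Epi ((sheafCompose J (forget AddCommGrpCat.{u})).map ψ) := inferInstance
  exact hU _ _ _ h3

instance (U : C) : PreservesLimits (E J U) := by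
  unfold E
  infer_instance

lemma epi_E_limMap (α : Type u) (U : C) (hU : CohSite.IsWeaklyContractible J U)
    {X Y : Discrete α ⥤ Sheaf J AddCommGrpCat.{u}} (f : X ⟶ Y) [Epi f] :
    Epi ((E J U).map (lim.map f)) := by
  have hf : ∀ a, Epi (f.app a) := fun a => inferInstance
  have h1 : Epi (Functor.whiskerRight f (E J U)) := by
    rw [NatTrans.epi_iff_epi_app]
    intro a
    show Epi ((f.app a).hom.app (op U))
    rw [AddCommGrpCat.epi_iff_surjective]
    exact surjective_of_wc J U hU (f.app a)
  have h2 : Epi (lim.map (Functor.whiskerRight f (E J U))) := inferInstance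
  have nat := (preservesLimitNatIso (J := Discrete α) (E J U)).hom.naturality f
  have h3 : Epi ((lim ⋙ E J U).map f ≫ (preservesLimitNatIso (J := Discrete α) (E J U)).hom.app Y) := by
    rw [nat]
    have : Epi (((Functor.whiskeringRight (Discrete α) (Sheaf J AddCommGrpCat.{u})
        AddCommGrpCat.{u}).obj (E J U) ⋙ lim).map f) := h2
    exact epi_comp _ _
  have h4 : Epi ((lim ⋙ E J U).map f) := by
    have := epi_comp ((lim ⋙ E J U).map f ≫ (preservesLimitNatIso (J := Discrete α) (E J U)).hom.app Y)
      ((preservesLimitNatIso (J := Discrete α) (E J U)).inv.app Y)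
    simpa using this
  exact h4

theorem main (B : Set C) (hB : ∀ U ∈ B, CohSite.IsWeaklyContractible J U)
    (hcov : ∀ V : C, ∃ (ι : Type u) (U : ι → C) (f : ∀ i, U i ⟶ V), (∀ i, U i ∈ B) ∧
      Sieve.ofArrows U f ∈ J V) :
    AB4Star (Sheaf J AddCommGrpCat.{u}) where
  ofShape α := by
    apply +allowSynthFailures hasExactLimitsOfShape_of_preservesEpi
    constructor
    intro P Q f hf
    have : Sheaf.IsLocallySurjective (lim.map f) := by
      constructor
      intro V s
      obtain ⟨ι, U, g, hU, hcovV⟩ := hcov V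
      refine J.superset_covering ?_ hcovV
      rintro W k ⟨Z, a, b, ⟨i⟩, rfl⟩
      have hepi := epi_E_limMap J α (U i) (hB _ (hU i)) f
      rw [AddCommGrpCat.epi_iff_surjective] at hepi
      obtain ⟨t, ht⟩ := hepi ((limit Q : Sheaf J AddCommGrpCat.{u}).obj.map (g i).op s)
      refine ⟨(limit P : Sheaf J AddCommGrpCat.{u}).obj.map a.op t, ?_⟩
      have nat := ConcreteCategory.congr_hom ((lim.map f).hom.naturality a.op) t
      simp only [ConcreteCategory.comp_apply] at nat
      refine nat.trans ?_
      have ht' : ((lim.map f).hom.app (op (U i))) t =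
          (limit Q : Sheaf J AddCommGrpCat.{u}).obj.map (g i).op s := ht
      rw [ht', op_comp, Functor.map_comp]
      rfl
    infer_instance

end Groth.Agent.Lib.helper27.WcAB4Star
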