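import Mathlib

open CategoryTheory CategoryTheory.Limits Opposite

universe u

namespace Groth.Agent.Lib.helper27.WcTfae

variable {C : Type u} [SmallCategory C] (J : GrothendieckTopology C) (U : C)

/-- index type -/
abbrev I (S : Sieve U) : Type u := Σ V : C, {f : V ⟶ U // S f}

noncomputable abbrev P (S : Sieve U) : Cᵒᵖ ⥤ Type u :=
  ∐ fun i : I U S => yoneda.obj i.1

noncomputable abbrev p (S : Sieve U) : P U S ⟶ yoneda.obj U :=
  Sigma.desc (fun i : I U S => yoneda.map i.2.1)

lemma p_locSurj (S : Sieve U) (hS : S ∈ J U) : Presheaf.IsLocallySurjective J (p U S) := by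
  constructor
  intro W x
  let x' : W ⟶ U := x
  refine J.superset_covering ?_ (J.pullback_stable x' hS)
  intro W' g hg
  let i : I U S := ⟨W', g ≫ x', hg⟩
  refine ⟨(Sigma.ι (fun i : I U S => yoneda.obj i.1) i).app (op W') (𝟙 W'), ?_⟩
  have := ConcreteCategory.congr_hom (congr_app
    (Sigma.ι_desc (fun i : I U S => yoneda.map i.2.1) i) (op W')) (𝟙 W')
  simp only [NatTrans.comp_app, ConcreteCategory.comp_apply] at this
  refine this.trans ?_
  simp [i, x']

lemma split_of_surj
    (h : ∀ (F G : Sheaf J (Type u)) (φ : F ⟶ G), Epi φ → Function.Surjective (φ.hom.app (op U)))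
    (S : Sieve U) (hS : S ∈ J U) :
    IsSplitEpi ((presheafToSheaf J (Type u)).map (p U S)) := by
  let adj := sheafificationAdjunction J (Type u)
  have h1 : Sheaf.IsLocallySurjective ((presheafToSheaf J (Type u)).map (p U S)) :=
    (Presheaf.isLocallySurjective_presheafToSheaf_map_iff (J := J) (p U S)).2 (p_locSurj J U S hS)
  have h2 : Epi ((presheafToSheaf J (Type u)).map (p U S)) := inferInstance
  let η : yoneda.obj U ⟶ ((presheafToSheaf J (Type u)).obj (yoneda.obj U)).obj :=
    adj.unit.app (yoneda.obj U)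
  obtain ⟨z, hz⟩ := h _ _ _ h2 (yonedaEquiv η)
  let zh : yoneda.obj U ⟶ ((presheafToSheaf J (Type u)).obj (P U S)).obj := yonedaEquiv.symm z
  let σ : (presheafToSheaf J (Type u)).obj (yoneda.obj U) ⟶
      (presheafToSheaf J (Type u)).obj (P U S) := (adj.homEquiv _ _).symm zh
  refine ⟨⟨σ, ?_⟩⟩
  apply (adj.homEquiv _ _).injective
  rw [Adjunction.homEquiv_naturality_right, Equiv.apply_symm_apply]
  have e1 : zh ≫ (sheafToPresheaf J (Type u)).map ((presheafToSheaf J (Type u)).map (p U S)) =
      η := by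
    apply yonedaEquiv.injective
    rw [yonedaEquiv_comp, Equiv.apply_symm_apply]
    exact hz
  rw [e1]
  show adj.unit.app (yoneda.obj U) = _
  rw [Adjunction.homEquiv_unit, CategoryTheory.Functor.map_id]
  exact (Category.comp_id _).symm

lemma surj_of_split
    (h : ∀ S : Sieve U, S ∈ J U → IsSplitEpi ((presheafToSheaf J (Type u)).map (p U S)))
    (F G : Sheaf J (Type u)) (φ : F ⟶ G) (hφ : Epi φ) :
    Function.Surjective (φ.hom.app (op U)) := by
  intro y
  let adj := sheafificationAdjunction J (Type u)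
  have hls : Sheaf.IsLocallySurjective φ := (Sheaf.isLocallySurjective_iff_epi φ).2 hφ
  let S : Sieve U := Presheaf.imageSieve φ.hom y
  have hS : S ∈ J U := Presheaf.imageSieve_mem J φ.hom y
  -- choose local lifts
  have hx : ∀ i : I U S, ∃ t : F.obj.obj (op i.1), φ.hom.app (op i.1) t = G.obj.map i.2.1.op y :=
    fun i => i.2.2
  choose x hx using hx
  let q : P U S ⟶ F.obj := Sigma.desc (fun i : I U S => yonedaEquiv.symm (x i))
  let yh : yoneda.obj U ⟶ G.obj := yonedaEquiv.symm y
  have hq : q ≫ φ.hom = p U S ≫ yh := by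
    apply Sigma.hom_ext
    intro i
    rw [Sigma.ι_desc_assoc, Sigma.ι_desc_assoc, yonedaEquiv_symm_naturality_right,
      yonedaEquiv_symm_naturality_left, hx]
  let q' : (presheafToSheaf J (Type u)).obj (P U S) ⟶ F := (adj.homEquiv _ _).symm q
  let yh' : (presheafToSheaf J (Type u)).obj (yoneda.obj U) ⟶ G := (adj.homEquiv _ _).symm yh
  have hq' : q' ≫ φ = (presheafToSheaf J (Type u)).map (p U S) ≫ yh' := by
    rw [← Adjunction.homEquiv_naturality_right_symm, ← Adjunction.homEquiv_naturality_left_symm]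
    exact congrArg _ hq
  obtain ⟨⟨σ, hσ⟩⟩ := h S hS
  let xh : yoneda.obj U ⟶ F.obj := adj.homEquiv _ _ (σ ≫ q')
  refine ⟨yonedaEquiv xh, ?_⟩
  rw [← yonedaEquiv_comp]
  have : xh ≫ φ.hom = yh := by
    have e : xh ≫ (sheafToPresheaf J (Type u)).map φ = adj.homEquiv _ _ ((σ ≫ q') ≫ φ) :=
      (Adjunction.homEquiv_naturality_right adj (σ ≫ q') φ).symm
    refine e.trans ?_
    rw [Category.assoc, hq', ← Category.assoc, hσ, Category.id_comp, Equiv.apply_symm_apply]
  rw [this, Equiv.apply_symm_apply]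

end Groth.Agent.Lib.helper27.WcTfae
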