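import Mathlib
import Groth.Prelude.Def_W4c1zetahwZeta
import Groth.Prelude.Def_SgaExt
import Groth.Agent.Lib.Helper27.Pts5
import Groth.Agent.Lib.Helper27.Frob4

/-!
# Helper library (helper27): finiteness of the set of closed points of given degree of a scheme of
finite type over a finite field; closed points and degrees under immersions.
-/

set_option autoImplicit false
set_option linter.style.haveILetI false
set_option linter.unusedSectionVars false
universe u
open AlgebraicGeometry CategoryTheory Opposite TopologicalSpace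

namespace Groth.Agent.Lib.helper27.ZetaAdd1

open Groth.Agent.Lib.helper27.Frob1 Groth.Agent.Lib.helper27.Pts1 Groth.Agent.Lib.helper27.Pts2
  Groth.Agent.Lib.helper27.Pts3 Groth.Agent.Lib.helper27.Pts4 Groth.Agent.Lib.helper27.Pts5

/-- a finite field has finite extensions of every positive degree (in the same universe). -/
theorem exists_finite_ext (k₀ : Type u) [Field k₀] [Finite k₀] (e : ℕ) (he : 1 ≤ e) :
    ∃ (k' : Type u) (_ : Field k') (_ : Algebra k₀ k') (_ : Finite k'),
      Module.finrank k₀ k' = e := by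
  obtain ⟨p, e₀, hp, hchar, hq⟩ := Frob4.exists_char k₀
  haveI := hchar
  haveI := Fact.mk hp
  let k := AlgebraicClosure k₀
  haveI : CharP k p := charP_of_injective_algebraMap (algebraMap k₀ k).injective p
  haveI : ExpChar k p := ExpChar.prime hp
  have he₀ : 1 ≤ e₀ := by
    by_contra h0
    have he0 : e₀ = 0 := by omega
    rw [he0, pow_zero] at hq
    haveI := Fintype.ofFinite k₀
    have := Fintype.one_lt_card (α := k₀)
    rw [Nat.card_eq_fintype_card] at hq
    omega
  let ψ : k →+* k := iterateFrobenius k p (e₀ * e)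
  have hψ : ∀ y : k, ψ y = y ^ (p ^ (e₀ * e)) := fun y => rfl
  have hm : Nat.card k₀ ^ e = p ^ (e₀ * e) := by rw [hq, pow_mul]
  have hψ₀ : ∀ a : k₀, ψ (algebraMap k₀ k a) = algebraMap k₀ k a := by
    intro a
    haveI := Fintype.ofFinite k₀
    rw [hψ, ← hm, ← map_pow, Nat.card_eq_fintype_card, FiniteField.pow_card_pow]
  have hN : 1 ≤ e₀ * e := Nat.mul_pos he₀ he
  exact ⟨fixedField k₀ k ψ hψ₀, inferInstance, inferInstance,
    finite_fixedField k₀ k ψ hψ₀ p (e₀ * e) hp hN hψ,
    finrank_fixedField k₀ k ψ hψ₀ p (e₀ * e) hp hN hψ e hm⟩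

section finite

variable {k₀ : Type u} [Field k₀] [Finite k₀] {X : Scheme.{u}} (f : X ⟶ Spec (CommRingCat.of k₀))
  [LocallyOfFiniteType f] [QuasiCompact f]

theorem finite_deg (e : ℕ) (he : 1 ≤ e) : {x : X | EGA4loc.residueDegree f x = e}.Finite := by
  obtain ⟨k', _, _, _, hk'⟩ := exists_finite_ext k₀ e he
  refine (finite_support f k').subset ?_
  intro x hx
  rw [Set.mem_ofPred_eq] at hx ⊢
  rw [nonempty_emb_iff, hx, hk']

theorem degCount_eq_ncard (e : ℕ) (he : 1 ≤ e) :
    Zeta.degCount f e = {x : X | EGA4loc.residueDegree f x = e}.ncard := by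
  unfold Zeta.degCount
  rw [Set.ncard_eq_toFinset_card _ (finite_deg f e he), ← Nat.card_eq_finsetCard]
  refine Nat.card_congr (Equiv.subtypeEquivRight (fun x => ?_))
  rw [Set.Finite.mem_toFinset, Set.mem_ofPred_eq]
  constructor
  · exact fun h => h.2
  · intro h
    exact ⟨isClosed_of_residueDegree_pos f x (by omega), h⟩

end finite

section immersion

variable {k₀ : Type u} [Field k₀] {X Y : Scheme.{u}} (f : X ⟶ Spec (CommRingCat.of k₀))
  (g : Y ⟶ X)

theorem cmap_comp (y : Y) : cmap (g ≫ f) y = cmap f (g y) ≫ g.residueFieldMap y := by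
  apply Spec.map_injective
  rw [Spec_map_cmap, Spec.map_comp, Spec_map_cmap, ← Category.assoc, ← Category.assoc,
    Scheme.Hom.SpecMap_residueFieldMap_fromSpecResidueField]

theorem residueFieldMap_bijective_of_surjectiveOnStalks [SurjectiveOnStalks g] (y : Y) :
    Function.Bijective (g.residueFieldMap y).hom := by
  refine ⟨(g.residueFieldMap y).hom.injective, ?_⟩
  intro z
  obtain ⟨a, rfl⟩ := Y.residue_surjective y z
  obtain ⟨b, rfl⟩ := g.stalkMap_surjective y a
  refine ⟨(X.residue (g y)).hom b, ?_⟩
  have := congrArg (fun φ => φ.hom b) (Scheme.residue_residueFieldMap g y)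
  exact this

theorem residueDegree_comp_of_surjectiveOnStalks [SurjectiveOnStalks g] (y : Y) :
    EGA4loc.residueDegree (g ≫ f) y = EGA4loc.residueDegree f (g y) := by
  rw [residueDegree_eq, residueDegree_eq]
  have h : (cmap (g ≫ f) y).hom = (g.residueFieldMap y).hom.comp (cmap f (g y)).hom := by
    rw [cmap_comp]
    rfl
  rw [h, rdeg_comp _ _ (RingHom.injective _),
    rdeg_of_bijective _ (residueFieldMap_bijective_of_surjectiveOnStalks g y), mul_one]

end immersion

end Groth.Agent.Lib.helper27.ZetaAdd1
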