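import Mathlib
import Groth.Prelude.Def_W4c1zetahwZeta
import Groth.Agent.Lib.Helper27.ZetaAdd1
import Groth.Agent.Lib.Helper11.ExpLog

/-!
# Helper library (helper27): multiplicativity of the zeta function along a finite partition of the
closed points by immersions.
-/

set_option autoImplicit false
set_option linter.style.haveILetI false
set_option linter.unusedSectionVars false
universe u
open AlgebraicGeometry CategoryTheory Opposite TopologicalSpace

namespace Groth.Agent.Lib.helper27.ZetaAdd2

open Groth.Agent.Lib.helper27.ZetaAdd1 Groth.Agent.Lib.helper11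

section general

variable {k₀ : Type u} [Field k₀] {X : Scheme.{u}} (f : X ⟶ Spec (CommRingCat.of k₀))

theorem constantCoeff_logZeta : PowerSeries.constantCoeff (Zeta.logZeta f) = 0 := by
  unfold Zeta.logZeta
  rw [← PowerSeries.coeff_zero_eq_constantCoeff_apply, PowerSeries.coeff_mk, Nat.cast_zero,
    div_zero]

theorem zetaFun_eq_E : Zeta.zetaFun f = E (Zeta.logZeta f) := rfl

/-- if the numbers of closed points of each positive degree add up, the zeta functions multiply. -/
theorem zetaFun_eq_prod_of_degCount {ι : Type*} [Fintype ι] {Y : ι → Scheme.{u}}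
    (h : ∀ i, Y i ⟶ Spec (CommRingCat.of k₀))
    (hdeg : ∀ e, 1 ≤ e → Zeta.degCount f e = ∑ i, Zeta.degCount (h i) e) :
    Zeta.zetaFun f = ∏ i, Zeta.zetaFun (h i) := by
  have hN : ∀ m, Zeta.nPts f m = ∑ i, Zeta.nPts (h i) m := by
    intro m
    unfold Zeta.nPts
    rw [Finset.sum_comm]
    refine Finset.sum_congr rfl (fun e he => ?_)
    rw [hdeg e (Nat.pos_of_mem_divisors he), Finset.mul_sum]
  have hL : Zeta.logZeta f = ∑ i, Zeta.logZeta (h i) := by
    ext m
    rw [map_sum]
    unfold Zeta.logZeta
    simp only [PowerSeries.coeff_mk]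
    rw [hN m, Nat.cast_sum, Finset.sum_div]
  simp only [zetaFun_eq_E]
  rw [hL]
  exact E_sum _ _ (fun i _ => constantCoeff_logZeta (h i))

end general

section partition

variable {k₀ : Type u} [Field k₀] [Finite k₀] {X : Scheme.{u}} (f : X ⟶ Spec (CommRingCat.of k₀))
  [LocallyOfFiniteType f] [QuasiCompact f]
  {ι : Type*} [Fintype ι] (Y : ι → Scheme.{u}) (g : ∀ i, Y i ⟶ X) [∀ i, IsImmersion (g i)]
  (hpart : ∀ x : X, IsClosed ({x} : Set X) → ∃! i, x ∈ Set.range (g i).base)

include hpart in
theorem degCount_partition (e : ℕ) (he : 1 ≤ e) :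
    Zeta.degCount f e = ∑ i, Zeta.degCount (g i ≫ f) e := by
  classical
  haveI : JacobsonSpace X := LocallyOfFiniteType.jacobsonSpace f
  let A : Type u := {x : X // IsClosed ({x} : Set X) ∧ EGA4loc.residueDegree f x = e}
  let B : ι → Type u := fun i =>
    {y : Y i // IsClosed ({y} : Set (Y i)) ∧ EGA4loc.residueDegree (g i ≫ f) y = e}
  have hA : Finite A := by
    have hfin := finite_deg f e he
    exact (hfin.subset (fun x hx => hx.2)).to_subtype
  have hcl : ∀ i (y : Y i), IsClosed ({y} : Set (Y i)) → IsClosed ({(g i) y} : Set X) :=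
    fun i y hy => (g i).closePoints_subset_preimage_closedPoints hy
  have hinj : ∀ i, Function.Injective (g i) := fun i => (g i).isEmbedding.injective
  let F : (Σ i, B i) → A := fun s => ⟨(g s.1) s.2.1, hcl s.1 s.2.1 s.2.2.1, by
    rw [← residueDegree_comp_of_surjectiveOnStalks f (g s.1) s.2.1]
    exact s.2.2.2⟩
  have hF : Function.Bijective F := by
    constructor
    · rintro ⟨i, y, hy⟩ ⟨j, y', hy'⟩ hyy'
      have h1 : (g i) y = (g j) y' := congrArg Subtype.val hyy'
      have hij : i = j := by
        obtain ⟨i₀, -, huniq⟩ := hpart ((g i) y) (hcl i y hy.1)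
        rw [huniq i ⟨y, rfl⟩, huniq j ⟨y', h1.symm⟩]
      subst hij
      have : y = y' := hinj i h1
      subst this
      rfl
    · rintro ⟨x, hx, hdx⟩
      obtain ⟨i, ⟨y, rfl⟩, -⟩ := hpart x hx
      refine ⟨⟨i, y, ?_, ?_⟩, rfl⟩
      · have : ({y} : Set (Y i)) = (g i) ⁻¹' {(g i) y} := by
          ext z
          simp only [Set.mem_singleton_iff, Set.mem_preimage]
          exact ⟨fun h => h ▸ rfl, fun h => hinj i h⟩
        rw [this]
        exact hx.preimage (g i).continuous
      · rw [residueDegree_comp_of_surjectiveOnStalks f (g i) y]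
        exact hdx
  haveI : Finite (Σ i, B i) := Finite.of_injective F hF.1
  haveI : ∀ i, Finite (B i) := fun i =>
    Finite.of_injective (fun b : B i => (⟨i, b⟩ : Σ i, B i)) (fun _ _ h => by
      simpa using h)
  have h1 : Zeta.degCount f e = Nat.card A := rfl
  have h2 : ∀ i, Zeta.degCount (g i ≫ f) e = Nat.card (B i) := fun i => rfl
  rw [h1, Finset.sum_congr rfl (fun i _ => h2 i), ← Nat.card_sigma]
  exact (Nat.card_congr (Equiv.ofBijective F hF)).symm

include hpart in
theorem zetaFun_partition : Zeta.zetaFun f = ∏ i, Zeta.zetaFun (g i ≫ f) :=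
  zetaFun_eq_prod_of_degCount f (fun i => g i ≫ f) (degCount_partition f Y g hpart)

end partition

end Groth.Agent.Lib.helper27.ZetaAdd2
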