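import Mathlib
import Groth.Prelude.Def_W4c1zetahwZeta
import Groth.Prelude.Def_SgaExt
import Groth.Agent.Lib.Helper27.ZetaAdd2

/-!
# Helper library (helper27): the zeta function of the affine line over a scheme of finite type over
a finite field.
-/

set_option autoImplicit false
set_option linter.style.haveILetI false
set_option linter.unusedSectionVars false
universe u
open AlgebraicGeometry CategoryTheory Opposite TopologicalSpace

namespace Groth.Agent.Lib.helper27.ZetaAdd3

open Groth.Agent.Lib.helper27.ZetaAdd1 Groth.Agent.Lib.helper27.ZetaAdd2 Groth.Agent.Lib.helper11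
  Groth.Agent.Lib.helper27.Pts1

section ps

theorem rescale_E (a : ℚ) (L : PowerSeries ℚ) (hL : PowerSeries.constantCoeff L = 0) :
    PowerSeries.rescale a (E L) = E (PowerSeries.rescale a L) := by
  have hsub : PowerSeries.HasSubst L := PowerSeries.HasSubst.of_constantCoeff_zero' hL
  have hX : PowerSeries.HasSubst (a • PowerSeries.X : PowerSeries ℚ) :=
    PowerSeries.HasSubst.of_constantCoeff_zero' (by simp)
  unfold E
  rw [PowerSeries.rescale_eq_subst, PowerSeries.subst_comp_subst_apply hsub hX,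
    ← PowerSeries.rescale_eq_subst]

/-- if `N'_m = a^m N_m` for all `m`, the zeta functions are related by `t ↦ a t`. -/
theorem zetaFun_eq_rescale {k₀ : Type u} [Field k₀] {X Y : Scheme.{u}}
    (f : X ⟶ Spec (CommRingCat.of k₀)) (h : Y ⟶ Spec (CommRingCat.of k₀)) (a : ℕ)
    (hN : ∀ m, Zeta.nPts h m = a ^ m * Zeta.nPts f m) :
    Zeta.zetaFun h = PowerSeries.rescale (a : ℚ) (Zeta.zetaFun f) := by
  rw [zetaFun_eq_E, zetaFun_eq_E, rescale_E _ _ (constantCoeff_logZeta f)]
  congr 1
  ext m
  rw [PowerSeries.coeff_rescale]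
  unfold Zeta.logZeta
  rw [PowerSeries.coeff_mk, PowerSeries.coeff_mk, hN m]
  push_cast
  ring

end ps

section line

variable {k₀ : Type u} [Field k₀] {X : Scheme.{u}} (f : X ⟶ Spec (CommRingCat.of k₀))
  (L : Type u) [Field L] [Algebra k₀ L]

/-- points of the affine line over `X` are pairs of a point of `X` and a scalar. -/
noncomputable def ptsLineEquiv :
    Pts ((𝔸(PUnit.{u + 1}; X) ↘ X) ≫ f) L ≃
      Pts f L × (PUnit.{u + 1} → Γ(Spec (CommRingCat.of L), ⊤)) where
  toFun g := (⟨g.1 ≫ (𝔸(PUnit.{u + 1}; X) ↘ X), by rw [Category.assoc]; exact g.2⟩,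
    fun i => g.1.appTop (AffineSpace.coord X i))
  invFun av := ⟨AffineSpace.homOfVector av.1.1 av.2, by
    rw [← Category.assoc, AffineSpace.homOfVector_over]
    exact av.1.2⟩
  left_inv g := by
    apply Subtype.ext
    apply AffineSpace.hom_ext
    · rw [AffineSpace.homOfVector_over]
    · intro i
      rw [AffineSpace.homOfVector_appTop_coord]
  right_inv av := by
    refine Prod.ext (Subtype.ext ?_) ?_
    · exact AffineSpace.homOfVector_over _ _
    · funext i
      exact AffineSpace.homOfVector_appTop_coord _ _ i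

theorem pointCount_line [Finite L] :
    SgaExt.pointCount ((𝔸(PUnit.{u + 1}; X) ↘ X) ≫ f) L = Nat.card L * SgaExt.pointCount f L := by
  have h1 : SgaExt.pointCount ((𝔸(PUnit.{u + 1}; X) ↘ X) ≫ f) L =
      Nat.card (Pts ((𝔸(PUnit.{u + 1}; X) ↘ X) ≫ f) L) := rfl
  have h2 : SgaExt.pointCount f L = Nat.card (Pts f L) := rfl
  rw [h1, h2, Nat.card_congr (ptsLineEquiv f L), Nat.card_prod, mul_comm]
  congr 1
  have e : (PUnit.{u + 1} → Γ(Spec (CommRingCat.of L), ⊤)) ≃ L :=
    (Equiv.funUnique PUnit.{u + 1} _).trans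
      (Scheme.ΓSpecIso (CommRingCat.of L)).commRingCatIsoToRingEquiv.toEquiv
  exact Nat.card_congr e

end line

section zeta

variable {k₀ : Type u} [Field k₀] [Finite k₀] {X : Scheme.{u}} (f : X ⟶ Spec (CommRingCat.of k₀))
  [LocallyOfFiniteType f] [QuasiCompact f]

theorem nPts_line (m : ℕ) :
    Zeta.nPts ((𝔸(PUnit.{u + 1}; X) ↘ X) ≫ f) m = Nat.card k₀ ^ m * Zeta.nPts f m := by
  rcases Nat.eq_zero_or_pos m with h0 | hm
  · subst h0
    simp [Zeta.nPts]
  · obtain ⟨k', _, _, _, hk'⟩ := exists_finite_ext k₀ m hm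
    haveI := Fintype.ofFinite k₀
    haveI := Fintype.ofFinite k'
    have hc : Nat.card k' = Nat.card k₀ ^ m := by
      rw [Nat.card_eq_fintype_card, Nat.card_eq_fintype_card, ← hk']
      exact Module.card_eq_pow_finrank
    rw [← hk', ← Groth.Agent.Lib.helper27.Pts4.pointCount_eq_nPts,
      ← Groth.Agent.Lib.helper27.Pts4.pointCount_eq_nPts, pointCount_line, hc, hk']

theorem zetaFun_line :
    Zeta.zetaFun ((𝔸(PUnit.{u + 1}; X) ↘ X) ≫ f) =
      PowerSeries.rescale (Nat.card k₀ : ℚ) (Zeta.zetaFun f) :=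
  zetaFun_eq_rescale f _ (Nat.card k₀) (nPts_line f)

end zeta

end Groth.Agent.Lib.helper27.ZetaAdd3
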