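import Mathlib
import Groth.Agent.S13056
import Groth.Agent.Lib.Helper11.ExpLog

/-!
# Helper library (helper27): from the Lefschetz trace formula for the numbers `N_m` to the expression
of the zeta function by reversed characteristic polynomials.
-/

set_option autoImplicit false
set_option linter.style.haveILetI false
set_option linter.unusedSectionVars false
open PowerSeries

namespace Groth.Agent.Lib.helper27.ZetaPS

open Groth.Agent.Lib.helper11

section

variable {K : Type*} [Field K] [CharZero K]

/-- `-Σ_m tr_m t^m / m`. -/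
noncomputable def Lser (tr : ℕ → K) : K⟦X⟧ := PowerSeries.mk fun m => -(tr m) / (m : K)

theorem constantCoeff_Lser (tr : ℕ → K) : constantCoeff (Lser tr) = 0 := by
  rw [← coeff_zero_eq_constantCoeff_apply, Lser, coeff_mk, Nat.cast_zero, div_zero]

theorem charpoly_reverse_eq_E {V : Type*} [AddCommGroup V] [Module K V] [FiniteDimensional K V]
    (φ : V →ₗ[K] V) :
    (((LinearMap.charpoly φ).reverse : Polynomial K) : K⟦X⟧) =
      E (Lser fun m => LinearMap.trace K V (φ ^ m)) := by
  classical
  let b := Module.finBasis K V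
  have h1 : (LinearMap.charpoly φ).reverse = (LinearMap.toMatrix b b φ).charpolyRev := by
    rw [← LinearMap.charpoly_toMatrix φ b, Matrix.reverse_charpoly]
  rw [h1, Groth.Agent.S13056.result]
  unfold E Lser
  congr 2
  funext m
  change _ = -(LinearMap.trace K V (φ ^ m)) / (m : K)
  rw [LinearMap.trace_eq_matrix_trace K b, LinearMap.toMatrix_pow]

theorem sum_alt_split (n : ℕ) (g : ℕ → K) :
    ∑ i ∈ Finset.range (2 * n + 1), (-1 : K) ^ i * g i =
      ∑ m ∈ Finset.range (n + 1), g (2 * m) - ∑ m ∈ Finset.range n, g (2 * m + 1) := by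
  induction n with
  | zero => simp
  | succ n ih =>
    rw [show 2 * (n + 1) + 1 = (2 * n + 1) + 1 + 1 by ring, Finset.sum_range_succ,
      Finset.sum_range_succ, ih, Finset.sum_range_succ (fun m => g (2 * m)) (n + 1),
      Finset.sum_range_succ (fun m => g (2 * m + 1)) n]
    have h1 : (-1 : K) ^ (2 * n + 1) = -1 := by
      rw [pow_succ, pow_mul]
      simp
    have h2 : (-1 : K) ^ (2 * n + 1 + 1) = 1 := by
      rw [pow_succ, h1]
      simp
    rw [h1, h2, show 2 * (n + 1) = 2 * n + 1 + 1 by ring]
    ring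

theorem map_exp_subst (G : ℚ⟦X⟧) (hG : constantCoeff G = 0) :
    PowerSeries.map (algebraMap ℚ K) (PowerSeries.subst G (PowerSeries.exp ℚ)) =
      E (PowerSeries.map (algebraMap ℚ K) G) := by
  have hsub : PowerSeries.HasSubst G := PowerSeries.HasSubst.of_constantCoeff_zero' hG
  have h := PowerSeries.map_subst hsub (h := algebraMap ℚ K) (PowerSeries.exp ℚ)
  rw [PowerSeries.map_exp] at h
  exact h

theorem zeta_formula (n : ℕ) (N : ℕ → ℕ) (tr : ℕ → ℕ → K)
    (hN : ∀ m, 1 ≤ m → (N m : K) = ∑ i ∈ Finset.range (2 * n + 1), (-1 : K) ^ i * tr i m) :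
    PowerSeries.map (algebraMap ℚ K)
        (PowerSeries.subst (PowerSeries.mk fun m => (N m : ℚ) / m) (PowerSeries.exp ℚ)) *
        ∏ i ∈ Finset.range (n + 1), E (Lser (tr (2 * i))) =
      ∏ i ∈ Finset.range n, E (Lser (tr (2 * i + 1))) := by
  have hG : constantCoeff (PowerSeries.mk fun m => (N m : ℚ) / m : ℚ⟦X⟧) = 0 := by
    rw [← coeff_zero_eq_constantCoeff_apply, coeff_mk, Nat.cast_zero, div_zero]
  rw [map_exp_subst _ hG]
  have hG' : constantCoeff (PowerSeries.map (algebraMap ℚ K)
      (PowerSeries.mk fun m => (N m : ℚ) / m : ℚ⟦X⟧)) = 0 := by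
    rw [← coeff_zero_eq_constantCoeff_apply, coeff_map, coeff_zero_eq_constantCoeff_apply, hG,
      map_zero]
  rw [← E_sum _ _ (fun i _ => constantCoeff_Lser _), ← E_sum _ _ (fun i _ => constantCoeff_Lser _),
    ← E_add hG' (by
      rw [map_sum]
      exact Finset.sum_eq_zero (fun i _ => constantCoeff_Lser _))]
  congr 1
  ext m
  rw [map_add, map_sum, map_sum, coeff_map, coeff_mk]
  simp only [Lser, coeff_mk]
  rcases Nat.eq_zero_or_pos m with h0 | hpos
  · subst h0
    simp
  · have hm : (m : K) ≠ 0 := Nat.cast_ne_zero.mpr hpos.ne'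
    rw [map_div₀, map_natCast, map_natCast, hN m hpos, sum_alt_split]
    simp only [neg_div, Finset.sum_neg_distrib, ← Finset.sum_div]
    ring

end

end Groth.Agent.Lib.helper27.ZetaPS
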