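import Mathlib
import Groth.Prelude.Def_W4c1zetahwZeta
import Groth.Prelude.Def_SgaExt
import Groth.Agent.Lib.Helper27.ZetaAdd3
import Groth.Agent.Lib.Helper27.ZetaPS

/-!
# Helper library (helper27): the zeta function of a base change to a finite extension of the finite
base field.
-/

set_option autoImplicit false
set_option linter.style.haveILetI false
set_option linter.unusedSectionVars false
universe u
open AlgebraicGeometry CategoryTheory CategoryTheory.Limits Opposite TopologicalSpace

namespace Groth.Agent.Lib.helper27.ZetaAdd4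

open Groth.Agent.Lib.helper27.ZetaAdd1 Groth.Agent.Lib.helper27.ZetaAdd2 Groth.Agent.Lib.helper11
  Groth.Agent.Lib.helper27.Pts1

section ps

variable {K : Type*} [Field K] [CharZero K]

theorem rescale_E' (a : K) (L : PowerSeries K) (hL : PowerSeries.constantCoeff L = 0) :
    PowerSeries.rescale a (E L) = E (PowerSeries.rescale a L) := by
  have hsub : PowerSeries.HasSubst L := PowerSeries.HasSubst.of_constantCoeff_zero' hL
  have hX : PowerSeries.HasSubst (a • PowerSeries.X : PowerSeries K) :=
    PowerSeries.HasSubst.of_constantCoeff_zero' (by simp)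
  unfold E
  rw [PowerSeries.rescale_eq_subst, PowerSeries.subst_comp_subst_apply hsub hX,
    ← PowerSeries.rescale_eq_subst]

theorem subst_X_pow_E (r : ℕ) (hr : r ≠ 0) (L : PowerSeries K)
    (hL : PowerSeries.constantCoeff L = 0) :
    PowerSeries.subst ((PowerSeries.X : PowerSeries K) ^ r) (E L) =
      E (PowerSeries.subst ((PowerSeries.X : PowerSeries K) ^ r) L) := by
  have hsub : PowerSeries.HasSubst L := PowerSeries.HasSubst.of_constantCoeff_zero' hL
  have hX : PowerSeries.HasSubst ((PowerSeries.X : PowerSeries K) ^ r) :=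
    PowerSeries.HasSubst.X_pow hr
  unfold E
  rw [PowerSeries.subst_comp_subst_apply hsub hX]

theorem sum_pow_primitiveRoot (ξ : K) (r : ℕ) (hξ : IsPrimitiveRoot ξ r) (m : ℕ) :
    ∑ i ∈ Finset.range r, (ξ ^ i) ^ m = if r ∣ m then (r : K) else 0 := by
  have h1 : ∀ i, (ξ ^ i) ^ m = (ξ ^ m) ^ i := fun i => by rw [← pow_mul, ← pow_mul, mul_comm]
  rw [Finset.sum_congr rfl (fun i _ => h1 i)]
  split_ifs with h
  · rw [(hξ.pow_eq_one_iff_dvd m).mpr h]
    simp
  · have hne : ξ ^ m ≠ 1 := fun h1 => h ((hξ.pow_eq_one_iff_dvd m).mp h1)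
    have h2 := geom_sum_mul (ξ ^ m) r
    rw [← pow_mul, mul_comm m r, pow_mul, hξ.pow_eq_one, one_pow, sub_self] at h2
    rcases mul_eq_zero.mp h2 with h3 | h3
    · exact h3
    · exact absurd (sub_eq_zero.mp h3) hne

/-- the formal identity behind `Z(X', t^r) = ∏ Z(X, ξ^i t)`. -/
theorem zeta_baseChange_formula (r : ℕ) (hr : r ≠ 0) (ξ : K) (hξ : IsPrimitiveRoot ξ r)
    (N N' : ℕ → ℕ) (hN : ∀ m, N' m = N (r * m)) :
    PowerSeries.subst ((PowerSeries.X : PowerSeries K) ^ r)
        (PowerSeries.map (algebraMap ℚ K)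
          (PowerSeries.subst (PowerSeries.mk fun m => (N' m : ℚ) / m) (PowerSeries.exp ℚ))) =
      ∏ i ∈ Finset.range r, PowerSeries.rescale (ξ ^ i)
        (PowerSeries.map (algebraMap ℚ K)
          (PowerSeries.subst (PowerSeries.mk fun m => (N m : ℚ) / m) (PowerSeries.exp ℚ))) := by
  have hG : ∀ M : ℕ → ℕ,
      PowerSeries.constantCoeff (PowerSeries.mk fun m => (M m : ℚ) / m : PowerSeries ℚ) = 0 := by
    intro M
    rw [← PowerSeries.coeff_zero_eq_constantCoeff_apply, PowerSeries.coeff_mk, Nat.cast_zero,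
      div_zero]
  have hG' : ∀ M : ℕ → ℕ, PowerSeries.constantCoeff (PowerSeries.map (algebraMap ℚ K)
      (PowerSeries.mk fun m => (M m : ℚ) / m : PowerSeries ℚ)) = 0 := by
    intro M
    rw [← PowerSeries.coeff_zero_eq_constantCoeff_apply, PowerSeries.coeff_map,
      PowerSeries.coeff_zero_eq_constantCoeff_apply, hG M, map_zero]
  rw [ZetaPS.map_exp_subst _ (hG N'), ZetaPS.map_exp_subst _ (hG N),
    subst_X_pow_E r hr _ (hG' N'),
    Finset.prod_congr rfl (fun i _ => rescale_E' (ξ ^ i) _ (hG' N)),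
    ← E_sum _ _ (fun i _ => by
      rw [← PowerSeries.coeff_zero_eq_constantCoeff_apply, PowerSeries.coeff_rescale, pow_zero,
        one_mul, PowerSeries.coeff_zero_eq_constantCoeff_apply, hG' N])]
  congr 1
  ext n
  rw [PowerSeries.coeff_subst_X_pow hr, map_sum]
  simp only [PowerSeries.coeff_rescale, PowerSeries.coeff_map, PowerSeries.coeff_mk,
    Algebra.algebraMap_self, RingHom.id_apply]
  rw [← Finset.sum_mul, sum_pow_primitiveRoot ξ r hξ n]
  split_ifs with h
  · obtain ⟨m, rfl⟩ := h
    rw [Nat.mul_div_cancel_left m (Nat.pos_of_ne_zero hr), hN m]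
    simp only [map_div₀, map_natCast]
    have hr' : (r : K) ≠ 0 := Nat.cast_ne_zero.mpr hr
    rcases Nat.eq_zero_or_pos m with h0 | hm
    · subst h0
      simp
    · have hm' : (m : K) ≠ 0 := Nat.cast_ne_zero.mpr hm.ne'
      push_cast
      field_simp
  · simp

end ps

section pts

variable {k₀ : Type u} [Field k₀] {X : Scheme.{u}} (f : X ⟶ Spec (CommRingCat.of k₀))
  (k' : Type u) [Field k'] [Algebra k₀ k'] (L : Type u) [Field L] [Algebra k₀ L] [Algebra k' L]
  [IsScalarTower k₀ k' L]

/-- points of the base change with values in an extension of `k'` are points of `X`. -/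
noncomputable def ptsBaseChangeEquiv :
    Pts (pullback.snd f (Spec.map (CommRingCat.ofHom (algebraMap k₀ k')))) L ≃ Pts f L where
  toFun g := ⟨g.1 ≫ pullback.fst f _, by
    rw [Category.assoc, pullback.condition, ← Category.assoc, g.2, ← Spec.map_comp,
      ← CommRingCat.ofHom_comp, ← IsScalarTower.algebraMap_eq]⟩
  invFun a := ⟨pullback.lift a.1 (Spec.map (CommRingCat.ofHom (algebraMap k' L))) (by
      rw [a.2, ← Spec.map_comp, ← CommRingCat.ofHom_comp, ← IsScalarTower.algebraMap_eq]),
    pullback.lift_snd _ _ _⟩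
  left_inv g := by
    apply Subtype.ext
    apply pullback.hom_ext
    · rw [pullback.lift_fst]
    · rw [pullback.lift_snd, g.2]
  right_inv a := by
    apply Subtype.ext
    exact pullback.lift_fst _ _ _

theorem pointCount_baseChange :
    SgaExt.pointCount (pullback.snd f (Spec.map (CommRingCat.ofHom (algebraMap k₀ k')))) L =
      SgaExt.pointCount f L :=
  Nat.card_congr (ptsBaseChangeEquiv f k' L)

end pts

section zeta

variable {k₀ : Type u} [Field k₀] [Finite k₀] {X : Scheme.{u}} (f : X ⟶ Spec (CommRingCat.of k₀))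
  [LocallyOfFiniteType f] [QuasiCompact f] (k' : Type u) [Field k'] [Algebra k₀ k'] [Finite k']

theorem nPts_baseChange (m : ℕ) :
    Zeta.nPts (pullback.snd f (Spec.map (CommRingCat.ofHom (algebraMap k₀ k')))) m =
      Zeta.nPts f (Module.finrank k₀ k' * m) := by
  rcases Nat.eq_zero_or_pos m with h0 | hm
  · subst h0
    simp [Zeta.nPts]
  · obtain ⟨L, _, _, _, hL⟩ := exists_finite_ext k' m hm
    letI : Algebra k₀ L := ((algebraMap k' L).comp (algebraMap k₀ k')).toAlgebra
    haveI : IsScalarTower k₀ k' L := IsScalarTower.of_algebraMap_eq (fun x => rfl)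
    have hdeg : Module.finrank k₀ L = Module.finrank k₀ k' * m := by
      rw [← hL]
      exact (Module.finrank_mul_finrank k₀ k' L).symm
    rw [← hL, ← Groth.Agent.Lib.helper27.Pts4.pointCount_eq_nPts, pointCount_baseChange, hL,
      ← hdeg, ← Groth.Agent.Lib.helper27.Pts4.pointCount_eq_nPts]

theorem zetaFun_baseChange (ξ : ℂ) (hξ : IsPrimitiveRoot ξ (Module.finrank k₀ k')) :
    PowerSeries.subst ((PowerSeries.X : PowerSeries ℂ) ^ Module.finrank k₀ k')
        (PowerSeries.map (algebraMap ℚ ℂ) (Zeta.zetaFun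
          (pullback.snd f (Spec.map (CommRingCat.ofHom (algebraMap k₀ k')))))) =
      ∏ i ∈ Finset.range (Module.finrank k₀ k'),
        PowerSeries.rescale (ξ ^ i) (PowerSeries.map (algebraMap ℚ ℂ) (Zeta.zetaFun f)) :=
  zeta_baseChange_formula (Module.finrank k₀ k') (Module.finrank_pos).ne' ξ hξ
    (Zeta.nPts f) (Zeta.nPts (pullback.snd f (Spec.map (CommRingCat.ofHom (algebraMap k₀ k')))))
    (nPts_baseChange f k')

end zeta

end Groth.Agent.Lib.helper27.ZetaAdd4
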