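import Mathlib
import Groth.Prelude.Def_W4c1zetahwZeta
import Groth.Agent.S13051
import Groth.Agent.Lib.Helper27.ZetaAdd1
import Groth.Agent.Lib.Helper27.ZetaDir3

/-!
# Helper library (helper27): the number of effective 0-cycles of norm `q^d` on a scheme of finite
type over `F_q` is the `d`-th coefficient of `Z(X, t)`.
-/

set_option autoImplicit false
set_option linter.style.haveILetI false
set_option linter.unusedSectionVars false
universe u
open AlgebraicGeometry CategoryTheory Opposite TopologicalSpace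

namespace Groth.Agent.Lib.helper27.ZetaDir4

open Groth.Agent.Lib.helper27 Groth.Agent.Lib.helper27.Frob1 Groth.Agent.Lib.helper27.Pts1
  Groth.Agent.Lib.helper27.Pts3 Groth.Agent.Lib.helper27.ZetaDir3

variable {k : Type u} [Field k] [Finite k] {Y : Scheme.{u}} (f : Y ⟶ Spec (CommRingCat.of k))
  [LocallyOfFiniteType f]

theorem finite_of_isClosed (x : Y) (hx : IsClosed ({x} : Set Y)) : (cmap f x).hom.Finite := by
  have : IsFinite (Y.fromSpecResidueField x ≫ f) := by
    rw [isClosed_singleton_iff_isClosedImmersion] at hx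
    rw [isFinite_iff_locallyOfFiniteType_of_jacobsonSpace]
    infer_instance
  rw [← Spec_map_cmap] at this
  exact (IsFinite.SpecMap_iff _).mp this

theorem card_residueField (x : Y) (hx : IsClosed ({x} : Set Y)) :
    Nat.card (Y.residueField x) = Nat.card k ^ EGA4loc.residueDegree f x ∧
      1 ≤ EGA4loc.residueDegree f x := by
  letI := (cmap f x).hom.toAlgebra
  haveI : Module.Finite k (Y.residueField x) := finite_of_isClosed f x hx
  rw [residueDegree_eq]
  constructor
  · exact Module.natCard_eq_pow_finrank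
  · exact Module.finrank_pos

theorem norm_eq (α : Y →₀ ℕ) (h : ∀ x ∈ α.support, IsClosed ({x} : Set Y)) :
    α.prod (fun x m => Nat.card (Y.residueField x) ^ m) =
      Nat.card k ^ (α.sum fun x m => m * EGA4loc.residueDegree f x) := by
  rw [Finsupp.prod, Finsupp.sum, ← Finset.prod_pow_eq_pow_sum]
  refine Finset.prod_congr rfl fun x hx => ?_
  rw [(card_residueField f x (h x hx)).1, ← pow_mul, mul_comm]

theorem two_le_card : 2 ≤ Nat.card k := by
  haveI := Fintype.ofFinite k
  rw [Nat.card_eq_fintype_card]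
  exact Fintype.one_lt_card

theorem cycleNormCount_pow (d : ℕ) :
    Zeta.cycleNormCount Y (Nat.card k ^ d) =
      Nat.card {α : Y →₀ ℕ // (∀ x ∈ α.support, x ∈ {x : Y | IsClosed ({x} : Set Y)}) ∧
        (α.sum fun x m => m * EGA4loc.residueDegree f x) = d} := by
  refine Nat.card_congr (Equiv.subtypeEquivRight fun α => ?_)
  constructor
  · rintro ⟨h1, h2⟩
    refine ⟨h1, ?_⟩
    rw [norm_eq f α h1] at h2
    exact Nat.pow_right_injective (two_le_card (k := k)) h2
  · rintro ⟨h1, h2⟩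
    refine ⟨h1, ?_⟩
    rw [norm_eq f α h1, h2]

include f in
theorem cycleNormCount_eq_zero (n : ℕ) (hn : ∀ d, n ≠ Nat.card k ^ d) :
    Zeta.cycleNormCount Y n = 0 := by
  haveI : IsEmpty { α : Y →₀ ℕ // (∀ x ∈ α.support, IsClosed ({x} : Set Y)) ∧
      α.prod (fun x m => Nat.card (Y.residueField x) ^ m) = n } := by
    refine ⟨fun α => ?_⟩
    obtain ⟨α, h1, h2⟩ := α
    rw [norm_eq f α h1] at h2
    exact hn _ h2.symm
  exact Nat.card_of_isEmpty

variable [QuasiCompact f]

theorem finite_closed_le (d : ℕ) :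
    {x : Y | IsClosed ({x} : Set Y) ∧ EGA4loc.residueDegree f x ≤ d}.Finite := by
  have hfin : (⋃ e ∈ Finset.Icc 1 d, {x : Y | EGA4loc.residueDegree f x = e}).Finite := by
    refine Set.Finite.biUnion (Finset.finite_toSet _) fun e he => ?_
    exact ZetaAdd1.finite_deg f e (Finset.mem_Icc.mp he).1
  refine hfin.subset ?_
  rintro x ⟨hx, hd⟩
  have h1 := (card_residueField f x hx).2
  simp only [Set.mem_iUnion, Set.mem_ofPred_eq, exists_prop]
  exact ⟨_, Finset.mem_Icc.mpr ⟨h1, hd⟩, rfl⟩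

open PowerSeries in
theorem coeff_zetaFun (d : ℕ) :
    coeff d (Zeta.zetaFun f) = (Zeta.cycleNormCount Y (Nat.card k ^ d) : ℚ) := by
  classical
  let w : Y → ℕ := fun x => EGA4loc.residueDegree f x
  let s : Finset Y := (finite_closed_le f d).toFinset
  have hs : ∀ x, x ∈ s ↔ x ∈ {x : Y | IsClosed ({x} : Set Y)} ∧ w x ≤ d := by
    intro x
    rw [Set.Finite.mem_toFinset]
    rfl
  have hw : ∀ x ∈ {x : Y | IsClosed ({x} : Set Y)}, 1 ≤ w x := fun x hx =>
    (card_residueField f x hx).2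
  rw [cycleNormCount_pow f d, card_weighted w _ hw d s hs]
  -- the two products
  have hQ : ∏ r ∈ Finset.Icc 1 d, ((1 : ℚ⟦X⟧) - X ^ r) ^ Zeta.degCount f r =
      ∏ x ∈ s, ((1 : ℚ⟦X⟧) - X ^ w x) := by
    have hmaps : ∀ x ∈ s, w x ∈ Finset.Icc 1 d := fun x hx =>
      Finset.mem_Icc.mpr ⟨hw x ((hs x).mp hx).1, ((hs x).mp hx).2⟩
    rw [← Finset.prod_fiberwise_of_maps_to hmaps]
    refine Finset.prod_congr rfl fun r hr => ?_
    have h1 : ∀ x ∈ s.filter (fun x => w x = r), ((1 : ℚ⟦X⟧) - X ^ w x) = 1 - X ^ r := by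
      intro x hx
      rw [(Finset.mem_filter.mp hx).2]
    rw [Finset.prod_congr rfl h1, Finset.prod_const]
    congr 1
    unfold Zeta.degCount
    have e : {x : Y // IsClosed ({x} : Set Y) ∧ EGA4loc.residueDegree f x = r} ≃
        {x // x ∈ s.filter (fun x => w x = r)} :=
      Equiv.subtypeEquivRight fun x => by
        rw [Finset.mem_filter, hs]
        constructor
        · rintro ⟨h1, h2⟩
          exact ⟨⟨h1, by rw [show w x = r from h2]; exact (Finset.mem_Icc.mp hr).2⟩, h2⟩
        · rintro ⟨⟨h1, _⟩, h2⟩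
          exact ⟨h1, h2⟩
    rw [Nat.card_congr e, Nat.card_eq_fintype_card, Fintype.card_coe]
  have hGQ : (∏ x ∈ s, geom (w x)) * ∏ x ∈ s, ((1 : ℚ⟦X⟧) - X ^ w x) = 1 := by
    rw [← Finset.prod_mul_distrib]
    refine Finset.prod_eq_one fun x hx => ?_
    exact geom_mul (w x) (hw x ((hs x).mp hx).1)
  have htr := (Groth.Agent.S13051.result f).1 d
  rw [hQ] at htr
  have hlow : ∀ i, i ≤ d → coeff i (Zeta.zetaFun f * ∏ x ∈ s, ((1 : ℚ⟦X⟧) - X ^ w x)) =
      if i = 0 then 1 else 0 := by
    intro i hi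
    have := congrArg (fun p : Polynomial ℚ => p.coeff i) htr
    simp only [coeff_trunc, Polynomial.coeff_one] at this
    rw [if_pos (by omega)] at this
    rw [this]
  have hZ : Zeta.zetaFun f = (Zeta.zetaFun f * ∏ x ∈ s, ((1 : ℚ⟦X⟧) - X ^ w x)) *
      ∏ x ∈ s, geom (w x) := by
    rw [mul_assoc, mul_comm (∏ x ∈ s, ((1 : ℚ⟦X⟧) - X ^ w x)), hGQ, mul_one]
  conv_lhs => rw [hZ]
  rw [coeff_mul]
  rw [Finset.sum_eq_single (0, d)]
  · rw [hlow 0 (Nat.zero_le d), if_pos rfl, one_mul]
  · intro p hp hne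
    have hp' : p.1 + p.2 = d := Finset.HasAntidiagonal.mem_antidiagonal.mp hp
    have h1 : p.1 ≠ 0 := by
      intro h0
      apply hne
      ext
      · exact h0
      · simp only
        omega
    rw [hlow p.1 (by omega), if_neg h1, zero_mul]
  · intro h
    exact absurd (Finset.HasAntidiagonal.mem_antidiagonal.mpr (by simp)) h

end Groth.Agent.Lib.helper27.ZetaDir4
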