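import Mathlib
import Groth.Prelude.Def_W4c1zetahwZeta
import Groth.Agent.Lib.Helper27.ZetaDir2
import Groth.Agent.Lib.Helper27.ZetaDir4
import Groth.Agent.Lib.Helper27.ZetaAdd2
import Groth.Agent.Lib.Helper27.PtsBound2
import Groth.Agent.Lib.Helper27.Pts4

/-!
# Helper library (helper27): the Dirichlet series of a scheme of finite type over a finite field
converges absolutely and does not vanish for `Re s > dim`.
-/

set_option autoImplicit false
set_option linter.style.haveILetI false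
set_option linter.unusedSectionVars false
universe u
open AlgebraicGeometry CategoryTheory Opposite TopologicalSpace

namespace Groth.Agent.Lib.helper27.ZetaDir5

open Groth.Agent.Lib.helper27 Groth.Agent.Lib.helper11 PowerSeries

variable {k : Type u} [Field k] [Finite k] {Y : Scheme.{u}} (f : Y ⟶ Spec (CommRingCat.of k))
  [LocallyOfFiniteType f] [QuasiCompact f]

include f in
theorem main (r : ℕ) (hr : topologicalKrullDim Y ≤ r) :
    LSeries.abscissaOfAbsConv (Zeta.arithCoeff Y) ≤ (r : ℝ) ∧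
      ∀ s : ℂ, (r : ℝ) < s.re → LSeries (Zeta.arithCoeff Y) s ≠ 0 := by
  have hq : 2 ≤ Nat.card k := ZetaDir4.two_le_card
  obtain ⟨c, hc⟩ := PtsBound2.exists_bound f r hr
  have hN : ∀ m, 1 ≤ m → Zeta.nPts f m ≤ c * Nat.card k ^ (r * m) := by
    intro m hm
    obtain ⟨k', _, _, _, hk'⟩ := ZetaAdd1.exists_finite_ext k m hm
    have := hc k'
    rwa [Pts4.pointCount_eq_nPts, hk'] at this
  have hg0 : constantCoeff (Zeta.logZeta f) = 0 := ZetaAdd2.constantCoeff_logZeta f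
  have hg0' : constantCoeff (-Zeta.logZeta f) = 0 := by rw [map_neg, hg0, neg_zero]
  have hZW : Zeta.zetaFun f * E (-Zeta.logZeta f) = 1 := by
    rw [ZetaAdd2.zetaFun_eq_E, mul_comm]
    exact E_neg_mul hg0
  have hQ : (0 : ℚ) ≤ (Nat.card k : ℚ) ^ r := by positivity
  have hbound : ∀ m : ℕ, 1 ≤ m →
      |coeff m (Zeta.logZeta f) * m| ≤ c * ((Nat.card k : ℚ) ^ r) ^ m := by
    intro m hm
    have hm0 : (m : ℚ) ≠ 0 := by
      have : m ≠ 0 := by omega
      exact_mod_cast this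
    rw [Zeta.logZeta, coeff_mk, div_mul_cancel₀ _ hm0, abs_of_nonneg (by positivity), ← pow_mul]
    exact_mod_cast hN m hm
  have hbound' : ∀ m : ℕ, 1 ≤ m →
      |coeff m (-Zeta.logZeta f) * m| ≤ c * ((Nat.card k : ℚ) ^ r) ^ m := by
    intro m hm
    rw [map_neg, neg_mul, abs_neg]
    exact hbound m hm
  have hZb := ZetaDir1.abs_coeff_E_le_pow hg0 c _ hQ hbound
  have hWb := ZetaDir1.abs_coeff_E_le_pow hg0' c _ hQ hbound'
  rw [← ZetaAdd2.zetaFun_eq_E] at hZb
  let A : ℕ → ℂ := fun d => ((coeff d (Zeta.zetaFun f) : ℚ) : ℂ)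
  let B : ℕ → ℂ := fun d => ((coeff d (E (-Zeta.logZeta f)) : ℚ) : ℂ)
  have hA : ∀ d, ‖A d‖ ≤ ((d : ℝ) + 1) ^ c * ((Nat.card k : ℝ) ^ r) ^ d := by
    intro d
    change ‖((coeff d (Zeta.zetaFun f) : ℚ) : ℂ)‖ ≤ _
    rw [Complex.norm_ratCast]
    have := hZb d
    exact_mod_cast this
  have hB : ∀ d, ‖B d‖ ≤ ((d : ℝ) + 1) ^ c * ((Nat.card k : ℝ) ^ r) ^ d := by
    intro d
    change ‖((coeff d (E (-Zeta.logZeta f)) : ℚ) : ℂ)‖ ≤ _
    rw [Complex.norm_ratCast]
    have := hWb d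
    exact_mod_cast this
  have hAB : ∀ n, ∑ p ∈ Finset.HasAntidiagonal.antidiagonal n, A p.1 * B p.2 =
      if n = 0 then 1 else 0 := by
    intro n
    have := congrArg (fun x : ℚ => (x : ℂ)) (congrArg (coeff n) hZW)
    simp only [coeff_mul, coeff_one] at this
    push_cast at this
    rw [this]
    split_ifs <;> simp
  have ha : ∀ d, Zeta.arithCoeff Y (Nat.card k ^ d) = A d := by
    intro d
    change ((Zeta.cycleNormCount Y (Nat.card k ^ d) : ℕ) : ℂ) = ((coeff d (Zeta.zetaFun f) : ℚ) : ℂ)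
    rw [ZetaDir4.coeff_zetaFun f d, Rat.cast_natCast]
  have ha0 : ∀ n, (∀ d, n ≠ Nat.card k ^ d) → Zeta.arithCoeff Y n = 0 := by
    intro n hn
    change ((Zeta.cycleNormCount Y n : ℕ) : ℂ) = 0
    rw [ZetaDir4.cycleNormCount_eq_zero f n hn, Nat.cast_zero]
  have hQ' : (0 : ℝ) ≤ (Nat.card k : ℝ) ^ r := by positivity
  have hsum : ∀ s : ℂ, (r : ℝ) < s.re → LSeriesSummable (Zeta.arithCoeff Y) s := by
    intro s hs
    rw [ZetaDir2.lseriesSummable_iff _ _ hq A ha ha0 s]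
    exact (ZetaDir2.summable_norm_of_bound A c _ hQ' hA _
      (ZetaDir2.norm_inv_cpow_lt _ hq s r hs)).of_norm
  constructor
  · refine LSeries.abscissaOfAbsConv_le_of_forall_lt_LSeriesSummable fun y hy => ?_
    exact hsum (y : ℂ) (by rwa [Complex.ofReal_re])
  · intro s hs
    rw [ZetaDir2.lseries_eq _ _ hq A ha ha0 s]
    exact ZetaDir2.tsum_ne_zero A B hAB c _ hQ' hA hB _ (ZetaDir2.norm_inv_cpow_lt _ hq s r hs)

end Groth.Agent.Lib.helper27.ZetaDir5
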